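import Cfsg.Statements.S3345
import Cfsg.Agent.H4.D4G
import Cfsg.Agent.H4.GW6
import Cfsg.Agent.H8.LargeX4

set_option autoImplicit false
open Cfsg

namespace Cfsg.Agent.S3345

open Subgroup H4.GF H4.D4 DW H97 H15 H8

theorem cx_fam {G : Type*} [Group G] [Finite G] {Q : Subgroup G} {z : G} (L : LX Q z)
    (big : 128 ≤ Nat.card Q)
    (hO : Q = (pCore 2 (centralizer ({z} : Set G))).map (centralizer ({z} : Set G)).subtype) :
    Cx (cls z) (fam z Q) := by
  refine ⟨?_, ?_, ?_, fam_conj z Q, ?_, ?_⟩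
  · rintro _ ⟨k, rfl⟩ g
    exact ⟨g * k, by group⟩
  · rintro _ ⟨k, rfl⟩ _ ⟨g, rfl⟩
    exact ⟨g * k⁻¹, by group⟩
  · rintro _ ⟨k, rfl⟩
    rw [fam_eq L.norm]
    exact lx_cjs L k
  · rintro _ ⟨k, rfl⟩ P h1 h2 h3 p hp
    rw [fam_eq L.norm, mem_cjs, hO]
    refine H44.le_pCoreOf (N := cjs k⁻¹ P) (fun x hx => mem_centralizer_singleton_iff.2 ?_)
      (fun g hg => H4.mem_normalizer_of_conj_mem fun x hx => ?_) (h1.map _)
      (mem_cjs.2 (by simpa [mul_assoc] using hp))
    · have := h2 _ (mem_cjs.1 hx)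
      calc _ = k⁻¹ * (k⁻¹⁻¹ * x * k⁻¹ * (k * z * k⁻¹)) * k := by group
        _ = _ := by rw [this]; group
    · have := h3 (k * g * k⁻¹) (by rw [conj_mul, conj_mul, mem_centralizer_singleton_iff.1 hg]) _
        (mem_cjs.1 hx)
      rw [mem_cjs]
      convert this using 1
      group
  · rintro _ ⟨k, rfl⟩
    rwa [fam_eq L.norm, card_cjs]

/-- Let G be a finite group with O^2(G) = G and an involution t with centralizer C such that F*(C) is extraspecial of order 2^9, C/O₂(C) is isomorphic to Sym(3) × Sym(3) × Sym(3), and C_G(O₂(C)) ≤ O₂(C). Then either the image of t is central in G/O_{2'}(G), or G is isomorphic to Ω⁺(8,2), the commutator subgroup of the isometry group of the hyperbolic quadratic form in dimension 8 over the field with 2 elements. -/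
theorem result {G : Type*} [Group G] [Finite G]
    (hG : Cfsg.pResidual 2 G = ⊤) (t : G) (ht : orderOf t = 2)
    (C : Subgroup G) (hC : C = Subgroup.centralizer ({t} : Set G))
    (hF : Cfsg.IsExtraspecial 2 (Cfsg.generalizedFittingSubgroup C))
    (hFcard : Nat.card (Cfsg.generalizedFittingSubgroup C) = 2 ^ 9)
    (e : C ⧸ Cfsg.pCore 2 C ≃* Equiv.Perm (Fin 3) × Equiv.Perm (Fin 3) × Equiv.Perm (Fin 3))
    (hcc : Subgroup.centralizer (((Cfsg.pCore 2 C).map C.subtype : Subgroup G) : Set G) ≤ (Cfsg.pCore 2 C).map C.subtype) :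
    (∀ g : G, g * t * g⁻¹ * t⁻¹ ∈ Cfsg.oddCore G) ∨
      Nonempty (G ≃* Cfsg.Omega (ZMod 2) (Cfsg.quadFormPlus 4 (ZMod 2))) := by
  subst hC
  have e0 := (generalizedFittingSubgroup (centralizer ({t} : Set G))).equivMapOfInjective _
    (subtype_injective _)
  obtain ⟨L, hO⟩ := lx_of_FSof ht rfl (isExtraspecial_congr e0 hF)
  have hc : Nat.card (H44.FSof (centralizer ({t} : Set G))) = 512 := Nat.card_congr e0.toEquiv ▸ hFcard
  generalize H44.FSof (centralizer ({t} : Set G)) = Q at L hO hc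
  have hs : Function.Surjective (e.toMonoidHom.comp (QuotientGroup.mk' _)) :=
    e.surjective.comp (QuotientGroup.mk'_surjective _)
  have hk : ∀ h, (e.toMonoidHom.comp (QuotientGroup.mk' _)) h = 1 ↔ (h : G) ∈ Q := fun h => by
    simp [QuotientGroup.eq_one_iff, hO]
  generalize e.toMonoidHom.comp (QuotientGroup.mk' _) = ψ at hs hk
  have cS : Nat.card (S3 × S3 × S3) = 216 := by simp [Nat.card_perm]; rfl
  have hz := self_mem_cls t
  have hQ := fam_self L.norm
  obtain ⟨V, _, _, _, _, ⟨Y⟩⟩ := exists_QD L ψ hs hk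
  rcases tri L (by omega) with h | ⟨g, h1, h2⟩ | ⟨c, d, hd, n, hcm⟩
  · refine Or.inl fun g => ?_
    rw [sup_comm] at h
    obtain ⟨o, ho, a, ha, rfl⟩ := mem_sup_of_normal_left.1 (h.ge (mem_top g))
    rw [show o * a * t * (o * a)⁻¹ * t⁻¹ = o * (a * t * a⁻¹ * o⁻¹ * t⁻¹) by group,
      mem_centralizer_singleton_iff.1 ha, mul_inv_cancel_right]
    exact mul_mem ho ((inferInstance : (oddCore G).Normal).conj_mem _ (inv_mem ho) t)
  · right
    have c := cx_fam L (by omega) hO
    obtain ⟨Γ, V, _, _, _, _, ⟨X⟩⟩ := exists_br (c.lx t hz)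
    have := X.finite_Γ
    have := X.finite_V
    have hk' : X.ρ.ker = ψ.ker := by
      ext a
      rw [MonoidHom.mem_ker, MonoidHom.mem_ker, hk, ← X.r_eq (cz_of a), X.r_eq_one (cz_of a), hQ]
    let ε := (QuotientGroup.quotientKerEquivOfSurjective _ X.ρ_surj).symm.trans
      ((QuotientGroup.quotientMulEquivOfEq hk').trans (QuotientGroup.quotientKerEquivOfSurjective _ hs))
    obtain ⟨p, T⟩ := exists_TM (X.fu c hz) ε ⟨_, ⟨g, rfl⟩, hQ.symm ▸ h1, h2, rfl⟩
      (by have := X.card; rw [hQ] at this; omega)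
    refine TG.iso ⟨c, hz, T⟩ ?_ hG
    have := Y.card_map ⊤
    rw [top_inf_eq, inf_eq_right.2 fun a ha => mem_centralizer_singleton_iff.2 (L.cen a ha), top_subgroupOf,
      map_top_of_surjective _ hs, card_top, cS, hc] at this
    omega
  exfalso
  have k := Y.card_map (fam t Q d)
  have k1 := card_subgroup_dvd_card (((fam t Q d).subgroupOf (centralizer {t})).map ψ)
  have k2 : Nat.card (fam t Q d) = 512 := by rw [c.card_Q hz hd, hQ, hc]
  have k3 := card_dvd_of_le (inf_le_left : CA (fam t Q d) t ≤ _)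
  rw [cS] at k1
  rw [k2] at k3
  have k4 : _ ≤ 8 := Nat.le_of_dvd (by norm_num) (Nat.dvd_gcd k1 ((Dvd.intro_left _ k.symm).trans k3))
  rcases c.cases hz hd (c.big t hz) n hcm with t4 | t1
  · obtain ⟨e1, h1, e2, h2, n1, n2, n12⟩ := t4.symm.two
    have p := t4.p.symm
    have E : ∀ a ∈ fam t Q d ⊓ fam t Q t, a = 1 ∨ a = e1 ∨ a = e2 ∨ a = e2 * e1 := fun a ha => by
      by_contra hno
      simp only [not_or] at hno
      exact hno.2.2.2 (c.p2c hz p t4.td h1 h2 ha n1 n2 hno.1 n12 hno.2.1 hno.2.2.1)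
    have c1 := card_cent2 p.lz h1.1 h2.1 n1 (fun f => p.nz (f ▸ h1.2)) n2 fun f => p.nz (f ▸ h2.2)
    have c2 : CA (fam t Q d) e1 ⊓ CA (fam t Q d) e2 ≤ CA (fam t Q d) t := fun q hq =>
      c.cen_of_sg hd hz t4.symm hq.1.1 fun a ha => by
        have f1 := (mem_CA.1 hq.1).2
        have f2 := (mem_CA.1 hq.2).2
        rw [sg_eq_zero]
        rcases E a ha with rfl | rfl | rfl | rfl
        · simp
        · exact f1.symm
        · exact f2.symm
        · rw [mul_assoc, ← f1, ← mul_assoc, ← f2, mul_assoc]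
    have c3 := card_le_of_le c2
    have c4 : Nat.card (fam t Q d ⊓ centralizer {t} ⊓ Q : Subgroup G) ≤ 4 :=
      (Set.ncard_le_ncard (t := {1, e1, e2, e2 * e1}) fun a ha => E a ⟨ha.1.1, hQ.symm ▸ ha.2⟩).trans
        ((Set.ncard_insert_le _ _).trans (Nat.succ_le_succ ((Set.ncard_insert_le _ _).trans
          (Nat.succ_le_succ ((Set.ncard_insert_le _ _).trans (by simp))))))
    have := k.trans_le (Nat.mul_le_mul c4 k4)
    change Nat.card (CA (fam t Q d) t) ≤ _ at this
    omega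
  · have := t1.symm.cardA
    have f : fam t Q d ⊓ centralizer {t} ⊓ Q = ⊥ :=
      (eq_bot_iff_forall _).2 fun a ha => t1.one a (hQ.symm ▸ ha.2) ha.1.1
    rw [f, card_bot, one_mul] at k
    rw [k2, k] at this
    nlinarith

end Cfsg.Agent.S3345
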