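import Cfsg.Statements.S4397
import Cfsg.Agent.H81.Meta
import Cfsg.Agent.H73.PByCyc
import Cfsg.Agent.H73.DerLen
import Cfsg.Agent.H49.Prod
import Cfsg.Agent.H3.PGroup
import Cfsg.Agent.H2.Basic

set_option autoImplicit false
open Cfsg

namespace Cfsg.Agent.S4397

open Subgroup
open scoped commutatorElement

def R (G : Type*) [Group G] : Prop :=
  ∀ K M : Subgroup G, K ≤ M → (∀ a ∈ M, a * a ∈ K) → K.relIndex M ≤ 4

def D {G : Type*} [Group G] (a b : G) : Prop := closure ({a, b} : Set G) = ⊤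

section
variable {G : Type*} [Group G]

theorem R.of_surj {G' : Type*} [Group G'] (h : R G) (f : G →* G') (hf : Function.Surjective f) :
    R G' := by
  intro K M hKM hsq
  have := h (K.comap f) (M.comap f) (comap_mono hKM) fun a ha => by
    rw [mem_comap, map_mul]; exact hsq _ ha
  rwa [relIndex_comap, map_comap_eq_self_of_surjective hf] at this

theorem R_of_sec (hr : Cfsg.SectionalPRankLE 2 2 G) : R G := by
  intro K M hKM hsq
  haveI : (K.subgroupOf M).Normal := ⟨fun n hn g => by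
    rw [mem_subgroupOf] at hn ⊢
    have : ((g * n * g⁻¹ : M) : G) = ((g : G) * n) * (g * n) * (n : G)⁻¹ * ((g : G)⁻¹ * (g : G)⁻¹) := by
      push_cast; group
    rw [this]
    exact mul_mem (mul_mem (hsq _ (mul_mem g.2 n.2)) (inv_mem hn)) (hsq _ (inv_mem g.2))⟩
  have he : ∀ x : M ⧸ K.subgroupOf M, x * x = 1 := by
    intro x
    obtain ⟨y, rfl⟩ := QuotientGroup.mk_surjective x
    rw [← QuotientGroup.mk_mul, QuotientGroup.eq_one_iff]
    exact hsq _ y.2
  have := hr M (K.subgroupOf M) ⊤ ⟨⟨fun a b => Subtype.ext (by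
    have h1 := he (a.1 * b.1)
    change a.1 * b.1 = b.1 * a.1
    calc a.1 * b.1 = a.1 * (a.1 * b.1 * (a.1 * b.1)) * b.1 := by rw [h1, mul_one]
      _ = (a.1 * a.1) * b.1 * a.1 * (b.1 * b.1) := by group
      _ = _ := by rw [he, he]; group)⟩⟩ (fun a _ => by rw [_root_.sq, he])
  rwa [card_top] at this

theorem two_le_of_lt [Finite G] {A B : Subgroup G} (h : A < B) : 2 ≤ A.relIndex B := by
  have h0 := H49.relIndex_pos A B
  have h1 : A.relIndex B ≠ 1 := fun e => h.not_ge (relIndex_eq_one.1 e)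
  omega

theorem chain [Finite G] {A B C E : Subgroup G} (h1 : A < B) (h2 : B < C) (h3 : C < E) :
    8 ≤ A.relIndex E := by
  rw [← relIndex_mul_relIndex A B E h1.le (h2.le.trans h3.le),
    ← relIndex_mul_relIndex B C E h2.le h3.le]
  have := two_le_of_lt h1
  have := two_le_of_lt h2
  have := two_le_of_lt h3
  calc 8 = 2 * (2 * 2) := rfl
    _ ≤ _ := by gcongr

theorem lt_sup_zp {A : Subgroup G} {a : G} (h : a ∉ A) : A < A ⊔ zpowers a :=
  lt_of_le_of_ne le_sup_left fun e => h (e ▸ (le_sup_right : zpowers a ≤ _) (mem_zpowers a))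

theorem D_iff {a b : G} : D a b ↔ zpowers a ⊔ zpowers b = ⊤ := by
  rw [D, zpowers_eq_closure, zpowers_eq_closure, ← Subgroup.closure_union]; rfl

theorem D.symm {a b : G} (h : D a b) : D b a := by
  rw [D_iff, sup_comm]; exact D_iff.1 h

theorem D.of_mem {a b x : G} (h : D a b) (hx : a ∈ closure ({x, b} : Set G)) : D x b := by
  rw [D, eq_top_iff, ← h, closure_le]
  rintro y (rfl | rfl)
  exacts [hx, subset_closure (by simp)]

theorem exists_D [Finite G] (hG : IsPGroup 2 G) (h : R G) : ∃ a b : G, D a b := by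
  have h4 := h (frattini G) ⊤ le_top fun a _ => by
    rw [← _root_.sq]; exact H3.pow_mem_frattini hG a
  by_cases h0 : frattini G = ⊤
  · exact ⟨1, 1, D_iff.2 (frattini_nongenerating (by rw [h0, sup_top_eq]))⟩
  obtain ⟨a, -, ha⟩ := SetLike.exists_of_lt (lt_top_iff_ne_top.2 h0)
  by_cases h1 : frattini G ⊔ zpowers a = ⊤
  · exact ⟨a, a, D_iff.2 (frattini_nongenerating (by rw [sup_idem, sup_comm, h1]))⟩
  obtain ⟨b, -, hb⟩ := SetLike.exists_of_lt (lt_top_iff_ne_top.2 h1)
  refine ⟨a, b, D_iff.2 (frattini_nongenerating ?_)⟩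
  rw [sup_comm, ← sup_assoc]
  by_contra h2
  have := chain (lt_sup_zp ha) (lt_sup_zp hb) (lt_top_iff_ne_top.2 h2)
  omega

theorem mem_zp_odd [Finite G] (hG : IsPGroup 2 G) (a : G) {i : ℕ} (hi : Odd i) :
    a ∈ zpowers (a ^ i) := by
  obtain ⟨k, hk⟩ := hG.exists_orderOf_eq_pow a
  rw [mem_zpowers_pow_iff, hk]
  exact Nat.Coprime.pow_right k hi.coprime_two_right

structure St (G : Type*) [Group G] (c : G) : Prop where
  p2 : IsPGroup 2 G
  r : R G
  c1 : c ≠ 1
  hc : ∀ x, x ∈ commutator G ↔ x = 1 ∨ x = c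
  no : ∀ x y : G, D x y → c ∉ zpowers x

variable [Finite G] {c : G}

theorem St.cen (h : St G c) (g : G) : g * c = c * g := by
  have h1 : g * c * g⁻¹ ∈ commutator G :=
    (inferInstance : (commutator G).Normal).conj_mem c ((h.hc c).2 (Or.inr rfl)) g
  rcases (h.hc _).1 h1 with h2 | h2
  · exact absurd (by simpa using h2) h.c1
  · exact mul_inv_eq_iff_eq_mul.1 h2

theorem St.cc (h : St G c) : c * c = 1 := by
  have h0 := (h.hc c).2 (Or.inr rfl)
  rcases (h.hc _).1 (mul_mem h0 h0) with h2 | h2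
  · exact h2
  · exact absurd (by simpa using h2) h.c1

theorem St.sqc (h : St G c) (x g : G) : Commute g (x ^ 2) := by
  have h1 : x⁻¹ * (g * x * g⁻¹) ∈ commutator G := by
    have := commutator_mem_commutator (mem_top x⁻¹) (mem_top g)
    rw [commutatorElement_def, inv_inv, mul_assoc, mul_assoc, ← mul_assoc g] at this
    exact this
  have h2 : g * x ^ 2 * g⁻¹ = x ^ 2 := by
    rw [← conj_pow]
    rcases (h.hc _).1 h1 with h2 | h2
    · rw [← inv_mul_eq_one.1 h2]
    · rw [inv_mul_eq_iff_eq_mul.1 h2, _root_.sq, _root_.sq, mul_assoc, ← mul_assoc c, ← h.cen x,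
        mul_assoc, h.cc, mul_one]
  exact mul_inv_eq_iff_eq_mul.1 h2

theorem St.pow_eq_one (h : St G c) {x y : G} (hD : D x y) {n : ℕ}
    (hx : Abelianization.of (x ^ n) = 1) : x ^ n = 1 := by
  have : x ^ n ∈ commutator G := by
    rw [← Abelianization.ker_of]; exact hx
  rcases (h.hc _).1 this with h2 | h2
  · exact h2
  · exact absurd (h2 ▸ pow_mem (mem_zpowers x) n) (h.no x y hD)

theorem St.ofc (h : St G c) : Abelianization.of c = 1 := by
  have := (h.hc c).2 (Or.inr rfl)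
  rwa [← Abelianization.ker_of] at this

theorem St.stepA0 (h : St G c) {a b : G} (hD : D a b)
    (hm : ∀ x, D x b → orderOf a ≤ orderOf x) {s t i j : ℕ} (hst : s ≤ t) (hi : Odd i)
    (e : c = a ^ (2 * (2 ^ s * i)) * b ^ (2 * (2 ^ t * j))) : False := by
  obtain ⟨d, rfl⟩ := Nat.exists_eq_add_of_le hst
  have hx : D (a ^ i * b ^ (2 ^ d * j)) b := by
    refine hD.of_mem ((zpowers_le.2 ?_ : zpowers (a ^ i) ≤ _) (mem_zp_odd h.p2 a hi))
    have h1 : a ^ i * b ^ (2 ^ d * j) ∈ closure ({a ^ i * b ^ (2 ^ d * j), b} : Set G) :=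
      subset_closure (by simp)
    have h2 : b ∈ closure ({a ^ i * b ^ (2 ^ d * j), b} : Set G) := subset_closure (by simp)
    simpa using mul_mem h1 (inv_mem (pow_mem h2 (2 ^ d * j)))
  have h1 := h.pow_eq_one hx (n := 2 ^ (s + 1)) (by
    rw [← h.ofc, e]
    simp only [map_mul, map_pow, mul_pow, ← pow_mul]
    congr 2 <;> ring)
  have h2 := (hm _ hx).trans (Nat.le_of_dvd (by positivity) (orderOf_dvd_of_pow_eq_one h1))
  obtain ⟨k, hk⟩ := h.p2.exists_orderOf_eq_pow a
  rw [hk, Nat.pow_le_pow_iff_right one_lt_two] at h2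
  have h3 : a ^ (2 * (2 ^ s * i)) = 1 := by
    rw [← orderOf_dvd_iff_pow_eq_one, hk]
    exact (pow_dvd_pow 2 h2).trans ⟨i, by ring⟩
  rw [h3, one_mul] at e
  exact h.no b a hD.symm (e ▸ pow_mem (mem_zpowers b) _)

theorem St.stepA (h : St G c) {a b : G} (hD : D a b)
    (hm : ∀ x, D x b → orderOf a ≤ orderOf x) (hm' : ∀ x, D x a → orderOf b ≤ orderOf x) :
    c ∉ zpowers (a ^ 2) ⊔ zpowers (b ^ 2) := by
  intro hc
  haveI : (zpowers (b ^ 2)).Normal := ⟨fun n hn g => by
    obtain ⟨k, rfl⟩ := hn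
    rw [((h.sqc b g).zpow_right k).eq, mul_inv_cancel_right]; exact ⟨k, rfl⟩⟩
  obtain ⟨x, hx, y, hy, e⟩ := mem_sup_of_normal_right.1 hc
  obtain ⟨i, rfl⟩ := mem_powers_iff_mem_zpowers.2 hx
  obtain ⟨j, rfl⟩ := mem_powers_iff_mem_zpowers.2 hy
  simp only [← pow_mul] at e
  have hi : i ≠ 0 := by
    rintro rfl
    rw [mul_zero, pow_zero, one_mul] at e
    exact h.no b a hD.symm (e ▸ pow_mem (mem_zpowers b) _)
  have hj : j ≠ 0 := by
    rintro rfl
    rw [mul_zero, pow_zero, mul_one] at e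
    exact h.no a b hD (e ▸ pow_mem (mem_zpowers a) _)
  obtain ⟨s, i, hi', rfl⟩ := Nat.exists_eq_two_pow_mul_odd hi
  obtain ⟨t, j, hj', rfl⟩ := Nat.exists_eq_two_pow_mul_odd hj
  rcases le_total s t with hst | hst
  · exact h.stepA0 hD hm hst hi' e.symm
  · refine h.stepA0 hD.symm hm' hst hj' (j := i) ?_
    rw [← e, pow_mul a]
    exact ((h.sqc a _).pow_right _).eq.symm

theorem St.half (h : St G c) {a b : G} (hD : D a b)
    (hm : ∀ x, D x b → orderOf a ≤ orderOf x) (hm' : ∀ x, D x a → orderOf b ≤ orderOf x) :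
    b ^ 2 = 1 := by
  have hA := h.stepA hD hm hm'
  have hac : a ∉ center G := by
    intro ha
    have := H81.commutator_le_of_two_gen hD ⊥ (by
      rw [mem_bot, commutatorElement_eq_one_iff_mul_comm]; exact mem_center_iff.1 ha b)
    exact h.c1 (this ((h.hc c).2 (Or.inr rfl)))
  have hsq : ∀ x : G, x ^ 2 ∈ center G := fun x => mem_center_iff.2 fun g => (h.sqc x g).eq
  have hcc : c ∈ center G := mem_center_iff.2 h.cen
  have hb : b ^ 2 ∈ zpowers (a ^ 2) ⊔ zpowers ((b ^ 2) ^ 2) := by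
    by_contra hb
    have hle : zpowers (a ^ 2) ⊔ zpowers ((b ^ 2) ^ 2) ⊔ zpowers (b ^ 2) ≤
        zpowers (a ^ 2) ⊔ zpowers (b ^ 2) :=
      sup_le (sup_le_sup_left (zpowers_le.2 (pow_mem (mem_zpowers _) 2)) _) le_sup_right
    have hle2 : zpowers (a ^ 2) ⊔ zpowers ((b ^ 2) ^ 2) ⊔ zpowers (b ^ 2) ⊔ zpowers c ≤ center G :=
      sup_le (sup_le (sup_le (zpowers_le.2 (hsq _)) (zpowers_le.2 (hsq _))) (zpowers_le.2 (hsq _)))
        (zpowers_le.2 hcc)
    have h8 := chain (lt_sup_zp hb) (lt_sup_zp (fun e => hA (hle e))) (lt_sup_zp (fun e => hac (hle2 e)))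
    refine absurd (h8.trans (h.r _ _ (le_sup_of_le_left (le_sup_of_le_left le_sup_left)) ?_)) (by norm_num)
    let S : Subgroup G :=
      { carrier := {x | x * a = a * x ∧ (∃ k : ℤ, x * a ^ k ∈ center G) ∧
          x * x ∈ zpowers (a ^ 2) ⊔ zpowers ((b ^ 2) ^ 2)}
        one_mem' := ⟨by simp, ⟨0, by simp⟩, by simp⟩
        mul_mem' := fun {x y} ⟨h1, ⟨k, h2⟩, h3⟩ ⟨h4, ⟨l, h5⟩, h6⟩ => by
          have hxy : x * y = y * x := by
            have e1 := mem_center_iff.1 h2 y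
            have e2 : Commute y (a ^ k) := Commute.zpow_right h4 k
            rw [mul_assoc, ← e2.eq, ← mul_assoc, ← mul_assoc] at e1
            exact (mul_right_cancel e1).symm
          refine ⟨by rw [mul_assoc, h4, ← mul_assoc, h1, mul_assoc], ⟨k + l, ?_⟩, ?_⟩
          · have e2 : Commute y (a ^ k) := Commute.zpow_right h4 k
            have := mul_mem h2 h5
            rwa [mul_assoc, ← mul_assoc (a ^ k), ← e2.eq, mul_assoc, ← zpow_add, ← mul_assoc] at this
          · have := mul_mem h3 h6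
            rwa [mul_assoc, ← mul_assoc x y y, hxy, mul_assoc, ← mul_assoc] at this
        inv_mem' := fun {x} ⟨h1, ⟨k, h2⟩, h3⟩ => by
          refine ⟨(Commute.inv_left h1).eq, ⟨-k, ?_⟩, by simpa using inv_mem h3⟩
          have e2 : Commute x (a ^ k) := Commute.zpow_right h1 k
          have := inv_mem h2
          rwa [e2.eq, mul_inv_rev, ← zpow_neg] at this }
    have hz : ∀ x ∈ center G, x * x ∈ zpowers (a ^ 2) ⊔ zpowers ((b ^ 2) ^ 2) → x ∈ S :=
      fun x hx h => ⟨(mem_center_iff.1 hx a).symm, ⟨0, by simpa using hx⟩, h⟩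
    have hl : ∀ x ∈ zpowers (a ^ 2), x ∈ zpowers (a ^ 2) ⊔ zpowers ((b ^ 2) ^ 2) :=
      fun x hx => (le_sup_left : zpowers (a ^ 2) ≤ _) hx
    have hr : ∀ x ∈ zpowers ((b ^ 2) ^ 2), x ∈ zpowers (a ^ 2) ⊔ zpowers ((b ^ 2) ^ 2) :=
      fun x hx => (le_sup_right : zpowers ((b ^ 2) ^ 2) ≤ _) hx
    have : zpowers (a ^ 2) ⊔ zpowers ((b ^ 2) ^ 2) ⊔ zpowers (b ^ 2) ⊔ zpowers c ⊔ zpowers a ≤ S := by
      simp only [sup_le_iff, zpowers_le]
      refine ⟨⟨⟨⟨hz _ (hsq _) ?_, hz _ (hsq _) ?_⟩, hz _ (hsq _) ?_⟩, hz _ hcc ?_⟩, rfl, ⟨-1, by simp⟩, ?_⟩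
      · exact hl _ (mul_mem (mem_zpowers _) (mem_zpowers _))
      · exact hr _ (mul_mem (mem_zpowers _) (mem_zpowers _))
      · rw [← _root_.sq]; exact hr _ (mem_zpowers _)
      · rw [h.cc]; exact one_mem _
      · rw [← _root_.sq]; exact hl _ (mem_zpowers _)
    exact fun x hx => (this hx).2.2
  haveI : (zpowers ((b ^ 2) ^ 2)).Normal := ⟨fun n hn g => by
    obtain ⟨k, rfl⟩ := hn
    rw [((h.sqc _ g).zpow_right k).eq, mul_inv_cancel_right]; exact ⟨k, rfl⟩⟩
  obtain ⟨x, hx, y, hy, e⟩ := mem_sup_of_normal_right.1 hb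
  obtain ⟨j, hj⟩ := mem_powers_iff_mem_zpowers.2 (inv_mem hy)
  change ((b ^ 2) ^ 2) ^ j = _ at hj
  have hx' : (b ^ 2) ^ (2 * j + 1) = x := by
    rw [pow_succ', pow_mul, hj, ← e, mul_inv_cancel_right]
  obtain ⟨k, hk⟩ := zpowers_le.2 (hx' ▸ hx) (mem_zp_odd h.p2 (b ^ 2) (odd_two_mul_add_one j))
  change (a ^ 2) ^ k = _ at hk
  have hD' : D ((a ^ k)⁻¹ * b) a := by
    refine hD.symm.of_mem ?_
    have h1 : (a ^ k)⁻¹ * b ∈ closure ({(a ^ k)⁻¹ * b, a} : Set G) := subset_closure (by simp)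
    have h2 : a ∈ closure ({(a ^ k)⁻¹ * b, a} : Set G) := subset_closure (by simp)
    simpa using mul_mem (zpow_mem h2 k) h1
  have h1 := h.pow_eq_one hD' (n := 2) (by
    have := congrArg Abelianization.of hk
    simp only [map_mul, map_pow, map_zpow, map_inv, mul_pow] at this ⊢
    rw [← this, inv_pow, ← zpow_natCast, ← zpow_natCast, ← zpow_mul, ← zpow_mul, mul_comm k,
      inv_mul_cancel])
  have h2 := (hm' _ hD').trans (Nat.le_of_dvd two_pos (orderOf_dvd_of_pow_eq_one h1))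
  have h3 := orderOf_pos b
  rw [← orderOf_dvd_iff_pow_eq_one]
  have : orderOf b = 1 ∨ orderOf b = 2 := by omega
  rcases this with h4 | h4 <;> simp [h4]

theorem St.false (h : St G c) : False := by
  obtain ⟨a0, b0, h0⟩ := exists_D h.p2 h.r
  obtain ⟨⟨a, b⟩, hD, hmin⟩ := (measure fun x : G × G => orderOf x.1 + orderOf x.2).wf.has_min
    {x | D x.1 x.2} ⟨(a0, b0), h0⟩
  have hm : ∀ x, D x b → orderOf a ≤ orderOf x := fun x hx => by
    have : ¬ (orderOf x + orderOf b < orderOf a + orderOf b) := hmin (x, b) hx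
    omega
  have hm' : ∀ x, D x a → orderOf b ≤ orderOf x := fun x hx => by
    have : ¬ (orderOf a + orderOf x < orderOf a + orderOf b) := hmin (a, x) hx.symm
    omega
  change D a b at hD
  have hb := h.half hD hm hm'
  have ha := h.half hD.symm hm' hm
  have hD' : D (a * b) b := by
    refine hD.of_mem ?_
    have h1 : a * b ∈ closure ({a * b, b} : Set G) := subset_closure (by simp)
    have h2 : b ∈ closure ({a * b, b} : Set G) := subset_closure (by simp)
    simpa using mul_mem h1 (inv_mem h2)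
  have h1 := h.pow_eq_one hD' (n := 2) (by
    rw [map_pow, map_mul, mul_pow, ← map_pow, ← map_pow, ha, hb, map_one, one_mul])
  have := H81.commutator_le_of_two_gen hD ⊥ (by
    rw [mem_bot, commutatorElement_eq_one_iff_mul_comm]
    rw [_root_.sq] at ha hb h1
    calc b * a = (a * a) * b * a * (b * b) := by rw [ha, hb]; group
      _ = a * (a * b * (a * b)) * b := by group
      _ = a * b := by rw [h1, mul_one])
  exact h.c1 (this ((h.hc c).2 (Or.inr rfl)))

end

universe u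

theorem main (G : Type u) [Group G] [Finite G] :
    IsPGroup 2 G → R G → ∃ x y : G, (zpowers x).Normal ∧ D x y := by
  refine H2.card_induction (P := fun G _ _ => IsPGroup 2 G → R G →
    ∃ x y : G, (zpowers x).Normal ∧ D x y) G ?_
  intro G _ _ ih hG hR
  by_cases h0 : commutator G = ⊥
  · obtain ⟨a, b, h⟩ := exists_D hG hR
    exact ⟨a, b, Normal.of_commutator_le _ (h0 ▸ bot_le), h⟩
  obtain ⟨z, hz, hzc, hzo⟩ := H3.exists_mem_center_orderOf_eq hG _ h0
  have z1 : z ≠ 1 := by rintro rfl; simp at hzo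
  have hz2 : z ^ 2 = 1 := hzo ▸ pow_orderOf_eq_one z
  have hmem : ∀ x, x ∈ zpowers z → x = 1 ∨ x = z := by
    intro x hx
    obtain ⟨k, rfl⟩ := mem_powers_iff_mem_zpowers.2 hx
    change z ^ k = 1 ∨ z ^ k = z
    rw [← pow_mod_orderOf, hzo]
    rcases Nat.mod_two_eq_zero_or_one k with h | h <;> simp [h]
  by_cases h1 : commutator G ≤ zpowers z
  · by_contra hcon
    refine St.false (c := z) ⟨hG, hR, z1, fun x => ⟨fun hx => hmem x (h1 hx), ?_⟩, fun x y hD hx =>
      hcon ⟨x, y, Normal.of_commutator_le _ (h1.trans (zpowers_le.2 hx)), hD⟩⟩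
    rintro (rfl | rfl)
    exacts [one_mem _, hz]
  haveI hN : (zpowers z).Normal := ⟨fun n hn g => by
    rw [mem_center_iff.1 (zpowers_le.2 hzc hn) g, mul_inv_cancel_right]; exact hn⟩
  let f := QuotientGroup.mk' (zpowers z)
  have hs : Function.Surjective f := QuotientGroup.mk'_surjective _
  have hker : f.ker = zpowers z := QuotientGroup.ker_mk' _
  obtain ⟨u, g, hn, hD⟩ := ih (G ⧸ zpowers z)
    (H73.card_quot_lt (by rwa [Ne, zpowers_eq_bot])) (hG.to_quotient _) (hR.of_surj f hs)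
  obtain ⟨u, rfl⟩ := hs u
  obtain ⟨g, rfl⟩ := hs g
  have hD' : D u g := by
    rw [D_iff] at hD ⊢
    have h2 := congrArg (comap f) hD
    rw [← MonoidHom.map_zpowers, ← MonoidHom.map_zpowers, ← Subgroup.map_sup, comap_map_eq, hker,
      comap_top] at h2
    refine frattini_nongenerating ?_
    rw [eq_top_iff, ← h2]
    exact sup_le_sup_left (zpowers_le.2 (H3.commutator_le_frattini hG hz)) _
  have hU : (zpowers u ⊔ zpowers z).Normal := by
    have : zpowers u ⊔ zpowers z = (zpowers (f u)).comap f := by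
      rw [← MonoidHom.map_zpowers, comap_map_eq, hker]
    rw [this]; infer_instance
  suffices hzu : z ∈ zpowers u by
    rw [sup_eq_left.2 (zpowers_le.2 hzu)] at hU
    exact ⟨u, g, hU, hD'⟩
  obtain ⟨x, ⟨r, rfl⟩, e, he, hx⟩ := mem_sup_of_normal_right.1
    (hU.conj_mem u ((le_sup_left : zpowers u ≤ _) (mem_zpowers u)) g)
  change u ^ r * e = _ at hx
  have hec : ∀ y, Commute y e := fun y => mem_center_iff.1 (zpowers_le.2 hzc he) y
  have he2 : e ^ 2 = 1 := by rcases hmem e he with rfl | rfl <;> simp [hz2]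
  have hw : ⁅g, u⁆ = u ^ (r - 1) * e := by
    rw [commutatorElement_def, ← hx, mul_assoc, ← (hec u⁻¹).eq]; group
  have hWn : (zpowers ⁅g, u⁆).Normal := by
    rw [← normalizer_eq_top_iff, eq_top_iff, ← hD', closure_le]
    have key : ∀ y : G, y * ⁅g, u⁆ * y⁻¹ ∈ zpowers ⁅g, u⁆ →
        y ∈ normalizer ((zpowers ⁅g, u⁆ : Subgroup G) : Set G) := by
      intro y hy
      refine mem_normalizer_fintype ?_
      rintro _ ⟨k, rfl⟩
      change y * ⁅g, u⁆ ^ k * y⁻¹ ∈ _
      rw [← conj_zpow]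
      exact zpow_mem hy k
    rintro y (rfl | rfl)
    · apply key
      rw [hw, ← mul_assoc, mul_assoc _ e, ← (hec y⁻¹).eq]
      have : y * y ^ (r - 1) * (y⁻¹ * e) = y ^ (r - 1) * e := by group
      rw [this]; exact mem_zpowers _
    · apply key
      refine ⟨r, ?_⟩
      change ⁅y, u⁆ ^ r = _
      rw [hw]
      have h3 : y * (u ^ (r - 1) * e) * y⁻¹ = (y * u * y⁻¹) ^ (r - 1) * e := by
        rw [conj_zpow, mul_assoc, mul_assoc, ← (hec y⁻¹).eq]; group
      rw [h3, ← hx, (hec _).mul_zpow, (hec _).mul_zpow]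
      group
  have hle := H81.commutator_le_of_two_gen hD' _ (mem_zpowers ⁅g, u⁆)
  obtain ⟨j, hj⟩ := mem_powers_iff_mem_zpowers.2 (hle hz)
  change ⁅g, u⁆ ^ j = z at hj
  rcases Nat.even_or_odd j with ⟨i, rfl⟩ | hodd
  · rw [← hj, ← two_mul, pow_mul, hw, (hec _).mul_pow, he2, mul_one]
    exact pow_mem (pow_mem (zpow_mem (mem_zpowers u) _) _) _
  · exact absurd (hle.trans (zpowers_le.2 (hj ▸ mem_zp_odd hG _ hodd))) h1


/-- A finite 2-group of sectional 2-rank at most 2 (every section has no elementary abelian subgroup of order 8) is metacyclic: it has a cyclic normal subgroup with cyclic quotient. -/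
theorem result {S : Type*} [Group S] [Finite S] (h2 : IsPGroup 2 S) (hr : Cfsg.SectionalPRankLE 2 2 S) : Cfsg.IsMetacyclic S := by
  obtain ⟨x, y, hn, hD⟩ := main S h2 (R_of_sec hr)
  exact ⟨zpowers x, hn, inferInstance, H73.isCyclic_quotient_of_sup (D_iff.1 hD)⟩

end Cfsg.Agent.S4397
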