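import Cfsg.Statements.S0200
import Cfsg.Agent.H8.Dihedral

set_option autoImplicit false
open Cfsg

namespace Cfsg.Agent.S0200

/-- An involution lying in no normal 2-subgroup of a finite group inverts a nontrivial element of odd order (a consequence of the Baer–Suzuki Theorem). -/
theorem result {G : Type*} [Group G] [Finite G] (t : G) (ht : orderOf t = 2) (hO : ∀ N : Subgroup G, N.Normal → IsPGroup 2 N → t ∉ N) : ∃ h : G, h ≠ 1 ∧ Odd (orderOf h) ∧ t * h * t⁻¹ = h⁻¹ := by
  have ht' := H8.mul_self_of_orderOf_two ht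
  by_contra hcon
  have key : IsPGroup 2 (Subgroup.normalClosure ({t} : Set G)) := by
    refine H8.baer_suzuki_elem t fun g => ?_
    have hv : (g * t * g⁻¹) * (g * t * g⁻¹) = 1 := by rw [conj_mul, ht']; simp
    set c := t * (g * t * g⁻¹) with hc
    obtain ⟨a, m, hm, hn⟩ := Nat.exists_eq_two_pow_mul_odd (orderOf_pos c).ne'
    refine H8.isPGroup_closure_pair ht' hv (n := a) ?_
    by_contra hne
    refine hcon ⟨c ^ 2 ^ a, hne, ?_, ?_⟩
    · refine Odd.of_dvd_nat hm ?_
      rw [orderOf_dvd_iff_pow_eq_one, ← pow_mul, ← hn, pow_orderOf_eq_one]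
    · rw [← conj_pow, H8.conj_mul_inv ht' hv, inv_pow]
  exact hO _ inferInstance key (Subgroup.subset_normalClosure rfl)

end Cfsg.Agent.S0200
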