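import Cfsg.Statements.S1896
import Cfsg.Agent.H42.OddAut
import Cfsg.Agent.S4207
import Cfsg.Agent.H3.PGroup
import Cfsg.Agent.H3.ClassTwo
-- import your own Cfsg.Agent.* helpers here

set_option autoImplicit false
open Cfsg

namespace Cfsg.Agent.S1896

open Subgroup
open scoped commutatorElement

theorem oddAut {X : Type*} [Group X] (hX : IsPGroup 2 X) (α : X ≃* X) {m : ℕ} (hm : Odd m)
    (h : ∀ x, (⇑α)^[m] x = x) : H42.OddAut (⊤ : Subgroup X) α :=
  ⟨hX.to_subgroup _, fun _ _ => mem_top _, fun a _ b _ => map_mul α a b, m, hm, fun g _ => h g⟩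

theorem zpow_sq {Q : Type*} [Group Q] {q : Q} (h : q * q = 1) (i : ℤ) :
    (Even i ∧ q ^ i = 1) ∨ (Odd i ∧ q ^ i = q) := by
  have h2 : q ^ (2 : ℤ) = 1 := by rw [zpow_two, h]
  rcases Int.even_or_odd' i with ⟨j, rfl | rfl⟩
  · exact Or.inl ⟨⟨j, by ring⟩, by rw [zpow_mul, h2, one_zpow]⟩
  · exact Or.inr ⟨⟨j, rfl⟩, by rw [zpow_add, zpow_mul, h2, one_zpow, one_mul, zpow_one]⟩

/-- The four-group computation. -/
theorem four {Q : Type*} [Group Q] (hsq : ∀ q : Q, q * q = 1) {f : Q ≃* Q}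
    (hf : H42.OddAut (⊤ : Subgroup Q) f) {a b : Q}
    (hab : ∀ q : Q, q = 1 ∨ q = a ∨ q = b ∨ q = a * b) (hne : ∃ q, f q ≠ q) :
    a ≠ 1 ∧ f a ≠ a ∧ f (f a) = a * f a ∧ (b = f a ∨ b = a * f a) := by
  have hinv : ∀ q : Q, q⁻¹ = q := fun q => inv_eq_of_mul_eq_one_right (hsq q)
  have hc : ∀ p q : Q, p * q = q * p := fun p q => by
    rw [← hinv (p * q), mul_inv_rev, hinv, hinv]
  have hfix : ∀ q, f (f q * q) = f q * q → f q = q := fun q e =>
    hf.fix_of_fix (mem_top q) (by rwa [hinv])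
  have hall : f a = a → f b = b → False := fun h1 h2 => by
    obtain ⟨q, hq⟩ := hne
    rcases hab q with rfl | rfl | rfl | rfl
    · exact hq (map_one f)
    · exact hq h1
    · exact hq h2
    · exact hq (by rw [map_mul, h1, h2])
  have h1 : f a ≠ a := fun h1 => by
    refine hall h1 ?_
    rcases hab (f b) with e | e | e | e
    · rw [(map_eq_one_iff f f.injective).1 e, map_one]
    · rw [f.injective (e.trans h1.symm), h1]
    · exact e
    · apply hfix
      rw [e, mul_assoc, hsq, mul_one, h1]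
  have h0 : a ≠ 1 := fun e => h1 (by rw [e, map_one])
  have h2 : b = f a ∨ b = a * f a := by
    rcases hab (f a) with e | e | e | e
    · exact absurd ((map_eq_one_iff f f.injective).1 e) h0
    · exact absurd e h1
    · exact Or.inl e.symm
    · exact Or.inr (by rw [e, ← mul_assoc, hsq, one_mul])
  refine ⟨h0, h1, ?_, h2⟩
  have h3 : ∀ q : Q, q = 1 ∨ q = a ∨ q = f a ∨ q = a * f a := fun q => by
    rcases h2 with e | e
    · rw [← e]; exact hab q
    · rcases hab q with e' | e' | e' | e'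
      · exact Or.inl e'
      · exact Or.inr (Or.inl e')
      · exact Or.inr (Or.inr (Or.inr (e'.trans e)))
      · exact Or.inr (Or.inr (Or.inl (by rw [e', e, ← mul_assoc, hsq, one_mul])))
  rcases h3 (f (f a)) with e | e | e | e
  · rw [map_eq_one_iff f f.injective, map_eq_one_iff f f.injective] at e
    exact absurd e h0
  · exact absurd (hfix a (by rw [map_mul, e, hc])) h1
  · exact absurd (f.injective e) h1
  · exact e

theorem form {X : Type*} [Group X] {a b : X} [hN : (zpowers a).Normal]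
    (h : zpowers a ⊔ zpowers b = ⊤) (x : X) : ∃ i j : ℤ, x = a ^ i * b ^ j := by
  have hx : x ∈ ((zpowers a ⊔ zpowers b : Subgroup X) : Set X) := by rw [h]; trivial
  rw [normal_mul] at hx
  obtain ⟨_, ⟨i, rfl⟩, _, ⟨j, rfl⟩, rfl⟩ := hx
  exact ⟨i, j, rfl⟩

/-- The generators can be taken as `a` and its image. -/
theorem gens {X : Type*} [Group X] [Finite X] (hX : IsPGroup 2 X) {a b : X}
    [hN : (zpowers a).Normal] (h : zpowers a ⊔ zpowers b = ⊤) (α : MulAut X)
    (ho : Odd (orderOf α)) (h1 : α ≠ 1) :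
    zpowers a ⊔ zpowers (α a) = ⊤ ∧ α a ∉ zpowers a ∧
      ∃ i j : ℤ, Odd i ∧ Odd j ∧ α (α a) = a ^ i * (α a) ^ j := by
  haveI : Fact (Nat.Prime 2) := ⟨Nat.prime_two⟩
  have hchar : ∀ β : MulAut X, (frattini X).map (β : X →* X) = frattini X := fun β =>
    characteristic_iff_map_eq.1 inferInstance β
  let π := QuotientGroup.mk' (frattini X)
  let f : X ⧸ frattini X ≃* X ⧸ frattini X := QuotientGroup.congr _ _ α (hchar α)
  have hf : ∀ x, f (π x) = π (α x) := fun x => rfl
  have hsq : ∀ q : X ⧸ frattini X, q * q = 1 := fun q => by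
    obtain ⟨x, rfl⟩ := QuotientGroup.mk'_surjective _ q
    rw [← map_mul, ← sq]
    exact (QuotientGroup.eq_one_iff _).2 (H3.pow_mem_frattini hX x)
  have hodd : H42.OddAut (⊤ : Subgroup (X ⧸ frattini X)) f := by
    refine oddAut (hX.to_quotient _) f ho fun q => ?_
    obtain ⟨x, rfl⟩ := QuotientGroup.mk'_surjective _ q
    have : ∀ m : ℕ, (⇑f)^[m] (π x) = π ((α ^ m) x) := by
      intro m
      induction m with
      | zero => simp
      | succ m ih => rw [Function.iterate_succ_apply', ih, hf, pow_succ']; rfl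
    exact (this _).trans (by rw [pow_orderOf_eq_one]; rfl)
  have hab : ∀ q : X ⧸ frattini X, q = 1 ∨ q = π a ∨ q = π b ∨ q = π a * π b := fun q => by
    obtain ⟨x, rfl⟩ := QuotientGroup.mk'_surjective _ q
    obtain ⟨i, j, rfl⟩ := form h x
    change π _ = 1 ∨ π _ = _ ∨ π _ = _ ∨ π _ = _
    rw [map_mul, map_zpow, map_zpow]
    rcases zpow_sq (hsq (π a)) i with ⟨-, e⟩ | ⟨-, e⟩ <;>
      rcases zpow_sq (hsq (π b)) j with ⟨-, e'⟩ | ⟨-, e'⟩ <;> simp [e, e']
  have hne : ∃ q, f q ≠ q := by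
    by_contra hc
    push Not at hc
    obtain ⟨n, hn⟩ := hX.exists_card_eq
    obtain ⟨r, hr⟩ := hX.index (frattini X)
    have hd := S4207.result hn hr (zpowers α) (by
      intro β hβ x
      obtain ⟨k, rfl⟩ := mem_powers_iff_mem_zpowers.2 hβ
      have key : ∀ (k : ℕ) (y : X), π ((α ^ k) y) = π y := fun k => by
        induction k with
        | zero => intro y; rfl
        | succ k ih => intro y; rw [pow_succ', MulAut.mul_apply, ← hf, hc, ih]
      have := key k x
      rw [← mul_inv_eq_one, ← map_inv, ← map_mul] at this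
      exact (QuotientGroup.eq_one_iff _).1 this)
    rw [Nat.card_zpowers] at hd
    exact h1 (orderOf_eq_one_iff.1 (Nat.Coprime.eq_one_of_dvd
      (Nat.Coprime.pow_right _ (Nat.coprime_two_right.2 ho)) hd))
  obtain ⟨h0, h2, h3, h4⟩ := four hsq hodd hab hne
  rw [hf] at h2 h3 h4
  rw [hf] at h3
  have htop : zpowers a ⊔ zpowers (α a) = ⊤ := by
    apply frattini_nongenerating
    rw [eq_top_iff, ← h, sup_le_iff]
    refine ⟨le_sup_of_le_left le_sup_left, zpowers_le_of_mem ?_⟩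
    have key : ∀ y, π b = π y → y ∈ zpowers a ⊔ zpowers (α a) →
        b ∈ zpowers a ⊔ zpowers (α a) ⊔ frattini X := fun y e hy => by
      have : b = y * (y⁻¹ * b) := by group
      rw [this]
      exact mul_mem (mem_sup_left hy) (mem_sup_right (QuotientGroup.eq.1 e.symm))
    rcases h4 with e | e
    · exact key _ e (mem_sup_right (mem_zpowers _))
    · exact key (a * α a) (by rw [map_mul]; exact e)
        (mul_mem (mem_sup_left (mem_zpowers _)) (mem_sup_right (mem_zpowers _)))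
  have h5 : π (α a) ≠ 1 := fun e => h0 ((map_eq_one_iff f f.injective).1 (by rw [hf, e]))
  refine ⟨htop, ?_, ?_⟩
  · rintro ⟨i, hi⟩
    have := congrArg π hi
    simp only [map_zpow] at this
    rcases zpow_sq (hsq (π a)) i with ⟨-, e⟩ | ⟨-, e⟩
    · exact h5 (this.symm.trans e)
    · exact h2 (this.symm.trans e)
  · obtain ⟨i, j, e⟩ := form htop (α (α a))
    refine ⟨i, j, ?_⟩
    rw [e, map_mul, map_zpow, map_zpow] at h3
    rcases zpow_sq (hsq (π a)) i with ⟨hi, e1⟩ | ⟨hi, e1⟩ <;>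
      rcases zpow_sq (hsq (π (α a))) j with ⟨hj, e2⟩ | ⟨hj, e2⟩ <;> rw [e1, e2] at h3
    · rw [one_mul, eq_comm, mul_eq_one_iff_eq_inv, inv_eq_of_mul_eq_one_right (hsq _)] at h3
      exact absurd h3.symm h2
    · exact absurd (mul_right_cancel h3).symm h0
    · exact absurd (mul_left_cancel h3).symm h5
    · exact ⟨hi, hj, e⟩

theorem homocyclic {X : Type*} [Group X] {a b : X} {n : ℕ} [NeZero n] (ha : orderOf a = n)
    (hb : orderOf b = n) (hc : Commute a b) (hd : Disjoint (zpowers a) (zpowers b))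
    (h : ∀ x, ∃ i j : ℤ, x = a ^ i * b ^ j) :
    Nonempty (X ≃* Multiplicative (ZMod n) × Multiplicative (ZMod n)) := by
  let φ : Multiplicative (ZMod n) × Multiplicative (ZMod n) →* X := MonoidHom.mk'
    (fun p => a ^ (p.1.toAdd.val : ℤ) * b ^ (p.2.toAdd.val : ℤ)) (by
      intro p q
      rw [H42.zpow_val_eq ha _ (p.1.toAdd.val + q.1.toAdd.val) (by simp),
        H42.zpow_val_eq hb _ (p.2.toAdd.val + q.2.toAdd.val) (by simp), zpow_add, zpow_add]
      exact (hc.zpow_zpow _ _).mul_mul_mul_comm _ _)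
  refine ⟨(MulEquiv.ofBijective φ ⟨?_, fun x => ?_⟩).symm⟩
  · rw [injective_iff_map_eq_one]
    intro p hp
    change a ^ (p.1.toAdd.val : ℤ) * b ^ (p.2.toAdd.val : ℤ) = 1 at hp
    have h1 : a ^ (p.1.toAdd.val : ℤ) = 1 := disjoint_def.1 hd (zpow_mem_zpowers _ _) (by
      rw [eq_inv_of_mul_eq_one_left hp]; exact inv_mem (zpow_mem_zpowers _ _))
    rw [h1, one_mul] at hp
    have key : ∀ (c : X) (i : ZMod n), orderOf c = n → c ^ (i.val : ℤ) = 1 → i = 0 := by
      intro c i hc hi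
      rw [zpow_natCast, ← orderOf_dvd_iff_pow_eq_one, hc] at hi
      rw [← ZMod.val_eq_zero]
      exact Nat.eq_zero_of_dvd_of_lt hi (ZMod.val_lt i)
    exact Prod.ext (Multiplicative.toAdd.injective (key a _ ha h1))
      (Multiplicative.toAdd.injective (key b _ hb hp))
  · obtain ⟨i, j, rfl⟩ := h x
    refine ⟨(Multiplicative.ofAdd (i : ZMod n), Multiplicative.ofAdd (j : ZMod n)), ?_⟩
    change a ^ (((i : ZMod n).val : ℕ) : ℤ) * b ^ (((j : ZMod n).val : ℕ) : ℤ) = _
    rw [H42.zpow_val_eq ha _ i rfl, H42.zpow_val_eq hb _ j rfl]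

theorem mem_of_odd {X : Type*} [Group X] (hX : IsPGroup 2 X) (g : X) {e : ℤ} (he : Odd e) :
    g ∈ zpowers (g ^ e) := by
  haveI : Fact (Nat.Prime 2) := ⟨Nat.prime_two⟩
  obtain ⟨k, hk⟩ := (IsPGroup.iff_orderOf.1 hX) g
  rw [mem_zpowers_zpow_iff, hk, ← Int.isCoprime_iff_gcd_eq_one]
  push_cast
  exact (Int.isCoprime_two_right.2 he).pow_right


/-- A finite metacyclic 2-group whose automorphism group is not a 2-group is isomorphic to the quaternion group of order 8 or to a homocyclic abelian group Z_{2^n} × Z_{2^n}. -/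
theorem result {X : Type*} [Group X] [Finite X] (hX : IsPGroup 2 X)
    (hm : Cfsg.IsMetacyclic X) (hA : ¬ IsPGroup 2 (MulAut X)) :
    Nonempty (X ≃* QuaternionGroup 2) ∨
      ∃ n : ℕ, Nonempty (X ≃* Multiplicative (ZMod (2 ^ n)) × Multiplicative (ZMod (2 ^ n))) := by
  haveI : Fact (Nat.Prime 2) := ⟨Nat.prime_two⟩
  obtain ⟨N, hN, hc1, hc2⟩ := hm
  obtain ⟨a, rfl⟩ := (Subgroup.isCyclic_iff_exists_zpowers_eq_top N).1 hc1
  obtain ⟨q, hq⟩ := hc2.exists_generator
  obtain ⟨b₀, rfl⟩ := QuotientGroup.mk'_surjective _ q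
  have htop₀ : zpowers a ⊔ zpowers b₀ = ⊤ := by
    rw [eq_top_iff]
    intro x _
    obtain ⟨j, hj⟩ := hq (QuotientGroup.mk' _ x)
    have : x = b₀ ^ j * ((b₀ ^ j)⁻¹ * x) := by group
    rw [this]
    refine mul_mem (mem_sup_right (zpow_mem_zpowers _ _)) (mem_sup_left (QuotientGroup.eq.1 ?_))
    exact (map_zpow (QuotientGroup.mk' (zpowers a)) b₀ j).trans hj
  obtain ⟨α, ho, h1⟩ : ∃ α : MulAut X, Odd (orderOf α) ∧ α ≠ 1 := by
    by_contra hc
    push Not at hc
    exact hA (H42.isPGroup_two_of_odd hc)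
  have hα : H42.OddAut (⊤ : Subgroup X) α := oddAut hX α ho fun x => by
    have : ∀ m : ℕ, (⇑α)^[m] x = (α ^ m) x := by
      intro m
      induction m with
      | zero => simp
      | succ m ih => rw [Function.iterate_succ_apply', ih, pow_succ']; rfl
    rw [this, pow_orderOf_eq_one]; rfl
  obtain ⟨htop, hb, i, j, hi, hj, hij⟩ := gens hX htop₀ α ho h1
  have hD : ∀ x y : X, ⁅x, y⁆ ∈ zpowers a := fun x y => by
    rw [← QuotientGroup.eq_one_iff]
    change QuotientGroup.mk' _ ⁅x, y⁆ = 1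
    rw [map_commutatorElement, commutatorElement_eq_one_iff_mul_comm]
    exact hc2.isMulCommutative.is_comm.comm _ _
  have hfix : ∀ x y : X, α ⁅x, y⁆ = ⁅x, y⁆ := fun x y =>
    hα.fix_of_mem_cyclic (mem_top _) (hD x y) (by rw [map_commutatorElement]; exact hD _ _)
  have hcen : commutator X ≤ center X := by
    rw [_root_.commutator_def, commutator_le]
    intro x _ y _
    have e1 : Commute a ⁅x, y⁆ := H42.comm_of_mem_zpowers (mem_zpowers a) (hD x y)
    have e2 : Commute (α a) ⁅x, y⁆ := by rw [← hfix]; exact e1.map α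
    rw [mem_center_iff]
    intro g
    obtain ⟨i, j, rfl⟩ := form htop g
    exact ((e1.zpow_left i).mul_left (e2.zpow_left j)).eq
  obtain ⟨k, hk⟩ := (IsPGroup.iff_orderOf.1 hX) a
  have hkb : orderOf (α a) = 2 ^ k := by rw [MulEquiv.orderOf_eq, hk]
  by_cases hd : Disjoint (zpowers a) (zpowers (α a))
  · refine Or.inr ⟨k, homocyclic hk hkb ?_ hd (form htop)⟩
    rw [← commutatorElement_eq_one_iff_commute]
    refine disjoint_def.1 hd (hD _ _) ?_
    obtain ⟨e, he⟩ := mem_zpowers_iff.1 (hD a (α a))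
    rw [← hfix, ← he, map_zpow]
    exact zpow_mem_zpowers _ _
  left
  set b := α a with hbdef
  have ha1 : a ≠ 1 := fun e => hb (by rw [hbdef, e, map_one]; exact one_mem _)
  obtain ⟨m, rfl⟩ : ∃ m, k = m + 1 := by
    cases k with
    | zero => exact absurd (orderOf_eq_one_iff.1 hk) ha1
    | succ m => exact ⟨m, rfl⟩
  have hsq : ∀ g : X, orderOf g = 2 ^ (m + 1) → g ^ 2 ^ m * g ^ 2 ^ m = 1 := fun g hg => by
    rw [← pow_add, ← two_mul, ← pow_succ', ← hg, pow_orderOf_eq_one]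
  have hz1 : a ^ 2 ^ m ≠ 1 := fun e => by
    have := Nat.le_of_dvd (by positivity) (hk ▸ orderOf_dvd_of_pow_eq_one e)
    have := Nat.pow_lt_pow_succ (a := 2) (n := m) (by norm_num)
    omega
  have hz : b ^ 2 ^ m = a ^ 2 ^ m := by
    obtain ⟨t, ht, ht1⟩ : ∃ t ∈ zpowers a ⊓ zpowers b, t ≠ 1 := by
      by_contra hc
      push Not at hc
      exact hd (disjoint_def.2 fun h1 h2 => hc _ ⟨h1, h2⟩)
    obtain ⟨l, hl⟩ := (IsPGroup.iff_orderOf.1 hX) t
    obtain ⟨l, rfl⟩ : ∃ l', l = l' + 1 := by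
      cases l with
      | zero => exact absurd (orderOf_eq_one_iff.1 hl) ht1
      | succ m => exact ⟨m, rfl⟩
    have hs : orderOf (t ^ 2 ^ l) = 2 := H42.orderOf_pow_of_eq_mul (by positivity) (by rw [hl, pow_succ])
    have key : ∀ g : X, orderOf g = 2 ^ (m + 1) → t ∈ zpowers g → t ^ 2 ^ l = g ^ 2 ^ m := by
      intro g hg htg
      have := H42.mem_zpowers_pow_of_pow_eq_one (d := 2 ^ m) two_ne_zero (by rw [hg, pow_succ])
        (pow_mem htg (2 ^ l)) (orderOf_dvd_iff_pow_eq_one.1 (by rw [hs]))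
      rcases (H42.mem_zpowers_of_mul_self (hsq g hg)).1 this with e | e
      · rw [e, orderOf_one] at hs; omega
      · exact e
    rw [← key a hk ht.1, key b hkb ht.2]
  have hzodd : ∀ e : ℤ, Odd e → (a ^ 2 ^ m) ^ e = a ^ 2 ^ m := fun e he => by
    rcases zpow_sq (hsq a hk) e with ⟨h, -⟩ | ⟨-, h⟩
    · exact absurd he (Int.not_odd_iff_even.2 h)
    · exact h
  have hmain : ⁅b ^ j, a ^ i⁆ ^ (2 ^ m).choose 2 = a ^ 2 ^ m := by
    have e1 : α (b ^ 2 ^ m) = a ^ 2 ^ m := by rw [hz, map_pow, ← hbdef, hz]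
    rw [map_pow, hij, H3.mul_pow_of_class_two hcen, ← zpow_natCast (a ^ i), ← zpow_natCast (b ^ j),
      ← zpow_mul, ← zpow_mul, mul_comm i, mul_comm j, zpow_mul, zpow_mul, zpow_natCast,
      zpow_natCast, hz, hzodd i hi, hzodd j hj, hsq a hk, mul_one] at e1
    exact e1
  have hcomm : ⁅b ^ j, a ^ i⁆ = ⁅b, a⁆ ^ (i * j) := by
    rw [H3.commutator_zpow_left_of_commute (H3.commute_commutator hcen _ _ _),
      H3.commutator_zpow_right_of_commute (H3.commute_commutator hcen _ _ _), zpow_mul]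
  obtain ⟨l, rfl⟩ : ∃ l, m = l + 1 := by
    cases m with
    | zero => exact absurd (hmain.symm.trans (by simp)) hz1
    | succ m => exact ⟨m, rfl⟩
  have hcl : ⁅b, a⁆ ^ 2 ^ l ≠ 1 := fun e => by
    apply hz1
    have : (2 ^ (l + 1)).choose 2 = 2 ^ l * (2 ^ (l + 1) - 1) := by
      rw [Nat.choose_two_right, pow_succ, mul_right_comm, Nat.mul_div_cancel _ two_pos]
    rw [← hmain, hcomm, this, ← zpow_natCast, ← zpow_mul, mul_comm, zpow_mul, zpow_natCast, pow_mul,
      e, one_pow, one_zpow]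
  obtain ⟨e, he⟩ := mem_zpowers_iff.1 (hD b a)
  have hcc := H3.commutator_mem_center hcen b a
  rcases Int.even_or_odd' e with ⟨e, rfl | rfl⟩
  swap
  · have : a ∈ center X := zpowers_le_of_mem (he ▸ hcc) (mem_of_odd hX a ⟨e, rfl⟩)
    exact absurd (by rw [commutatorElement_eq_one_iff_mul_comm.2 (mem_center_iff.1 this b), one_pow]) hcl
  have he' : Odd e := by
    rcases zpow_sq (hsq a hk) e with ⟨-, h⟩ | ⟨h, -⟩
    · refine absurd ?_ hcl
      rw [← he, ← h, ← zpow_natCast, ← zpow_natCast, ← zpow_mul, ← zpow_mul]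
      congr 1
      push_cast; ring
    · exact h
  have h2 : a ^ 2 ∈ center X := by
    refine zpowers_le_of_mem ?_ (mem_of_odd hX (a ^ 2) he')
    rw [← zpow_natCast, ← zpow_mul]
    exact he ▸ hcc
  have h3 : ⁅b, a⁆ ^ 2 = 1 := by
    rw [← H3.commutator_pow_right hcen, commutatorElement_eq_one_iff_mul_comm]
    exact mem_center_iff.1 h2 b
  obtain rfl : l = 0 := by
    cases l with
    | zero => rfl
    | succ l => exact absurd (by rw [pow_succ', pow_mul, h3, one_pow]) hcl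
  have h4 : ⁅b, a⁆ = a ^ 2 := by
    rw [← he, zpow_mul, zpow_two, ← sq]
    exact hzodd e he'
  have h5 : a ^ 2 * a ^ 2 = 1 := hsq a hk
  obtain ⟨φ⟩ := H42.quaternion_recog (a := a) (b := b) two_ne_zero hk (by rw [← sq]; exact hz) (by
    rw [commutatorElement_def, mul_inv_eq_iff_eq_mul] at h4
    rw [h4, eq_inv_iff_mul_eq_one, ← h5]
    group) hb
  exact ⟨(topEquiv.symm.trans (MulEquiv.subgroupCongr htop.symm)).trans φ⟩

end Cfsg.Agent.S1896
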