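import Cfsg.Statements.S0572
import Cfsg.Agent.H2.MinNormal
import Mathlib.Tactic.Group

set_option autoImplicit false
open Cfsg

namespace Cfsg.Agent.S0572

open scoped commutatorElement

theorem key {G : Type*} [Group G] (A B : Subgroup G) [hA : IsMulCommutative A]
    [hB : IsMulCommutative B] (hAB : ∀ g : G, ∃ a ∈ A, ∃ b ∈ B, g = a * b)
    {a a' b b' : G} (ha : a ∈ A) (ha' : a' ∈ A) (hb : b ∈ B) (hb' : b' ∈ B) :
    Commute ⁅a', b'⁆ ⁅a, b⁆ := by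
  -- conjugation by `a'⁻¹` and by `b'⁻¹` commute on `⁅a, b⁆`
  have main : ∀ {a a' b b' : G}, a ∈ A → a' ∈ A → b ∈ B → b' ∈ B →
      b' * (a' * ⁅a, b⁆ * a'⁻¹) * b'⁻¹ = a' * (b' * ⁅a, b⁆ * b'⁻¹) * a'⁻¹ := by
    intro a a' b b' ha ha' hb hb'
    obtain ⟨a₁, ha₁, b₁, hb₁, h₁⟩ := hAB (a' * b⁻¹ * a'⁻¹)
    obtain ⟨a₂, ha₂, b₂, hb₂, h₂⟩ := hAB (b' * a * b'⁻¹)
    have caa' : a * a' = a' * a := H2.mul_comm_of_mem hA ha ha'
    have caa₁ : a * a₁ = a₁ * a := H2.mul_comm_of_mem hA ha ha₁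
    have ca₂a' : a₂ * a' = a' * a₂ := H2.mul_comm_of_mem hA ha₂ ha'
    have ca₂a₁ : a₂ * a₁ = a₁ * a₂ := H2.mul_comm_of_mem hA ha₂ ha₁
    have cbb' : b * b' = b' * b := H2.mul_comm_of_mem hB hb hb'
    have cb₁b' : b₁ * b' = b' * b₁ := H2.mul_comm_of_mem hB hb₁ hb'
    have cb₂b : b₂ * b = b * b₂ := H2.mul_comm_of_mem hB hb₂ hb
    have cb₂b₁ : b₂ * b₁ = b₁ * b₂ := H2.mul_comm_of_mem hB hb₂ hb₁
    have e1 : a' * ⁅a, b⁆ * a'⁻¹ = ⁅a, b₁⁻¹⁆ := by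
      have t1 : a' * ⁅a, b⁆ * a'⁻¹ =
          (a' * a * a'⁻¹) * (a' * b⁻¹ * a'⁻¹)⁻¹ * (a' * a * a'⁻¹)⁻¹ * (a' * b⁻¹ * a'⁻¹) := by
        rw [commutatorElement_def]; group
      have t2 : a' * a * a'⁻¹ = a := by rw [← caa']; group
      rw [t1, t2, h₁, commutatorElement_def]
      calc a * (a₁ * b₁)⁻¹ * a⁻¹ * (a₁ * b₁) = a * b₁⁻¹ * (a₁⁻¹ * (a * a₁⁻¹)⁻¹ ) * b₁ := by
            have : a⁻¹ * a₁ = (a * a₁⁻¹)⁻¹ := by
              rw [mul_inv_rev, inv_inv, eq_mul_inv_iff_mul_eq, mul_assoc, ← caa₁]; group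
            rw [← this]; group
        _ = a * b₁⁻¹ * a⁻¹ * b₁⁻¹⁻¹ := by group
    have e2 : b' * ⁅a, b₁⁻¹⁆ * b'⁻¹ = ⁅a₂, b₁⁻¹⁆ := by
      have t1 : b' * ⁅a, b₁⁻¹⁆ * b'⁻¹ =
          (b' * a * b'⁻¹) * (b' * b₁ * b'⁻¹)⁻¹ * (b' * a * b'⁻¹)⁻¹ * (b' * b₁ * b'⁻¹) := by
        rw [commutatorElement_def]; group
      have t2 : b' * b₁ * b'⁻¹ = b₁ := by rw [← cb₁b']; group
      rw [t1, t2, h₂, commutatorElement_def]
      have t3 : b₂ * b₁⁻¹ * b₂⁻¹ = b₁⁻¹ := by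
        rw [mul_inv_eq_iff_eq_mul, mul_inv_eq_iff_eq_mul, mul_assoc, cb₂b₁]; group
      calc a₂ * b₂ * b₁⁻¹ * (a₂ * b₂)⁻¹ * b₁ = a₂ * (b₂ * b₁⁻¹ * b₂⁻¹) * a₂⁻¹ * b₁ := by group
        _ = _ := by rw [t3]; group
    have e3 : b' * ⁅a, b⁆ * b'⁻¹ = ⁅a₂, b⁆ := by
      have t1 : b' * ⁅a, b⁆ * b'⁻¹ =
          (b' * a * b'⁻¹) * (b' * b * b'⁻¹) * (b' * a * b'⁻¹)⁻¹ * (b' * b * b'⁻¹)⁻¹ := by
        rw [commutatorElement_def]; group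
      have t2 : b' * b * b'⁻¹ = b := by rw [← cbb']; group
      rw [t1, t2, h₂, commutatorElement_def]
      have t3 : b₂ * b * b₂⁻¹ = b := by rw [cb₂b]; group
      calc a₂ * b₂ * b * (a₂ * b₂)⁻¹ * b⁻¹ = a₂ * (b₂ * b * b₂⁻¹) * a₂⁻¹ * b⁻¹ := by group
        _ = _ := by rw [t3]
    have e4 : a' * ⁅a₂, b⁆ * a'⁻¹ = ⁅a₂, b₁⁻¹⁆ := by
      have t1 : a' * ⁅a₂, b⁆ * a'⁻¹ =
          (a' * a₂ * a'⁻¹) * (a' * b⁻¹ * a'⁻¹)⁻¹ * (a' * a₂ * a'⁻¹)⁻¹ * (a' * b⁻¹ * a'⁻¹) := by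
        rw [commutatorElement_def]; group
      have t2 : a' * a₂ * a'⁻¹ = a₂ := by rw [← ca₂a']; group
      rw [t1, t2, h₁, commutatorElement_def]
      calc a₂ * (a₁ * b₁)⁻¹ * a₂⁻¹ * (a₁ * b₁) = a₂ * b₁⁻¹ * (a₁⁻¹ * (a₂ * a₁⁻¹)⁻¹ ) * b₁ := by
            have : a₂⁻¹ * a₁ = (a₂ * a₁⁻¹)⁻¹ := by
              rw [mul_inv_rev, inv_inv, eq_mul_inv_iff_mul_eq, mul_assoc, ← ca₂a₁]; group
            rw [← this]; group
        _ = a₂ * b₁⁻¹ * a₂⁻¹ * b₁⁻¹⁻¹ := by group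
    rw [e1, e2, e3, e4]
  have := main ha (A.inv_mem ha') hb (B.inv_mem hb')
  unfold Commute SemiconjBy
  have h2 : ⁅a', b'⁆ * ⁅a, b⁆ = a' * b' * (a'⁻¹ * (b'⁻¹ * ⁅a, b⁆ * b'⁻¹⁻¹) * a'⁻¹⁻¹) * a'⁻¹ * b'⁻¹ := by
    rw [commutatorElement_def a' b']; group
  rw [h2, ← this, commutatorElement_def a' b']
  group

theorem commutator_eq {G : Type*} [Group G] (A B : Subgroup G) [hA : IsMulCommutative A]
    [hB : IsMulCommutative B] (hAB : ∀ g : G, ∃ a ∈ A, ∃ b ∈ B, g = a * b) :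
    commutator G = ⁅A, B⁆ := by
  have htop : A ⊔ B = ⊤ := by
    rw [eq_top_iff]
    intro g _
    obtain ⟨a, ha, b, hb, rfl⟩ := hAB g
    exact Subgroup.mul_mem_sup ha hb
  have hn : (⁅A, B⁆ : Subgroup G).Normal := by
    rw [← Subgroup.normalizer_eq_top_iff, eq_top_iff, ← htop]
    exact sup_le (Subgroup.normalizer_commutator_ge_left A B)
      (Subgroup.normalizer_commutator_ge_right A B)
  apply le_antisymm
  · rw [← Subgroup.Normal.quotient_commutative_iff_commutator_le]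
    refine ⟨⟨fun x y => ?_⟩⟩
    obtain ⟨x, rfl⟩ := QuotientGroup.mk_surjective x
    obtain ⟨y, rfl⟩ := QuotientGroup.mk_surjective y
    obtain ⟨a, ha, b, hb, rfl⟩ := hAB x
    obtain ⟨a', ha', b', hb', rfl⟩ := hAB y
    have c : ∀ a ∈ A, ∀ b ∈ B, Commute (a : G ⧸ ⁅A, B⁆) (b : G ⧸ ⁅A, B⁆) := by
      intro a ha b hb
      rw [← commutatorElement_eq_one_iff_commute]
      exact (QuotientGroup.eq_one_iff ⁅a, b⁆).mpr (Subgroup.commutator_mem_commutator ha hb)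
    have caa : Commute (a : G ⧸ ⁅A, B⁆) (a' : G ⧸ ⁅A, B⁆) :=
      congrArg QuotientGroup.mk (H2.mul_comm_of_mem hA ha ha')
    have cbb : Commute (b : G ⧸ ⁅A, B⁆) (b' : G ⧸ ⁅A, B⁆) :=
      congrArg QuotientGroup.mk (H2.mul_comm_of_mem hB hb hb')
    simp only [QuotientGroup.mk_mul]
    exact (caa.mul_right (c a ha b' hb')).mul_left ((c a' ha' b hb).symm.mul_right cbb)
  · exact Subgroup.commutator_mono le_top le_top

/-- Itô's Theorem: if a group G is the product AB of two abelian subgroups, then the commutator subgroup of G is abelian, i.e. the second term of the derived series is trivial. -/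
theorem result {G : Type*} [Group G] (A B : Subgroup G) [IsMulCommutative A] [IsMulCommutative B] (hAB : ∀ g : G, ∃ a ∈ A, ∃ b ∈ B, g = a * b) : derivedSeries G 2 = ⊥ := by
  have h2 : derivedSeries G 2 = ⁅commutator G, commutator G⁆ := rfl
  rw [h2, commutator_eq A B hAB, Subgroup.commutator_eq_bot_iff_le_centralizer,
    Subgroup.commutator_def, Subgroup.centralizer_closure, Subgroup.closure_le]
  rintro _ ⟨a, ha, b, hb, rfl⟩ _ ⟨a', ha', b', hb', rfl⟩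
  exact key A B hAB ha ha' hb hb'

end Cfsg.Agent.S0572
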