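import Cfsg.Statements.S0380
import Mathlib
import Cfsg.Agent.H56.Mod.L34
import Cfsg.Agent.H14.MathieuIso

set_option autoImplicit false
open Cfsg

namespace Cfsg.Agent.S0380

open H14 H56

def mA : List ℕ := [nat_lit 0xea442751844181b09250b7ccac, nat_lit 0x14838b30c9445b52801a2c10de7]
def mB : List ℕ := [nat_lit 0xbc851b3c6e652a83a4c58366a59020, nat_lit 0xbbc6e52e25b50ec94d2269a04aa020]
def mS : List ℕ := [nat_lit 0x2c9d79ab9188e1a6a75c79b6a58a87e065654e5110472860840c035048920b3d314c, nat_lit 0x2c9188df8266aba5c867a1e5e26e566a75655440e1530522842cd24800644c0833c7]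
def mCertL0 : Lev := ⟨nat_lit 23, nat_lit 0xfffff800000, (.node (nat_lit 33) (.node (nat_lit 28) (.node (nat_lit 25) (.node (nat_lit 24) (.leaf (nat_lit 0x2caeaa689e69648e28607de75c6da6585d65544d24503ce34c2ca2481c61440c2040)) (.leaf (nat_lit 0x2c860a5e718a279a5764adb66a8a37d769654e1c621415100b0c23503090444cf292))) (.node (nat_lit 26) (.leaf (nat_lit 0x2ca228daae972795b91865f86079d5e6a965530874880d424010f18540e04c2cd44a)) (.node (nat_lit 27) (.leaf (nat_lit 0x2cade65a9619a89df8e46296ea89771d81654a3c744914338120234c4c449440600b)) (.leaf (nat_lit 0x2c85f82475c99a619a238aaae95e76e579654918521130d5032844d20421cf00e40b))))) (.node (nat_lit 30) (.node (nat_lit 29) (.leaf (nat_lit 0x2c75c99b960ae46236a19e27d7aa9799a1654648940e2013033d308710d14b50a011)) (.leaf (nat_lit 0x2c9188df8266aba5c867a1e5e26e566a75655440e1530522842cd24800644c0833c7))) (.node (nat_lit 31) (.leaf (nat_lit 0x2c75e7216a562881fae9a979e66648a36d654d24840110238f00b51115348a3061c3))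 (.node (nat_lit 32) (.leaf (nat_lit 0x2c69b95da2382b71e9e65d99187e1aa98965423501c52d318a30338121444010948f)) (.leaf (nat_lit 0x2c96881d91961a99c7d78aaa6b8db9e17965411900044cd28b51130e2421cf212143)))))) (.node (nat_lit 38) (.node (nat_lit 35) (.node (nat_lit 34) (.leaf (nat_lit 0x2c81d9a4aeaa618d85e279b95a71fa276565525053c03460cc08729338920b050444)) (.leaf (nat_lit 0x2c919627860a5d9976a56e2a23aab79c7d65463811520094cb3cc08744d403294204))) (.node (nat_lit 36) (.leaf (nat_lit 0x2c76b92766a6235df7a696086969c8a86d654d2414082c03930841c628f305491503)) (.node (nat_lit 37) (.leaf (nat_lit 0x2cad9aa08678d799d95a6dc7e96247a2a1654648f44e1c940b0440c014a4c235420c)) (.leaf (nat_lit 0x2c65ba9d8e85de92b86981a7187e796689654035050a10f4454833880471822c9313))))) (.node (nat_lit 41) (.node (nat_lit 39) (.leaf (nat_lit 0x2c71a6219d799da6066a6e28e895eae47d655138828c0893c44d201418d40314704b)) (.node (nat_lit 40) (.leaf (nat_lit 0x2c8689eb5e29a5a997e97189237606da79654919120510a50234c40e3c30011d24cb))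 (.leaf (nat_lit 0x2c69f9d7ad9aa59a2a1d7188e4a5b82179654f1931cc40a34b50511224300120e442)))) (.node (nat_lit 42) (.leaf (nat_lit 0x2c9df5dc764a5961a8e88a57a68216eaad654944a04648d1c314b3cc20051308e404)) (.node (nat_lit 43) (.leaf (nat_lit 0x2c9d79ab9188e1a6a75c79b6a58a87e065654e5110472860840c035048920b3d314c)) (.leaf (nat_lit 0x2c5e299b6a792baa996181ca1d6237997d65463894d220f1020500c030a44b50d1c5)))))))⟩
def mCertC0 : LevCert := ⟨mCertL0,
    [(nat_lit 42, nat_lit 0), (nat_lit 29, nat_lit 1), (nat_lit 34, nat_lit 0), (nat_lit 24, nat_lit 1), (nat_lit 33, nat_lit 0), (nat_lit 27, nat_lit 0), (nat_lit 28, nat_lit 1), (nat_lit 38, nat_lit 0), (nat_lit 36, nat_lit 0), (nat_lit 30, nat_lit 0), (nat_lit 32, nat_lit 0), (nat_lit 41, nat_lit 0), (nat_lit 39, nat_lit 0), (nat_lit 43, nat_lit 1), (nat_lit 31, nat_lit 0), (nat_lit 35, nat_lit 0), (nat_lit 40, nat_lit 0), (nat_lit 25, nat_lit 0), (nat_lit 37, nat_lit 0), (nat_lit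 26, nat_lit 0)],
    [[nat_lit 0, nat_lit 0, nat_lit 0, nat_lit 0, nat_lit 0, nat_lit 2, nat_lit 2, nat_lit 2, nat_lit 0, nat_lit 0, nat_lit 2], [nat_lit 4, nat_lit 2, nat_lit 2, nat_lit 4, nat_lit 2, nat_lit 4, nat_lit 2, nat_lit 2]],
    [nat_lit 0x2c89e8df868ada6e5827998764a5c66a5d65544ce35004b00948510f2831cc086211, nat_lit 0x2c6a07dda2b99e663a9ba647278656225d65434d01ca24431444120200518e34f48b]⟩
def mCertL1 : Lev := ⟨nat_lit 24, nat_lit 0xfffff000000, (.node (nat_lit 34) (.node (nat_lit 29) (.node (nat_lit 26) (.node (nat_lit 25) (.leaf (nat_lit 0x2caeaa689e69648e28607de75c6da6585d65544d24503ce34c2ca2481c61440c2040)) (.leaf (nat_lit 0x2c6a07dda2b99e663a9ba647278656225d65434d01ca24431444120200518e34f48b))) (.node (nat_lit 27) (.leaf (nat_lit 0x2ca25822a636e199c7de76792b658a9a5d65424cd48519028b31150e0c120f1c0109)) (.node (nat_lit 28) (.leaf (nat_lit 0x2c8a36da76495c799867a2a82661fae95d65514c734f05250614b0c838228910c400))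 (.leaf (nat_lit 0x2c6da66379d72b828a5f8a59189a1aa75d65424cc24538d48f4032c420045404718a))))) (.node (nat_lit 31) (.node (nat_lit 30) (.leaf (nat_lit 0x2c85f8a48db765aa06a666b61ea5c9e85d65414c52032d43c224610729100d48e310)) (.leaf (nat_lit 0x2c89e8df868ada6e5827998764a5c66a5d65544ce35004b00948510f2831cc086211))) (.node (nat_lit 32) (.leaf (nat_lit 0x2ca1d6a77d97238aa7a96269208656eb5d65494c148510308d50f20600b30745038a)) (.node (nat_lit 33) (.leaf (nat_lit 0x2c7eb9e58dba60a249987616a266a79c5d65464c03870d015224d50b0883c1291304)) (.leaf (nat_lit 0x2c921a1d9a57ea6696236dc6a09e27ab5d65464d014730911400f04334a0924482ce)))))) (.node (nat_lit 39) (.node (nat_lit 36) (.node (nat_lit 35) (.leaf (nat_lit 0x2c9a17e772569e8986eaa64a1d82b8d95d654c4c12d20840cd0103c944518e508287)) (.leaf (nat_lit 0x2c95ba5c75aae46198217de9e8aa68a35d654d4ca00120e5031d208f2c6144309411))) (.node (nat_lit 37) (.leaf (nat_lit 0x2c72799d7e2a1865b7a98da92182baa55d65424d028510c2543483c64470cb001392))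 (.node (nat_lit 38) (.leaf (nat_lit 0x2c699825aa961d7e671b9e1a2b89e8e45d654c4c01d22412ce11134a18840f154083)) (.leaf (nat_lit 0x2c75c968a589d98e091f8ab79baa685a5d65484d240638d3cc0c90852d15001ca101))))) (.node (nat_lit 41) (.node (nat_lit 40) (.leaf (nat_lit 0x2ca5c65b61d9229df8e696b6aaa207a15d65464c91072c038140248c3d135420a0c5)) (.leaf (nat_lit 0x2c7266589216eb9ea7e98a57a369da205d65524c328610d08120c1ce4004543cb149))) (.node (nat_lit 42) (.leaf (nat_lit 0x2c65e61f81c966aab85d6a39e4a6889b5d654d4ce50140744228510848c2c32463c0)) (.node (nat_lit 43) (.leaf (nat_lit 0x2c9586e681f89ca6b9e1a2a75a8e465e5d65544cb0102124443873011422891833cd)) (.leaf (nat_lit 0x2c6248a96e79ab81aa9c959a1e7dd8e15d654c4c40d22801cf04638241444d20524b)))))))⟩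
def mCertC1 : LevCert := ⟨mCertL1,
    [(nat_lit 30, nat_lit 0), (nat_lit 25, nat_lit 1), (nat_lit 42, nat_lit 0), (nat_lit 36, nat_lit 1), (nat_lit 35, nat_lit 1), (nat_lit 33, nat_lit 1), (nat_lit 28, nat_lit 0), (nat_lit 41, nat_lit 0), (nat_lit 34, nat_lit 1), (nat_lit 39, nat_lit 0), (nat_lit 27, nat_lit 1), (nat_lit 26, nat_lit 0), (nat_lit 29, nat_lit 1), (nat_lit 31, nat_lit 1), (nat_lit 43, nat_lit 0), (nat_lit 32, nat_lit 0), (nat_lit 40, nat_lit 1), (nat_lit 37, nat_lit 0), (nat_lit 38, nat_lit 1)],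
    [[nat_lit 2, nat_lit 0, nat_lit 2, nat_lit 2, nat_lit 2], [nat_lit 4, nat_lit 4, nat_lit 2, nat_lit 2, nat_lit 4, nat_lit 2, nat_lit 4, nat_lit 4, nat_lit 4, nat_lit 2], [nat_lit 4, nat_lit 6, nat_lit 4, nat_lit 6, nat_lit 6, nat_lit 4, nat_lit 4, nat_lit 6, nat_lit 4, nat_lit 6, nat_lit 4, nat_lit 4, nat_lit 4, nat_lit 4, nat_lit 4, nat_lit 4, nat_lit 6, nat_lit 4]],
    [nat_lit 0x2c75baea79a9e29a07e4665a5ca238585d65484c24041543cb1ca48e3003510c9181, nat_lit 0x2c8197e27239e96a1a1b91eaa5ae67585d65504cd3c22452073004522c610e0d4281, nat_lit 0x2c95c7db866ade8d99dda6482aa1a8985d654d4c900f40450c2c24811c518e0ca211]⟩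
def mCertL2 : Lev := ⟨nat_lit 26, nat_lit 0x4804000000, (.node (nat_lit 35) (.leaf (nat_lit 0x2caeaa689e69648e28607de75c6da6585d65544d24503ce34c2ca2481c61440c2040)) (.node (nat_lit 38) (.leaf (nat_lit 0x2c8197e27239e96a1a1b91eaa5ae67585d65504cd3c22452073004522c610e0d4281)) (.leaf (nat_lit 0x2c75baea79a9e29a07e4665a5ca238585d65484c24041543cb1ca48e3003510c9181))))⟩
def mCertC2 : LevCert := ⟨mCertL2,
    [(nat_lit 38, nat_lit 0), (nat_lit 35, nat_lit 1)],
    [[nat_lit 2, nat_lit 0, nat_lit 4, nat_lit 4], [nat_lit 6], [nat_lit 4, nat_lit 4, nat_lit 6, nat_lit 8, nat_lit 6, nat_lit 6, nat_lit 6, nat_lit 8, nat_lit 4, nat_lit 6, nat_lit 6, nat_lit 4, nat_lit 8, nat_lit 8, nat_lit 4, nat_lit 8, nat_lit 6, nat_lit 6], [nat_lit 8, nat_lit 6, nat_lit 10, nat_lit 8, nat_lit 10, nat_lit 6, nat_lit 10, nat_lit 8, nat_lit 8, nat_lit 8, nat_lit 10]],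
    [nat_lit 0x2caab8197a67218db9297677e589aa185d65524d408e11024c2c03451c120f0d118a, nat_lit 0x2c95c7db866ade8d99dda6482aa1a8985d654d4c900f40450c2c24811c518e0ca211, nat_lit 0x2c75f71e66681b8e18a5aa8ae991a9d85d65414c641100220c2c414d1d224a0ce50f, nat_lit 0x2c66892a7668a98e582179f9db71aad85d65514c250120600c2c928f1ce1050d240d]⟩
def mCertL3 : Lev := ⟨nat_lit 25, nat_lit 0xfb7fa000000, (.node (nat_lit 34) (.node (nat_lit 30) (.node (nat_lit 28) (.node (nat_lit 27) (.leaf (nat_lit 0x2caeaa689e69648e28607de75c6da6585d65544d24503ce34c2ca2481c61440c2040)) (.leaf (nat_lit 0x2c725762926aa78e879f821a6b65a6d85d65494cd28438f48c2d15061c80500c0142))) (.node (nat_lit 29) (.leaf (nat_lit 0x2c6e29e5a66a1d8ea7de860919ada7185d654a4c024518808c2d444e1cf4010cd112)) (.leaf (nat_lit 0x2c9de6dfae685c8e0962a2a664a5a7585d65504ce0543523cc2c51001c22890c6448)))) (.node (nat_lit 32) (.node (nat_lit 31) (.leaf (nat_lit 0x2c7dd967a26a628e46dcad9aa085a7985d65464c138229114c2cf2091d43400d0484))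 (.leaf (nat_lit 0x2c7a789daa69258e971b66ba2181a7d85d654e4d019225410c2c83ca1d100d0c1085))) (.node (nat_lit 33) (.leaf (nat_lit 0x2c864a299669ea8ddad96dc89e7da8185d654f4c420d50940c2c63911ca0920c5001)) (.leaf (nat_lit 0x2c829aa48a67688e766b71b95f79a8585d65484c53c044a04c2ce1941c94820c4350))))) (.node (nat_lit 40) (.node (nat_lit 37) (.node (nat_lit 36) (.leaf (nat_lit 0x2c95c7db866ade8d99dda6482aa1a8985d654d4c900f40450c2c24811c518e0ca211)) (.leaf (nat_lit 0x2ca60ae16e67d98dea2a96271d9da9185d65454c810a08018c2d00521cd5110cf24e))) (.node (nat_lit 39) (.leaf (nat_lit 0x2c89b79c82665f8eb767929868a9a9585d65404ca34804544c2d20901c43860c93d4)) (.leaf (nat_lit 0x2c75f71e66681b8e18a5aa8ae991a9d85d65414c641100220c2c414d1d224a0ce50f)))) (.node (nat_lit 42) (.node (nat_lit 41) (.leaf (nat_lit 0x2caab8197a67218db9297677e589aa185d65524d408e11024c2c03451c120f0d118a)) (.leaf (nat_lit 0x2c9216607267ab8dfaa88a56e775aa585d65444cf14948d38c2c14021c04540c8286)))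 (.node (nat_lit 43) (.leaf (nat_lit 0x2ca1986b7e66e08dca649dd7a295aa985d65424d148614128c2cd0041d03c80d4389)) (.leaf (nat_lit 0x2c66892a7668a98e582179f9db71aad85d65514c250120600c2c928f1ce1050d240d))))))⟩
def mCertC3 : LevCert := ⟨mCertL3,
    [(nat_lit 40, nat_lit 0), (nat_lit 34, nat_lit 1), (nat_lit 39, nat_lit 2), (nat_lit 43, nat_lit 3), (nat_lit 27, nat_lit 1), (nat_lit 30, nat_lit 2), (nat_lit 42, nat_lit 3), (nat_lit 33, nat_lit 2), (nat_lit 37, nat_lit 3), (nat_lit 29, nat_lit 3), (nat_lit 36, nat_lit 2), (nat_lit 28, nat_lit 3), (nat_lit 31, nat_lit 3), (nat_lit 32, nat_lit 3), (nat_lit 41, nat_lit 3)],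
    [],
    []⟩
def mCert : List LevCert := [mCertC0, mCertC1, mCertC2, mCertC3]
def mCertL : List Lev := [mCertL0, mCertL1, mCertL2, mCertL3]
def mCertAL0 : Lev := ⟨nat_lit 0, nat_lit 0x1fffff, (.node (nat_lit 10) (.node (nat_lit 5) (.node (nat_lit 2) (.node (nat_lit 1) (.leaf (nat_lit 0x149ca307b9ac5a928398a418820)) (.leaf (nat_lit 0x69260e405837cc47234aba2811))) (.node (nat_lit 3) (.leaf (nat_lit 0x98b4e68148f552725890370181)) (.node (nat_lit 4) (.leaf (nat_lit 0x9315116368351272088ef03a0b)) (.leaf (nat_lit 0x26c0e55ccca60dc1452202264f))))) (.node (nat_lit 7) (.node (nat_lit 6) (.leaf (nat_lit 0x93450522a826b20e78c013ca6b)) (.leaf (nat_lit 0x98a826934e32adec4029313a04))) (.node (nat_lit 8) (.leaf (nat_lit 0x14838b30c9445b52801a2c10de7)) (.node (nat_lit 9) (.leaf (nat_lit 0x693e2e3a60b090602aa626d10c)) (.leaf (nat_lit 0x117214c125e49c8143360329c2b)))))) (.node (nat_lit 15) (.node (nat_lit 12) (.node (nat_lit 11)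 (.leaf (nat_lit 0xea442751844181b09250b7ccac)) (.leaf (nat_lit 0xd4a201209cf02e912ce4a618e3))) (.node (nat_lit 13) (.leaf (nat_lit 0x1311e481d12023cc58382c5b62a)) (.node (nat_lit 14) (.leaf (nat_lit 0xe399142c40b189b0624249bd52)) (.leaf (nat_lit 0xd48608581d3110e653d8594683))))) (.node (nat_lit 18) (.node (nat_lit 16) (.leaf (nat_lit 0x6704b20266b7b0478b60355104)) (.node (nat_lit 17) (.leaf (nat_lit 0x12a15e06986c11d537250b0c224)) (.leaf (nat_lit 0x1340049b54ba458e488ef448a3)))) (.node (nat_lit 19) (.leaf (nat_lit 0xd080a988a4f40d44831d4998eb)) (.node (nat_lit 20) (.leaf (nat_lit 0x1201914894eb10d53225ec805ae)) (.leaf (nat_lit 0x6c28a23e2590dc809cc25a593)))))))⟩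
def mCertAC0 : LevCert := ⟨mCertAL0,
    [(nat_lit 10, nat_lit 0), (nat_lit 7, nat_lit 1), (nat_lit 15, nat_lit 0), (nat_lit 13, nat_lit 1), (nat_lit 16, nat_lit 0), (nat_lit 3, nat_lit 0), (nat_lit 1, nat_lit 1), (nat_lit 9, nat_lit 0), (nat_lit 8, nat_lit 0), (nat_lit 19, nat_lit 1), (nat_lit 11, nat_lit 0), (nat_lit 2, nat_lit 1), (nat_lit 17, nat_lit 0), (nat_lit 6, nat_lit 0), (nat_lit 5, nat_lit 0), (nat_lit 4, nat_lit 0), (nat_lit 18, nat_lit 0), (nat_lit 14, nat_lit 0), (nat_lit 12, nat_lit 0), (nat_lit 20, nat_lit 0)],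
    [[nat_lit 0, nat_lit 2, nat_lit 0, nat_lit 0, nat_lit 0, nat_lit 2, nat_lit 0, nat_lit 2], [nat_lit 2, nat_lit 2, nat_lit 2, nat_lit 2, nat_lit 2, nat_lit 4, nat_lit 2]],
    [nat_lit 0x11bccd831428c88929d73451c0, nat_lit 0x101456f3508a4a06d9b82c914e0]⟩
def mCertAL1 : Lev := ⟨nat_lit 1, nat_lit 0x1ffffe, (.node (nat_lit 11) (.node (nat_lit 6) (.node (nat_lit 3) (.node (nat_lit 2) (.leaf (nat_lit 0x149ca307b9ac5a928398a418820)) (.leaf (nat_lit 0xe440ea68a5433e645962348580))) (.node (nat_lit 4) (.leaf (nat_lit 0x741254489cf9a98b80cb10b4c0)) (.node (nat_lit 5) (.leaf (nat_lit 0x12714ea5b1101cc8f4d04169a20)) (.leaf (nat_lit 0x101456f3508a4a06d9b82c914e0))))) (.node (nat_lit 8) (.node (nat_lit 7) (.leaf (nat_lit 0x105c48763449429f3a04b233860)) (.leaf (nat_lit 0x7919c47a9055c5830cd226c280))) (.node (nat_lit 9) (.leaf (nat_lit 0xc7a933418b2a2dc1188ed24600)) (.node (nat_lit 10) (.leaf (nat_lit 0x116ae8854266394241246e7c980))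 (.leaf (nat_lit 0x56512b3c5e8205d369a5050860)))))) (.node (nat_lit 16) (.node (nat_lit 13) (.node (nat_lit 12) (.leaf (nat_lit 0xd99e8a13a300b1724148678d20)) (.leaf (nat_lit 0xc4b4b2551e13c0738acc823840))) (.node (nat_lit 14) (.leaf (nat_lit 0xa31c6ba483323da87323028920)) (.node (nat_lit 15) (.leaf (nat_lit 0xda1a30386722250a1b1c27aca0)) (.leaf (nat_lit 0x77110c0c24a7ccc25b46989680))))) (.node (nat_lit 18) (.node (nat_lit 17) (.leaf (nat_lit 0xc2a1e169d3330a327428a20d60)) (.leaf (nat_lit 0x3330223a54e2464f2d10b9c1a0))) (.node (nat_lit 19) (.leaf (nat_lit 0x280487a0d7193e6a325ae620a0)) (.node (nat_lit 20) (.leaf (nat_lit 0xa09ccd2b86f991324099484560)) (.leaf (nat_lit 0x11bccd831428c88929d73451c0)))))))⟩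
def mCertAC1 : LevCert := ⟨mCertAL1,
    [(nat_lit 20, nat_lit 0), (nat_lit 5, nat_lit 1), (nat_lit 2, nat_lit 0), (nat_lit 14, nat_lit 1), (nat_lit 7, nat_lit 0), (nat_lit 12, nat_lit 0), (nat_lit 19, nat_lit 1), (nat_lit 6, nat_lit 1), (nat_lit 4, nat_lit 1), (nat_lit 17, nat_lit 0), (nat_lit 15, nat_lit 1), (nat_lit 9, nat_lit 0), (nat_lit 13, nat_lit 1), (nat_lit 11, nat_lit 0), (nat_lit 18, nat_lit 1), (nat_lit 16, nat_lit 1), (nat_lit 8, nat_lit 0), (nat_lit 10, nat_lit 0), (nat_lit 3, nat_lit 1)],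
    [[nat_lit 0, nat_lit 2, nat_lit 2, nat_lit 0, nat_lit 2, nat_lit 2, nat_lit 0, nat_lit 2, nat_lit 0, nat_lit 2, nat_lit 2, nat_lit 2, nat_lit 2, nat_lit 0], [nat_lit 2, nat_lit 4, nat_lit 4, nat_lit 2, nat_lit 2, nat_lit 4, nat_lit 4, nat_lit 2, nat_lit 4, nat_lit 2, nat_lit 2], [nat_lit 4, nat_lit 4, nat_lit 4, nat_lit 6, nat_lit 4, nat_lit 6, nat_lit 4, nat_lit 4, nat_lit 6, nat_lit 6, nat_lit 4, nat_lit 6]],
    [nat_lit 0x116a28b29e6982992719e219020, nat_lit 0x138968723db090c496296e32020, nat_lit 0x87464c14cf04a974698851bc20]⟩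
def mCertAL2 : Lev := ⟨nat_lit 2, nat_lit 0x1ffbb4, (.node (nat_lit 13) (.node (nat_lit 8) (.node (nat_lit 5) (.node (nat_lit 4) (.leaf (nat_lit 0x149ca307b9ac5a928398a418820)) (.leaf (nat_lit 0x116a28b29e6982992719e219020))) (.node (nat_lit 7) (.leaf (nat_lit 0x123d109235cb62a119984f19420)) (.leaf (nat_lit 0xd9928f42e32499d010cec51420)))) (.node (nat_lit 11) (.node (nat_lit 9) (.leaf (nat_lit 0x11a2e6c711a72990280e4f52420)) (.leaf (nat_lit 0x138968723db090c496296e32020))) (.node (nat_lit 12) (.leaf (nat_lit 0x97d0b04458710e536a9cb31020)) (.leaf (nat_lit 0x146a6725b22238e057a88833820))))) (.node (nat_lit 17) (.node (nat_lit 15) (.node (nat_lit 14) (.leaf (nat_lit 0x105d0922cc4f7192d88d8752020)) (.leaf (nat_lit 0xe9110d288ec88deb8293335020))) (.node (nat_lit 16) (.leaf (nat_lit 0x87464c14cf04a974698851bc20)) (.leaf (nat_lit 0x564d22735f280cf48a90432c20)))) (.node (nat_lit 19) (.node (nat_lit 18) (.leaf (nat_lit 0x10248498a17328e87729ac33c20))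 (.leaf (nat_lit 0x740a53791c9a0cb05a98d34420))) (.node (nat_lit 20) (.leaf (nat_lit 0xb1208ca4a0d78e2e3aa6931420)) (.leaf (nat_lit 0x224d674d20c418b168df253820))))))⟩
def mCertAC2 : LevCert := ⟨mCertAL2,
    [(nat_lit 4, nat_lit 0), (nat_lit 9, nat_lit 1), (nat_lit 15, nat_lit 2), (nat_lit 5, nat_lit 2), (nat_lit 12, nat_lit 0), (nat_lit 8, nat_lit 1), (nat_lit 11, nat_lit 2), (nat_lit 14, nat_lit 1), (nat_lit 18, nat_lit 1), (nat_lit 7, nat_lit 1), (nat_lit 16, nat_lit 2), (nat_lit 20, nat_lit 2), (nat_lit 19, nat_lit 2), (nat_lit 17, nat_lit 2), (nat_lit 13, nat_lit 2)],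
    [[nat_lit 2, nat_lit 0, nat_lit 4, nat_lit 0, nat_lit 4, nat_lit 4, nat_lit 2, nat_lit 4, nat_lit 0]],
    [nat_lit 0xe3be448b114819a928e6b50820]⟩
def mCertAL3 : Lev := ⟨nat_lit 3, nat_lit 0x448, (.node (nat_lit 6) (.leaf (nat_lit 0x149ca307b9ac5a928398a418820)) (.node (nat_lit 10) (.leaf (nat_lit 0xe3be448b114819a928e6b50820)) (.leaf (nat_lit 0xc2c5eb9512e20d0d9a8f030820))))⟩
def mCertAC3 : LevCert := ⟨mCertAL3,
    [(nat_lit 6, nat_lit 0), (nat_lit 10, nat_lit 0)],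
    [],
    []⟩
def mCertA : List LevCert := [mCertAC0, mCertAC1, mCertAC2, mCertAC3]
def mCertAL : List Lev := [mCertAL0, mCertAL1, mCertAL2, mCertAL3]
theorem m_ok : isoOK 21 5 32 24 5 32 45 6 L34.certL m24CertL.tail.tail.tail mA mB mS mCert mCertA = true := by
  decide +kernel
theorem m_ss : ssOK 6 64 45 mCert mS = true := by
  decide +kernel
theorem m_equiv : Nonempty (M21 ≃* L34.K) :=
  equiv_of_isoOK m21_chain L34.chain 45 6 64 rfl rfl (by decide) m_ok m_ss (by decide +kernel)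


/-- A three-point stabiliser in the group of the length-24 code is isomorphic to PSL(3, F) for the field F with 4 elements. -/
theorem result (p q r : Cfsg.GolayPt) (hpq : p ≠ q) (hpr : p ≠ r) (hqr : q ≠ r) (F : Type) [Field F] [Fintype F] (hF : Fintype.card F = 4) : Nonempty (↥(MulAction.stabilizer Cfsg.M24 p ⊓ MulAction.stabilizer Cfsg.M24 q ⊓ MulAction.stabilizer Cfsg.M24 r) ≃* Matrix.ProjectiveSpecialLinearGroup (Fin 3) F) := by
  obtain ⟨e1⟩ := isoM21 hpq hpr hqr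
  obtain ⟨e2⟩ := m_equiv
  obtain ⟨e3⟩ := L34.equiv hF
  exact ⟨e1.trans (e2.trans e3.symm)⟩

end Cfsg.Agent.S0380
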