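import Cfsg.Statements.S0819
import Cfsg.Agent.H29.F4
import Cfsg.Agent.H29.Transport

set_option autoImplicit false
open Cfsg

namespace Cfsg.Agent.S0819

open Matrix H29

theorem cayley_three {R : Type*} [CommRing R] (A : Matrix (Fin 3) (Fin 3) R) :
    A * A * A = A.trace • (A * A) - A.adjugate.trace • A + A.det • (1 : Matrix (Fin 3) (Fin 3) R) := by
  ext i j
  fin_cases i <;> fin_cases j <;>
    simp [Matrix.mul_apply, Fin.sum_univ_three, Matrix.trace, Matrix.adjugate_fin_three,
      Matrix.det_fin_three] <;> ring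

/-- coefficients of `A^k` in the basis `A^2, A, 1`. -/
def co {R : Type*} [CommRing R] (t s : R) : ℕ → R × R × R
  | 0 => (0, 0, 1)
  | k + 1 => ((co t s k).1 * t + (co t s k).2.1, (co t s k).2.2 - (co t s k).1 * s, (co t s k).1)

theorem pow_eq_co {R : Type*} [CommRing R] (A : Matrix (Fin 3) (Fin 3) R) (hA : A.det = 1) (k : ℕ) :
    A ^ k = (co A.trace A.adjugate.trace k).1 • (A * A) + (co A.trace A.adjugate.trace k).2.1 • A
      + (co A.trace A.adjugate.trace k).2.2 • (1 : Matrix (Fin 3) (Fin 3) R) := by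
  induction k with
  | zero => simp [co]
  | succ k ih =>
    rw [pow_succ, ih]
    simp only [co, add_mul, smul_mul_assoc, one_mul]
    rw [cayley_three A, hA]
    module

theorem key : ∀ t s : F4, ∃ k ∈ [3, 4, 5, 7], (co t s k).1 = 0 ∧ (co t s k).2.1 = 0 := by
  decide

theorem result' (g : Matrix.ProjectiveSpecialLinearGroup (Fin 3) F4) : orderOf g ≠ 15 := by
  intro hg
  obtain ⟨A, rfl⟩ := QuotientGroup.mk_surjective g
  obtain ⟨k, hk, h1, h2⟩ := key (A : Matrix (Fin 3) (Fin 3) F4).trace
    (A : Matrix (Fin 3) (Fin 3) F4).adjugate.trace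
  have h := pow_eq_co (A : Matrix (Fin 3) (Fin 3) F4) A.2 k
  rw [h1, h2, zero_smul, zero_smul, zero_add, zero_add] at h
  have hc : A ^ k ∈ Subgroup.center (Matrix.SpecialLinearGroup (Fin 3) F4) := by
    rw [Subgroup.mem_center_iff]
    intro B
    apply Subtype.ext
    rw [Matrix.SpecialLinearGroup.coe_mul, Matrix.SpecialLinearGroup.coe_mul,
      Matrix.SpecialLinearGroup.coe_pow, h]
    simp
  have h3 : (QuotientGroup.mk A : Matrix.ProjectiveSpecialLinearGroup (Fin 3) F4) ^ k = 1 := by
    rw [← QuotientGroup.mk_pow, QuotientGroup.eq_one_iff]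
    exact hc
  have h4 := orderOf_dvd_of_pow_eq_one h3
  rw [hg] at h4
  simp only [List.mem_cons, List.not_mem_nil, or_false] at hk
  rcases hk with rfl | rfl | rfl | rfl <;> omega

/-- No element of PSL_3(4) has order 15. -/
theorem result {F : Type*} [Field F] [Fintype F] (hF : Fintype.card F = 4) (g : Matrix.ProjectiveSpecialLinearGroup (Fin 3) F) : orderOf g ≠ 15 := by
  rw [← (pslEquiv (Fin 3) (equivF4 hF)).orderOf_eq g]
  exact result' _

end Cfsg.Agent.S0819
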