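import Cfsg.Statements.S5737
import Cfsg.Agent.H13.SzConj

set_option autoImplicit false
open Cfsg

namespace Cfsg.Agent.S5737

open Cfsg.Agent.H13
set_option linter.style.haveILetI false

section General
variable {G : Type*} [Group G]

def Bin (H : Subgroup G) : Prop := ∀ (n : ℕ) (I J : Fin n → G ⧸ H), 2 ≤ n →
  (∀ i j : Fin n, i ≠ j → ∃ g : G, g • I i = J i ∧ g • I j = J j) → ∃ g : G, ∀ i, g • I i = J i

theorem smul_mk_eq {H : Subgroup G} (g k l : G) :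
    g • (k : G ⧸ H) = (l : G ⧸ H) ↔ l⁻¹ * g * k ∈ H := by
  rw [MulAction.Quotient.smul_mk, eq_comm, QuotientGroup.eq, smul_eq_mul, mul_assoc]

theorem bin_of {H : Subgroup G} (hT : ∀ a b : G ⧸ H, (∀ g : G, g • a = a → g • b = b) ∨
    ∀ (c : G ⧸ H) (h1 h2 : G), h1 • a = a → h2 • b = b → h1 • c = h2 • c → h1 • c = c) : Bin H := by
  intro n I J hn h
  by_cases h1 : ∀ i j, ∀ g : G, g • I i = I i → g • I j = I j
  · obtain ⟨g, e, -⟩ := h ⟨0, by omega⟩ ⟨1, by omega⟩ (by simp)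
    refine ⟨g, fun k => ?_⟩
    by_cases hk : ⟨0, by omega⟩ = k
    · exact hk ▸ e
    obtain ⟨g', e1, e2⟩ := h _ _ hk
    have := h1 _ k (g⁻¹ * g') (by rw [mul_smul, e1, ← e, inv_smul_smul])
    rw [mul_smul, inv_smul_eq_iff, e2] at this
    exact this.symm
  · push Not at h1
    obtain ⟨i, j, g0, f1, f2⟩ := h1
    have hij : i ≠ j := by rintro rfl; exact f2 f1
    have h2 := (hT (I i) (I j)).resolve_left fun h => f2 (h g0 f1)
    obtain ⟨g, e1, e2⟩ := h i j hij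
    refine ⟨g, fun k => ?_⟩
    by_cases hi : i = k
    · exact hi ▸ e1
    by_cases hj : j = k
    · exact hj ▸ e2
    obtain ⟨g1, a1, a2⟩ := h _ _ hi
    obtain ⟨g2, b1, b2⟩ := h _ _ hj
    have := h2 (I k) (g⁻¹ * g1) (g⁻¹ * g2) (by rw [mul_smul, a1, ← e1, inv_smul_smul])
      (by rw [mul_smul, b1, ← e2, inv_smul_smul]) (by rw [mul_smul, mul_smul, a2, b2])
    rw [mul_smul, inv_smul_eq_iff, a2] at this
    exact this.symm

theorem Bin.triple {H : Subgroup G} (h : Bin H) {g k h1 h2 : G} (a1 : h1 ∈ H) (a2 : g⁻¹ * h2 * g ∈ H)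
    (a3 : k⁻¹ * (h1⁻¹ * h2) * k ∈ H) :
    ∃ d ∈ H, g⁻¹ * d * g ∈ H ∧ k⁻¹ * (h1⁻¹ * d) * k ∈ H := by
  have b1 : h1 • ((1 : G) : G ⧸ H) = (1 : G) := by rw [smul_mk_eq]; simpa using a1
  have b2 : h2 • (g : G ⧸ H) = g := (smul_mk_eq _ _ _).2 a2
  have b3 : h1 • (k : G ⧸ H) = (h1 * k : G) := rfl
  have b4 : h2 • (k : G ⧸ H) = (h1 * k : G) := by rw [smul_mk_eq]; simpa [mul_assoc] using a3
  obtain ⟨d, hd⟩ := h 3 ![(1 : G), g, k] ![(1 : G), g, (h1 * k : G)] (by omega) (by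
    intro i j hij
    fin_cases i <;> fin_cases j <;> simp at hij ⊢
    · exact ⟨1, by simp⟩
    · exact ⟨h1, by simpa using b1, b3⟩
    · exact ⟨1, by simp⟩
    · exact ⟨h2, b2, b4⟩
    · exact ⟨h1, b3, by simpa using b1⟩
    · exact ⟨h2, b4, b2⟩)
  refine ⟨d, by simpa using (smul_mk_eq _ _ _).1 (hd 0), (smul_mk_eq _ _ _).1 (hd 1), ?_⟩
  simpa [mul_assoc] using (smul_mk_eq _ _ _).1 (hd 2)

theorem Bin.set [Finite G] {H : Subgroup G} (h : Bin H) (S : Set (G ⧸ H)) (τ : G ⧸ H → G ⧸ H)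
    {α : G ⧸ H} (hα : α ∈ S) (hS : ∀ a ∈ S, ∀ b ∈ S, ∃ g : G, g • a = τ a ∧ g • b = τ b) :
    ∃ g : G, ∀ a ∈ S, g • a = τ a := by
  classical
  obtain ⟨n, ⟨e⟩⟩ := Finite.exists_equiv_fin (Option (Option S))
  have hn : 2 ≤ n := by
    haveI := Fintype.ofFinite S
    have := Fintype.card_congr e
    simp at this; omega
  let I : Fin n → S := fun i => ((e.symm i).getD none).getD ⟨α, hα⟩
  obtain ⟨g, hg⟩ := h n (fun i => I i) (fun i => τ (I i)) hn fun i j _ => hS _ (I i).2 _ (I j).2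
  exact ⟨g, fun a ha => by simpa [I] using hg (e (some (some ⟨a, ha⟩)))⟩

open MulAction in
theorem Bin.invol [Finite G] {H : Subgroup G} (h : Bin H)
    (hc : ∀ x y : G, x ≠ 1 → x ^ 2 = 1 → y ≠ 1 → y ^ 2 = 1 → ∃ g, x = g * y * g⁻¹)
    {z y : G} (hz : z ∈ H) (z1 : z ≠ 1) (z2 : z ^ 2 = 1) (y2 : y ^ 2 = 1) (hzy : z * y = y * z) :
    y ∈ H := by
  classical
  by_cases y1 : y = 1
  · exact y1 ▸ H.one_mem
  by_cases zy1 : z * y = 1
  · exact (eq_inv_of_mul_eq_one_right zy1) ▸ H.inv_mem hz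
  have zy2 : (z * y) ^ 2 = 1 := by rw [Commute.mul_pow hzy, z2, y2, one_mul]
  have hcard : ∀ x y : G, x ≠ 1 → x ^ 2 = 1 → y ≠ 1 → y ^ 2 = 1 →
      (fixedBy (G ⧸ H) x).ncard = (fixedBy (G ⧸ H) y).ncard := by
    intro x y a b c d
    obtain ⟨g, rfl⟩ := hc x y a b c d
    rw [← smul_fixedBy, Set.ncard_smul_set]
  have hα : ((1 : G) : G ⧸ H) ∈ fixedBy (G ⧸ H) z := by
    rw [mem_fixedBy, smul_mk_eq]; simpa using hz
  let τ : G ⧸ H → G ⧸ H := fun a => if y • a = a ∨ (z * y) • a = a then a else y • a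
  have t1 : ∀ a, z • a = a → τ a = y • a ∧ τ a = (z * y) • a := by
    intro a ha
    have e : (z * y) • a = y • a := by rw [hzy, mul_smul, ha]
    simp only [τ, e, or_self, and_self]
    split_ifs with h
    · exact h.symm
    · rfl
  have t2 : ∀ a, y • a = a ∨ (z * y) • a = a → τ a = a := fun a ha => if_pos ha
  obtain ⟨g, hg⟩ := h.set {a | z • a = a ∨ y • a = a ∨ (z * y) • a = a} τ (Or.inl hα) (by
    rintro a (ha | ha) b (hb | hb)
    · exact ⟨y, (t1 a ha).1.symm, (t1 b hb).1.symm⟩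
    · rcases hb with hb | hb
      · exact ⟨y, (t1 a ha).1.symm, by rw [t2 b (Or.inl hb), hb]⟩
      · exact ⟨z * y, (t1 a ha).2.symm, by rw [t2 b (Or.inr hb), hb]⟩
    · rcases ha with ha | ha
      · exact ⟨y, by rw [t2 a (Or.inl ha), ha], (t1 b hb).1.symm⟩
      · exact ⟨z * y, by rw [t2 a (Or.inr ha), ha], (t1 b hb).2.symm⟩
    · exact ⟨1, by rw [t2 a ha, one_smul], by rw [t2 b hb, one_smul]⟩)
  have g1 : ∀ a, z • a = a → g • a = y • a := fun a ha => (hg a (Or.inl ha)).trans (t1 a ha).1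
  have fin : y • ((1 : G) : G ⧸ H) = (1 : G) → y ∈ H := fun h => by
    simpa using (smul_mk_eq _ _ _).1 h
  rcases Nat.even_or_odd (orderOf g) with ⟨k, hk⟩ | ho
  · have k0 : 0 < k := by have := orderOf_pos g; omega
    have a1 : g ^ k ≠ 1 := pow_ne_one_of_lt_orderOf k0.ne' (by omega)
    have a2 : (g ^ k) ^ 2 = 1 := by rw [← pow_mul, mul_two, ← hk, pow_orderOf_eq_one]
    have s1 : ∀ a, y • a = a ∨ (z * y) • a = a → a ∈ fixedBy (G ⧸ H) (g ^ k) := fun a ha =>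
      (stabilizer G a).pow_mem (show g • a = a from (hg a (Or.inr ha)).trans (t2 a ha)) k
    have e1 := Set.eq_of_subset_of_ncard_le (s := fixedBy (G ⧸ H) y) (fun a ha => s1 a (Or.inl ha))
      (hcard _ _ a1 a2 y1 y2).le
    have e2 := Set.eq_of_subset_of_ncard_le (s := fixedBy (G ⧸ H) (z * y))
      (fun a ha => s1 a (Or.inr ha)) (hcard _ _ a1 a2 zy1 zy2).le
    have e3 := Set.eq_of_subset_of_ncard_le (s := fixedBy (G ⧸ H) y) (t := fixedBy (G ⧸ H) z)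
      (fun a ha => by
        have h2 : a ∈ fixedBy (G ⧸ H) (z * y) := by rw [e2, ← e1]; exact ha
        rwa [mem_fixedBy, mul_smul, mem_fixedBy.1 ha] at h2) (hcard _ _ z1 z2 y1 y2).le
    exact fin (mem_fixedBy.1 (e3 ▸ hα))
  · have := mem_of_odd_sq (K := stabilizer G ((1 : G) : G ⧸ H)) ho (by
      rw [mem_stabilizer_iff, sq, mul_smul, g1 _ hα, g1, ← mul_smul, ← sq, y2, one_smul]
      rw [← mul_smul, hzy, mul_smul, hα])
    exact fin (by rw [← g1 _ hα]; exact this)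

end General

section
variable {G F : Type*} [Group G] [Field F] [Tits F] (M : Model G F) [Finite F] {m : ℕ} (Q : Par F m)

theorem sq_of_mem_Z {z : G} (hz : z ∈ M.Z) : z ^ 2 = 1 := by
  obtain ⟨b, rfl⟩ := hz; simp [M.u_sq]

theorem bin_Z : Bin M.Z := by
  refine bin_of fun a b => ?_
  obtain ⟨a, rfl⟩ := QuotientGroup.mk_surjective a
  obtain ⟨b, rfl⟩ := QuotientGroup.mk_surjective b
  by_cases hB : b⁻¹ * a ∈ M.B
  · left
    intro g hg
    rw [smul_mk_eq] at hg ⊢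
    simpa [mul_assoc] using M.conj_mem_Z hB hg
  right
  intro c h1 h2 e1 e2 e3
  obtain ⟨c, rfl⟩ := QuotientGroup.mk_surjective c
  by_cases k1 : h1 = 1
  · simp [k1]
  by_cases k2 : h2 = 1
  · simpa [k2] using e3
  exfalso
  rw [← inv_smul_eq_iff, ← mul_smul] at e3
  rw [smul_mk_eq] at e1 e2 e3
  have sq : ∀ k x : G, k⁻¹ * x * k ∈ M.Z → x * x = 1 := fun k x h => by
    have := sq_of_mem_Z M h
    rw [inv_conj_pow] at this
    rw [← sq, inv_conj_eq_one this]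
  have s1 := sq _ _ e1
  have s2 := sq _ _ e2
  have s3 := sq _ _ e3
  have i2 : h2⁻¹ = h2 := inv_eq_of_mul_eq_one_right s2
  have hc : h2 * h1 = h1 * h2 := by
    rw [i2] at s3
    calc _ = (h2 * h1)⁻¹ := (inv_eq_of_mul_eq_one_right s3).symm
      _ = _ := by rw [_root_.mul_inv_rev, i2, inv_eq_of_mul_eq_one_right s1]
  have m1 := M.mem_U_of_commute (g := a⁻¹ * h2 * a) (M.Z_le_U e1) (fun h => k1 (inv_conj_eq_one h))
    (by calc _ = a⁻¹ * (h2 * h1) * a := by group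
      _ = _ := by rw [hc]; group)
  exact hB (M.mem_B_of_conj_mem_B m1 (fun h => k2 (inv_conj_eq_one h))
    (by simpa [mul_assoc] using M.U_le_B (M.Z_le_U e2)))

theorem wuw_not_mem {d : F} (hd : d ≠ 0) : M.w * M.u 0 d * M.w ∉ M.B := fun h =>
  M.w_not_mem_B (M.mem_B_of_conj_mem_B (M.u_mem_U 0 d) (by simp [M.u_eq_one, hd]) (by simpa using h))

include Q

theorem not_bin_h {H : Subgroup G} (hZ : M.Z ≤ H) (hB : H ≤ M.B) {s : Fˣ} (hs : s ≠ 1)
    (hH : M.h s ∈ H) : ¬ Bin H := by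
  intro h
  have t0 := M.tr_ne_zero Q (part_H M Q) (M.h_mem_H s) (by simpa [M.h_eq_one] using hs)
  obtain ⟨b, hb⟩ := θ_surj (M.tr (M.h s))
  have b0 : b ≠ 0 := by rintro rfl; exact t0 (by simpa using hb.symm)
  obtain ⟨k, hk⟩ := isConj_iff.1 (M.isConj_of_tr_eq Q t0 (y := M.u 0 b * (M.w * M.u 0 1 * M.w))
    (by rw [M.tr_u_w_u_w, ← hb]; simp [fo]))
  have ui : (M.u 0 b)⁻¹ = M.u 0 b := by simp [M.u_inv]
  obtain ⟨d, d1, d2, d3⟩ := h.triple (g := M.w) (k := k) (h2 := M.w * M.u 0 1 * M.w)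
    (hZ (M.u_mem_Z b)) (by simpa [mul_assoc] using hZ (M.u_mem_Z 1))
    (by rw [ui, ← hk]; simpa [mul_assoc] using hH)
  obtain ⟨r, rfl⟩ := M.mem_H.1 (M.mem_H_iff_B.2 ⟨hB d1, by simpa using hB d2⟩)
  have e1 := M.mem_B.1 (hB d3)
  rw [ui, mul_smul, mul_smul, inv_smul_eq_iff] at e1
  have e2 : (M.u 0 b * (M.w * M.u 0 1 * M.w)) • k • M.inf = k • M.inf := by
    rw [← hk, mul_smul, inv_smul_smul, mul_smul, M.h_smul_inf]
  generalize k • M.inf = p at e1 e2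
  rcases M.Ω_cases p with rfl | ⟨x, y, rfl⟩
  · exact wuw_not_mem M one_ne_zero
      (by simpa using M.B.mul_mem (M.B.inv_mem (M.u_mem_B 0 b)) (M.mem_B.2 e2))
  rw [mul_smul, M.h_smul_P, M.u_smul_P, M.P_inj] at e1
  have x0 : x = 0 := by
    by_contra hx
    have h1 : θ (r : F) = 1 := mul_right_cancel₀ hx (by simpa using e1.1)
    have h2 := θ_eq_one.1 h1
    simp [h2, b0] at e1
  subst x0
  rw [mul_smul, ← eq_inv_smul_iff, ui, M.u_smul_P, mul_smul, mul_smul, ← eq_inv_smul_iff,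
    M.w_inv] at e2
  simp only [add_zero, mul_zero] at e2
  have key : ∀ y, M.w • M.P 0 y = M.inf ∨ ∃ x, M.w • M.P 0 y = M.P x 0 := by
    intro y
    by_cases hy : y = 0
    · left; rw [hy, M.w_smul_zero]
    · right; exact ⟨_, by rw [M.w_smul_P (by simp [fo_eq_zero, hy]), zero_div]⟩
  rcases key y with h1 | ⟨x, h1⟩
  · rw [h1, M.u_smul_inf, ← h1, smul_left_cancel_iff, M.P_inj] at e2
    simp [b0] at e2
  · rw [h1, M.u_smul_P] at e2
    rcases key (y + b) with h2 | ⟨x', h2⟩ <;> rw [h2] at e2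
    · exact M.P_ne_inf _ _ e2
    · simp [M.P_inj] at e2

theorem not_bin_u {H : Subgroup G} (hZ : M.Z ≤ H) (hB : H ≤ M.B) {a b : F} (ha : a ≠ 0)
    (hH : M.u a b ∈ H) : ¬ Bin H := by
  intro h
  have f0 : fo a b ≠ 0 := by simp [fo_eq_zero, ha]
  have c0 : a * θ a / fo a b ≠ 0 := div_ne_zero (mul_ne_zero ha (θ_ne_zero ha)) f0
  have hc : fo a b * (a * θ a / fo a b) = a * θ a := by field_simp
  generalize a * θ a / fo a b = c at c0 hc
  have d0 := mul_ne_zero c0 (θ_ne_zero c0)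
  have t0 : M.tr (M.u a b * (M.w * M.u 0 (c * θ c) * M.w)) = 0 := by
    rw [M.tr_u_w_u_w, ← hc, fo.eq_def 0]
    simp only [map_mul, θθ, map_zero]
    grind
  have hn := wuw_not_mem M d0
  have m2 : M.w⁻¹ * (M.w * M.u 0 (c * θ c) * M.w) * M.w ∈ H := by
    simpa [mul_assoc] using hZ (M.u_mem_Z _)
  generalize M.w * M.u 0 (c * θ c) * M.w = z at t0 hn m2
  obtain ⟨k, hk⟩ : ∃ k, k⁻¹ * (M.u a b * z) * k ∈ H := by
    rcases M.order_of_tr_eq_zero Q t0 with h | h | h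
    · exact ⟨1, by simp [h, H.one_mem]⟩
    · obtain ⟨k, hk⟩ := M.exists_conj_u01 (x := M.u a b * z) (fun h1 => by simp [h1] at h)
        (h ▸ pow_orderOf_eq_one _)
      exact ⟨k, by rw [hk]; simpa [mul_assoc] using hZ (M.u_mem_Z _)⟩
    · obtain ⟨k, hk | hk⟩ := M.conj_or_conj_inv Q h (M.orderOf_u ha b)
      · exact ⟨k, by rw [hk]; simpa [mul_assoc] using hH⟩
      · exact ⟨k, by rw [hk]; simpa [mul_assoc] using hH⟩
  obtain ⟨d, d1, d2, d3⟩ := h.triple (g := M.w) (k := k) (h2 := z) (H.inv_mem hH) m2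
    (by rwa [inv_inv])
  obtain ⟨r, rfl⟩ := M.mem_H.1 (M.mem_H_iff_B.2 ⟨hB d1, by simpa using hB d2⟩)
  by_cases hr : r = 1
  · subst hr
    have := M.mem_B_of_conj_mem_B (g := k⁻¹) (M.u_mem_U a b) (by simp [M.u_eq_one, ha])
      (by simpa using hB d3)
    have h2 := M.B.mul_mem (M.B.inv_mem (M.u_mem_B a b))
      (M.B.mul_mem (M.B.mul_mem (M.B.inv_mem this) (hB hk)) this)
    exact hn (by simpa [mul_assoc] using h2)
  · exact not_bin_h M Q hZ hB hr d1 h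

omit Q in
theorem comm_mem_U {x y : G} (hx : x ∈ M.B) (hy : y ∈ M.B) : x * y * x⁻¹ * y⁻¹ ∈ M.U := by
  obtain ⟨a, b, s, rfl⟩ := M.mem_B'.1 hx
  obtain ⟨c, d, t, rfl⟩ := M.mem_B'.1 hy
  have := M.U.mul_mem (M.U.mul_mem (M.U.mul_mem (M.u_mem_U a b)
    (M.conj_mem_U (M.h_mem_B s) (M.u_mem_U c d)))
    (M.conj_mem_U (M.h_mem_B t) (M.U.inv_mem (M.u_mem_U a b)))) (M.U.inv_mem (M.u_mem_U c d))
  convert this using 1
  calc _ = M.u a b * (M.h s * M.u c d) * (M.h t * (M.h s)⁻¹) * (M.u a b)⁻¹ * (M.h t)⁻¹ *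
      (M.u c d)⁻¹ := by group
    _ = _ := by rw [← M.h_inv, M.h_comm, M.h_inv]; group

include M in
theorem le_part {H : Subgroup G} (ho : Odd (Nat.card H)) {x : G} (hx : x ∈ H) (x1 : x ≠ 1) :
    ∃ A, Part m A ∧ H ≤ A := by
  have odd : ∀ y ∈ H, y ^ 4 = 1 → y = 1 := fun y hy h4 => orderOf_eq_one_iff.1
    (Nat.eq_one_of_dvd_coprimes ((ho.of_dvd_nat (H.orderOf_dvd_natCard hy)).coprime_two_right.pow_right 2)
      dvd_rfl (orderOf_dvd_of_pow_eq_one h4))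
  have hB : (∃ g, H ≤ (M.conj g).B) → ∃ A, Part m A ∧ H ≤ A := by
    rintro ⟨g, hg⟩
    rcases M.classify_tr Q x with ⟨-, k, a, b, rfl⟩ | ⟨-, -, A, hA, hxA⟩
    · exact absurd (odd _ hx ((M.conj k).u_pow_four a b)) x1
    refine ⟨A, hA, fun y hy => hA.1.mem hxA x1 ?_⟩
    obtain ⟨a, b, e⟩ := comm_mem_U (M.conj g) (hg hy) (hg hx)
    have := odd _ (H.mul_mem (H.mul_mem (H.mul_mem hy hx) (H.inv_mem hy)) (H.inv_mem hx))
      (by rw [e, Model.u_pow_four])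
    rwa [mul_inv_eq_one, mul_inv_eq_iff_eq_mul] at this
  rcases M.solvable_or_isSub Q H with h | h | ⟨g, L, -, h⟩
  · exact hB h
  · rcases M.le_of_solvable Q H with h | ⟨A, a, b, c, h, -⟩
    · exact hB h
    · exact ⟨A, ⟨a, b, c⟩, fun y hy => Part.mem_of_odd M Q ⟨a, b, c⟩ (h hy)
        (ho.of_dvd_nat (H.orderOf_dvd_natCard hy))⟩
  · have := odd _ h.w_mem (by rw [show 4 = 2 * 2 by rfl, pow_mul]; simp [sq])
    exact absurd (this ▸ Subgroup.one_mem _) (M.conj g).w_not_mem_B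

include M in
theorem card_normalizer_lt {A : Subgroup G} (hA : Part m A) :
    Nat.card (Subgroup.normalizer (A : Set G)) + 2 < Nat.card F ^ 2 + 1 := by
  have h8 := Q.eight_le
  have hr : 2 * 2 ^ (m + 1) ≤ Nat.card F := by
    rw [Q.card, ← pow_succ']; exact Nat.pow_le_pow_right (by norm_num) (by have := Q.hm; omega)
  have h1 : 8 * Nat.card F ≤ Nat.card F ^ 2 := by nlinarith
  rcases hA.2.2 with hc | hc
  · obtain ⟨g, rfl⟩ := M.exists_eq_H Q hA.2.1 hc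
    rw [(M.conj g).card_normalizer_H Q.hy]; omega
  · obtain ⟨y, c, T⟩ := M.exists_isTorus Q hc hA.2.1 rfl
    have h2 := nm_lt_np m
    have h3 : np m = Nat.card F + 2 ^ (m + 1) + 1 := by rw [Q.card]; rfl
    rw [T.card_normalizer]; omega

include M in
theorem not_bin_odd {H : Subgroup G} (ho : Odd (Nat.card H)) (h0 : H ≠ ⊥) : ¬ Bin H := by
  intro h
  haveI := M.finite
  obtain ⟨⟨x, hx⟩, x1⟩ := Subgroup.ne_bot_iff_exists_ne_one.1 h0
  replace x1 : x ≠ 1 := fun h => x1 (Subtype.ext h)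
  obtain ⟨A, hA, hHA⟩ := le_part M Q ho hx x1
  have t0 := M.tr_ne_zero Q hA (hHA hx) x1
  have key : ∀ p : M.Ω, x • p ≠ p → ∃ z ∈ Subgroup.normalizer (A : Set G), z • p = p ∧
      ∀ p' : M.Ω, z • p' = p' → p' = p := by
    intro p hp
    obtain ⟨g, rfl⟩ := M.exists_smul_inf p
    obtain ⟨b, hb⟩ := M.exists_tr_comm (x := g⁻¹ * x * g)
      (by rwa [M.mem_B, mul_smul, mul_smul, inv_smul_eq_iff]) (M.tr x)
    have b0 : M.u 0 b ≠ 1 := fun h => t0 (by rw [← hb, h]; simp [M.tr_one])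
    have zi : (g * M.u 0 b * g⁻¹)⁻¹ = g * M.u 0 b * g⁻¹ := by rw [conj_inv]; simp [M.u_inv]
    refine ⟨g * M.u 0 b * g⁻¹, ?_, by simp [mul_smul], fun p' hp' => ?_⟩
    · have e : M.tr x = M.tr (x * (g * M.u 0 b * g⁻¹ * x⁻¹ * (g * M.u 0 b * g⁻¹))) := by
        rw [← hb, ← M.tr_conj _ g]; congr 1; group
      generalize g * M.u 0 b * g⁻¹ = z at zi e
      obtain ⟨k, hk⟩ := isConj_iff.1 (M.isConj_of_tr_eq Q t0 e)
      obtain ⟨d, d1, d2, d3⟩ := h.triple (g := z) (k := k) (h2 := z * x⁻¹ * z) (H.inv_mem hx)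
        (by rw [← mul_assoc, ← mul_assoc, mul_assoc _ z z]; nth_rw 3 [← zi]; simpa using hx)
        (by rw [inv_inv, ← hk]; simpa [mul_assoc] using hx)
      by_cases hd : d = 1
      · subst hd
        have k1 := hA.1.mem_normalizer (g := k⁻¹) (hHA hx) x1 (by simpa using hHA d3)
        have k2 := (Subgroup.mem_normalizer_iff.1 ((Subgroup.inv_mem_iff _).1 k1) x).1 (hHA hx)
        rw [hk] at k2
        refine hA.1.mem_normalizer (A.inv_mem (hHA hx)) (inv_ne_one.2 x1) ?_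
        rw [zi]; simpa using A.mul_mem (A.inv_mem (hHA hx)) k2
      · exact hA.1.mem_normalizer (hHA d1) hd (by rw [zi] at d2 ⊢; exact hHA d2)
    · rw [mul_smul, mul_smul, ← eq_inv_smul_iff] at hp'
      rw [← M.u_fix b0 hp', smul_inv_smul]
  choose z hz1 hz2 hz3 using key
  have c1 : Nat.card {p : M.Ω | x • p ≠ p} ≤ Nat.card (Subgroup.normalizer (A : Set G)) :=
    Nat.card_le_card_of_injective (fun p => ⟨z p.1 p.2, hz1 _ _⟩) fun p p' e =>
      Subtype.ext (hz3 p'.1 p'.2 p.1 (by rw [← Subtype.mk.inj e]; exact hz2 _ _))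
  have c2 : {p : M.Ω | x • p = p}.ncard ≤ 2 := by
    by_contra h2
    obtain ⟨a, ha, b, hb, c, hc, h1, h2, h3⟩ := (Set.two_lt_ncard (Set.toFinite _)).1 (not_le.1 h2)
    exact x1 (M.eq_one_of_fix_three h1 h3 h2 ha hb hc)
  have c3 := Set.ncard_add_ncard_compl {p : M.Ω | x • p = p}
  have c4 := card_normalizer_lt M Q hA
  rw [M.card_Ω] at c3
  rw [Nat.card_coe_set_eq] at c1
  change _ + {p : M.Ω | x • p ≠ p}.ncard = _ at c3
  omega

theorem main {H : Subgroup G} (hH : H ≠ ⊤) : Bin H ↔ H = ⊥ ∨ ∃ g, H = (M.conj g).Z := by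
  haveI := M.finite
  constructor
  · intro h
    refine or_iff_not_imp_left.2 fun h0 => ?_
    rcases Nat.even_or_odd (Nat.card H) with he | ho
    swap
    · exact absurd h (not_bin_odd M Q ho h0)
    haveI : Fact (Nat.Prime 2) := ⟨Nat.prime_two⟩
    obtain ⟨⟨z, hz⟩, z2⟩ := exists_prime_orderOf_dvd_card' 2 he.two_dvd
    rw [← Subgroup.orderOf_coe] at z2
    have z1 : z ≠ 1 := by rintro rfl; simp at z2
    replace z2 : z ^ 2 = 1 := z2 ▸ pow_orderOf_eq_one z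
    obtain ⟨g, hg⟩ := M.exists_conj_u01 z1 z2
    rw [← M.conj_u] at hg
    refine ⟨g, ?_⟩
    generalize M.conj g = N at hg
    have hZ : N.Z ≤ H := by
      rintro _ ⟨b, rfl⟩
      exact h.invol (fun x y => N.exists_conj_inv) hz z1 z2 (by simp [N.u_sq])
        (hg ▸ N.u_zero_comm _ _ _)
    have hB : H ≤ N.B := by
      by_contra hB
      obtain ⟨y, hy⟩ := Q.hy
      obtain ⟨k, L, hk, -, hL⟩ := N.exists_isSub Q hB (e := y) (e' := 1)
        (by rintro rfl; simp at hy) one_ne_zero (by rintro rfl; simp at hy) (hZ (N.u_mem_Z _))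
        (hZ (N.u_mem_Z _))
      rw [← Model.Z_eq_of_U_eq (N.conj_U_of_mem_B hk)] at hZ
      have hl : ∀ b, b ∈ L := fun b => ((hL.u_mem 0 b).1 (hZ ((N.conj k).u_mem_Z b))).2
      exact hH ((N.conj k).eq_top_of_mem H (fun a b => (hL.u_mem a b).2 ⟨hl a, hl b⟩)
        (fun s => (hL.h_mem s).2 (hl s)) hL.w_mem)
    refine le_antisymm (fun x hx => ?_) hZ
    obtain ⟨a, b, s, rfl⟩ := N.mem_B'.1 (hB hx)
    by_cases hs : s = 1
    · subst hs
      rw [N.h_one, mul_one] at hx ⊢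
      by_contra ha
      exact not_bin_u N Q hZ hB (fun h => ha (N.u_mem_Z_iff.2 h)) hx h
    · obtain ⟨c, d, e⟩ := N.conj_h_of_mem_B a b hs
      have hU := N.conj_U_of_mem_B (N.u_mem_B c d)
      rw [e, ← N.conj_h] at hx
      exact absurd h (not_bin_h _ Q (Model.Z_eq_of_U_eq hU ▸ hZ) (Model.B_eq_of_U_eq hU ▸ hB) hs hx)
  · rintro (rfl | ⟨g, rfl⟩)
    · refine bin_of fun a b => Or.inl fun g hg => ?_
      obtain ⟨a, rfl⟩ := QuotientGroup.mk_surjective a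
      rw [smul_mk_eq, Subgroup.mem_bot] at hg
      rw [inv_conj_eq_one hg, one_smul]
    · exact bin_Z _

theorem center_eq : (Subgroup.center M.U).map M.U.subtype = M.Z := by
  rw [M.center_U Q.hy, Subgroup.subgroupOf_map_subtype, inf_eq_left.2 M.Z_le_U]

end

/-- Let G = Sz(q) be a Suzuki group, q = 2^(2a+1) with a ≥ 1 (realised inside Sp₄ over the field with q elements), and let H be a proper subgroup of G. Then the action of G on the cosets of H is binary if and only if H is trivial or H is the centre of a Sylow 2-subgroup of G. Here an action is binary (relational complexity 2) when, for every n ≥ 2 and all n-tuples I, J of points, if for every pair of positions some group element carries the corresponding pair of entries of I to those of J, then a single group element carries I to J. -/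
theorem result {F : Type*} [Field F] [Fintype F] (a : ℕ) (ha : 1 ≤ a) (hF : Fintype.card F = 2 ^ (2 * a + 1))
    (H : Subgroup (Cfsg.Lie.Sz F (2 ^ (a + 1)))) (hH : H ≠ ⊤) :
    (∀ (n : ℕ) (I J : Fin n → (Cfsg.Lie.Sz F (2 ^ (a + 1))) ⧸ H), 2 ≤ n →
        (∀ i j : Fin n, i ≠ j → ∃ g : (Cfsg.Lie.Sz F (2 ^ (a + 1))), g • I i = J i ∧ g • I j = J j) → ∃ g : (Cfsg.Lie.Sz F (2 ^ (a + 1))), ∀ i, g • I i = J i) ↔
      (H = ⊥ ∨ ∃ P : Sylow 2 (Cfsg.Lie.Sz F (2 ^ (a + 1))), H = (Subgroup.center (P : Subgroup (Cfsg.Lie.Sz F (2 ^ (a + 1))))).map (P : Subgroup (Cfsg.Lie.Sz F (2 ^ (a + 1)))).subtype) := by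
  letI := titsOfCard hF
  have Q := par_of_card ha hF
  set M := lieModel (titsOfCard_θ hF)
  refine (main M Q hH).trans (or_congr_right ⟨?_, ?_⟩)
  · rintro ⟨g, rfl⟩
    exact ⟨(M.conj g).sylowU, (center_eq _ Q).symm⟩
  · rintro ⟨P, rfl⟩
    obtain ⟨g, hg⟩ := M.exists_conj_U P
    exact ⟨g, by rw [hg]; exact center_eq _ Q⟩

end Cfsg.Agent.S5737
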