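import Cfsg.Statements.S1603
import Cfsg.Agent.H56.M12
import Cfsg.Agent.H9.SLBasic

set_option autoImplicit false
open scoped Pointwise
open Cfsg

namespace Cfsg.Agent.S1603

open H14 H55 H56 MulAction

def cA : List ℕ := [nat_lit 0x2aab45ca29b5da83bc869b1d008c40, nat_lit 0x8adf3a22edaba04b2932398ac10c20]
def cB : List ℕ := [nat_lit 0x768354210, nat_lit 0x852741630]
def cS : List ℕ := [nat_lit 0x1f7a06dd71a65814a5542d24495973481cf1064cc390043080, nat_lit 0x2075a7dc65e6d844b3d35085cd54e40458a2521c614c083040]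
def cCertL0 : Lev := ⟨nat_lit 27, nat_lit 0x1fe000000, (.node (nat_lit 29) (.node (nat_lit 27) (.node (nat_lit 26) (.leaf (nat_lit 0x2075a7dc65e6d844b3d35085cd54e40458a2521c614c083040)) (.leaf (nat_lit 0x1a7607d971b7981543d32d05c958e20454734629244c0810c0))) (.node (nat_lit 28) (.leaf (nat_lit 0x207de75c6da6585d65544d24503ce34c2ca2481c61440c2040)) (.leaf (nat_lit 0x1e81f71b75a65838f5541d24442853464d640c2c85c90810c0)))) (.node (nat_lit 31) (.node (nat_lit 30) (.leaf (nat_lit 0x1f7a06dd71a65814a5542d24495973481cf1064cc390043080)) (.leaf (nat_lit 0x1a7db7597a07185d558b4c61483ce24c5073502924440420c0))) (.node (nat_lit 32) (.leaf (nat_lit 0x1f6da79d66071844758b50614d55725028f1124cc3880c1080)) (.leaf (nat_lit 0x1b69f65e76071838f58b2861441d12524d520c5105cd083040)))))⟩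
def cCertC0 : LevCert := ⟨cCertL0,
    [(nat_lit 29, nat_lit 0), (nat_lit 25, nat_lit 1), (nat_lit 28, nat_lit 0), (nat_lit 31, nat_lit 1), (nat_lit 32, nat_lit 0), (nat_lit 30, nat_lit 0), (nat_lit 26, nat_lit 1)],
    [[nat_lit 0, nat_lit 0, nat_lit 2, nat_lit 0], [nat_lit 4, nat_lit 2, nat_lit 2, nat_lit 4, nat_lit 4, nat_lit 4, nat_lit 2, nat_lit 2, nat_lit 2]],
    [nat_lit 0x1c69e6606df7585d62873cc3904d11122d518850914d0c1080, nat_lit 0x1a71e8196dd7d85d42874c43903c530954b348592446043080]⟩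
def cCertL1 : Lev := ⟨nat_lit 25, nat_lit 0x1b6000000, (.node (nat_lit 29) (.node (nat_lit 26) (.leaf (nat_lit 0x207de75c6da6585d65544d24503ce34c2ca2481c61440c2040)) (.node (nat_lit 28) (.leaf (nat_lit 0x1f81e71d6d96985c75543cd4504c548628b10858c389083040)) (.leaf (nat_lit 0x1a71e8196dd7d85d42874c43903c530954b348592446043080)))) (.node (nat_lit 31) (.leaf (nat_lit 0x1c69e6606df7585d62873cc3904d11122d518850914d0c1080)) (.node (nat_lit 32) (.leaf (nat_lit 0x1d65e69f6e07185c72d64c61503d124d2953085043920810c0)) (.leaf (nat_lit 0x1975e7da6dc8185d42d63c91504ce18454a4881cd44c0420c0)))))⟩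
def cCertC1 : LevCert := ⟨cCertL1,
    [(nat_lit 29, nat_lit 0), (nat_lit 28, nat_lit 1), (nat_lit 26, nat_lit 1), (nat_lit 32, nat_lit 0), (nat_lit 31, nat_lit 1)],
    [],
    []⟩
def cCert : List LevCert := [cCertC0, cCertC1]
def cCertL : List Lev := [cCertL0, cCertL1]
def cCertAL0 : Lev := ⟨nat_lit 1, nat_lit 14, (.node (nat_lit 2) (.leaf (nat_lit 0xbdab49ca307b9ac5a928398a418820)) (.node (nat_lit 3) (.leaf (nat_lit 0x73eb43ca24515a69da0c5a2e910460)) (.leaf (nat_lit 0x2aab45ca29b5da83bc869b1d008c40))))⟩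
def cCertAC0 : LevCert := ⟨cCertAL0,
    [(nat_lit 3, nat_lit 0), (nat_lit 2, nat_lit 0)],
    [[nat_lit 0, nat_lit 0, nat_lit 0, nat_lit 2], [nat_lit 2, nat_lit 4, nat_lit 2, nat_lit 4]],
    [nat_lit 0x8adf3a22edaba04b2932398ac10c20, nat_lit 0x2ccea5b1c9b448d7d506a42f218820]⟩
def cCertAL1 : Lev := ⟨nat_lit 2, nat_lit 12, (.node (nat_lit 3) (.leaf (nat_lit 0xbdab49ca307b9ac5a928398a418820)) (.leaf (nat_lit 0x8adf3a22edaba04b2932398ac10c20)))⟩
def cCertAC1 : LevCert := ⟨cCertAL1,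
    [(nat_lit 3, nat_lit 0)],
    [[nat_lit 0, nat_lit 2, nat_lit 0], [nat_lit 2, nat_lit 2, nat_lit 2, nat_lit 4, nat_lit 2, nat_lit 4]],
    [nat_lit 0x75576518ac3dd28a3e449b63018820, nat_lit 0x8aa6fa22f2a96093ac8db31c618820]⟩
def cCertAL2 : Lev := ⟨nat_lit 4, nat_lit 0x53350, (.node (nat_lit 12) (.node (nat_lit 8) (.node (nat_lit 6) (.leaf (nat_lit 0xbdab49ca307b9ac5a928398a418820)) (.leaf (nat_lit 0x89df3ac2eda150655992591c918820))) (.node (nat_lit 9) (.leaf (nat_lit 0x75576518ac3dd28a3e449b63018820)) (.leaf (nat_lit 0x8aa6fa22f2a96093ac8db31c618820)))) (.node (nat_lit 16) (.node (nat_lit 13) (.leaf (nat_lit 0xbae957b6289ba44b1cd0524ac18820)) (.leaf (nat_lit 0x2ccea5b1c9b448d7d506a42f218820))) (.node (nat_lit 18) (.leaf (nat_lit 0x752cb3a4a455cd0acdac7ca2818820)) (.leaf (nat_lit 0x2bd47b11c65c5929d209aa2ed18820)))))⟩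
def cCertAC2 : LevCert := ⟨cCertAL2,
    [(nat_lit 8, nat_lit 0), (nat_lit 9, nat_lit 1), (nat_lit 12, nat_lit 0), (nat_lit 18, nat_lit 1), (nat_lit 13, nat_lit 0), (nat_lit 16, nat_lit 0), (nat_lit 6, nat_lit 1)],
    [],
    []⟩
def cCertA : List LevCert := [cCertAC0, cCertAC1, cCertAC2]
def cCertAL : List Lev := [cCertAL0, cCertAL1, cCertAL2]

/-- the point stabiliser in the standard dodecad stabiliser -/
abbrev K : Type := stabilizer M24 (d0, pt 0)

/-- the packed form of the standard involution -/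
def X : ℕ := nat_lit 970499966350631336865513127433832480

theorem rel0 : (cProd cSet cPt).rel ((340831 : ℕ), (0 : ℕ)) (d0, pt 0) := ⟨rel_d0, rfl⟩

theorem exists_x : ∃ x : K, GE.pk (incl _ x) = X :=
  exists_pk_of_chkGens (cProd cSet cPt) rel0 (gens := [X]) (by decide +kernel) X
    List.mem_cons_self

theorem pk_incl_inj {a b : K} : GE.pk (incl _ a) = GE.pk (incl _ b) ↔ a = b :=
  GE.pk_inj.trans (incl_injective _).eq_iff

theorem mem_cent {x : K} (hx : GE.pk (incl _ x) = X) (g : K) :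
    Nat.beq (comp 5 32 24 (GE.pk (incl _ g)) X) (comp 5 32 24 X (GE.pk (incl _ g))) = true ↔
      g ∈ Subgroup.centralizer ({x} : Set K) := by
  rw [Subgroup.mem_centralizer_singleton_iff, ← pk_incl_inj, map_mul, map_mul, GE.pk_mul,
    GE.pk_mul, hx, beq_iff]

theorem card_cent {x : K} (hx : GE.pk (incl _ x) = X) :
    Nat.card (Subgroup.centralizer ({x} : Set K)) = 48 := by
  have := ncard_of_chain _ (incl_injective _) m11_chain
    (fun g => g ∈ Subgroup.centralizer ({x} : Set K))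
    (fun P => Nat.beq (comp 5 32 24 P X) (comp 5 32 24 X P)) (mem_cent hx)
  exact this.trans (by decide +kernel)

theorem ncard_invol : {g : K | g * g = 1 ∧ g ≠ 1}.ncard = 165 := by
  have := ncard_of_chain _ (incl_injective _) m11_chain (fun g : K => g * g = 1 ∧ g ≠ 1)
    (fun P => Nat.beq (comp 5 32 24 P P) (idP 5 24) && !Nat.beq P (idP 5 24)) (fun g => by
      rw [Bool.and_eq_true, Bool.not_eq_true', Bool.eq_false_iff, ne_eq, beq_iff, beq_iff, ne_eq,
        ← pk_incl_inj, ← pk_incl_inj, map_mul, map_one, GE.pk_mul, GE.pk_one])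
  exact this.trans (by decide +kernel)

instance fact3 : Fact (Nat.Prime 3) := Nat.fact_prime_three

theorem std {x : K} (hx : GE.pk (incl _ x) = X) :
    Nonempty (GL (Fin 2) (ZMod 3) ≃* Subgroup.centralizer ({x} : Set K)) :=
  nonempty_equiv_of_cert (E := GE)
    (F := vecEnc 3 (nat_lit 9) (nat_lit 4) (nat_lit 16) rfl rfl (by decide)) (N := nat_lit 33)
    (k := nat_lit 6) (M := nat_lit 64) rfl rfl (by decide) _ (glPerm_injective (Fin 2) (ZMod 3))
    ((incl _).comp (Subgroup.centralizer ({x} : Set K)).subtype)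
    ((incl_injective _).comp Subtype.val_injective) (as := cA) (bs := cB) (cs := cS)
    (cert := cCert) (certA := cCertA)
    (fun P hP => by
      obtain ⟨g, rfl⟩ := exists_pk_of_chkGens (cProd cSet cPt) rel0 (gens := cA)
        (by decide +kernel) P hP
      exact ⟨⟨g, (mem_cent hx g).1 (allL_iff.1 (by decide +kernel : allL cA (fun P =>
        Nat.beq (comp 5 32 24 P X) (comp 5 32 24 X P)) = true) _ hP)⟩, rfl⟩)
    (by
      simp only [cB, List.forall_mem_cons]
      exact ⟨⟨⟨!![1, 1; 0, 1], !![1, 2; 0, 1], by decide, by decide⟩, by decide +kernel⟩,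
        ⟨⟨!![0, 1; 1, 0], !![0, 1; 1, 0], by decide, by decide⟩, by decide +kernel⟩, by simp⟩)
    (by decide +kernel) (by decide +kernel) (by decide +kernel) (by decide +kernel) 48
    (by rw [H9.card_gl_two, ZMod.card]; norm_num) (card_cent hx).le (by decide +kernel) (by decide +kernel)

theorem std' (y : K) (hy : orderOf y = 2) :
    Nonempty (Subgroup.centralizer ({y} : Set K) ≃* GL (Fin 2) (ZMod 3)) := by
  obtain ⟨x, hx⟩ := exists_x
  have h1 : x * x = 1 := by
    rw [← pk_incl_inj, map_mul, map_one, GE.pk_mul, GE.pk_one, hx]; decide +kernel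
  have h2 : x ≠ 1 := by
    rw [ne_eq, ← pk_incl_inj, map_one, GE.pk_one, hx]; decide +kernel
  obtain ⟨g, rfl⟩ := isConj_of_ncard x {g : K | g * g = 1 ∧ g ≠ 1} (fun g =>
    ⟨by rw [show g * x * g⁻¹ * (g * x * g⁻¹) = g * (x * x) * g⁻¹ by group, h1]; simp,
      by simpa using h2⟩) (by rw [ncard_invol, card_cent hx, card_m11]) y
    ⟨by rw [← sq, ← hy, pow_orderOf_eq_one], by rintro rfl; simp at hy⟩
  obtain ⟨e1⟩ := centralizer_equiv (MulAut.conj g) x
  obtain ⟨e2⟩ := std hx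
  exact ⟨e1.symm.trans e2.symm⟩

/-- Involution centralisers in the smallest Mathieu group are isomorphic to GL(2, 3). -/
theorem result (d : Finset Cfsg.GolayPt) (hd : d ∈ Cfsg.dodecads) (p : Cfsg.GolayPt) (hp : p ∈ d) (x : ↥(MulAction.stabilizer Cfsg.M24 d ⊓ MulAction.stabilizer Cfsg.M24 p)) (hx : orderOf x = 2) : Nonempty (↥(Subgroup.centralizer ({x} : Set ↥(MulAction.stabilizer Cfsg.M24 d ⊓ MulAction.stabilizer Cfsg.M24 p))) ≃* GL (Fin 2) (ZMod 3)) := by
  obtain ⟨g, e⟩ := dod_flag_in hd hp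
  revert x
  rw [← stab_prod]
  intro x hx
  obtain ⟨e1⟩ := stab_equiv e
  obtain ⟨e2⟩ := centralizer_equiv e1.symm x
  obtain ⟨e3⟩ := std' (e1.symm x) (by rw [MulEquiv.orderOf_eq, hx])
  exact ⟨e2.trans e3⟩

end Cfsg.Agent.S1603
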