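import Cfsg.Statements.S2133
import Cfsg.Agent.H14.CentIso
import Cfsg.Agent.H14.L52
import Cfsg.Agent.H14.MInv

set_option autoImplicit false
open Cfsg

namespace Cfsg.Agent.S2133

open H14 H56

def isoA : List ℕ := [nat_lit 0x3cd72459cf112a583023b822a6d0c9, nat_lit 0x8d6637c1c80304795d21299445da8d]
def isoB : List ℕ := [nat_lit 0x398b33419b2298272bb1875e4ce42ec0aabbe27, nat_lit 0x1cc1dfc12373d54b86d60555be934d8a886cf1]
def isoS : List ℕ := [nat_lit 0x269237a5631ba0b30734b736d9cb686ba9ad68762be7a5f1d32d221638f08454540c0435c044a354189, nat_lit 0x189a46efd99725c758aad1ecb06ad8e7b2b86e760a337e94554c33d038800c0874972411462842d650d]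
def isoCertL0 : Lev := ⟨nat_lit 24, nat_lit 0x73365a83000000, (.node (nat_lit 42) (.node (nat_lit 35) (.node (nat_lit 31) (.node (nat_lit 25) (.leaf (nat_lit 0x36d74cf2c70beeb6caeaa689e69648e28607de75c6da6585d65544d24503ce34c2ca2481c61440c2040)) (.leaf (nat_lit 0x357f0a2eaad71ea666e19208a39f1d1ada5b2f76bcb36193860cb40229334758424c01444115720f552))) (.node (nat_lit 33) (.leaf (nat_lit 0x34c2a6da9a1cf2da98ac65e971bdf9278e862e760adcd6d14b00f0815c340720c58e35345410a495246)) (.leaf (nat_lit 0x24b5981aa6c732d668a1a9e95fbf1d2e62b8e775ba33db028f34b49431518e5972070091014450834d0)))) (.node (nat_lit 38) (.node (nat_lit 36) (.leaf (nat_lit 0x1fc749efc29cab9ac6d9d60a366a4622873b5e76e725aa311221424f3860c53515574c229030758b040)) (.leaf (nat_lit 0x30b63b9aa7696bd59824c5ba1fbd8b22ab399e767732d2114f4900553005844ca20750b44d397083189))) (.node (nat_lit 41) (.leaf (nat_lit 0x35a66ba066dae57f6723873c986f0aafc62d1a7677a892c1100d550228d0514874d718038914c3c858b))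 (.leaf (nat_lit 0x31b21827b66c9c9296b662fcf5b9fc2bd1e66875b8a58ea44258f18b1494ca20c0d749039510750d001))))) (.node (nat_lit 49) (.node (nat_lit 45) (.node (nat_lit 44) (.leaf (nat_lit 0x36d6caf2c70be0b74cd8a5c6e696166292e7de7689da8ea3965401922893d70472d14083131050c2354)) (.leaf (nat_lit 0x299aace5d5f6a7c58ae1c28badc99d228dbd9e75c82fb241c33d334829448c40e0910155c11052d6246))) (.node (nat_lit 48) (.leaf (nat_lit 0x1f676bee9a98b2624af48e89719ec85bc1caa075acded6d38b20d08f10324551758704644030a413495)) (.leaf (nat_lit 0x19da1a327d881ac318a3b1ebe9966a9cd2793376bb9bb755c84160d310250a2d13c518d1c938c552001)))) (.node (nat_lit 53) (.node (nat_lit 52) (.leaf (nat_lit 0x269237a5631ba0b30734b736d9cb686ba9ad68762be7a5f1d32d221638f08454540c0435c044a354189)) (.leaf (nat_lit 0x217d8725c349efa6d8a48de6b6cb5b28660aab7736ee9b131204258010b24a0d154550638d1d720f413))) (.node (nat_lit 54) (.leaf (nat_lit 0x1f62c7af869af36769e3d6e7346b0aa0932b5b762968c664412152cf1160d748e00a1821493074d0354))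 (.leaf (nat_lit 0x189a46efd99725c758aad1ecb06ad8e7b2b86e760a337e94554c33d038800c0874972411462842d650d))))))⟩
def isoCertC0 : LevCert := ⟨isoCertL0,
    [(nat_lit 49, nat_lit 0), (nat_lit 54, nat_lit 1), (nat_lit 48, nat_lit 0), (nat_lit 45, nat_lit 1), (nat_lit 36, nat_lit 0), (nat_lit 44, nat_lit 0), (nat_lit 38, nat_lit 1), (nat_lit 41, nat_lit 0), (nat_lit 53, nat_lit 0), (nat_lit 52, nat_lit 1), (nat_lit 33, nat_lit 1), (nat_lit 25, nat_lit 0), (nat_lit 31, nat_lit 0), (nat_lit 42, nat_lit 0), (nat_lit 35, nat_lit 0)],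
    [[nat_lit 2, nat_lit 0, nat_lit 0, nat_lit 0, nat_lit 0, nat_lit 0, nat_lit 2, nat_lit 0, nat_lit 2], [nat_lit 4, nat_lit 2, nat_lit 2, nat_lit 2, nat_lit 4, nat_lit 2, nat_lit 2, nat_lit 2, nat_lit 4, nat_lit 4, nat_lit 4]],
    [nat_lit 0x2a7f08afb63ce8a61831b1baf56b49aeda592775ec9c6585c21814c931050400a0c72cd39644520f552, nat_lit 0x2cc31c9ed649ebda3729d33a2d8aa7db9af8607656ae6583035094cd5d000a18709120110f14e4952d6]⟩
def isoCertL1 : Lev := ⟨nat_lit 26, nat_lit 0xcc9a55c000000, (.node (nat_lit 39) (.node (nat_lit 30) (.node (nat_lit 27) (.leaf (nat_lit 0x36d74cf2c70beeb6caeaa689e69648e28607de75c6da6585d65544d24503ce34c2ca2481c61440c2040)) (.node (nat_lit 28) (.leaf (nat_lit 0x2cc31c9ed649ebda3729d33a2d8aa7db9af8607656ae6583035094cd5d000a18709120110f14e4952d6)) (.leaf (nat_lit 0x218edbe77f4ae0aa67acc226e9bb1932d73da575a72865828804b4c05d048758e3cc3551544442460c2)))) (.node (nat_lit 34) (.node (nat_lit 32) (.leaf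 (nat_lit 0x369a9ceb930825c759e18eecaca2dd2f7e2a9a75c79b6581cd5434d25d024e08450a0064413052d620f)) (.leaf (nat_lit 0x31923bb3a6689bb3696d87281f730d68a9ad2b767bde6585cf5954cb29004548720e0c0102311354189))) (.node (nat_lit 37) (.leaf (nat_lit 0x239357a0c2aa1cb1f974c72cf66e985ab679af762bab6581d22484c63105913c455704b38014a354083)) (.leaf (nat_lit 0x2a7f08afb63ce8a61831b1baf56b49aeda592775ec9c6585c21814c931050400a0c72cd39644520f552))))) (.node (nat_lit 46) (.node (nat_lit 40) (.leaf (nat_lit 0x267f69e887172fa6d82391b6b4af5a9ec32b2276e9736584412c24d63103440ca0071941495ce20f495)) (.node (nat_lit 43) (.leaf (nat_lit 0x298646e7d9fcb3d26bf58da730bb1b6bb22aa87607a56583153cb4c81d024e5914840862835c504050d)) (.leaf (nat_lit 0x2dd26a22b35bb286a6a9daf9647a37dbc5cc2076bce76585d40864c31d055124e34421214f28c00158b)))) (.node (nat_lit 50) (.node (nat_lit 47) (.leaf (nat_lit 0x35a9faf2d2d6da8ec8b699ebe1964c33a6ec5c7689e06583000d44c24502c534404a4963951d71893c8))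 (.leaf (nat_lit 0x2dc61a227f56a09aaba4da76e97a3b25d1cc3276bcef6582880864c34505472453cc51238d5c458b001))) (.node (nat_lit 51) (.leaf (nat_lit 0x35c24ada9adca7db4723a73bb1be1a9eb207e27686e565810b0c04c21d03ca05159718814930e49550d)) (.leaf (nat_lit 0x349aa6a8b217b2c6d9f07ee964af5d9c8dba7376f8226581d40024c111020a0d734e54f4523052d6246))))))⟩
def isoCertC1 : LevCert := ⟨isoCertL1,
    [(nat_lit 37, nat_lit 0), (nat_lit 27, nat_lit 1), (nat_lit 32, nat_lit 0), (nat_lit 28, nat_lit 1), (nat_lit 40, nat_lit 0), (nat_lit 34, nat_lit 1), (nat_lit 43, nat_lit 0), (nat_lit 30, nat_lit 1), (nat_lit 46, nat_lit 0), (nat_lit 39, nat_lit 1), (nat_lit 51, nat_lit 0), (nat_lit 50, nat_lit 1), (nat_lit 47, nat_lit 1)],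
    [[nat_lit 2, nat_lit 0, nat_lit 0, nat_lit 2], [nat_lit 4, nat_lit 2, nat_lit 4, nat_lit 4, nat_lit 2, nat_lit 4, nat_lit 4, nat_lit 4, nat_lit 2, nat_lit 2, nat_lit 2]],
    [nat_lit 0x2cb74c9caa4be2d70a267eb7a3cf6c6785ba6e76581a6581065124cd31020a54e25158f5cb1c5083040, nat_lit 0x29b346e7b5fbe8926cb08e5af5bb1d9c862ab376079a6585c23cb4c839024758a0c554645230450d040]⟩
def isoCertL2 : Lev := ⟨nat_lit 27, nat_lit 0xc49a558000000, (.node (nat_lit 39) (.node (nat_lit 32) (.node (nat_lit 28) (.leaf (nat_lit 0x36d74cf2c70beeb6caeaa689e69648e28607de75c6da6585d65544d24503ce34c2ca2481c61440c2040)) (.node (nat_lit 30) (.leaf (nat_lit 0x1fc3481ed69bebda3724c73a2d8aab258679b275bb9a6581032094cf29059719108750b30d385495040)) (.leaf (nat_lit 0x239b47ab92abe5c759dfdaecaca2da6085cc1b762cda6585cd2434c61d055108550c3d23882842d6040)))) (.node (nat_lit 34) (.leaf (nat_lit 0x2cb74c9caa4be2d70a267eb7a3cf6c6785ba6e76581a6581065124cd31020a54e25158f5cb1c5083040))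 (.node (nat_lit 37) (.leaf (nat_lit 0x318f4ba8da6bf3aad7a9b22730af57db865920767c9a6581155824cb5d050c0c748e20d28f445246040)) (.leaf (nat_lit 0x269349e0c31bdcb1f975ab2cf66e9b6b85e8e876e89a6581122c84d62901853c754e0895c344c354040))))) (.node (nat_lit 46) (.node (nat_lit 40) (.leaf (nat_lit 0x35c74ae27edbe09aabacc276e97a3932873da576871a6581080c64c215048c2513c73555d438a58b040)) (.node (nat_lit 43) (.leaf (nat_lit 0x2a7f48b3b23bf2a76831b5b9647309ae86bd6775ea1a6581141954c915009748e3512c32961cc20f040)) (.leaf (nat_lit 0x26a749f2c31bdc7ec6ead60cf69648e2868b5e76eada6581522d44d61d00c434a54c2424465ce3c8040)))) (.node (nat_lit 50) (.leaf (nat_lit 0x2dab4a27a75bdb8e68b091e81fbb1d9c872b3376b95a65814f08b4c31d034e58c217554112291189040)) (.node (nat_lit 51) (.leaf (nat_lit 0x23db479b92abe5c29ced99ccac81fd6886ec6b7629da65814d24f4c64502c721750a0d610230e552040)) (.leaf (nat_lit 0x29b346e7b5fbe8926cb08e5af5bb1d9c862ab376079a6585c23cb4c839024758a0c554645230450d040))))))⟩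
def isoCertC2 : LevCert := ⟨isoCertL2,
    [(nat_lit 32, nat_lit 0), (nat_lit 51, nat_lit 1), (nat_lit 28, nat_lit 1), (nat_lit 37, nat_lit 0), (nat_lit 30, nat_lit 1), (nat_lit 50, nat_lit 0), (nat_lit 34, nat_lit 1), (nat_lit 40, nat_lit 1), (nat_lit 39, nat_lit 0), (nat_lit 43, nat_lit 1), (nat_lit 46, nat_lit 0)],
    [[nat_lit 2, nat_lit 2, nat_lit 2, nat_lit 0, nat_lit 0, nat_lit 2, nat_lit 2, nat_lit 2], [nat_lit 4, nat_lit 2, nat_lit 4, nat_lit 4, nat_lit 2, nat_lit 4, nat_lit 2, nat_lit 4, nat_lit 4, nat_lit 2, nat_lit 4, nat_lit 4, nat_lit 4, nat_lit 2, nat_lit 4], [nat_lit 4, nat_lit 6, nat_lit 6, nat_lit 4, nat_lit 4, nat_lit 6]],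
    [nat_lit 0x30d747259b6be7b64ae3a68bb1caca9e8607e27736da65814b48d4d53903d150a58c1881095c70c2040, nat_lit 0x2ad748aeb23bf2b71af6a689649e6c338607dc75e6da6581d41964c93103ca2d134e4885d51050c2040, nat_lit 0x2cd74cb3aa4be2b76af1a687a37309ae8607e77656da6584465154cd5d03c54872442c831638a0c2040]⟩
def isoCertL3 : Lev := ⟨nat_lit 28, nat_lit 0xc40a450000000, (.node (nat_lit 39) (.node (nat_lit 34) (.node (nat_lit 30) (.leaf (nat_lit 0x36d74cf2c70beeb6caeaa689e69648e28607de75c6da6585d65544d24503ce34c2ca2481c61440c2040)) (.leaf (nat_lit 0x2ad748aeb23bf2b71af6a689649e6c338607dc75e6da6581d41964c93103ca2d134e4885d51050c2040))) (.node (nat_lit 37) (.leaf (nat_lit 0x23d747a792abe5b66af0a68cacbb1d9c8607f37626da65810d24b4c62903cc58e5115481521d70c2040)) (.leaf (nat_lit 0x2cd74cb3aa4be2b76af1a687a37309ae8607e77656da6584465154cd5d03c54872442c831638a0c2040)))) (.node (nat_lit 50) (.node (nat_lit 46) (.leaf (nat_lit 0x31d74ba2da6bf3b6aaeca687307a39328607e57676da6583155864cb1d03c425748534845428e0c2040))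 (.leaf (nat_lit 0x26d749dec31bdcb63ae4a68cf68aab258607f276e6da6582922c94d61103c718555750838d3110c2040))) (.node (nat_lit 51) (.leaf (nat_lit 0x24d7495c8ecbdeb70ae6a688aacf6c678607ee7726da6583893524d41503d754418758828b44c0c2040)) (.leaf (nat_lit 0x30d747259b6be7b64ae3a68bb1caca9e8607e27736da65814b48d4d53903d150a58c1881095c70c2040)))))⟩
def isoCertC3 : LevCert := ⟨isoCertL3,
    [(nat_lit 51, nat_lit 0), (nat_lit 30, nat_lit 1), (nat_lit 37, nat_lit 2), (nat_lit 34, nat_lit 1), (nat_lit 50, nat_lit 2), (nat_lit 39, nat_lit 2), (nat_lit 46, nat_lit 2)],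
    [],
    []⟩
def isoCert : List LevCert := [isoCertC0, isoCertC1, isoCertC2, isoCertC3]
def isoCertL : List Lev := [isoCertL0, isoCertL1, isoCertL2, isoCertL3]
def isoCertAL0 : Lev := ⟨nat_lit 0, nat_lit 0x7dab4f, (.node (nat_lit 13) (.node (nat_lit 6) (.node (nat_lit 2) (.node (nat_lit 1) (.leaf (nat_lit 0xbdab49ca307b9ac5a928398a418820)) (.leaf (nat_lit 0xba2161cc82a2971794cd3a5ccac801))) (.node (nat_lit 3) (.leaf (nat_lit 0x3c296ab4924dd6e9a866608b10810f)) (.leaf (nat_lit 0x221731dae2a3a057c4cd62547006b2)))) (.node (nat_lit 9) (.node (nat_lit 8) (.leaf (nat_lit 0x3cd72459cf112a583023b822a6d0c9)) (.leaf (nat_lit 0x24075a094d0c6479dcc0724ac7a2cb))) (.node (nat_lit 11) (.leaf (nat_lit 0x38df36a1549320e14415b84855d926)) (.leaf (nat_lit 0x885155bc961de4e028c22a5879c1b4))))) (.node (nat_lit 19) (.node (nat_lit 16) (.node (nat_lit 15) (.leaf (nat_lit 0xbb5011bca299011a2970658eeac8c9)) (.leaf (nat_lit 0x8d6637c1c80304795d21299445da8d)))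 (.node (nat_lit 18) (.leaf (nat_lit 0x2be500d580b126a41e8b8b5d710cc9)) (.leaf (nat_lit 0x64822b008b4a871a9686734f743e13)))) (.node (nat_lit 21) (.node (nat_lit 20) (.leaf (nat_lit 0x74deb0218169ec58453451ae495462)) (.leaf (nat_lit 0x75aa0349497dc275c60864c85189b4))) (.node (nat_lit 22) (.leaf (nat_lit 0x63c12684f4116aa43923b9a2484d76)) (.leaf (nat_lit 0x50208a4ceda91f70947270991b2cc9))))))⟩
def isoCertAC0 : LevCert := ⟨isoCertAL0,
    [(nat_lit 6, nat_lit 0), (nat_lit 15, nat_lit 1), (nat_lit 1, nat_lit 0), (nat_lit 16, nat_lit 0), (nat_lit 19, nat_lit 1), (nat_lit 9, nat_lit 0), (nat_lit 8, nat_lit 1), (nat_lit 11, nat_lit 0), (nat_lit 18, nat_lit 1), (nat_lit 22, nat_lit 0), (nat_lit 21, nat_lit 1), (nat_lit 3, nat_lit 1), (nat_lit 20, nat_lit 0), (nat_lit 2, nat_lit 1), (nat_lit 13, nat_lit 0)],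
    [[nat_lit 2, nat_lit 2, nat_lit 2, nat_lit 0, nat_lit 2], [nat_lit 4, nat_lit 4, nat_lit 2, nat_lit 2, nat_lit 4, nat_lit 4, nat_lit 4, nat_lit 2, nat_lit 4, nat_lit 4]],
    [nat_lit 0x2a075988904c64c7dd663d94ea3420, nat_lit 0x2be53354891b20a41da2bd1d15d820]⟩
def isoCertAL1 : Lev := ⟨nat_lit 2, nat_lit 0x7dab4c, (.node (nat_lit 15) (.node (nat_lit 8) (.node (nat_lit 3) (.leaf (nat_lit 0xbdab49ca307b9ac5a928398a418820)) (.node (nat_lit 6) (.leaf (nat_lit 0x62e549d49041db7b152f7195110c20)) (.leaf (nat_lit 0x3d26b34189446ca6b86fb88a495420)))) (.node (nat_lit 11) (.node (nat_lit 9) (.leaf (nat_lit 0x2be53354891b20a41da2bd1d15d820)) (.leaf (nat_lit 0xbadb34522fab205b1c5250c8e49820))) (.node (nat_lit 13) (.leaf (nat_lit 0x70ea6a4a2d5a92715e162cd8443c20)) (.leaf (nat_lit 0x51a839b5d05904c495f63a2f1ac820))))) (.node (nat_lit 19) (.node (nat_lit 16) (.leaf (nat_lit 0x2492d419cf14685adec352cec9c020)) (.node (nat_lit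 18) (.leaf (nat_lit 0x256881b5c2495e792a06bcd91b2c20)) (.leaf (nat_lit 0x2a075988904c64c7dd663d94ea3420)))) (.node (nat_lit 21) (.node (nat_lit 20) (.leaf (nat_lit 0x2a20614c839292e7ded53ae2c6d020)) (.leaf (nat_lit 0x8b5e2b208b93877a28d52a4ec9c020))) (.node (nat_lit 22) (.leaf (nat_lit 0x52453b0dcba321731e4d2d6247a020)) (.leaf (nat_lit 0x7097235a29692aa19514bbcec9c020))))))⟩
def isoCertAC1 : LevCert := ⟨isoCertAL1,
    [(nat_lit 18, nat_lit 0), (nat_lit 8, nat_lit 1), (nat_lit 13, nat_lit 0), (nat_lit 21, nat_lit 1), (nat_lit 22, nat_lit 0), (nat_lit 11, nat_lit 1), (nat_lit 9, nat_lit 1), (nat_lit 20, nat_lit 0), (nat_lit 6, nat_lit 0), (nat_lit 3, nat_lit 1), (nat_lit 15, nat_lit 0), (nat_lit 16, nat_lit 1), (nat_lit 19, nat_lit 1)],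
    [[nat_lit 2, nat_lit 0, nat_lit 2, nat_lit 0, nat_lit 0, nat_lit 0], [nat_lit 2, nat_lit 2, nat_lit 4, nat_lit 2, nat_lit 2, nat_lit 4, nat_lit 4, nat_lit 4, nat_lit 4]],
    [nat_lit 0x3b6c67ad889a925a5eb07489118820, nat_lit 0x22e6894195a1df7b38cd2a55118820]⟩
def isoCertAL2 : Lev := ⟨nat_lit 4, nat_lit 0x8254b0, (.node (nat_lit 12) (.node (nat_lit 7) (.node (nat_lit 5) (.leaf (nat_lit 0xbdab49ca307b9ac5a928398a418820)) (.leaf (nat_lit 0x3b6c67ad889a925a5eb07489118820))) (.node (nat_lit 10) (.leaf (nat_lit 0x8d1f05a0b633a676aa49256ec18820)) (.leaf (nat_lit 0x2bd69a5aed938ca412753c22c18820)))) (.node (nat_lit 17) (.node (nat_lit 14) (.leaf (nat_lit 0x725b29d0b07dea431ec852e2c18820)) (.leaf (nat_lit 0x63569458ef810d1a3ab3bc94518820))) (.node (nat_lit 23) (.leaf (nat_lit 0x5552b7988899ed1939b0bd18518820)) (.leaf (nat_lit 0x22e6894195a1df7b38cd2a55118820)))))⟩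
def isoCertAC2 : LevCert := ⟨isoCertAL2,
    [(nat_lit 5, nat_lit 0), (nat_lit 23, nat_lit 1), (nat_lit 12, nat_lit 0), (nat_lit 7, nat_lit 1), (nat_lit 10, nat_lit 0), (nat_lit 17, nat_lit 0), (nat_lit 14, nat_lit 1)],
    [[nat_lit 0, nat_lit 0, nat_lit 2, nat_lit 0, nat_lit 2, nat_lit 2, nat_lit 2, nat_lit 2], [nat_lit 4, nat_lit 4, nat_lit 2, nat_lit 2]],
    [nat_lit 0x8bcd6925d5a5d674326d540a418820, nat_lit 0x2a695835d34464c32acf3aee418820]⟩
def isoCertAL3 : Lev := ⟨nat_lit 5, nat_lit 0x824020, (.node (nat_lit 17) (.node (nat_lit 14) (.leaf (nat_lit 0xbdab49ca307b9ac5a928398a418820)) (.leaf (nat_lit 0x721696da34a94c77b21254ee418820))) (.node (nat_lit 23) (.leaf (nat_lit 0x8d668b40ab4b9ea91da6652e418820)) (.leaf (nat_lit 0x2a695835d34464c32acf3aee418820))))⟩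
def isoCertAC3 : LevCert := ⟨isoCertAL3,
    [(nat_lit 23, nat_lit 1), (nat_lit 14, nat_lit 0), (nat_lit 17, nat_lit 0)],
    [[nat_lit 2, nat_lit 2, nat_lit 0]],
    [nat_lit 0x8bcd6925d5a5d674326d540a418820]⟩
def isoCertAL4 : Lev := ⟨nat_lit 6, nat_lit 0x210040, (.node (nat_lit 16) (.leaf (nat_lit 0xbdab49ca307b9ac5a928398a418820)) (.node (nat_lit 21) (.leaf (nat_lit 0x7520f4cee6b450a69e4b654a418820)) (.leaf (nat_lit 0x8bcd6925d5a5d674326d540a418820))))⟩
def isoCertAC4 : LevCert := ⟨isoCertAL4,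
    [(nat_lit 21, nat_lit 0), (nat_lit 16, nat_lit 0)],
    [],
    []⟩
def isoCertA : List LevCert := [isoCertAC0, isoCertAC1, isoCertAC2, isoCertAC3, isoCertAC4]
def isoCertAL : List Lev := [isoCertAL0, isoCertAL1, isoCertAL2, isoCertAL3, isoCertAL4]
theorem iso_ok : H56.isoOK 24 5 32 31 5 32 55 6 m24_2ACL L52.tvCL isoA isoB isoS
    isoCert isoCertA = true := by decide +kernel
theorem iso_ss : ssOK 6 64 55 isoCert isoS = true := by decide +kernel


/-- The Mathieu group M₂₄ (the automorphism group of the length-24 binary code) has an involution whose centraliser is isomorphic to the centraliser of a transvection in SL(5, 2) (a group of shape 2^{1+6}:GL(3, 2)). -/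
theorem result (s : Matrix.SpecialLinearGroup (Fin 5) (ZMod 2)) (hs : (s : Matrix (Fin 5) (Fin 5) (ZMod 2)) = Matrix.transvection 0 1 1) : ∃ z : ↥Cfsg.M24, orderOf z = 2 ∧ Nonempty (↥(Subgroup.centralizer ({z} : Set ↥Cfsg.M24)) ≃* ↥(Subgroup.centralizer ({s} : Set (Matrix.SpecialLinearGroup (Fin 5) (ZMod 2))))) := by
  obtain ⟨ι, -⟩ := exists_hom F2 (ZMod.card 2)
  obtain ⟨φ, hφ⟩ := L52.model (ZMod.card 2) ι
  obtain ⟨ψ, hψ⟩ := hφ.exists_equiv
  have h1 : L52.E.pk (φ s) = L52.tv.X := pk_eq_of_actOK ι _ L52.E _ (modelOK_pts L52.ok) hφ.act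
    L52.tv_act (hs.trans (matOf_transvection ι (0 : Fin 5) 1 (by decide)).symm)
  have h2 : (ψ s : Equiv.Perm (Fin 31)) = L52.E.perm L52.tv.X := by rw [hψ, ← h1, L52.E.perm_pk]
  obtain ⟨e1⟩ := centralizer_equiv ψ s
  obtain ⟨e2⟩ := cent_subtype_equiv (ψ s)
  rw [h2] at e2
  obtain ⟨e3⟩ := equiv_of_isoOK L52.tvC_spec.1 m24_2AC_spec.1 55 6 64 rfl rfl (by decide) iso_ok
    iso_ss (by decide +kernel)
  obtain ⟨e4⟩ := cent_subtype_equiv (⟨_, m24_classes.mem m24_2A_mem⟩ : M24)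
  refine ⟨_, ?_, ⟨(((e1.trans e2).trans e3).trans e4.symm).symm⟩⟩
  rw [← Subgroup.orderOf_coe]
  exact m24_classes.orderOf_eq m24_2A_mem (f := 2) (by decide +kernel) (by decide)

end Cfsg.Agent.S2133
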