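import Cfsg.Statements.S0204
import Cfsg.Agent.S0205
import Cfsg.Agent.S0225

set_option autoImplicit false
set_option linter.style.haveILetI false
open Cfsg

namespace Cfsg.Agent.S0204

/-- A non-cyclic finite simple group contains a subgroup which is a Klein four-group; this combines the Odd Order Theorem, Burnside's transfer argument for cyclic Sylow 2-subgroups and the Brauer–Suzuki Theorem. -/
theorem result {G : Type*} [Group G] [Finite G] [IsSimpleGroup G] (hG : ¬ IsCyclic G) : ∃ E : Subgroup G, IsKleinFour E := by
  by_contra! hrank
  have hns : ¬ Group.IsSolvable G := fun hs => by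
    have hc := IsSimpleGroup.comm_iff_isSolvable.2 hs
    letI : CommGroup G := { mul_comm := hc }
    exact hG inferInstance
  obtain ⟨z, hz, N, hN, hNo, h⟩ := S0225.result (G := G)
    (Nat.not_odd_iff_even.1 fun h => hns (S0205.result h)) hrank
  rcases hN.eq_bot_or_eq_top with rfl | rfl
  · have hzc : z ∈ Subgroup.center G := Subgroup.mem_center_iff.2 fun g => by
      have := Subgroup.mem_bot.1 (h g)
      rw [mul_inv_eq_one, mul_inv_eq_iff_eq_mul] at this
      exact this.symm
    rcases (inferInstance : (Subgroup.center G).Normal).eq_bot_or_eq_top with h1 | h1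
    · rw [h1, Subgroup.mem_bot] at hzc
      rw [hzc, orderOf_one] at hz
      omega
    · exact hns (Group.isSolvable_of_comm fun a b =>
        Subgroup.mem_center_iff.1 (h1 ▸ Subgroup.mem_top b) a)
  · rw [Subgroup.card_top] at hNo
    exact hns (S0205.result hNo)

end Cfsg.Agent.S0204
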