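import Cfsg.Statements.S3261
import Cfsg.Agent.S3035
import Cfsg.Agent.S0255
import Cfsg.Agent.H9.QuatHom
import Cfsg.Agent.H22.Core

set_option autoImplicit false
open Cfsg

namespace Cfsg.Agent.S3261

open Subgroup Equiv

/-- the double transposition `(0 1)(2 3)` -/
def a0 : Perm (Fin 6) := swap 0 1 * swap 2 3

def u0 : Perm (Fin 6) := swap 0 1 * swap 0 2 * swap 1 3 * swap 4 5

def s0 : Perm (Fin 6) := swap 0 1 * swap 4 5

theorem count0 : (Finset.univ.filter fun g : Perm (Fin 6) =>
    Perm.sign g = 1 ∧ g * a0 = a0 * g).card = 8 := by decide +kernel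

theorem h : a0 ∈ alternatingGroup (Fin 6) := by rw [Perm.mem_alternatingGroup]; decide +kernel
theorem hu : u0 ∈ alternatingGroup (Fin 6) := by rw [Perm.mem_alternatingGroup]; decide +kernel
theorem hs : s0 ∈ alternatingGroup (Fin 6) := by rw [Perm.mem_alternatingGroup]; decide +kernel

theorem cent0 :
    Nonempty (centralizer ({⟨a0, h⟩} : Set (alternatingGroup (Fin 6))) ≃* DihedralGroup 4) := by
  have h4 : orderOf (⟨u0, hu⟩ : alternatingGroup (Fin 6)) = 4 := by
    rw [← orderOf_coe]
    exact orderOf_eq_prime_pow (p := 2) (n := 1) (x := u0) (by decide +kernel) (by decide +kernel)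
  obtain ⟨D, -, -, hD, hc, he⟩ := H9.exists_subgroup_dihedral (n := 4) (by norm_num)
    (⟨u0, hu⟩ : alternatingGroup (Fin 6)) ⟨s0, hs⟩ h4 (Subtype.ext (by decide +kernel))
    (Subtype.ext (by decide +kernel)) (by
      rw [mem_zpowers_iff_mem_range_orderOf, h4]
      decide +kernel)
  have h8 : Nat.card (centralizer ({⟨a0, h⟩} : Set (alternatingGroup (Fin 6)))) = 8 := by
    rw [← count0, ← Fintype.card_subtype, ← Nat.card_eq_fintype_card]
    exact Nat.card_congr ⟨fun g => ⟨g.1.1, g.1.2,
      congrArg Subtype.val (mem_centralizer_singleton_iff.1 g.2)⟩,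
      fun g => ⟨⟨g.1, g.2.1⟩, mem_centralizer_singleton_iff.2 (Subtype.ext g.2.2)⟩,
      fun _ => rfl, fun _ => rfl⟩
  have h5 : D = centralizer ({⟨a0, h⟩} : Set (alternatingGroup (Fin 6))) := by
    refine eq_of_le_of_card_ge (hD.trans ?_) (by rw [hc, h8])
    rw [closure_le, Set.insert_subset_iff, Set.singleton_subset_iff]
    exact ⟨mem_centralizer_singleton_iff.2 (Subtype.ext (by decide +kernel)),
      mem_centralizer_singleton_iff.2 (Subtype.ext (by decide +kernel))⟩
  exact h5 ▸ he

theorem cycleType_eq {a : Perm (Fin 6)} (h2 : orderOf a = 2) (h4 : a.support.card = 4) :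
    a.cycleType = Multiset.replicate 2 2 := by
  have h1 := Perm.cycleType_of_pow_prime_eq_one (p := 2) (σ := a) (h2 ▸ pow_orderOf_eq_one a)
  have h3 := a.sum_cycleType
  rw [h1, Multiset.sum_replicate, h4, smul_eq_mul] at h3
  rw [h1]
  congr 1
  omega

theorem cent (αt : alternatingGroup (Fin 6)) (hαt : orderOf αt = 2)
    (hsupp : (αt : Perm (Fin 6)).support.card = 4) :
    Nonempty (centralizer ({αt} : Set (alternatingGroup (Fin 6))) ≃* DihedralGroup 4) := by
  have h1 : IsConj (αt : Perm (Fin 6)) a0 := by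
    rw [Perm.isConj_iff_cycleType_eq, cycleType_eq (by rw [orderOf_coe, hαt]) hsupp,
      cycleType_eq (orderOf_eq_prime (by decide +kernel) (by decide +kernel)) (by decide +kernel)]
  obtain ⟨g, hg⟩ := isConj_iff.1 h1
  obtain ⟨e⟩ := cent0
  let φ : MulAut (alternatingGroup (Fin 6)) := MulAut.conjNormal g
  have h2 : φ αt = ⟨a0, h⟩ := Subtype.ext hg
  have h3 : (centralizer ({αt} : Set (alternatingGroup (Fin 6)))).map φ.toMonoidHom =
      centralizer {⟨a0, h⟩} := by
    ext x
    rw [← h2, mem_map_equiv, mem_centralizer_singleton_iff, mem_centralizer_singleton_iff,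
      ← φ.injective.eq_iff, map_mul, map_mul, MulEquiv.apply_symm_apply]
  exact ⟨(φ.subgroupMap _).trans ((MulEquiv.subgroupCongr h3).trans e)⟩


/-- Let α̃ be an involution of the alternating group A₆ that is a product of two disjoint transpositions (it lies in the centre of a Sylow 2-subgroup of A₆; its centralizer is dihedral of order 8). Let G be a finite group that has no subgroup of index 2 and contains an involution α, central in some Sylow 2-subgroup of G, with C_G(α) ≅ C_{A₆}(α̃). Then G is isomorphic to A₆ or to PSL₂(7). -/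
theorem result {G : Type*} [Group G] [Finite G]
    (hG : ∀ H : Subgroup G, H.index ≠ 2)
    (αt : ↥(alternatingGroup (Fin 6))) (hαt : orderOf αt = 2) (hsupp : (αt : Equiv.Perm (Fin 6)).support.card = 4)
    (α : G) (hα : orderOf α = 2) (S : Sylow 2 G) (hαS : α ∈ (S : Subgroup G)) (hαc : ∀ s ∈ (S : Subgroup G), s * α = α * s)
    (e : ↥(Subgroup.centralizer ({α} : Set G)) ≃* ↥(Subgroup.centralizer ({αt} : Set ↥(alternatingGroup (Fin 6))))) :
    Nonempty (G ≃* ↥(alternatingGroup (Fin 6))) ∨
      (∃ (F : Type) (_ : Field F) (_ : Fintype F), Fintype.card F = 7 ∧ Nonempty (G ≃* Matrix.ProjectiveSpecialLinearGroup (Fin 2) F)) := by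
  have hsym : ∀ n : ℕ, ¬ Nonempty (G ≃* Perm (Fin (n + 2))) := fun n ⟨f⟩ =>
    hG ((alternatingGroup (Fin (n + 2))).comap f.toMonoidHom) (by
      rw [index_comap_of_surjective _ f.surjective, alternatingGroup.index_eq_two])
  obtain ⟨e'⟩ := cent αt hαt hsupp
  rcases S3035.result α hα ⟨e.trans e'⟩ with h | h | h | ⟨⟨f⟩⟩ | h
  · exfalso
    have h8 : Nat.card (centralizer ({α} : Set G)) = 2 ^ 3 := by
      rw [Nat.card_congr (e.trans e').toEquiv, DihedralGroup.nat_card]; rfl
    have hc : (oddCore G).Characteristic := H22.pPrimeCore_characteristic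
    have hp : IsPGroup 2 (G ⧸ oddCore G) := by
      have h1 := (IsPGroup.of_card h8).map (QuotientGroup.mk' (oddCore G))
      have h2 : (centralizer ({α} : Set G)).map (QuotientGroup.mk' (oddCore G)) = ⊤ := by
        have h3 := congrArg (Subgroup.map (QuotientGroup.mk' (oddCore G))) h
        rwa [Subgroup.map_sup, QuotientGroup.map_mk'_self, sup_bot_eq,
          map_top_of_surjective _ (QuotientGroup.mk'_surjective _)] at h3
      rw [h2] at h1
      exact h1.of_equiv topEquiv
    have hne : Nat.card (G ⧸ oddCore G) ≠ 1 := fun h1 => by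
      have h2 : (Nat.card (oddCore G)).Coprime 2 := H22.coprime_card_pPrimeCore
      rw [index_eq_one.1 h1, card_top] at h2
      exact absurd (Nat.Coprime.coprime_dvd_left (hα ▸ orderOf_dvd_natCard α) h2) (by norm_num)
    obtain ⟨k, hk⟩ := hp.exists_card_eq
    obtain ⟨k, rfl⟩ : ∃ j, k = j + 1 := Nat.exists_eq_succ_of_ne_zero (by rintro rfl; exact hne hk)
    obtain ⟨K, hK⟩ := Sylow.exists_subgroup_card_pow_prime (G := G ⧸ oddCore G) 2 (n := k)
      (hk ▸ pow_dvd_pow 2 k.le_succ)
    refine hG (K.comap (QuotientGroup.mk' (oddCore G))) ?_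
    rw [index_comap_of_surjective _ (QuotientGroup.mk'_surjective _)]
    have h3 := K.card_mul_index
    rw [hK, hk, pow_succ] at h3
    exact Nat.eq_of_mul_eq_mul_left (by positivity) h3
  · exact absurd h (hsym 2)
  · exact absurd h (hsym 3)
  · have : Fact (Nat.Prime 7) := ⟨by norm_num⟩
    have hz : center (Matrix.SpecialLinearGroup (Fin 3) (ZMod 2)) = ⊥ := by
      rw [← card_eq_one, H9.card_center_sl]; simp
    obtain ⟨e2⟩ := S0255.result (F := ZMod 7) (K := ZMod 2) (by simp) (by simp)
    exact .inr ⟨ZMod 7, inferInstance, inferInstance, by simp,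
      ⟨f.trans ((H9.quotCenterEquivOfBot hz).symm.trans e2.symm)⟩⟩
  · exact .inl h

end Cfsg.Agent.S3261
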