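import Cfsg.Statements.S3121
import Mathlib
import Cfsg.Agent.S1911
import Cfsg.Agent.S0205
import Cfsg.Agent.H44.Components
import Cfsg.Agent.S0065

set_option autoImplicit false
open Cfsg

namespace Cfsg.Agent.S3121


/-- Let G be a finite group whose generalized Fitting subgroup F*(G) is a non-abelian simple group, let H be a tightly embedded subgroup of G and N its normalizer. If H^g ∩ N has odd order for every element g of G outside N, then either H is normal in G or F*(G) has a strongly embedded subgroup. -/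
theorem result {G : Type*} [Group G] [Finite G]
    (hF : IsSimpleGroup ↥(Cfsg.generalizedFittingSubgroup G)) (hF' : ¬ IsMulCommutative ↥(Cfsg.generalizedFittingSubgroup G))
    (H : Subgroup G) (hH : Cfsg.IsTightlyEmbedded H)
    (hodd : ∀ g : G, g ∉ Subgroup.normalizer (H : Set G) →
      Odd (Nat.card ↥(H.map (MulAut.conj g).toMonoidHom ⊓ Subgroup.normalizer (H : Set G)))) :
    H.Normal ∨ ∃ M : Subgroup ↥(Cfsg.generalizedFittingSubgroup G), Cfsg.IsStronglyEmbedded M := by
  classical
  set F := Cfsg.generalizedFittingSubgroup G with hFdef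
  haveI hFn : F.Normal := inferInstance
  rcases Cfsg.Agent.S1911.result H hH hodd with h | h
  · exact Or.inl h
  right
  set K := Subgroup.normalClosure (H : Set G) with hK
  set N := Subgroup.normalizer (H : Set G) with hN
  obtain ⟨hM1, hM2, hM3⟩ := h
  -- F has even order
  have hFeven : Even (Nat.card F) := by
    by_contra hc
    have hs : Group.IsSolvable F := Cfsg.Agent.S0205.result (Nat.not_even_iff_odd.mp hc)
    exact hF' (IsSimpleGroup.comm_iff_isSolvable.mpr hs |> fun h => ⟨⟨h⟩⟩)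
  -- F ≤ K
  have hFK : F ≤ K := by
    have hn : ((K ⊓ F).subgroupOf F).Normal := inferInstance
    rcases hn.eq_bot_or_eq_top with h | h
    · exfalso
      have h1 : K ⊓ F = ⊥ := by
        rw [Subgroup.subgroupOf_eq_bot] at h
        exact h.eq_bot_of_le inf_le_right
      have h2 : K ≤ Subgroup.centralizer (F : Set G) := by
        rw [← Subgroup.commutator_eq_bot_iff_le_centralizer, eq_bot_iff, ← h1]
        exact Subgroup.commutator_le_inf K F
      have h3 : K ≤ F := h2.trans H44.centralizer_gfitting_le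
      have h4 : K = ⊥ := by rw [← h1]; exact (inf_eq_left.mpr h3).symm
      apply hM1
      rw [eq_top_iff]
      intro x _
      have : (x : G) = 1 := Subgroup.mem_bot.mp (h4.le x.2)
      rw [Subgroup.mem_subgroupOf, this]
      exact one_mem _
    · rw [Subgroup.subgroupOf_eq_top] at h
      exact h.trans inf_le_left
  -- an odd-order bound for N ∩ N^g ∩ K
  have key : ∀ g ∈ K, g ∉ N → ∀ x : G, orderOf x = 2 → x ∈ K → x ∈ N → g⁻¹ * x * g ∈ N → False := by
    intro g hg hgN x hx hxK hxN hxg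
    have h1 := hM3 ⟨g, hg⟩ (by simpa [Subgroup.mem_subgroupOf] using hgN)
    have h2 : (⟨x, hxK⟩ : K) ∈ N.subgroupOf K ⊓ (N.subgroupOf K).map (MulAut.conj (⟨g, hg⟩ : K)).toMonoidHom := by
      refine ⟨hxN, ⟨⟨g⁻¹ * x * g, K.mul_mem (K.mul_mem (K.inv_mem hg) hxK) hg⟩, hxg, ?_⟩⟩
      ext
      simp [mul_assoc]
    have h3 := Subgroup.orderOf_dvd_natCard _ h2
    rw [← Subgroup.orderOf_coe] at h3
    simp only [hx] at h3
    exact (Nat.not_even_iff_odd.mpr h1) (even_iff_two_dvd.mpr h3)
  obtain ⟨g0, hg0⟩ : ∃ g0 : K, g0 ∉ N.subgroupOf K := by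
    by_contra hc
    push Not at hc
    exact hM1 (eq_top_iff.mpr fun x _ => hc x)
  have hFN : ¬ F ≤ N := by
    intro hle
    obtain ⟨x, hx⟩ := exists_prime_orderOf_dvd_card' (G := F) 2 (even_iff_two_dvd.mp hFeven)
    refine key g0 g0.2 hg0 x (by rw [Subgroup.orderOf_coe, hx]) (hFK x.2) (hle x.2) (hle ?_)
    have := hFn.conj_mem x x.2 (g0 : G)⁻¹
    simpa using this
  refine ⟨N.subgroupOf F, ?_, ?_, ?_⟩
  · intro h
    rw [Subgroup.subgroupOf_eq_top] at h
    exact hFN h
  · -- N ∩ F has even order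
    obtain ⟨t, ht⟩ := exists_prime_orderOf_dvd_card' (G := N.subgroupOf K) 2 (even_iff_two_dvd.mp hM2)
    set t0 : G := ((t : K) : G) with ht0
    have ht02 : orderOf t0 = 2 := by rw [ht0, Subgroup.orderOf_coe, Subgroup.orderOf_coe, ht]
    have htK : t0 ∈ K := (t : K).2
    have htN : t0 ∈ N := t.2
    -- t0 centralizes an involution of F
    have hP : IsPGroup 2 (Subgroup.zpowers t0) := by
      apply IsPGroup.of_card (n := 1)
      rw [Nat.card_zpowers, ht02]; rfl
    obtain ⟨Q, hQ⟩ := hP.exists_le_sylow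
    have hQF : ((Q : Subgroup G) ⊓ F) ≠ ⊥ := by
      intro hb
      obtain ⟨x, hx⟩ := exists_prime_orderOf_dvd_card' (G := F) 2 (even_iff_two_dvd.mp hFeven)
      have hPx : IsPGroup 2 (Subgroup.zpowers (x : G)) := by
        apply IsPGroup.of_card (n := 1)
        rw [Nat.card_zpowers, Subgroup.orderOf_coe, hx]; rfl
      obtain ⟨Q', hQ'⟩ := hPx.exists_le_sylow
      obtain ⟨g, hg⟩ := MulAction.exists_smul_eq G Q' Q
      have h1 : g * x * g⁻¹ ∈ (Q : Subgroup G) := by
        rw [← hg]
        exact ⟨x, hQ' (Subgroup.mem_zpowers _), rfl⟩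
      have h2 : g * x * g⁻¹ ∈ (Q : Subgroup G) ⊓ F := ⟨h1, hFn.conj_mem _ x.2 g⟩
      rw [hb, Subgroup.mem_bot] at h2
      have h3 : (x : G) = 1 := by
        have : (x : G) = g⁻¹ * (g * x * g⁻¹) * g := by group
        rw [this, h2]; group
      have : orderOf (x : G) = 2 := by rw [Subgroup.orderOf_coe, hx]
      rw [h3, orderOf_one] at this
      omega
    have hQP : IsPGroup 2 (Q : Subgroup G) := Q.isPGroup'
    haveI : Group.IsNilpotent (Q : Subgroup G) := hQP.isNilpotent
    have hne : F.subgroupOf (Q : Subgroup G) ≠ ⊥ := by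
      intro hb
      rw [Subgroup.subgroupOf_eq_bot] at hb
      exact hQF hb.symm.eq_bot
    obtain ⟨⟨x, hxF, hxZ⟩, hx1⟩ := (Subgroup.ne_bot_iff_exists_ne_one).mp (Cfsg.Agent.S0065.result _ hne)
    have hx1' : x ≠ 1 := fun h => hx1 (Subtype.ext h)
    have hxF' : (x : G) ∈ F := hxF
    have hc : t0 * x = x * t0 :=
      congrArg Subtype.val (Subgroup.mem_center_iff.mp hxZ ⟨t0, hQ (Subgroup.mem_zpowers _)⟩)
    have hxN : (x : G) ∈ N := by
      by_contra hxN
      refine key x (hFK hxF') hxN t0 ht02 htK htN ?_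
      rw [mul_assoc, hc, ← mul_assoc, inv_mul_cancel, one_mul]
      exact htN
    obtain ⟨k, hk⟩ := (IsPGroup.iff_orderOf.mp hQP) x
    have hk0 : k ≠ 0 := by
      rintro rfl
      exact hx1' (orderOf_eq_one_iff.mp hk)
    have h3 := Subgroup.orderOf_dvd_natCard (N.subgroupOf F) (x := ⟨x, hxF'⟩) hxN
    rw [← Subgroup.orderOf_coe] at h3
    change orderOf (x : G) ∣ _ at h3
    rw [Subgroup.orderOf_coe, hk] at h3
    exact even_iff_two_dvd.mpr ((dvd_pow_self 2 hk0).trans h3)
  · intro g hg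
    rw [← Nat.not_even_iff_odd]
    intro he
    obtain ⟨x, hx⟩ := exists_prime_orderOf_dvd_card' (G := ↥(N.subgroupOf F ⊓ (N.subgroupOf F).map (MulAut.conj g).toMonoidHom)) 2 (even_iff_two_dvd.mp he)
    obtain ⟨h1, y, hy, hyx⟩ := x.2
    refine key g (hFK g.2) hg ((x : F) : G) (by rw [Subgroup.orderOf_coe, Subgroup.orderOf_coe, hx]) (hFK (x : F).2) h1 ?_
    rw [← hyx]
    have : (g : G)⁻¹ * (((MulAut.conj g).toMonoidHom y : F) : G) * g = y := by simp [mul_assoc]
    rw [this]
    exact hy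

end Cfsg.Agent.S3121
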