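import Cfsg.Statements.S3680
import Cfsg.Agent.H25.CharSimple
import Cfsg.Agent.H25.NormalMT
import Cfsg.Agent.S0703
import Cfsg.Agent.S0704
import Cfsg.Agent.S0721

set_option autoImplicit false
open Cfsg

namespace Cfsg.Agent.S3680

open MulAction

theorem eq_of_comm {G Ω : Type*} [Group G] [MulAction G Ω] [FaithfulSMul G Ω] {M : Subgroup G}
    (hM : IsPretransitive M Ω) {x y : G} (hx : ∀ m ∈ M, Commute m x) (hy : ∀ m ∈ M, Commute m y)
    {a : Ω} (h : x • a = y • a) : x = y := by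
  apply FaithfulSMul.eq_of_smul_eq_smul (α := Ω)
  intro b
  obtain ⟨m, rfl⟩ := hM.exists_smul_eq a b
  rw [Subgroup.smul_def, ← mul_smul, ← mul_smul, ← (hx m m.2).eq, ← (hy m m.2).eq, mul_smul,
    mul_smul, h]

theorem le_of_comm {G Ω : Type*} [Group G] [MulAction G Ω] [FaithfulSMul G Ω] {M N L : Subgroup G}
    (hM : IsPretransitive M Ω) (hN : IsPretransitive N Ω) (a : Ω)
    (h1 : ∀ m ∈ M, ∀ n ∈ N, Commute m n) (h2 : ∀ m ∈ M, ∀ l ∈ L, Commute m l) : L ≤ N := by
  intro l hl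
  obtain ⟨n, hn⟩ := hN.exists_smul_eq a (l • a)
  rw [← eq_of_comm hM (fun m hm => h1 m hm n n.2) (fun m hm => h2 m hm l hl) hn]
  exact n.2

theorem iso_of_comm {G Ω : Type*} [Group G] [MulAction G Ω] [FaithfulSMul G Ω] {M N : Subgroup G}
    (hM : IsPretransitive M Ω) (hN : IsPretransitive N Ω) (a : Ω)
    (h : ∀ m ∈ M, ∀ n ∈ N, Commute m n) : Nonempty (M ≃* N) := by
  choose f hf using fun m : M => hN.exists_smul_eq a ((m : G)⁻¹ • a)
  simp only [Subgroup.smul_def] at hf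
  have hinj : ∀ x y : N, (x : G) • a = (y : G) • a → x = y := fun x y e =>
    Subtype.ext (eq_of_comm hM (fun m hm => h m hm x x.2) (fun m hm => h m hm y y.2) e)
  have hmul : ∀ x y : M, f (x * y) = f x * f y := fun x y => hinj _ _ (by
    rw [hf, Subgroup.coe_mul, Subgroup.coe_mul, mul_smul, hf, ← mul_smul,
      ← (h _ (M.inv_mem y.2) _ (f x).2).eq, mul_smul, hf, mul_inv_rev, mul_smul])
  refine ⟨MulEquiv.ofBijective (MonoidHom.mk' f hmul) ⟨fun x y e => ?_, fun n => ?_⟩⟩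
  · have e' : (x : G)⁻¹ • a = (y : G)⁻¹ • a := by
      rw [← hf, ← hf]; exact congrArg (fun z : N => (z : G) • a) e
    exact Subtype.ext (inv_injective (eq_of_comm hN (fun n hn => (h _ (M.inv_mem x.2) n hn).symm)
      (fun n hn => (h _ (M.inv_mem y.2) n hn).symm) e'))
  · obtain ⟨m, hm⟩ := hM.exists_smul_eq a ((n : G) • a)
    refine ⟨m⁻¹, hinj _ _ ?_⟩
    rw [MonoidHom.mk'_apply, hf, Subgroup.coe_inv, inv_inv, ← hm, Subgroup.smul_def]

def addEquiv (T : Type) [Group T] (m : ℕ) : (Fin (m + m) → T) ≃* (Fin m → T) × (Fin m → T) :=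
  (MulEquiv.arrowCongr finSumFinEquiv.symm (MulEquiv.refl T)).trans
    { Equiv.sumArrowEquivProdArrow _ _ T with map_mul' := fun _ _ => rfl }

/-- The socle of a finite primitive permutation group. Let a finite group G act faithfully and primitively on a set Ω, and let N be the subgroup generated by the minimal normal subgroups of G. Then either N is an elementary abelian p-group for some prime p and acts regularly on Ω (transitively with trivial point stabilizers), or N is isomorphic to a direct product of m ≥ 1 copies of a non-abelian simple group. -/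
theorem result {G Ω : Type*} [Group G] [Finite G] [MulAction G Ω] [FaithfulSMul G Ω] [Finite Ω]
    (hprim : MulAction.IsPreprimitive G Ω) (N : Subgroup G)
    (hN : N = sSup {V : Subgroup G | V.Normal ∧ V ≠ ⊥ ∧ ∀ M : Subgroup G, M.Normal → M ≤ V → M = ⊥ ∨ M = V}) :
    (∃ p : ℕ, p.Prime ∧ IsMulCommutative N ∧ (∀ x : N, x ^ p = 1) ∧
      MulAction.IsPretransitive N Ω ∧ ∀ ω : Ω, MulAction.stabilizer N ω = ⊥) ∨
    (∃ (T : Type) (_ : Group T) (m : ℕ), 1 ≤ m ∧ IsSimpleGroup T ∧ ¬ IsMulCommutative T ∧ Nonempty (N ≃* (Fin m → T))) := by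
  rcases subsingleton_or_nontrivial G with hG | hG
  · have hb : N = ⊥ := Subsingleton.elim _ _
    refine Or.inl ⟨2, Nat.prime_two, ⟨⟨fun _ _ => Subsingleton.elim _ _⟩⟩,
      fun _ => Subsingleton.elim _ _, ⟨fun a b => ?_⟩, fun _ => Subsingleton.elim _ _⟩
    obtain ⟨g, hg⟩ := hprim.toIsPretransitive.exists_smul_eq a b
    exact ⟨1, by rw [one_smul, ← hg, Subsingleton.elim g 1, one_smul]⟩
  obtain ⟨M, hMn, hM0, hM⟩ := H25.exists_minNormal (G := G)
  have htr : ∀ L : Subgroup G, L.Normal → L ≠ ⊥ → IsPretransitive L Ω := fun L _ h =>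
    H25.normal_pretransitive L h
  have hne : Nonempty Ω := by
    by_contra hc
    obtain ⟨x, y, hxy⟩ := hG.exists_pair_ne
    exact hxy (FaithfulSMul.eq_of_smul_eq_smul (α := Ω) fun a => absurd ⟨a⟩ hc)
  obtain ⟨a⟩ := hne
  have hMt := htr M hMn hM0
  obtain ⟨T, _, m, hT, hm, ⟨e⟩⟩ := S0721.result M hM0 hM
  by_cases hab : IsMulCommutative M
  · have hc : ∀ m ∈ M, ∀ n ∈ M, Commute m n := fun m hm n hn =>
      congrArg Subtype.val (hab.is_comm.comm (⟨m, hm⟩ : M) ⟨n, hn⟩)
    have hNM : N = M := by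
      rw [hN]
      refine le_antisymm (sSup_le fun V ⟨hV, hV0, hVm⟩ => ?_) (le_sSup ⟨hMn, hM0, hM⟩)
      by_cases hMV : M = V
      · exact hMV.ge
      · exact le_of_comm hMt hMt a hc (S0704.commute_of_min M V hM0 hM hVm hMV).2
    subst hNM
    obtain ⟨p, hp, hpw⟩ := S0703.prime_exponent N hM0 hM hab
    refine Or.inl ⟨p, hp, hab, fun x => Subtype.ext (hpw x x.2), hMt, fun ω => ?_⟩
    rw [eq_bot_iff]
    intro x hx
    exact Subtype.ext (eq_of_comm hMt (fun m hm => hc m hm x x.2) (fun m _ => Commute.one_right m)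
      (a := ω) (by rw [OneMemClass.coe_one, one_smul]; exact hx))
  have hTab : ¬ IsMulCommutative T := fun hT => hab ⟨⟨fun x y => e.injective (by
    rw [map_mul, map_mul]; exact funext fun i => hT.is_comm.comm _ _)⟩⟩
  right
  by_cases hu : ∀ V : Subgroup G, V.Normal → V ≠ ⊥ →
      (∀ L : Subgroup G, L.Normal → L ≤ V → L = ⊥ ∨ L = V) → M = V
  · have hNM : N = M := by
      rw [hN]
      exact le_antisymm (sSup_le fun V ⟨hV, hV0, hVm⟩ => (hu V hV hV0 hVm).ge)
        (le_sSup ⟨hMn, hM0, hM⟩)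
    exact ⟨T, _, m, hm, hT, hTab, hNM ▸ ⟨e⟩⟩
  push Not at hu
  obtain ⟨V, hV, hV0, hVm, hMV⟩ := hu
  have hVt := htr V hV hV0
  obtain ⟨hd, hc⟩ := S0704.commute_of_min M V hM0 hM hVm hMV
  have hNM : N = M ⊔ V := by
    rw [hN]
    refine le_antisymm (sSup_le fun L ⟨hL, hL0, hLm⟩ => ?_)
      (sup_le (le_sSup ⟨hMn, hM0, hM⟩) (le_sSup ⟨hV, hV0, hVm⟩))
    by_cases hML : M = L
    · exact hML ▸ le_sup_left
    · exact (le_of_comm hMt hVt a hc (S0704.commute_of_min M L hM0 hM hLm hML).2).trans le_sup_right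
  obtain ⟨φ⟩ := iso_of_comm hMt hVt a hc
  let f : M × V →* G := MonoidHom.noncommCoprod M.subtype V.subtype fun m n => hc m m.2 n n.2
  have hf : Function.Injective f := (MonoidHom.noncommCoprod_injective _ _ _).2
    ⟨M.subtype_injective, V.subtype_injective, by simpa using hd⟩
  have hr : f.range = N := (MonoidHom.noncommCoprod_range _ _ _).trans (by rw [hNM]; simp)
  exact ⟨T, _, m + m, by omega, hT, hTab, ⟨(MulEquiv.subgroupCongr hr.symm).trans
    ((MonoidHom.ofInjective hf).symm.trans ((e.prodCongr (φ.symm.trans e)).trans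
      (addEquiv T m).symm))⟩⟩

end Cfsg.Agent.S3680
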