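import Cfsg.Statements.S3016
import Cfsg.Agent.XC.D

set_option autoImplicit false
open Cfsg

namespace Cfsg.Agent.S3016

/-- Let G be a finite group, p an odd prime, and H an abelian p-subgroup of G that is extremely closed (for every g, the subgroup generated by H and g H g⁻¹ meets N_G(H) exactly in H). Then the normal closure of H meets N_G(H) exactly in H, and G = N_G(H) O_{p'}(G). -/
theorem result {G : Type*} [Group G] [Finite G] {p : ℕ} [Fact p.Prime] (hp : p ≠ 2) (H : Subgroup G) (hHp : IsPGroup p H) (hHab : IsMulCommutative H) (hcl : Cfsg.IsExtremelyClosed H) : Subgroup.normalClosure (H : Set G) ⊓ Subgroup.normalizer (H : Set G) = H ∧ Subgroup.normalizer (H : Set G) ⊔ Cfsg.pPrimeCore p G = ⊤ := by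
  have E : XC.EC p H := ⟨hHp, hHab, hcl⟩
  obtain ⟨N, hN, h⟩ := XC.main hp _ G H rfl E
  constructor
  · refine le_antisymm (fun x hx => ?_) (le_inf Subgroup.le_normalClosure Subgroup.le_normalizer)
    have h1 : Subgroup.normalClosure (H : Set G) ≤ H ⊔ N := by
      refine (Subgroup.closure_le _).2 fun a ha => ?_
      obtain ⟨y, hy, c⟩ := Group.mem_conjugatesOfSet_iff.1 ha
      obtain ⟨g, rfl⟩ := isConj_iff.1 c
      obtain ⟨k, k1, k2⟩ := E.ex g
      exact H72.cj_le_of_mem (le_sup_right (a := H) ((h k).2 k1)) le_sup_left (k2 ▸ H72.conj_mem_cj hy)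
    have h2 := h1 hx.1
    rw [← SetLike.mem_coe, Subgroup.mul_normal] at h2
    obtain ⟨y, hy, k, hk, rfl⟩ := h2
    have h3 := (h k).1 hk
    have h4 : k = 1 := E.one_of h3.1 h3.2 (by
      simpa using mul_mem (inv_mem (Subgroup.le_normalizer hy)) hx.2)
    simpa [h4] using hy
  · have h1 : N ≤ Cfsg.pPrimeCore p G := H44.le_pPrimeCore hN (by
      refine ((Nat.Prime.coprime_iff_not_dvd Fact.out).2 fun hd => ?_).symm
      obtain ⟨x, hx⟩ := exists_prime_orderOf_dvd_card' p hd
      have := ((h x).1 x.2).2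
      rw [Subgroup.orderOf_coe, hx, Nat.coprime_self] at this
      exact (Fact.out : p.Prime).ne_one this)
    refine top_le_iff.1 fun g _ => ?_
    obtain ⟨k, k1, k2⟩ := E.ex g
    have h2 := mul_mem (le_sup_right (a := Subgroup.normalizer (H : Set G)) (h1 ((h k).2 k1)))
      (le_sup_left (b := Cfsg.pPrimeCore p G) (inv_mem (XC.cj_eq_cj.1 k2)))
    simpa using h2

end Cfsg.Agent.S3016
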