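import Cfsg.Statements.S0723
import Cfsg.Agent.S0721
import Cfsg.Agent.S0722

set_option autoImplicit false
open Cfsg

namespace Cfsg.Agent.S0723

open Subgroup

variable {T : Type} [Group T] [IsSimpleGroup T] {m : ℕ}

theorem cen_one (hT : ¬ IsMulCommutative T) {t : T} (h : ∀ s, s * t = t * s) : t = 1 := by
  rcases (inferInstance : (center T).Normal).eq_bot_or_eq_top with e | e
  · exact mem_bot.1 (e ▸ mem_center_iff.2 h)
  · exact absurd ⟨⟨fun a b => mem_center_iff.1 (e.ge (mem_top b)) a⟩⟩ hT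

theorem exists_tau (hT : ¬ IsMulCommutative T) (p : (Fin m → T) →* T) (hp : Function.Surjective p) :
    ∃ j, ∀ x, p x = 1 ↔ x j = 1 := by
  obtain ⟨t, ht⟩ := exists_ne (1 : T)
  obtain ⟨y, rfl⟩ := hp t
  obtain ⟨j, hj⟩ : ∃ j, Pi.mulSingle j (y j) ∉ p.ker := by
    by_contra! h
    exact ht (pi_mem_of_mulSingle_mem y h)
  let q := p.comp (MonoidHom.mulSingle (fun _ : Fin m => T) j)
  have qi : q.ker = ⊥ := q.normal_ker.eq_bot_or_eq_top.resolve_right fun e => hj (e.ge (mem_top (y j)))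
  have qs : q.range = ⊤ := by
    refine (Normal.eq_bot_or_eq_top ⟨?_⟩).resolve_left fun e => hj (mem_bot.1 (e.le ⟨y j, rfl⟩))
    rintro _ ⟨s, rfl⟩ g
    obtain ⟨x, rfl⟩ := hp g
    refine ⟨x j * s * (x j)⁻¹, ?_⟩
    rw [← map_inv]
    change p _ = p x * p _ * _
    rw [← map_mul, ← map_mul]
    congr 1
    ext i
    by_cases c : i = j
    · subst c; simp
    · simp [c]
  have k : ∀ x : Fin m → T, x j = 1 → p x = 1 := fun x hx => cen_one hT fun s => by
    obtain ⟨u, rfl⟩ := qs.ge (mem_top s)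
    change p _ * _ = _ * p _
    rw [← map_mul, ← map_mul]
    congr 1
    ext i
    by_cases c : i = j
    · subst c; simp [hx]
    · simp [c]
  refine ⟨j, fun x => ⟨fun hx => mem_bot.1 (qi.le ?_), k x⟩⟩
  have := k (x⁻¹ * Pi.mulSingle j (x j)) (by simp)
  rwa [map_mul, map_inv, hx, inv_one, one_mul] at this

theorem crt {D ι : Type*} [Group D] (hT : ¬ IsMulCommutative T) (p : ι → D →* T)
    (hp : ∀ i, Function.Surjective (p i)) (t : ι → T) (S : Finset ι)
    (hS : ∀ i ∈ S, ∀ j ∈ S, (p i).ker = (p j).ker → i = j) : ∃ d, ∀ i ∈ S, p i d = t i := by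
  classical
  have k : ∀ r (S : Finset ι), (∀ i ∈ S, (p i).ker ≠ (p r).ker) →
      (⨅ i ∈ S, (p i).ker).map (p r) = ⊤ := fun r S => by
    induction S using Finset.induction_on with
    | empty => intro _; simpa using MonoidHom.range_eq_top.2 (hp r) ▸ (MonoidHom.range_eq_map _).symm
    | insert s S hs ih =>
      intro h
      have h1 := ih fun i hi => h i (Finset.mem_insert_of_mem hi)
      have h2 : (p s).ker.map (p r) = ⊤ :=
        ((p s).normal_ker.map _ (hp r)).eq_bot_or_eq_top.resolve_left fun e => by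
          have l : (p s).ker ≤ (p r).ker := (Subgroup.map_eq_bot_iff _).1 e
          refine h s (Finset.mem_insert_self _ _) (l.antisymm ?_)
          rcases ((p r).normal_ker.map _ (hp s)).eq_bot_or_eq_top with f | f
          · exact (Subgroup.map_eq_bot_iff _).1 f
          · obtain ⟨u, hu⟩ := exists_ne (1 : T)
            obtain ⟨x, rfl⟩ := hp r u
            obtain ⟨y, hy, g⟩ := f.ge (mem_top (p s x))
            have := l (show y⁻¹ * x ∈ (p s).ker by simp [MonoidHom.mem_ker, g])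
            rw [MonoidHom.mem_ker, map_mul, map_inv, show p r y = 1 from hy, inv_one, one_mul] at this
            exact absurd this hu
      have : (⨅ i ∈ S, (p i).ker).Normal := normal_iInf_normal fun i => normal_iInf_normal fun _ =>
        inferInstance
      rw [Finset.iInf_insert, eq_top_iff]
      refine le_trans ?_ (map_mono (commutator_le_inf _ _))
      rw [map_commutator, h1, h2]
      refine ((inferInstance : (commutator T).Normal).eq_bot_or_eq_top.resolve_left fun e => hT ?_).ge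
      exact ⟨⟨fun a b => commutatorElement_eq_one_iff_mul_comm.1
        (mem_bot.1 (e.le (commutator_mem_commutator (mem_top a) (mem_top b))))⟩⟩
  induction S using Finset.induction_on with
  | empty => exact ⟨1, by simp⟩
  | insert r S hr ih =>
    obtain ⟨d, hd⟩ := ih fun i hi j hj => hS i (Finset.mem_insert_of_mem hi) j (Finset.mem_insert_of_mem hj)
    obtain ⟨x, hx, e⟩ := (k r S fun i hi e => hr (hS i (Finset.mem_insert_of_mem hi) r
      (Finset.mem_insert_self _ _) e ▸ hi)).ge (mem_top ((p r d)⁻¹ * t r))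
    refine ⟨d * x, fun i hi => ?_⟩
    rcases Finset.mem_insert.1 hi with rfl | hi
    · rw [map_mul, e, mul_inv_cancel_left]
    · rw [map_mul, hd i hi, show p i x = 1 from mem_iInf.1 (mem_iInf.1 hx i) hi, mul_one]

theorem core [Finite T] (hT : ¬ IsMulCommutative T) (hm : 0 < m)
    (A : Set ((Fin m → T) ≃* (Fin m → T))) (D : Subgroup (Fin m → T)) (hD : D ≠ ⊤)
    (hA : ∀ ψ ∈ A, ∀ x, ψ x ∈ D ↔ x ∈ D)
    (h1 : ∀ M : Subgroup (Fin m → T), M.Normal → (∀ ψ ∈ A, ∀ x ∈ M, ψ x ∈ M) → M = ⊥ ∨ M = ⊤)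
    (h2 : ∀ X : Subgroup (Fin m → T), D ≤ X → (∀ ψ ∈ A, ∀ x ∈ X, ψ x ∈ X) → X = D ∨ X = ⊤) :
    (∃ K : Fin m → Subgroup T, (∀ i, K i ≠ ⊤) ∧ ∀ n, n ∈ D ↔ ∀ i, n i ∈ K i) ∨
    ∃ (β : Fin m → T ≃* T) (k : ℕ) (c : Fin m → Fin m), 2 ≤ k ∧
      (∀ j : Fin m, Nat.card {i : Fin m // c i = j} = k ∨ Nat.card {i : Fin m // c i = j} = 0) ∧
      ∀ n, n ∈ D ↔ ∀ i j : Fin m, c i = c j → β i (n i) = β j (n j) := by
  classical
  obtain ⟨u, hu⟩ := exists_ne (1 : T)
  have sep : ∀ i j : Fin m, (Pi.mulSingle i u : Fin m → T) j = 1 ↔ j ≠ i := fun i j => by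
    by_cases c : j = i
    · subst c; simp [hu]
    · simp [c]
  choose τ hτ using fun (ψ : (Fin m → T) ≃* (Fin m → T)) (i : Fin m) =>
    exists_tau hT ((Pi.evalMonoidHom _ i).comp ψ.toMonoidHom) fun t =>
      ⟨ψ.symm fun _ => t, by simp⟩
  replace hτ : ∀ (ψ : (Fin m → T) ≃* (Fin m → T)) i x, ψ x i = 1 ↔ x (τ ψ i) = 1 := hτ
  have tr : ∀ P : Fin m → Prop, (∀ ψ ∈ A, ∀ i, P i → P (τ ψ i)) → ∀ i, P i → ∀ j, P j := by
    intro P hP i hi j
    let M : Subgroup (Fin m → T) := ⨅ i, ⨅ _ : P i, (Pi.evalMonoidHom (fun _ => T) i).ker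
    have hM : ∀ x, x ∈ M ↔ ∀ i, P i → x i = 1 := fun x => by simp [M, mem_iInf, MonoidHom.mem_ker]
    rcases h1 M (normal_iInf_normal fun i => normal_iInf_normal fun _ => inferInstance)
      (fun ψ hψ x hx => (hM _).2 fun i hi => (hτ ψ i x).2 ((hM x).1 hx _ (hP ψ hψ i hi))) with e | e
    · by_contra c
      have := mem_bot.1 (e.le ((hM (Pi.mulSingle j u)).2 fun i hi => (sep j i).2 fun f => c (f ▸ hi)))
      exact (sep j j).1 (congrFun this j) rfl
    · exact absurd ((hM fun _ => u).1 (e.ge (mem_top _)) i hi) hu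
  let p : Fin m → D →* T := fun i => (Pi.evalMonoidHom (fun _ => T) i).comp D.subtype
  have pr : ∀ ψ ∈ A, ∀ i x (d : D), p (τ ψ i) d = x (τ ψ i) → ψ x i ∈ (p i).range := by
    intro ψ hψ i x d e
    refine ⟨⟨ψ d, (hA ψ hψ _).2 d.2⟩, ?_⟩
    have := (hτ ψ i (x⁻¹ * d)).2 (inv_mul_eq_one.2 e.symm)
    rw [map_mul, map_inv] at this
    exact (inv_mul_eq_one.1 this).symm
  by_cases c : ∃ i, (p i).range ≠ ⊤
  · obtain ⟨i, hi⟩ := c
    refine .inl ⟨fun i => (p i).range, tr _ (fun ψ hψ i hi e => hi (eq_top_iff.2 fun t _ => ?_)) i hi,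
      fun n => ?_⟩
    · obtain ⟨d, hd⟩ := e.ge (mem_top (ψ.symm (fun _ => t) (τ ψ i)))
      simpa using pr ψ hψ i _ d hd
    · rcases h2 (pi Set.univ fun i => (p i).range) (fun d hd i _ => ⟨⟨d, hd⟩, rfl⟩)
        (fun ψ hψ x hx i _ => by
          obtain ⟨d, hd⟩ := hx (τ ψ i) trivial
          exact pr ψ hψ i x d hd) with e | e
      · exact ⟨fun h i => ⟨⟨n, h⟩, rfl⟩, fun h => e.le fun i _ => h i⟩
      · exact absurd (eq_top_iff.2 fun t _ => e.ge (mem_top fun _ => t) i trivial) hi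
  right
  have hp : ∀ i, Function.Surjective (p i) := fun i =>
    MonoidHom.range_eq_top.1 (not_not.1 fun h => c ⟨i, h⟩)
  clear c
  have : Nonempty (Fin m) := ⟨⟨0, hm⟩⟩
  obtain ⟨c, c1, c2⟩ : ∃ c : Fin m → Fin m, (∀ i, (p (c i)).ker = (p i).ker) ∧
      ∀ i j, (p i).ker = (p j).ker → c i = c j :=
    ⟨fun i => Function.invFun (fun i => (p i).ker) (p i).ker,
      fun i => Function.invFun_eq (f := fun i => (p i).ker) ⟨i, rfl⟩, fun i j e => by simp only [e]⟩
  have c3 : ∀ i j, c i = c j ↔ ∀ d ∈ D, d i = 1 ↔ d j = 1 := fun i j =>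
    ⟨fun e d hd => SetLike.ext_iff.1 ((c1 i).symm.trans (e ▸ c1 j)) ⟨d, hd⟩,
      fun h => c2 i j (Subgroup.ext fun d => h d d.2)⟩
  have hβ : ∀ i, ∃ β : T ≃* T, ∀ d, β (p i d) = p (c i) d := fun i =>
    ⟨(QuotientGroup.quotientKerEquivOfSurjective _ (hp i)).symm.trans
      ((QuotientGroup.quotientMulEquivOfEq (c1 i).symm).trans
        (QuotientGroup.quotientKerEquivOfSurjective _ (hp (c i)))), fun d => by
      rw [MulEquiv.trans_apply, (MulEquiv.symm_apply_eq _).2
        (show p i d = QuotientGroup.quotientKerEquivOfSurjective _ (hp i) (d : D ⧸ (p i).ker) from rfl)]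
      rfl⟩
  choose β hβ using hβ
  have mem : ∀ n, n ∈ D ↔ ∀ i j : Fin m, c i = c j → β i (n i) = β j (n j) := fun n => by
    refine ⟨fun hn i j e => (hβ i ⟨n, hn⟩).trans (e ▸ (hβ j ⟨n, hn⟩).symm), fun h => ?_⟩
    obtain ⟨d, hd⟩ := crt hT p hp (fun r => β r (n r)) (Finset.univ.filter fun r => c r = r)
      fun i hi j hj e => by
        rw [← (Finset.mem_filter.1 hi).2, c2 i j e, (Finset.mem_filter.1 hj).2]
    have cc : ∀ i, c (c i) = c i := fun i => c2 _ _ (c1 i)
    convert d.2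
    ext i
    exact (β i).injective (((hβ i d).trans ((hd _ (by simp [cc])).trans (h _ _ (cc i)))).symm)
  obtain ⟨i₀⟩ := this
  have hs := tr (fun i => Nat.card {j // c j = c i} = Nat.card {j // c j = c i₀}) (fun ψ hψ i hi => by
    have hb : Function.Injective (τ ψ) := fun i j e => by
      by_contra f
      have := (hτ ψ i (ψ.symm (Pi.mulSingle i u))).trans (e ▸ (hτ ψ j _).symm)
      rw [ψ.apply_symm_apply, sep, sep] at this
      exact this.2 (Ne.symm f) rfl
    rw [← hi]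
    refine (Nat.card_congr ((Equiv.ofBijective _ (Finite.injective_iff_bijective.1 hb)).subtypeEquiv
      fun j => ?_)).symm
    rw [c3, c3]
    refine ⟨fun h d hd => (hτ ψ j d).symm.trans ((h _ ((hA ψ hψ d).2 hd)).trans (hτ ψ i d)),
      fun h d hd => ?_⟩
    rw [← ψ.apply_symm_apply d] at hd ⊢
    exact (hτ ψ j _).trans ((h _ ((hA ψ hψ _).1 hd)).trans (hτ ψ i _).symm)) i₀ rfl
  refine ⟨β, Nat.card {j // c j = c i₀}, c, ?_, fun j => ?_, mem⟩
  · by_contra! h
    refine hD (eq_top_iff.2 fun n _ => (mem n).2 fun i j e => ?_)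
    have : Subsingleton {l // c l = c j} := Finite.card_le_one_iff_subsingleton.1 (by rw [hs j]; omega)
    rw [show i = j from congrArg Subtype.val (Subsingleton.elim (⟨i, e⟩ : {l // c l = c j}) ⟨j, rfl⟩)]
  · by_cases h : ∃ i, c i = j
    · obtain ⟨i, rfl⟩ := h
      exact .inl (hs i)
    · have : IsEmpty {i // c i = j} := ⟨fun i => h ⟨i, i.2⟩⟩
      exact .inr Nat.card_of_isEmpty

/-- The core of the O'Nan–Scott Theorem. Let `H` be a primitive permutation group on a finite set whose unique minimal normal subgroup `N` is non-abelian, and `K` a point stabiliser. Then there are a non-abelian simple group `T` and an isomorphism `N ≃* T^m` (`m ≥ 1`) under which `K ⊓ N` becomes either a product `∏ K_i` of proper subgroups `K_i < T`, or the set of functions constant on each block of a partition of the index set into blocks of one common size `k ≥ 2`. -/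
theorem result {α : Type*} [Finite α] (H : Subgroup (Equiv.Perm α)) [MulAction.IsPreprimitive H α] (N : Subgroup H) [N.Normal] (hN : N ≠ ⊥) (hmin : ∀ M : Subgroup H, M.Normal → M ≤ N → M = ⊥ ∨ M = N) (huniq : ∀ L : Subgroup H, L.Normal → L ≠ ⊥ → (∀ M : Subgroup H, M.Normal → M ≤ L → M = ⊥ ∨ M = L) → L = N) (hnab : ¬ IsMulCommutative N) (a : α) : ∃ (T : Type) (_ : Group T) (m : ℕ) (e : N ≃* (Fin m → T)), IsSimpleGroup T ∧ ¬ IsMulCommutative T ∧ 0 < m ∧ ((∃ K : Fin m → Subgroup T, (∀ i, K i ≠ ⊤) ∧ ∀ n : N, (n : H) ∈ MulAction.stabilizer H a ↔ ∀ i, e n i ∈ K i) ∨ (∃ (k : ℕ) (c : Fin m → Fin m), 2 ≤ k ∧ (∀ j : Fin m, Nat.card {i : Fin m // c i = j} = k ∨ Nat.card {i : Fin m // c i = j} = 0) ∧ ∀ n : N, (n : H) ∈ MulAction.stabilizer H a ↔ ∀ i j : Fin m, c i = c j → e n i = e n j)) := by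
  obtain ⟨T, _, m, hT, hm, ⟨e⟩⟩ := S0721.result N hN hmin
  have nc : ¬ IsMulCommutative T := fun h => hnab ⟨⟨fun x y => e.injective (by
    rw [map_mul, map_mul]; ext i; exact h.1.1 _ _)⟩⟩
  have : Finite T := Finite.of_injective (fun t => e.symm fun _ => t) fun s t h =>
    congrFun (e.symm.injective h) ⟨0, hm⟩
  have : Nontrivial α := by
    by_contra! h
    exact hN (Subsingleton.elim _ _)
  have hco := MulAction.IsPreprimitive.isCoatom_stabilizer_of_isPreprimitive H a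
  set K := MulAction.stabilizer H a
  have nK : ¬ N ≤ K := fun h => hN (eq_bot_iff.2 fun n hn => mem_bot.2 (Subtype.ext (Equiv.ext fun b => by
    obtain ⟨g, rfl⟩ := MulAction.exists_smul_eq H a b
    have : (g⁻¹ * n * g⁻¹⁻¹) • a = a := h (Normal.conj_mem ‹_› n hn g⁻¹)
    rw [inv_inv, mul_smul, mul_smul, inv_smul_eq_iff] at this
    exact this)))
  let ι : (Fin m → T) →* H := N.subtype.comp e.symm.toMonoidHom
  have ιi : Function.Injective ι := N.subtype_injective.comp e.symm.injective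
  have ιr : ∀ X : Subgroup (Fin m → T), X.map ι ≤ N := fun X => by
    rintro _ ⟨x, -, rfl⟩; exact (e.symm x).2
  have ιt : (⊤ : Subgroup (Fin m → T)).map ι = N :=
    (ιr _).antisymm fun n hn => ⟨e ⟨n, hn⟩, trivial, by simp [ι]⟩
  let ψ : H → (Fin m → T) ≃* (Fin m → T) := fun h => e.symm.trans ((MulAut.conjNormal h).trans e)
  have hψ : ∀ h x, ι (ψ h x) = h * ι x * h⁻¹ := fun h x => by simp [ι, ψ]
  have inv : ∀ X : Subgroup (Fin m → T), (∀ φ ∈ ψ '' K, ∀ x ∈ X, φ x ∈ X) →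
      K ≤ normalizer (X.map ι : Set H) := fun X hX k hk => mem_normalizer_fintype (by
    rintro _ ⟨x, hx, rfl⟩
    exact ⟨_, hX _ ⟨k, hk, rfl⟩ x hx, hψ k x⟩)
  have hD : (K.comap ι).map ι = K ⊓ N := by rw [map_comap_eq, MonoidHom.range_eq_map, ιt, inf_comm]
  have := core nc hm (ψ '' K) (K.comap ι) (fun h => nK (by rw [← ιt, ← h]; exact map_comap_le _ _))
    (by
      rintro _ ⟨k, hk, rfl⟩ x
      rw [mem_comap, mem_comap, hψ]
      exact (K.mul_mem_cancel_right (inv_mem hk)).trans (K.mul_mem_cancel_left hk))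
    (fun M hM h => by
      have : (M.map ι).Normal := by
        rw [← normalizer_eq_top_iff, eq_top_iff, ← hco.2 (K ⊔ N) (left_lt_sup.2 nK)]
        refine sup_le (inv M h) ?_
        rw [← ιt]
        exact (map_mono (normalizer_eq_top M).ge).trans (le_normalizer_map ι)
      refine (hmin _ this (ιr M)).imp (fun f => map_injective ιi (by rw [f, Subgroup.map_bot]))
        fun f => map_injective ιi (f.trans ιt.symm))
    fun X h1 h2 => (S0722.result H N hN hmin a _ (ιr X) (hD ▸ map_mono h1) (inv X h2)).imp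
      (fun f => map_injective ιi (f.trans hD.symm)) fun f => map_injective ιi (f.trans ιt.symm)
  have mem : ∀ n : N, (n : H) ∈ K ↔ e n ∈ K.comap ι := fun n => by simp [ι]
  rcases this with ⟨P, h1, h2⟩ | ⟨β, k, c, h1, h2, h3⟩
  · exact ⟨T, _, m, e, hT, nc, hm, .inl ⟨P, h1, fun n => (mem n).trans (h2 _)⟩⟩
  · exact ⟨T, _, m, e.trans (MulEquiv.piCongrRight β), hT, nc, hm,
      .inr ⟨k, c, h1, h2, fun n => (mem n).trans (h3 _)⟩⟩

end Cfsg.Agent.S0723
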