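import Cfsg.Statements.S4231
import Cfsg.Agent.H84.SymDer
import Cfsg.Agent.S2119

set_option autoImplicit false
set_option linter.style.haveILetI false
open Cfsg

namespace Cfsg.Agent.S4231

open Equiv Equiv.Perm Subgroup

theorem isConj_double {u v : alternatingGroup (Fin 6)} (hu : orderOf u = 3) (hv : orderOf v = 3)
    (hu' : ¬ (u : Perm (Fin 6)).IsThreeCycle) (hv' : ¬ (v : Perm (Fin 6)).IsThreeCycle) :
    IsConj u v := by
  have ty : ∀ w : alternatingGroup (Fin 6), orderOf w = 3 → ¬ (w : Perm (Fin 6)).IsThreeCycle →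
      (w : Perm (Fin 6)).cycleType = {3, 3} := by
    intro w hw hw'
    rw [← orderOf_coe] at hw
    obtain ⟨k, hk⟩ := cycleType_prime_order (σ := (w : Perm (Fin 6))) (hw ▸ Nat.prime_three)
    have h1 := (w : Perm (Fin 6)).sum_cycleType_le
    rw [hw] at hk
    rw [hk, Multiset.sum_replicate, Fintype.card_fin, smul_eq_mul] at h1
    obtain rfl | rfl : k = 0 ∨ k = 1 := by omega
    · exact absurd hk hw'
    · exact hk
  let u0 : alternatingGroup (Fin 6) := ⟨swap 0 1 * swap 0 2 * (swap 3 4 * swap 3 5), by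
    rw [mem_alternatingGroup]; decide⟩
  let s : Perm (Fin 6) := swap 0 3 * swap 1 4 * swap 2 5
  have h0 : (u0 : Perm (Fin 6)).cycleType = {3, 3} := by decide
  have key : ∀ w : alternatingGroup (Fin 6), (w : Perm (Fin 6)).cycleType = {3, 3} →
      IsConj u0 w := by
    intro w hw
    obtain ⟨g, hg⟩ := isConj_iff.1 (isConj_iff_cycleType_eq.2 (h0.trans hw.symm))
    rcases Int.units_eq_one_or (sign g) with h | h
    · exact isConj_iff.2 ⟨⟨g, h⟩, Subtype.ext hg⟩
    · refine isConj_iff.2 ⟨⟨g * s, ?_⟩, Subtype.ext ?_⟩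
      · rw [mem_alternatingGroup, map_mul, h]; decide
      · have : s * u0 * s⁻¹ = u0 := by decide
        change g * s * u0 * (g * s)⁻¹ = w
        rw [← hg, ← this]
        conv_lhs => rw [this]
        group
  exact (key u (ty u hu hu')).symm.trans (key v (ty v hv hv'))

theorem three_of_odd (φ : MulAut (alternatingGroup (Fin 6))) (ho : Odd (orderOf φ))
    (c : alternatingGroup (Fin 6)) (hc : (c : Perm (Fin 6)).IsThreeCycle) :
    (φ c : Perm (Fin 6)).IsThreeCycle := by
  have cj : ∀ a b : alternatingGroup (Fin 6), IsConj a b → (a : Perm (Fin 6)).IsThreeCycle →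
      (b : Perm (Fin 6)).IsThreeCycle := fun a b h ha => by
    exact (isConj_iff_cycleType_eq.1 ((alternatingGroup _).subtype.map_isConj h)).symm.trans ha
  have o3 : ∀ a : alternatingGroup (Fin 6), (a : Perm (Fin 6)).IsThreeCycle → orderOf a = 3 :=
    fun a ha => by rw [← orderOf_coe, ha.orderOf]
  have h2 : ∀ c : alternatingGroup (Fin 6), (c : Perm (Fin 6)).IsThreeCycle →
      (φ (φ c) : Perm (Fin 6)).IsThreeCycle := by
    intro c hc
    have t3 : ∀ a b : alternatingGroup (Fin 6), (a : Perm (Fin 6)).IsThreeCycle →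
        (b : Perm (Fin 6)).IsThreeCycle → IsConj a b := fun a b ha hb =>
      alternatingGroup.isThreeCycle_isConj (by simp) ha hb
    by_cases h : (φ c : Perm (Fin 6)).IsThreeCycle
    · exact cj _ _ (φ.toMonoidHom.map_isConj (t3 _ _ hc h)) h
    by_contra h'
    have := φ.symm.toMonoidHom.map_isConj (isConj_double (u := φ c) (v := φ (φ c))
      (by rw [MulEquiv.orderOf_eq, o3 c hc]) (by rw [MulEquiv.orderOf_eq, MulEquiv.orderOf_eq, o3 c hc])
      h h')
    simp only [MulEquiv.toMonoidHom_eq_coe, MonoidHom.coe_coe, MulEquiv.symm_apply_apply] at this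
    exact h (cj _ _ this hc)
  have h3 : ∀ k : ℕ, (((φ ^ 2) ^ k) c : Perm (Fin 6)).IsThreeCycle := by
    intro k
    induction k with
    | zero => exact hc
    | succ k ih => rw [pow_succ']; exact h2 _ ih
  obtain ⟨k, hk⟩ := ho
  have := h3 (k + 1)
  rwa [← pow_mul, show 2 * (k + 1) = orderOf φ + 1 by omega, pow_succ, pow_orderOf_eq_one,
    one_mul] at this

theorem mem_range {n : ℕ} (hn : 5 ≤ n) (φ : MulAut (alternatingGroup (Fin n)))
    (ho : Odd (orderOf φ)) :
    φ ∈ (MulAut.conjNormal : Perm (Fin n) →* MulAut (alternatingGroup (Fin n))).range := by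
  by_cases h6 : n = 6
  · subst h6
    obtain ⟨σ, hσ⟩ := H1.AltAut.exists_conj (p := (0 : Fin 6)) (q := 1) (r := 2) (by decide)
      (by decide) (by decide) ⟨3, by decide⟩ φ (three_of_odd φ ho)
    exact ⟨σ, MulEquiv.ext fun g => Subtype.ext (hσ g).symm⟩
  · exact (S2119.result n (by omega) h6).2 φ

theorem aux {n : ℕ} (hn : 5 ≤ n) (G : Subgroup (MulAut (alternatingGroup (Fin n))))
    (hG : (MulAut.conj : alternatingGroup (Fin n) →* MulAut (alternatingGroup (Fin n))).range ≤ G)
    (p q : ℕ) [hp : Fact p.Prime] [hq : Fact q.Prime] (hpq : p < q)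
    (h : ∀ g : G, orderOf g ≠ p * q) (Q : Sylow q G) : IsMulCommutative (Q : Subgroup G) := by
  have hp2 := hp.out.two_le
  have hqo : Odd q := hq.out.odd_of_ne_two (by omega)
  by_cases hqn : n < q ^ 2
  · let f := (MulAut.conjNormal : Perm (Fin n) →* MulAut (alternatingGroup (Fin n)))
    obtain ⟨S⟩ : Nonempty (Sylow q (Perm (Fin n))) := inferInstance
    have h1 : ((Q : Subgroup G).map G.subtype) ≤ f.range := by
      rintro _ ⟨x, hx, rfl⟩
      obtain ⟨k, hk⟩ := IsPGroup.iff_orderOf.1 Q.isPGroup' ⟨x, hx⟩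
      refine mem_range hn _ ?_
      rw [coe_subtype, orderOf_coe, ← orderOf_coe (⟨x, hx⟩ : (Q : Subgroup G))] at *
      rw [hk]
      exact hqo.pow
    obtain ⟨T, hT⟩ := ((Q.isPGroup'.map G.subtype).comap_subtype (K := f.range)).exists_le_sylow
    obtain ⟨g, hg⟩ := MulAction.exists_smul_eq f.range
      (S.mapSurjective f.rangeRestrict_surjective) T
    refine ⟨⟨fun a b => ?_⟩⟩
    have ha := hT (show (⟨_, h1 ⟨_, a.2, rfl⟩⟩ : f.range) ∈ _ from ⟨_, a.2, rfl⟩)
    have hb := hT (show (⟨_, h1 ⟨_, b.2, rfl⟩⟩ : f.range) ∈ _ from ⟨_, b.2, rfl⟩)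
    rw [← hg] at ha hb
    obtain ⟨_, ⟨x, hx, rfl⟩, ex⟩ := ha
    obtain ⟨_, ⟨y, hy, rfl⟩, ey⟩ := hb
    have := ((H84.commute_of_isPGroup_perm hqn S.isPGroup' hx hy).map f.rangeRestrict).map
      ((MulDistribMulAction.toMonoidEnd _ _) (MulAut.conj g))
    erw [ex, ey] at this
    have h5 := congrArg Subtype.val this.eq
    exact Subtype.ext (Subtype.ext h5)
  exfalso
  have h3 : 3 ≤ q := by omega
  obtain ⟨g, hg, ho⟩ : ∃ g ∈ alternatingGroup (Fin n), orderOf g = p * q := by
    by_cases h2 : p = 2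
    · subst h2
      obtain ⟨g, hg⟩ := (exists_with_cycleType_iff (Fin n) (m := {2, 2, q})).2
        ⟨by simp; nlinarith, by simp; omega⟩
      refine ⟨g, ?_, ?_⟩
      · rw [mem_alternatingGroup, sign_of_cycleType, hg]
        obtain ⟨k, rfl⟩ := hqo
        refine Even.neg_one_pow ⟨k + 4, ?_⟩
        simp; ring
      · rw [← lcm_cycleType, hg]
        simp [← Nat.Coprime.lcm_eq_mul (Nat.coprime_two_left.2 hqo), lcm_eq_nat_lcm]
    · obtain ⟨g, hg⟩ := (exists_with_cycleType_iff (Fin n) (m := {p, q})).2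
        ⟨by simp; nlinarith, by simp; omega⟩
      refine ⟨g, ?_, ?_⟩
      · rw [mem_alternatingGroup, sign_of_cycleType, hg]
        obtain ⟨k, rfl⟩ := hqo
        obtain ⟨l, rfl⟩ := hp.out.odd_of_ne_two h2
        refine Even.neg_one_pow ⟨k + l + 2, ?_⟩
        simp; ring
      · rw [← lcm_cycleType, hg]
        simp [← Nat.Coprime.lcm_eq_mul ((Nat.coprime_primes hp.out hq.out).2 hpq.ne), lcm_eq_nat_lcm]
  refine h ⟨MulAut.conj ⟨g, hg⟩, hG ⟨_, rfl⟩⟩ ?_
  rw [← orderOf_coe, orderOf_injective MulAut.conj, ← orderOf_coe, ho]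
  rw [injective_iff_map_eq_one]
  intro a ha
  refine mem_bot.1 (alternatingGroup.center_eq_bot (α := Fin n) (by simp; omega) ▸
    mem_center_iff.2 fun b => ?_)
  have : a * b * a⁻¹ = b := DFunLike.congr_fun ha b
  exact (mul_inv_eq_iff_eq_mul.1 this).symm

/-- Let n ≥ 5 and let G be a group of automorphisms of the alternating group of degree n containing all inner automorphisms. If p ≠ q are primes and G has no element of order pq, then every Sylow p-subgroup of G is abelian or every Sylow q-subgroup of G is abelian. -/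
theorem result (n : ℕ) (hn : 5 ≤ n) (G : Subgroup (MulAut (alternatingGroup (Fin n))))
    (hG : (MulAut.conj : alternatingGroup (Fin n) →* MulAut (alternatingGroup (Fin n))).range ≤ G)
    (p q : ℕ) [Fact p.Prime] [Fact q.Prime] (hpq : p ≠ q) (h : ∀ g : G, orderOf g ≠ p * q) :
    (∀ P : Sylow p G, IsMulCommutative (P : Subgroup G)) ∨ (∀ Q : Sylow q G, IsMulCommutative (Q : Subgroup G)) := by
  rcases lt_or_gt_of_ne hpq with h1 | h1
  · exact Or.inr (aux hn G hG p q h1 h)
  · exact Or.inl (aux hn G hG q p h1 (by rwa [mul_comm]))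

end Cfsg.Agent.S4231
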