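import Cfsg.Statements.S0046
import Cfsg.Agent.H2.Zipper
import Cfsg.Agent.S0064
import Cfsg.Agent.S0035

set_option autoImplicit false
open Cfsg

namespace Cfsg.Agent.S0046

open scoped Pointwise

theorem nilpotent_of_ne_top {G : Type*} [Group G] [Finite G]
    (h : ∀ M : Subgroup G, IsCoatom M → Group.IsNilpotent M) (H : Subgroup G) (hH : H ≠ ⊤) :
    Group.IsNilpotent H := by
  obtain ⟨M, hM, hHM⟩ := (eq_top_or_exists_le_coatom H).resolve_left hH
  have := h M hM
  exact Group.nilpotent_of_mulEquiv (Subgroup.subgroupOfEquivOfLe hHM)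

theorem simple_case {G : Type*} [Group G] [Finite G] [hs : IsSimpleGroup G]
    (h : ∀ M : Subgroup G, IsCoatom M → Group.IsNilpotent M) : Group.IsSolvable G := by
  obtain ⟨M, hM, -⟩ := (eq_top_or_exists_le_coatom (⊥ : Subgroup G)).resolve_left bot_ne_top
  rcases eq_or_ne M ⊥ with rfl | hM0
  · obtain ⟨x, hx⟩ := exists_ne (1 : G)
    have : IsCyclic G := isCyclic_iff_exists_zpowers_eq_top.mpr
      ⟨x, hM.2 _ (bot_lt_iff_ne_bot.mpr (by simpa using hx))⟩
    exact Group.isSolvable_of_comm (fun a b => mul_comm' a b)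
  have hF : IsFrobeniusComplement M := by
    refine ⟨hM0, hM.1, fun g hg => ?_⟩
    by_contra hD
    have hM' : IsCoatom (MulAut.conj g • M) := H2.isCoatom_map_of_surjective
      (f := (MulAut.conj g).toMonoidHom) (MulAut.conj g).surjective hM
      (((MulAut.conj g).toMonoidHom.ker_eq_bot (MulAut.conj g).injective).le.trans bot_le)
    have h1 := H2.zipper (M ⊓ MulAut.conj g • M)
      (fun H hH _ => S0064.result.mp (nilpotent_of_ne_top h H hH) _)
      (fun hsub => (hsub.eq_bot_or_top_of_isSimpleGroup hs).elim hD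
        (fun ht => hM.1 (top_le_iff.mp (ht ▸ inf_le_left)))) hM hM' inf_le_left inf_le_right
    have h2 : g ∈ Subgroup.normalizer (M : Set G) := H2.conj_smul_eq_iff_mem_normalizer.mp h1.symm
    have h3 : M.Normal := Subgroup.normalizer_eq_top_iff.mp
      (hM.2 _ (lt_of_le_of_ne Subgroup.le_normalizer (fun h' => hg (h' ▸ h2))))
    exact (h3.eq_bot_or_eq_top).elim hM0 hM.1
  obtain ⟨N, -, hN, hc⟩ := S0035.result M hF
  rcases hN.eq_bot_or_eq_top with rfl | rfl
  · exact absurd (Subgroup.isComplement'_bot_left.mp hc) hM.1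
  · exact absurd (Subgroup.isComplement'_top_left.mp hc) hM0

/-- Schmidt's Theorem on minimal non-nilpotent groups: a finite group in which every maximal subgroup is nilpotent is solvable. -/
theorem result {G : Type*} [Group G] [Finite G]
    (h : ∀ M : Subgroup G, IsCoatom M → Group.IsNilpotent M) : Group.IsSolvable G := by
  revert h
  refine H2.card_induction (P := fun G _ _ =>
    (∀ M : Subgroup G, IsCoatom M → Group.IsNilpotent M) → Group.IsSolvable G) G ?_
  intro G _ _ ih h
  rcases subsingleton_or_nontrivial G with hs | hs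
  · infer_instance
  by_cases hsimple : ∀ N : Subgroup G, N.Normal → N = ⊥ ∨ N = ⊤
  · have : IsSimpleGroup G := ⟨hsimple⟩
    exact simple_case h
  push Not at hsimple
  obtain ⟨N, hN, hN0, hN1⟩ := hsimple
  rw [Group.isSolvable_iff_subgroup_quotient N]
  have := nilpotent_of_ne_top h N hN1
  refine ⟨inferInstance, ih _ (H2.card_quotient_lt N hN0) fun M hM => ?_⟩
  have := h _ (Subgroup.isCoatom_comap_of_surjective (QuotientGroup.mk'_surjective N) hM)
  rw [← Subgroup.map_comap_eq_self_of_surjective (QuotientGroup.mk'_surjective N) M]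
  exact Group.nilpotent_of_surjective _ (MonoidHom.subgroupMap_surjective _ _)

end Cfsg.Agent.S0046
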