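import Cfsg.Statements.S0536
import Cfsg.Agent.H19.Basic
import Cfsg.Agent.S0046

set_option autoImplicit false
open Cfsg

namespace Cfsg.Agent.S0536

/-- In a finite nilpotent subgroup, a `p`-subgroup and a `q`-subgroup commute for `p ≠ q`. -/
theorem commute_of_nilpotent {G : Type*} [Group G] [Finite G] (T X Y : Subgroup G)
    (hT : Group.IsNilpotent T) (hX : X ≤ T) (hY : Y ≤ T) {p q : ℕ} [Fact p.Prime] [Fact q.Prime]
    (hpq : p ≠ q) (hXp : IsPGroup p X) (hYq : IsPGroup q Y) {x y : G} (hx : x ∈ X) (hy : y ∈ Y) :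
    x * y = y * x := by
  obtain ⟨P, hP⟩ := (hXp.comap_subtype (K := T)).exists_le_sylow
  obtain ⟨Q, hQ⟩ := (hYq.comap_subtype (K := T)).exists_le_sylow
  have h := Subgroup.commute_of_normal_of_disjoint (P : Subgroup T) (Q : Subgroup T) inferInstance
    inferInstance (IsPGroup.disjoint_of_ne p q hpq _ _ P.isPGroup' Q.isPGroup')
    ⟨x, hX hx⟩ ⟨y, hY hy⟩ (hP hx) (hQ hy)
  exact congrArg Subtype.val h.eq

/-- A subgroup containing a Sylow subgroup for every prime is the whole group. -/
theorem eq_top_of_forall_sylow {G : Type*} [Group G] [Finite G] (H : Subgroup G)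
    (h : ∀ (q : ℕ) [Fact q.Prime], ∃ Q : Sylow q G, (Q : Subgroup G) ≤ H) : H = ⊤ := by
  rw [← Subgroup.index_eq_one]
  by_contra hne
  obtain ⟨q, hq, hd⟩ := Nat.exists_prime_and_dvd hne
  have := Fact.mk hq
  obtain ⟨Q, hQ⟩ := h q
  exact Q.not_dvd_index (hd.trans (Subgroup.index_dvd_of_le hQ))

/-- A `p`-group is contained in every normal subgroup of index prime to `p`. -/
theorem le_of_not_dvd_index {G : Type*} [Group G] [Finite G] {p : ℕ} [hp : Fact p.Prime]
    {P H : Subgroup G} [H.Normal] (hP : IsPGroup p P) (h : ¬ p ∣ H.index) : P ≤ H := by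
  rw [← Subgroup.relIndex_eq_one]
  obtain ⟨k, hk⟩ := hP.exists_card_eq
  have h1 : H.relIndex P ∣ p ^ k := hk ▸ Subgroup.relIndex_dvd_card H P
  exact Nat.eq_one_of_dvd_coprimes (Nat.Coprime.pow_left k
    ((Nat.Prime.coprime_iff_not_dvd hp.out).mpr h)) h1 (Subgroup.relIndex_dvd_index_of_normal H P)

/-- A nontrivial finite solvable group has a normal subgroup of prime index. -/
theorem exists_normal_prime_index (G : Type*) [Group G] [Finite G] [Group.IsSolvable G]
    [Nontrivial G] : ∃ M : Subgroup G, M.Normal ∧ M.index.Prime := by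
  have h1 := Group.IsSolvable.commutator_lt_top_of_nontrivial G
  obtain ⟨M, hM, hle⟩ := (eq_top_or_exists_le_coatom (commutator G)).resolve_left h1.ne
  have hn : M.Normal := Subgroup.Normal.of_commutator_le G hle
  refine ⟨M, hn, ?_⟩
  have hc : IsMulCommutative (G ⧸ M) :=
    Subgroup.Normal.quotient_commutative_iff_commutator_le.mpr hle
  have hπ := QuotientGroup.mk'_surjective M
  have : Nontrivial (G ⧸ M) := QuotientGroup.nontrivial_iff.mpr hM.1
  rw [Subgroup.index_eq_card, ← Group.is_simple_iff_prime_card]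
  refine ⟨fun K _ => ?_⟩
  have h2 : M ≤ K.comap (QuotientGroup.mk' M) := by
    conv_lhs => rw [← QuotientGroup.ker_mk' M]
    exact Subgroup.ker_le_comap _ _
  rw [← Subgroup.map_comap_eq_self_of_surjective hπ K]
  rcases h2.eq_or_lt with h | h
  · left
    rw [← h, QuotientGroup.map_mk'_self]
  · right
    rw [hM.2 _ h, Subgroup.map_top_of_surjective _ hπ]

/-- Structure of minimal non-nilpotent groups: if a finite group is not nilpotent but all its proper subgroups are, then there are distinct primes p and q, a cyclic Sylow p-subgroup P and a normal Sylow q-subgroup Q with G generated by P and Q. -/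
theorem result {G : Type*} [Group G] [Finite G] (hG : Cfsg.IsMinimalNonNilpotent G) : ∃ p q : ℕ, p.Prime ∧ q.Prime ∧ p ≠ q ∧ ∃ (P : Sylow p G) (Q : Sylow q G), IsCyclic P ∧ (Q : Subgroup G).Normal ∧ (P : Subgroup G) ⊔ Q = ⊤ := by
  obtain ⟨hnn, hprop⟩ := hG
  have hs : Group.IsSolvable G := S0046.result fun M hM => hprop M hM.1
  have hnt : Nontrivial G := by
    by_contra h
    rw [not_nontrivial_iff_subsingleton] at h
    exact hnn inferInstance
  obtain ⟨M, hMn, hp⟩ := exists_normal_prime_index G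
  have hMtop : M ≠ ⊤ := fun h => by
    rw [h, Subgroup.index_top] at hp
    exact Nat.not_prime_one hp
  have hMnil := hprop M hMtop
  generalize hpM : M.index = p at hp
  have hpf := Fact.mk hp
  have hnormal : ∀ (q : ℕ) [Fact q.Prime], q ≠ p → ∀ Q : Sylow q G, (Q : Subgroup G).Normal := by
    intro q hq hqp Q
    have hQM : (Q : Subgroup G) ≤ M := le_of_not_dvd_index Q.isPGroup' (by
      rw [hpM]
      exact fun h => hqp ((Nat.prime_dvd_prime_iff_eq hq.out hp).mp h))
    have h4 := (Q.subtype hQM).characteristic_of_normal inferInstance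
    have h5 := H19.normal_map_of_characteristic M (Q.subtype hQM)
    rwa [Sylow.coe_subtype, Subgroup.map_subgroupOf_eq_of_le hQM] at h5
  obtain ⟨P, hP⟩ : ∃ P : Sylow p G, ¬ (P : Subgroup G).Normal := by
    by_contra hc
    push Not at hc
    apply hnn
    apply (Group.isNilpotent_of_finite_tfae (G := G)).out 3 0 |>.mp
    intro q hq Q
    by_cases hqp : q = p
    · subst hqp; exact hc Q
    · exact hnormal q hqp Q
  obtain ⟨q, hq, hqp, Q, x, hx, y, hy, hxy⟩ : ∃ q : ℕ, q.Prime ∧ q ≠ p ∧ ∃ Q : Sylow q G,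
      ∃ x ∈ (P : Subgroup G), ∃ y ∈ (Q : Subgroup G), x * y ≠ y * x := by
    by_contra hc
    push Not at hc
    apply hP
    rw [← Subgroup.normalizer_eq_top_iff]
    apply eq_top_of_forall_sylow
    intro q hq
    by_cases hqp : q = p
    · subst hqp; exact ⟨P, Subgroup.le_normalizer⟩
    · obtain ⟨Q⟩ : Nonempty (Sylow q G) := inferInstance
      refine ⟨Q, fun y hy => ?_⟩
      apply Subgroup.mem_normalizer_fintype
      intro x hx
      rwa [← hc q hq.out hqp Q x hx y hy, mul_inv_cancel_right]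
  have hqf := Fact.mk hq
  have hQn := hnormal q hqp Q
  have hxP : Subgroup.zpowers x ≤ P := (Subgroup.zpowers_le).mpr hx
  have htop : (Q : Subgroup G) ⊔ Subgroup.zpowers x = ⊤ := by
    by_contra hne
    exact hxy (commute_of_nilpotent _ _ _ (hprop _ hne) le_sup_right le_sup_left (Ne.symm hqp)
      (P.isPGroup'.to_le hxP) Q.isPGroup' (Subgroup.mem_zpowers x) hy)
  have hPx : (P : Subgroup G) = Subgroup.zpowers x := by
    have h1 := H19.sup_inf_of_normal_le' (N := (Q : Subgroup G)) hxP
    rwa [htop, top_inf_eq, disjoint_iff.mp (IsPGroup.disjoint_of_ne q p hqp _ _ Q.isPGroup'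
      P.isPGroup'), bot_sup_eq] at h1
  refine ⟨p, q, hp, hq, Ne.symm hqp, P, Q, ?_, hQn, ?_⟩
  · rw [hPx]; infer_instance
  · rw [hPx, sup_comm, htop]

end Cfsg.Agent.S0536
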