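import Cfsg.Statements.S0107
import Cfsg.Agent.H4.Basic
import Cfsg.Agent.H3.PResidual
import Cfsg.Agent.S0111

set_option autoImplicit false
open Cfsg

namespace Cfsg.Agent.S0107

/-- A finite group with no nontrivial 2-group quotient and dihedral Sylow 2-subgroups of order at least 8 has a single class of involutions. -/
theorem result {G : Type*} [Group G] [Finite G] (T : Sylow 2 G) (n : ℕ) (hn : 2 ≤ n) (hT : Nonempty ((T : Subgroup G) ≃* DihedralGroup (2 ^ n))) (hO : Cfsg.pResidual 2 G = ⊤) (x y : G) (hx : orderOf x = 2) (hy : orderOf y = 2) : ∃ g : G, g * x * g⁻¹ = y := by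
  obtain ⟨e⟩ := hT
  have hpos : NeZero (2 ^ n) := ⟨by positivity⟩
  let R : Subgroup (DihedralGroup (2 ^ n)) := Subgroup.zpowers (DihedralGroup.r 1)
  let Q : Subgroup G := (R.comap e.toMonoidHom).map (T : Subgroup G).subtype
  have hRi : R.index = 2 := by
    have h1 := R.card_mul_index
    rw [Nat.card_zpowers, DihedralGroup.orderOf_r_one, DihedralGroup.nat_card, mul_comm 2] at h1
    exact Nat.eq_of_mul_eq_mul_left (by positivity) h1
  have hQi : Q.relIndex (T : Subgroup G) = 2 := by
    have : Q.subgroupOf (T : Subgroup G) = R.comap e.toMonoidHom :=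
      Subgroup.comap_map_eq_self_of_injective (T : Subgroup G).subtype_injective _
    rw [Subgroup.relIndex, this, Subgroup.index_comap_of_surjective _ e.surjective, hRi]
  have hQT : Q ≤ (T : Subgroup G) := Subgroup.map_subtype_le _
  -- every involution is conjugate into `Q`
  have h1 : ∀ u : G, orderOf u = 2 → ∃ g : G, g * u * g⁻¹ ∈ Q := by
    intro u hu
    have hup : IsPGroup 2 (Subgroup.zpowers u) := by
      apply IsPGroup.of_card (n := 1)
      rw [Nat.card_zpowers, hu, pow_one]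
    obtain ⟨g, hg⟩ := H4.exists_conj_mem_sylow hup T
    have hgu := hg u (Subgroup.mem_zpowers u)
    by_cases hq : g * u * g⁻¹ ∈ Q
    · exact ⟨g, hq⟩
    have ho : orderOf (g * u * g⁻¹) = 2 := by
      rw [← hu]
      exact (MulAut.conj g).orderOf_eq u
    rcases S0111.result T Q hQT hQi _ ho hgu hq with ⟨M, hMn, hMi, -⟩ | ⟨g', hg'⟩
    · have := H3.pResidual_le_of_index_eq_pow (p := 2) M (k := 1) (by simpa using hMi)
      rw [hO, top_le_iff] at this
      rw [this, Subgroup.index_top] at hMi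
      exact absurd hMi (by decide)
    · exact ⟨g' * g, by simpa [mul_assoc] using hg'⟩
  -- `Q` has a unique involution
  have h2 : ∀ a ∈ Q, orderOf a = 2 → ∃ (t : (T : Subgroup G)) (i : ZMod (2 ^ n)), (t : G) = a ∧
      e t = DihedralGroup.r i ∧ 2 * i.val = 2 ^ n := by
    rintro _ ⟨t, ⟨k, hk⟩, rfl⟩ ha
    have hk' : e t = DihedralGroup.r (k : ZMod (2 ^ n)) := by
      rw [← DihedralGroup.r_one_zpow]
      exact hk.symm
    refine ⟨t, k, rfl, hk', ?_⟩
    have ht : orderOf (e t) = 2 := by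
      rw [e.orderOf_eq, ← Subgroup.orderOf_coe]
      exact ha
    have h3 : (e t) ^ 2 = 1 := by
      have := pow_orderOf_eq_one (e t)
      rwa [ht] at this
    rw [hk', sq, DihedralGroup.r_mul_r, DihedralGroup.one_def, DihedralGroup.r.injEq,
      ← neg_eq_iff_add_eq_zero, ZMod.neg_eq_self_iff] at h3
    refine h3.resolve_left fun h0 => ?_
    rw [hk', h0, DihedralGroup.r_zero, orderOf_one] at ht
    exact absurd ht (by decide)
  obtain ⟨g, hg⟩ := h1 x hx
  obtain ⟨g', hg'⟩ := h1 y hy
  obtain ⟨t, i, ht, hti, hi⟩ := h2 _ hg (by rw [← hx]; exact (MulAut.conj g).orderOf_eq x)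
  obtain ⟨t', i', ht', hti', hi'⟩ := h2 _ hg' (by rw [← hy]; exact (MulAut.conj g').orderOf_eq y)
  have h3 : i = i' := ZMod.val_injective _ (by omega)
  have h4 : t = t' := e.injective (by rw [hti, hti', h3])
  refine ⟨g'⁻¹ * g, ?_⟩
  have h5 : g * x * g⁻¹ = g' * y * g'⁻¹ := by rw [← ht, ← ht', h4]
  calc g'⁻¹ * g * x * (g'⁻¹ * g)⁻¹ = g'⁻¹ * (g * x * g⁻¹) * g' := by group
    _ = y := by rw [h5]; group

end Cfsg.Agent.S0107
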