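import Cfsg.Statements.S0078
import Cfsg.Agent.H3.Transfer2

set_option autoImplicit false
open Cfsg

namespace Cfsg.Agent.S0078

/-- In a p-normal group, a Sylow p-subgroup P meets O^p(G) exactly where it meets O^p(V), for any subgroup V containing the normalizer of the centre of P. -/
theorem result {G : Type*} [Group G] [Finite G] {p : ℕ} [Fact p.Prime] (P : Sylow p G) (hn : ∀ Q : Sylow p G, (P : Subgroup G) ⊓ Subgroup.centralizer (P : Set G) ≤ (Q : Subgroup G) → (Q : Subgroup G) ⊓ Subgroup.centralizer (Q : Set G) = (P : Subgroup G) ⊓ Subgroup.centralizer (P : Set G)) (V : Subgroup G) (hV : Subgroup.normalizer (((P : Subgroup G) ⊓ Subgroup.centralizer (P : Set G) : Subgroup G) : Set G) ≤ V) : (P : Subgroup G) ⊓ Cfsg.pResidual p G = (P : Subgroup G) ⊓ (Cfsg.pResidual p V).map V.subtype := by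
  have hW : IsWeaklyClosed ((P : Subgroup G) ⊓ Subgroup.centralizer (P : Set G)) P := by
    refine ⟨inf_le_left, fun g hg => ?_⟩
    have h1 := hn (g⁻¹ • P) fun x hx =>
      (H3.mem_smul_sylow_iff P g⁻¹ x).mpr (by rw [inv_inv]; exact hg ⟨x, hx, rfl⟩)
    ext x
    rw [H3.mem_map_conj_iff, ← h1, Subgroup.mem_inf, h1, Subgroup.mem_inf]
    refine and_congr ?_ ⟨fun h y hy => ?_, fun h y hy => ?_⟩
    · refine (H3.mem_smul_sylow_iff P g⁻¹ _).trans ?_
      simp [mul_assoc]
      rfl
    · have := h (g⁻¹ * y * g) ((H3.mem_smul_sylow_iff P g⁻¹ _).mpr (by simpa [mul_assoc] using hy))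
      calc y * x = g * (g⁻¹ * y * g * (g⁻¹ * x * g)) * g⁻¹ := by group
        _ = _ := by rw [this]; group
    · have := h _ ((H3.mem_smul_sylow_iff P g⁻¹ _).mp hy)
      calc y * (g⁻¹ * x * g) = g⁻¹ * (g⁻¹⁻¹ * y * g⁻¹ * x) * g := by group
        _ = _ := by rw [this]; group
  refine H3.inf_pResidual_eq_of_controls_fusion P (le_trans ?_ hV) ?_
  · exact (Subgroup.le_centralizer_iff.mp inf_le_right).trans (Subgroup.centralizer_le_normalizer _)
  · intro x hx g hg
    obtain ⟨n, hn, h⟩ := H3.exists_normalizer_conj_eq_of_isWeaklyClosed P inf_le_right hW g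
    exact ⟨n, hV hn, h x hx hg⟩

end Cfsg.Agent.S0078
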