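import Cfsg.Statements.S0549
import Cfsg.Agent.H19.Basic

set_option autoImplicit false
open Cfsg

namespace Cfsg.Agent.S0549

theorem sup_eq_top {G : Type*} [Group G] (U : Subgroup G) (hU : IsCoatom U)
    (hcore : U.normalCore = ⊥) (N : Subgroup G) [N.Normal] (hN : N ≠ ⊥) : N ⊔ U = ⊤ := by
  apply hU.2
  refine lt_of_le_of_ne le_sup_right fun h => hN ?_
  rw [eq_bot_iff, ← hcore, Subgroup.normal_le_normalCore, h]
  exact le_sup_left

/-- Let U be a maximal subgroup of a finite group G whose normal core is trivial, and N a nontrivial normal subgroup with centralizer C. Then C ∩ U = 1, and either C = 1 or C is a minimal normal subgroup of G. -/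
theorem result {G : Type*} [Group G] [Finite G] (U : Subgroup G) (hU : IsCoatom U) (hcore : U.normalCore = ⊥) (N : Subgroup G) [N.Normal] (hN : N ≠ ⊥) : Subgroup.centralizer (N : Set G) ⊓ U = ⊥ ∧ (Subgroup.centralizer (N : Set G) = ⊥ ∨ (Subgroup.centralizer (N : Set G) ≠ ⊥ ∧ ∀ K : Subgroup G, K.Normal → K ≤ Subgroup.centralizer (N : Set G) → K = ⊥ ∨ K = Subgroup.centralizer (N : Set G))) := by
  have h1 : Subgroup.centralizer (N : Set G) ⊓ U = ⊥ := by
    have hn : (Subgroup.centralizer (N : Set G) ⊓ U).Normal := by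
      rw [← Subgroup.normalizer_eq_top_iff, eq_top_iff, ← sup_eq_top U hU hcore N hN]
      refine sup_le ?_ ?_
      · intro m hm
        apply Subgroup.mem_normalizer_fintype
        intro k hk
        rw [hk.1 m hm, mul_inv_cancel_right]
        exact hk
      · intro u hu
        apply Subgroup.mem_normalizer_fintype
        intro k hk
        exact ⟨(inferInstance : (Subgroup.centralizer (N : Set G)).Normal).conj_mem k hk.1 u,
          U.mul_mem (U.mul_mem hu hk.2) (U.inv_mem hu)⟩
    rw [eq_bot_iff, ← hcore, Subgroup.normal_le_normalCore]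
    exact inf_le_right
  refine ⟨h1, ?_⟩
  by_cases h : Subgroup.centralizer (N : Set G) = ⊥
  · exact Or.inl h
  refine Or.inr ⟨h, fun K hK hKC => ?_⟩
  by_cases hK0 : K = ⊥
  · exact Or.inl hK0
  right
  have h2 := H19.sup_inf_of_normal_le (H := U) hKC
  rw [sup_eq_top U hU hcore K hK0, top_inf_eq, inf_comm, h1, sup_bot_eq] at h2
  exact h2.symm

end Cfsg.Agent.S0549
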