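import Cfsg.Statements.S0556
import Cfsg.Agent.S0549
import Cfsg.Agent.S0023
import Mathlib.GroupTheory.Transfer

set_option autoImplicit false
open Cfsg

namespace Cfsg.Agent.S0556

theorem isCoatom_map {G G' : Type*} [Group G] [Group G'] (f : G →* G')
    (hf : Function.Surjective f) (A : Subgroup G) (hA : IsCoatom A) (hker : f.ker ≤ A) :
    IsCoatom (A.map f) := by
  have hAA : (A.map f).comap f = A := Subgroup.comap_map_eq_self hker
  refine ⟨fun h => hA.1 (by rw [← hAA, h, Subgroup.comap_top]), fun K hK => ?_⟩
  have h1 : A < K.comap f := by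
    refine lt_of_le_of_ne (hAA.ge.trans (Subgroup.comap_mono hK.le)) fun h => hK.ne ?_
    rw [h, Subgroup.map_comap_eq_self_of_surjective hf]
  rw [← Subgroup.map_comap_eq_self_of_surjective hf K, hA.2 _ h1,
    Subgroup.map_top_of_surjective f hf]

theorem normalCore_map_mk' {G : Type*} [Group G] (A : Subgroup G) :
    (A.map (QuotientGroup.mk' A.normalCore)).normalCore = ⊥ := by
  have hπ := QuotientGroup.mk'_surjective A.normalCore
  have hker : (QuotientGroup.mk' A.normalCore).ker ≤ A := by
    rw [QuotientGroup.ker_mk']; exact A.normalCore_le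
  rw [← Subgroup.map_comap_eq_self_of_surjective hπ (Subgroup.normalCore _),
    Subgroup.map_eq_bot_iff, QuotientGroup.ker_mk', Subgroup.normal_le_normalCore]
  exact (Subgroup.comap_mono (Subgroup.normalCore_le _)).trans (Subgroup.comap_map_eq_self hker).le

theorem corefree {G : Type*} [Group G] [Finite G] (A : Subgroup G) (hA : IsCoatom A)
    [IsMulCommutative A] (hc : A.normalCore = ⊥) : ⁅commutator G, commutator G⁆ = ⊥ := by
  have hnorm : ∀ X : Subgroup G, X ≠ ⊥ → X ≤ A → Subgroup.normalizer (X : Set G) = A := by
    intro X hX hXA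
    have hAX : A ≤ Subgroup.normalizer (X : Set G) := by
      intro a ha
      apply Subgroup.mem_normalizer_fintype
      intro x hx
      rwa [setLike_mul_comm ha (hXA hx), mul_inv_cancel_right]
    by_contra hne
    have h1 := hA.2 _ (lt_of_le_of_ne hAX (Ne.symm hne))
    rw [Subgroup.normalizer_eq_top_iff] at h1
    apply hX
    rw [eq_bot_iff, ← hc, Subgroup.normal_le_normalCore]
    exact hXA
  have hcop : (Nat.card A).Coprime (Nat.card (commutator G)) := by
    apply Nat.coprime_of_dvd
    intro p hp hd
    have := Fact.mk hp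
    obtain ⟨X, hX⟩ := Sylow.exists_subgroup_card_pow_prime (G := A) p (n := 1) (by rwa [pow_one])
    have hXc : Nat.card (X.map A.subtype) = p ^ 1 := by
      rw [Subgroup.card_map_of_injective A.subtype_injective, hX]
    have hX0 : X.map A.subtype ≠ ⊥ := by
      rw [← Subgroup.one_lt_card_iff_ne_bot, hXc, pow_one]
      exact hp.one_lt
    obtain ⟨P, hXP⟩ := (IsPGroup.of_card hXc).exists_le_sylow
    have hP0 : (P : Subgroup G) ≠ ⊥ := fun h => hX0 (le_bot_iff.mp (h ▸ hXP))
    have : Nontrivial (P : Subgroup G) := (Subgroup.nontrivial_iff_ne_bot _).mpr hP0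
    have hnil := P.isPGroup'.isNilpotent
    let Z : Subgroup G := (Subgroup.center (P : Subgroup G)).map (P : Subgroup G).subtype
    have hZ : Z ≠ ⊥ := by
      rw [Ne, Subgroup.map_eq_bot_iff_of_injective _ (Subgroup.subtype_injective _)]
      exact Group.IsNilpotent.center_ne_bot _
    have hZc : ∀ z ∈ Z, ∀ y ∈ (P : Subgroup G), y * z = z * y := by
      rintro _ ⟨z, hz, rfl⟩ y hy
      exact congrArg Subtype.val (Subgroup.mem_center_iff.mp hz ⟨y, hy⟩)
    have hZA : Z ≤ A := by
      rw [← hnorm _ hX0 (Subgroup.map_subtype_le X)]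
      intro z hz
      apply Subgroup.mem_normalizer_fintype
      intro x hx
      rwa [← hZc z hz x (hXP hx), mul_inv_cancel_right]
    have hPA : (P : Subgroup G) ≤ A := by
      rw [← hnorm _ hZ hZA]
      intro y hy
      apply Subgroup.mem_normalizer_fintype
      intro z hz
      rwa [hZc z hz y hy, mul_inv_cancel_right]
    have hP : Subgroup.normalizer (P : Set G) ≤ Subgroup.centralizer (P : Set G) := by
      rw [← P.coe_coe, hnorm _ hP0 hPA]
      intro a ha y hy
      exact setLike_mul_comm (hPA hy) ha
    have h1 := MonoidHom.ker_transferSylow_isComplement' P hP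
    have : IsMulCommutative (P : Subgroup G) :=
      ⟨⟨fun a b => Subtype.ext (setLike_mul_comm (hPA a.2) (hPA b.2))⟩⟩
    have h2 : commutator G ≤ (MonoidHom.transferSylow P hP).ker :=
      Subgroup.Normal.commutator_le_of_self_sup_commutative_eq_top h1.sup_eq_top this
    intro hd'
    apply P.not_dvd_index
    rw [h1.index_eq_card]
    exact hd'.trans (Subgroup.card_dvd_of_le h2)
  have hinf : A ⊓ commutator G = ⊥ := disjoint_iff.mp (Subgroup.disjoint_of_coprime_natCard hcop)
  by_cases hL : commutator G = ⊥
  · rw [hL, Subgroup.commutator_bot_left]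
  have key : ∀ (X : Subgroup G) [X.Normal], X ≠ ⊥ → X ≤ commutator G → X = commutator G := by
    intro X _ hX hXL
    have h1 := H19.sup_inf_of_normal_le (H := A) hXL
    rw [S0549.sup_eq_top A hA hc X hX, top_inf_eq, hinf, sup_bot_eq] at h1
    exact h1.symm
  obtain ⟨q, hq, hqd⟩ := Nat.exists_prime_and_dvd
    ((Subgroup.one_lt_card_iff_ne_bot _).mpr hL).ne'
  have := Fact.mk hq
  obtain ⟨Q, hQ⟩ := S0023.result A (commutator G) (by rw [Subgroup.normalizer_eq_top]; exact le_top)
    hcop (Or.inl (Group.isSolvable_of_comm mul_comm')) q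
  have hQ0 : (Q : Subgroup (commutator G)).map (commutator G).subtype ≠ ⊥ := by
    rw [Ne, Subgroup.map_eq_bot_iff_of_injective _ (Subgroup.subtype_injective _)]
    exact Q.ne_bot_of_dvd_card hqd
  have hQn : ((Q : Subgroup (commutator G)).map (commutator G).subtype).Normal := by
    rw [← Subgroup.normalizer_eq_top_iff]
    apply hA.2
    refine lt_of_le_of_ne hQ fun h => hQ0 ?_
    rw [eq_bot_iff, ← hinf]
    exact le_inf (h ▸ Subgroup.le_normalizer) (Subgroup.map_subtype_le _)
  have hLq : IsPGroup q (commutator G) := by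
    rw [← key _ hQ0 (Subgroup.map_subtype_le _)]
    exact Q.isPGroup'.map _
  have hnil := hLq.isNilpotent
  have : Nontrivial (commutator G) := (Subgroup.nontrivial_iff_ne_bot _).mpr hL
  have hZ : (Subgroup.center (commutator G)).map (commutator G).subtype ≠ ⊥ := by
    rw [Ne, Subgroup.map_eq_bot_iff_of_injective _ (Subgroup.subtype_injective _)]
    exact Group.IsNilpotent.center_ne_bot _
  have h3 := key _ hZ (Subgroup.map_subtype_le _)
  rw [Subgroup.commutator_eq_bot_iff_le_centralizer]
  intro x hx y hy
  rw [← h3] at hx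
  obtain ⟨z, hz, rfl⟩ := hx
  exact congrArg Subtype.val (Subgroup.mem_center_iff.mp hz ⟨y, hy⟩)

/-- If a finite group has a maximal subgroup that is abelian, then the third term of its derived series is trivial (so the group is solvable of derived length at most three). -/
theorem result {G : Type*} [Group G] [Finite G] (A : Subgroup G) (hA : IsCoatom A) [IsMulCommutative A] : derivedSeries G 3 = ⊥ := by
  have h2 : derivedSeries G 2 = ⁅commutator G, commutator G⁆ := rfl
  have hC : derivedSeries G 2 ≤ A.normalCore := by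
    have hπ := QuotientGroup.mk'_surjective A.normalCore
    have hker : (QuotientGroup.mk' A.normalCore).ker ≤ A := by
      rw [QuotientGroup.ker_mk']; exact A.normalCore_le
    have := corefree _ (isCoatom_map _ hπ A hA hker) (normalCore_map_mk' A)
    conv_rhs => rw [← QuotientGroup.ker_mk' A.normalCore]
    rw [← Subgroup.map_eq_bot_iff, map_derivedSeries_eq hπ]
    exact this
  rw [derivedSeries_succ, eq_bot_iff]
  refine (Subgroup.commutator_mono (hC.trans A.normalCore_le) (hC.trans A.normalCore_le)).trans ?_
  rw [le_bot_iff, Subgroup.commutator_self_eq_bot_iff]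
  infer_instance

end Cfsg.Agent.S0556
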