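import Cfsg.Statements.S4039
import Cfsg.Agent.H84.NilMax

set_option autoImplicit false
set_option linter.style.haveILetI false
open Cfsg

namespace Cfsg.Agent.S4039

/-- A finite group possessing a maximal subgroup that is nilpotent of class at most 2 is solvable. -/
theorem result {G : Type*} [Group G] [Finite G]
    (M : Subgroup G) (hmax : IsCoatom M) (hnil : Group.IsNilpotent M) (hcl : Group.nilpotencyClass ↥M ≤ 2) :
    Group.IsSolvable G := by
  haveI : Fact (Nat.Prime 2) := ⟨Nat.prime_two⟩
  obtain ⟨Q, hQ, -⟩ := H4.IsSylowIn.exists_le (p := 2) IsPGroup.of_bot (bot_le (a := M))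
  refine H84.isSolvable_of_nilpotent_coatom hmax hnil hQ (eq_bot_iff.2 ?_)
  have := Subgroup.lowerCentralSeries_eq_bot_of_nilpotencyClass_le hcl
  rw [← this]
  exact Subgroup.commutator_mono (Subgroup.commutator_mono hQ.le hQ.le) hQ.le

end Cfsg.Agent.S4039
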