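import Cfsg.Statements.S4593
import Cfsg.Agent.H21.AbSyl
import Mathlib.GroupTheory.SemidirectProduct

set_option autoImplicit false
open Cfsg

namespace Cfsg.Agent.S4593

/-- Let G be a finite group with trivial centre and no nontrivial normal subgroup of odd order, whose Sylow 2-subgroups are abelian, and let P be a Sylow 2-subgroup. Every automorphism of G of 2-power order that fixes P elementwise is inner. -/
theorem result {G : Type*} [Group G] [Finite G] (hZ : Subgroup.center G = ⊥) (hcore : Cfsg.pPrimeCore 2 G = ⊥) (P : Sylow 2 G) (hab : IsMulCommutative (P : Subgroup G))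
    (α : MulAut G) (h2 : ∃ j : ℕ, orderOf α = 2 ^ j) (hfix : ∀ x ∈ (P : Subgroup G), α x = x) :
    ∃ g : G, ∀ x : G, α x = g * x * g⁻¹ := by
  let H := G ⋊[(Subgroup.zpowers α).subtype] (Subgroup.zpowers α)
  haveI : Finite H := Finite.of_equiv _ (SemidirectProduct.equivProd).symm
  let j : Subgroup.zpowers α := ⟨α, Subgroup.mem_zpowers α⟩
  let r : Subgroup.zpowers α →* H := SemidirectProduct.inr
  let e : G →* H := SemidirectProduct.inl
  have he : Function.Injective e := SemidirectProduct.inl_injective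
  have hιe : ∀ (i : Subgroup.zpowers α) g, r i * e g * (r i)⁻¹ = e ((i : MulAut G) g) := fun i g => by
    have := SemidirectProduct.inl_aut (φ := (Subgroup.zpowers α).subtype) i g
    rw [map_inv] at this
    exact this.symm
  obtain ⟨k, hk⟩ := h2
  have hα : IsPGroup 2 (Subgroup.zpowers α) := H43.isPGroup_zpowers_of_orderOf hk
  have hr : IsPGroup 2 r.range := hα.of_surjective _ r.rangeRestrict_surjective
  have hSP : IsPGroup 2 ((P : Subgroup G).map e) := P.isPGroup'.map e
  have hfix' : ∀ i : Subgroup.zpowers α, ∀ x ∈ (P : Subgroup G), (i : MulAut G) x = x := by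
    rintro ⟨_, n, rfl⟩ x hx
    exact MulAction.mem_stabilizer_iff.1 (Subgroup.zpow_mem (MulAction.stabilizer (MulAut G) x)
      (MulAction.mem_stabilizer_iff.2 (hfix x hx)) n)
  have hc : r.range ≤ Subgroup.centralizer (((P : Subgroup G).map e : Subgroup H) : Set H) := by
    rintro _ ⟨i, rfl⟩ _ ⟨s, hs, rfl⟩
    have := hιe i s
    rw [hfix' i s hs, mul_inv_eq_iff_eq_mul] at this
    exact this.symm
  have hn := hc.trans (Subgroup.centralizer_le_normalizer _)
  obtain ⟨T, hT⟩ := (H44.isPGroup_sup_of_le_normalizer hn hSP hr).exists_le_sylow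
  have hPS : (T : Subgroup H).comap e = P :=
    P.is_maximal' (T.isPGroup'.comap_of_injective e he) fun s hs =>
      hT (Subgroup.mem_sup_left ⟨s, hs, rfl⟩)
  have hTl : ∀ t ∈ (T : Subgroup H), t.left ∈ (P : Subgroup G) := by
    intro t ht
    rw [← hPS, Subgroup.mem_comap]
    have h1 : e t.left = t * (r t.right)⁻¹ := by
      rw [eq_mul_inv_iff_mul_eq]; exact SemidirectProduct.inl_left_mul_inr_right t
    rw [h1]
    exact mul_mem ht (inv_mem (hT (Subgroup.mem_sup_right ⟨_, rfl⟩)))
  have hAb : H21.Ab2 H := by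
    refine H21.Ab2.of_sylow T ⟨⟨fun a b => Subtype.ext ?_⟩⟩
    have ha := hTl a a.2
    have hb := hTl b b.2
    change (a : H) * b = b * a
    ext
    · rw [SemidirectProduct.mul_left, SemidirectProduct.mul_left]
      change _ * ((a : H).right : MulAut G) _ = _ * ((b : H).right : MulAut G) _
      rw [hfix' _ _ ha, hfix' _ _ hb]
      exact congrArg Subtype.val (hab.is_comm.comm ⟨_, ha⟩ ⟨_, hb⟩)
    · rw [SemidirectProduct.mul_right, SemidirectProduct.mul_right, mul_comm']
  haveI hN : e.range.Normal := by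
    rw [SemidirectProduct.range_inl_eq_ker_rightHom]; infer_instance
  have hE : H44.Oppof 2 e.range = ⊥ := by
    rw [H44.Oppof_eq_bot_iff, ← H44.map_pPrimeCore_equiv (MonoidHom.ofInjective he), hcore,
      Subgroup.map_bot]
  have h1 := hAb.le_sup_centralizer hE hr Subgroup.le_normalizer_of_normal ⟨j, rfl⟩
  obtain ⟨_, ⟨g, rfl⟩, z, hz, hgz⟩ := (H44.mem_sup_of_le_normalizer
    (Subgroup.le_normalizer_of_normal)).1 h1
  refine ⟨g, fun x => he ?_⟩
  have h3 := hz.2 (e x) (Subgroup.mem_sup_right ⟨x, rfl⟩)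
  change e ((j : MulAut G) x) = _
  rw [← hιe, ← hgz, map_mul e, map_mul e, map_inv e, mul_assoc (e g) z, ← h3, mul_inv_rev]
  group

end Cfsg.Agent.S4593
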