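import Cfsg.Statements.S5178
import Cfsg.Agent.H93.ExsIdx

set_option autoImplicit false
universe u
open Cfsg

namespace Cfsg.Agent.S5178

open Cfsg.FusionSystem Cfsg.Agent.H93
open Cfsg.Agent.H91 hiding center_central center_le central_bot central_mono central_sup conj_mem_hyp core_le core_normal exists_conj_mod_hyp focal_eq_hyp_sup isCentral_iff isFullyAutomized_iff isNormal_iff le_center le_core mem_opIn_of_chain normal_bot normal_sup sSup_mem_of_sup_closed stronglyClosed_iff weaklyClosed_iff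

open scoped commutatorElement

/-- Let p be an odd prime, S a finite p-group containing an extraspecial subgroup Q of index p, and F a saturated fusion system over S whose largest subgroup normal in F is trivial. Then the centre of S equals the centre of Q. -/
theorem result {Ω : Type u} [Group Ω] {S : Subgroup Ω} [Finite S] (p : ℕ) [Fact p.Prime] (hp : Odd p) (hS : IsPGroup p S)
    (Q : Subgroup Ω) (hQS : Q ≤ S) (hQ : Cfsg.IsExtraspecial p ↥Q) (hQi : (Q.subgroupOf S).index = p)
    (F : Cfsg.FusionSystem S) (hF : F.IsSaturated p) (hO : F.core = ⊥) :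
    S ⊓ Subgroup.centralizer (S : Set Ω) = Q ⊓ Subgroup.centralizer (Q : Set Ω) := by
  change centralizerIn S S = centralizerIn Q Q
  obtain ⟨h1, h2⟩ := exs_center hQ
  haveI := H3.normal_of_index_eq hS hQi
  have hQn : ∀ s ∈ S, ∀ a ∈ Q, s * a * s⁻¹ ∈ Q := fun s hs a ha =>
    this.conj_mem (⟨a, hQS ha⟩ : S) ha ⟨s, hs⟩
  have hZS := (centralizerIn_le Q Q).trans hQS
  haveI : ((centralizerIn Q Q).subgroupOf S).Normal := ⟨fun a ha s => mem_centralizerIn.2
    ⟨hQn _ s.2 _ ha.1, fun x hx => by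
      have := (mem_centralizerIn.1 ha).2 _ (hQn _ (S.inv_mem s.2) x hx)
      simp only [Subgroup.coe_mul, Subgroup.coe_inv, Subgroup.coe_subtype] at this ⊢
      calc x * (s * a * (s : Ω)⁻¹) = s * ((s : Ω)⁻¹ * x * (s : Ω)⁻¹⁻¹ * a) * (s : Ω)⁻¹ := by group
        _ = _ := by rw [this]; group⟩⟩
  obtain ⟨z, hz, hzc, hzp, hN⟩ := exists_gen_of_card hS ((centralizerIn Q Q).subgroupOf S)
    (by rw [Nat.card_congr (Subgroup.subgroupOfEquivOfLe hZS).toEquiv, h1])
  have h3 : centralizerIn S S ≤ Q := fun c hc => by_contra fun hcQ => by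
    have hS1 : S ≠ ⊥ := fun e => hcQ (by
      rw [Subgroup.mem_bot.1 (e.le hc.1)]; exact Q.one_mem)
    have := center_le_of_comm hS hF (by rintro rfl; exact absurd hp (by decide)) hO hS1 hz hzc hzp
      (fun x hx y hy => by
        obtain ⟨a, ha, k, rfl⟩ := dec_of_index hS hQS hQi hc.1 hcQ hx
        obtain ⟨b, hb, l, rfl⟩ := dec_of_index hS hQS hQi hc.1 hcQ hy
        have h4 := h2.le (Subgroup.commutator_mem_commutator (Q.inv_mem ha) hb)
        have h5 : ∀ (s : Ω) (k : ℤ), s ∈ S → s * c ^ k = c ^ k * s := fun s k hs =>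
          (mem_centralizerIn.1 (Subgroup.zpow_mem _ hc k)).2 s hs
        convert (hN ⟨_, hZS h4⟩).1 h4 using 1
        calc (a * c ^ k)⁻¹ * (b * c ^ l * (a * c ^ k) * (b * c ^ l)⁻¹)
            = c ^ (-k) * (a⁻¹ * b * (c ^ l * a) * c ^ (-l) * (c ^ k * b⁻¹)) := by group
          _ = _ := by
            rw [← h5 a l (hQS ha), ← h5 _ k (S.inv_mem (hQS hb)), ← h5 _ (-k) (by
              simp only [mul_assoc]
              exact S.mul_mem (S.inv_mem (hQS ha)) (S.mul_mem (hQS hb) (S.mul_mem (hQS ha)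
                (S.mul_mem (S.zpow_mem hc.1 _) (S.mul_mem (S.zpow_mem hc.1 _)
                  (S.mul_mem (S.inv_mem (hQS hb)) (S.zpow_mem hc.1 _)))))))]
            simp only [commutatorElement_def]; group) hc
    exact hcQ ((hN ⟨c, hc.1⟩).2 this).1
  refine le_antisymm (fun c hc => mem_centralizerIn.2 ⟨h3 hc, fun x hx =>
    (mem_centralizerIn.1 hc).2 x (hQS hx)⟩) fun c hc => ?_
  exact (Subgroup.zpowers_le).2 (mem_centralizerIn.2 ⟨hz, hzc⟩) ((hN ⟨c, hZS hc⟩).1 hc)

end Cfsg.Agent.S5178
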