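import Cfsg.Statements.S5179
import Cfsg.Agent.H93.ExsIdx
import Cfsg.Agent.H93.AbIdx3

set_option autoImplicit false
universe u
open Cfsg

namespace Cfsg.Agent.S5179

open Cfsg.FusionSystem Cfsg.Agent.H93
open Cfsg.Agent.H91 hiding center_central center_le central_bot central_mono central_sup conj_mem_hyp core_le core_normal exists_conj_mod_hyp focal_eq_hyp_sup isCentral_iff isFullyAutomized_iff isNormal_iff le_center le_core mem_opIn_of_chain normal_bot normal_sup sSup_mem_of_sup_closed stronglyClosed_iff weaklyClosed_iff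

open scoped commutatorElement

/-- Let p be an odd prime, S a finite p-group of order at least p⁶ containing an extraspecial subgroup Q of index p, and F a saturated fusion system over S whose largest subgroup normal in F is trivial. Then no proper subgroup of Q is essential in F: an essential subgroup of F contained in Q equals Q. -/
theorem result {Ω : Type u} [Group Ω] {S : Subgroup Ω} [Finite S] (p : ℕ) [Fact p.Prime] (hp : Odd p) (hS : IsPGroup p S)
    (Q : Subgroup Ω) (hQS : Q ≤ S) (hQ : Cfsg.IsExtraspecial p ↥Q) (hQi : (Q.subgroupOf S).index = p)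
    (h6 : p ^ 6 ≤ Nat.card S)
    (F : Cfsg.FusionSystem S) (hF : F.IsSaturated p) (hO : F.core = ⊥)
    (E : Subgroup Ω) (hEQ : E ≤ Q) (hE : F.IsEssential p E) : E = Q := by
  by_contra hne
  have hp' : p.Prime := Fact.out
  obtain ⟨h1, h2⟩ := exs_center hQ
  obtain ⟨z, hz, hzp, hz1⟩ := exists_zpowers_eq h1
  haveI := finite_of_le hQS
  haveI := finite_of_le hEQ
  haveI := finite_of_le (centralizerIn_le Q Q)
  have hzZ := hz.le (Subgroup.mem_zpowers z)
  have hZE : centralizerIn Q Q ≤ E := fun c hc => centric_centralizerIn_le hE.1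
    (mem_centralizerIn.2 ⟨hQS hc.1, fun x hx => (mem_centralizerIn.1 hc).2 x (hEQ hx)⟩)
  have hcm : ∀ x ∈ Q, ∀ g ∈ Q, x⁻¹ * (g * x * g⁻¹) ∈ centralizerIn Q Q := fun x hx g hg => by
    have := h2.le (Subgroup.commutator_mem_commutator (Q.inv_mem hx) hg)
    simpa [commutatorElement_def, mul_assoc] using this
  have hcj : ∀ g ∈ Q, ∀ x ∈ E, g * x * g⁻¹ ∈ E := fun g hg x hx => by
    have := E.mul_mem hx (hZE (hcm x (hEQ hx) g hg))
    rwa [mul_inv_cancel_left] at this
  have hN : Q ≤ normalizerIn S E := fun g hg => ⟨hQS hg, mem_normalizer_of_conj_mem (hcj g hg)⟩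
  have key : ∀ β : MulAut E, ∃ g ∈ Q, g ∉ E ∧ g * efn β z * g⁻¹ = efn β z := fun β => by
    have hw := efn_mem β (hZE hzZ)
    by_cases hab : ∀ a ∈ E, ∀ b ∈ E, a * b = b * a
    · by_contra hcon
      push Not at hcon
      have h3 : HomOn Q fun g => (efn β z)⁻¹ * (g * efn β z * g⁻¹) := fun a ha b hb => by
        have := (mem_centralizerIn.1 (hcm _ (hEQ hw) b hb)).2
        calc (efn β z)⁻¹ * (a * b * efn β z * (a * b)⁻¹) = (efn β z)⁻¹ * (a * efn β z *
          ((efn β z)⁻¹ * (b * efn β z * b⁻¹) * a⁻¹)) := by group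
          _ = _ := by rw [← this _ (Q.inv_mem ha)]; group
      have h4 := homOn_card h3 (K := E) fun g hg => ⟨fun e => by_contra fun h =>
        hcon g hg h (inv_mul_eq_one.1 e).symm, fun h => by
          rw [hab g h _ hw, mul_inv_cancel_right, inv_mul_cancel]⟩
      rw [inf_eq_right.2 hEQ] at h4
      have h5 := card_le_of_le (im_le_iff.2 fun g hg => hcm _ (hEQ hw) g hg :
        im (fun g => (efn β z)⁻¹ * (g * efn β z * g⁻¹)) Q ≤ _)
      have h6' : p * Nat.card E ≤ Nat.card Q := by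
        obtain ⟨a, ha⟩ := (isPGroup_of_le hQ.1.1 hEQ).exists_card_eq
        obtain ⟨b, hb⟩ := hQ.1.1.exists_card_eq
        have := card_lt_of_lt (lt_of_le_of_ne hEQ hne)
        rw [ha, hb, Nat.pow_lt_pow_iff_right hp'.one_lt] at this
        rw [ha, hb, ← pow_succ']
        exact Nat.pow_le_pow_right hp'.pos this
      have h7 : AbI p Q E := ⟨hQ.1.1, hEQ, hab, le_antisymm (h4 ▸ Nat.mul_le_mul_left _ (h1 ▸ h5))
        (mul_comm p _ ▸ h6'), hcj, fun h => hne (le_antisymm hEQ (h.trans hZE))⟩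
      have h8 := card_mul_relIndex hQS
      rw [Subgroup.relIndex, hQi, h7.card, h7.card_A, h2, h1] at h8
      rw [← h8, show p * p * p * p = p ^ 4 by ring, Nat.pow_le_pow_iff_right hp'.one_lt] at h6
      omega
    · obtain ⟨g, hg, hgE⟩ := SetLike.exists_of_lt (lt_of_le_of_ne hEQ hne)
      have h3 : ⁅E, E⁆ = centralizerIn Q Q := eq_of_card_eq_mul_prime (p := p) (H := ⊥) bot_le
        (h2 ▸ Subgroup.commutator_mono hEQ hEQ) (by rw [h1, Subgroup.card_bot, one_mul])
        fun h => hab fun a ha b hb => commutatorElement_eq_one_iff_mul_comm.1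
          (h (Subgroup.commutator_mem_commutator ha hb))
      refine ⟨g, hg, hgE, ?_⟩
      rw [(mem_centralizerIn.1 (h3.le (efn_mem_derived β (h3.ge hzZ)))).2 g hg,
        mul_inv_cancel_right]
  refine ((isEssential_iff hS hF).1 hE).2.2 (le_antisymm (extAut_le_autGroup F E) fun α hα => ?_)
  obtain ⟨g, hg, hgE, e⟩ := key α
  obtain ⟨g', hg', hgE', e'⟩ := key α⁻¹
  have hzE := hZE hzZ
  refine mem_extAut_of_chain hS hF hE.2.1 hα (hN hg) (hN hg') hgE hgE'
    (fun i => if i = 0 then ⊥ else if i = 1 then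
      Subgroup.zpowers z ⊔ Subgroup.zpowers (efn α z) else E) 2 rfl le_rfl (fun i hi => ?_)
    (fun i hi x hx hx' => ?_) fun i hi x hx hx' => ?_
  · obtain rfl | rfl : i = 0 ∨ i = 1 := by omega
    · exact bot_le
    · exact sup_le ((Subgroup.zpowers_le).2 hzE) ((Subgroup.zpowers_le).2 (efn_mem α hzE))
  · obtain rfl | rfl : i = 0 ∨ i = 1 := by omega
    · show _ ∈ (⊥ : Subgroup Ω)
      have : g * x = x * g := (sup_le ((Subgroup.zpowers_le).2 (by
        rintro _ rfl; exact (mem_centralizerIn.1 hzZ).2 _ hg)) ((Subgroup.zpowers_le).2 (by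
        rintro _ rfl; exact mul_inv_eq_iff_eq_mul.1 e)) : _ ≤ Subgroup.centralizer {g}) hx' g rfl
      rw [this, mul_inv_cancel_right, inv_mul_cancel]; exact Subgroup.one_mem _
    · exact Subgroup.mem_sup_left (hz.ge (hcm x (hEQ hx) g hg))
  · obtain rfl | rfl : i = 0 ∨ i = 1 := by omega
    · show _ ∈ (⊥ : Subgroup Ω)
      have h3 : x ∈ Subgroup.zpowers (efn α⁻¹ z) ⊔ Subgroup.zpowers z := by
        have hM := (mem_autGroup_iff hE.1.1).1 (Subgroup.inv_mem _ hα)
        have h4 : Subgroup.zpowers z ⊔ Subgroup.zpowers (efn α z) ≤ E :=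
          sup_le ((Subgroup.zpowers_le).2 hzE) ((Subgroup.zpowers_le).2 (efn_mem α hzE))
        have h5 := mem_im_of_mem (efn α⁻¹) hx'
        rw [efn_inv_efn _ hx] at h5
        change x ∈ im _ (Subgroup.zpowers z ⊔ Subgroup.zpowers (efn α z)) at h5
        rw [(hM.restrict h4).homOn.im_sup] at h5
        refine sup_le_sup (im_le_iff.2 ?_) (im_le_iff.2 ?_) h5
        · rintro _ ⟨k, rfl⟩
          exact ⟨k, (hM.homOn.map_zpow hzE k).symm⟩
        · rintro _ ⟨k, rfl⟩
          exact ⟨k, by simp only; rw [hM.homOn.map_zpow (efn_mem _ hzE) k, efn_inv_efn _ hzE]⟩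
      have : g' * x = x * g' := (sup_le ((Subgroup.zpowers_le).2 (by
        rintro _ rfl; exact mul_inv_eq_iff_eq_mul.1 e')) ((Subgroup.zpowers_le).2 (by
        rintro _ rfl; exact (mem_centralizerIn.1 hzZ).2 _ hg')) :
          _ ≤ Subgroup.centralizer {g'}) h3 g' rfl
      rw [this, mul_inv_cancel_right, inv_mul_cancel, (homOn_efn α).map_one]
      exact Subgroup.one_mem _
    · obtain ⟨k, hk⟩ := hz.ge (hcm x (hEQ hx) g' hg')
      simp only at hk
      rw [← hk, (homOn_efn α).map_zpow hzE]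
      exact Subgroup.mem_sup_right ⟨k, rfl⟩

end Cfsg.Agent.S5179
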