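import Cfsg.Statements.S1243
import Cfsg.Agent.H43.Basic

set_option autoImplicit false
open Cfsg

namespace Cfsg.Agent.S1243

open Cfsg.Agent.H43

theorem weakly_closed_conj_eq {G : Type*} [Group G] [Finite G] {p : ℕ} [Fact p.Prime]
    (T : Sylow p G) (W : Subgroup G) (hW : Cfsg.IsWeaklyClosed W (T : Subgroup G))
    (R : Subgroup G) (hR : IsPGroup p R) (hWR : W ≤ R) (g : G)
    (hg : ∀ w ∈ W, g * w * g⁻¹ ∈ R) : g ∈ Subgroup.normalizer (W : Set G) := by
  obtain ⟨y, hy⟩ := exists_conj_le_sylow T hR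
  have h1 : y ∈ Subgroup.normalizer (W : Set G) := by
    rw [mem_normalizer_iff_map_conj]
    apply hW.2
    rintro _ ⟨w, hw, rfl⟩
    exact hy w (hWR hw)
  have h2 : y * g ∈ Subgroup.normalizer (W : Set G) := by
    rw [mem_normalizer_iff_map_conj]
    apply hW.2
    rintro _ ⟨w, hw, rfl⟩
    have := hy _ (hg w hw)
    simpa [mul_assoc] using this
  simpa using Subgroup.mul_mem _ (Subgroup.inv_mem _ h1) h2

/-- Let T be a Sylow p-subgroup of the finite group G and W ≤ T a subgroup weakly closed in T. If d and g d g⁻¹ both centralize W, then g d g⁻¹ = h d h⁻¹ for some h ∈ N_G(W). -/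
theorem result {G : Type*} [Group G] [Finite G] {p : ℕ} [Fact p.Prime] (T : Sylow p G) (W : Subgroup G) (hW : Cfsg.IsWeaklyClosed W (T : Subgroup G)) (d g : G) (hd : d ∈ Subgroup.centralizer (W : Set G)) (hgd : g * d * g⁻¹ ∈ Subgroup.centralizer (W : Set G)) : ∃ h ∈ Subgroup.normalizer (W : Set G), h * d * h⁻¹ = g * d * g⁻¹ := by
  have hWp : IsPGroup p W := T.2.to_le hW.1
  have h1 : W ≤ Subgroup.centralizer ({d} : Set G) := by
    intro w hw
    rw [mem_centralizer_singleton]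
    exact (hd w hw).symm
  have h2 : W.map (MulAut.conj g⁻¹).toMonoidHom ≤ Subgroup.centralizer ({d} : Set G) := by
    rintro _ ⟨w, hw, rfl⟩
    rw [mem_centralizer_singleton]
    have := hgd w hw
    simp only [MulEquiv.toMonoidHom_eq_coe, MonoidHom.coe_coe, MulAut.conj_apply, inv_inv]
    calc d * (g⁻¹ * w * g) = g⁻¹ * ((g * d * g⁻¹) * w) * g := by group
      _ = g⁻¹ * (w * (g * d * g⁻¹)) * g := by rw [this]
      _ = _ := by group
  obtain ⟨R, hR, -, hWR, -, c, hc, hc2⟩ := exists_common_pgroup hWp h1 (hWp.map _) h2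
  have h3 := weakly_closed_conj_eq T W hW R hR hWR (c * g⁻¹) (fun w hw => by
    have := hc2 _ (conj_mem_map_conj (g := g⁻¹) hw)
    simpa [mul_assoc] using this)
  refine ⟨_, Subgroup.inv_mem _ h3, ?_⟩
  rw [mem_centralizer_singleton] at hc
  calc (c * g⁻¹)⁻¹ * d * (c * g⁻¹)⁻¹⁻¹ = g * (c⁻¹ * (d * c)) * g⁻¹ := by group
    _ = _ := by rw [hc]; group

end Cfsg.Agent.S1243
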