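import Cfsg.Statements.S1645
import Cfsg.Agent.AN.McL

set_option autoImplicit false
open Cfsg

namespace Cfsg.Agent.S1645

/-- If some involution of a finite simple group has centraliser a non-split double cover of the alternating group of degree n ≥ 5, then n is 8 or 11 (the McLaughlin and Lyons cases). -/
theorem result {G : Type*} [Group G] [Finite G] [IsSimpleGroup G] (n : ℕ) (hn : 5 ≤ n) (z : G) (hz : orderOf z = 2) (hcov : Cfsg.IsNonsplitDoubleCover (Subgroup.centralizer ({z} : Set G)) (alternatingGroup (Fin n))) : n = 8 ∨ n = 11 := by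
  obtain ⟨π, h⟩ := AN.exists_DC hz hcov
  have h1 := AN.not_isolated hn h
  have h2 := AN.red h h1
  obtain rfl | rfl | rfl | rfl : n = 8 ∨ n = 9 ∨ n = 10 ∨ n = 11 := by omega
  exacts [.inl rfl, (h1 (AN.nine h)).elim, (h1 (AN.ten h)).elim, .inr rfl]

end Cfsg.Agent.S1645
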