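import Cfsg.Statements.S1235
import Cfsg.Agent.S0501
import Cfsg.Agent.S1232
import Cfsg.Agent.H85.SecRank
import Cfsg.Agent.H50.PGroup
import Cfsg.Agent.H25.Sect
import Cfsg.Agent.H49.Hall

set_option autoImplicit false
open Cfsg

namespace Cfsg.Agent.S1235

open Subgroup Cfsg.Agent.H49 Cfsg.Agent.H50 Cfsg.Agent.H85
open scoped commutatorElement

section

variable {S : Type*} [Group S] [Finite S]

theorem cnt (H K L : Subgroup S) : K.relIndex H ≤ K.relIndex (L ⊓ H) * L.index := by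
  have h := relIndex_inf_mul_relIndex K L H
  exact ((relIndex_le_of_le_left inf_le_left (relIndex_pos _ _).ne').trans h.ge).trans
    (Nat.mul_le_mul_left _ (relIndex_le_of_le_right le_top (relIndex_pos _ _).ne' |>.trans
      L.relIndex_top_right.le))

theorem cyc (hS : IsPGroup 2 S) {H K : Subgroup S} (h : ∀ x ∈ H, x ^ 2 ∈ K) (a : S) :
    K.relIndex (zpowers a ⊓ H) ≤ 2 := by
  obtain ⟨c, hc⟩ := (Subgroup.isCyclic_iff_exists_zpowers_eq_top _).1
    (cyclic_of_le (inferInstance : IsCyclic (zpowers a)) (inf_le_left : zpowers a ⊓ H ≤ _))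
  by_cases c1 : c = 1
  · rw [← hc, c1, zpowers_one_eq_bot, relIndex_bot_right]; omega
  have := relIndex_le_of_le_left (zpowers_le.2 (h c (hc ▸ mem_zpowers c : c ∈ _ ⊓ H).2))
    (relIndex_pos _ (zpowers c)).ne'
  rwa [relIndex_zpowers_pow hS c1, hc] at this

theorem of_sylow (P : Sylow 2 S) (h : SectionalPRankLE 2 4 P) : SectionalPRankLE 2 4 S := by
  refine sectionalPRankLE_of_forall fun H K c => ?_
  obtain ⟨R, hR⟩ := exists_sylowOf 2 H
  obtain ⟨g, -, hg⟩ := sylowOf_subJ (sylowOf_top Nat.prime_two P) le_top hR.pi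
  have := c.normal
  obtain ⟨k, hk⟩ := IsPGroup.iff_card.1 (show IsPGroup 2 (H ⧸ K.subgroupOf H) from fun x => ⟨1, by
    obtain ⟨x, rfl⟩ := QuotientGroup.mk_surjective x
    exact (QuotientGroup.eq_one_iff (x ^ 2)).2 (c.pow x x.2)⟩)
  rw [← (hR.isProd_of_index c.le (by
    rw [show K.relIndex H = _ from hk]; exact isPiNat_singleton_pow Nat.prime_two k)).relIndex_eq]
  have h1 := sectionalPRankLE_of_injective ((inclusion hg).comp (cjEquiv g R).toMonoidHom)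
    ((inclusion_injective hg).comp (cjEquiv g R).injective) h
  exact (relIndex_top_right _).ge.trans <| ElemSec.relIndex_le h1 (K := ⊤) (N := K.subgroupOf R) ⟨le_top,
    fun x _ y _ => c.comm _ (hR.le x.2) _ (hR.le y.2), fun x _ => c.pow _ (hR.le x.2)⟩

omit [Finite S] in
theorem comm_of_sq {T : Subgroup S} (h : ∀ x ∈ T, x * x = 1) : T ≤ 𝒞(T) := fun x hx y hy => by
  rw [eq_inv_of_mul_eq_one_left (h _ (mul_mem hy hx)), mul_inv_rev,
    inv_eq_of_mul_eq_one_right (h x hx), inv_eq_of_mul_eq_one_right (h y hy)]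

omit [Finite S] in
theorem comm_fix {T : Subgroup S} (h : ∀ x ∈ T, x * x = 1) {n x : S} (hn : n ∈ 𝒩(T))
    (h2 : n * n ∈ 𝒞(T)) (hx : x ∈ T) : ⁅x, n⁆ ∈ T ⊓ 𝒞[n] := by
  have h1 := conj_mem_of_norm le_rfl hn hx
  have e : ⁅x, n⁆ = x * (n * x * n⁻¹) := by
    rw [commutatorElement_def, inv_eq_of_mul_eq_one_right (h x hx)]; group
  rw [e]
  refine ⟨mul_mem hx h1, mem_cent1.2 ?_⟩
  calc _ = n * x * n⁻¹ * (n * n * x * (n * n)⁻¹) * n := by
        rw [comm_of_sq h h1 x hx, ← h2 x hx, mul_inv_cancel_right]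
    _ = _ := by group

/-- the configuration -/
structure Cf (T B : Subgroup S) : Prop where
  two : IsPGroup 2 S
  cT : Nat.card T = 16
  sq : ∀ x ∈ T, x * x = 1
  le : B ≤ T
  cB : Nat.card B = 4
  cent : ∀ b ∈ B, b ≠ 1 → 𝒞[b] = T

namespace Cf

variable {T B : Subgroup S} (h : Cf T B)
include h

theorem nil (K : Subgroup S) : Group.IsNilpotent K :=
  (isPi_of_isPGroup Nat.prime_two (h.two.to_subgroup K)).nilpotent

omit [Finite S] in
theorem disj {n : S} (hn : n ∉ T) : B ⊓ (T ⊓ 𝒞[n]) = ⊥ := by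
  by_contra h0
  obtain ⟨b, hb, b1⟩ := ne_bot_iff_exists.1 h0
  exact hn (h.cent b hb.1 b1 ▸ mem_cent1_comm.1 hb.2.2)

theorem fix_le {n : S} (hn : n ∉ T) : Nat.card ↥(T ⊓ 𝒞[n]) ≤ 4 := by
  have := card_mul_le h.le (inf_le_left : T ⊓ 𝒞[n] ≤ T)
  rw [h.disj hn, h.cB, h.cT, card_bot] at this
  omega

theorem fix_eq {n : S} (hn : n ∈ 𝒩(T)) (hn' : n ∉ T) (h2 : n * n ∈ T) :
    Nat.card ↥(T ⊓ 𝒞[n]) = 4 := by
  have a := relIndex_cent1_le fun x hx => comm_fix h.sq hn (comm_of_sq h.sq h2) hx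
  have b := card_inf_mul_relIndex 𝒞[n] T
  have c := h.fix_le hn'
  rw [inf_comm, h.cT] at b
  generalize Nat.card ↥(T ⊓ 𝒞[n]) = k at a b c
  interval_cases k <;> omega

omit [Finite S] in
theorem exists_b : ∃ b ∈ B, b ≠ 1 := ne_bot_iff_exists.1 fun e => by
  have := h.cB; rw [e, card_bot] at this; omega

theorem idx : T.relIndex 𝒩(T) ≤ 4 := by
  have key : ∀ K : Subgroup S, K ≤ 𝒩(T) → 𝒩(T) ≤ 𝒩(K) → K ≠ ⊥ →
      2 * Nat.card ↥⁅K, 𝒩(T)⁆ ≤ Nat.card K := fun K h1 h2 h3 =>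
    mul_card_le_of_lt (h.two.to_subgroup K) (commutator_lt_of_nilpotent (h.nil _) h1 h2 h3)
  obtain ⟨b, hb, b1⟩ := h.exists_b
  have h1 := key T le_normalizer le_rfl (ne_bot_iff_exists.2 ⟨b, h.le hb, b1⟩)
  have hM : ⁅T, 𝒩(T)⁆ ≤ T := commutator_le_left_of_norm le_rfl
  by_cases h0 : B ⊓ ⁅T, 𝒩(T)⁆ = ⊥
  · have a := card_mul_le h.le hM
    have c := relIndex_cent1_le (P := 𝒩(T)) (Z := ⁅T, 𝒩(T)⁆) fun x hx =>
      commutator_comm_le _ _ (commutator_mem_commutator hx (h.le hb))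
    rw [h0, h.cB, h.cT, card_bot] at a
    rw [h.cent b hb b1] at c
    omega
  obtain ⟨b, hb, b1⟩ := ne_bot_iff_exists.1 h0
  have a := key _ (hM.trans le_normalizer) (le_norm_commutator_right _ _)
    (ne_bot_iff_exists.2 ⟨b, hb.2, b1⟩)
  have c := relIndex_cent1_le (P := 𝒩(T)) (Z := ⁅⁅T, 𝒩(T)⁆, 𝒩(T)⁆) fun x hx =>
    commutator_comm_le _ _ (commutator_mem_commutator hx hb.2)
  rw [h.cent b hb.1 b1] at c
  rw [h.cT] at h1
  omega

theorem of_normal (hn : 𝒩(T) = ⊤) : SectionalPRankLE 2 4 S := by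
  refine sectionalPRankLE_of_forall fun H K c => ?_
  by_cases h1 : H ≤ T
  · exact (Nat.le_of_dvd (card_pos' H) (relIndex_dvd_card K H)).trans ((card_le_of_le h1).trans h.cT.le)
  obtain ⟨x, hx, hx'⟩ := SetLike.not_le_iff_exists.1 h1
  have h2 := h.idx
  rw [hn, relIndex_top_right] at h2
  have h3 := relIndex_cent1_le (P := T ⊓ H) (Z := K ⊓ (T ⊓ H)) (g := x) fun y hy =>
    ⟨c.comm y hy.2 x hx, commutator_le_left_of_norm (hn.ge.trans' le_top)
      (commutator_mem_commutator hy.1 (mem_top x)), c.le (c.comm y hy.2 x hx)⟩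
  have h4 := card_inf_mul_relIndex 𝒞[x] (T ⊓ H)
  have h5 := card_inf_mul_relIndex K (T ⊓ H)
  have h6 := (card_le_of_le (show 𝒞[x] ⊓ (T ⊓ H) ≤ T ⊓ 𝒞[x] from
    le_inf (inf_le_right.trans inf_le_left) inf_le_left)).trans (h.fix_le hx')
  have h7 : K.relIndex (T ⊓ H) ≤ 4 := Nat.le_of_mul_le_mul_left
    (by rw [h5, ← h4, mul_comm]; exact Nat.mul_le_mul h3 h6) (card_pos' (K ⊓ (T ⊓ H)))
  exact (cnt H K T).trans ((Nat.mul_le_mul h7 h2).trans (by norm_num))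

omit [Finite S] in
theorem cj_inf {s n : S} (hn : n ∈ cj s T) : T ⊓ cj s T ≤ T ⊓ 𝒞[n] :=
  inf_le_inf_left T ((cj_mono s (comm_of_sq h.sq)).trans (cj_centralizer s T ▸ cent_le_cent1 hn))

omit h in
theorem exists_out {s : S} (hs : s ∉ 𝒩(T)) : ∃ n ∈ cj s T, n ∉ T :=
  SetLike.not_le_iff_exists.1 fun a => hs (mem_norm_of_cj_le a)

theorem exists_inv (hT : T ≠ ⊤) : ∃ t ∈ 𝒩(T), t ∉ T ∧ t * t = 1 := by
  obtain ⟨t, ht, ht', t2⟩ := H25.exists_sq_mem (R := T) (h.two.to_subgroup _) fun a =>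
    hT (eq_of_inf_norm_le_of_nilpotent (h.nil ⊤) le_top (inf_le_right.trans a))
  have hc := comm_of_sq h.sq
  let f : B → ↥(T ⊓ 𝒞[t]) := fun b => ⟨⁅(b : S), t⁆, comm_fix h.sq ht (hc t2) (h.le b.2)⟩
  have hf : Function.Injective f := fun b c e => by
    have e' : ⁅(b : S), t⁆ = ⁅(c : S), t⁆ := congrArg Subtype.val e
    have hm := mul_mem (inv_mem c.2) b.2
    have := (h.disj ht').le ⟨hm, h.le hm,
      mem_cent1.2 (by
        calc _ = (c : S)⁻¹ * ⁅(b : S), t⁆ * t * b := by rw [commutatorElement_def]; group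
          _ = _ := by rw [e', commutatorElement_def]; group)⟩
    exact Subtype.ext (inv_mul_eq_one.1 this).symm
  obtain ⟨b, hb⟩ := (hf.bijective_of_nat_card_le (by rw [h.cB]; exact h.fix_le ht')).2
    ⟨(t * t)⁻¹, inv_mem (mem_inf.2 ⟨t2, mem_cent1.2 (mul_assoc _ _ _)⟩)⟩
  refine ⟨b * t, mul_mem (le_normalizer (h.le b.2)) ht,
    fun a => ht' ((T.mul_mem_cancel_left (h.le b.2)).1 a), ?_⟩
  have e : ⁅(b : S), t⁆ = (t * t)⁻¹ := congrArg Subtype.val hb
  rw [commutatorElement_def, inv_eq_of_mul_eq_one_right (h.sq _ (h.le b.2))] at e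
  calc _ = b * t * b * t⁻¹ * (t * t) := by group
    _ = 1 := by rw [e, inv_mul_cancel]

theorem small {t s : S} (ht : t ∈ 𝒩(T)) (ht' : t ∉ T) (t2 : t * t = 1)
    (hN : 𝒩(T) ≤ 𝒞(T ⊓ 𝒞[t])) (hs : s ∈ 𝒩(𝒩(T))) (hs' : s ∉ 𝒩(T)) (E : Subgroup S) (hE : E.Normal)
    (hc : IsMulCommutative E) (h2 : ∀ a ∈ E, a ^ 2 = 1) : Nat.card E ≤ 4 := by
  have hZ := h.fix_eq ht ht' (t2 ▸ one_mem T)
  have hc' := abelian_iff.1 hc
  obtain ⟨b, hb, b1⟩ := h.exists_b
  have hZ' : ∀ n ∈ 𝒩(T), n ∉ T → T ⊓ 𝒞[t] = T ⊓ 𝒞[n] := fun n hn hn' => eq_of_le_of_card_ge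
    (le_inf inf_le_left (le_cent1_iff.2 (hN hn))) (hZ ▸ h.fix_le hn')
  have hsZ : s ∈ 𝒩(T ⊓ 𝒞[t]) := by
    rw [le_antisymm (cent_symm hN) (le_inf ((cent_le_cent1 (le_normalizer (h.le hb))).trans
      (h.cent b hb b1).le) (cent_le_cent1 ht))]
    exact norm_cent le_rfl hs
  have hT' : cj s T ≤ 𝒩(T) := cj_le_of_mem_norm le_normalizer hs
  obtain ⟨u, hu, hu'⟩ := exists_out hs'
  have hI := (h.cj_inf hu).trans (hZ' u (hT' hu) hu').ge
  have h1 : ∀ x ∈ E, x ∈ T → x ∈ T ⊓ 𝒞[t] := fun x hx hxT => by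
    have a := (conj_mem_cj (g := s)).2 hxT
    by_cases c : s * x * s⁻¹ ∈ T
    · simpa [mul_assoc] using conj_mem_of_norm' le_rfl hsZ (hI ⟨c, a⟩)
    · exact hZ' _ (hT' a) c ▸ ⟨hxT, cent_le_cent1 (hE.conj_mem x hx s) (hc' hx)⟩
  have h3 : ∀ b ∈ B, ∀ e ∈ E, ⁅e, b⁆ ∈ E ⊓ 𝒞[b] := fun b hb e he =>
    comm_fix (fun x hx => pow_two x ▸ h2 x hx) (normal_iff_top_le_norm.1 hE (mem_top b))
      (h.sq b (h.le hb) ▸ one_mem _) he
  have h4 : E ⊓ T ≤ T ⊓ 𝒞[t] := fun x hx => h1 x hx.1 hx.2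
  rcases h4.lt_or_eq with a | a
  · have a1 := mul_card_le_of_lt (h.two.to_subgroup _) a
    have a2 := relIndex_cent1_le (h3 b hb)
    have a3 := card_inf_mul_relIndex 𝒞[b] E
    rw [h.cent b hb b1] at a2 a3
    rw [← a3, inf_comm]
    exact Nat.mul_le_mul (by omega : _ ≤ 2) (by omega : _ ≤ 2)
  have hT : B ⊔ T ⊓ 𝒞[t] = T := eq_of_le_of_card_eq (sup_le h.le inf_le_left) (by
    rw [card_sup_of_disjoint (Or.inl (norm_of_cent ((h.le.trans (comm_of_sq h.sq)).trans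
      (cent_anti inf_le_left)))) (h.disj ht'), hZ, h.cB, h.cT])
  have hP := isProd_of_card le_normalizer hT' (by
    rw [← card_mul_relIndex (le_normalizer (H := T)), card_cj, h.cT]
    exact (Nat.mul_le_mul (Nat.mul_le_mul_left 16 h.idx) ((card_le_of_le hI).trans hZ.le)).trans
      (by norm_num))
  refine (card_le_of_le fun e he => ?_).trans hZ.le
  have hn : e ∈ 𝒩(T) := mem_norm_of_cj_le (by
    nth_rw 1 [← hT]
    rw [cj_sup, cj_eq_of_mem_cent (cent_anti (a.ge.trans inf_le_left) (hc' he))]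
    refine sup_le (fun y hy => ?_) inf_le_left
    obtain ⟨c, hc, rfl⟩ := mem_cj'.1 hy
    by_cases c1 : c = 1
    · simp [c1]
    · have := mul_mem ((h.cent c hc c1).le (h3 c hc e he).2) (h.le hc)
      rwa [commutatorElement_def, inv_mul_cancel_right] at this)
  obtain ⟨x, hx, y, hy, rfl⟩ := hP.2.2 e hn
  by_cases c : y ∈ T
  · exact h1 _ he (mul_mem hx c)
  obtain ⟨y, hy0, rfl⟩ := mem_cj'.1 hy
  have hxZ : x ∈ T ⊓ 𝒞[t] := hZ' _ (hT' hy) c ▸ ⟨hx, mem_cent1.2 (by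
    have y2 : s * y * s⁻¹ * (s * y * s⁻¹) = 1 := by
      calc _ = s * (y * y) * s⁻¹ := by group
        _ = 1 := by rw [h.sq y hy0]; group
    rw [eq_inv_of_mul_eq_one_left ((pow_two _).symm.trans (h2 _ he)), mul_inv_rev,
      inv_eq_of_mul_eq_one_right y2, inv_eq_of_mul_eq_one_right (h.sq x hx)])⟩
  have := conj_mem_of_norm le_rfl hsZ (h1 _ (hE.conj_mem' _ he s) (by
    simpa [mul_assoc] using mul_mem (conj_mem_of_norm' le_rfl hsZ hxZ).1 hy0))
  simpa [mul_assoc] using this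

theorem main : SectionalPRankLE 2 4 S := by
  by_cases hn : 𝒩(T) = ⊤
  · exact h.of_normal hn
  obtain ⟨t, ht, ht', t2⟩ := h.exists_inv fun e => hn (top_le_iff.1 (e.ge.trans le_normalizer))
  have hZ := h.fix_eq ht ht' (t2 ▸ one_mem T)
  have hc := comm_of_sq h.sq
  have ho : orderOf t = 2 := orderOf_eq_prime (pow_two t ▸ t2) fun e => ht' (e ▸ one_mem T)
  have hm : ∀ x ∈ zpowers t, x = 1 ∨ x = t := fun x hx => by
    classical
    rw [mem_zpowers_iff_mem_range_orderOf, ho] at hx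
    simpa [Finset.range_add_one, or_comm, eq_comm] using hx
  have hd : ∀ K ≤ T, K ⊓ zpowers t = ⊥ := fun K hK => le_bot_iff.1 fun x hx =>
    (hm x hx.2).resolve_right fun e => ht' (e ▸ hK hx.1)
  have hQ : T ⊔ zpowers t ≤ 𝒞(T ⊓ 𝒞[t]) :=
    sup_le (hc.trans (cent_anti inf_le_left)) (zpowers_le.2 (le_cent1_iff.1 inf_le_right))
  rcases hQ.lt_or_eq with a | a
  swap
  · have hA : T ⊓ 𝒞[t] ⊔ zpowers t ≤ 𝒞(T ⊓ 𝒞[t] ⊔ zpowers t) := by
      rw [cent_sup, cent_zpowers]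
      exact le_inf ((sup_le_sup_right inf_le_left _).trans hQ)
        (sup_le inf_le_right (zpowers_le.2 (self_mem_cent1 t)))
    have hn : zpowers t ≤ 𝒩(T ⊓ 𝒞[t]) := norm_of_cent (le_sup_right.trans hQ)
    refine S1232.result h.two (T ⊓ 𝒞[t] ⊔ zpowers t) ⟨abelian_iff.2 hA, fun y hy => ?_⟩
      (by rw [card_sup_of_disjoint (Or.inr hn) (hd _ inf_le_left), hZ, Nat.card_zpowers, ho])
      (le_antisymm ?_ hA)
    · obtain ⟨x, hx, w, hw, rfl⟩ := (mem_sup_of_norm_left hn).1 hy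
      rcases hm w hw with rfl | rfl
      · rw [mul_one, pow_two, h.sq x hx.1]
      · rw [Commute.mul_pow (mem_cent1.1 hx.2), pow_two, pow_two, t2, h.sq x hx.1, mul_one]
    · rw [cent_sup, cent_zpowers, ← a, sup_comm T, sup_comm _ (zpowers t),
        modular_left (Or.inl (zpowers_le.2 ht)) (zpowers_le.2 (self_mem_cent1 t))]
  have hQc : Nat.card ↥(T ⊔ zpowers t) = 32 := by
    rw [card_sup_of_disjoint (Or.inr (zpowers_le.2 ht)) (hd T le_rfl), h.cT, Nat.card_zpowers, ho]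
  obtain ⟨y, hy, hy'⟩ := SetLike.exists_of_lt (lt_inf_norm_of_nilpotent (h.nil _) a)
  have hyN : y ∈ 𝒩(T) := by
    by_contra c
    obtain ⟨u, hu, hu'⟩ := exists_out c
    have a1 := card_mul_le (le_sup_left : T ≤ T ⊔ zpowers t) (cj_le_of_mem_norm le_sup_left hy.2)
    have a2 := (card_le_of_le (h.cj_inf hu)).trans (h.fix_le hu')
    rw [hQc, card_cj, h.cT] at a1
    omega
  have hN : 𝒩(T) ⊓ 𝒞(T ⊓ 𝒞[t]) = 𝒩(T) := eq_of_le_of_card_ge inf_le_left (by
    have a1 := mul_card_le_of_lt (h.two.to_subgroup _) (lt_of_le_of_ne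
      (le_inf (sup_le le_normalizer (zpowers_le.2 ht)) hQ) fun e => hy' (e ▸ ⟨hyN, hy.1⟩))
    have a2 := h.idx
    rw [← card_mul_relIndex (le_normalizer (H := T)), h.cT]
    omega)
  obtain ⟨s, hs, hs'⟩ := SetLike.exists_of_lt (lt_inf_norm_of_nilpotent (h.nil ⊤) (lt_top_iff_ne_top.2 hn))
  exact S0501.result h.two (h.small ht ht' t2 (hN.ge.trans inf_le_right) hs.2 hs')

end Cf

theorem core (hS : IsPGroup 2 S) {T B : Subgroup S} (hle : B ≤ T) (hB : Nat.card B = 4)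
    (h2 : ∀ b ∈ B, b * b = 1) (hC : ∀ b ∈ B, b ≠ 1 → 𝒞[b] = T) {a : S} (ha : a ∈ T)
    (h8 : Nat.card T = 8 * orderOf a) (ha2 : a ∈ 𝒞(T) → a * a = 1) : SectionalPRankLE 2 4 S := by
  by_cases hT : T = ⊤
  · refine sectionalPRankLE_of_forall fun H K c => (cnt H K (zpowers a)).trans
      ((Nat.mul_le_mul (cyc hS c.pow a) (?_ : _ ≤ 8)).trans (by norm_num))
    have := (zpowers a).card_mul_index
    rw [hT, card_top, ← this, Nat.card_zpowers, mul_comm 8] at h8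
    exact (Nat.eq_of_mul_eq_mul_left (orderOf_pos a) h8).le
  obtain ⟨t, ht, ht', t2⟩ := H25.exists_sq_mem (R := T) (hS.to_subgroup _) fun a =>
    hT (eq_of_inf_norm_le_of_nilpotent (isPi_of_isPGroup Nat.prime_two (hS.to_subgroup ⊤)).nilpotent
      le_top (inf_le_right.trans a))
  have hZ : B ≤ T ⊓ 𝒞(T) := le_inf hle fun b hb => by
    by_cases b1 : b = 1
    · exact b1 ▸ one_mem _
    · exact le_cent1_iff.1 (hC b hb b1).ge
  have hZ' : cj t B ≤ T ⊓ 𝒞(T) := cj_le_of_mem_norm hZ (norm_inf le_rfl (norm_cent le_rfl) ht)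
  have hn : B ≤ 𝒩(cj t B) :=
    norm_of_cent ((hZ.trans inf_le_right).trans (cent_anti (hZ'.trans inf_le_left)))
  have hfix : ∀ b ∈ B, t * b * t⁻¹ = b → b = 1 := fun b hb e => by
    by_contra b1
    exact ht' (hC b hb b1 ▸ mem_cent1.2 (mul_inv_eq_iff_eq_mul.1 e))
  have hd : B ⊓ cj t B = ⊥ := le_bot_iff.1 fun c hc => by
    obtain ⟨b, hb, rfl⟩ := mem_cj'.1 hc.2
    have := hfix _ (mul_mem hb hc.1) (by
      calc _ = t * b * t⁻¹ * (t * t * b * (t * t)⁻¹) := by group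
        _ = _ := by rw [(hZ hb).2 _ t2, mul_inv_cancel_right, (hZ hb).2 _ (hle hc.1)])
    rw [hfix b hb ((eq_inv_of_mul_eq_one_right this).trans (inv_eq_of_mul_eq_one_right (h2 b hb)))]
    simp
  have hY := card_sup_of_disjoint (Or.inl hn) hd
  rw [card_cj, hB] at hY
  have hY2 : ∀ y ∈ B ⊔ cj t B, y * y = 1 := fun y hy => by
    obtain ⟨b, hb, c, hc, rfl⟩ := (mem_sup_of_norm_right hn).1 hy
    obtain ⟨c, hc', rfl⟩ := mem_cj'.1 hc
    rw [mul_assoc, ← mul_assoc _ b, (hZ hb).2 _ (hZ' hc).1]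
    calc _ = b * b * (t * (c * c) * t⁻¹) := by group
      _ = 1 := by rw [h2 b hb, h2 c hc']; group
  have hYZ := sup_le hZ hZ'
  generalize B ⊔ cj t B = Y at hY hY2 hYZ
  have h3 := cyc hS (K := ⊥) (fun y hy => (pow_two y).trans (hY2 y hy)) a
  have h4 := card_sup_mul_card_inf (H := zpowers a) (K := Y) (Or.inl (norm_of_cent
    (cent_symm ((hYZ.trans inf_le_right).trans (cent_anti (zpowers_le.2 ha))))))
  rw [relIndex_bot_left] at h3
  rw [hY, Nat.card_zpowers] at h4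
  have h5 : zpowers a ⊔ Y = T := eq_of_le_of_card_ge
    (sup_le (zpowers_le.2 ha) (hYZ.trans inf_le_left)) (by
      have := Nat.mul_le_mul_left (Nat.card ↥(zpowers a ⊔ Y)) h3
      omega)
  have h6 := Nat.le_of_dvd two_pos (orderOf_dvd_of_pow_eq_one ((pow_two a).trans (ha2 (by
    rw [← h5, cent_sup, cent_zpowers]
    exact ⟨self_mem_cent1 a, cent_symm (hYZ.trans inf_le_right) ha⟩))))
  have h7 : Y = T := eq_of_le_of_card_ge (hYZ.trans inf_le_left) (by omega)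
  exact Cf.main ⟨hS, h7 ▸ hY, h7 ▸ hY2, hle, hB, hC⟩

end

/-- Let G be a finite group, x an involution and T ≤ G a Sylow 2-subgroup of C_G(x) (T ≤ C_G(x) with |C_G(x) : T| odd) which is the internal direct product of a subgroup D that is dihedral (of order ≥ 4) or quasi-dihedral and a Klein four-subgroup B. Suppose that for every involution b ∈ B, T ≤ C_G(b) with |C_G(b) : T| odd. Then every section of G has 2-rank at most 4. -/
theorem result {G : Type*} [Group G] [Finite G] (x : G) (hx : orderOf x = 2) (T D B : Subgroup G) (hT : IsPGroup 2 T) (hTx : T ≤ Subgroup.centralizer ({x} : Set G)) (hTxi : Odd (T.relIndex (Subgroup.centralizer ({x} : Set G)))) (hprod : Cfsg.IsInternalDirectProduct D B T) (hD : (∃ m : ℕ, 2 ≤ m ∧ Nonempty (D ≃* DihedralGroup m)) ∨ Cfsg.IsQuasiDihedral D) (hB : IsKleinFour B) (hTb : ∀ b ∈ B, orderOf b = 2 → T ≤ Subgroup.centralizer ({b} : Set G) ∧ Odd (T.relIndex (Subgroup.centralizer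 ({b} : Set G)))) : Cfsg.SectionalPRankLE 2 4 G := by
  obtain ⟨hDT, hBT, hc, hd, hs⟩ := hprod
  have hcard : Nat.card T = Nat.card D * 4 := by
    rw [← hs, card_sup_of_disjoint (Or.inl (norm_of_cent fun a ha b hb => (hc a ha b hb).symm)) hd,
      hB.card_four]
  have h2 : ∀ b ∈ B, b * b = 1 := fun b hb => congrArg Subtype.val (IsKleinFour.mul_self (⟨b, hb⟩ : B))
  obtain ⟨a, h8, ha2⟩ : ∃ a : D, Nat.card D = 2 * orderOf a ∧ ((∀ y, y * a = a * y) → a * a = 1) := by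
    rcases hD with ⟨m, hm, ⟨e⟩⟩ | ⟨n, hn, h, a, y, ha, -, hy⟩
    · refine ⟨e.symm (.r 1), by rw [Nat.card_congr e.toEquiv, DihedralGroup.nat_card,
        MulEquiv.orderOf_eq, DihedralGroup.orderOf_r_one], fun h => e.injective ?_⟩
      have := congrArg e (h (e.symm (.sr 0)))
      simp only [map_mul, MulEquiv.apply_symm_apply, DihedralGroup.sr_mul_r, DihedralGroup.r_mul_sr,
        DihedralGroup.sr.injEq, DihedralGroup.r_mul_r, map_one, DihedralGroup.one_def,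
        DihedralGroup.r.injEq] at this ⊢
      linear_combination this
    · refine ⟨a, by rw [h, ha, pow_succ'], fun h => ?_⟩
      rw [h, mul_inv_cancel_right] at hy
      have h5 := pow_eq_pow_iff_modEq.1 ((pow_one a).trans hy)
      obtain ⟨k, rfl⟩ := Nat.exists_eq_add_of_le' hn
      have : 1 ≤ 2 ^ k := Nat.one_le_two_pow
      rw [ha, show k + 3 - 1 = k + 2 from rfl, pow_add, pow_add] at h5
      have := Nat.le_of_dvd (by omega) ((Nat.modEq_iff_dvd' (by omega)).1 h5)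
      omega
  obtain ⟨P, hP⟩ := hT.exists_le_sylow
  refine of_sylow P (core P.isPGroup' (T := T.subgroupOf P) (B := B.subgroupOf P) (comap_mono hBT)
    (by rw [card_subgroupOf_of_le (hBT.trans hP), hB.card_four])
    (fun b hb => Subtype.ext (h2 b hb)) (fun b hb b1 => ?_) (a := ⟨a, hP (hDT a.2)⟩) (hDT a.2)
    (by rw [card_subgroupOf_of_le hP, hcard, h8, ← Subgroup.orderOf_coe, ← Subgroup.orderOf_coe]; ring)
    fun h => Subtype.ext (Subtype.ext_iff.1 (ha2 fun y => Subtype.ext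
      (Subtype.ext_iff.1 (h ⟨y, hP (hDT y.2)⟩ (hDT y.2)) :)) :))
  obtain ⟨h3, h4⟩ := hTb b hb (orderOf_eq_prime (pow_two (b : G) ▸ h2 b hb) fun e => b1 (Subtype.ext e))
  have h5 := ((sylowOf_iff Nat.prime_two).2 ⟨h3, hT, h4.not_two_dvd_nat⟩).eq_of_le (le_inf h3 hP)
    inf_le_left ((isPi_of_isPGroup Nat.prime_two P.isPGroup').inf_right _)
  ext c
  rw [mem_subgroupOf, h5, mem_inf, mem_cent1, mem_cent1, Subtype.ext_iff]
  simp

end Cfsg.Agent.S1235
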