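import Cfsg.Statements.S3104
import Cfsg.Agent.SR4.IA
import Cfsg.Agent.SR4.IB

set_option autoImplicit false
open Cfsg

namespace Cfsg.Agent.S3104

open SR4

theorem no_s7 {H : Type*} [Group H] (e : H ≃* Equiv.Perm (Fin 7)) :
    ∃ K : Subgroup H, Nonempty (K ≃* Equiv.Perm (Fin 6)) :=
  let f := e.symm.toMonoidHom.comp (Equiv.Perm.viaEmbeddingHom (Fin.castSuccEmb (n := 6)))
  ⟨f.range, ⟨(MonoidHom.ofInjective (e.symm.injective.comp
    (Equiv.Perm.viaEmbeddingHom_injective _))).symm⟩⟩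

theorem no_a8 {H : Type*} [Group H] (e : H ≃* alternatingGroup (Fin 8)) :
    ∃ K : Subgroup H, Nonempty (K ≃* Equiv.Perm (Fin 6)) := by
  let i := Equiv.Perm.viaEmbeddingHom ((Fin.castSuccEmb (n := 6)).trans (Fin.castSuccEmb (n := 7)))
  have hi : Function.Injective i := Equiv.Perm.viaEmbeddingHom_injective _
  have fx : ∀ (σ : Equiv.Perm (Fin 6)) (x : Fin 8), x = 6 ∨ x = 7 → i σ x = x := fun σ x hx =>
    Equiv.Perm.viaEmbedding_apply_of_notMem _ _ _ (by rcases hx with rfl | rfl <;> decide)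
  have cm : ∀ σ, Commute (i σ) (Equiv.swap 6 7) := fun σ => by
    change i σ * _ = _ * i σ
    rw [Equiv.mul_swap_eq_swap_mul, fx σ 6 (Or.inl rfl), fx σ 7 (Or.inr rfl)]
  let s : ℤˣ →* Equiv.Perm (Fin 8) := MonoidHom.mk' (fun u => if u = 1 then 1 else Equiv.swap 6 7)
    (by decide)
  have cs : ∀ σ u, Commute (i σ) (s u) := fun σ u => by
    rcases Int.units_eq_one_or u with rfl | rfl
    · rw [map_one]; exact Commute.one_right _
    · exact cm σ
  have sg : ∀ σ, Equiv.Perm.sign (i σ) = Equiv.Perm.sign σ := fun σ =>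
    @Equiv.Perm.sign_extendDomain _ _ _ _ _ _ σ _ (fun _ => Classical.propDecidable _) _
  let f : Equiv.Perm (Fin 6) →* alternatingGroup (Fin 8) := MonoidHom.mk'
    (fun σ => ⟨i σ * s (Equiv.Perm.sign σ), by
      rw [Equiv.Perm.mem_alternatingGroup, map_mul, sg]
      rcases Int.units_eq_one_or (Equiv.Perm.sign σ) with h | h <;> rw [h] <;> decide⟩)
    fun a b => Subtype.ext (by
      simp only [map_mul, Subgroup.coe_mul]
      rw [(cs b _).symm.mul_mul_mul_comm])
  have hf : Function.Injective f := (injective_iff_map_eq_one f).2 fun σ h => by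
    have h' : i σ * s (Equiv.Perm.sign σ) = 1 := congrArg Subtype.val h
    rcases Int.units_eq_one_or (Equiv.Perm.sign σ) with k | k <;> rw [k] at h'
    · rw [map_one, mul_one] at h'; exact hi (h'.trans (map_one i).symm)
    · have := DFunLike.congr_fun h' 6
      rw [Equiv.Perm.mul_apply, fx _ _ (Or.inr (by decide))] at this
      exact absurd this (by decide)
  exact ⟨(e.symm.toMonoidHom.comp f).range, ⟨(MonoidHom.ofInjective (e.symm.injective.comp hf)).symm⟩⟩


/-- Let X be a finite nonsolvable 2-constrained group with no nontrivial normal subgroup of odd order such that O₂(X) has sectional 2-rank at most 4, and write Q for X/O₂(X). Then Q is isomorphic to the projective special linear group of dimension 3 over the field with 2 elements, to an alternating group of degree n with 5 ≤ n ≤ 8, to a symmetric group of degree n with 5 ≤ n ≤ 7, or else O₃(Q) has order 3 and Q/O₃(Q) is isomorphic to the alternating or the symmetric group of degree 5 (so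 Q is the direct product of a group of order 3 with the alternating group of degree 5, or an extension of that direct product by a group of order 2). If moreover X itself has sectional 2-rank at most 4, then Q is not isomorphic to the symmetric group of degree 6 or 7 nor to the alternating group of degree 8. -/
theorem result {X : Type*} [Group X] [Finite X] (hns : ¬ Group.IsSolvable X) (hc : Cfsg.IsPConstrained 2 X) (hO : Cfsg.oddCore X = ⊥)
    (h4 : Cfsg.SectionalPRankLE 2 4 ↥(Cfsg.pCore 2 X)) :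
    ((∃ (F : Type) (_ : Field F) (_ : Fintype F), Fintype.card F = 2 ∧
          Nonempty (X ⧸ Cfsg.pCore 2 X ≃* Matrix.ProjectiveSpecialLinearGroup (Fin 3) F)) ∨
        (∃ n : ℕ, 5 ≤ n ∧ n ≤ 8 ∧ Nonempty (X ⧸ Cfsg.pCore 2 X ≃* ↥(alternatingGroup (Fin n)))) ∨
        (∃ n : ℕ, 5 ≤ n ∧ n ≤ 7 ∧ Nonempty (X ⧸ Cfsg.pCore 2 X ≃* Equiv.Perm (Fin n))) ∨
        (Nat.card ↥(Cfsg.pCore 3 (X ⧸ Cfsg.pCore 2 X)) = 3 ∧
          (Nonempty ((X ⧸ Cfsg.pCore 2 X) ⧸ Cfsg.pCore 3 (X ⧸ Cfsg.pCore 2 X) ≃* ↥(alternatingGroup (Fin 5))) ∨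
            Nonempty ((X ⧸ Cfsg.pCore 2 X) ⧸ Cfsg.pCore 3 (X ⧸ Cfsg.pCore 2 X) ≃* Equiv.Perm (Fin 5))))) ∧
      (Cfsg.SectionalPRankLE 2 4 X →
        ¬ (Nonempty (X ⧸ Cfsg.pCore 2 X ≃* Equiv.Perm (Fin 6)) ∨ Nonempty (X ⧸ Cfsg.pCore 2 X ≃* Equiv.Perm (Fin 7)) ∨
            Nonempty (X ⧸ Cfsg.pCore 2 X ≃* ↥(alternatingGroup (Fin 8))))) := by
  have h := CX.of_constrained hc hO
  refine ⟨?_, fun h4' => ?_⟩
  · obtain ⟨φ, hφ⟩ := h.embed (S4.of_sec h4)
    have : Fact (Nat.Prime 2) := ⟨Nat.prime_two⟩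
    have hs : ¬ Group.IsSolvable (X ⧸ pCore 2 X) := fun k => by
      have := h.two.isNilpotent
      exact hns (Group.isSolvable_of_ker_le_range (pCore 2 X).subtype (QuotientGroup.mk' (pCore 2 X))
        (by simp))
    rcases a8List φ hφ hs h.pCore_quot with k | k | k | k | k
    · exact Or.inl ⟨ZMod 2, inferInstance, inferInstance, ZMod.card 2,
        ⟨k.some.trans (psl3_equiv_gl (ZMod.card 2)).some.symm⟩⟩
    · exact Or.inr (Or.inl k)
    · exact Or.inr (Or.inr (Or.inl ⟨5, le_rfl, by norm_num, k⟩))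
    · exact Or.inr (Or.inr (Or.inl ⟨6, by norm_num, by norm_num, k⟩))
    · exact Or.inr (Or.inr (Or.inr ⟨k.1, k.2.2⟩))
  · have k := h.no_s6 (S4.of_sec h4')
    rintro (⟨⟨e⟩⟩ | ⟨⟨e⟩⟩ | ⟨⟨e⟩⟩)
    · exact k ⊤ ⟨Subgroup.topEquiv.trans e⟩
    · obtain ⟨K, hK⟩ := no_s7 e
      exact k K hK
    · obtain ⟨K, hK⟩ := no_a8 e
      exact k K hK

end Cfsg.Agent.S3104
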