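import Cfsg.Statements.S1234
import Cfsg.Agent.S1232

set_option autoImplicit false
open Cfsg

namespace Cfsg.Agent.S1234

open H89.E8 H49 Subgroup

theorem elem_sup {S : Type*} [Group S] {Z : Subgroup S} {s : S} (hZ : IsElementaryAbelian 2 Z)
    (hs : s ∈ 𝒞(Z)) (h2 : s * s = 1) : IsElementaryAbelian 2 (Z ⊔ zpowers s) := by
  refine ⟨abelian_sup hZ.1 inferInstance (cent_symm (zpowers_le.2 hs)), fun x hx => ?_⟩
  rcases (H42.mem_sup_zpowers (cent_le_norm Z hs) (h2 ▸ one_mem _)).1 hx with h | h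
  · exact hZ.2 x h
  · rw [← inv_mul_cancel_right x s, (show Commute _ s from hs _ h).mul_pow, hZ.2 _ h, pow_two, h2,
      mul_one]


/-- Let S be a finite 2-group and Q ≤ S a subgroup of order 32 having an elementary abelian subgroup E of order 16 and an involution s ∉ E whose centralizer in E has order 4 (so Q ≅ (Z₂ × Z₂) ≀ Z₂). If C_S(Z(Q)) = Q, then every section of S has 2-rank at most 4. -/
theorem result {S : Type*} [Group S] [Finite S] (hS : IsPGroup 2 S) (Q E : Subgroup S) (hEQ : E ≤ Q) (hE : Cfsg.IsElementaryAbelian 2 E) (hE16 : Nat.card E = 16) (hQ32 : Nat.card Q = 32) (s : S) (hsQ : s ∈ Q) (hsE : s ∉ E) (hs : orderOf s = 2) (hfix : Nat.card ↥(E ⊓ Subgroup.centralizer ({s} : Set S)) = 4) (hC : Subgroup.centralizer (((Subgroup.center Q).map Q.subtype : Subgroup S) : Set S) = Q) : Cfsg.SectionalPRankLE 2 4 S := by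
  have i : I2 E Q := i2_of_card hEQ (by omega)
  have hab := abelian_iff.1 hE.1
  have s2 : s * s = 1 := by rw [← pow_two, ← hs, pow_orderOf_eq_one]
  have hZ : Q ⊓ 𝒞(Q) = E ⊓ 𝒞[s] := le_antisymm (fun x hx => ⟨by_contra fun e => by
      rw [inf_eq_left.2 (le_cent1_iff.2 ((mul_mem_cancel_left (cent_anti hEQ hx.2)).1
        (hab (i x hx.1 s hsQ e hsE))))] at hfix
      omega, cent_le_cent1 hsQ hx.2⟩)
    fun x hx => ⟨hEQ hx.1, i.cent hsQ hsE (hab hx.1) (cent1_iff.1 (mem_cent1_comm.1 hx.2))⟩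
  rw [H42.map_center_eq, hZ] at hC
  have hsZ : s ∈ 𝒞(E ⊓ 𝒞[s]) := le_cent1_iff.1 inf_le_right
  have hA := elem_sup ⟨abelian_of_le hE.1 inf_le_left, fun x hx => hE.2 x hx.1⟩ hsZ s2
  refine S1232.result hS _ hA (by
    rw [H42.card_sup_zpowers (cent_le_norm _ hsZ) (s2 ▸ one_mem _) fun e => hsE e.1, hfix])
    (le_antisymm (fun x hx => ?_) (abelian_iff.1 hA.1))
  rw [cent_sup, hC, cent_zpowers] at hx
  exact (H42.mem_sup_zpowers (cent_le_norm _ hsZ) (s2 ▸ one_mem _)).2 ((em (x ∈ E)).imp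
    (fun e => ⟨e, hx.2⟩) fun e => ⟨i x hx.1 _ (inv_mem hsQ) e (by rwa [inv_mem_iff]),
      (𝒞[s]).mul_mem hx.2 (inv_mem (self_mem_cent1 s))⟩)

end Cfsg.Agent.S1234
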