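import Cfsg.Statements.S1233
import Cfsg.Agent.S1234

set_option autoImplicit false
open Cfsg

namespace Cfsg.Agent.S1233

open H89.E8 H49 Subgroup
open scoped commutatorElement

variable {S : Type*} [Group S] [Finite S] {Q : Subgroup S} {z a b c d y : S}

/-- a hyperbolic basis of `2^{1+4}_+` -/
structure Hyp (Q : Subgroup S) (z a b c d : S) : Prop where
  card : Nat.card Q = 32
  mem : z ∈ Q ∧ a ∈ Q ∧ b ∈ Q ∧ c ∈ Q ∧ d ∈ Q
  sq : z * z = 1 ∧ a * a = 1 ∧ b * b = 1 ∧ c * c = 1 ∧ d * d = 1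
  z1 : z ≠ 1
  cen : z ∈ 𝒞(Q)
  ac : ⁅c, a⁆ = z
  bd : ⁅d, b⁆ = z
  ab : ⁅a, b⁆ = 1
  bc : ⁅c, b⁆ = 1
  cd : ⁅c, d⁆ = 1
  ad : ⁅d, a⁆ = 1

omit [Finite S] in
theorem sw1 (h : ⁅a, b⁆ = 1) : ⁅b, a⁆ = 1 := commutatorElement_eq_one_iff_mul_comm.2
  (commutatorElement_eq_one_iff_mul_comm.1 h).symm

omit [Finite S] in
theorem Hyp.symm (h : Hyp Q z a b c d) : Hyp Q z d c b a :=
  have e : ∀ x y : S, ⁅x, y⁆ = z → ⁅y, x⁆ = z := fun x y e => by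
    rw [← commutatorElement_inv, e, inv_eq_of_mul_eq_one_left h.sq.1]
  ⟨h.card, ⟨h.mem.1, h.mem.2.2.2.2, h.mem.2.2.2.1, h.mem.2.2.1, h.mem.2.1⟩,
    ⟨h.sq.1, h.sq.2.2.2.2, h.sq.2.2.2.1, h.sq.2.2.1, h.sq.2.1⟩, h.z1, h.cen, e _ _ h.bd, e _ _ h.ac,
    sw1 h.cd, sw1 h.bc, sw1 h.ab, sw1 h.ad⟩

omit [Finite S] in
theorem Hyp.swap (h : Hyp Q z a b c d) : Hyp Q z b a d c :=
  ⟨h.card, ⟨h.mem.1, h.mem.2.2.1, h.mem.2.1, h.mem.2.2.2.2, h.mem.2.2.2.1⟩,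
    ⟨h.sq.1, h.sq.2.2.1, h.sq.2.1, h.sq.2.2.2.2, h.sq.2.2.2.1⟩, h.z1, h.cen, h.bd, h.ac,
    sw1 h.ab, h.ad, sw1 h.cd, h.bc⟩

omit [Finite S] in
theorem cut {N : Subgroup S} {t x : S} (hn : t ∈ 𝒩(N)) (h2 : t * t = 1) (hN : N ≤ 𝒞[y])
    (ht : ⁅y, t⁆ ≠ 1) (hx : x ∈ N ⊔ zpowers t) (hy : ⁅y, x⁆ = 1) : x ∈ N :=
  ((H42.mem_sup_zpowers hn (h2 ▸ one_mem _)).1 hx).resolve_right fun e => ht (cent1_iff.1
    (inv_mem_iff.1 ((mul_mem_cancel_left (cent1_iff.2 hy)).1 (hN e))))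

omit [Finite S] in
theorem zp_le {x : S} (h : ⁅y, x⁆ = 1) : zpowers x ≤ 𝒞[y] := zpowers_le.2 (cent1_iff.2 h)

omit [Finite S] in
theorem mem_cent_zp {x : S} (h : ⁅y, x⁆ = 1) : y ∈ 𝒞(zpowers x) := le_cent1_iff.1 (zp_le h)

namespace Hyp

variable (h : Hyp Q z a b c d)
include h

omit [Finite S] in
theorem cz {x : S} (hx : x ∈ Q) : ⁅x, z⁆ = 1 := comm_eq_one' h.cen hx

omit h in
theorem norm {N : Subgroup S} (hz : z ∈ N) {x s : S}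
    (h1 : ⁅x, s⁆ = 1 ∨ ⁅x, s⁆ = z) (h2 : x ∈ 𝒩(N)) : x ∈ 𝒩(N ⊔ zpowers s) :=
  mem_norm_of_cj_le (by
    rw [cj_sup, cj_eq_of_mem_norm h2, cj_zpowers, ← inv_mul_cancel_right (x * s * x⁻¹) s]
    refine sup_le le_sup_left (zpowers_le.2 (mul_mem (mem_sup_left ?_)
      (mem_sup_right (mem_zpowers s))))
    rcases h1 with e | e <;> rw [← commutatorElement_def, e]
    exacts [one_mem _, hz])

omit [Finite S] in
theorem aC : a ∈ 𝒞(zpowers z ⊔ zpowers b) := by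
  rw [cent_sup]; exact ⟨mem_cent_zp (h.cz h.mem.2.1), mem_cent_zp h.ab⟩

omit [Finite S] in
theorem zb_le : zpowers z ⊔ zpowers b ≤ 𝒞[c] := sup_le (zp_le (h.cz h.mem.2.2.2.1)) (zp_le h.bc)

omit [Finite S] in
theorem elem : IsElementaryAbelian 2 (zpowers z ⊔ zpowers b ⊔ zpowers a) :=
  S1234.elem_sup (S1234.elem_sup ⟨inferInstance, fun x hx => by
    rcases (H42.mem_zpowers_of_mul_self h.sq.1).1 hx with rfl | rfl
    exacts [one_pow 2, (pow_two _).trans h.sq.1]⟩ (mem_cent_zp (h.cz h.mem.2.2.1)) h.sq.2.2.1)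
    h.aC h.sq.2.1

omit [Finite S] in
theorem c8 : Nat.card ↥(zpowers z ⊔ zpowers b ⊔ zpowers a) = 8 := by
  rw [H42.card_sup_zpowers (cent_le_norm _ h.aC) (h.sq.2.1 ▸ one_mem _) fun e =>
    h.z1 (h.ac.symm.trans (cent1_iff.1 (h.zb_le e))), H42.card_sup_zpowers
    (cent_le_norm _ (mem_cent_zp (h.cz h.mem.2.2.1))) (h.sq.2.2.1 ▸ one_mem _) fun e =>
    h.z1 (h.bd.symm.trans (cent1_iff.1 (zp_le (h.cz h.mem.2.2.2.2) e))), card_zp2 h.sq.1 h.z1]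

theorem key (hS : IsPGroup 2 S) (hC : 𝒞(Q) ≤ Q) : SectionalPRankLE 2 4 S ∨ ∃ y : S, ⁅y, z⁆ = 1 ∧
    ⁅y, b⁆ = 1 ∧ ⁅y, c⁆ ∈ zpowers z ⊔ zpowers b ∧ ⁅y, c⁆ ∉ zpowers z := by
  set A := zpowers z ⊔ zpowers b ⊔ zpowers a with hA
  have hz : z ∈ zpowers z ⊔ zpowers b := mem_sup_left (mem_zpowers z)
  have hbA : b ∈ A := mem_sup_left (mem_sup_right (mem_zpowers b))
  have haA : a ∈ A := mem_sup_right (mem_zpowers a)
  have hab := abelian_iff.1 h.elem.1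
  have nz : ∀ x ∈ Q, x ∈ 𝒩(zpowers z) := fun x hx => cent_le_norm _ (mem_cent_zp (h.cz hx))
  have nc : c ∈ 𝒩(A) := norm hz (.inr h.ac)
    (norm (mem_zpowers z) (.inl h.bc) (nz _ h.mem.2.2.2.1))
  have nd : d ∈ 𝒩(A) := norm hz (.inl h.ad)
    (norm (mem_zpowers z) (.inr h.bd) (nz _ h.mem.2.2.2.2))
  have hAQ : A ≤ Q := sup_le (sup_le (zpowers_le.2 h.mem.1) (zpowers_le.2 h.mem.2.2.1))
    (zpowers_le.2 h.mem.2.1)
  have hAa : A ≤ 𝒞[a] := le_cent1_iff.2 (hab haA)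
  have e1 : ⁅a, c⁆ ≠ 1 := fun e => h.z1 (h.ac.symm.trans (sw1 e))
  have hMb : A ⊔ zpowers c ≤ 𝒞[b] := sup_le (le_cent1_iff.2 (hab hbA)) (zp_le (sw1 h.bc))
  have hd : d ∉ A ⊔ zpowers c := fun e => h.z1 (h.bd.symm.trans (sw1 (cent1_iff.1 (hMb e))))
  have i : I2 (A ⊔ zpowers c) Q := i2_of_card (sup_le hAQ (zpowers_le.2 h.mem.2.2.2.1)) (by
    rw [H42.card_sup_zpowers nc (h.sq.2.2.2.1 ▸ one_mem _) fun e => e1 (cent1_iff.1 (hAa e)), h.c8,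
      h.card])
  have hQA : ∀ x ∈ Q, x ∈ 𝒞(A) → x ∈ A := fun x hx hx' => cut nc h.sq.2.2.2.1 hAa e1
    (by_contra fun e => h.z1 (h.bd.symm.trans (sw1 (cent1_iff.1 ((mul_mem_cancel_left
      (cent_le_cent1 hbA hx')).1 (hMb (i x hx d h.mem.2.2.2.2 e hd))))))) (comm_eq_one' hx' haA)
  by_cases h1 : 𝒞(A) ≤ Q
  · exact .inl (S1232.result hS A h.elem h.c8 (le_antisymm (fun x hx => hQA x (h1 hx) hx) hab))
  have hQN : Q ≤ 𝒩(A) := i.le_of h.mem.2.2.2.2 hd (sup_le le_normalizer (zpowers_le.2 nc)) nd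
  obtain ⟨y, hy, hyQ, h2⟩ := fixpt hS (norm_cent hQN) h1
  have h3 : ∀ x ∈ Q, ⁅x, y⁆ ∈ A := fun x hx => hQA _ (h2 x hx)
    (mul_mem (conj_mem_of_norm (norm_cent hQN) hx hy) (inv_mem hy))
  have h4 : ∀ x ∈ Q, x * x = 1 → ⁅x, ⁅x, y⁆⁆ = 1 := fun x hx e => by
    rw [commutatorElement_def x, inv_comm e, ← mul_inv_rev, ← pow_two, h.elem.2 _ (h3 x hx), inv_one]
  have h5 := cut (cent_le_norm _ h.aC) h.sq.2.1 h.zb_le (fun e => e1 (sw1 e)) (h3 c h.mem.2.2.2.1)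
    (h4 c h.mem.2.2.2.1 h.sq.2.2.2.1)
  refine .inr ⟨y, comm_eq_one hy (mem_sup_left hz), comm_eq_one hy hbA,
    commutatorElement_inv c y ▸ inv_mem h5, fun h6 => hyQ ?_⟩
  rw [← commutatorElement_inv, inv_mem_iff] at h6
  have h7 : ⁅d, y⁆ ∈ zpowers z := by
    refine cut (nz a h.mem.2.1) h.sq.2.1 (zp_le (h.cz h.mem.2.2.2.1)) (fun e => e1 (sw1 e))
      (cut (cent_le_norm _ h.swap.aC) h.sq.2.2.1 h.swap.zb_le (fun e => h.z1 (h.bd.symm.trans e))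
        (by rw [sup_right_comm]; exact h3 d h.mem.2.2.2.2) (h4 d h.mem.2.2.2.2 h.sq.2.2.2.2)) ?_
    have e2 : c ∈ 𝒞[d] := cent1_iff.2 (sw1 h.cd)
    have e3 : c ∈ 𝒞[y * d⁻¹ * y⁻¹] := by
      rw [← cj_cent1, mem_cj, ← mul_mem_cancel_left (inv_mem (cent1_iff.2 (sw1
        (commutatorElement_eq_one_iff_commute.2 (commutatorElement_eq_one_iff_commute.1
          h.cd).inv_right))))]
      have e4 : c⁻¹ * (y⁻¹ * c * y) = (y * c)⁻¹ * ⁅c, y⁆ * (y * c) := by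
        rw [commutatorElement_def]; group
      rw [e4, mul_assoc, mul_mem (mem_cent_zp (comm_eq_one hy (mem_sup_left hz)))
        (mem_cent_zp (h.cz h.mem.2.2.2.1)) _ h6, inv_mul_cancel_left]
      exact zp_le (h.cz (inv_mem h.mem.2.2.2.2)) h6
    refine sw1 (cent1_iff.1 (mem_cent1_comm.1 ?_))
    rw [commutatorElement_def, mul_assoc, mul_assoc, ← mul_assoc y]
    exact mul_mem (mem_cent1_comm.1 e2) (mem_cent1_comm.1 e3)
  have fix : ∀ p q y : S, y ∈ 𝒞(A) → ⁅p, y⁆ ∈ zpowers z → ⁅p, q⁆ = z →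
      ∃ x ∈ zpowers q, ⁅p, y * x⁆ = 1 := fun p q y hy e e' => by
    rcases (H42.mem_zpowers_of_mul_self h.sq.1).1 e with e | e
    · exact ⟨1, one_mem _, by rwa [mul_one]⟩
    · exact ⟨q, mem_zpowers q, by
        rw [comm_mul_right, e, e', conj_eq hy (mem_sup_left hz), h.sq.1]⟩
  obtain ⟨x, hx, h8⟩ := fix c a y hy h6 h.ac
  have hxA := zpowers_le.2 haA hx
  obtain ⟨x', hx', h9⟩ := fix d b (y * x) (mul_mem hy (hab hxA)) (by
    rwa [comm_mul_right, cent1_iff.1 (zp_le h.ad hx), mul_one, mul_inv_cancel, mul_one]) h.bd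
  have hxA' := zpowers_le.2 hbA hx'
  refine (mul_mem_cancel_right (hAQ hxA)).1 ((mul_mem_cancel_right (hAQ hxA')).1 (hC
    (i.cent h.mem.2.2.2.2 hd ?_ (sw1 h9))))
  rw [cent_sup]
  refine ⟨mul_mem (mul_mem hy (hab hxA)) (hab hxA'), mem_cent_zp (sw1 ?_)⟩
  rw [comm_mul_right, h8, cent1_iff.1 (zp_le h.bc hx'), mul_one, mul_inv_cancel, mul_one]

theorem main (hS : IsPGroup 2 S) (hC : 𝒞(Q) ≤ Q) : SectionalPRankLE 2 4 S := by
  refine (h.key hS hC).elim id fun ⟨y, h1, h2, h3, h4⟩ => (h.symm.key hS hC).elim id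
    fun ⟨y', h5, h6, h7, h8⟩ => False.elim ?_
  have hn : ∀ (y b c : S), ⁅y, z⁆ = 1 → ⁅y, b⁆ = 1 → ⁅y, c⁆ ∈ zpowers z ⊔ zpowers b →
      y ∈ 𝒩(zpowers z ⊔ zpowers b ⊔ zpowers c) := fun y b c h1 h2 h3 => mem_norm_of_cj_le (by
    rw [cj_sup, cj_eq_of_mem_cent (by rw [cent_sup]; exact ⟨mem_cent_zp h1, mem_cent_zp h2⟩),
      cj_zpowers, ← inv_mul_cancel_right (y * c * y⁻¹) c]
    exact sup_le le_sup_left (zpowers_le.2 (mul_mem (mem_sup_left h3)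
      (mem_sup_right (mem_zpowers c)))))
  obtain ⟨x, hx, hx', h9⟩ := fixpt hS (B := zpowers y ⊔ zpowers y') (M := zpowers z) (sup_le
    (zpowers_le.2 (hn y b c h1 h2 h3)) (zpowers_le.2 (sup_right_comm (zpowers z) _ _ ▸
      hn y' c b h5 h6 h7))) fun e => h.z1 (h.bd.symm.trans (cent1_iff.1 (zp_le (h.cz h.mem.2.2.2.2)
        (e (mem_sup_left (mem_sup_right (mem_zpowers b)))))))
  have hb := mem_cent_zp (h.cz h.mem.2.2.1)
  have hab : zpowers z ⊔ zpowers b ≤ 𝒞(zpowers z ⊔ zpowers b) :=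
    abelian_iff.1 (abelian_of_le h.elem.1 le_sup_left)
  rcases (H42.mem_sup_zpowers (cent_le_norm _ (le_cent1_iff.1 h.zb_le))
    (h.sq.2.2.2.1 ▸ one_mem _)).1 hx with e | e
  · have e1 := ((H42.mem_sup_zpowers (cent_le_norm _ hb) (h.sq.2.2.1 ▸ one_mem _)).1 e).resolve_left hx'
    have e2 := h9 y' (mem_sup_right (mem_zpowers _))
    rw [← inv_mul_cancel_right x b, comm_mul_right, cent1_iff.1 (zp_le h5 e1), one_mul,
      conj_eq (abelian_iff.1 (abelian_of_le h.symm.elem.1 le_sup_left) (mem_sup_left e1)) h7] at e2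
    exact h8 e2
  · have e2 := h9 y (mem_sup_left (mem_zpowers _))
    rw [← inv_mul_cancel_right x c, comm_mul_right, cent1_iff.1 (sup_le (zp_le h1) (zp_le h2) e),
      one_mul, conj_eq (hab e) h3] at e2
    exact h4 e2

end Hyp


/-- Let S be a finite 2-group and Q a subgroup of order 32 generated by two elementwise-commuting subgroups Q₁, Q₂ each isomorphic to the quaternion group of order 8 (so Q = Q₁ ∗ Q₂). If C_S(Q) ≤ Q, then every section of S has 2-rank at most 4. -/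
theorem result {S : Type*} [Group S] [Finite S] (hS : IsPGroup 2 S) (Q Q₁ Q₂ : Subgroup S) (e₁ : Q₁ ≃* QuaternionGroup 2) (e₂ : Q₂ ≃* QuaternionGroup 2) (hcomm : ∀ a ∈ Q₁, ∀ b ∈ Q₂, a * b = b * a) (hQ : Q₁ ⊔ Q₂ = Q) (hQ32 : Nat.card Q = 32) (hC : Subgroup.centralizer (Q : Set S) ≤ Q) : Cfsg.SectionalPRankLE 2 4 S := by
  open QuaternionGroup in
  have hc : ∀ {X : Subgroup S} (e : X ≃* QuaternionGroup 2), Nat.card X = 8 ∧
      ∀ t ∈ X, t ≠ 1 → t ∈ 𝒞(X) → t = e.symm (a 2) := fun {X} e => ⟨by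
    rw [Nat.card_congr e.toEquiv, Nat.card_eq_fintype_card, card], fun t ht h1 h2 => by
    have : ∀ x : QuaternionGroup 2, x ≠ 1 → (∀ y, y * x = x * y) → x = a 2 := by decide
    rw [← this (e ⟨t, ht⟩) (fun h => h1 (congrArg Subtype.val (e.map_eq_one_iff.1 h))) fun y => by
      obtain ⟨y, rfl⟩ := e.surjective y
      rw [← map_mul, ← map_mul]
      exact congrArg e (Subtype.ext (h2 y y.2)), e.symm_apply_apply]⟩
  have h12 : Q₂ ≤ 𝒞(Q₁) := fun b hb a ha => hcomm a ha b hb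
  have h1 := card_sup_mul_card_inf (.inr (norm_of_cent h12))
  rw [hQ, hQ32, (hc e₁).1, (hc e₂).1] at h1
  obtain ⟨z, hz, z1⟩ := ne_bot_iff_exists.1 fun e : Q₁ ⊓ Q₂ = ⊥ => by rw [e, card_bot] at h1; omega
  have h2 := (hc e₁).2 z hz.1 z1 (h12 hz.2)
  have h3 := (hc e₂).2 z hz.2 z1 (cent_symm h12 hz.1)
  let φ : QuaternionGroup 2 × QuaternionGroup 2 →* S := MonoidHom.noncommCoprod
    (Q₁.subtype.comp e₁.symm.toMonoidHom) (Q₂.subtype.comp e₂.symm.toMonoidHom)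
    fun x y => hcomm _ (e₁.symm x).2 _ (e₂.symm y).2
  have hm : ∀ x, φ x ∈ Q := fun x => hQ ▸ mul_mem (mem_sup_left (e₁.symm x.1).2)
    (mem_sup_right (e₂.symm x.2).2)
  have e1 : φ (.a 2, 1) = z := by rw [h2]; simp [φ]
  have e2 : φ (1, .a 2) = z := by rw [h3]; simp [φ]
  have z2 : z * z = 1 := by rw [← e1, ← map_mul, ← map_one φ]; congr 1
  have e3 : φ (.a 2, .a 2) = 1 := by
    rw [← z2]; nth_rw 1 [← e1]; rw [← e2, ← map_mul]; congr 1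
  have hs : ∀ x, x * x = (.a 2, .a 2) → φ x * φ x = 1 := fun x h => by rw [← map_mul, h, e3]
  have h0 : ∀ x y, ⁅x, y⁆ = (.a 2, .a 2) → ⁅φ x, φ y⁆ = 1 := fun x y h => by
    rw [← map_commutatorElement, h, e3]
  refine Hyp.main (z := z) (a := φ (.a 1, .a 1)) (b := φ (.xa 0, .xa 0)) (c := φ (.a 1, .xa 1))
    (d := φ (.xa 1, .xa 0)) ⟨hQ32, ⟨e1 ▸ hm _, hm _, hm _, hm _, hm _⟩,
      ⟨z2, hs _ (by decide), hs _ (by decide), hs _ (by decide), hs _ (by decide)⟩, z1, ?_, ?_, ?_,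
      h0 _ _ (by decide), h0 _ _ (by decide), h0 _ _ (by decide), h0 _ _ (by decide)⟩ hS hC
  · rw [← hQ, cent_sup]; exact ⟨h12 hz.2, cent_symm h12 hz.1⟩
  · rw [← map_commutatorElement, ← e2]; congr 1
  · rw [← map_commutatorElement, ← e1]; congr 1

end Cfsg.Agent.S1233
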