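import Cfsg.Statements.S3315
import Cfsg.Agent.H42.UAut

set_option autoImplicit false
open Cfsg

namespace Cfsg.Agent.S3315

open Subgroup Cfsg.Agent.H42

/-- Let S be a Sylow 2-subgroup of SU₃(2ⁿ), n ≥ 2 (realised over the field with 4ⁿ elements). If a finite 2-group R contains a subgroup S' of index 2 isomorphic to S, then the centre of S' is contained in the centre of R. -/
theorem result {R : Type*} [Group R] [Finite R]
    (hR : IsPGroup 2 R) (n : ℕ) (hn : 2 ≤ n) {F : Type*} [Field F] [Fintype F] (hF : Fintype.card F = 4 ^ n)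
    (P : Sylow 2 ↥(Cfsg.SU 3 F (2 ^ n))) (S' : Subgroup R) (hS : Nonempty (↥S' ≃* ↥(P : Subgroup ↥(Cfsg.SU 3 F (2 ^ n)))))
    (hidx : S'.index = 2) :
    (Subgroup.center ↥S').map S'.subtype ≤ Subgroup.center R := by
  have : NeZero n := ⟨by omega⟩
  have : Fact (Fintype.card F = (2 ^ n) ^ 2) := ⟨by rw [hF, ← pow_mul, mul_comm, pow_mul]; rfl⟩
  have := H20.charP_two_of_card_pow (card_two_mul (F := F) (n := n) rfl)
  obtain ⟨e₁⟩ := hS
  obtain ⟨e₂⟩ := sylow_SU_equiv rfl P
  let e := e₂.trans e₁.symm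
  have := normal_of_index_eq_two hidx
  rintro _ ⟨z, hz, rfl⟩
  refine mem_center_iff.mpr fun r => mul_inv_eq_iff_eq_mul.mp ?_
  obtain ⟨a, rfl⟩ := e.surjective z
  have h := aut_fix_center rfl (φ := MulAut.congr e.symm (MulAut.conjNormal r)) (fun b => by
    obtain ⟨u, hu⟩ := e.surjective ⟨r * r, mul_self_mem_of_index_two hidx r⟩
    have : MulAut.congr e.symm (MulAut.conjNormal r) (MulAut.congr e.symm (MulAut.conjNormal r) b) =
        u * b * u⁻¹ := e.injective (Subtype.ext (by simp [hu, mul_assoc]))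
    rw [this]
    simp) (a := a) (UM.mem_center_iff.mp (mem_center_iff.mpr fun b => e.injective (by
      rw [map_mul, map_mul, mem_center_iff.mp hz])))
  simpa using congrArg (fun b => (e b : R)) h

end Cfsg.Agent.S3315
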