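import Cfsg.Statements.S4152
import Cfsg.Agent.H83.ClassCount

set_option autoImplicit false
open Cfsg

namespace Cfsg.Agent.S4152

open Cfsg.Agent.H83 Subgroup

theorem pred_iff {G : Type*} [Group G] (π : Set ℕ) (x : G) :
    (∀ q : ℕ, q.Prime → (∃ g : G, ConjClasses.mk g = ConjClasses.mk x ∧ q ∣ orderOf g) → q ∈ π) ↔
      ∀ q : ℕ, q.Prime → q ∣ orderOf x → q ∈ π := by
  refine forall_congr' fun q => forall_congr' fun _ => ⟨fun h hq => h ⟨x, rfl, hq⟩, ?_⟩
  rintro h ⟨g, hg, hq⟩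
  obtain ⟨c, rfl⟩ := isConj_iff.mp (ConjClasses.mk_eq_mk_iff_isConj.mp hg)
  apply h
  rwa [← MulAut.conj_apply, MulEquiv.orderOf_eq]

theorem parts_unique {G : Type*} [Group G] [Finite G] {π : ℕ → Prop} {u v u' v' : G}
    (hc : Commute u v) (hc' : Commute u' v') (h : u * v = u' * v')
    (hu : ∀ r : ℕ, r.Prime → r ∣ orderOf u → π r) (hu' : ∀ r : ℕ, r.Prime → r ∣ orderOf u' → π r)
    (hv : ∀ r : ℕ, r.Prime → r ∣ orderOf v → ¬ π r)
    (hv' : ∀ r : ℕ, r.Prime → r ∣ orderOf v' → ¬ π r) : u = u' ∧ v = v' := by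
  have h1 := mem_zpowers_mul_left hc (H82.coprime_of_pi hu hv)
  have h2 := mem_zpowers_mul_right hc (H82.coprime_of_pi hu hv)
  have h3 := mem_zpowers_mul_left hc' (H82.coprime_of_pi hu' hv')
  have h4 := mem_zpowers_mul_right hc' (H82.coprime_of_pi hu' hv')
  rw [← h] at h3 h4
  have c1 : Commute u'⁻¹ u := (H82.commute_of_mem_zpowers h3 h1).inv_left
  have c2 : Commute v' v⁻¹ := (H82.commute_of_mem_zpowers h4 h2).inv_right
  have e : u'⁻¹ * u = v' * v⁻¹ := by
    calc u'⁻¹ * u = u'⁻¹ * (u * v) * v⁻¹ := by group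
      _ = _ := by rw [h]; group
  have d1 := c1.orderOf_mul_dvd_mul_orderOf
  have d2 := c2.orderOf_mul_dvd_mul_orderOf
  rw [orderOf_inv] at d1 d2
  have : orderOf (u'⁻¹ * u) = 1 := by
    by_contra hne
    obtain ⟨r, hr, hd⟩ := Nat.exists_prime_and_dvd hne
    have p1 : π r := by
      rcases (Nat.Prime.dvd_mul hr).mp (hd.trans d1) with h | h
      · exact hu' r hr h
      · exact hu r hr h
    rw [e] at hd
    rcases (Nat.Prime.dvd_mul hr).mp (hd.trans d2) with h | h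
    · exact hv' r hr h p1
    · exact hv r hr h p1
  rw [orderOf_eq_one_iff] at this
  have e1 : u = u' := (inv_mul_eq_one.mp this).symm
  subst e1
  exact ⟨rfl, mul_left_cancel h⟩

open Classical in
theorem fiber_le {G : Type*} [Group G] [Fintype G] (N : Subgroup G) [N.Normal] (π : Set ℕ)
    (a : G ⧸ N) :
    ∑ x ∈ Finset.univ.filter (fun x : G => (∀ q : ℕ, q.Prime → q ∣ orderOf x → q ∈ π) ∧
        (x : G ⧸ N) = a), Nat.card (N ⊓ centralizer ({x} : Set G) : Subgroup G) ≤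
      ∑ n ∈ Finset.univ.filter (fun n : N => ∀ q : ℕ, q.Prime → q ∣ orderOf n → q ∈ π),
        Nat.card (centralizer ({n} : Set N)) := by
  rw [Finset.sum_subtype (p := fun x : G => (∀ q : ℕ, q.Prime → q ∣ orderOf x → q ∈ π) ∧
        (x : G ⧸ N) = a) _ (by simp), Finset.sum_subtype
        (p := fun n : N => ∀ q : ℕ, q.Prime → q ∣ orderOf n → q ∈ π) _ (by simp),
    ← Nat.card_sigma, ← Nat.card_sigma]
  choose u v hu hv huv hu' hv' using fun n : N => H82.exists_pi_parts (· ∈ π) n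
  -- a chosen element of the coset centralizing a given element
  have hex : ∀ m : N, ∃ y : G, (∃ z : G, (z : G ⧸ N) = a ∧ z * m = m * z) →
      (y : G ⧸ N) = a ∧ y * m = m * y := by
    intro m
    by_cases h : ∃ z : G, (z : G ⧸ N) = a ∧ z * m = m * z
    · exact ⟨h.choose, fun _ => h.choose_spec⟩
    · exact ⟨1, fun h' => absurd h' h⟩
  choose y hy using hex
  have hcomm : ∀ (x : G) (n : N), (n : G) ∈ centralizer ({x} : Set G) → ∀ w ∈ zpowers n,
      Commute x (w : G) := by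
    rintro x n hn _ ⟨k, rfl⟩
    exact Commute.zpow_right (mem_cent.mp hn).symm k
  have huvc : ∀ n : N, Commute (u n : G) (v n : G) := fun n =>
    congrArg Subtype.val (H82.commute_of_mem_zpowers (hu n) (hv n)).eq
  have h1 : ∀ (x : G) (n : N), (x : G ⧸ N) = a → (n : G) ∈ centralizer ({x} : Set G) →
      ((x * v n : G) : G ⧸ N) = a ∧ (x * v n) * u n = u n * (x * v n) := by
    intro x n hx hn
    refine ⟨by rw [QuotientGroup.mk_mul_of_mem x (v n).2, hx], ?_⟩
    exact ((hcomm x n hn _ (hu n)).mul_left (huvc n).symm).eq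
  refine Nat.card_le_card_of_injective (fun s => ⟨⟨u ⟨s.2.1, s.2.2.1⟩, hu' _⟩,
    ⟨⟨(y (u ⟨s.2.1, s.2.2.1⟩))⁻¹ * (s.1.1 * v ⟨s.2.1, s.2.2.1⟩), ?_⟩, ?_⟩⟩) ?_
  · have h2 := h1 s.1.1 ⟨s.2.1, s.2.2.1⟩ s.1.2.2 s.2.2.2
    exact QuotientGroup.eq.mp ((hy _ ⟨_, h2⟩).1.trans h2.1.symm)
  · have h2 := h1 s.1.1 ⟨s.2.1, s.2.2.1⟩ s.1.2.2 s.2.2.2
    rw [mem_cent]
    exact Subtype.ext (Commute.mul_left (Commute.inv_left (hy _ ⟨_, h2⟩).2) h2.2).eq
  · rintro ⟨⟨x, hx, hxa⟩, ⟨n, hn, hnx⟩⟩ ⟨⟨x', hx', hxa'⟩, ⟨n', hn', hnx'⟩⟩ h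
    have e1 : u ⟨n, hn⟩ = u ⟨n', hn'⟩ := congrArg (fun s => s.1.1) h
    have e2 : (y (u ⟨n, hn⟩))⁻¹ * (x * v ⟨n, hn⟩) = (y (u ⟨n', hn'⟩))⁻¹ * (x' * v ⟨n', hn'⟩) :=
      congrArg (fun s => (s.2.1 : G)) h
    rw [e1] at e2
    obtain ⟨e3, e4⟩ := parts_unique (π := (· ∈ π)) (hcomm x ⟨n, hn⟩ hnx _ (hv _))
      (hcomm x' ⟨n', hn'⟩ hnx' _ (hv _)) (mul_left_cancel e2) hx hx'
      (by simpa using hv' _) (by simpa using hv' _)
    subst e3
    have e5 : (⟨n, hn⟩ : N) = ⟨n', hn'⟩ := by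
      rw [huv ⟨n, hn⟩, huv ⟨n', hn'⟩, e1, Subtype.ext e4]
    obtain rfl : n = n' := congrArg Subtype.val e5
    rfl

/-- Let G be a finite group, N a normal subgroup and π a set of primes. Then the number of conjugacy classes of π-elements of G (elements whose order is divisible only by primes in π) is at most the number of conjugacy classes of π-elements of N (under conjugation by N) times the number of conjugacy classes of π-elements of G/N. -/
theorem result {G : Type*} [Group G] [Finite G] (N : Subgroup G) [N.Normal] (π : Set ℕ) :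
    Nat.card {C : ConjClasses G // ∀ q : ℕ, q.Prime → (∃ g : G, ConjClasses.mk g = C ∧ q ∣ orderOf g) → q ∈ π} ≤ Nat.card {C : ConjClasses N // ∀ q : ℕ, q.Prime → (∃ g : N, ConjClasses.mk g = C ∧ q ∣ orderOf g) → q ∈ π} * Nat.card {C : ConjClasses (G ⧸ N) // ∀ q : ℕ, q.Prime → (∃ g : (G ⧸ N), ConjClasses.mk g = C ∧ q ∣ orderOf g) → q ∈ π} := by
  classical
  have := Fintype.ofFinite G
  apply Nat.le_of_mul_le_mul_right _ (Nat.card_pos (α := G))
  rw [card_classes_mul, card_eq_card_quotient_mul_card_subgroup N,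
    mul_comm (Nat.card (G ⧸ N)), mul_mul_mul_comm, card_classes_mul, card_classes_mul]
  simp only [pred_iff]
  rw [← Finset.sum_fiberwise_of_maps_to (g := fun x : G => (x : G ⧸ N))
    (t := Finset.univ.filter (fun a : G ⧸ N => ∀ q : ℕ, q.Prime → q ∣ orderOf a → q ∈ π))]
  · rw [Finset.mul_sum]
    refine Finset.sum_le_sum fun a _ => ?_
    refine le_trans ?_ (Nat.mul_le_mul_right _ (by convert fiber_le N π a))
    rw [Finset.filter_filter, Finset.sum_mul]
    refine Finset.sum_le_sum fun x hx => ?_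
    simp only [Finset.mem_filter] at hx
    rw [mul_comm, ← hx.2.2]
    exact card_cent_le_quot N x
  · intro x hx
    simp only [Finset.mem_filter, Finset.mem_univ, true_and] at hx ⊢
    exact fun q hq hd => hx q hq (hd.trans (orderOf_map_dvd (QuotientGroup.mk' N) x))

end Cfsg.Agent.S4152
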