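import Cfsg.Statements.S0899
import Cfsg.Agent.H31.Ito

set_option autoImplicit false
open Cfsg

namespace Cfsg.Agent.S0899

theorem result {G : Type*} [Group G] [Finite G] (n : ℕ) (ρ : Representation ℂ G (Fin n → ℂ)) (hρ : Function.Injective ρ) (p : ℕ) [Fact p.Prime] (h : (n + 1) ^ 2 ≤ p ∨ (n + 1 < p ∧ ∀ K : Subgroup G, ¬ p ^ 2 ∣ Nat.card K → ∀ Q : Sylow p K, (Q : Subgroup K).Normal)) (P : Sylow p G) : (P : Subgroup G).Normal := by
  have hp : p.Prime := Fact.out
  have hL : H31.Lin n G := H31.lin_of_faithful (H5.isCharacter_character ρ) (fun g hg => hρ (by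
    rw [Representation.char_one] at hg
    rw [(H5.character_eq_finrank_iff ρ g).mp hg, map_one]
    rfl)) (d := n) (by simp [Representation.char_one]) le_rfl
  rcases Nat.eq_zero_or_pos n with rfl | hn
  · haveI : Subsingleton G := ⟨fun a b => hρ (Subsingleton.elim _ _)⟩
    exact ⟨fun a ha g => by rwa [Subsingleton.elim (g * a * g⁻¹) a]⟩
  refine H31.feit_thompson_sylow_aux (h.elim (fun h => by nlinarith) And.left) _ G rfl hL
    (h.imp id fun h K hK x hx y hy => ?_) P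
  rintro ⟨a, ha⟩ ⟨b, hb⟩
  obtain ⟨Q⟩ : Nonempty (Sylow p K) := inferInstance
  have h1 := H81.mem_sylow_of_normal Q (h.2 K hK Q) (g := ⟨x, hx⟩) (Subtype.ext ha)
  have h2 := H81.mem_sylow_of_normal Q (h.2 K hK Q) (g := ⟨y, hy⟩) (Subtype.ext hb)
  exact (Q.isPGroup' ⟨_, Q.mul_mem h1 h2⟩).imp fun c hc =>
    congrArg Subtype.val (congrArg Subtype.val hc)

end Cfsg.Agent.S0899
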