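import Cfsg.Statements.S5735
import Cfsg.Agent.H50.BinU3
import Cfsg.Agent.H50.BinR
import Cfsg.Agent.H24.MaxFix
import Cfsg.Agent.GOLD.BenderFacts
import Cfsg.Agent.H51.GoldD

set_option autoImplicit false
open Cfsg

namespace Cfsg.Agent.S5735

open Subgroup Cfsg.Agent.H49 Cfsg.Agent.H50

open MulAction Cfsg.Agent.SUZ Cfsg.Agent.H50.Bin

theorem sq_u3 {G Ω X : Type*} [Group G] [Finite G] [Finite X] [MulAction G X] [MulAction G Ω]
    {a : Ω} {t : G} {Q : Subgroup G} (h : Hyp G Ω a t Q) {F : Type} [Field F] [Fintype F] {n : ℕ}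
    (hn2 : 2 ≤ n) (hF : Fintype.card F = (2 ^ n) ^ 2) (e : G ≃* PSU 3 F (2 ^ n))
    (hf : FL G X) (hn : NT G X) {α : X} (h1 : A1 (G := G) a α) {g : G} (hg : g • α = α) :
    g * g = 1 := by
  have := Fact.mk hF
  have : Fact (Nat.Prime 2) := ⟨Nat.prime_two⟩
  have : CharP F 2 := charP_of_card_eq_prime_pow (hF.trans (pow_mul 2 n 2).symm)
  have hq : 2 ^ n ≠ 2 := by
    have : 2 ^ 2 ≤ 2 ^ n := Nat.pow_le_pow_right (by norm_num) hn2
    omega
  obtain ⟨π₀, hs₀, hk₀⟩ := U3J.exists_proj (F := F) (q := 2 ^ n)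
  obtain ⟨π, hs, hk⟩ : ∃ π : U3J.SJ F (2 ^ n) →* G, Function.Surjective π ∧
      ∀ g, π g = 1 ↔ U3J.IsSc g :=
    ⟨e.symm.toMonoidHom.comp π₀, e.symm.surjective.comp hs₀, fun g => by
      rw [← hk₀]; exact e.symm.map_eq_one_iff⟩
  have ho := one_of_hyp h.setup
  have hinv : ∀ u : U3J.SJ F (2 ^ n), u * u = 1 → u ≠ 1 → π u ≠ 1 := fun u hu hu1 e => hu1 (by
    have := ((hk u).1 e).pow_three
    rwa [pow_three, hu, mul_one] at this)
  obtain ⟨z, hz⟩ : ∃ z : U3J.SJ F (2 ^ n), z = U3J.uu (U3J.zz 1 (map_one _)) := ⟨_, rfl⟩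
  have z2 : z * z = 1 := hz ▸ U3J.zz_sq _ _
  have z1 : π z ≠ 1 := hinv z z2 (hz ▸ U3J.zz_ne_one _ one_ne_zero)
  have z3 : π z * π z = 1 := by rw [← map_mul, z2, map_one]
  letI : MulAction (U3J.SJ F (2 ^ n)) X := MulAction.compHom X π
  have hsm : ∀ (x : U3J.SJ F (2 ^ n)) (β : X), x • β = π x • β := fun _ _ => rfl
  have hU : U3J.HU F (2 ^ n) X := by
    refine ⟨fun x y => ?_, fun x hx β => ?_, fun d β d1 d2 d3 => ?_, fun β => ?_⟩
    · obtain ⟨g, hg⟩ := hf (π x) (π y)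
      obtain ⟨g, rfl⟩ := hs g
      exact ⟨g, hg⟩
    · rw [hsm, (hk x).2 hx, one_smul]
    · refine inv_fix h hf hn (h1.ne h) (s := π U3J.tt) (d := π d)
        (hinv _ U3J.tt_mul_tt U3J.tt_ne_one) (by rw [← map_mul, U3J.tt_mul_tt, map_one])
        (by rw [← map_mul, ← map_mul, d1, map_inv]) (fun e => d2 ((hk _).1 (by rwa [map_mul]))) d3
    · obtain ⟨u, hu, huβ⟩ := hn β
      obtain ⟨x, rfl⟩ := ho _ u z1 z3 (by rintro rfl; exact huβ (one_smul _ _)) hu
      obtain ⟨x, rfl⟩ := hs x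
      exact ⟨x, by rwa [hsm, ← hz, map_mul, map_mul, map_inv]⟩
  obtain ⟨s, r, hd⟩ := h.exists_dist
  obtain ⟨x, hx⟩ := ho s _ hd.s1 hd.s2 z1 z3
  have k1 : π z • x • α = x • α := hx ▸ conj_fix (h1 s (h.s_mem_Q0 hd))
  have k2 : U3J.ZF F (2 ^ n) (x • α) := fun b hb => hf.comm ho z1 z3
    (by rw [← map_mul, ← map_mul, H42.UM.sq_eq_one_iff.2 hb, map_one, map_one])
    (by rw [hz, ← map_mul, ← map_mul, ← map_mul, ← map_mul, U3J.x_zero_comm hb]) k1
  obtain ⟨y, hy⟩ := hs (x * g * x⁻¹)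
  have k3 := (hk _).2 (hU.isSc_sq hq k2 (g := y) (by rw [hsm, hy]; exact conj_fix hg))
  rw [map_mul, hy] at k3
  calc g * g = x⁻¹ * (x * g * x⁻¹ * (x * g * x⁻¹)) * x := by group
    _ = 1 := by rw [k3]; group

theorem exists_se {G X : Type*} [Group G] [Finite G] [Finite X] [MulAction G X] (hf : FL G X)
    (ho : Bin.One G) {u : G} (hu1 : u ≠ 1) (hu : u * u = 1) {α β g} (hα : u • α = α)
    (hβ : u • β ≠ β) (hg : (g : G) • α = (β : X)) : ∃ M : Subgroup G, IsStronglyEmbedded M := by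
  let M : Subgroup G :=
    { carrier := {g | ∀ γ : X, u • g • γ = g • γ ↔ u • γ = γ}
      mul_mem' := fun {x y} hx hy γ => by rw [mul_smul, hx, hy]
      one_mem' := fun γ => by rw [one_smul]
      inv_mem' := fun {x} hx γ => by rw [← hx, smul_inv_smul] }
  have hM : ∀ {g : G}, g ∈ M ↔ ∀ γ : X, u • g • γ = g • γ ↔ u • γ = γ := Iff.rfl
  have huM : u ∈ M := fun γ => by
    rw [← mul_smul, hu, one_smul, eq_comm]
  have key : ∀ v ∈ M, v ≠ 1 → v * v = 1 → ∀ γ : X, v • γ = γ ↔ u • γ = γ := by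
    intro v hv hv1 hv2 γ
    rcases H24.dihedral_cases hu hv2 with ⟨k, hk⟩ | ⟨k, k1, k2, k3, k4⟩
    · rw [← hM.1 (pow_mem (mul_mem huM hv) k) γ]
      generalize (u * v) ^ k = x at hk
      rw [← hk, mul_smul, mul_smul, inv_smul_smul, smul_left_cancel_iff]
    · exact ⟨fun h => hf.comm ho k1 k2 hu k3 (hf.comm ho hv1 hv2 k2 k4.symm h),
        fun h => hf.comm ho k1 k2 hv2 k4 (hf.comm ho hu1 hu k2 k3.symm h)⟩
  refine ⟨M, fun e => hβ ?_, ?_, fun x hx => ?_⟩
  · rw [← hg]; exact (hM.1 (e ▸ mem_top g) α).2 hα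
  · rw [even_iff_two_dvd, ← H43.orderOf_two hu hu1]
    exact orderOf_dvd_natCard _ huM
  · rw [← Nat.not_even_iff_odd]
    intro he
    obtain ⟨v, ⟨hv, w, hw, rfl⟩, hv2⟩ := H43.exists_inv_of_even he
    have h2 : x * w * x⁻¹ * (x * w * x⁻¹) = 1 := H43.mul_self_of_orderOf hv2
    have h1 : x * w * x⁻¹ ≠ 1 := fun e => by
      rw [show (MulAut.conj x).toMonoidHom w = 1 from e] at hv2; simp at hv2
    have h3 : w * w = 1 := by
      calc w * w = x⁻¹ * (x * w * x⁻¹ * (x * w * x⁻¹)) * x := by group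
        _ = 1 := by rw [h2]; group
    refine hx fun γ => ?_
    rw [← key _ hv h1 h2, ← key w hw (by rintro rfl; exact h1 (by group)) h3]
    show (x * w * x⁻¹) • x • γ = x • γ ↔ _
    rw [mul_smul, mul_smul, inv_smul_smul, smul_left_cancel_iff]

theorem sl2_sq {F : Type} [Field F] [CharP F 2] {s x : Matrix.SpecialLinearGroup (Fin 2) F}
    (hs : s * s = 1) (hs1 : s ≠ 1) (h : x * s = s * x) : x * x = 1 := by
  have e1 := fun i j => congrArg (fun g : Matrix.SpecialLinearGroup (Fin 2) F => g i j) hs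
  have e2 := fun i j => congrArg (fun g : Matrix.SpecialLinearGroup (Fin 2) F => g i j) h
  have a00 := e1 0 0
  have a01 := e1 0 1
  have a10 := e1 1 0
  have a11 := e1 1 1
  have b00 := e2 0 0
  have b01 := e2 0 1
  have b10 := e2 1 0
  have d1 := s.det_coe
  have d2 := x.det_coe
  rw [Matrix.det_fin_two] at d1 d2
  simp [Matrix.mul_apply, Fin.sum_univ_two] at a00 a01 a10 a11 b00 b01 b10
  have ht : x 0 0 = x 1 1 := by
    by_contra hne
    apply hs1
    ext i j
    fin_cases i <;> fin_cases j <;> simp <;> grind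
  ext i j
  fin_cases i <;> fin_cases j <;> simp [Matrix.mul_apply, Fin.sum_univ_two] <;> grind

/-- Let G be a finite simple group with exactly one conjugacy class of involutions, and let H be a proper subgroup of even order. Then the action of G on the cosets of H is binary if and only if one of the following holds: G ≅ SL₂(2^a) with a ≥ 2 and H is a Sylow 2-subgroup; G is a Suzuki group Sz(2^(2a+1)) with a ≥ 1 and H is the centre of a Sylow 2-subgroup; G ≅ PSU₃(2^a) with a ≥ 2 and H is the centre of a Sylow 2-subgroup. Here an action is binary (relational complexity 2) when, for every n ≥ 2 and all n-tuples I, J of points, if for every pair of positions some group element carries the corresponding pair of entries of I to those of J, then a single group element carries I to J. -/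
theorem result {G : Type*} [Group G] [Finite G] [IsSimpleGroup G] (hinv : ∃ s : G, orderOf s = 2)
    (hone : ∀ s t : G, orderOf s = 2 → orderOf t = 2 → IsConj s t)
    (H : Subgroup G) (hH : H ≠ ⊤) (heven : Even (Nat.card H)) :
    (∀ (n : ℕ) (I J : Fin n → G ⧸ H), 2 ≤ n →
        (∀ i j : Fin n, i ≠ j → ∃ g : G, g • I i = J i ∧ g • I j = J j) → ∃ g : G, ∀ i, g • I i = J i) ↔
      (((∃ (F : Type) (_ : Field F) (_ : Fintype F) (a : ℕ), 2 ≤ a ∧ Fintype.card F = 2 ^ a ∧ Nonempty (G ≃* Matrix.SpecialLinearGroup (Fin 2) F)) ∧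
          ∃ P : Sylow 2 G, H = P) ∨
        (Cfsg.Lie.IsoSuzuki G ∧ ∃ P : Sylow 2 G, H = (Subgroup.center (P : Subgroup G)).map (P : Subgroup G).subtype) ∨
        ((∃ (F : Type) (_ : Field F) (_ : Fintype F) (a : ℕ), 2 ≤ a ∧ Fintype.card F = (2 ^ a) ^ 2 ∧ Nonempty (G ≃* Cfsg.PSU 3 F (2 ^ a))) ∧
          ∃ P : Sylow 2 G, H = (Subgroup.center (P : Subgroup G)).map (P : Subgroup G).subtype)) := by
  have : Fact (Nat.Prime 2) := ⟨Nat.prime_two⟩
  have hHn : ¬ H.Normal := fun hn => by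
    rcases hn.eq_bot_or_eq_top with e | e
    · rw [e, card_bot] at heven; exact absurd heven (by decide)
    · exact hH e
  have hG : ¬ IsMulCommutative G := fun _ => hHn ⟨fun n hn g => by rwa [mul_comm' g, mul_inv_cancel_right]⟩
  have hconv : ∀ P : Sylow 2 G, H51.ClosedTwo G →
      H = (center (P : Subgroup G)).map (P : Subgroup G).subtype → Bin G (G ⧸ H) := by
    intro P hc e
    have hP : (P : Subgroup G) ≠ ⊥ := fun e' => hHn (by
      rw [e, (eq_bot_iff.2 ((map_subtype_le _).trans e'.le) :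
        (center (P : Subgroup G)).map (P : Subgroup G).subtype = ⊥)]
      infer_instance)
    have hN : normalizer ((P : Subgroup G) : Set G) ≠ ⊤ := fun e' => hHn (by
      have := normalizer_eq_top_iff.1 e'
      rw [e]
      exact ConjAct.normal_of_characteristic_of_normal)
    obtain ⟨a, t, h, -, -⟩ := GOLD.exists_setup_of_se hG (hc.stronglyEmbedded P hP hN le_rfl) P
    have := bin_Q0 h 1
    rw [map_one] at this
    rw [e, center_Q h]
    exact (map_id (Q0 G a)) ▸ this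
  refine ⟨fun hb => ?_, ?_⟩
  · have hf : FL G (G ⧸ H) := Bin.fl hb
    have ho : Bin.One G := fun u v hu1 hu hv1 hv =>
      isConj_iff.1 (hone u v (H43.orderOf_two hu hu1) (H43.orderOf_two hv hv1))
    obtain ⟨u, huH, hu⟩ := H43.exists_inv_of_even heven
    have hu2 := H43.mul_self_of_orderOf hu
    have hu1 : u ≠ 1 := by rintro rfl; simp at hu
    have hn : NT G (G ⧸ H) := fun α => by
      by_contra hc
      push Not at hc
      have h1 : u ∈ H.normalCore := mem_normalCore_of_fix fun c => by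
        obtain ⟨g, rfl⟩ := exists_smul_eq G α c
        exact fix_of_conj_fix (hc _ (H41.conj_invol' hu2))
      rcases (inferInstance : H.normalCore.Normal).eq_bot_or_eq_top with e | e
      · exact hu1 (mem_bot.1 (e ▸ h1))
      · exact hH (eq_top_iff.2 (e ▸ normalCore_le H))
    have hα : u • ((1 : G) : G ⧸ H) = ((1 : G) : G ⧸ H) := H43.smul_one_eq_iff.2 huH
    obtain ⟨M, hM⟩ : ∃ M : Subgroup G, IsStronglyEmbedded M := by
      obtain ⟨v, hv, hv'⟩ := hn ((1 : G) : G ⧸ H)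
      obtain ⟨g, rfl⟩ := ho u v hu1 hu2 (by rintro rfl; exact hv' (one_smul _ _)) hv
      obtain ⟨x, hx⟩ := exists_smul_eq G ((1 : G) : G ⧸ H) (g⁻¹ • ((1 : G) : G ⧸ H))
      refine exists_se hf ho hu1 hu2 hα (fun e => hv' ?_) hx
      have := conj_fix (g := g) e
      rwa [smul_inv_smul] at this
    obtain ⟨P, hP⟩ := (IsPGroup.of_card (p := 2) (n := 1) (G := zpowers u)
      (by rw [Nat.card_zpowers, hu]; rfl)).exists_le_sylow
    obtain ⟨a, t, h, hc, -⟩ := GOLD.exists_setup_of_se hG hM P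
    have hu0 : u ∈ Q0 G a := h.mem_Q0.2 ⟨hP (mem_zpowers u), hu2⟩
    have h1 : A1 (G := G) a ((1 : G) : G ⧸ H) := fun x hx =>
      hf.comm ho hu1 hu2 (h.mem_Q0.1 hx).2 (h.Q0_central hu0 (h.Q0_le hx)) hα
    have key : (∀ g : G, g • ((1 : G) : G ⧸ H) = ((1 : G) : G ⧸ H) → g * g = 1) → H = Q0 G a :=
      fun h2 => (stab_one_coset H).symm.trans (stab_eq h h1 h2)
    have e : G ≃* normalClosure ((P : Subgroup G) : Set G) :=
      topEquiv.symm.trans (MulEquiv.subgroupCongr (normalClosure_Q_eq_top h.setup).symm)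
    rcases hc.cases with ⟨hA, F, _, _, n, hn2, -, hF, ⟨f⟩⟩ | ⟨hB, F, _, _, n, hn2, hF, ⟨f⟩⟩ |
      ⟨-, F, _, _, n, hn2, -, hF, ⟨f⟩⟩
    · obtain ⟨f'⟩ := psl_equiv_sl_two (F := F) (by
        rw [hF]; exact Nat.even_pow.2 ⟨even_two, by omega⟩)
      refine Or.inl ⟨⟨F, _, _, n, hn2, hF, ⟨(e.trans f).trans f'⟩⟩, P, ?_⟩
      rw [key fun g hg => sq_of_fix h (Or.inl hA) hf hn h1 hg]
      exact le_antisymm h.Q0_le fun x hx => h.mem_Q0.2 ⟨hx, hA x hx⟩
    · refine Or.inr (Or.inl ⟨⟨F, _, _, n, hn2, hF, ⟨e.trans f⟩⟩, P, ?_⟩)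
      rw [center_Q h, key fun g hg => sq_of_fix h (Or.inr hB) hf hn h1 hg]
    · refine Or.inr (Or.inr ⟨⟨F, _, _, n, hn2, hF, ⟨e.trans f⟩⟩, P, ?_⟩)
      rw [center_Q h, key fun g hg => sq_u3 h hn2 hF (e.trans f) hf hn h1 hg]
  · rintro (⟨⟨F, _, _, n, -, hF, ⟨e⟩⟩, P, rfl⟩ | ⟨h, P, e⟩ | ⟨⟨F, _, _, n, -, hF, ⟨e⟩⟩, P, e'⟩)
    · have : CharP F 2 := charP_of_card_eq_prime_pow hF
      have hab := H51.abTwo_sl2.of_injective e.toMonoidHom e.injective _ P.isPGroup'
      have hsq : ∀ s x : G, s * s = 1 → s ≠ 1 → x * s = s * x → x * x = 1 := fun s x h1 h2 h3 =>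
        e.injective (by
          rw [map_mul, map_one]
          exact sl2_sq (s := e s) (by rw [← map_mul, h1, map_one]) (by simpa using h2)
            (by rw [← map_mul, h3, map_mul]))
      have h2 : ∀ z ∈ (P : Subgroup G), z * z = 1 := fun z hz => by
        obtain ⟨u, huH, hu⟩ := H43.exists_inv_of_even heven
        exact hsq u z (H43.mul_self_of_orderOf hu) (by rintro rfl; simp at hu) (hab z hz u huH)
      refine bin_of_star h2 fun z hz hz1 y _ hy => ?_
      have := P.is_maximal' (Q := centralizer {z}) (fun x => ⟨1, Subtype.ext (by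
        simpa [pow_two] using hsq z x (h2 z hz) hz1 (mem_centralizer_singleton_iff.1 x.2))⟩)
        fun x hx => mem_centralizer_singleton_iff.2 (hab x hx z hz)
      exact this ▸ mem_centralizer_singleton_iff.2 hy
    · exact hconv P (H51.closedTwo_of_isoSuzuki h) e
    · exact hconv P ((H51.closedTwo_psu3 (by
        rw [hF, ← pow_mul, mul_comm, pow_mul]; rfl)).of_injective e.toMonoidHom e.injective) e'

end Cfsg.Agent.S5735
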