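import Cfsg.Statements.S3041
import Cfsg.Agent.FLAV.A

set_option autoImplicit false
open Cfsg

namespace Cfsg.Agent.S3041

open Subgroup Cfsg.Agent.H49


/-- A fixed-point result of Shult type. Let X be a finite group with a normal subgroup G and a subgroup R of prime order r not dividing |G| such that X = GR, and let ρ be a faithful irreducible representation of X on a nonzero finite-dimensional vector space V over a field of prime characteristic in which R has no nonzero fixed vector. Then either [G, R] = 1, or r has the form 2^m + 1 and [G, R] is a non-abelian special 2-group. -/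
theorem result {X : Type*} [Group X] [Finite X] (G R : Subgroup X) [G.Normal] (hX : G ⊔ R = ⊤) (r : ℕ) (hr : r.Prime)
    (hR : Nat.card R = r) (hcop : ¬ r ∣ Nat.card G)
    {k : Type*} [Field k] {p : ℕ} [Fact p.Prime] [CharP k p] {V : Type*} [AddCommGroup V] [Module k V] [FiniteDimensional k V] [Nontrivial V]
    (ρ : Representation k X V) (hfaith : Function.Injective ρ)
    (hirr : ∀ W : Submodule k V, (∀ x : X, W.map (ρ x) ≤ W) → W = ⊥ ∨ W = ⊤)
    (hfix : ∀ v : V, (∀ x ∈ R, ρ x v = v) → v = 0) :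
    ⁅G, R⁆ = ⊥ ∨ ((∃ m : ℕ, r = 2 ^ m + 1) ∧ ¬ IsMulCommutative ↥⁅G, R⁆ ∧ Cfsg.IsSpecial 2 ↥⁅G, R⁆) := by
  obtain ⟨σ, rfl, -, hσ⟩ := H79.exists_gen_of_card_prime hr hR
  have hi : σ ∈ 𝒩(G) := normal_iff_top_le_norm.1 inferInstance trivial
  have h0 : ∀ v, ρ σ v = v → v = 0 := fun v hv => hfix v fun x hx => by
    obtain ⟨n, rfl⟩ := mem_powers_iff_mem_zpowers.2 hx
    rw [map_pow]; exact H79.pow_apply_eq_self hv n
  have hρ : ρ σ ^ r = 1 := by rw [← map_pow, hσ, map_one]
  have hrk := FLAV.natCast_ne_zero_of_fix (p := p) hr hρ h0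
  obtain ⟨Ψ, hΨ⟩ := H79.exists_baseChange k V
  let φ : X →* Module.End (AlgebraicClosure k) (TensorProduct k (AlgebraicClosure k) V) :=
    (Ψ : Module.End k V →* _).comp ρ
  have hφ : Function.Injective φ := hΨ.comp hfaith
  have h1 : ∀ v, φ σ v = v → v = 0 := fun v hv => H79.eq_zero_of_norm_eq_zero (N := r)
    (fun e => hrk ((algebraMap k (AlgebraicClosure k)).injective (by rw [map_natCast, e, map_zero])))
    (by
      have := congrArg Ψ (H79.norm_eq_zero_of_fix hρ h0)
      rw [map_sum, map_zero] at this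
      simp only [map_pow] at this
      exact this) hv
  have hirr' : H79.Irr (ρ : X →* Module.End k V) := fun W hW => hirr W fun x => by
    rintro _ ⟨v, hv, rfl⟩
    exact hW x v hv
  have hO : ∀ N : Subgroup X, N.Normal → IsPi {p} N → N = ⊥ := fun N _ h => eq_bot_iff.2 fun x hx =>
    hfaith ((hirr'.pgroup_le_ker (h.isPGroup Fact.out) hx).trans (map_one ρ).symm)
  have h2 : IsPi {2} (FLAV.kk σ G) := isPi_of_elt fun x hx => by
    obtain ⟨n, hn⟩ := FLAV.core (p := p) φ hφ hr hσ hi hcop h1 x hx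
    rw [hO _ (normal_iff_top_le_norm.2 (norm_piCoreOf _ (normal_iff_top_le_norm.1 inferInstance)))
      (piCoreOf_pi {p} G)] at hn
    exact (isPiNat_singleton_pow Nat.prime_two n).of_dvd (orderOf_dvd_of_pow_eq_one hn)
  by_cases hb : FLAV.kk σ G = ⊥
  · exact .inl hb
  have hp2 : p ≠ 2 := fun e => hb (hO _ (normal_iff_top_le_norm.2 (hX.ge.trans
    (sup_le (FLAV.norm_kk σ G) (FLAV.zn (FLAV.inv_kk σ G))))) (e ▸ h2))
  have hr2 : r ≠ 2 := fun e =>
    hb (FLAV.kk_eq_bot.2 (FLAV.Lin.cent_of_two ⟨hφ, hr, hσ, h1⟩ e G))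
  obtain ⟨⟨m, hm, -⟩, h3, h4, -⟩ := FLAV.special hp2 φ hφ hr hσ hr2 (h2.isPGroup Nat.prime_two)
    (FLAV.inv_kk σ G) ((FLAV.Cop.mk hr hσ hcop).kk_kk le_rfl hi) hb h1
  exact .inr ⟨⟨m, hm⟩, h3, h4⟩

end Cfsg.Agent.S3041
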