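import Cfsg.Statements.S0054
import Cfsg.Agent.H2.MinNormal

set_option autoImplicit false
open Cfsg

namespace Cfsg.Agent.S0054

/-- A regular normal subgroup of a finite 2-transitive group is elementary abelian: it is commutative and all its elements have order dividing one prime. -/
theorem result {G : Type*} [Group G] [Finite G]
    {X : Type*} [Nonempty X] [MulAction G X] (h2 : MulAction.IsMultiplyPretransitive G X 2)
    (N : Subgroup G) [N.Normal] (htrans : MulAction.IsPretransitive N X) (hreg : ∀ x : X, MulAction.stabilizer N x = ⊥) :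
    IsMulCommutative N ∧ ∃ p : ℕ, p.Prime ∧ ∀ n ∈ N, n ^ p = 1 := by
  obtain ⟨x⟩ := ‹Nonempty X›
  have hfix : ∀ n ∈ N, n • x = x → n = 1 := by
    intro n hn h
    have : (⟨n, hn⟩ : N) ∈ MulAction.stabilizer N x := h
    rw [hreg x, Subgroup.mem_bot] at this
    exact congrArg Subtype.val this
  have hconj : ∀ n ∈ N, n ≠ 1 → ∀ m ∈ N, m ≠ 1 → ∃ g : G, g * n * g⁻¹ = m := by
    intro n hn hn1 m hm hm1
    rw [MulAction.is_two_pretransitive_iff] at h2
    obtain ⟨g, hg1, hg2⟩ := @h2 x (n • x) x (m • x)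
      (fun h => hn1 (hfix n hn h.symm)) (fun h => hm1 (hfix m hm h.symm))
    refine ⟨g, ?_⟩
    have h1 : (m⁻¹ * (g * n * g⁻¹)) • x = x := by
      have : g⁻¹ • x = x := by rw [inv_smul_eq_iff, hg1]
      rw [mul_smul, mul_smul, mul_smul, this, hg2, inv_smul_smul]
    have := hfix _ (N.mul_mem (N.inv_mem hm) (‹N.Normal›.conj_mem n hn g)) h1
    rw [inv_mul_eq_one] at this
    exact this.symm
  rcases eq_or_ne N ⊥ with rfl | hN
  · exact ⟨inferInstance, 2, Nat.prime_two, fun n hn => by rw [Subgroup.mem_bot.mp hn, one_pow]⟩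
  obtain ⟨p, hp, a, haN, ha⟩ := H2.exists_mem_prime_orderOf hN
  have ha1 : a ≠ 1 := by
    rintro rfl
    rw [orderOf_one] at ha
    exact hp.one_lt.ne ha
  have hpow : ∀ n ∈ N, n ^ p = 1 := by
    intro n hn
    rcases eq_or_ne n 1 with rfl | hn1
    · exact one_pow p
    · obtain ⟨g, rfl⟩ := hconj a haN ha1 n hn hn1
      rw [conj_pow, ← ha, pow_orderOf_eq_one, mul_one, mul_inv_cancel]
  refine ⟨?_, p, hp, hpow⟩
  have := Fact.mk hp
  have hNp : IsPGroup p N := H2.isPGroup_of_forall_pow_eq_one hpow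
  have : Nontrivial N := (Subgroup.nontrivial_iff_ne_bot N).mpr hN
  obtain ⟨⟨z, hz⟩, hz1⟩ := Subgroup.ne_bot_iff_exists_ne_one.mp hNp.bot_lt_center.ne'
  have hz1' : (z : G) ≠ 1 := fun h => hz1 (Subtype.ext (Subtype.ext h))
  apply H2.isMulCommutative_of_forall
  intro u hu v hv
  rcases eq_or_ne u 1 with rfl | hu1
  · simp
  obtain ⟨g, rfl⟩ := hconj z z.2 hz1' u hu hu1
  have hv' : g⁻¹ * v * g ∈ N := by simpa using ‹N.Normal›.conj_mem v hv g⁻¹
  have h3 : g⁻¹ * v * g * z = z * (g⁻¹ * v * g) :=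
    congrArg Subtype.val (Subgroup.mem_center_iff.mp hz ⟨_, hv'⟩)
  calc g * z * g⁻¹ * v = g * (z * (g⁻¹ * v * g)) * g⁻¹ := by group
    _ = _ := by rw [← h3]; group

end Cfsg.Agent.S0054
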