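import Cfsg.Statements.S2904
import Cfsg.Agent.H52.Zsig
-- import your own Cfsg.Agent.* helpers here

set_option autoImplicit false
open Cfsg

namespace Cfsg.Agent.S2904

/-- Zsigmondy's Theorem: for natural numbers a > 1 and n > 1 there is a prime dividing aⁿ − 1 that divides aᵏ − 1 for no natural number 0 < k < n, unless a = 2 and n = 6, or n = 2 and a + 1 is a power of two. -/
theorem result (a n : ℕ) (ha : 1 < a) (hn : 1 < n) (h6 : ¬ (a = 2 ∧ n = 6)) (h2 : ¬ (n = 2 ∧ ∃ m : ℕ, a + 1 = 2 ^ m)) : ∃ r : ℕ, r.Prime ∧ r ∣ a ^ n - 1 ∧ ∀ k : ℕ, 0 < k → k < n → ¬ r ∣ a ^ k - 1 := by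
  rcases Nat.lt_or_ge n 3 with h3 | h3
  · obtain rfl : n = 2 := by omega
    have h : ¬ ∃ m : ℕ, a + 1 = 2 ^ m := fun h => h2 ⟨rfl, h⟩
    obtain ⟨r, hr, hra, hr2⟩ : ∃ r : ℕ, r.Prime ∧ r ∣ a + 1 ∧ r ≠ 2 := by
      by_contra hc
      push Not at hc
      exact h ⟨_, Nat.eq_prime_pow_of_unique_prime_dvd (by omega) (fun hp hd => hc _ hp hd)⟩
    refine ⟨r, hr, hra.trans ⟨a - 1, by rw [← Nat.sq_sub_sq]⟩, fun k hk hk2 hd => hr2 ?_⟩
    obtain rfl : k = 1 := by omega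
    rw [pow_one] at hd
    have h1 : r ∣ 2 := by
      have := Nat.dvd_sub hra hd
      rwa [show a + 1 - (a - 1) = 2 by omega] at this
    exact (Nat.prime_dvd_prime_iff_eq hr Nat.prime_two).1 h1
  · exact H52.Zsig.zsigmondy ha h3 h6

end Cfsg.Agent.S2904
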