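import Cfsg.Statements.S2503
import Cfsg.Agent.H66.PSL2Cent

set_option autoImplicit false
open Cfsg

namespace Cfsg.Agent.S2503

open Cfsg.Agent.H66 Matrix in
theorem aux {F : Type*} [Field F] [Fintype F] (h2 : (2 : F) = 0) {t : F} (hs : ¬ Split t)
    (y y' : SpecialLinearGroup (Fin 2) F) (h1 : tr2 y = tr2 y')
    (h3 : tr2 (comp2 t * y) = tr2 (comp2 t * y')) :
    ∃ a ∈ Subgroup.centralizer ({comp2 t} : Set (SpecialLinearGroup (Fin 2) F)), a * y * a⁻¹ = y' := by
  have ht0 : t ≠ 0 := fun e => hs ⟨1, by rw [e]; linear_combination h2⟩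
  have hc : ringChar F = 2 :=
    (Nat.prime_dvd_prime_iff_eq (CharP.char_is_prime F _) Nat.prime_two).1 ((ringChar.spec F 2).1 h2)
  obtain ⟨β, hβ⟩ : ∃ β, β * t = tr2 y := ⟨_, div_mul_cancel₀ _ ht0⟩
  obtain ⟨α, hα⟩ : ∃ α, α * t = tr2 (comp2 t * y) + β * t ^ 2 := ⟨_, div_mul_cancel₀ _ ht0⟩
  have form : ∀ z : SpecialLinearGroup (Fin 2) F, β * t = tr2 z → α * t = tr2 (comp2 t * z) + β * t ^ 2 →
      ∃ m n : F, z.1 = α • (1 : Matrix (Fin 2) (Fin 2) F) + β • (comp2 t).1 + !![m, n; n + t * m, m] ∧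
        m ^ 2 + n ^ 2 + t * m * n = 1 + α ^ 2 + α * β * t + β ^ 2 := by
    intro z a b
    have hd := sl2_det z
    simp only [tr2, sl2_mul_apply, coe_comp2] at a b
    simp at b
    have e11 : z.1 1 1 = β * t + z.1 0 0 := by linear_combination -a - z.1 0 0 * h2
    have e10 : z.1 1 0 = z.1 0 1 + t * z.1 0 0 + α * t := by
      linear_combination b + t * e11 + (β * t ^ 2 - α * t) * h2
    refine ⟨z.1 0 0 + α, z.1 0 1 + β, mat2_ext ?_ ?_ ?_ ?_, ?_⟩
    · simp [coe_comp2]; linear_combination -α * h2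
    · simp [coe_comp2]
    · simp [coe_comp2]; linear_combination e10 - β * h2
    · simp [coe_comp2]; linear_combination e11 - α * h2
    · rw [e11, e10] at hd
      linear_combination hd + (z.1 0 0 * α + z.1 0 1 * β + z.1 0 1 ^ 2 + t * z.1 0 0 * z.1 0 1 + t * α * z.1 0 1) * h2
  obtain ⟨m, n, e, d⟩ := form y hβ hα
  obtain ⟨m', n', e', d'⟩ := form y' (h1 ▸ hβ) (h3 ▸ hα)
  have an : ∀ m n : F, m ^ 2 + n ^ 2 + t * m * n = 0 → m = 0 ∧ n = 0 := by
    intro m n h
    have hm : m = 0 := by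
      by_contra hm
      exact hs ⟨n / m, by field_simp; linear_combination h - t * m * n * h2⟩
    rw [hm] at h
    exact ⟨hm, pow_eq_zero_iff two_ne_zero |>.1 (by linear_combination h)⟩
  by_cases hδ : 1 + α ^ 2 + α * β * t + β ^ 2 = 0
  · obtain ⟨rfl, rfl⟩ := an m n (d.trans hδ)
    obtain ⟨rfl, rfl⟩ := an m' n' (d'.trans hδ)
    exact ⟨1, Subgroup.one_mem _, by rw [one_mul, inv_one, mul_one]; exact Subtype.ext (e.trans e'.symm)⟩
  obtain ⟨r, hr⟩ := FiniteField.isSquare_of_char_two hc (1 + α ^ 2 + α * β * t + β ^ 2)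
  have hr0 : r ≠ 0 := fun e => hδ (by rw [hr, e, mul_zero])
  have mk : ∀ m n : F, m ^ 2 + n ^ 2 + t * m * n = r * r → ∃ w : SpecialLinearGroup (Fin 2) F,
      !![m, n; n + t * m, m] = r • w.1 ∧ w * comp2 t * w⁻¹ = (comp2 t)⁻¹ := by
    intro m n h
    refine ⟨H9.slMk (r⁻¹ • !![m, n; n + t * m, m]) ?_, ?_, ?_⟩
    · rw [det_smul, det_fin_two_of]; simp; field_simp
      linear_combination h - (n ^ 2 + t * m * n) * h2
    · rw [H9.coe_slMk, smul_smul, mul_inv_cancel₀ hr0, one_smul]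
    · rw [mul_inv_eq_iff_eq_mul]
      refine sl2_ext ?_ ?_ ?_ ?_ <;>
        simp only [sl2_mul_apply, sl2_inv00, sl2_inv01, sl2_inv10, sl2_inv11, coe_comp2] <;> simp
      · linear_combination -(r⁻¹ * t * m) * h2
      · linear_combination -(r⁻¹ * m) * h2
      · linear_combination (r⁻¹ * m) * h2
      · ring
  obtain ⟨w, hw, hwx⟩ := mk m n (d.trans hr)
  obtain ⟨w', hw', hwx'⟩ := mk m' n' (d'.trans hr)
  have hns : NonSc (comp2 t).1 := by simp [NonSc, coe_comp2]
  have hz : w' * w⁻¹ ∈ Subgroup.centralizer ({comp2 t} : Set (SpecialLinearGroup (Fin 2) F)) := by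
    rw [Subgroup.mem_centralizer_singleton_iff]
    have a1 : comp2 t = w * (comp2 t)⁻¹ * w⁻¹ := by rw [← conj_inv, hwx, inv_inv]
    have a2 : comp2 t = w' * (comp2 t)⁻¹ * w'⁻¹ := by rw [← conj_inv, hwx', inv_inv]
    calc w' * w⁻¹ * comp2 t = w' * w⁻¹ * (w * (comp2 t)⁻¹ * w⁻¹) := by rw [← a1]
      _ = (w' * (comp2 t)⁻¹ * w'⁻¹) * (w' * w⁻¹) := by group
      _ = _ := by rw [← a2]
  have hcard := (centralizer_nonsplit (g := comp2 t) (by rwa [tr2_comp2])).2
  have hpow : (w' * w⁻¹) ^ (Nat.card F + 1) = 1 := by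
    have := pow_card_eq_one' (x := (⟨_, hz⟩ : Subgroup.centralizer ({comp2 t} : Set _)))
    rw [hcard] at this
    exact congrArg Subtype.val this
  have hev := FiniteField.even_card_of_char_two hc
  rw [← Nat.card_eq_fintype_card] at hev
  have ha := Subgroup.pow_mem _ hz ((Nat.card F + 2) / 2)
  have haa : (w' * w⁻¹) ^ ((Nat.card F + 2) / 2) * (w' * w⁻¹) ^ ((Nat.card F + 2) / 2) = w' * w⁻¹ := by
    rw [← pow_add, show (Nat.card F + 2) / 2 + (Nat.card F + 2) / 2 = Nat.card F + 1 + 1 by omega,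
      pow_succ, hpow, one_mul]
  generalize (w' * w⁻¹) ^ ((Nat.card F + 2) / 2) = a at ha haa
  refine ⟨a, ha, ?_⟩
  have k1 : a * w = w' * a := by
    have := conj_eq_inv_of_mem_centralizer hns hwx (Subgroup.inv_mem _ ha)
    rw [inv_inv] at this
    calc a * w = a * (w * a⁻¹ * w⁻¹) * w * a := by group
      _ = w' * a := by rw [this, haa]; group
  have k1' : a.1 * w.1 = w'.1 * a.1 := congrArg Subtype.val k1
  rw [mul_inv_eq_iff_eq_mul]
  apply Subtype.ext
  change a.1 * y.1 = y'.1 * a.1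
  rw [e, e', hw, hw']
  simp only [add_mul, mul_add, smul_mul_assoc, mul_smul_comm, one_mul, mul_one, k1',
    mem_centralizer_singleton_sl.1 ha]


/-- Let F be a finite field with q = 2^t ≥ 4 elements and L = PSL(2,F). Then L has a cyclic subgroup A of order q + 1 and an elementary abelian 2-subgroup B of order q such that L = ABA: every element of L is a product a·b·a' with a, a' ∈ A and b ∈ B. -/
theorem result {F : Type*} [Field F] [Fintype F]
    (h2 : 2 ∣ Fintype.card F) (h4 : 4 ≤ Fintype.card F) :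
    ∃ A B : Subgroup (Matrix.ProjectiveSpecialLinearGroup (Fin 2) F),
      IsCyclic A ∧ Nat.card A = Fintype.card F + 1 ∧ IsMulCommutative B ∧ (∀ b ∈ B, b * b = 1) ∧
        Nat.card B = Fintype.card F ∧
        ∀ g : Matrix.ProjectiveSpecialLinearGroup (Fin 2) F, ∃ a ∈ A, ∃ b ∈ B, ∃ c ∈ A, g = a * b * c := by
  have h2' : (2 : F) = 0 := by
    by_contra e
    have := H66.odd_card_of_two_ne e
    omega
  have hc : ringChar F = 2 :=
    (Nat.prime_dvd_prime_iff_eq (CharP.char_is_prime F _) Nat.prime_two).1 ((ringChar.spec F 2).1 h2')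
  obtain ⟨x, -, hs⟩ := H66.exists_nonsplit (F := F)
  generalize H66.tr2 x = t at hs
  obtain ⟨c1, c2⟩ := H66.centralizer_nonsplit (g := H66.comp2 t) (by rwa [H66.tr2_comp2])
  let U : Multiplicative F →* Matrix.ProjectiveSpecialLinearGroup (Fin 2) F :=
    (H66.toPSL F).comp
      { toFun := fun c => H66.upT c.toAdd
        map_one' := H66.upT_zero
        map_mul' := fun a b => H66.upT_add _ _ }
  have hU : Function.Injective U := (H66.toPSL_injective h2').comp fun a b h =>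
    congrArg (fun k : Matrix.SpecialLinearGroup (Fin 2) F => k.1 0 1) h
  have e := (Subgroup.centralizer ({H66.comp2 t} : Set (Matrix.SpecialLinearGroup (Fin 2) F))).equivMapOfInjective
    _ (H66.toPSL_injective h2')
  refine ⟨(Subgroup.centralizer {H66.comp2 t}).map (H66.toPSL F), U.range,
    isCyclic_of_surjective e e.surjective, ?_, inferInstance, ?_, ?_, fun g => ?_⟩
  · rw [← Nat.card_congr e.toEquiv, c2, Nat.card_eq_fintype_card]
  · rintro _ ⟨c, rfl⟩
    rw [← map_mul, ← map_one U]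
    congr 1
    change c.toAdd + c.toAdd = 0
    linear_combination c.toAdd * h2'
  · rw [← Nat.card_congr (MonoidHom.ofInjective hU).toEquiv, Nat.card_eq_fintype_card,
      Fintype.card_multiplicative]
  · obtain ⟨g, rfl⟩ := H66.toPSL_surjective g
    obtain ⟨c, hcc⟩ := FiniteField.isSquare_of_char_two hc
      (H66.tr2 (H66.comp2 t * (g * H66.comp2 t * g⁻¹)) + t ^ 2)
    obtain ⟨a, ha, h⟩ := aux h2' hs (H66.upT c * H66.comp2 t * (H66.upT c)⁻¹)
      (g * H66.comp2 t * g⁻¹) (by rw [H66.tr2_conj, H66.tr2_conj]) (by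
        have : H66.tr2 (H66.comp2 t * (H66.upT c * H66.comp2 t * (H66.upT c)⁻¹)) =
            t ^ 2 - c * c - 2 := by
          simp only [H66.tr2, H66.sl2_mul_apply, H66.sl2_inv00, H66.sl2_inv01, H66.sl2_inv10,
            H66.sl2_inv11, H66.coe_comp2, H66.coe_upT]
          simp
          ring
        rw [this]
        linear_combination -hcc + (t ^ 2 - c * c - 1) * h2')
    refine ⟨_, ⟨a, ha, rfl⟩, _, ⟨Multiplicative.ofAdd c, rfl⟩,
      H66.toPSL F ((a * H66.upT c)⁻¹ * g), ⟨_, ?_, rfl⟩, ?_⟩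
    · rw [SetLike.mem_coe, Subgroup.mem_centralizer_singleton_iff]
      calc (a * H66.upT c)⁻¹ * g * H66.comp2 t
          = (a * H66.upT c)⁻¹ * (g * H66.comp2 t * g⁻¹) * g := by group
        _ = _ := by rw [← h]; group
    · change _ = H66.toPSL F a * H66.toPSL F (H66.upT c) * _
      rw [← map_mul, ← map_mul, mul_inv_cancel_left]

end Cfsg.Agent.S2503
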