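import Cfsg.Statements.S3192
import Cfsg.Agent.H8.InvAbSimple
import Cfsg.Agent.H8.ClsSz
import Cfsg.Agent.H41.LemZ
import Cfsg.Agent.H42.ZStar
import Cfsg.Agent.H43.Elem
import Cfsg.Agent.H5.Burnside
import Cfsg.Agent.H1.Product
import Cfsg.Agent.H3.PResidual

set_option autoImplicit false
open Cfsg

namespace Cfsg.Agent.S3192

open Subgroup H83 H8

variable {G : Type*} [Group G] [Finite G]

local notation "𝒞[" x "]" => Subgroup.centralizer {x}

theorem eq_of_cs {x y : G} (h : 𝒞[x] ≤ 𝒞[y]) (e : cs(x) = cs(y)) : 𝒞[x] = 𝒞[y] :=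
  eq_of_le_of_card_ge h (Nat.eq_of_mul_eq_mul_right (cs_pos x)
    ((card_cent_mul_cs x).trans (e ▸ (card_cent_mul_cs y).symm))).ge

omit [Finite G] in
theorem mul_ne_one {x y : G} (hx : x ≠ 1) (h : (orderOf x).Coprime (orderOf y)) : x * y ≠ 1 :=
  fun c => hx (orderOf_eq_one_iff.1 (by
    rwa [eq_inv_of_mul_eq_one_right c, orderOf_inv, Nat.coprime_self] at h))

theorem exists_central {p : ℕ} (hp : p.Prime) (h : p ∣ Nat.card G) :
    ∃ w : G, orderOf w = p ∧ ¬ p ∣ cs(w) := by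
  have := Fact.mk hp
  obtain ⟨P⟩ : Nonempty (Sylow p G) := inferInstance
  obtain ⟨z, -, ho, hz⟩ := H43.exists_central_of_pgroup P.isPGroup' (P.ne_bot_of_dvd_card h)
  exact ⟨z, ho, not_dvd_index_iff.2 ⟨P, fun x hx => mem_cent.2 (hz x hx).symm⟩⟩

theorem exists_comm {p : ℕ} (hp : p.Prime) {w z : G} (hw : ¬ p ∣ cs(w)) (hz : orderOf z = p) :
    ∃ w', IsConj w w' ∧ Commute w' z := by
  have := Fact.mk hp
  obtain ⟨P, hP⟩ := (IsPGroup.of_card (n := 1) (G := zpowers z)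
    (by rw [Nat.card_zpowers, hz, pow_one])).exists_le_sylow
  obtain ⟨g, hg⟩ := exists_conj_mem_cent_sylow P hw
  exact ⟨_, isConj_iff.2 ⟨g, rfl⟩, (hg z (hP (mem_zpowers z))).symm⟩

omit [Finite G] in
theorem coprime_of_pow {p i : ℕ} {a : G} (h : a ^ p ^ i = 1) {n : ℕ} (hn : n.Coprime p) :
    n.Coprime (orderOf a) :=
  (hn.pow_right i).coprime_dvd_right (orderOf_dvd_of_pow_eq_one h)

/-- If the centralizers of the non-identity elements are pairwise incomparable, those of the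
involutions are abelian. -/
theorem abc_of_antichain (hF : ∀ x y : G, y ≠ 1 → 𝒞[x] ≤ 𝒞[y] → 𝒞[y] ≤ 𝒞[x]) : AbC G := by
  have : Fact (Nat.Prime 2) := ⟨Nat.prime_two⟩
  have key : ∀ x u : G, x ≠ 1 → Commute x u → (orderOf x).Coprime (orderOf u) → 𝒞[x] ≤ 𝒞[u] :=
    fun x u hx hc ho => (hF _ x hx ((cent_mul_of_coprime hc ho).le.trans inf_le_left)).trans
      ((cent_mul_of_coprime hc ho).le.trans inf_le_right)
  intro t a b ht ha hb
  have t1 := ne_one_of_orderOf_two ht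
  by_cases hu : ∃ u ∈ 𝒞[t], u ≠ 1 ∧ (orderOf u).Coprime 2
  · obtain ⟨u, hu, u1, uo⟩ := hu
    have h1 := key t u t1 (mem_cent.1 hu).symm (ht ▸ uo.symm)
    obtain ⟨c, d, hc, hd, ⟨i, hi⟩, hdo, rfl⟩ := H3.exists_p_part (p := 2) a
    have h2 := zpowers_le.2 (mem_cent.2 ha.eq)
    refine Commute.mul_left ?_ (mem_cent.1 (key t d t1 (mem_cent.1 (h2 hd)).symm (ht ▸ hdo.symm)
      (mem_cent.2 hb.eq))).symm
    exact (mem_cent.1 (key u c u1 (mem_cent.1 (h1 (h2 hc))).symm (coprime_of_pow hi uo)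
      (h1 (mem_cent.2 hb.eq)))).symm
  have hP : IsPGroup 2 (𝒞[t] : Subgroup G) := fun g => by
    obtain ⟨c, d, -, hd, ⟨i, hi⟩, hdo, e⟩ := H3.exists_p_part (p := 2) (g : G)
    have : d = 1 := by_contra fun c' => hu ⟨d, zpowers_le.2 g.2 hd, c', hdo⟩
    exact ⟨i, Subtype.ext (by rw [SubgroupClass.coe_pow, e, this, mul_one, hi]; rfl)⟩
  obtain ⟨T, hT⟩ := hP.exists_le_sylow
  obtain ⟨z, hz, zo, hzc⟩ := H43.exists_central_of_pgroup T.isPGroup' fun c =>
    t1 (mem_bot.1 (c ▸ hT (self_mem_cent t)))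
  have cen : ∀ x ∈ (T : Subgroup G), x ^ 2 ≠ 1 → ∀ y ∈ (T : Subgroup G), Commute y x := by
    intro x hx x2 y hy
    have e : (x * z) ^ 2 = x ^ 2 := by
      rw [(show Commute x z from (hzc x hx).symm).mul_pow, ← zo, pow_orderOf_eq_one, mul_one]
    refine mem_cent.1 (hF x z (ne_one_of_orderOf_two zo) (fun g hg => ?_)
      (mem_cent.2 (hzc y hy).symm))
    have h1 := mem_cent.1 (hF (x * z) _ x2 (e ▸ cent_le_cent_pow _ 2) (cent_le_cent_pow x 2 hg))
    rw [← mul_assoc, mem_cent.1 hg, mul_assoc, mul_assoc] at h1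
    exact mem_cent.2 (mul_left_cancel h1)
  have aT := hT (mem_cent.2 ha.eq)
  have bT := hT (mem_cent.2 hb.eq)
  by_cases a2 : a ^ 2 = 1
  swap
  · exact (cen a aT a2 b bT).symm
  by_cases b2 : b ^ 2 = 1
  swap
  · exact cen b bT b2 a aT
  by_cases c2 : (a * b) ^ 2 = 1
  · rw [sq] at a2 b2 c2
    rw [Commute, SemiconjBy, eq_inv_of_mul_eq_one_left c2, mul_inv_rev,
      ← eq_inv_of_mul_eq_one_left a2, ← eq_inv_of_mul_eq_one_left b2]
  · have := (cen _ (mul_mem aT bT) c2 a aT).eq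
    rw [mul_assoc] at this
    exact mul_left_cancel this

section simple

variable [IsSimpleGroup G] (hG : ¬ IsMulCommutative G)
include hG

omit [Finite G] in
theorem eq_one_of_comm {x y : G} (hy : y ≠ 1) (h : ∀ z, IsConj y z → Commute x z) : x = 1 := by
  have h1 : normalClosure {y} ≤ 𝒞[x] := (closure_le _).2 fun z hz => by
    obtain ⟨a, rfl, ha⟩ := Group.mem_conjugatesOfSet_iff.1 hz
    exact mem_cent.2 (h z ha).eq.symm
  rw [(normalClosure_normal (s := {y})).eq_bot_or_eq_top.resolve_left fun c =>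
    hy (mem_bot.1 (c ▸ subset_normalClosure rfl))] at h1
  exact mem_bot.1 (center_eq_bot_of_simple hG ▸ mem_center_iff.2 fun g => mem_cent.1 (h1 trivial))

theorem not_comm {x y : G} (hx : x ≠ 1) (hy : y ≠ 1) (hc : (cs(x)).Coprime cs(y)) :
    ¬ Commute x y := fun h => hx (eq_one_of_comm hG hy fun z hz => by
  obtain ⟨g, rfl⟩ := isConj_iff.1 hz
  obtain ⟨a, ha, b, hb, rfl⟩ := H1.mul_eq_of_coprime _ _ hc g
  rw [mul_inv_rev, show a * b * y * (b⁻¹ * a⁻¹) = a * (b * y * b⁻¹) * a⁻¹ by group,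
    mem_cent'.1 hb]
  have ha' : Commute x a := (mem_cent.1 ha).symm
  exact (ha'.mul_right h).mul_right ha'.inv_right)

theorem exists_prime_ne {x : G} (hx : x ≠ 1) (p : ℕ) (hp : p.Prime) :
    ∃ r, r.Prime ∧ r ∣ cs(x) ∧ r ≠ p := by
  by_contra c
  push Not at c
  have := Fact.mk (H5.prime_card_of_simple_of_index_eq_prime_pow hp hx
    (Nat.eq_prime_pow_of_unique_prime_dvd (cs_ne_zero x) fun h1 h2 => c _ h1 h2))
  exact hG (isCyclic_of_prime_card (p := Nat.card G) rfl).isMulCommutative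

/-- An abelian TI subgroup of index prime to the class size of `y`. -/
theorem isolated {x y : G} (hx : x ≠ 1) (hH : ∀ h ∈ 𝒞[x], h ≠ 1 → 𝒞[h] = 𝒞[x]) (hy : y ≠ 1)
    (hc : (cs(x)).Coprime cs(y)) {y' : G} (h : IsConj y y') (hc' : Commute y y') : y' = y := by
  let _ : MulAction G {z // IsConj y z} :=
    { smul := fun g z => ⟨g * z * g⁻¹, z.2.trans (isConj_iff.2 ⟨g, rfl⟩)⟩
      one_smul := fun z => Subtype.ext (show 1 * z.1 * 1⁻¹ = z by simp)
      mul_smul := fun a b z =>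
        Subtype.ext (show a * b * z.1 * (a * b)⁻¹ = a * (b * z.1 * b⁻¹) * a⁻¹ by group) }
  have sm : ∀ (g : G) (z w : {z // IsConj y z}), g • z = w ↔ g * z * g⁻¹ = w := fun g z w =>
    Subtype.ext_iff
  have ti : H41.TIK 𝒞[x] (normalizer (𝒞[x] : Subgroup G)) :=
    ⟨fun a ha b hb => by
      by_cases b1 : b = 1
      · simp [b1]
      · exact mem_cent.1 ((hH b hb b1).ge ha), le_normalizer,
    fun g hg k hk => (mem_normalizer_iff.1 hg k).1 hk,
    fun g k hk k1 h => mem_normalizer_iff.2 fun a => by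
      nth_rw 1 [← hH k hk k1]
      rw [← hH _ h (by simpa using k1), mem_cent', mem_cent']
      constructor
      · intro e
        conv_rhs => rw [← e]
        group
      · intro e
        refine (MulAut.conj g).injective (Eq.trans ?_ e)
        simp [mul_assoc],
    fun g _ k hk k1 e => (hH k hk k1).le (mem_cent'.2 e)⟩
  obtain ⟨e, he⟩ := card_dvd_of_le ti.le
  rcases ti.lemZ (X := {z // IsConj y z}) (he.trans (mul_comm _ _)) (fun a b => by
    obtain ⟨g, hg⟩ := isConj_iff.1 (a.2.symm.trans b.2)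
    obtain ⟨k, hk, c, hc, rfl⟩ := H1.mul_eq_of_coprime _ _ (cs_of_isConj a.2 ▸ hc) g
    refine ⟨k, hk, (sm _ _ _).2 ?_⟩
    rw [← hg]
    conv_lhs => rw [← mem_cent'.1 hc]
    group) (fun k hk a e => by_contra fun k1 => not_comm hG k1
      (fun c => hy (isConj_one_left.1 (c ▸ a.2)))
      (by rw [hH k hk k1, ← cs_of_isConj a.2]; exact hc)
      (mul_inv_eq_iff_eq_mul.1 ((sm _ _ _).1 e))) ⟨y, IsConj.refl y⟩ with H | H
  · by_contra hne
    refine hy (eq_one_of_comm hG hy fun z hz => ?_)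
    by_cases e : z = y
    · rw [e]
    obtain ⟨g, g1, g2⟩ := H ⟨y, IsConj.refl y⟩ ⟨y', h⟩ ⟨z, hz⟩ (fun c => hne (congrArg Subtype.val c))
      fun c => e (congrArg Subtype.val c)
    have := hc'.map (MulAut.conj g)
    rwa [MulAut.conj_apply, MulAut.conj_apply, (sm _ _ _).1 g1, (sm _ _ _).1 g2] at this
  · have hn : (𝒞[x] : Subgroup G).Normal := normalizer_eq_top_iff.1 (eq_top_iff.2 fun g _ => by
      obtain ⟨c, d, hc, hd, rfl⟩ := H g
      rwa [eq_one_of_comm hG hy fun z hz =>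
        mul_inv_eq_iff_eq_mul.1 ((sm c _ _).1 (hc ⟨z, hz⟩)), one_mul])
    rcases hn.eq_bot_or_eq_top with c | c
    · exact absurd (mem_bot.1 (c ▸ self_mem_cent x)) hx
    · exact absurd (eq_one_of_comm hG hy fun z _ => (mem_cent.1 (c.ge trivial)).symm) hx

theorem abc_of_three {m k n : ℕ} {x₀ y₀ : G} (hx₀ : cs(x₀) = k) (y₀1 : y₀ ≠ 1) (hy₀ : cs(y₀) = m)
    (hmk : m ∣ k) (hne : m ≠ k) (all : ∀ x : G, x ≠ 1 → cs(x) = m ∨ cs(x) = k ∨ cs(x) = n) :
    AbC G := by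
  have o1 : ∀ {p} {x : G}, p.Prime → orderOf x = p → x ≠ 1 := fun hp h c =>
    hp.one_lt.ne (by rw [← h, c, orderOf_one])
  have cj1 : ∀ {x y : G}, x ≠ 1 → IsConj x y → y ≠ 1 := fun h c e => h (isConj_one_left.1 (e ▸ c))
  have hkG : k ∣ Nat.card G := hx₀ ▸ cs_dvd_card x₀
  have k0 : 0 < k := hx₀ ▸ cs_pos x₀
  have cen : ∀ p, p.Prime → p ∣ m → ∃ x : G, orderOf x = p ∧ cs(x) = n ∧ ¬ p ∣ n := fun p hp h => by
    obtain ⟨w, ho, hw⟩ := exists_central hp ((h.trans hmk).trans hkG)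
    rcases all w (o1 hp ho) with e | e | e
    · exact absurd (e ▸ h) hw
    · exact absurd (e ▸ h.trans hmk) hw
    · exact ⟨w, ho, e, e ▸ hw⟩
  have hmn : m.Coprime n := Nat.coprime_of_dvd fun p hp h => (cen p hp h).choose_spec.2.2
  have nc : ∀ {x y : G}, x ≠ 1 → y ≠ 1 → cs(x) = n → cs(y) = m → ¬ Commute x y :=
    fun hx hy e e' => not_comm hG hx hy (by rw [e, e']; exact hmn.symm)
  obtain ⟨p₀, hp₀, hp₀m, -⟩ := exists_prime_ne hG y₀1 2 Nat.prime_two
  obtain ⟨x, xo, xn, hp₀n⟩ := cen p₀ hp₀ (hy₀ ▸ hp₀m)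
  have x1 := o1 hp₀ xo
  have km : ¬ k ∣ m := fun c => hne (Nat.dvd_antisymm hmk c)
  have maxk : ∀ z w : G, cs(z) = k → z ≠ 1 → Commute z w → (orderOf z).Coprime (orderOf w) →
      𝒞[z] ≤ 𝒞[w] := fun z w hz z1 hc ho => by
    have h1 := cent_mul_of_coprime hc ho
    have h2 := hz ▸ cs_dvd_cs_mul_left hc ho
    rcases all _ (mul_ne_one z1 ho) with e | e | e
    · exact absurd (e ▸ h2) km
    · exact (eq_of_cs (h1.le.trans inf_le_left) (e.trans hz.symm)).ge.trans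
        (h1.le.trans inf_le_right)
    · exact absurd (((hy₀ ▸ hp₀m).trans hmk).trans (e ▸ h2)) hp₀n
  have elt : ∀ p (w : G), p.Prime → p ∣ Nat.card (𝒞[w] : Subgroup G) →
      ∃ z, orderOf z = p ∧ Commute z w := fun p w hp h => by
    have := Fact.mk hp
    obtain ⟨z, hz⟩ := exists_prime_orderOf_dvd_card' p h
    exact ⟨z, (orderOf_coe z).trans hz, mem_cent.1 z.2⟩
  obtain ⟨q, hq, hqk, hqn⟩ : ∃ q, q.Prime ∧ q ∣ k ∧ q ∣ n := by
    by_contra c
    have hkn : k.Coprime n := Nat.coprime_of_dvd fun p hp h h' => c ⟨p, hp, h, h'⟩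
    obtain ⟨d, rfl⟩ := hmk
    obtain ⟨p, hp, hpd⟩ := Nat.exists_prime_and_dvd (n := d) fun e => hne (by rw [e, mul_one])
    obtain ⟨z, zo, hz⟩ := elt p y₀ hp (hpd.trans (Nat.dvd_of_mul_dvd_mul_left
      (hy₀ ▸ cs_pos y₀) (by rwa [← card_cent_mul_cs y₀, hy₀, mul_comm _ m] at hkG)))
    obtain ⟨x', h1, h2⟩ := exists_comm hp (w := x) (fun h => c ⟨p, hp, hpd.mul_left m, xn ▸ h⟩) zo
    have h3 := (cs_of_isConj h1).symm.trans xn
    rcases all z (o1 hp zo) with e | e | e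
    · exact nc (cj1 x1 h1) (o1 hp zo) h3 e h2
    · exact not_comm hG (cj1 x1 h1) (o1 hp zo) (by rw [e, h3]; exact hkn.symm) h2
    · exact nc (o1 hp zo) y₀1 e hy₀ hz
  obtain ⟨y, yo, hy⟩ := exists_central hq (hqk.trans hkG)
  have y1 := o1 hq yo
  have ym : cs(y) = m := (all y y1).resolve_right fun c =>
    hy (c.elim (fun e => e ▸ hqk) fun e => e ▸ hqn)
  have P : ∀ p, p.Prime → p ∣ m → ∀ z w : G, orderOf z = p → w ≠ 1 → Commute z w → cs(w) = n := by
    intro p hp hpm z w zo w1 hc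
    by_contra c
    obtain ⟨d, hd⟩ : m ∣ cs(w) := by
      rcases all w w1 with e | e | e
      · rw [e]
      · exact e ▸ hmk
      · exact absurd e c
    obtain ⟨z, zo, hz⟩ := elt p y hp ((zo ▸ Subgroup.orderOf_dvd_natCard 𝒞[w]
      (mem_cent.2 hc)).trans ⟨d, Nat.eq_of_mul_eq_mul_right
        (ym ▸ cs_pos y) (by rw [mul_assoc, mul_comm d, ← hd, card_cent_mul_cs, ← ym,
          card_cent_mul_cs])⟩)
    obtain ⟨x, xo, xn, hpn⟩ := cen p hp hpm
    obtain ⟨x', h1, h2⟩ := exists_comm hp (w := x) (xn ▸ hpn) zo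
    have h3 := (cs_of_isConj h1).symm.trans xn
    have h4 := cj1 (o1 hp xo) h1
    rcases all z (o1 hp zo) with e | e | e
    · exact nc h4 (o1 hp zo) h3 e h2
    · exact nc h4 y1 h3 ym (mem_cent.1 (maxk z y e (o1 hp zo) hz (by
        rw [zo, yo, Nat.coprime_primes hp hq]
        exact fun c => hpn (c ▸ hqn)) (mem_cent.2 h2)))
    · exact nc (o1 hp zo) y1 e ym hz
  have A : ∀ p, p.Prime → p ∣ m → ∀ x a : G, orderOf x = p → Commute x a →
      (orderOf x).Coprime (orderOf a) → 𝒞[x] ≤ 𝒞[a] := fun p hp hpm x a xo hc ho => by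
    have h1 := cent_mul_of_coprime hc ho
    exact (eq_of_cs (h1.le.trans inf_le_left) ((P p hp hpm x _ xo (mul_ne_one (o1 hp xo) ho)
      ((Commute.refl x).mul_right hc)).trans (P p hp hpm x x xo (o1 hp xo) rfl).symm)).ge.trans
      (h1.le.trans inf_le_right)
  have B : ∀ p, p.Prime → p ∣ m → ∀ x : G, orderOf x = p → ∀ h ∈ 𝒞[x], 𝒞[x] ≤ 𝒞[h] := by
    intro p hp hpm x xo h hh
    have := Fact.mk hp
    obtain ⟨r, hr, hrm, hrp⟩ := exists_prime_ne hG y1 p hp
    rw [ym] at hrm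
    have xn := P p hp hpm x x xo (o1 hp xo) rfl
    obtain ⟨x', xo', hx'⟩ := elt r x hr ((hmn.coprime_dvd_left hrm).dvd_of_dvd_mul_right (by
      rw [← xn, card_cent_mul_cs]
      exact (hrm.trans hmk).trans hkG))
    have hrp' : (orderOf x').Coprime p := xo' ▸ (Nat.coprime_primes hr hp).2 hrp
    have h1 := A p hp hpm x x' xo hx'.symm (xo ▸ hrp'.symm)
    obtain ⟨c, d, hc, hd, ⟨i, hi⟩, hdo, rfl⟩ := H3.exists_p_part (p := p) h
    have h2 := zpowers_le.2 hh
    intro g hg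
    exact mem_cent.2 (Commute.mul_right (mem_cent.1 (A r hr hrm x' c xo'
      (mem_cent.1 (h1 (h2 hc))).symm (coprime_of_pow hi hrp') (h1 hg)))
      (mem_cent.1 (A p hp hpm x d xo (mem_cent.1 (h2 hd)).symm (xo ▸ hdo.symm) hg)))
  by_cases m2 : 2 ∣ m
  · exact fun t a b ht ha hb =>
      (mem_cent.1 (B 2 Nat.prime_two m2 t ht a (mem_cent.2 ha) (mem_cent.2 hb))).symm
  exfalso
  have iso : ∀ {y y' : G}, y ≠ 1 → cs(y) = m → IsConj y y' → Commute y y' → y' = y :=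
    fun y1 ym => isolated hG x1 (fun h hh h1 => (eq_of_cs (B p₀ hp₀ (hy₀ ▸ hp₀m) x xo h hh)
      (xn.trans (P p₀ hp₀ (hy₀ ▸ hp₀m) x h xo h1 (mem_cent.1 hh).symm).symm)).symm) y1
      (by rw [xn, ym]; exact hmn.symm)
  have ev := even_iff_two_dvd.1 (even_card_of_simple hG)
  have ik : ∀ t : G, orderOf t = 2 → cs(t) = k := fun t ht => by
    have t1 := ne_one_of_orderOf_two ht
    rcases all t t1 with e | e | e
    · obtain ⟨N, hN, ho, h⟩ := H42.zstar (z := t) ⟨ht, fun g => iso t1 e (isConj_iff.2 ⟨g, rfl⟩)⟩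
      rcases hN.eq_bot_or_eq_top with rfl | rfl
      · exact absurd (eq_one_of_comm hG t1 fun z _ => mul_inv_eq_iff_eq_mul.1
          (mul_inv_eq_one.1 (mem_bot.1 (h z)))) t1
      · exact absurd (card_top (G := G) ▸ ho) (Nat.not_odd_iff_even.2 (even_iff_two_dvd.2 ev))
    · exact e
    · obtain ⟨y', h1, h2⟩ := exists_comm Nat.prime_two (w := y) (ym ▸ m2) ht
      exact absurd h2.symm (nc t1 (cj1 y1 h1) e ((cs_of_isConj h1).symm.trans ym))
  obtain ⟨u, hu, k2⟩ := exists_central Nat.prime_two ev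
  rw [ik u hu] at k2
  have O : ∀ t z : G, orderOf t = 2 → IsConj y z → Commute t z → 𝒞[t] ≤ 𝒞[z] := fun t z ht h hc =>
    maxk t z (ik t ht) (ne_one_of_orderOf_two ht) hc (by
      rw [ht, ← orderOf_eq_of_isConj h, yo, Nat.coprime_primes Nat.prime_two hq]
      exact fun c => k2 (c ▸ hqk))
  have uniq : ∀ t z z' : G, orderOf t = 2 → IsConj y z → IsConj y z' → Commute t z → Commute t z' →
      z' = z := fun t z z' ht h h' c c' => iso (cj1 y1 h) ((cs_of_isConj h).symm.trans ym)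
    (h.symm.trans h') (mem_cent.1 (O t z ht h c (mem_cent.2 c'.symm))).symm
  obtain ⟨z, hz, zu⟩ := exists_comm Nat.prime_two (w := y) (ym ▸ m2) hu
  have zm := (cs_of_isConj hz).symm.trans ym
  obtain ⟨g, hg, hgu⟩ := SetLike.not_le_iff_exists.1 fun c : (𝒞[z] : Subgroup G) ≤ 𝒞[u] =>
    km (by have := index_dvd_of_le c; rwa [ik u hu, zm] at this)
  obtain ⟨v, hv, zv⟩ : ∃ v, IsConj u v ∧ ¬ Commute z v := by
    by_contra c
    push Not at c
    exact cj1 y1 hz (eq_one_of_comm hG (ne_one_of_orderOf_two hu) c)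
  have vo : orderOf v = 2 := (orderOf_eq_of_isConj hv).symm.trans hu
  have sw : ∀ u : G, orderOf u = 2 → Commute z u → ∃ e : G, e * e = 1 ∧ e * u * e⁻¹ = v ∧
      Commute v (e * z * e⁻¹) := fun u hu zu => by
    obtain ⟨e, -, e2, he⟩ := exists_invol_conj_of_odd (mul_self_of_orderOf_two hu)
      (mul_self_of_orderOf_two vo) (Nat.not_even_iff_odd.1 fun c => by
        obtain ⟨s2, su, sv⟩ := central_involution (mul_self_of_orderOf_two hu)
          (mul_self_of_orderOf_two vo) c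
        exact zv (mem_cent.1 (O _ z s2 hz (mem_cent.1 (O u z hu hz zu.symm (mem_cent.2 su)))
          (mem_cent.2 sv.symm))).symm)
    exact ⟨e, e2, he, he ▸ zu.symm.map (MulAut.conj e)⟩
  obtain ⟨e, e2, he, hc⟩ := sw u hu zu
  obtain ⟨f, f2, hf, hc'⟩ := sw (g * u * g⁻¹) ((orderOf_conj' g u).trans hu) (by
    have := zu.map (MulAut.conj g)
    rwa [MulAut.conj_apply, mem_cent'.1 hg] at this)
  have cz : ∀ a : G, IsConj y (a * z * a⁻¹) := fun a => hz.trans (isConj_iff.2 ⟨a, rfl⟩)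
  have h1 := uniq v _ _ vo (cz e) (cz f) hc hc'
  have ei := inv_eq_of_mul_eq_one_left e2
  have fi := inv_eq_of_mul_eq_one_left f2
  have h2 : Commute (f⁻¹ * e) z := mul_inv_eq_iff_eq_mul.1 (by
    rw [show f⁻¹ * e * z * (f⁻¹ * e)⁻¹ = f⁻¹ * (e * z * e⁻¹) * f by group, ← h1]; group)
  have h3 : e * (f⁻¹ * e) * e⁻¹ = (f⁻¹ * e)⁻¹ := by
    rw [mul_inv_rev, inv_inv, mul_assoc, mul_inv_cancel_right, ei, fi]
  have w1 : f⁻¹ * e ≠ 1 := fun c => hgu (mem_cent'.2 ((MulAut.conj e).injective (by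
    rw [inv_mul_eq_one.1 c] at hf
    exact hf.trans he.symm)))
  have h4 : orderOf (f⁻¹ * e) = 2 := orderOf_eq_prime (sq_eq_one_of_isConj_inv (by
    rcases all _ w1 with c | c | c
    · exact c ▸ m2
    · exact c ▸ k2
    · exact absurd h2 (nc w1 (cj1 y1 hz) c zm)) (isConj_iff.2 ⟨e, h3⟩)) w1
  refine zv (uniq _ _ _ h4 hz (cz e) h2 ?_ ▸ hc.symm)
  have := h2.map (MulAut.conj e)
  rw [MulAut.conj_apply, h3] at this
  exact Commute.inv_left_iff.1 this

theorem abc (h : Set.ncard {m : ℕ | ∃ x : G, x ∉ center G ∧ m = cs(x)} = 3) : AbC G := by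
  by_contra c
  obtain ⟨x, y, y1, h1, h2⟩ : ∃ x y : G, y ≠ 1 ∧ 𝒞[x] ≤ 𝒞[y] ∧ ¬ 𝒞[y] ≤ 𝒞[x] := by
    by_contra c'
    push Not at c'
    exact c (abc_of_antichain c')
  have hne : cs(y) ≠ cs(x) := fun e => h2 (eq_of_cs h1 e.symm).ge
  have mem : ∀ z : G, z ≠ 1 → cs(z) ∈ {m : ℕ | ∃ x : G, x ∉ center G ∧ m = cs(x)} := fun z hz =>
    ⟨z, by rwa [center_eq_bot_of_simple hG, mem_bot], rfl⟩
  have hx := mem x fun e => h2 fun g _ => mem_cent.2 (by simp [e])
  have hy := mem y y1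
  obtain ⟨a, b, d, -, -, -, e⟩ := Set.ncard_eq_three.1 h
  obtain ⟨n, hn⟩ : ∃ n, ∀ z : G, z ≠ 1 → cs(z) = cs(y) ∨ cs(z) = cs(x) ∨ cs(z) = n := by
    simp only [e, Set.mem_insert_iff, Set.mem_singleton_iff] at hx hy mem
    rcases hx with hx | hx | hx <;> rcases hy with hy | hy | hy <;> first
      | exact absurd (hy.trans hx.symm) hne
      | exact ⟨a, fun z hz => by have := mem z hz; omega⟩
      | exact ⟨b, fun z hz => by have := mem z hz; omega⟩
      | exact ⟨d, fun z hz => by have := mem z hz; omega⟩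
  exact c (abc_of_three hG rfl y1 rfl (index_dvd_of_le h1) hne hn)

end simple

/-- Simple groups of conjugate type rank three. For a finite group G consider the set of indices of the centralizers of the non-central elements of G. Then G is a non-abelian simple group for which this set has exactly three members if and only if G is isomorphic to PSL(2, 2^m) for some m ≥ 2. -/
theorem result (G : Type*) [Group G] [Finite G] :
    (IsSimpleGroup G ∧ ¬ IsMulCommutative G ∧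
        Set.ncard {m : ℕ | ∃ x : G, x ∉ Subgroup.center G ∧ m = (Subgroup.centralizer ({x} : Set G)).index} = 3) ↔
      ∃ (m : ℕ) (F : Type) (_ : Field F) (_ : Fintype F), 2 ≤ m ∧ Fintype.card F = 2 ^ m ∧
        Nonempty (G ≃* Matrix.ProjectiveSpecialLinearGroup (Fin 2) F) := by
  constructor
  · rintro ⟨_, hG, h⟩
    obtain ⟨K, _, _, _, h4, ⟨e⟩⟩ := (abc hG h).sl2_of_simple hG
    obtain ⟨n, hn, hK⟩ := exists_two_le_of_four_le (CharP.cast_eq_zero K 2) h4
    obtain ⟨e'⟩ := nonempty_sl_equiv_psl K (CharP.cast_eq_zero K 2)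
    exact ⟨n, K, inferInstance, inferInstance, hn, Nat.card_eq_fintype_card.symm.trans hK,
      ⟨e.trans e'⟩⟩
  · rintro ⟨n, K, _, _, hn, hK, ⟨e⟩⟩
    rw [← Nat.card_eq_fintype_card] at hK
    have h2 := two_eq_zero_of_card (K := K) (n := n) (by omega) hK
    have h4 : 4 ≤ Nat.card K := hK ▸ Nat.pow_le_pow_right two_pos hn
    obtain ⟨e'⟩ := nonempty_sl_equiv_psl K h2
    replace e := e.trans e'.symm
    have := sl2e_simple h2 h4
    have hS : IsSimpleGroup G := e.isSimpleGroup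
    obtain ⟨a, ha⟩ : ∃ a, Nat.card K = a + 1 := ⟨Nat.card K - 1, by omega⟩
    have ao : ¬ 2 ∣ a := fun c => by
      have := even_iff_two_dvd.1 (sl2e_even_card h2)
      omega
    have hc : Nat.card G = (a + 1) * (a * (a + 2)) := by
      rw [Nat.card_congr e.toEquiv, sl2e_card, ha]
      exact congrArg _ (Nat.sub_eq_of_eq_add (by ring))
    have cc : ∀ x : G, Nat.card (𝒞[x] : Subgroup G) = Nat.card (𝒞[e x] : Subgroup _) := fun x =>
      Nat.eq_of_mul_eq_mul_right (cs_pos x) (by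
        rw [card_cent_mul_cs, ← cs_equiv e, card_cent_mul_cs, Nat.card_congr e.toEquiv])
    have hG : ¬ IsMulCommutative G := fun c => by
      obtain ⟨t, ht⟩ := sl2e_exists_invol h2
      have h1 := cc (e.symm t)
      rw [e.apply_symm_apply, sl2e_card_cent_invol h2 ht, centralizer_eq_top_iff_subset.2 (by
        rw [center_eq_top]; exact Set.subset_univ _), card_top, hc, ha] at h1
      have h3 := Nat.eq_of_mul_eq_mul_left (by omega) (h1.trans (mul_one _).symm)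
      have := Nat.eq_one_of_mul_eq_one_left h3
      omega
    have i2 : ∀ x : G, orderOf x = 2 → cs(x) = a * (a + 2) := fun x hx => by
      have h1 := card_cent_mul_cs x
      rw [cc, sl2e_card_cent_invol h2 ((e.orderOf_eq x).trans hx), hc, ha] at h1
      exact Nat.eq_of_mul_eq_mul_left (by omega) h1
    have i3 : ∀ x : G, x * x ≠ 1 → (Nat.card (𝒞[x] : Subgroup G) = a ∧ cs(x) = (a + 1) * (a + 2)) ∨
        (Nat.card (𝒞[x] : Subgroup G) = a + 2 ∧ cs(x) = (a + 1) * a) := fun x hx => by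
      have h1 := card_cent_mul_cs x
      rw [hc] at h1
      rcases (sl2e_cent_cyclic h2 (g := e x) (by rwa [← map_mul, e.map_ne_one_iff])).2 with c | c
      · rw [← cc, ha, Nat.add_sub_cancel] at c
        exact .inl ⟨c, Nat.eq_of_mul_eq_mul_left (show 0 < a by omega) (by rw [← c, h1, c]; ring)⟩
      · rw [← cc, ha] at c
        exact .inr ⟨c, Nat.eq_of_mul_eq_mul_left (show 0 < a + 2 by omega)
          (by rw [← c, h1, c]; ring)⟩
    have hZ : ∀ x : G, x ∉ center G ↔ x ≠ 1 := fun x => by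
      rw [center_eq_bot_of_simple hG, mem_bot]
    have ex : ∀ r, r.Prime → r ≠ 2 → r ∣ a * (a + 2) → ∃ x : G, x ≠ 1 ∧ x * x ≠ 1 ∧
        r ∣ Nat.card (𝒞[x] : Subgroup G) := fun r hr r2 h => by
      have := Fact.mk hr
      obtain ⟨x, hx⟩ := exists_prime_orderOf_dvd_card' (G := G) r (hc ▸ h.mul_left _)
      refine ⟨x, fun c => hr.one_lt.ne (by rw [← hx, c, orderOf_one]), fun c => r2 ?_,
        hx ▸ Nat.card_zpowers x ▸ card_dvd_of_le (zpowers_le_cent x)⟩
      exact (Nat.prime_dvd_prime_iff_eq hr Nat.prime_two).1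
        (hx ▸ orderOf_dvd_of_pow_eq_one ((sq x).trans c))
    have nd : ∀ r, r.Prime → r ∣ a → r ∣ a + 2 → False := fun r hr h h' => ao
      ((Nat.prime_dvd_prime_iff_eq hr Nat.prime_two).1 ((Nat.dvd_add_right h).1 h') ▸ h)
    refine ⟨hS, hG, Set.ncard_eq_three.2 ⟨a * (a + 2), (a + 1) * (a + 2), (a + 1) * a,
      by nlinarith, by nlinarith, by nlinarith, Set.Subset.antisymm ?_ ?_⟩⟩
    · rintro _ ⟨x, hx, rfl⟩
      by_cases c : x * x = 1
      · exact .inl (i2 x (orderOf_two_of c ((hZ x).1 hx)))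
      · exact .inr ((i3 x c).imp (·.2) (·.2))
    · rintro _ (rfl | rfl | rfl)
      · obtain ⟨t, ht⟩ := sl2e_exists_invol h2
        have h1 := (e.symm.orderOf_eq t).trans ht
        exact ⟨_, (hZ _).2 (ne_one_of_orderOf_two h1), (i2 _ h1).symm⟩
      · obtain ⟨r, hr, h⟩ := Nat.exists_prime_and_dvd (n := a) (by omega)
        obtain ⟨x, x1, x2, hx⟩ := ex r hr (fun c => ao (c ▸ h)) (h.mul_right _)
        exact ⟨x, (hZ x).2 x1, ((i3 x x2).resolve_right fun c => nd r hr h (c.1 ▸ hx)).2.symm⟩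
      · obtain ⟨r, hr, h⟩ := Nat.exists_prime_and_dvd (n := a + 2) (by omega)
        obtain ⟨x, x1, x2, hx⟩ := ex r hr (fun c => ao (by subst c; omega)) (h.mul_left _)
        exact ⟨x, (hZ x).2 x1, ((i3 x x2).resolve_left fun c => nd r hr (c.1 ▸ hx) h).2.symm⟩

end Cfsg.Agent.S3192
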