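import Cfsg.Statements.S2508
import Cfsg.Agent.H66.PSL2Cent
import Cfsg.Agent.H67.FinField

set_option autoImplicit false
open Cfsg

namespace Cfsg.Agent.S2508


/-- Let F be a finite field with q elements, q odd and q ≥ 7. If q ≡ 1 (mod 4) the conjugacy class sizes of PSL(2,F) are exactly 1, (q² − 1)/2, q(q + 1)/2, q(q − 1) and q(q + 1); if q ≡ 3 (mod 4) they are exactly 1, (q² − 1)/2, q(q − 1)/2, q(q + 1) and q(q − 1). -/
theorem result {F : Type*} [Field F] [Fintype F]
    (hodd : ¬ 2 ∣ Fintype.card F) (h7 : 7 ≤ Fintype.card F) :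
    (Fintype.card F % 4 = 1 →
      Set.range (fun g : (Matrix.ProjectiveSpecialLinearGroup (Fin 2) F) => (Subgroup.centralizer ({g} : Set (Matrix.ProjectiveSpecialLinearGroup (Fin 2) F))).index) =
        {1, (Fintype.card F ^ 2 - 1) / 2, Fintype.card F * (Fintype.card F + 1) / 2,
          Fintype.card F * (Fintype.card F - 1), Fintype.card F * (Fintype.card F + 1)}) ∧
    (Fintype.card F % 4 = 3 →
      Set.range (fun g : (Matrix.ProjectiveSpecialLinearGroup (Fin 2) F) => (Subgroup.centralizer ({g} : Set (Matrix.ProjectiveSpecialLinearGroup (Fin 2) F))).index) =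
        {1, (Fintype.card F ^ 2 - 1) / 2, Fintype.card F * (Fintype.card F - 1) / 2,
          Fintype.card F * (Fintype.card F + 1), Fintype.card F * (Fintype.card F - 1)}) := by
  have h2 : (2 : F) ≠ 0 := H67.two_ne_zero_of_odd (Nat.odd_iff.2 (by omega))
  have e1 : ∃ x : Matrix.ProjectiveSpecialLinearGroup (Fin 2) F,
      (Subgroup.centralizer ({x} : Set (Matrix.ProjectiveSpecialLinearGroup (Fin 2) F))).index = 1 :=
    ⟨_, H66.cs_central (Or.inl rfl)⟩
  have e2 : ∃ x : Matrix.ProjectiveSpecialLinearGroup (Fin 2) F,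
      (Subgroup.centralizer ({x} : Set (Matrix.ProjectiveSpecialLinearGroup (Fin 2) F))).index =
        (Fintype.card F ^ 2 - 1) / 2 :=
    ⟨H66.toPSL F (H66.upT 1), by
      rw [H66.cs_unipotent (H66.nonSc_upT one_ne_zero) (by rw [H66.tr2_upT]; norm_num),
        H66.gcd_two_of_two_ne_zero h2]⟩
  have e3 : ∃ x : Matrix.ProjectiveSpecialLinearGroup (Fin 2) F,
      (Subgroup.centralizer ({x} : Set (Matrix.ProjectiveSpecialLinearGroup (Fin 2) F))).index =
        Fintype.card F * (Fintype.card F - 1) := by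
    obtain ⟨x, hx, hs⟩ := H66.exists_nonsplit (F := F)
    refine ⟨_, H66.cs_nonsplit (H66.tr2_ne_zero_of_orderOf fun h => ?_) hs⟩
    have := Nat.le_of_dvd (by norm_num) h
    rw [Nat.card_eq_fintype_card] at hx
    omega
  have e4 : ∃ x : Matrix.ProjectiveSpecialLinearGroup (Fin 2) F,
      (Subgroup.centralizer ({x} : Set (Matrix.ProjectiveSpecialLinearGroup (Fin 2) F))).index =
        Fintype.card F * (Fintype.card F + 1) := by
    obtain ⟨x, hx, ht, hs⟩ := H66.exists_split_regular (F := F) (by omega)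
    refine ⟨_, H66.cs_split ht (H66.tr2_ne_zero_of_orderOf fun h => ?_) hs⟩
    have := Nat.le_of_dvd (by norm_num) h
    omega
  constructor <;> intro hq <;> ext m <;>
    simp only [Set.mem_range, Set.mem_insert_iff, Set.mem_singleton_iff] <;> constructor
  · rintro ⟨x, rfl⟩
    obtain ⟨g, rfl⟩ := H66.toPSL_surjective x
    by_cases hg : H66.NonSc g.1
    · by_cases ht : H66.tr2 g ^ 2 = 4
      · rw [H66.cs_unipotent hg ht, H66.gcd_two_of_two_ne_zero h2]; simp
      · by_cases h0 : H66.tr2 g = 0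
        · rw [H66.cs_inv_one h2 h0 hq]; simp
        · by_cases hs : H66.Split (H66.tr2 g)
          · rw [H66.cs_split ht h0 hs]; simp
          · rw [H66.cs_nonsplit h0 hs]; simp
    · rw [H66.cs_central ((H66.not_nonSc_iff g).1 hg)]; simp
  · rintro (rfl | rfl | rfl | rfl | rfl)
    exacts [e1, e2, ⟨_, H66.cs_inv_one h2 (H66.tr2_comp2 0) hq⟩, e3, e4]
  · rintro ⟨x, rfl⟩
    obtain ⟨g, rfl⟩ := H66.toPSL_surjective x
    by_cases hg : H66.NonSc g.1
    · by_cases ht : H66.tr2 g ^ 2 = 4
      · rw [H66.cs_unipotent hg ht, H66.gcd_two_of_two_ne_zero h2]; simp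
      · by_cases h0 : H66.tr2 g = 0
        · rw [H66.cs_inv_three h2 h0 hq]; simp
        · by_cases hs : H66.Split (H66.tr2 g)
          · rw [H66.cs_split ht h0 hs]; simp
          · rw [H66.cs_nonsplit h0 hs]; simp
    · rw [H66.cs_central ((H66.not_nonSc_iff g).1 hg)]; simp
  · rintro (rfl | rfl | rfl | rfl | rfl)
    exacts [e1, e2, ⟨_, H66.cs_inv_three h2 (H66.tr2_comp2 0) hq⟩, e4, e3]

end Cfsg.Agent.S2508
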