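import Cfsg.Statements.S3071
import Cfsg.Agent.H73.ZJSC
import Cfsg.Agent.H61.Transfer
import Cfsg.Agent.H60.ZJFusion

set_option autoImplicit false
open Cfsg

namespace Cfsg.Agent.S3071

open Subgroup Cfsg.Agent.H73 Cfsg.Agent.H72 Cfsg.Agent.H61

/-- Let p be an odd prime and S a Sylow p-subgroup of the finite group G such that, for every subgroup P with Z(S) ≤ P ≤ S, the normalizer N_G(P) has no section isomorphic to SL₂(p). Let J(S) be the subgroup generated by the abelian subgroups of S of largest order. Then two elements of S are conjugate in G if and only if they are conjugate in N_G(Z(J(S))). -/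
theorem result {G : Type*} [Group G] [Finite G] {p : ℕ} [Fact p.Prime]
    (hp : p ≠ 2) (S : Sylow p G)
    (hfree : ∀ P : Subgroup G, (S : Subgroup G) ⊓ Subgroup.centralizer ((S : Subgroup G) : Set G) ≤ P → P ≤ S →
      ¬ ∃ (H K : Subgroup G) (hK : (K.subgroupOf H).Normal), H ≤ Subgroup.normalizer (P : Set G) ∧
        Nonempty ((H ⧸ K.subgroupOf H) ≃* Matrix.SpecialLinearGroup (Fin 2) (ZMod p))) :
    ∀ x ∈ S, ∀ y ∈ S, (∃ g : G, g * x * g⁻¹ = y) ↔
      ∃ n ∈ Subgroup.normalizer (Cfsg.centerThompsonAOf (S : Subgroup G) : Set G), n * x * n⁻¹ = y := by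
  rw [H23.centerThompsonAOf_eq]
  have hS := isSylowIn_top S
  have hW : IsConjugacyFunctor p (H23.zj 0 : Subgroup G → Subgroup G) := fun R hR =>
    ⟨H23.zj_le 0 R, H23.zj_ne_bot (dvd_zero p) hR,
      fun g => H23.zj_map (MulAut.conj g).injective 0 R⟩
  set Z := (S : Subgroup G) ⊓ centralizer ((S : Subgroup G) : Set G) with hZ
  have hloc : ∀ T, Z ≤ T → T ≤ S → FN p ⊤ S T → CFin (normalizer (T : Set G))
      (H23.zj 0 (S ⊓ normalizer (T : Set G))) (S ⊓ normalizer (T : Set G)) := by
    intro T h1 h2 hFN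
    rw [FN, top_inf_eq] at hFN
    obtain ⟨R, hR⟩ := hFN.exists_sylow
    refine cfin_of_sub inf_le_right ((H23.zj_le 0 _).trans inf_le_right) ?_
    rw [← zj_subgroupOf 0 inf_le_right, ← hR, ← H23.centerThompsonAOf_eq]
    refine cfin_of_controls (H60.zj_controls_of_not_involves hp (fun h => hfree T h1 h2 ?_) R)
    have h3 : Function.Surjective (H60.qdLin p) := fun A => ⟨H60.qdEmb p A, by
      apply Subtype.ext
      rw [H60.qdEmb_apply]
      exact (Matrix.eta_fin_two A.1).symm⟩
    obtain ⟨K, f, hf⟩ := H94.involves_iff.1 (H62.inv_trans (H62.inv_of_surj _ h3) h)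
    let e := (K.equivMapOfInjective _ (normalizer (T : Set G)).subtype_injective).symm
    let f' := f.comp e.toMonoidHom
    have hf' : Function.Surjective f' := hf.comp e.surjective
    have h4 : (f'.ker.map (Subgroup.subtype _)).subgroupOf _ = f'.ker :=
      comap_map_eq_self_of_injective (subtype_injective _) _
    have h5 : ((f'.ker.map (Subgroup.subtype _)).subgroupOf
        (K.map (normalizer (T : Set G)).subtype)).Normal := by rw [h4]; infer_instance
    exact ⟨_, f'.ker.map (Subgroup.subtype _), h5, map_subtype_le _,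
      ⟨(QuotientGroup.quotientMulEquivOfEq h4).trans
        (QuotientGroup.quotientKerEquivOfSurjective _ hf')⟩⟩
  have key : ∀ T : Subgroup G, WP p (H23.zj 0) ⊤ S T → Z ≤ T →
      ∀ A ≤ (S : Subgroup G) ⊓ normalizer (T : Set G), ∀ g ∈ normalizer (T : Set G),
        cj g A ≤ (S : Subgroup G) ⊓ normalizer (T : Set G) →
          ∃ x ∈ normalizer (H23.zj 0 (S : Subgroup G) : Set G), Same A x g := by
    refine wp_induction hW hS (fun T hT h hT1 A hA g hg hgA => ?_)
      (fun T hT h hT' ih hT1 A hA g hg hgA => ?_)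
    · obtain ⟨x, hx, hx'⟩ := hloc T hT1 hT.le hT.fn A hA g hg hgA
      rw [h] at hx
      exact ⟨x, hx.2, hx'⟩
    · obtain ⟨x, hx, hx'⟩ := hloc T hT1 hT.le hT.fn A hA g hg hgA
      have h1 : Z ≤ (S : Subgroup G) ⊓ normalizer (T : Set G) := le_inf inf_le_left
        (inf_le_right.trans ((centralizer_anti hT.le).trans (centralizer_le_normalizer _)))
      obtain ⟨y, hy, hy'⟩ := ih (fun z hz => H23.mem_zj_of_mem_centralizer (h1 hz) (pow_zero z)
        (centralizer_anti ((H23.sSup_maxAb_le 0 _).trans inf_le_left) hz.2)) A (hA.trans h) x hx.2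
        (by rw [hx'.cj_eq]; exact hgA.trans h)
      exact ⟨y, hy, hy'.trans hx'⟩
  have main := alperin_centric hS (𝓕 := {T | WP p (H23.zj 0) ⊤ (S : Subgroup G) T})
    (fun U hU => ⟨hU.le, hU.fn⟩) (exists_WP hW hS)
    (E := fun A g => ∃ x ∈ normalizer (H23.zj 0 (S : Subgroup G) : Set G), Same A x g)
    (fun A c _ hc => ⟨1, one_mem _, same_one_of_mem_centralizer hc⟩)
    (by
      rintro A g h ⟨x, hx, hx'⟩ ⟨y, hy, hy'⟩
      exact ⟨y * x, mul_mem hy hx, hx'.comp hy'⟩)
    (by
      rintro A B g hB ⟨x, hx, hx'⟩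
      exact ⟨x, hx, hx'.restrict hB⟩)
    (by
      intro T hT hC g _ hg
      have h5 : T ≤ (S : Subgroup G) ⊓ normalizer (T : Set G) := le_inf hT.le le_normalizer
      exact key T hT ((inf_le_inf_left _ (centralizer_anti hT.le)).trans hC) T h5 g hg
        (by rwa [cj_eq_of_mem_normalizer hg]))
  rintro x hx y hy
  refine ⟨?_, fun ⟨n, _, h⟩ => ⟨n, h⟩⟩
  rintro ⟨g, rfl⟩
  obtain ⟨n, hn, h⟩ := main (zpowers x) (zpowers_le.2 hx) g (mem_top g)
    (by rw [cj_zpowers]; exact zpowers_le.2 hy)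
  exact ⟨n, hn, h x (mem_zpowers x)⟩

end Cfsg.Agent.S3071
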