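import Cfsg.Statements.S1159
import Cfsg.Agent.H13.ReeCls

set_option autoImplicit false
open Cfsg

namespace Cfsg.Agent.S1159

open Cfsg.Agent.H13
set_option linter.style.haveILetI false

/-- In the small Ree group ²G₂(q), q = 3^(2m+1) with m ≥ 1, realised as G¹ inside the Chevalley group G₂ over the field with q elements (θ the 3^m-th power map), with `r = 3^(m+1)`: a natural number is the order of an element of `G¹` iff it divides one of `6`, `9`, `q - 1`, `(q + 1)/2`, `q - r + 1`, `q + r + 1`. -/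
theorem result {K : Type*} [Field K] [Fintype K] {m : ℕ} (hm : 1 ≤ m) (hK : Fintype.card K = 3 ^ (2 * m + 1)) (d : ℕ) :
    (∃ g : ↥(Cfsg.Lie.twistedG2 K (3 ^ m)), orderOf g = d) ↔
      (d ∣ 6 ∨ d ∣ 9 ∨ d ∣ 3 ^ (2 * m + 1) - 1 ∨ d ∣ (3 ^ (2 * m + 1) + 1) / 2 ∨
        d ∣ 3 ^ (2 * m + 1) - 3 ^ (m + 1) + 1 ∨ d ∣ 3 ^ (2 * m + 1) + 3 ^ (m + 1) + 1) := by
  obtain ⟨hc, hq⟩ := ree_par hm hK
  set M := reeModel hK
  haveI := M.finite
  rw [← hc]
  refine ⟨by rintro ⟨g, rfl⟩; exact M.orderOf_cases hq hc (reeModel_ψ hK) g, fun h => ?_⟩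
  obtain ⟨Am, Ap, T1, T2, c1, c2, -⟩ := M.exists_tor hq hc (reeModel_ψ hK)
  obtain ⟨y, hy, -⟩ := H66.exists_nonsplit (F := K)
  obtain ⟨x0, -, h0⟩ := exists_zpowers_eq M.isCyclic_H
  obtain ⟨x1, -, h1⟩ := exists_zpowers_eq T1.cyc
  obtain ⟨x2, -, h2⟩ := exists_zpowers_eq T2.cyc
  rw [← M.orderOf_ua one_ne_zero, ← M.orderOf_u one_ne_zero 0 0, ← M.card_H, ← M.orderOf_fy hy, ← c1, ← c2,
    ← h0, ← h1, ← h2] at h
  rcases h with h | h | h | h | h | h <;> exact ⟨_, orderOf_pow_orderOf_div (orderOf_pos _).ne' h⟩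

end Cfsg.Agent.S1159
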