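import Cfsg.Statements.S0581
import Cfsg.Agent.H20.NilHall
import Cfsg.Agent.S0536

set_option autoImplicit false
open Pointwise
open Cfsg

namespace Cfsg.Agent.S0581

open Cfsg.Agent.H49

theorem isNilpotent_of_le {G : Type*} [Group G] {H K : Subgroup G} (h : H ≤ K)
    (hK : Group.IsNilpotent K) : Group.IsNilpotent H :=
  Group.nilpotent_of_mulEquiv (Subgroup.subgroupOfEquivOfLe h)

theorem exists_normal_sylow {G : Type*} [Group G] [Finite G] {K : Subgroup G} (hK : K ≠ ⊥)
    (h : ∀ L : Subgroup G, L < K → Group.IsNilpotent L) :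
    ∃ (q : ℕ) (Q : Subgroup G), q.Prime ∧ IsSylowOf q Q K ∧ Q ≠ ⊥ ∧ K ≤ 𝒩(Q) := by
  by_cases hn : Group.IsNilpotent K
  · obtain ⟨q, hq, hd⟩ := exists_prime_dvd_card hK
    exact ⟨q, _, hq, H20.hall_pcore_of_nil {q} hn, H48.pcore_ne_bot_of_nil hq hn hd,
      H48.le_norm_pcore _ le_rfl⟩
  · obtain ⟨p, q, hp, hq, -, P, Q, hP, hQ, hPQ⟩ := S0536.result (G := K) ⟨hn, fun L hL => by
      have h1 : L.map K.subtype < K := by
        have := (Subgroup.map_subtype_lt_map_subtype (G' := K)).2 hL.lt_top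
        rwa [map_subtype_top] at this
      have := h _ h1
      exact Group.nilpotent_of_mulEquiv (L.equivMapOfInjective _ K.subtype_injective).symm⟩
    refine ⟨q, _, hq, sylowOf_map hq Q, ?_, norm_map_subtype _⟩
    intro e
    rw [Subgroup.map_eq_bot_iff_of_injective _ K.subtype_injective] at e
    rw [e, sup_bot_eq] at hPQ
    apply hn
    have h2 : IsCyclic (P : Subgroup K) := hP
    rw [hPQ] at h2
    have h3 : Group.IsNilpotent (⊤ : Subgroup K) :=
      ⟨1, by rw [Subgroup.upperCentralSeries_one_eq_top_iff]; infer_instance⟩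
    exact Group.isNilpotent_top.1 h3

/-- Wielandt: a nilpotent Hall `π`-subgroup of `M` contains a conjugate of each `π`-subgroup. -/
theorem nil_hall_Jsub {G : Type*} [Group G] [Finite G] (K : Subgroup G) :
    ∀ (π : Set ℕ) (H M : Subgroup G), Group.IsNilpotent H → IsPiHallOf π H M → K ≤ M → IsPi π K →
      ∃ g ∈ M, K ≤ cj g H := by
  induction K using WellFoundedLT.induction with
  | ind K ih =>
    intro π H M hn hH hKM hK
    by_cases hK0 : K = ⊥
    · exact ⟨1, M.one_mem, hK0 ▸ bot_le⟩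
    obtain ⟨q, Q, hq, hQ, hQ0, hQn⟩ := exists_normal_sylow hK0 (fun L hL => by
      obtain ⟨g, -, hg⟩ := ih L hL π H M hn hH (hL.le.trans hKM) (hK.of_le hL.le)
      exact isNilpotent_of_le hg (isNilpotent_cj.2 hn))
    have hqπ : q ∈ π := hQ.pi.mem_of_ne_bot hQ0 (hK.of_le hQ.le)
    have := normal_subgroupOf hQn
    obtain ⟨L₀, hL₀⟩ := Subgroup.exists_right_complement'_of_coprime (N := Q.subgroupOf K)
      (by rw [card_subgroupOf_of_le hQ.le]; exact hQ.coprime)
    set L := L₀.map K.subtype with hLdef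
    have hLK : L ≤ K := Subgroup.map_subtype_le _
    have hc : IsComplIn Q L K := (isComplIn_iff_isComplement' hQ.le hLK).2 (by
      rwa [hLdef, Subgroup.subgroupOf, Subgroup.subgroupOf,
        Subgroup.comap_map_eq_self_of_injective K.subtype_injective])
    have hLh := hQ.compl_of_isComplIn hc
    have hlt : L < K := lt_of_le_of_ne hLK fun e =>
      hQ0 (hQ.pi.eq_bot (hLh.pi.of_le (e ▸ hQ.le)))
    obtain ⟨y, hy, hQy⟩ := sylowOf_Jsub (H20.sylow_pcore_of_nil_hall hn hH hqπ) (hQ.le.trans hKM)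
      hQ.pi
    have hH' : IsPiHallOf (π ∩ {q}ᶜ) (piCoreOf (π ∩ {q}ᶜ) H) M :=
      (H20.hall_pcore_of_nil _ hn).trans hH Set.inter_subset_left
    have hcent : cj y (piCoreOf (π ∩ {q}ᶜ) H) ≤ 𝒞(Q) := by
      refine le_trans ?_ (cent_anti hQy)
      rw [← cj_centralizer]
      exact cj_mono y (H48.cent_of_nil hn (H48.pcore_le _ _) (H48.pcore_le _ _) hH'.pi
        (H48.pcore_isPi _ _) fun p _ h1 h2 => h1.2 h2)
    obtain ⟨n, hnM, hLn⟩ := ih L hlt (π ∩ {q}ᶜ) (cj y (piCoreOf (π ∩ {q}ᶜ) H)) (M ⊓ 𝒩(Q))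
      (isNilpotent_cj.2 (isNilpotent_of_le (H48.pcore_le _ _) hn))
      ((hH'.cj_of_mem hy).sub (le_inf (cj_le_of_mem hH'.le hy) (norm_of_cent hcent)) inf_le_left)
      (le_inf (hLK.trans hKM) (hLK.trans hQn)) ((hK.of_le hLK).inter hLh.pi)
    refine ⟨n * y, M.mul_mem hnM.1 hy, ?_⟩
    rw [← (isComplIn_iff.1 hc).1.sup_eq, cj_mul]
    apply sup_le
    · rw [← cj_eq_of_mem_norm hnM.2]
      exact cj_mono n (hQy.trans (cj_mono y (H48.pcore_le _ _)))
    · exact hLn.trans (cj_mono n (cj_mono y (H48.pcore_le _ _)))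

/-- Let H be a nilpotent subgroup of a finite group G whose order is coprime to its index, and K a subgroup every prime divisor of whose order divides the order of H. Then K lies in some conjugate of H. -/
theorem result {G : Type*} [Group G] [Finite G] (H K : Subgroup G) (hH : Group.IsNilpotent H) (hHall : (Nat.card H).Coprime H.index) (hK : ∀ p : ℕ, p.Prime → p ∣ Nat.card K → p ∣ Nat.card H) : ∃ x : G, K ≤ MulAut.conj x • H := by
  obtain ⟨g, -, hg⟩ := nil_hall_Jsub K (primesOf H) H ⊤ hH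
    (IsHallOf.hall ⟨le_top, by simpa using hHall⟩) le_top (fun p hp hd => ⟨hp, hK p hp hd⟩)
  exact ⟨g, hg⟩

end Cfsg.Agent.S0581
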