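import Cfsg.Statements.S4034
import Cfsg.Agent.H82.Conj
import Cfsg.Agent.H82.Coset
import Cfsg.Agent.H82.ClassSize
import Cfsg.Agent.H2.Basic
import Cfsg.Agent.H22.PSolvable
import Cfsg.Agent.S0143
import Cfsg.Agent.S0003

set_option autoImplicit false
open Cfsg

namespace Cfsg.Agent.S4034

open Subgroup

theorem hyp_map {G H : Type*} [Group G] [Finite G] [Group H] {p : ℕ} (hp : p.Prime)
    (f : G →* H) (hf : Function.Surjective f)
    (h : ∀ x : G, (orderOf x).Coprime p → ∃ k : ℕ, (centralizer ({x} : Set G)).index = p ^ k) :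
    ∀ x : H, (orderOf x).Coprime p → ∃ k : ℕ, (centralizer ({x} : Set H)).index = p ^ k := by
  intro x hx
  obtain ⟨x, rfl⟩ := hf x
  obtain ⟨u, -, e, hu⟩ := H82.exists_coprime_lift f x hx
  obtain ⟨k, hk⟩ := h u hu
  have := H82.index_centralizer_map_dvd f hf u
  rw [hk, e, Nat.dvd_prime_pow hp] at this
  obtain ⟨j, -, hj⟩ := this
  exact ⟨j, hj⟩

theorem solvable_aux {p : ℕ} (hp : p.Prime) (n : ℕ) : ∀ {G : Type*} [Group G] [Finite G],
    Nat.card G = n →
    (∀ x : G, (orderOf x).Coprime p → ∃ k : ℕ, (centralizer ({x} : Set G)).index = p ^ k) →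
    Group.IsSolvable G := by
  induction n using Nat.strong_induction_on with
  | _ n ih =>
  intro G _ _ hn h
  have := Fact.mk hp
  by_cases hs : IsSimpleGroup G
  · by_cases hG : IsPGroup p G
    · have := hG.isNilpotent
      infer_instance
    · obtain ⟨q, hq, hqd, hqp⟩ : ∃ q : ℕ, q.Prime ∧ q ∣ Nat.card G ∧ q ≠ p := by
        by_contra hc
        push Not at hc
        exact hG (IsPGroup.iff_card.mpr (H82.eq_prime_pow_of_forall Nat.card_pos.ne' hc))
      have := Fact.mk hq
      obtain ⟨x, hx⟩ := exists_prime_orderOf_dvd_card' (G := G) q hqd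
      obtain ⟨k, hk⟩ := h x (by rw [hx]; exact (Nat.coprime_primes hq hp).mpr hqp)
      have h1 := S0143.result p k hp x (by
        rintro rfl
        rw [orderOf_one] at hx
        exact hq.one_lt.ne hx) hk
      have := Fact.mk h1
      have : IsCyclic G := isCyclic_of_prime_card rfl
      exact Group.isSolvable_of_comm fun a b => IsCyclic.commGroup.mul_comm a b
  · rcases subsingleton_or_nontrivial G with hG | hG
    · infer_instance
    obtain ⟨N, hN, h1, h2⟩ : ∃ N : Subgroup G, N.Normal ∧ N ≠ ⊥ ∧ N ≠ ⊤ := by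
      by_contra hc
      push Not at hc
      exact hs ⟨fun N hN => by
        by_cases h : N = ⊥
        · exact Or.inl h
        · exact Or.inr (hc N hN h)⟩
    rw [Group.isSolvable_iff_subgroup_quotient N]
    refine ⟨ih _ (hn ▸ H2.card_lt_of_ne_top h2) rfl ?_, ih _ (hn ▸ H2.card_quotient_lt N h1) rfl
      (hyp_map hp _ (QuotientGroup.mk'_surjective N) h)⟩
    intro x hx
    obtain ⟨k, hk⟩ := h x (by rwa [Subgroup.orderOf_coe])
    have := H82.index_centralizer_normal_dvd N x
    rw [hk, Nat.dvd_prime_pow hp] at this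
    obtain ⟨j, -, hj⟩ := this
    exact ⟨j, hj⟩

theorem comm_of_pCore_eq_bot {G : Type*} [Group G] [Finite G] {p : ℕ} [hp : Fact p.Prime]
    [Group.IsSolvable G] (hO : pCore p G = ⊥)
    (h : ∀ x : G, (orderOf x).Coprime p → ∃ k : ℕ, (centralizer ({x} : Set G)).index = p ^ k)
    (x y : G) (hx : (orderOf x).Coprime p) (hy : (orderOf y).Coprime p) : x * y = y * x := by
  have h1 : ∀ x : G, (orderOf x).Coprime p → pPrimeCore p G ≤ centralizer ({x} : Set G) := by
    intro x hx
    obtain ⟨k, hk⟩ := h x hx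
    apply H82.normal_le_of_coprime_index
    rw [hk]
    exact H22.coprime_card_pPrimeCore.pow_right k
  have h2 : x ∈ pPrimeCore p G := by
    apply H22.IsPSolvable.centralizer_pPrimeCore_le H22.isPSolvable_of_isSolvable hO
    intro z hz
    exact mem_centralizer_singleton_iff.mp (h1 x hx hz)
  exact mem_centralizer_singleton_iff.mp (h1 y hy h2)


/-- Let G be a finite group and p a prime. Every conjugacy class of p-regular elements of G (elements of order prime to p) has p-power size if and only if G has an abelian p-complement, i.e. an abelian subgroup of order prime to p and p-power index. -/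
theorem result {G : Type*} [Group G] [Finite G] {p : ℕ} (hp : p.Prime) :
    (∀ x : G, (orderOf x).Coprime p → ∃ k : ℕ, (ConjClasses.mk x).carrier.ncard = p ^ k) ↔
    (∃ H : Subgroup G, IsMulCommutative H ∧ ¬ p ∣ Nat.card H ∧ ∃ k : ℕ, H.index = p ^ k) := by
  have := Fact.mk hp
  simp only [H82.ncard_carrier_mk]
  constructor
  · intro h
    have := solvable_aux hp _ rfl h
    obtain ⟨k, m, hm, e⟩ := Nat.exists_eq_pow_mul_and_not_dvd (Nat.card_pos (α := G)).ne' p hp.ne_one
    have hcop : m.Coprime (p ^ k) := ((Nat.Prime.coprime_iff_not_dvd hp).mpr hm).symm.pow_right k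
    obtain ⟨H, hH⟩ := S0003.result (G := G) m (p ^ k) (by rw [e, mul_comm]) hcop
    refine ⟨H, ⟨⟨fun a b => ?_⟩⟩, hH ▸ hm, k, ?_⟩
    · have ho : ∀ a : H, (orderOf (a : G)).Coprime p := fun a =>
        Nat.Coprime.coprime_dvd_left (hH ▸ H.orderOf_dvd_natCard a.2)
          ((Nat.Prime.coprime_iff_not_dvd hp).mpr hm).symm
      have h3 := comm_of_pCore_eq_bot (G := G ⧸ pCore p G) H22.pCore_quotient_pCore
        (hyp_map hp _ (QuotientGroup.mk'_surjective _) h) (QuotientGroup.mk' _ a)
        (QuotientGroup.mk' _ b) (Nat.Coprime.coprime_dvd_left (orderOf_map_dvd _ _) (ho a))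
        (Nat.Coprime.coprime_dvd_left (orderOf_map_dvd _ _) (ho b))
      rw [← map_mul, ← map_mul] at h3
      have h4 : ((a * b : H) : G)⁻¹ * ((b * a : H) : G) ∈ pCore p G ⊓ H :=
        ⟨QuotientGroup.eq.mp h3, H.mul_mem (H.inv_mem (a * b).2) (b * a).2⟩
      rw [H22.inf_eq_bot_of_pgroup_coprime H22.isPGroup_pCore
        (hH ▸ ((Nat.Prime.coprime_iff_not_dvd hp).mpr hm).symm), mem_bot, inv_mul_eq_one] at h4
      exact Subtype.ext h4
    · have h5 := H.card_mul_index
      rw [hH, e, mul_comm (p ^ k)] at h5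
      exact Nat.eq_of_mul_eq_mul_left (Nat.pos_of_ne_zero (by rintro rfl; simp at hm)) h5
  · rintro ⟨H, hH, -, k, hk⟩ x hx
    obtain ⟨g, hg⟩ := H82.exists_conj_mem_abelian H hH x (by rw [hk]; exact hx.pow_right k)
    rw [← H82.index_centralizer_conj x g]
    have h1 : H ≤ centralizer ({g⁻¹ * x * g} : Set G) := fun h hh =>
      mem_centralizer_singleton_iff.mpr
        (congrArg Subtype.val (hH.is_comm.comm (⟨h, hh⟩ : H) ⟨_, hg⟩))
    have h2 := index_dvd_of_le h1
    rw [hk, Nat.dvd_prime_pow hp] at h2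
    obtain ⟨j, -, hj⟩ := h2
    exact ⟨j, hj⟩

end Cfsg.Agent.S4034
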