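import Cfsg.Statements.S0375
import Cfsg.Agent.H14.GolayUnique
import Cfsg.Agent.S5622

set_option autoImplicit false
open Cfsg
open scoped Pointwise

namespace Cfsg.Agent.S0375

/-- A doubly even self-dual binary code of length 24 with no words of weight 4 is equivalent to the length-24 code built from the squares modulo 23. -/
theorem result (C : Submodule (ZMod 2) (Fin 24 → ZMod 2)) (hdim : Module.finrank (ZMod 2) C = 12) (horth : ∀ v ∈ C, ∀ w ∈ C, ∑ i, v i * w i = 0) (h4 : ∀ w ∈ C, 4 ∣ hammingNorm w) (hno4 : ∀ w ∈ C, hammingNorm w ≠ 4) : ∃ e : Fin 24 ≃ Cfsg.GolayPt, ∀ w : Cfsg.GolayPt → ZMod 2, w ∈ Cfsg.golayCode ↔ (fun i => w (e i)) ∈ C := by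
  classical
  have hmin : ∀ w ∈ C, w ≠ 0 → 8 ≤ hammingNorm w := fun w hw h0 => by
    have h1 := h4 w hw
    have h2 := hno4 w hw
    have h3 : hammingNorm w ≠ 0 := mt hammingNorm_eq_zero.1 h0
    omega
  have hSt := (S5622.result C hdim horth hmin).2
  let e0 := H14.ptEquiv
  let F : (Fin 24 → ZMod 2) → Finset Cfsg.GolayPt := fun w => Cfsg.support₂ fun a => w (e0 a)
  have hF : ∀ w, F w = (Cfsg.support₂ w).map e0.symm.toEmbedding := fun w => by
    ext a; simp [F, Cfsg.support₂, Finset.mem_map_equiv]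
  have hFinj : Function.Injective F := fun v w h => by
    funext i
    have := congrFun (H14.support₂_injective h) (e0.symm i)
    simpa using this
  have hsd : ∀ v w, F (v + w) = symmDiff (F v) (F w) := fun v w => by
    ext a
    simp only [F, Cfsg.support₂, Finset.mem_filter, Finset.mem_univ, true_and, Finset.mem_symmDiff,
      Pi.add_apply]
    generalize v (e0 a) = x
    generalize w (e0 a) = y
    revert x y; decide
  have hG : H14.GolayLike (F '' C) := by
    refine ⟨⟨0, C.zero_mem, by ext a; simp [F, Cfsg.support₂]⟩, ?_, ?_, ?_, fun S hS => ?_⟩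
    · rintro _ ⟨v, hv, rfl⟩ _ ⟨w, hw, rfl⟩
      exact ⟨v + w, C.add_mem hv hw, hsd v w⟩
    · rintro _ ⟨v, hv, rfl⟩ _ ⟨w, hw, rfl⟩
      have := horth v hv w hw
      rw [H14.dot_eq_card_inter, ZMod.natCast_eq_zero_iff_even] at this
      rwa [hF, hF, ← Finset.map_inter, Finset.card_map]
    · rintro _ ⟨v, hv, rfl⟩
      rw [hF, Finset.card_map]
      exact hno4 v hv
    · obtain ⟨o, ⟨⟨⟨w, hw, rfl⟩, h8⟩, hso⟩, -⟩ := hSt.2 (S.map e0.toEmbedding)
        (by rw [Finset.card_map, hS])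
      refine ⟨F w, ⟨w, hw, rfl⟩, by rw [hF, Finset.card_map, h8], fun a ha => ?_⟩
      simpa [F, Cfsg.support₂] using hso (Finset.mem_map_of_mem _ ha)
  obtain ⟨g, hg⟩ := hG.exists_perm
  have hcard : (F '' C).ncard = 4096 := by
    rw [Set.ncard_image_of_injective _ hFinj]
    have h2 := Module.natCard_eq_pow_finrank (K := ZMod 2) (V := C)
    rw [hdim, Nat.card_zmod] at h2
    exact h2
  have heq : g • H14.CSets = F '' C := Set.eq_of_subset_of_ncard_le
    (by rintro _ ⟨s, hs, rfl⟩; exact hg s hs) (by rw [Set.ncard_smul_set, H14.cSets_ncard, hcard])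
  refine ⟨e0.symm.trans g⁻¹, fun w => ?_⟩
  have h1 : F (fun i => w ((e0.symm.trans g⁻¹) i)) = g • Cfsg.support₂ w := by
    ext a
    rw [H14.mem_perm_smul_finset]
    simp [F, Cfsg.support₂]
  rw [← H14.support_mem_cSets_iff, ← Set.smul_mem_smul_set_iff (a := g), heq, ← h1]
  exact ⟨fun ⟨v, hv, e⟩ => by rw [show (fun i => w ((e0.symm.trans g⁻¹) i)) = v from (hFinj e).symm]; exact hv,
    fun h => ⟨_, h, rfl⟩⟩

end Cfsg.Agent.S0375
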