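import Cfsg.Statements.S0998
import Cfsg.Agent.H34.SimpleTri
import Cfsg.Agent.S0494
import Cfsg.Agent.S0495
import Mathlib.LinearAlgebra.Projectivization.PSL.PSL2

set_option autoImplicit false
open Cfsg

namespace Cfsg.Agent.S0998

/-- A non-cyclic finite simple group whose order has the form p * r * q^b for distinct primes p, q, r is isomorphic to the projective special linear group of dimension 2 over the field with 5 or with 7 elements. -/
theorem result {G : Type*} [Group G] [Finite G] [IsSimpleGroup G] (hG : ¬ IsCyclic G) (p q r b : ℕ) (hp : p.Prime) (hq : q.Prime) (hr : r.Prime) (hpq : p ≠ q) (hpr : p ≠ r) (hqr : q ≠ r) (hG' : Nat.card G = p * r * q ^ b) : (∃ (F : Type) (_ : Field F) (_ : Fintype F), Fintype.card F = 5 ∧ Nonempty (G ≃* Matrix.ProjectiveSpecialLinearGroup (Fin 2) F)) ∨ (∃ (F : Type) (_ : Field F) (_ : Fintype F), Fintype.card F = 7 ∧ Nonempty (G ≃* Matrix.ProjectiveSpecialLinearGroup (Fin 2) F)) := by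
  rcases H34.card_of_prq hG hp hq hr hpq hpr hqr hG' with h | h
  · have := Fact.mk (by norm_num : Nat.Prime 5)
    have : IsSimpleGroup (Matrix.ProjectiveSpecialLinearGroup (Fin 2) (ZMod 5)) :=
      Matrix.ProjectiveSpecialLinearGroup.rank_two_simple (by simp)
    have h5 := H9.gcd_mul_card_psl_two (F := ZMod 5)
    rw [ZMod.card] at h5
    obtain ⟨e⟩ := S0494.result h
    obtain ⟨e'⟩ := S0494.result (G := Matrix.ProjectiveSpecialLinearGroup (Fin 2) (ZMod 5))
      (by norm_num at h5 ⊢; omega)
    exact Or.inl ⟨ZMod 5, inferInstance, inferInstance, ZMod.card 5, ⟨e.trans e'.symm⟩⟩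
  · have := Fact.mk (by norm_num : Nat.Prime 7)
    exact Or.inr ⟨ZMod 7, inferInstance, inferInstance, ZMod.card 7, S0495.result h (ZMod.card 7)⟩

end Cfsg.Agent.S0998
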