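import Cfsg.Statements.S4488
import Cfsg.Agent.H89.PBound

set_option autoImplicit false
open Cfsg

namespace Cfsg.Agent.S4488

set_option linter.style.haveILetI false
open Cfsg.Agent.H5 Cfsg.Agent.H89 Subgroup

/-- Let the finite group G have a faithful p-rational character χ of degree n (all values of χ lie in the field generated over ℚ by a root of unity of order prime to p), and let p^a be the order of a Sylow p-subgroup of G. Then a ≤ Σ_{i ≥ 0} ⌊n / ((p − 1)·p^i)⌋ (a finite sum; the terms vanish once (p − 1)p^i > n). -/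
theorem result {G : Type*} [Group G] [Finite G] (p : ℕ) (hp : p.Prime) (χ : G → ℂ) (hχ : Cfsg.IsCharacter G χ) (hfaith : ∀ g : G, χ g = χ 1 → g = 1) (hrat : (∃ r : ℕ, 0 < r ∧ ¬ p ∣ r ∧ ∀ g : G, χ g ∈ IntermediateField.adjoin ℚ ({Complex.exp (2 * Real.pi * Complex.I / r)} : Set ℂ))) (n : ℕ) (hn : Cfsg.charDegree χ = n) : (Nat.card G).factorization p ≤ ∑ i ∈ Finset.range (n + 1), n / ((p - 1) * p ^ i) := by
  haveI := Fact.mk hp
  obtain ⟨r, hr0, hr, hmem⟩ := hrat
  obtain ⟨P⟩ : Nonempty (Sylow p G) := inferInstance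
  have hc := isCharacter_restrict hχ (P : Subgroup G)
  have hk : charKer hc = ⊥ := eq_bot_iff.2 fun g hg => Subtype.ext (hfaith g hg)
  have hcop : (Nat.card (P : Subgroup G)).Coprime r := by
    rw [P.card_eq_multiplicity]
    exact Nat.Coprime.pow_left _ ((Nat.Prime.coprime_iff_not_dvd hp).2 hr)
  have h1 := index_charKer_le_of_rational hp P.isPGroup' hc (fun τ x => ?_)
    ((H88.charDegree_restrict _ χ).trans hn).le
  · rwa [hk, index_bot, P.card_eq_multiplicity, Nat.pow_le_pow_iff_right hp.one_lt] at h1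
  obtain ⟨m, hm, hτ⟩ := H7.exists_coprime_pow_of_ringEquiv τ
    (Nat.card_pos (α := (P : Subgroup G))).ne'
  obtain ⟨σ, hσ, hσ'⟩ := H7.exists_ringEquiv_pow_fix Nat.card_pos.ne' hr0.ne' hcop hm
  have e1 := H7.ringHom_apply_character τ.toRingHom hτ hc (g := x) pow_card_eq_one'
  have e2 := H7.ringHom_apply_character σ.toRingHom hσ hc (g := x) pow_card_eq_one'
  refine (e1.trans e2.symm).trans ?_
  have h2 : ∀ z ∈ IntermediateField.adjoin ℚ ({Complex.exp (2 * Real.pi * Complex.I / r)} : Set ℂ),
      σ z = z := fun z hz => by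
    induction hz using IntermediateField.adjoin_induction with
    | mem y hy =>
      obtain rfl := hy
      exact hσ' _ (Complex.isPrimitiveRoot_exp r hr0.ne').pow_eq_one
    | algebraMap q => simp
    | add a b _ _ ha hb => rw [map_add, ha, hb]
    | inv a _ ha => rw [map_inv₀, ha]
    | mul a b _ _ ha hb => rw [map_mul, ha, hb]
  exact h2 _ (hmem x)

end Cfsg.Agent.S4488
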