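import Cfsg.Statements.S0981
import Cfsg.Agent.H36.Char2

set_option autoImplicit false
open Cfsg

namespace Cfsg.Agent.S0981

open MulAction Subgroup H36

theorem card_centralizer_of_orderOf {G : Type*} [Group G] [Finite G] {p : ℕ} [Fact p.Prime]
    (P : Sylow p G) (hP : Nat.card (P : Subgroup G) = p) {x : G} (hx : orderOf x = p) :
    Nat.card (centralizer ({x} : Set G)) = Nat.card (centralizer (P : Set G)) := by
  obtain ⟨Q, hQ⟩ := exists_sylow_eq_zpowers P hP hx
  obtain ⟨g, rfl⟩ := exists_smul_eq G P Q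
  rw [← centralizer_zpowers, hQ, H4.coe_sylow_smul, H4.centralizer_map_conj, H4.card_map_conj]
  rfl

theorem not_dvd_of_centralizer {G : Type*} [Group G] [Finite G] {p q : ℕ} [Fact p.Prime]
    (P : Sylow p G) (hP : Nat.card (P : Subgroup G) = p)
    (h : ¬ q ∣ Nat.card (centralizer (P : Set G))) (g : G) (hp : p ∣ orderOf g) :
    ¬ q ∣ orderOf g := by
  intro hq
  obtain ⟨k, hk⟩ := exists_pow_orderOf_eq hp
  apply h
  rw [← card_centralizer_of_orderOf P hP hk]
  exact hq.trans ((centralizer _).orderOf_dvd_natCard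
    (mem_centralizer_singleton_iff.2 (Commute.self_pow g k)))


/-- A simple group of order 4080 is isomorphic to the projective special linear group of dimension 2 over the field with 16 elements. -/
theorem result {G : Type*} [Group G] [Finite G] [IsSimpleGroup G] (h : Nat.card G = 4080) {F : Type*} [Field F] [Fintype F] (hF : Fintype.card F = 16) : Nonempty (G ≃* Matrix.ProjectiveSpecialLinearGroup (Fin 2) F) := by
  have h2 : Fact (Nat.Prime 2) := ⟨Nat.prime_two⟩
  have h3 : Fact (Nat.Prime 3) := ⟨Nat.prime_three⟩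
  have h5 : Fact (Nat.Prime 5) := ⟨by norm_num⟩
  have h17 : Fact (Nat.Prime 17) := ⟨by norm_num⟩
  have hperf : commutator G = ⊤ := commutator_eq_top_of_simple (by rw [h]; norm_num)
  obtain ⟨T⟩ : Nonempty (Sylow 2 G) := inferInstance
  obtain ⟨P⟩ : Nonempty (Sylow 3 G) := inferInstance
  obtain ⟨Q⟩ : Nonempty (Sylow 5 G) := inferInstance
  obtain ⟨R⟩ : Nonempty (Sylow 17 G) := inferInstance
  have hT : Nat.card T = 16 := card_sylow_eq T (k := 4) (m := 255) h (by norm_num)
  have hP := card_sylow_eq_prime P (m := 1360) h (by norm_num)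
  have hQ := card_sylow_eq_prime Q (m := 816) h (by norm_num)
  have hR := card_sylow_eq_prime R (m := 240) h (by norm_num)
  obtain ⟨e3, c3, he3, he3', hC3, hN3⟩ := exists_card_normalizer_eq hperf P hP
  obtain ⟨e5, c5, he5, he5', hC5, hN5⟩ := exists_card_normalizer_eq hperf Q hQ
  obtain ⟨e17, c17, he17, he17', hC17, hN17⟩ := exists_card_normalizer_eq hperf R hR
  have m3 := card_sylow_mul_card_normalizer P
  have m5 := card_sylow_mul_card_normalizer Q
  have m17 := card_sylow_mul_card_normalizer R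
  have s3 := card_singular_ge P hP hC3
  have s5 := card_singular_ge Q hQ hC5
  have s17 := card_singular_ge R hR hC17
  have n17 : Nat.card (Sylow 17 G) = 120 := by
    have hn : ∀ n ∈ Nat.divisors 240, n % 17 = 1 → n ≠ 1 → n = 120 := by decide +kernel
    exact hn _ (Nat.mem_divisors.2 ⟨card_sylow_dvd R (by rw [hR, h]), by norm_num⟩) card_sylow_mod
      (card_sylow_ne_one R (by rw [hR]; norm_num) (by rw [hR, h]; norm_num))
  have hc17 : c17 = 1 := by
    rw [n17, hN17, h] at m17
    have h1 : e17 * c17 = 2 := by linarith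
    rcases (Nat.dvd_prime Nat.prime_two).1 (Dvd.intro _ h1) with h | h
    · exact absurd h he17'
    · rw [h] at h1; omega
  subst hc17
  obtain rfl : e3 = 2 := ((Nat.dvd_prime Nat.prime_two).1 he3).resolve_left he3'
  have he5'' : e5 = 2 ∨ e5 = 4 := by
    have := Nat.le_of_dvd (by norm_num) he5
    interval_cases e5 <;> simp_all
  rw [hN3, h] at m3
  rw [hN5, h] at m5
  rw [n17] at s17
  have d2 := not_dvd_of_centralizer (q := 2) R hR (by rw [hC17]; norm_num)
  have d3 := not_dvd_of_centralizer (q := 3) R hR (by rw [hC17]; norm_num)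
  have d5 := not_dvd_of_centralizer (q := 5) R hR (by rw [hC17]; norm_num)
  have h35 : 3 ∣ Nat.card (centralizer (Q : Set G)) := by
    by_contra hn
    have a1 := card_add_three_le d5 d3 (not_dvd_of_centralizer Q hQ hn)
    rw [h] at a1
    have a2 : Nat.card (Sylow 3 G) * ((3 - 1) * c3) = 1360 := by norm_num; linarith
    have a3 : 816 ≤ Nat.card (Sylow 5 G) * ((5 - 1) * c5) := by
      norm_num
      rcases he5'' with rfl | rfl <;> linarith
    omega
  have n5 : Nat.card (Sylow 5 G) = 136 ∧ c5 = 3 ∧ e5 = 2 := by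
    have hn : ∀ n ∈ Nat.divisors 816, n % 5 = 1 → 17 ≤ n → n = 51 ∨ n = 136 ∨ n = 816 := by
      decide +kernel
    have a1 := card_sylow_ne_one Q (by rw [hQ]; norm_num) (by rw [hQ, h]; norm_num)
    have a2 : 17 ≤ Nat.card (Sylow 5 G) := by
      rw [Q.card_eq_index_normalizer] at a1 ⊢
      exact prime_le_index (ne_top_of_index a1) h17.out (by rw [h]; norm_num)
    rw [hC5] at h35
    rcases hn _ (Nat.mem_divisors.2 ⟨card_sylow_dvd Q (by rw [hQ, h]), by norm_num⟩)
      card_sylow_mod a2 with a | a | a <;> rw [a] at m5 ⊢ <;>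
      rcases he5'' with rfl | rfl <;> omega
  obtain ⟨n5, rfl, rfl⟩ := n5
  have n3 : Nat.card (Sylow 3 G) = 136 ∧ c3 = 5 := by
    obtain ⟨y, hy, hy3⟩ := exists_orderOf_eq_of_dvd _ Nat.prime_three h35
    have a1 := card_centralizer_of_orderOf P hP hy3
    have a2 : (Q : Subgroup G) ≤ centralizer ({y} : Set G) := fun u hu =>
      mem_centralizer_singleton_iff.2 (hy u hu)
    obtain ⟨a, ha, hMa⟩ := exists_card_eq_mul_card_inf_normalizer Q a2
    have a3 := card_dvd_of_le (le_inf a2 (le_normalizer : (Q : Subgroup G) ≤ normalizer (Q : Set G)))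
    have a4 := (centralizer ({y} : Set G) ⊓ normalizer (Q : Set G)).orderOf_dvd_natCard
      (x := y) ⟨mem_centralizer_singleton_iff.2 rfl, centralizer_le_normalizer _ hy⟩
    have a5 := card_dvd_of_le (inf_le_right :
      centralizer ({y} : Set G) ⊓ normalizer (Q : Set G) ≤ _)
    have a6 : ¬ 17 ∣ c3 := fun hd => by
      obtain ⟨r, hr, hr17⟩ := exists_orderOf_eq_of_dvd (centralizer ({y} : Set G)) h17.out
        (by rw [a1, hC3]; exact hd.mul_left 3)
      have := card_centralizer_of_orderOf R hR hr17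
      have b := (centralizer ({r} : Set G)).orderOf_dvd_natCard
        (mem_centralizer_singleton_iff.2 (mem_centralizer_singleton_iff.1 hr).symm)
      rw [this, hC17, hy3] at b
      norm_num at b
    rw [hQ] at a3
    rw [hy3] at a4
    rw [hN5] at a5
    rw [a1, hC3] at hMa
    have a7 := card_sylow_mod (p := 3) (G := G)
    have a8 : c3 ∣ 680 := Dvd.intro_left (Nat.card (Sylow 3 G)) (by linarith)
    have hn : ∀ n ∈ Nat.divisors 680, ¬ 17 ∣ n → n ∣ 40 := by decide +kernel
    have a9 := hn _ (Nat.mem_divisors.2 ⟨a8, by norm_num⟩) a6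
    have b1 := Nat.le_of_dvd (by norm_num) a9
    have b2 := Nat.le_of_dvd (by norm_num) a5
    generalize Nat.card (centralizer ({y} : Set G) ⊓ normalizer (Q : Set G) : Subgroup G) = k at *
    have b3 : k = 15 ∨ k = 30 := by
      have hk : ∀ n ∈ Nat.divisors 30, 5 ∣ n → 3 ∣ n → n = 15 ∨ n = 30 := by decide
      exact hk _ (Nat.mem_divisors.2 ⟨a5, by norm_num⟩) a3 a4
    have b4 : c3 = 5 ∨ c3 = 10 ∨ c3 = 20 ∨ c3 = 40 := by
      have hk : ∀ n ∈ Nat.divisors 40, 5 ∣ n → n = 5 ∨ n = 10 ∨ n = 20 ∨ n = 40 := by decide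
      exact hk _ (Nat.mem_divisors.2 ⟨a9, by norm_num⟩) (by rcases b3 with rfl | rfl <;> omega)
    clear a9 a8 a6 s3 a5 a3 a4
    rcases b3 with rfl | rfl <;> rcases b4 with rfl | rfl | rfl | rfl <;> omega
  obtain ⟨n3, rfl⟩ := n3
  refine psl_of_count T (m := 255) (by rw [h, hT]) (by norm_num) (by rw [hT]; norm_num)
    (fun t x ht hx hx2 hc => ?_) ?_ (by rw [hF, hT])
  · have a1 : orderOf x ∣ 2 ^ 4 * 3 * 5 * 17 := (orderOf_dvd_natCard x).trans (by rw [h]; norm_num)
    have a2 : t ∈ centralizer ({x} : Set G) := mem_centralizer_singleton_iff.2 hc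
    have a3 := (centralizer ({x} : Set G)).orderOf_dvd_natCard a2
    rw [ht] at a3
    rcases hx.dvd_mul.1 a1 with a1 | a1
    · rcases hx.dvd_mul.1 a1 with a1 | a1
      · rcases hx.dvd_mul.1 a1 with a1 | a1
        · exact hx2 ((Nat.prime_dvd_prime_iff_eq hx h2.out).1 (hx.dvd_of_dvd_pow a1))
        · rw [card_centralizer_of_orderOf P hP ((Nat.prime_dvd_prime_iff_eq hx h3.out).1 a1),
            hC3] at a3
          norm_num at a3
      · rw [card_centralizer_of_orderOf Q hQ ((Nat.prime_dvd_prime_iff_eq hx h5.out).1 a1),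
          hC5] at a3
        norm_num at a3
    · rw [card_centralizer_of_orderOf R hR ((Nat.prime_dvd_prime_iff_eq hx h17.out).1 a1),
        hC17] at a3
      norm_num at a3
  · have a1 := card_orderOf_eq_prime P hP
    have a2 := card_subtype_or (p := fun g : G => 5 ∣ orderOf g) (q := fun g : G => orderOf g = 3)
      (fun g hg h3 => by rw [h3] at hg; norm_num at hg)
    have two : ∀ (q : ℕ) (g : G), q.Prime → q ≠ 2 → q ∣ orderOf g →
        ¬ ∃ k : ℕ, g ^ 2 ^ k = 1 := by
      rintro q g hq hq2 hd ⟨k, hk⟩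
      exact hq2 ((Nat.prime_dvd_prime_iff_eq hq h2.out).1
        (hq.dvd_of_dvd_pow (hd.trans (orderOf_dvd_of_pow_eq_one hk))))
    have a3 := card_add_three_le (p := fun g : G => 17 ∣ orderOf g)
      (q := fun g : G => 5 ∣ orderOf g ∨ orderOf g = 3)
      (r := fun g : G => ∃ k : ℕ, g ^ 2 ^ k = 1)
      (fun g hg h' => h'.elim (d5 g hg) fun h'' => d3 g hg (h'' ▸ dvd_rfl))
      (fun g hg => two 17 g h17.out (by norm_num) hg)
      (fun g hg => hg.elim (two 5 g h5.out (by norm_num))
        fun h' => two 3 g h3.out (by norm_num) (h' ▸ dvd_rfl))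
    rw [a2, a1, n3, h] at a3
    rw [n5] at s5
    omega

end Cfsg.Agent.S0981
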