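import Cfsg.Statements.S0811
import Cfsg.Agent.H93.L2Max

set_option autoImplicit false
open Cfsg

namespace Cfsg.Agent.S0811

open Cfsg.Agent.H28 Cfsg.Agent.H93.L2

open Matrix.ProjGenLinGroup OnePoint in
theorem exists_anisotropic {F : Type*} [Field F] [Finite F] [DecidableEq F] :
    ∃ c ∈ pslIn F, ∀ x : OnePoint F, c • x ≠ x := by
  obtain ⟨t, ht⟩ : ∃ t : F, ∀ x : Fˣ, (x : F) + (x : F)⁻¹ ≠ t := by
    by_contra h
    push Not at h
    have := Nat.card_le_card_of_surjective (fun x : Fˣ => (x : F) + (x : F)⁻¹) h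
    rw [Nat.card_units] at this
    have := Finite.one_lt_card (α := F)
    omega
  refine ⟨Matrix.ProjGenLinGroup.mk (gl2 t (-1) 1 0 (by simp)),
    mem_pslIn_iff.2 (by simp [gdet_gl2]), fun x => ?_⟩
  rw [mk_smul_pt]
  cases x with
  | infty => simp [smul_infty_eq_ite, gl2_10]
  | coe z =>
    rw [smul_some_eq_ite]
    by_cases hz : z = 0
    · simp [hz, gl2_10, gl2_11]
    · simp only [gl2_00, gl2_01, gl2_10, gl2_11, one_mul, add_zero, hz, if_false, ne_eq, coe_eq_coe]
      intro e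
      refine ht (Units.mk0 z hz) ?_
      simp only [Units.val_mk0]
      field_simp at e ⊢
      linear_combination -e

/-- For q ∉ {2, 7, 9}, PSL_2(q) has a maximal subgroup isomorphic to the dihedral group of order 2(q + 1)/d, d = gcd(2, q − 1). -/
theorem result {F : Type*} [Field F] [Fintype F] {q : ℕ} (hF : Fintype.card F = q) (hq : q ∉ ({2, 7, 9} : Finset ℕ)) : ∃ H : Subgroup (Matrix.ProjectiveSpecialLinearGroup (Fin 2) F), IsCoatom H ∧ Nonempty (H ≃* DihedralGroup ((q + 1) / Nat.gcd 2 (q - 1))) := by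
  classical
  rw [← Nat.card_eq_fintype_card] at hF
  subst hF
  simp only [Finset.mem_insert, Finset.mem_singleton, not_or] at hq
  obtain ⟨p, hp⟩ := CharP.exists F
  have hp' : Fact p.Prime := ⟨CharP.char_is_prime F p⟩
  obtain ⟨c, hc, hx⟩ := exists_anisotropic (F := F)
  obtain ⟨c, rfl⟩ := exists_pslInc_eq hc
  have hc' : c ^ p ≠ 1 := fun e => by
    obtain ⟨x, h⟩ := exists_fix_of_pow_char p (g := pslInc F c) (by rw [← map_pow, e, map_one])
    exact hx x h
  refine ⟨_, coatom_torN_plus pslInc_injective p range_pslInc hc' hx hq.1 hq.2.1 hq.2.2, ?_⟩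
  obtain ⟨n, e, -, ⟨⟨x, h⟩, -⟩ | ⟨-, hn⟩⟩ := torN_card pslInc_injective p range_pslInc.ge
    (card_of_range_eq pslInc_injective range_pslInc) hc'
  · exact absurd h (hx x)
  · rwa [← hn, Nat.mul_div_cancel_left _ (Nat.gcd_pos_of_pos_left _ two_pos)]

end Cfsg.Agent.S0811
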