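import Cfsg.Statements.S0812
import Cfsg.Agent.H93.L2Max

set_option autoImplicit false
open Cfsg

namespace Cfsg.Agent.S0812

open Cfsg.Agent.H28 Cfsg.Agent.H93.L2

/-- For q ∉ {2, 3, 5, 7, 9, 11}, PSL_2(q) has a maximal subgroup isomorphic to the dihedral group of order 2(q − 1)/d, d = gcd(2, q − 1). -/
theorem result {F : Type*} [Field F] [Fintype F] {q : ℕ} (hF : Fintype.card F = q) (hq : q ∉ ({2, 3, 5, 7, 9, 11} : Finset ℕ)) : ∃ H : Subgroup (Matrix.ProjectiveSpecialLinearGroup (Fin 2) F), IsCoatom H ∧ Nonempty (H ≃* DihedralGroup ((q - 1) / Nat.gcd 2 (q - 1))) := by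
  classical
  rw [← Nat.card_eq_fintype_card] at hF
  subst hF
  obtain ⟨p, hp⟩ := CharP.exists F
  have hp' : Fact p.Prime := ⟨CharP.char_is_prime F p⟩
  obtain ⟨b, hb⟩ := IsCyclic.exists_ofOrder_eq_natCard (α := Fˣ)
  have h1 := Finite.one_lt_card (α := F)
  have hb2 : b * b ≠ 1 := fun e => by
    have := orderOf_le_of_pow_eq_one two_pos ((pow_two b).trans e)
    rw [hb, Nat.card_units] at this
    simp only [Finset.mem_insert, Finset.mem_singleton, not_or] at hq
    omega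
  obtain ⟨c, hc⟩ := exists_pslInc_eq (g := aff (b * b) 0)
    (mem_pslIn_iff.2 (by simp [gdet_gl2]))
  have hc' : c ^ p ≠ 1 := fun e => hb2 ((aff_pow_char p _ 0).1 (by rw [← hc, ← map_pow, e, map_one]))
  have hx : pslInc F c • (OnePoint.infty : OnePoint F) = OnePoint.infty := by
    rw [hc, aff_smul_infty]
  refine ⟨_, coatom_torN_minus pslInc_injective p range_pslInc hc' ⟨_, hx⟩ hq, ?_⟩
  obtain ⟨n, e, -, ⟨-, hn⟩ | ⟨h, -⟩⟩ := torN_card pslInc_injective p range_pslInc.ge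
    (card_of_range_eq pslInc_injective range_pslInc) hc'
  · rwa [Nat.div_eq_of_eq_mul_right (Nat.gcd_pos_of_pos_left _ two_pos) (Nat.sub_eq_of_eq_add hn.symm)]
  · exact absurd hx (h _)

end Cfsg.Agent.S0812
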