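import Cfsg.Statements.S4020
import Cfsg.Agent.S4023
import Cfsg.Agent.H72.SylowIn
import Cfsg.Agent.H8.Dihedral
import Mathlib.GroupTheory.FixedPointFree
import Mathlib.GroupTheory.Transfer

set_option autoImplicit false
open Cfsg

namespace Cfsg.Agent.S4020


open Subgroup

theorem conj_pow_inv {G : Type*} [Group G] {r z : G} (h : r * z * r⁻¹ = z⁻¹) {m : ℕ} (hm : Odd m) :
    r ^ m * z * (r ^ m)⁻¹ = z⁻¹ := by
  obtain ⟨k, rfl⟩ := hm
  have h2 : r * r * z * (r * r)⁻¹ = z := by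
    calc r * r * z * (r * r)⁻¹ = r * (r * z * r⁻¹) * r⁻¹ := by group
      _ = r * z⁻¹ * r⁻¹ := by rw [h]
      _ = (r * z * r⁻¹)⁻¹ := by group
      _ = z := by rw [h, inv_inv]
  induction k with
  | zero => simpa using h
  | succ k ih =>
    calc r ^ (2 * (k + 1) + 1) * z * (r ^ (2 * (k + 1) + 1))⁻¹
        = r ^ (2 * k + 1) * (r * r * z * (r * r)⁻¹) * (r ^ (2 * k + 1))⁻¹ := by group
      _ = z⁻¹ := by rw [h2, ih]

theorem even_of_inv {G : Type*} [Group G] {r z : G} (h : r * z * r⁻¹ = z⁻¹) (hz : z⁻¹ ≠ z) :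
    Even (orderOf r) := by
  by_contra hodd
  have := conj_pow_inv h (Nat.not_even_iff_odd.1 hodd)
  rw [pow_orderOf_eq_one] at this
  exact hz (by simpa using this.symm)

theorem inv_ne_of_orderOf {G : Type*} [Group G] {p : ℕ} (hp : p.Prime) (hp2 : p ≠ 2) {z : G}
    (hz : orderOf z = p) : z⁻¹ ≠ z := by
  intro h
  have : orderOf z ∣ 2 := by
    rw [orderOf_dvd_iff_pow_eq_one, pow_two]
    nth_rewrite 1 [← h]
    exact inv_mul_cancel z
  rw [hz] at this
  exact hp2 ((Nat.prime_dvd_prime_iff_eq hp Nat.prime_two).1 this)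

theorem exists_conj_sub {G : Type*} [Group G] [Finite G] {p : ℕ} [hp : Fact p.Prime]
    (Q : Subgroup G) (hQ : Nat.card Q = p ^ 3) (hnc : ¬ IsMulCommutative Q) {z u : G} (hz : z ∈ Q)
    (hz1 : z ≠ 1) (hzc : ∀ y ∈ Q, y * z = z * y) (hu : u ∈ Q) (huz : u ∉ zpowers z) :
    ∃ a ∈ Q, a * u * a⁻¹ = u * z := by
  obtain ⟨hZ, h⟩ := H81.exists_conj_eq_mul_of_card_p3 hQ hnc
  have hzc' : (⟨z, hz⟩ : Q) ∈ center Q := mem_center_iff.2 fun y => Subtype.ext (hzc y y.2)
  obtain ⟨a, ha⟩ := h ⟨u, hu⟩ (fun huc => huz (by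
    obtain ⟨k, hk⟩ := mem_zpowers_of_prime_card hZ (g := ⟨_, hzc'⟩)
      (fun e => hz1 (congrArg (fun x : center Q => (x.1 : G)) e)) (g' := ⟨_, huc⟩)
    exact ⟨k, congrArg (fun x : center Q => (x.1 : G)) hk⟩)) _ hzc'
  exact ⟨a, a.2, congrArg Subtype.val ha⟩

theorem quat_unique : ∀ x y : QuaternionGroup 2, x * x = 1 → x ≠ 1 → y * y = 1 → y ≠ 1 → x = y := by
  decide

theorem quat_pow : ∀ x : QuaternionGroup 2, x * x * (x * x) = 1 := by
  decide

theorem not_extraspecial {G : Type*} [Group G] [Finite G]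
    (hD : ∀ p : ℕ, p.Prime → ∀ H K : Subgroup G, IsPGroup p H → IsPGroup p K →
      Nat.card H = Nat.card K → ∃ g : G, K = H.map (MulAut.conj g).toMonoidHom)
    {p : ℕ} [hp : Fact p.Prime] (P : Sylow p G) (hp2 : p ≠ 2) (hnc : ¬ IsMulCommutative P)
    (hcard : Nat.card P = p ^ 3) (hexp : Monoid.exponent P = p) : False := by
  have hpow : ∀ x ∈ (P : Subgroup G), x ≠ 1 → orderOf x = p := fun x hx hx1 =>
    H81.orderOf_eq_prime_of_pow hp.out (by
      have := Monoid.pow_exponent_eq_one (⟨x, hx⟩ : (P : Subgroup G))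
      rw [hexp] at this
      exact congrArg Subtype.val this) hx1
  have hzp : ∀ x : G, orderOf x = p → IsPGroup p (zpowers x) := fun x hx =>
    IsPGroup.of_card (n := 1) (by rw [Nat.card_zpowers, hx, pow_one])
  have hnt : Nontrivial P := by
    rw [← Finite.one_lt_card_iff_nontrivial, hcard]
    exact Nat.one_lt_pow (by decide) hp.out.one_lt
  obtain ⟨⟨z, hzP⟩, hzc, hz⟩ := H81.exists_center_orderOf P.isPGroup'
  have hz' : orderOf z = p := by rw [← hz, Subgroup.orderOf_mk]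
  have hzc' : ∀ y ∈ (P : Subgroup G), y * z = z * y := fun y hy =>
    congrArg Subtype.val (mem_center_iff.1 hzc ⟨y, hy⟩)
  have hz1 : z ≠ 1 := fun h => by
    rw [h, orderOf_one] at hz'
    exact hp.out.one_lt.ne hz'
  have hzinv := inv_ne_of_orderOf hp.out hp2 hz'
  obtain ⟨u, huP, huz⟩ : ∃ u ∈ (P : Subgroup G), u ∉ zpowers z := by
    by_contra h
    push Not at h
    refine hnc ⟨⟨fun a b => Subtype.ext ?_⟩⟩
    obtain ⟨k, hk⟩ := h b b.2
    have := (Commute.zpow_right (hzc' a a.2) k).eq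
    simp only at hk
    rw [hk] at this
    exact this
  have hu1 : u ≠ 1 := fun h => huz (h ▸ one_mem _)
  have hu : orderOf u = p := hpow u huP hu1
  have hzu : u * z = z * u := hzc' u huP
  obtain ⟨a, haP, ha⟩ := exists_conj_sub _ hcard hnc hzP hz1 hzc' huP huz
  have haz : a * z * a⁻¹ = z := by rw [hzc' a haP, mul_inv_cancel_right]
  have hPC : (P : Subgroup G) ≤ centralizer {z} := fun y hy =>
    mem_centralizer_singleton_iff.2 (hzc' y hy)
  obtain ⟨b, hbp, hbu, hb⟩ : ∃ b : G, IsPGroup p (zpowers b) ∧ b * u * b⁻¹ = u ∧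
      b * z * b⁻¹ = z * u⁻¹ := by
    obtain ⟨g, hg⟩ := hD p hp.out _ _ (hzp z hz') (hzp u hu)
      (by rw [Nat.card_zpowers, Nat.card_zpowers, hz', hu])
    have hC : centralizer {u} = H72.cj g (centralizer {z}) := by
      rw [← H72.centralizer_zpowers, ← H72.centralizer_zpowers, hg, H72.cj_centralizer]
    have h1 : H72.IsSylowIn p (H72.cj g P) (centralizer {u}) :=
      hC ▸ (H72.isSylowIn_sylow P hPC).cj g
    obtain ⟨Q, hQ, hzQ⟩ := H72.exists_isSylowIn_ge (hzp z hz')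
      (zpowers_le.2 (mem_centralizer_singleton_iff.2 hzu.symm) : zpowers z ≤ centralizer {u})
    obtain ⟨k, -, hk⟩ := h1.exists_cj_eq hQ
    have hQc : Nat.card Q = p ^ 3 := by rw [← hk, H72.card_cj, H72.card_cj, hcard]
    have hQn : ¬ IsMulCommutative Q := by
      intro h
      refine hnc ⟨⟨fun x y => Subtype.ext ?_⟩⟩
      have hx : k * g * x * (k * g)⁻¹ ∈ Q := by
        rw [← hk, ← H72.cj_mul]; exact H72.conj_mem_cj x.2
      have hy : k * g * y * (k * g)⁻¹ ∈ Q := by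
        rw [← hk, ← H72.cj_mul]; exact H72.conj_mem_cj y.2
      have := congrArg Subtype.val (h.is_comm.comm ⟨_, hx⟩ ⟨_, hy⟩)
      simpa [← mul_assoc] using (by simpa [mul_assoc] using this :
        (x : G) * (y * (g⁻¹ * k⁻¹)) = y * (x * (g⁻¹ * k⁻¹)))
    have huQ : u ∈ Q := hQ.le_of_normalizes (hzp u hu)
      (zpowers_le.2 (mem_centralizer_singleton_iff.2 rfl))
      (hQ.le.trans (H72.centralizer_zpowers u ▸ centralizer_le_normalizer _)) (mem_zpowers u)
    obtain ⟨b, hbQ, hb⟩ := exists_conj_sub Q hQc hQn (inv_mem huQ) (inv_ne_one.2 hu1)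
      (fun y hy => ((show Commute y u from mem_centralizer_singleton_iff.1 (hQ.le hy)).inv_right).eq)
      (hzQ (mem_zpowers z)) (by
        rw [zpowers_inv]
        intro h
        have : zpowers z = zpowers u := eq_of_le_of_card_ge (zpowers_le.2 h)
          (by rw [Nat.card_zpowers, Nat.card_zpowers, hz', hu])
        exact huz (this ▸ mem_zpowers u))
    refine ⟨b, hQ.isPGroup.to_le (zpowers_le.2 hbQ), ?_, hb⟩
    rw [mem_centralizer_singleton_iff.1 (hQ.le hbQ), mul_inv_cancel_right]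
  set w := a * b * a with hw
  have hwz : w * z * w⁻¹ = u⁻¹ := by
    calc w * z * w⁻¹ = a * (b * (a * z * a⁻¹) * b⁻¹) * a⁻¹ := by rw [hw]; group
      _ = a * (z * u⁻¹) * a⁻¹ := by rw [haz, hb]
      _ = (a * z * a⁻¹) * (a * u * a⁻¹)⁻¹ := by group
      _ = u⁻¹ := by rw [haz, ha]; group
  have hwu : w * u * w⁻¹ = z := by
    calc w * u * w⁻¹ = a * (b * (a * u * a⁻¹) * b⁻¹) * a⁻¹ := by rw [hw]; group
      _ = a * ((b * u * b⁻¹) * (b * z * b⁻¹)) * a⁻¹ := by rw [ha]; group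
      _ = a * z * a⁻¹ := by rw [hbu, hb, ← mul_assoc u, hzu, mul_inv_cancel_right]
      _ = z := haz
  have hr : w * w * z * (w * w)⁻¹ = z⁻¹ := by
    calc w * w * z * (w * w)⁻¹ = w * (w * z * w⁻¹) * w⁻¹ := by group
      _ = (w * u * w⁻¹)⁻¹ := by rw [hwz]; group
      _ = z⁻¹ := by rw [hwu]
  obtain ⟨k, m, hm, hkm⟩ := Nat.exists_eq_two_pow_mul_odd (orderOf_pos w).ne'
  have hv : IsPGroup 2 (zpowers (w ^ m)) := by
    have : orderOf (w ^ m) ∣ 2 ^ k := by
      rw [orderOf_dvd_iff_pow_eq_one, ← pow_mul, mul_comm, ← hkm, pow_orderOf_eq_one]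
    obtain ⟨j, -, hj⟩ := (Nat.dvd_prime_pow Nat.prime_two).1 this
    exact IsPGroup.of_card (by rw [Nat.card_zpowers, hj])
  set s := w ^ m * w ^ m with hs
  have hsz : s * z * s⁻¹ = z⁻¹ := by
    have := conj_pow_inv hr hm
    rwa [(Commute.refl w).mul_pow] at this
  have hs1 : s ≠ 1 := fun h => hzinv (by simpa [h] using hsz.symm)
  obtain ⟨S⟩ : Nonempty (Sylow 2 G) := inferInstance
  have hS : ∀ R : Subgroup G, IsPGroup 2 R → ∃ g : G, ∀ x ∈ R, g * x * g⁻¹ ∈ (S : Subgroup G) := by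
    intro R hR
    obtain ⟨g, -, hg⟩ := (H72.isSylowIn_top S).exists_cj_le hR le_top
    exact ⟨g, fun x hx => hg (H72.conj_mem_cj hx)⟩
  obtain ⟨g₀, hg₀⟩ := hS _ hv
  have hg₁ := hg₀ _ (mem_zpowers _)
  rcases S4023.result (hD 2 Nat.prime_two) S with hcyc | hel | ⟨-, ⟨e⟩⟩ | h
  · have hev := even_of_inv hr hzinv
    have h2 : (Nat.card G).minFac = 2 :=
      (Nat.minFac_eq_two_iff _).2 ((even_iff_two_dvd.1 hev).trans (orderOf_dvd_natCard _))
    have hn := hcyc.normalizer_le_centralizer h2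
    have hker : ∀ x : G, IsPGroup p (zpowers x) → x ∈ (MonoidHom.transferSylow S hn).ker := by
      intro x hx
      obtain ⟨i, hi⟩ := IsPGroup.iff_card.1 hx
      obtain ⟨j, hj⟩ := IsPGroup.iff_orderOf.1 S.isPGroup' (MonoidHom.transferSylow S hn x)
      rw [MonoidHom.mem_ker, ← orderOf_eq_one_iff]
      refine Nat.eq_one_of_dvd_coprimes (a := p ^ i) (b := 2 ^ j)
        (Nat.Coprime.pow _ _ ((Nat.coprime_primes hp.out Nat.prime_two).2 hp2)) ?_ (dvd_of_eq hj)
      rw [← hi, Nat.card_zpowers]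
      exact orderOf_map_dvd _ x
    have haK := hker a (P.isPGroup'.to_le (zpowers_le.2 haP))
    have hwK : w ∈ (MonoidHom.transferSylow S hn).ker := mul_mem (mul_mem haK (hker b hbp)) haK
    exact MonoidHom.not_dvd_card_ker_transferSylow S hn
      ((even_iff_two_dvd.1 hev).trans (Subgroup.orderOf_dvd_natCard _ (mul_mem hwK hwK)))
  · have := hel.2 _ hg₁
    rw [conj_pow, pow_two, ← hs] at this
    exact hs1 (by simpa using this)
  · have hss : s * s = 1 := by
      have := quat_pow (e ⟨_, hg₁⟩)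
      rw [← map_mul, ← map_mul, map_eq_one_iff e e.injective] at this
      have h1 : g₀ * w ^ m * g₀⁻¹ * (g₀ * w ^ m * g₀⁻¹) *
        (g₀ * w ^ m * g₀⁻¹ * (g₀ * w ^ m * g₀⁻¹)) = 1 := congrArg Subtype.val this
      calc s * s = g₀⁻¹ * (g₀ * w ^ m * g₀⁻¹ * (g₀ * w ^ m * g₀⁻¹) *
            (g₀ * w ^ m * g₀⁻¹ * (g₀ * w ^ m * g₀⁻¹))) * g₀ := by
            rw [hs]; simp only [mul_assoc, inv_mul_cancel_left, inv_mul_cancel, mul_one]
        _ = 1 := by rw [h1, mul_one, inv_mul_cancel]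
    have huniq : ∀ x y : G, orderOf x = 2 → orderOf y = 2 → Commute x y → x = y := by
      intro x y hx hy hxy
      have hx' := H8.orderOf_two_iff.1 hx
      have hy' := H8.orderOf_two_iff.1 hy
      obtain ⟨g, hg⟩ := hS _ (H8.isPGroup_closure_pair_of_commute hx'.1 hy'.1 hxy)
      have aux : ∀ (v : G) (hv : g * v * g⁻¹ ∈ (S : Subgroup G)), orderOf v = 2 →
          e ⟨_, hv⟩ * e ⟨_, hv⟩ = 1 ∧ e ⟨_, hv⟩ ≠ 1 := fun v hv h =>
        H8.orderOf_two_iff.1 (by rw [e.orderOf_eq, Subgroup.orderOf_mk, H8.orderOf_conj', h])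
      have h1 := aux x (hg x (subset_closure (by simp))) hx
      have h2 := aux y (hg y (subset_closure (by simp))) hy
      have h3 := congrArg Subtype.val (e.injective (quat_unique _ _ h1.1 h1.2 h2.1 h2.2))
      simpa using h3
    obtain ⟨n, hn, x, hxN, hnx⟩ := (H72.isSylowIn_sylow P hPC).frattini (H := zpowers s)
      (zpowers_le.2 (by
        rw [← H72.cj_eq_iff, H72.cj_centralizer_singleton, hsz, ← H72.centralizer_zpowers,
          zpowers_inv, H72.centralizer_zpowers])) (mem_zpowers s)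
    have hxz : x * z * x⁻¹ = z⁻¹ := by
      have h1 : n * z = z * n := mem_centralizer_singleton_iff.1 hn
      calc x * z * x⁻¹ = n⁻¹ * (s * z * s⁻¹) * n := by rw [hnx]; group
        _ = (n⁻¹ * (z * n))⁻¹ := by rw [hsz]; group
        _ = z⁻¹ := by rw [← h1]; group
    obtain ⟨t, htx, ht⟩ := H81.exists_orderOf_eq_of_dvd
      (even_iff_two_dvd.1 (even_of_inv hxz hzinv))
    have htN : t ∈ normalizer ((P : Subgroup G) : Set G) := zpowers_le.2 hxN htx
    have htt := H8.mul_self_of_orderOf_two ht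
    obtain ⟨y, hyP, hy1, hty⟩ : ∃ y ∈ (P : Subgroup G), y ≠ 1 ∧ t * y * t⁻¹ = y := by
      by_contra h
      push Not at h
      let φ : MulAut (P : Subgroup G) := (P : Subgroup G).normalizerMonoidHom ⟨t, htN⟩
      have hφ : MonoidHom.FixedPointFree φ := fun y hy => by
        by_contra hy1
        exact h y y.2 (fun e => hy1 (Subtype.ext e)) (congrArg Subtype.val hy)
      have hinv : Function.Involutive φ := fun y => Subtype.ext (by
        show t * (t * y * t⁻¹) * t⁻¹ = y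
        calc t * (t * y * t⁻¹) * t⁻¹ = t * t * y * (t * t)⁻¹ := by group
          _ = y := by rw [htt]; group)
      exact hnc ⟨⟨fun a b => hφ.commute_all_of_involutive hinv a b⟩⟩
    have hy := hpow y hyP hy1
    obtain ⟨g, hg⟩ := hD p hp.out _ _ (hzp z hz') (hzp y hy)
      (by rw [Nat.card_zpowers, Nat.card_zpowers, hz', hy])
    obtain ⟨i, hi⟩ : y ∈ zpowers (g * z * g⁻¹) := by
      rw [← H72.cj_zpowers, H72.cj, ← hg]; exact mem_zpowers y
    simp only at hi
    set s' := g * s * g⁻¹ with hs'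
    have hs'2 : orderOf s' = 2 := by rw [hs', H8.orderOf_conj', H8.orderOf_two_of hss hs1]
    have hs'y : s' * y * s'⁻¹ = y⁻¹ := by
      rw [← hi, ← conj_zpow, ← inv_zpow]
      congr 1
      calc s' * (g * z * g⁻¹) * s'⁻¹ = g * (s * z * s⁻¹) * g⁻¹ := by rw [hs']; group
        _ = _ := by rw [hsz]; group
    have hyinv := inv_ne_of_orderOf hp.out hp2 hy
    have hev : Even (orderOf (t * s')) := by
      refine even_of_inv (z := y) ?_ hyinv
      calc t * s' * y * (t * s')⁻¹ = t * (s' * y * s'⁻¹) * t⁻¹ := by group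
        _ = (t * y * t⁻¹)⁻¹ := by rw [hs'y]; group
        _ = y⁻¹ := by rw [hty]
    obtain ⟨c1, c2, c3⟩ := H8.central_involution htt (H8.mul_self_of_orderOf_two hs'2) hev
    have : t = s' := (huniq _ _ c1 ht c2).symm.trans (huniq _ _ c1 hs'2 c3)
    rw [← this, hty] at hs'y
    exact hyinv hs'y.symm
  · exact h.1 rfl

/-- Let G be a finite group in which, for every prime p, any two p-subgroups of the same order are conjugate. Then every Sylow subgroup of G is cyclic, elementary abelian, or a quaternion group of order 8. -/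
theorem result {G : Type*} [Group G] [Finite G]
    (hD : ∀ p : ℕ, p.Prime → ∀ H K : Subgroup G, IsPGroup p H → IsPGroup p K → Nat.card H = Nat.card K →
      ∃ g : G, K = H.map (MulAut.conj g).toMonoidHom) {p : ℕ} [Fact p.Prime] (P : Sylow p G) :
    IsCyclic P ∨ Cfsg.IsElementaryAbelian p (P : Subgroup G) ∨ Nonempty ((P : Subgroup G) ≃* QuaternionGroup 2) := by
  rcases S4023.result (hD p Fact.out) P with h | h | h | h
  · exact Or.inl h
  · exact Or.inr (Or.inl h)
  · exact Or.inr (Or.inr h.2)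
  · exact (not_extraspecial hD P h.1 h.2.1 h.2.2.1 h.2.2.2).elim

end Cfsg.Agent.S4020
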