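import Cfsg.Statements.S0803
import Cfsg.Agent.H93.L2Ex

set_option autoImplicit false
open Cfsg

namespace Cfsg.Agent.S0803

open Cfsg.Agent.H28 Cfsg.Agent.H93.L2

/-- PSL_2(q) has a subgroup isomorphic to S_4 iff q² ≡ 1 (mod 16). -/
theorem result {F : Type*} [Field F] [Fintype F] {q : ℕ} (hF : Fintype.card F = q) : (∃ H : Subgroup (Matrix.ProjectiveSpecialLinearGroup (Fin 2) F), Nonempty (H ≃* Equiv.Perm (Fin 4))) ↔ q ^ 2 % 16 = 1 := by
  rw [exists_sub_iff pslInc_injective, range_pslInc]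
  rw [← Nat.card_eq_fintype_card] at hF
  have key : q ^ 2 % 16 = 1 ↔ q % 8 = 1 ∨ q % 8 = 7 := by
    rw [Nat.pow_mod, ← Nat.mod_mod_of_dvd q (by norm_num : 8 ∣ 16)]
    have : q % 16 < 16 := Nat.mod_lt _ (by norm_num)
    generalize q % 16 = r at this ⊢
    interval_cases r <;> simp
  rw [key, ← hF]
  constructor
  · rintro ⟨φ, hφ, h⟩
    have h2 := two_ne_zero_of_sym4 hφ
    exact (isSquare_two_iff (two_ne_zero_iff.1 h2)).1 ((sym4_props h2 hφ).1.1 h)
  · intro h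
    have h2 : (2 : F) ≠ 0 := two_ne_zero_of (by omega)
    obtain ⟨φ, hφ, e⟩ := exists_sym4 h2
    exact ⟨φ, hφ, e.2 ((isSquare_two_iff (two_ne_zero_iff.1 h2)).2 h)⟩

end Cfsg.Agent.S0803
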