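import Cfsg.Statements.S0730
import Cfsg.Agent.H26.Sharp3Coords
import Cfsg.Agent.H41.FieldAut

set_option autoImplicit false
open Cfsg

namespace Cfsg.Agent.S0730

open OnePoint MulAction Cfsg.Agent.H26 Cfsg.Agent.H12

/-- A sharply triply transitive group of degree `p^f + 1`, `p` an odd prime and `f` odd, is isomorphic to the projective general linear group of degree 2 over the field with `p^f` elements (for even `f` there is a second, twisted, group). -/
theorem result {α : Type*} [Fintype α] [DecidableEq α] {p f : ℕ} (hp : p.Prime) (hp2 : p ≠ 2) (hfo : Odd f) (hα : Fintype.card α = p ^ f + 1) (G : Subgroup (Equiv.Perm α)) (h3 : MulAction.IsMultiplyPretransitive G α 3) (hsharp : ∀ x : Fin 3 ↪ α, MulAction.stabilizer G x = ⊥) : ∃ (F : Type) (_ : Field F) (_ : Fintype F), Fintype.card F = p ^ f ∧ Nonempty (G ≃* Matrix.ProjGenLinGroup (Fin 2) F) := by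
  rw [← Nat.card_eq_fintype_card] at hα
  have hp3 : 3 ≤ p ^ f := (hp.two_le.lt_of_ne hp2.symm).succ_le.trans
    (Nat.le_self_pow hfo.pos.ne' p)
  have hc : 3 ≤ Nat.card α := by omega
  obtain ⟨a, b, c, hab, hca, hcb⟩ := exists_three hc
  have hT := zt_of_sharp3 hc h3 hsharp
  obtain ⟨K, _, _, ε, N, rfl, rfl, -, -, htr, -, -, hH, ⟨s, hs1, hs2, hs⟩, -⟩ :=
    sharp3_even_coords hT h3 (by rw [hα]; exact ((hp.odd_of_ne_two hp2).pow).add_one) hab hca hcb
  have hK := card_of_coords ε
  have hKc : Fintype.card K = p ^ f := by rw [← Nat.card_eq_fintype_card]; omega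
  have := Fact.mk hp
  have : CharP K p := charP_of_card_eq_prime_pow hKc
  let _ : Algebra (ZMod p) K := ZMod.algebra K p
  have hfin : Module.finrank (ZMod p) K = f := by
    have h1 := Module.card_eq_pow_finrank (K := ZMod p) (V := K)
    rw [hKc, ZMod.card] at h1
    exact (Nat.pow_right_injective hp.two_le h1).symm
  have hA : ∀ h ∈ stabilizer G (ε ∞) ⊓ stabilizer G (ε (0 : K)),
      ∃ t : K, t ≠ 0 ∧ ∀ x : K, h • ε x = ε (t * x : K) := by
    intro h hh
    obtain ⟨t, ht, θ, h1, h2⟩ := hH h hh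
    have h4 : orderOf θ ∣ f := by
      rw [← hfin, ← H41.card_ringEquiv]; exact orderOf_dvd_natCard θ
    have h5 : orderOf θ ∣ 2 := orderOf_dvd_of_pow_eq_one (by rw [sq, h1])
    have h6 : θ = 1 := orderOf_eq_one_iff.1 (Nat.eq_one_of_dvd_coprimes
      (Nat.coprime_two_left.2 hfo) h5 h4)
    rw [h6] at h2
    exact ⟨t, ht, h2⟩
  have hle := card_le_card_stab_of_mt3 h3 hab hca hcb
  refine ⟨K, inferInstance, inferInstance, hKc, pgl_of_coords hT.faithful ε htr
    (fun h h1 h2 => hA h ⟨h1, h2⟩) (fun c hc => ?_) s one_ne_zero hs1 hs2 hs⟩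
  obtain ⟨h, hh, e⟩ := scalars_all hT.faithful (stabilizer G (ε ∞) ⊓ stabilizer G (ε (0 : K))) ε
    (fun h hh => hh.1) hA (by omega) hc
  exact ⟨h, hh.1, e⟩

end Cfsg.Agent.S0730
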