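import Cfsg.Statements.S0732
import Cfsg.Agent.H26.PrimePlusOne
import Cfsg.Agent.H26.ZassFeit
import Cfsg.Agent.S0730
import Cfsg.Agent.H9.Transport
import Cfsg.Agent.H24.Sharp2

set_option autoImplicit false
open Cfsg

namespace Cfsg.Agent.S0732

open MulAction Cfsg.Agent.H26 Cfsg.Agent.H12

/-- A transitive permutation group on `p + 1` points (`p` prime) of order `(p+1) p d` with `d < p` is isomorphic to `PGL(2,p)` with `d = p - 1`, or to `PSL(2,p)` with `2d = p - 1`, or else `p + 1 = 2^q` for a prime `q`, `d = 1` or `d = q`, and the group is permutation-isomorphic to a group of semi-affine maps `x ↦ a φ(x) + b` of the field with `2^q` elements. -/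
theorem result {α : Type*} [Fintype α] [DecidableEq α] {p d : ℕ} (hp : p.Prime) (hα : Fintype.card α = p + 1) (G : Subgroup (Equiv.Perm α)) [MulAction.IsPretransitive G α] (hG : Nat.card G = (p + 1) * p * d) (hd : d < p) : (d = p - 1 ∧ Nonempty (G ≃* Matrix.ProjGenLinGroup (Fin 2) (ZMod p))) ∨ (2 * d = p - 1 ∧ Nonempty (G ≃* Matrix.ProjectiveSpecialLinearGroup (Fin 2) (ZMod p))) ∨ (∃ q : ℕ, q.Prime ∧ p + 1 = 2 ^ q ∧ (d = 1 ∨ d = q) ∧ ∃ e : α ≃ GaloisField 2 q, ∀ g : G, (e.symm.trans (((g : Equiv.Perm α)).trans e)) ∈ Cfsg.semiaffineGroup (GaloisField 2 q)) := by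
  have := Fact.mk hp
  rw [← Nat.card_eq_fintype_card] at hα
  obtain ⟨hT, hc⟩ := zt_of_prime hp hα hG hd
  have h3 : 3 ≤ Nat.card α := by have := hp.two_le; omega
  obtain ⟨a, b, c, hab, hca, hcb⟩ := exists_three h3
  have hH : Nat.card (stabilizer G a ⊓ stabilizer G b : Subgroup G) = d := by
    have h1 := card_eq_of_zt hT hab
    rw [hG, hα, Nat.add_sub_cancel] at h1
    exact (Nat.eq_of_mul_eq_mul_left (Nat.mul_pos (Nat.succ_pos p) hp.pos) h1).symm
  by_cases hd1 : d = p - 1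
  · refine Or.inl ⟨hd1, ?_⟩
    obtain ⟨K, _, _, hK, ⟨e⟩⟩ : ∃ (K : Type) (_ : Field K) (_ : Fintype K), Fintype.card K = p ∧
        Nonempty (G ≃* Matrix.ProjGenLinGroup (Fin 2) K) := by
      by_cases hp2 : p = 2
      · obtain ⟨K, _, _, hK, e⟩ := pgl_of_odd hT (by rw [hα, hp2]; decide) hab hca hcb (by omega)
        exact ⟨K, inferInstance, inferInstance, by rw [← Nat.card_eq_fintype_card]; omega, e⟩
      · simpa using S0730.result hp hp2 odd_one (by rw [← Nat.card_eq_fintype_card, hα, pow_one]) G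
          (mt3_of_card_stab' hT hab (by omega))
          (sharp3_of_eq_one fun g a b c h1 h2 h3 => hT.three g h1 h2 h3)
    exact ⟨e.trans (H9.centerQuotEquiv (H9.glMapEquiv (ZMod.ringEquivOfPrime K hp hK).symm))⟩
  by_cases hZ : IsZassenhausGroup G α
  · obtain ⟨h1, K, _, _, hK, -, ⟨e⟩⟩ := (zass_abelian hZ hab (hc a)).resolve_left (by omega)
    exact Or.inr (Or.inl ⟨by omega, ⟨e.trans (H9.pslMapEquiv (ZMod.ringEquivOfPrime K hp
      (by rw [← Nat.card_eq_fintype_card]; omega)).symm)⟩⟩)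
  obtain ⟨N, hN, htr, hreg⟩ : ∃ N : Subgroup G, N.Normal ∧ IsPretransitive N α ∧
      ∀ a : α, stabilizer N a = ⊥ := by
    by_contra hcon
    have h2 := zt_two hT
    refine hZ ⟨inferInstance, h2, zt_fix3 hT, ?_, fun N h1 h2 => ?_⟩
    · by_contra h4
      obtain ⟨K, h5, h6, h7, -⟩ := H24.exists_kernel_of_sharp_two (G := G) (α := α)
        (H24.sharp_iff.2 fun g a b h1 h2 h3 => by
          by_contra h5
          exact h4 ⟨g, h5, a, b, h1, h2, h3⟩) (by rw [← Nat.card_eq_fintype_card]; omega)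
      obtain ⟨h8, h9⟩ := H24.isPretransitive_of_card_eq K (fun g => (h5 g).1) h6
      exact hcon ⟨K, h7, h9, h8⟩
    · by_contra h4
      push Not at h4
      exact hcon ⟨N, h1, h2, h4⟩
  obtain ⟨K, _, _, ε, h1, h2⟩ := semiaffine_coords hT hab (hc a) hN htr (fun x hx e => by
    have : (⟨x, hx⟩ : N) ∈ stabilizer N a := e
    rw [hreg a, Subgroup.mem_bot] at this
    exact congrArg Subtype.val this)
  obtain ⟨q, hr, hq⟩ := FiniteField.card K (ringChar K)
  have hK : Fintype.card K = p + 1 := by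
    rw [← hα, ← Nat.card_congr ε, Nat.card_eq_fintype_card]
  have hd0 : 0 < d := hH ▸ Nat.card_pos
  obtain ⟨hr2, hqp⟩ := Nat.prime_of_pow_sub_one_prime (a := ringChar K) (n := q) (by
    intro h
    rw [h, pow_one, hK] at hq
    rcases hp.eq_two_or_odd with h4 | h4
    · omega
    · rcases hr.eq_two_or_odd with h5 | h5 <;> omega) (by rwa [← hq, hK, Nat.add_sub_cancel])
  rw [hr2] at hq
  have : CharP K 2 := hr2 ▸ ringChar.charP K
  let _ : Algebra (ZMod 2) K := ZMod.algebra K 2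
  have hfin : Module.finrank (ZMod 2) K = q := by
    have h1 := Module.card_eq_pow_finrank (K := ZMod 2) (V := K)
    rw [hq, ZMod.card] at h1
    exact (Nat.pow_right_injective le_rfl h1).symm
  rw [hH, H41.card_ringEquiv K 2, hfin] at h2
  have := Fintype.ofFinite (GaloisField 2 q)
  let ψ : K ≃+* GaloisField 2 q := FiniteField.ringEquivOfCardEq (by
    rw [hq, ← Nat.card_eq_fintype_card, GaloisField.card 2 q hqp.ne_zero])
  refine Or.inr (Or.inr ⟨q, hqp, hK.symm.trans hq, (Nat.dvd_prime hqp).1 h2,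
    ε.symm.trans ψ.toEquiv, fun g => ?_⟩)
  obtain ⟨c, hc, t, θ, h4⟩ := h1 g
  refine ⟨Units.mk0 (ψ c) ((map_ne_zero ψ).2 hc), ψ t, (ψ.symm.trans θ).trans ψ, fun x => ?_⟩
  change ψ (ε.symm (g • ε (ψ.symm x))) = ψ c * ψ (θ (ψ.symm x)) + ψ t
  rw [h4, ε.symm_apply_apply, map_add, map_mul]

end Cfsg.Agent.S0732
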