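import Cfsg.Statements.S5738
import Cfsg.Agent.H99.Singer

set_option autoImplicit false
open Cfsg

namespace Cfsg.Agent.S5738

/-- Let F ⊆ K be finite fields with |F| = q and [K : F] = n ≥ 2, so |K| = q^n. Regard K as an n-dimensional F-vector space; the multiplications by non-zero elements of K form a cyclic subgroup of GL_F(K) of order q^n − 1 acting regularly on the non-zero vectors (a Singer group). Its normaliser in GL_F(K) has order n·(q^n − 1). -/
theorem result {F K : Type*} [Field F] [Fintype F] [Field K] [Fintype K] [Algebra F K] (n : ℕ) (hn : 2 ≤ n) (hdim : Module.finrank F K = n) :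
    Nat.card (Subgroup.normalizer (((Units.map ((Algebra.lmul F K : K →ₐ[F] Module.End F K) : K →* Module.End F K)).range : Subgroup (Module.End F K)ˣ) : Set (Module.End F K)ˣ)) = n * (Fintype.card K - 1) := by
  classical
  haveI : Finite (Module.End F K) := Finite.of_injective _ DFunLike.coe_injective
  let φ : (K ≃ₐ[F] K) × Kˣ → (Module.End F K)ˣ := fun x =>
    Units.map ((Algebra.lmul F K : K →ₐ[F] Module.End F K) : K →* Module.End F K) x.2 *
      (LinearMap.GeneralLinearGroup.ofLinearEquiv x.1.toLinearEquiv)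
  have hφ : ∀ x y, (φ x).1 y = x.2 * x.1 y := fun _ _ => rfl
  have h1 : ∀ g : (Module.End F K)ˣ, g ∈ Subgroup.normalizer (H99.SM F K : Set _) ↔
      ∀ h ∈ H99.SM F K, g * h * g⁻¹ ∈ H99.SM F K := fun g =>
    ⟨fun hg h => (hg h).1, Subgroup.mem_normalizer_fintype⟩
  have h2 : ∀ (g : (Module.End F K)ˣ) y, g.1 ((g⁻¹).1 y) = y := fun g =>
    LinearMap.congr_fun g.mul_inv
  have h3 : ∀ (g : (Module.End F K)ˣ) y, (g⁻¹).1 (g.1 y) = y := fun g =>
    LinearMap.congr_fun g.inv_mul
  rw [← hdim, ← IsGalois.card_aut_eq_finrank, ← Fintype.card_units, ← Nat.card_eq_fintype_card,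
    ← Nat.card_prod]
  have h5 : ∀ x, φ x ∈ Subgroup.normalizer (H99.SM F K : Set _) := fun x => (h1 _).2 fun h hh => by
    obtain ⟨c, hc⟩ := H99.mem_SM.1 hh
    refine H99.mem_SM.2 ⟨x.1 c, fun y => ?_⟩
    conv_rhs => rw [← h2 (φ x) y]
    simp only [Units.val_mul, Module.End.mul_apply, hc, hφ, map_mul]
    ring
  refine (Nat.card_eq_of_bijective (fun x => ⟨φ x, h5 x⟩)
    ⟨fun x y e => ?_, fun ⟨g, hg⟩ => ?_⟩).symm
  · have e' : ∀ z, x.2 * x.1 z = y.2 * y.1 z := fun z => by
      rw [← hφ, ← hφ, show φ x = φ y from congrArg Subtype.val e]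
    have e1 : x.2 = y.2 := Units.ext (by simpa using e' 1)
    exact Prod.ext (AlgEquiv.ext fun z => by simpa [e1] using e' z) e1
  · have h0 : g.1 1 ≠ 0 := fun e => by simpa [e] using h3 g 1
    have h4 : ∀ a b, g.1 (a * b) * g.1 1 = g.1 a * g.1 b := fun a b => by
      rcases eq_or_ne a 0 with rfl | ha
      · simp
      obtain ⟨c, hc⟩ := H99.mem_SM.1 ((h1 g).1 hg _ ⟨Units.mk0 a ha, rfl⟩)
      have e : ∀ y, g.1 (a * y) = c * g.1 y := fun y => by
        rw [← hc]; simp only [Units.val_mul, Module.End.mul_apply, h3]; rfl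
      rw [e, ← mul_one a, e]; ring
    let ψ : K →ₗ[F] K := LinearMap.mulLeft F (g.1 1)⁻¹ ∘ₗ g.1
    let σ : K →ₐ[F] K := AlgHom.ofLinearMap ψ (by simp [ψ, h0]) fun a b => by
      simp only [ψ, LinearMap.comp_apply, LinearMap.mulLeft_apply]
      field_simp
      rw [mul_comm, h4]
    refine ⟨(AlgEquiv.ofBijective σ σ.bijective, Units.mk0 _ h0), Subtype.ext (Units.ext
      (LinearMap.ext fun y => ?_))⟩
    simp [hφ, σ, ψ, h0]

end Cfsg.Agent.S5738
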