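import Cfsg.Statements.S5947
import Cfsg.Agent.H99.Singer

set_option autoImplicit false
open Cfsg

namespace Cfsg.Agent.S5947

/-- Let F ⊆ K be finite fields with |F| = q and [K : F] = n ≥ 2, regard K as an n-dimensional F-vector space, and let M ≤ GL_F(K) be the Singer group of multiplications by non-zero elements of K (cyclic of order q^n − 1). Assume (n, q) ≠ (6, 2), and that it is not the case that n = 2 with q a prime such that q + 1 is a power of 2. Then every abelian subgroup of GL_F(K) of order q^n − 1 is conjugate to M. -/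
theorem result {F K : Type*} [Field F] [Fintype F] [Field K] [Fintype K] [Algebra F K] (n : ℕ) (hn : 2 ≤ n) (hdim : Module.finrank F K = n)
    (hex1 : ¬ (n = 6 ∧ Fintype.card F = 2))
    (hex2 : ¬ (n = 2 ∧ (Fintype.card F).Prime ∧ ∃ a : ℕ, Fintype.card F + 1 = 2 ^ a))
    (U : Subgroup (Module.End F K)ˣ) (hU : IsMulCommutative U) (hcard : Nat.card U = Fintype.card K - 1) :
    ∃ g : (Module.End F K)ˣ, U.map (MulAut.conj g).toMonoidHom = (Units.map ((Algebra.lmul F K : K →ₐ[F] Module.End F K) : K →* Module.End F K)).range := by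
  classical
  haveI : Finite (Module.End F K) := Finite.of_injective _ DFunLike.coe_injective
  obtain ⟨r, r1, r2, r3⟩ := H99.exists_ppd (FiniteField.isPrimePow_card F) hn hex1 hex2
  haveI := Fact.mk r1
  have hK : Fintype.card K = Fintype.card F ^ n := hdim ▸ Module.card_eq_pow_finrank
  obtain ⟨u, hu⟩ := exists_prime_orderOf_dvd_card' (G := U) r (by rwa [hcard, hK])
  have h1 : u.1.1 ^ r = 1 := congrArg (fun x : U => x.1.1) (hu ▸ pow_orderOf_eq_one u)
  have h0 : r ∣ Fintype.card K - 1 := hK ▸ r2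
  have hN' : (r : K) ≠ 0 := fun e => by
    obtain ⟨c, hc⟩ := h0
    have := congrArg (Nat.cast : ℕ → K) hc
    simp [Nat.cast_sub Fintype.card_pos, e] at this
  have hN : (r : F) ≠ 0 := fun e => hN' (by rw [← map_natCast (algebraMap F K), e, map_zero])
  obtain ⟨P, p1, p2, -, p3, v, -, p4, p5⟩ := H99.exists_irred_V1 hN h1 (H99.tInv_V1 _) le_rfl
    fun e => r1.one_lt.ne' (hu ▸ orderOf_eq_one_iff.2 (Subtype.ext (Units.ext
      (sub_eq_zero.1 (LinearMap.range_eq_bot.1 e)))))
  replace p3 : P.natDegree = Module.finrank F K := p3.trans (r3.trans hdim.symm)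
  obtain ⟨a, ha⟩ : ∃ a : K, Polynomial.aeval a P = 0 := by
    haveI := Fact.mk p1
    haveI := (AdjoinRoot.powerBasis' p2).finite
    haveI : Finite (AdjoinRoot P) := Module.finite_of_finite F
    obtain ⟨φ⟩ := FiniteField.nonempty_algHom_of_finrank_dvd (F := F) (K := AdjoinRoot P) (L := K)
      (by rw [(AdjoinRoot.powerBasis' p2).finrank, ← p3]; rfl)
    exact ⟨φ (AdjoinRoot.root P), by simp [Polynomial.aeval_algHom_apply]⟩
  obtain rfl := minpoly.eq_of_irreducible_of_monic p1 ha p2
  obtain ⟨g1, g, g2⟩ := H99.exists_conj_lmul p3 p4 p5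
  have h2 : ∀ y, g.1 ((g⁻¹).1 y) = y := LinearMap.congr_fun g.mul_inv
  have h3 : ∀ y, (g⁻¹).1 (g.1 y) = y := LinearMap.congr_fun g.inv_mul
  refine ⟨g⁻¹, Subgroup.eq_of_le_of_card_ge ?_ (by
    rw [Subgroup.card_map_of_injective (MulAut.conj g⁻¹).injective, hcard, H99.card_SM])⟩
  rintro _ ⟨w, hw, rfl⟩
  have h4 : Commute (g⁻¹ * w * g).1 (Algebra.lmul F K a) := LinearMap.ext fun x => by
    have := LinearMap.congr_fun (congrArg (fun x : U => x.1.1) (hU.is_comm.comm ⟨w, hw⟩ u)) (g.1 x)
    change w.1 (u.1.1 _) = u.1.1 (w.1 _) at this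
    change (g⁻¹).1 (w.1 (g.1 (a * x))) = a * (g⁻¹).1 (w.1 (g.1 x))
    rw [← g2, this, ← h3 (a * _), ← g2, h2]
  refine H99.mem_SM_of_comm fun c x => ?_
  obtain ⟨f, rfl⟩ := g1 c
  have := LinearMap.congr_fun (Algebra.commute_of_mem_adjoin_singleton_of_commute
    (Polynomial.aeval_mem_adjoin_singleton F _ (p := f)) h4).eq x
  rw [Polynomial.aeval_algHom_apply] at this
  simpa using this

end Cfsg.Agent.S5947
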