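import Cfsg.Statements.S4355
import Cfsg.Agent.H83.StrongClosed
import Cfsg.Agent.H83.ClassSize

set_option autoImplicit false
open Cfsg

namespace Cfsg.Agent.S4355

open Subgroup in
theorem core (n : ℕ) : ∀ (G : Type*) [Group G] [Finite G] (S : Sylow 2 G), Nat.card G ≤ n →
    (∀ x ∈ (S : Subgroup G), ∃ g : G, g * x * g⁻¹ ∈ (S : Subgroup G) ∧
      ∀ s ∈ (S : Subgroup G), s * (g * x * g⁻¹) = (g * x * g⁻¹) * s) →
    ∀ x ∈ (S : Subgroup G), ∀ s ∈ (S : Subgroup G), s * x = x * s := by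
  induction n with
  | zero =>
    intro G _ _ S hn
    exact absurd hn (by have := Nat.card_pos (α := G); omega)
  | succ n ih =>
  intro G _ _ S hn h
  have hreal : ∀ x ∈ (S : Subgroup G), IsConj x x⁻¹ → x ^ 2 = 1 := by
    intro x hx hr
    obtain ⟨g, -, hg⟩ := h x hx
    refine H83.sq_eq_one_of_isConj_inv ?_ hr
    rw [← H83.cs_conj g x]
    exact H83.not_dvd_index_iff.mpr ⟨S, fun s hs => H83.mem_cent.mpr (hg s hs)⟩
  have hmul : ∀ a ∈ (S : Subgroup G), ∀ b ∈ (S : Subgroup G), a ^ 2 = 1 → b ^ 2 = 1 →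
      (a * b) ^ 2 = 1 := by
    intro a ha b hb ha2 hb2
    apply hreal _ (mul_mem ha hb)
    rw [pow_two] at ha2 hb2
    have e1 : a⁻¹ = a := inv_eq_of_mul_eq_one_right ha2
    have e2 : b⁻¹ = b := inv_eq_of_mul_eq_one_right hb2
    refine isConj_iff.mpr ⟨a, ?_⟩
    rw [mul_inv_rev, e1, e2, ← mul_assoc, ha2, one_mul]
  let A : Subgroup G :=
    { carrier := {x | x ∈ (S : Subgroup G) ∧ x ^ 2 = 1}
      one_mem' := ⟨one_mem _, one_pow _⟩
      mul_mem' := fun {a b} ha hb => ⟨mul_mem ha.1 hb.1, hmul a ha.1 b hb.1 ha.2 hb.2⟩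
      inv_mem' := fun {a} ha => ⟨inv_mem ha.1, by rw [inv_pow, ha.2, inv_one]⟩ }
  have hAS : A ≤ S := fun x hx => hx.1
  have hAc : ∀ a ∈ A, ∀ b ∈ A, a * b = b * a := by
    intro a ha b hb
    have h1 := ha.2
    have h2 := hb.2
    have h3 := (A.mul_mem ha hb).2
    rw [pow_two] at h1 h2 h3
    calc a * b = a * (a * b * (a * b)) * b := by rw [h3]; group
      _ = (a * a) * (b * a) * (b * b) := by group
      _ = b * a := by rw [h1, h2]; group
  have hsc : ∀ x ∈ A, ∀ g : G, g * x * g⁻¹ ∈ (S : Subgroup G) → g * x * g⁻¹ ∈ A :=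
    fun x hx g hg => ⟨hg, by rw [conj_pow, hx.2]; simp⟩
  by_cases hA : A = ⊥
  · intro x hx s _
    have : x = 1 := by
      by_contra hx1
      obtain ⟨k, hk⟩ := H82.orderOf_eq_pow_of_mem S.isPGroup' hx
      rcases k with _ | k
      · exact hx1 (orderOf_eq_one_iff.mp (by simpa using hk))
      · have : x ^ 2 ^ k ∈ A := ⟨pow_mem hx _, by rw [← pow_mul, ← pow_succ, ← hk, pow_orderOf_eq_one]⟩
        rw [hA, mem_bot] at this
        have := orderOf_dvd_of_pow_eq_one this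
        rw [hk] at this
        have := Nat.le_of_dvd (by positivity) this
        rw [pow_succ] at this
        have : 0 < 2 ^ k := by positivity
        omega
    simp [this]
  have hSN : (S : Subgroup G) ≤ normalizer (A : Set G) := by
    intro s hs
    apply mem_normalizer_fintype
    intro a ha
    exact hsc a ha s (mul_mem (mul_mem hs (hAS ha)) (inv_mem hs))
  have h' : ∀ x ∈ (S : Subgroup G), ∃ g ∈ normalizer (A : Set G), g * x * g⁻¹ ∈ (S : Subgroup G) ∧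
      ∀ s ∈ (S : Subgroup G), s * (g * x * g⁻¹) = (g * x * g⁻¹) * s := by
    intro x hx
    obtain ⟨g, hg1, hg2⟩ := h x hx
    obtain ⟨m, hm, hm2⟩ := H83.strongClosed_controls S A hAc hAS hsc (zpowers x)
      (zpowers_le.mpr hx) g (by
        rintro _ ⟨k, rfl⟩
        simp only
        rw [← conj_zpow]
        exact zpow_mem hg1 k)
    have := hm2 x (mem_zpowers x)
    exact ⟨m, hm, this ▸ hg1, this ▸ hg2⟩
  have hAZ : ∀ a ∈ A, ∀ t ∈ (S : Subgroup G), a * t = t * a := by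
    intro a ha t ht
    obtain ⟨g, hg, -, hg2⟩ := h' t ht
    have := hg2 _ (hAS (H2.conj_mem_of_mem_normalizer hg ha))
    calc a * t = g⁻¹ * (g * a * g⁻¹ * (g * t * g⁻¹)) * g := by group
      _ = t * a := by rw [this]; group
  set N := normalizer (A : Set G) with hN
  let A' : Subgroup N := A.subgroupOf N
  have hA'n : A'.Normal := inferInstance
  let T : Sylow 2 (N ⧸ A') := (S.subtype hSN).mapSurjective (QuotientGroup.mk'_surjective A')
  have hT : ∀ y : N ⧸ A', y ∈ (T : Subgroup (N ⧸ A')) ↔ ∃ x : N, (x : G) ∈ (S : Subgroup G) ∧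
      (x : N ⧸ A') = y := fun y => Iff.rfl
  have hcard : Nat.card (N ⧸ A') ≤ n := by
    have h1 : Nat.card (N ⧸ A') < Nat.card N := H2.card_quotient_lt A' (by
      intro hb
      apply hA
      rw [eq_bot_iff]
      intro a ha
      have : (⟨a, hSN (hAS ha)⟩ : N) ∈ A' := ha
      rw [hb, mem_bot] at this
      exact congrArg Subtype.val this)
    have h2 := N.card_le_card_group
    omega
  have hcomm := ih (N ⧸ A') T hcard (by
    intro y hy
    obtain ⟨x, hx, rfl⟩ := (hT y).mp hy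
    obtain ⟨g, hg, hg1, hg2⟩ := h' x hx
    refine ⟨((⟨g, hg⟩ : N) : N ⧸ A'), (hT _).mpr ⟨⟨g, hg⟩ * x * ⟨g, hg⟩⁻¹, hg1, rfl⟩, ?_⟩
    intro s hs
    obtain ⟨s, hs', rfl⟩ := (hT s).mp hs
    have : s * (⟨g, hg⟩ * x * ⟨g, hg⟩⁻¹) = (⟨g, hg⟩ * x * ⟨g, hg⟩⁻¹) * s :=
      Subtype.ext (hg2 s hs')
    exact congrArg (QuotientGroup.mk' A') this)
  have : IsMulCommutative T := ⟨⟨fun a b => Subtype.ext (hcomm b b.2 a a.2)⟩⟩
  intro x hx s hs
  obtain ⟨g, hg, hg1, hg2⟩ := h' x hx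
  obtain ⟨m, hm, hm2⟩ := T.conj_eq_normalizer_conj_of_mem ((⟨x, hSN hx⟩ : N) : N ⧸ A')
    (((⟨g, hg⟩ : N) : N ⧸ A'))⁻¹ ((hT _).mpr ⟨_, hx, rfl⟩)
    ((hT _).mpr ⟨⟨g, hg⟩ * ⟨x, hSN hx⟩ * ⟨g, hg⟩⁻¹, hg1, by rw [inv_inv]; rfl⟩)
  obtain ⟨m, rfl⟩ := QuotientGroup.mk_surjective m
  have h1 : ((m⁻¹ * ⟨s, hSN hs⟩ * m : N) : N ⧸ A') ∈ (T : Subgroup (N ⧸ A')) :=
    H2.inv_conj_mem_of_mem_normalizer (H := (T : Subgroup (N ⧸ A'))) hm ((hT _).mpr ⟨_, hs, rfl⟩)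
  obtain ⟨s', hs', hs2⟩ := (hT _).mp h1
  have h2 : (m : G)⁻¹ * s * m ∈ (S : Subgroup G) := by
    have h3 : (s' : G)⁻¹ * ((m : G)⁻¹ * s * m) ∈ A := mem_subgroupOf.mp (QuotientGroup.eq.mp hs2)
    simpa using mul_mem hs' (hAS h3)
  have h3 : (g * x * g⁻¹)⁻¹ * ((m : G)⁻¹ * x * m) ∈ A := by
    have : ((⟨g, hg⟩ * ⟨x, hSN hx⟩ * ⟨g, hg⟩⁻¹ : N) : N ⧸ A') =
        ((m⁻¹ * ⟨x, hSN hx⟩ * m : N) : N ⧸ A') := by rw [inv_inv] at hm2; exact hm2
    exact mem_subgroupOf.mp (QuotientGroup.eq.mp this)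
  have h4 := hAZ _ h3 _ h2
  have h5 := hg2 _ h2
  calc s * x = m * (((m : G)⁻¹ * s * m) * (g * x * g⁻¹) *
        ((g * x * g⁻¹)⁻¹ * ((m : G)⁻¹ * x * m))) * (m : G)⁻¹ := by group
    _ = m * ((g * x * g⁻¹) * (((m : G)⁻¹ * s * m) *
        ((g * x * g⁻¹)⁻¹ * ((m : G)⁻¹ * x * m)))) * (m : G)⁻¹ := by rw [h5]; group
    _ = x * s := by rw [← h4]; group

/-- If every element of 2-power order of a finite group has a conjugacy class of odd size, then the Sylow 2-subgroups of the group are abelian. -/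
theorem result {G : Type*} [Group G] [Finite G]
    (h : ∀ x : G, (∃ k : ℕ, orderOf x = 2 ^ k) → ¬ 2 ∣ (Subgroup.centralizer ({x} : Set G)).index) (P : Sylow 2 G) :
    IsMulCommutative P := by
  have key := core (Nat.card G) G P le_rfl (by
    intro x hx
    obtain ⟨k, hk⟩ := H82.orderOf_eq_pow_of_mem P.isPGroup' hx
    obtain ⟨Q, hQ1, hQ2⟩ := H83.exists_sylow_le_of_not_dvd_index (h x ⟨k, hk⟩)
      (H82.isPGroup_zpowers hk) (H83.zpowers_le_cent x)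
    obtain ⟨g, rfl⟩ := MulAction.exists_smul_eq G Q P
    refine ⟨g, H2.conj_mem_conj_smul g (hQ1 (Subgroup.mem_zpowers x)), fun s hs => ?_⟩
    have := H83.mem_cent.mp (hQ2 (H2.mem_conj_smul.mp hs))
    calc s * (g * x * g⁻¹) = g * (g⁻¹ * s * g * x) * g⁻¹ := by group
      _ = _ := by rw [this]; group)
  exact ⟨⟨fun a b => Subtype.ext (key b b.2 a a.2)⟩⟩

end Cfsg.Agent.S4355
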