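import Cfsg.Statements.S2202
import Cfsg.Agent.H8.InvAbProd
import Mathlib.Algebra.Group.Shrink

set_option autoImplicit false
open Cfsg

namespace Cfsg.Agent.S2202

/-- Finite groups in which the centralizer of every involution is abelian. Let G be a finite group of even order in which the centralizer of every element of order 2 is abelian. Then the Sylow 2-subgroups of G are cyclic, or a Sylow 2-subgroup of G is normal, or G is isomorphic to the direct product of SL₂(F) for a finite field F of characteristic two and an abelian group of odd order. -/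
theorem result {G : Type*} [Group G] [Finite G] (heven : Even (Nat.card G)) (h : ∀ t : G, orderOf t = 2 → IsMulCommutative ↥(Subgroup.centralizer ({t} : Set G))) :
    (∀ P : Sylow 2 G, IsCyclic ↥P) ∨ (∀ P : Sylow 2 G, (P : Subgroup G).Normal) ∨
    (∃ (F : Type) (_ : Field F) (_ : Fintype F) (A : Type) (_ : CommGroup A) (_ : Finite A), CharP F 2 ∧ Odd (Nat.card A) ∧ Nonempty (G ≃* Matrix.SpecialLinearGroup (Fin 2) F × A)) := by
  have hab : H8.AbC G := fun t x y ht hx hy => congrArg Subtype.val
    ((h t ht).is_comm.comm ⟨x, H8.mem_centralizer_singleton.2 hx⟩ ⟨y, H8.mem_centralizer_singleton.2 hy⟩)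
  by_cases h1 : ∀ P : Sylow 2 G, IsCyclic ↥P
  · exact Or.inl h1
  by_cases h2 : ∀ P : Sylow 2 G, (P : Subgroup G).Normal
  · exact Or.inr (Or.inl h2)
  push Not at h1 h2
  obtain ⟨P, hP⟩ := h1
  obtain ⟨Q, hQ⟩ := h2
  have hn := hab.nonComm_of_not_normal Q hQ
  obtain ⟨K, _, _, hK, -, ⟨e⟩⟩ := hab.prod
    (H8.twoComm_of_not_isCyclic P.2 (fun x hx y hy => hab.sylow_comm P hx hy) hP) hn
  let _ : CommGroup (Subgroup.center G) := { (inferInstance : Group (Subgroup.center G)) with
    mul_comm := fun a b => Subtype.ext (Subgroup.mem_center_iff.1 b.2 a) }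
  have : Finite (Shrink.{0} (Subgroup.center G)) := Finite.of_equiv _ (equivShrink _)
  refine Or.inr (Or.inr ⟨K, inferInstance, inferInstance, Shrink.{0} (Subgroup.center G),
    inferInstance, this, hK, ?_, ⟨e.trans ((MulEquiv.refl _).prodCongr Shrink.mulEquiv.symm)⟩⟩)
  rw [← Nat.card_congr (equivShrink.{0} (Subgroup.center G))]
  exact hab.odd_center hn

end Cfsg.Agent.S2202
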