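import Cfsg.Statements.S0081
import Cfsg.Agent.H3.Tate

set_option autoImplicit false
open Cfsg

namespace Cfsg.Agent.S0081

/-- If a normal subgroup meets a Sylow p-subgroup P inside the Frattini subgroup of P, then it has a normal p-complement. -/
theorem result {G : Type*} [Group G] [Finite G] {p : ℕ} [Fact p.Prime] (P : Sylow p G) (N : Subgroup G) [N.Normal] (h : N ⊓ (P : Subgroup G) ≤ (frattini P).map (P : Subgroup G).subtype) : Cfsg.HasNormalPComplement p N := by
  -- work in `L = P N`
  have hPL : (P : Subgroup G) ≤ (P : Subgroup G) ⊔ N := le_sup_left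
  refine H3.hasNormalPComplement_of_le (le_sup_right : N ≤ (P : Subgroup G) ⊔ N) ?_
  apply H3.hasNormalPComplement_of_inf_pResidual_le_frattini (P.subtype hPL)
  have h1 : pResidual p ↥((P : Subgroup G) ⊔ N) ≤ N.subgroupOf ((P : Subgroup G) ⊔ N) := by
    apply H3.pResidual_le_of_isPGroup_quotient
    exact (P.2.to_quotient (N.subgroupOf P)).of_equiv
      (QuotientGroup.quotientInfEquivProdNormalQuotient (P : Subgroup G) N)
  intro x hx
  let e := Subgroup.subgroupOfEquivOfLe hPL
  obtain ⟨y, hy, hyx⟩ := h (Subgroup.mem_inf.mpr ⟨h1 hx, x.2⟩)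
  have h2 := frattini_le_comap_frattini_of_surjective (φ := e.symm.toMonoidHom) e.symm.surjective hy
  have h3 : e.symm y = x := Subtype.ext (Subtype.ext hyx)
  exact h3 ▸ h2

end Cfsg.Agent.S0081
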