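import Cfsg.Statements.S3909
import Cfsg.Agent.H80.Misc
import Cfsg.Agent.H23.Basic

set_option autoImplicit false
open Cfsg

namespace Cfsg.Agent.S3909

open Subgroup

/-- Let G be a finite group in which any two abelian subgroups of the same order are conjugate. Let M be a normal subgroup of G. If M contains an element of the same order as a ∈ G, then a ∈ M; and if M is elementary abelian of order p^t with p prime and t ≥ 2, then M is the unique Sylow p-subgroup of G. -/
theorem result {G : Type*} [Group G] [Finite G] (hB : ∀ A B : Subgroup G, IsMulCommutative ↥A → IsMulCommutative ↥B → Nat.card ↥A = Nat.card ↥B → ∃ g : G, B = A.map (MulAut.conj g).toMonoidHom) (M : Subgroup G) [M.Normal] :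
    (∀ a : G, (∃ m ∈ M, orderOf m = orderOf a) → a ∈ M) ∧
    ∀ (p t : ℕ) [Fact p.Prime], 2 ≤ t → Nat.card ↥M = p ^ t → Cfsg.IsElementaryAbelian p M → ∀ P : Sylow p G, (P : Subgroup G) = M := by
  have h1 : ∀ a : G, (∃ m ∈ M, orderOf m = orderOf a) → a ∈ M := by
    rintro a ⟨m, hm, hma⟩
    obtain ⟨g, hg⟩ := hB (zpowers m) (zpowers a) inferInstance inferInstance
      (by rw [Nat.card_zpowers, Nat.card_zpowers, hma])
    have := mem_zpowers a
    rw [hg, H4.mem_map_conj] at this
    have h2 := Normal.conj_mem inferInstance _ (zpowers_le.2 hm this) g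
    simpa [mul_assoc] using h2
  refine ⟨h1, fun p t _ ht hM hE P => ?_⟩
  have hp : p.Prime := Fact.out
  refine le_antisymm (fun x hx => ?_) ((IsPGroup.of_card hM).le_sylow_of_normal P)
  obtain ⟨k, hk⟩ := IsPGroup.iff_orderOf.1 P.isPGroup' ⟨x, hx⟩
  rw [← orderOf_coe] at hk
  simp only at hk
  rcases k with _ | _ | k
  · rw [pow_zero, orderOf_eq_one_iff] at hk
    rw [hk]; exact one_mem _
  · obtain ⟨m, hm⟩ := exists_prime_orderOf_dvd_card' (G := M) p (hM ▸ dvd_pow_self p (by omega))
    exact h1 x ⟨m, m.2, by rw [orderOf_coe, hm, hk]; simp⟩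
  · exfalso
    obtain ⟨K, hK⟩ := Sylow.exists_subgroup_card_pow_prime (G := M) p (n := 2) (hM ▸ pow_dvd_pow p ht)
    have hy : orderOf (x ^ p ^ k) = p ^ 2 := by
      rw [orderOf_pow, hk, Nat.gcd_eq_right (pow_dvd_pow p (by omega)), Nat.pow_div (by omega) hp.pos]
      congr 1; omega
    have hcK : IsMulCommutative (K.map M.subtype) :=
      H23.isMulCommutative_of_le hE.1 (map_subtype_le _)
    obtain ⟨g, hg⟩ := hB (K.map M.subtype) (zpowers (x ^ p ^ k)) hcK inferInstance
      (by rw [Nat.card_zpowers, hy, card_map_of_injective M.subtype_injective, hK])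
    have := mem_zpowers (x ^ p ^ k)
    rw [hg, H4.mem_map_conj] at this
    have h2 := hE.2 _ (map_subtype_le _ this)
    rw [show g⁻¹ * x ^ p ^ k * g = g⁻¹ * x ^ p ^ k * g⁻¹⁻¹ by simp, conj_pow, conj_eq_one_iff] at h2
    have h3 := orderOf_dvd_of_pow_eq_one h2
    rw [hy] at h3
    have := Nat.le_of_dvd hp.pos h3
    nlinarith [hp.two_le]

end Cfsg.Agent.S3909
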