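import Cfsg.Statements.S3178
import Mathlib
import Cfsg.Agent.H74.SylowBasic
import Cfsg.Agent.H74.OddAut
import Cfsg.Agent.S0071

set_option autoImplicit false
open Cfsg
open scoped Pointwise

namespace Cfsg.Agent.S3178


/-- Groups with a modular Sylow 2-subgroup have a normal 2-complement. Let S, of order 2^(n+1) with n ≥ 3, be a Sylow 2-subgroup of a finite group G, and suppose S contains an element a of order 2^n and an involution b with b a b⁻¹ = a^(2^(n-1) + 1); so S is the non-abelian 2-group with a cyclic subgroup of index 2 that is neither dihedral, semidihedral nor generalized quaternion. Then G has a normal 2-complement. -/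
theorem result {G : Type*} [Group G] [Finite G]
    (S : Sylow 2 G) (n : ℕ) (hn : 3 ≤ n) (hS : Nat.card ↥(S : Subgroup G) = 2 ^ (n + 1))
    (a b : G) (ha : a ∈ (S : Subgroup G)) (hb : b ∈ (S : Subgroup G))
    (hao : orderOf a = 2 ^ n) (hbo : orderOf b = 2) (hrel : b * a * b⁻¹ = a ^ (2 ^ (n - 1) + 1)) :
    Cfsg.HasNormalPComplement 2 G := by
  classical
  haveI : Fact (Nat.Prime 2) := ⟨Nat.prime_two⟩
  obtain ⟨r, rfl⟩ : ∃ r, n = r + 3 := ⟨n - 3, by omega⟩
  -- notation: `m = 2^r`, `u = a^(2m)`, `z = a^(4m)`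
  set m : ℤ := 2 ^ r with hm
  have hmpos : 0 < m := by positivity
  have hao' : ((orderOf a : ℕ) : ℤ) = 8 * m := by rw [hao, hm]; push_cast; ring
  have hone : ∀ k : ℤ, a ^ k = 1 ↔ 8 * m ∣ k := fun k => by rw [← orderOf_dvd_iff_zpow_eq_one, hao']
  set z : G := a ^ (4 * m) with hz
  have hb2 : b * b = 1 := by rw [← pow_two, ← hbo, pow_orderOf_eq_one]
  have hbi : b⁻¹ = b := inv_eq_of_mul_eq_one_right hb2
  have hrel' : b * a * b⁻¹ = a ^ (4 * m + 1) := by
    rw [hrel, ← zpow_natCast]; congr 1
    rw [show r + 3 - 1 = r + 2 by omega, hm]; push_cast; ring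
  have hconj : ∀ i : ℤ, b * a ^ i * b⁻¹ = a ^ ((4 * m + 1) * i) := fun i => by
    rw [← conj_zpow, hrel', zpow_mul]
  have hz2 : z * z = 1 := by rw [hz, ← zpow_add, hone]; exact ⟨1, by ring⟩
  have hz1 : z ≠ 1 := by
    rw [hz, Ne, hone]; intro h
    have := Int.le_of_dvd (by omega) h; omega
  have hinv : ∀ k : ℤ, a ^ (2 * k) = 1 → a ^ k = 1 ∨ a ^ k = z := by
    intro k hk
    obtain ⟨c, hc⟩ := (hone _).1 hk
    have hk' : k = 4 * m * c := by linarith
    rcases Int.even_or_odd' c with ⟨d, rfl | rfl⟩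
    · left; rw [hone]; exact ⟨d, by rw [hk']; ring⟩
    · right
      rw [hk', show 4 * m * (2 * d + 1) = 8 * m * d + 4 * m by ring, zpow_add, (hone _).2 ⟨d, rfl⟩, one_mul]
  have hba : b ∉ Subgroup.zpowers a := by
    rintro ⟨k, rfl⟩
    simp only at hrel'
    apply hz1
    have : a ^ (4 * m + 1) = a := by rw [← hrel']; group
    rw [zpow_add_one] at this
    exact mul_eq_right.1 this
  have hidx : ((Subgroup.zpowers a).subgroupOf (S : Subgroup G)).index = 2 := by
    have := Subgroup.card_mul_index ((Subgroup.zpowers a).subgroupOf (S : Subgroup G))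
    rw [Nat.card_congr (Subgroup.subgroupOfEquivOfLe (Subgroup.zpowers_le.2 ha)).toEquiv, Nat.card_zpowers, hao,
      hS, pow_succ 2 (r + 3)] at this
    exact Nat.eq_of_mul_eq_mul_left (by positivity) this
  have hnf : ∀ s ∈ (S : Subgroup G), ∃ i : ℤ, s = a ^ i ∨ s = a ^ i * b := by
    intro s hs
    by_cases h : s ∈ Subgroup.zpowers a
    · obtain ⟨i, hi⟩ := h; exact ⟨i, Or.inl hi.symm⟩
    · have : (⟨s, hs⟩ : (S : Subgroup G)) * ⟨b, hb⟩ ∈ (Subgroup.zpowers a).subgroupOf (S : Subgroup G) := by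
        rw [Subgroup.mul_mem_iff_of_index_two hidx]
        exact iff_of_false h hba
      obtain ⟨i, hi⟩ := this
      refine ⟨i, Or.inr ?_⟩
      have hi' : a ^ i = s * b := hi
      rw [hi', mul_assoc, hb2, mul_one]
  have hsq : ∀ i : ℤ, (a ^ i * b) * (a ^ i * b) = a ^ (2 * ((2 * m + 1) * i)) := fun i => by
    calc (a ^ i * b) * (a ^ i * b) = a ^ i * (b * a ^ i * b⁻¹) := by rw [hbi]; group
      _ = _ := by rw [hconj, ← zpow_add]; congr 1; ring
  have hsqmem : ∀ s ∈ (S : Subgroup G), s * s ∈ Subgroup.zpowers a := by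
    intro s hs
    obtain ⟨i, rfl | rfl⟩ := hnf s hs
    · exact Subgroup.mul_mem _ (Subgroup.zpow_mem_zpowers a i) (Subgroup.zpow_mem_zpowers a i)
    · rw [hsq]; exact Subgroup.zpow_mem_zpowers a _
  -- even powers of `a` are central in `S`
  have hcen : ∀ k : ℤ, ∀ s ∈ (S : Subgroup G), s * a ^ (2 * k) = a ^ (2 * k) * s := by
    intro k s hs
    have hbk : b * a ^ (2 * k) = a ^ (2 * k) * b := by
      rw [← mul_inv_eq_iff_eq_mul, hconj, show (4 * m + 1) * (2 * k) = 8 * m * k + 2 * k by ring, zpow_add,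
        (hone _).2 ⟨k, rfl⟩, one_mul]
    obtain ⟨i, rfl | rfl⟩ := hnf s hs
    · group
    · rw [mul_assoc, hbk]; group
  -- elements in the same coset of `⟨a⟩` with the same square
  have hfib : ∀ x ∈ (S : Subgroup G), ∀ y ∈ (S : Subgroup G), (x ∈ Subgroup.zpowers a ↔ y ∈ Subgroup.zpowers a) →
      x * x = y * y → y = x ∨ y = x * z := by
    intro x hx y hy hxy hs
    have hnb : ∀ i : ℤ, a ^ i * b ∉ Subgroup.zpowers a := fun i h =>
      hba ((Subgroup.mul_mem_cancel_left _ (Subgroup.zpow_mem_zpowers a i)).1 h)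
    obtain ⟨i, rfl | rfl⟩ := hnf x hx <;> obtain ⟨j, rfl | rfl⟩ := hnf y hy
    · have : a ^ (2 * (j - i)) = 1 := by
        calc a ^ (2 * (j - i)) = (a ^ j * a ^ j) * (a ^ i * a ^ i)⁻¹ := by group
          _ = 1 := by rw [hs]; group
      rcases hinv _ this with h | h
      · left; calc a ^ j = a ^ i * a ^ (j - i) := by group
          _ = _ := by rw [h, mul_one]
      · right; rw [← h]; group
    · exact absurd (hxy.1 (Subgroup.zpow_mem_zpowers a i)) (hnb j)
    · exact absurd (hxy.2 (Subgroup.zpow_mem_zpowers a j)) (hnb i)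
    · rw [hsq, hsq] at hs
      have h1 : a ^ ((2 * m + 1) * (2 * (j - i))) = 1 := by
        calc a ^ ((2 * m + 1) * (2 * (j - i))) =
            a ^ (2 * ((2 * m + 1) * j)) * (a ^ (2 * ((2 * m + 1) * i)))⁻¹ := by group
          _ = 1 := by rw [hs]; group
      have h2 : a ^ (2 * (j - i)) = 1 := by
        rw [hone] at h1 ⊢
        refine IsCoprime.dvd_of_dvd_mul_left ?_ h1
        have : (8 : ℤ) * m = 2 ^ (r + 3) := by rw [hm]; ring
        rw [this]
        apply IsCoprime.pow_left
        exact ⟨-m, 1, by ring⟩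
      have hzb : z * b = b * z := by
        rw [hz, show 4 * m = 2 * (2 * m) by ring]; exact (hcen _ b hb).symm
      rcases hinv _ h2 with h | h
      · left; calc a ^ j * b = a ^ i * a ^ (j - i) * b := by group
          _ = _ := by rw [h, mul_one]
      · right; rw [mul_assoc, ← hzb, ← h]; group
  have key : ∀ Q : Subgroup G, Q ≤ (S : Subgroup G) → ∀ g ∈ Subgroup.normalizer (Q : Set G),
      Nat.Coprime (orderOf g) 2 → g ∈ Subgroup.centralizer (Q : Set G) := by
    intro Q hQ g hg ho
    have hgQ : ∀ x ∈ Q, g * x * g⁻¹ ∈ Q := fun x hx => (Subgroup.mem_normalizer_iff.1 hg x).1 hx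
    -- `g` fixes `z` when `z ∈ Q`
    have hgz : z ∈ Q → g * z * g⁻¹ = z := by
      intro hzQ
      have hzi : ∀ i : ℤ, a ^ (4 * m * i) ∈ Q := fun i => by rw [zpow_mul]; exact Q.zpow_mem hzQ i
      have haN : a ∈ Subgroup.normalizer (Q : Set G) := by
        apply Subgroup.mem_normalizer_fintype
        intro x hx
        obtain ⟨i, rfl | rfl⟩ := hnf x (hQ hx)
        · have : a * a ^ i * a⁻¹ = a ^ i := by group
          rw [this]; exact hx
        · have : a * (a ^ i * b) * a⁻¹ = a ^ (4 * m * (-1)) * (a ^ i * b) := by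
            calc a * (a ^ i * b) * a⁻¹ = a ^ (i + 1) * (b * a ^ (-1 : ℤ) * b⁻¹) * b := by group
              _ = _ := by rw [hconj]; group
          rw [this]; exact Q.mul_mem (hzi _) hx
      have hbN : b ∈ Subgroup.normalizer (Q : Set G) := by
        apply Subgroup.mem_normalizer_fintype
        intro x hx
        obtain ⟨i, rfl | rfl⟩ := hnf x (hQ hx)
        · have : b * a ^ i * b⁻¹ = a ^ (4 * m * i) * a ^ i := by rw [hconj]; group
          rw [this]; exact Q.mul_mem (hzi _) hx
        · have : b * (a ^ i * b) * b⁻¹ = a ^ (4 * m * i) * (a ^ i * b) := by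
            calc b * (a ^ i * b) * b⁻¹ = (b * a ^ i * b⁻¹) * b := by group
              _ = _ := by rw [hconj]; group
          rw [this]; exact Q.mul_mem (hzi _) hx
      have hSN : (S : Subgroup G) ≤ Subgroup.normalizer (Q : Set G) := by
        intro s hs
        obtain ⟨i, rfl | rfl⟩ := hnf s hs
        · exact Subgroup.zpow_mem _ haN i
        · exact Subgroup.mul_mem _ (Subgroup.zpow_mem _ haN i) hbN
      have hNC : ∀ s ∈ Subgroup.normalizer (Q : Set G), ∀ c ∈ Subgroup.centralizer (Q : Set G),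
          s * c * s⁻¹ ∈ Subgroup.centralizer (Q : Set G) := by
        intro s hs c hc x hx
        have := hc _ ((Subgroup.mem_normalizer_iff''.1 hs x).1 hx)
        calc x * (s * c * s⁻¹) = s * (s⁻¹ * x * s * c) * s⁻¹ := by group
          _ = _ := by rw [this]; group
      set u : G := a ^ (2 * m) with hu
      have huC : u ∈ Subgroup.centralizer (Q : Set G) := fun x hx => hcen m x (hQ hx)
      have hw := hNC g hg u huC
      have hw2 : IsPGroup 2 (Subgroup.zpowers (g * u * g⁻¹)) := by
        apply IsPGroup.of_card_dvd_pow (n := 2)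
        rw [Nat.card_zpowers]
        apply orderOf_dvd_of_pow_eq_one
        rw [conj_pow, hu, ← zpow_natCast, ← zpow_mul, (hone _).2 ⟨1, by push_cast; ring⟩]; simp
      obtain ⟨h, hh, hh2⟩ := H74.exists_conj_mem_sylow_of_le S
        (H := (S : Subgroup G) ⊔ Subgroup.centralizer (Q : Set G)) le_sup_left hw2
        ((Subgroup.zpowers_le.2 hw).trans le_sup_right)
      have hh' : h ∈ ((S : Subgroup G) : Set G) * (Subgroup.centralizer (Q : Set G) : Set G) := by
        rw [← Subgroup.coe_mul_of_left_le_normalizer_right]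
        · exact hh
        · rw [Subgroup.le_normalizer_iff]
          exact fun s hs c hc => hNC s (hSN hs) c hc
      obtain ⟨s, hs, k, hk, rfl⟩ := hh'
      have h3 : k * (g * u * g⁻¹) * k⁻¹ ∈ (S : Subgroup G) := by
        have := (S : Subgroup G).mul_mem ((S : Subgroup G).mul_mem ((S : Subgroup G).inv_mem hs)
          (hh2 _ (Subgroup.mem_zpowers _))) hs
        convert this using 1; group
      have h4 := hsqmem _ h3
      have h5 : k * (g * u * g⁻¹) * k⁻¹ * (k * (g * u * g⁻¹) * k⁻¹) = g * z * g⁻¹ := by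
        calc _ = k * (g * z * g⁻¹) * k⁻¹ := by rw [hu, hz]; group
          _ = _ := by rw [← hk _ (hgQ z hzQ)]; group
      rw [h5] at h4
      obtain ⟨j, hj⟩ := h4
      simp only at hj
      have h6 : a ^ (2 * j) = 1 := by
        calc a ^ (2 * j) = a ^ j * a ^ j := by group
          _ = g * (z * z) * g⁻¹ := by rw [hj]; group
          _ = 1 := by rw [hz2]; group
      rcases hinv _ h6 with h7 | h7
      · rw [hj] at h7; exact absurd (by simpa using h7) hz1
      · rw [← hj, h7]
    -- `g` fixes squares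
    have hgsq : ∀ x ∈ Q, g * (x * x) * g⁻¹ = x * x := by
      intro x hx
      set D := Subgroup.closure {y : G | ∃ x ∈ Q, y = x * x} with hD
      have hDa : D ≤ Subgroup.zpowers a := by
        rw [hD, Subgroup.closure_le]
        rintro _ ⟨y, hy, rfl⟩
        exact hsqmem y (hQ hy)
      haveI : IsCyclic D := Subgroup.isCyclic_of_le hDa
      have hgD : g ∈ Subgroup.normalizer (D : Set G) := by
        apply Subgroup.mem_normalizer_fintype
        have : Subgroup.zpowers g ≤ Subgroup.normalizer (D : Set G) := by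
          rw [hD, Subgroup.le_normalizer_closure_iff]
          rintro h hh _ ⟨y, hy, rfl⟩
          apply Subgroup.subset_closure
          exact ⟨h * y * h⁻¹, (Subgroup.mem_normalizer_iff.1 ((Subgroup.zpowers_le.2 hg) hh) y).1 hy, by group⟩
        exact fun y hy => (Subgroup.mem_normalizer_iff.1 (this (Subgroup.mem_zpowers g)) y).1 hy
      have := H74.commute_of_normalizes_cyclic (S.isPGroup'.to_le (hDa.trans (Subgroup.zpowers_le.2 ha))) hgD ho
        (Subgroup.subset_closure ⟨x, hx, rfl⟩)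
      rw [this.eq]; group
    have hstep : ∀ h ∈ Subgroup.zpowers g, ∀ x ∈ Q,
        (x ∈ Subgroup.zpowers a ↔ h * x * h⁻¹ ∈ Subgroup.zpowers a) → Commute (h ^ 2) x := by
      intro h hh x hx hxa
      have hhx : h * x * h⁻¹ ∈ Q := (Subgroup.mem_normalizer_iff.1 ((Subgroup.zpowers_le.2 hg) hh) x).1 hx
      obtain ⟨k, rfl⟩ := hh
      simp only at hxa hhx ⊢
      have hc : Commute g (x * x) := by
        show g * (x * x) = x * x * g
        rw [← mul_inv_eq_iff_eq_mul]; exact hgsq x hx
      have h1 : x * x = (g ^ k * x * (g ^ k)⁻¹) * (g ^ k * x * (g ^ k)⁻¹) := by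
        calc x * x = g ^ k * (x * x) * (g ^ k)⁻¹ := by rw [(hc.zpow_left k).eq]; group
          _ = _ := by group
      rcases hfib x (hQ hx) _ (hQ hhx) hxa h1 with h2 | h2
      · have : Commute (g ^ k) x := by
          show g ^ k * x = x * g ^ k
          rw [← mul_inv_eq_iff_eq_mul]; exact h2
        exact this.pow_left 2
      · have hzQ : z ∈ Q := by rw [h2] at hhx; exact (Q.mul_mem_cancel_left hx).1 hhx
        have hcz : Commute g z := by
          show g * z = z * g
          rw [← mul_inv_eq_iff_eq_mul]; exact hgz hzQ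
        show (g ^ k) ^ 2 * x = x * (g ^ k) ^ 2
        rw [← mul_inv_eq_iff_eq_mul]
        calc (g ^ k) ^ 2 * x * ((g ^ k) ^ 2)⁻¹ = g ^ k * (g ^ k * x * (g ^ k)⁻¹) * (g ^ k)⁻¹ := by group
          _ = g ^ k * (x * z) * (g ^ k)⁻¹ := by rw [h2]
          _ = (g ^ k * x * (g ^ k)⁻¹) * (g ^ k * z * (g ^ k)⁻¹) := by group
          _ = x * (z * z) := by rw [h2, (hcz.zpow_left k).eq]; group
          _ = x := by rw [hz2, mul_one]
    intro x hx
    suffices Commute g x from this.symm
    by_cases h1 : x ∈ Subgroup.zpowers a ↔ g * x * g⁻¹ ∈ Subgroup.zpowers a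
    · exact H74.commute_of_pow_commute ho (hstep g (Subgroup.mem_zpowers g) x hx h1)
    · by_cases h2 : x ∈ Subgroup.zpowers a ↔ g ^ 2 * x * (g ^ 2)⁻¹ ∈ Subgroup.zpowers a
      · have := hstep (g ^ 2) (Subgroup.npow_mem_zpowers g 2) x hx h2
        rw [← pow_mul] at this
        exact H74.commute_of_pow_commute (ho.mul_right ho) this
      · have h3 : g * x * g⁻¹ ∈ Subgroup.zpowers a ↔ g * (g * x * g⁻¹) * g⁻¹ ∈ Subgroup.zpowers a := by
          have e : g * (g * x * g⁻¹) * g⁻¹ = g ^ 2 * x * (g ^ 2)⁻¹ := by rw [pow_two]; group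
          rw [e]; tauto
        have := H74.commute_of_pow_commute ho (hstep g (Subgroup.mem_zpowers g) _ (hgQ x hx) h3)
        show g * x = x * g
        calc g * x = g⁻¹ * (g * (g * x * g⁻¹)) * g := by group
          _ = x * g := by rw [this.eq]; group
  obtain ⟨N, hN1, hN2⟩ := (S0071.result S).2 key
  exact ⟨S, N, hN1, hN2⟩

end Cfsg.Agent.S3178
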