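import Cfsg.Statements.S5212
import Cfsg.Agent.H93.Metacyc
import Cfsg.Agent.H92.Reduce

set_option autoImplicit false
open Cfsg

namespace Cfsg.Agent.S5212

open Cfsg.FusionSystem Cfsg.Agent.H93
open Cfsg.Agent.H91 hiding center_central center_le central_bot central_mono central_sup conj_mem_hyp core_le core_normal exists_conj_mod_hyp focal_eq_hyp_sup isCentral_iff isFullyAutomized_iff isNormal_iff le_center le_core mem_opIn_of_chain normal_bot normal_sup sSup_mem_of_sup_closed stronglyClosed_iff weaklyClosed_iff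

/-- Let S be a finite metacyclic 2-group that is not homocyclic abelian (a direct product of cyclic groups of one common order), not dihedral, not semidihedral and not generalized quaternion. Then every saturated fusion system over S is the inner fusion system of S. -/
theorem result {Ω : Type*} [Group Ω] {S : Subgroup Ω} [Finite S] (hS : IsPGroup 2 S) (F : Cfsg.FusionSystem S) (hF : F.IsSaturated 2) (hm : Cfsg.IsMetacyclic ↥S) (hh : ¬ ∃ n k : ℕ, Nonempty (↥S ≃* Multiplicative (Fin k → ZMod (2 ^ n)))) (hd : ¬ ∃ m : ℕ, Nonempty (↥S ≃* DihedralGroup m)) (hq : ¬ ∃ m : ℕ, Nonempty (↥S ≃* QuaternionGroup m)) (hsd : ¬ Cfsg.IsQuasiDihedral ↥S) : ∀ P : Subgroup Ω, F.Hom P = (Cfsg.innerFusionSystem S).Hom P := by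
  haveI : Fact (Nat.Prime 2) := ⟨Nat.prime_two⟩
  refine H92.inner_iff'.2 (H92.inner_of_normal_top hS hF
    (metacyclic_normal hS hF (stronglyClosed_top F) hm hd hq hsd) ?_)
  by_contra h
  rcases S1896.result hS hm (fun h' => h (h'.to_subgroup _)) with h1 | ⟨n, ⟨e⟩⟩
  · exact hq ⟨2, h1⟩
  · exact hh ⟨n, 2, ⟨e.trans ((MulEquiv.prodMultiplicative _ _).symm.trans
      (AddEquiv.toMultiplicative (LinearEquiv.finTwoArrow ℤ (ZMod (2 ^ n))).toAddEquiv.symm))⟩⟩

end Cfsg.Agent.S5212
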