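import Cfsg.Statements.S5226
import Cfsg.Agent.H93.NormCrit

set_option autoImplicit false
open Cfsg

namespace Cfsg.Agent.S5226

open Cfsg.FusionSystem Cfsg.Agent.H91 Cfsg.Agent.H93

open scoped commutatorElement in
theorem commutator_upper_le {Ω : Type*} [Group Ω] (Q : Subgroup Ω) (i : ℕ) :
    ⁅(Subgroup.upperCentralSeries Q (i + 1)).map Q.subtype, Q⁆ ≤
      (Subgroup.upperCentralSeries Q i).map Q.subtype := by
  refine Subgroup.commutator_le.2 ?_
  rintro _ ⟨x, hx, rfl⟩ y hy
  exact ⟨⁅x, ⟨y, hy⟩⁆, Subgroup.mem_upperCentralSeries_succ_iff.1 hx _, by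
    rw [map_commutatorElement]; rfl⟩

/-- Let F be a saturated fusion system over a finite p-group S and Q a subgroup of S. Then Q is normal in F (F equals the normalizer system of Q) if and only if Q is strongly closed in F and admits a central series 1 = Q₀ ≤ Q₁ ≤ ⋯ ≤ Qₙ = Q ([Qᵢ₊₁, Q] ≤ Qᵢ) all of whose proper terms are weakly closed in F. -/
theorem result {Ω : Type*} [Group Ω] {S : Subgroup Ω} [Finite S] (p : ℕ) [Fact p.Prime] (hS : IsPGroup p S) (F : Cfsg.FusionSystem S) (hF : F.IsSaturated p) (Q : Subgroup Ω) : F.IsNormal Q ↔ F.StronglyClosed Q ∧ ∃ (n : ℕ) (C : Fin (n + 1) → Subgroup Ω), C 0 = ⊥ ∧ C (Fin.last n) = Q ∧ Monotone C ∧ (∀ i : Fin n, ⁅C i.succ, Q⁆ ≤ C i.castSucc) ∧ ∀ i : Fin n, F.WeaklyClosed (C i.castSucc) := by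
  constructor
  · intro hQ
    haveI := finite_of_le hQ.1
    haveI := (isPGroup_of_le hS hQ.1).isNilpotent
    refine ⟨normal_sc hQ, Group.nilpotencyClass Q,
      fun i => (Subgroup.upperCentralSeries Q i).map Q.subtype, by simp, ?_, ?_,
      fun i => commutator_upper_le Q i, fun i => sc_weaklyClosed (normal_sc (normal_of_char hQ _))⟩
    · show (Subgroup.upperCentralSeries Q (Group.nilpotencyClass Q)).map Q.subtype = Q
      rw [Subgroup.upperCentralSeries_nilpotencyClass, ← MonoidHom.range_eq_map,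
        Subgroup.range_subtype]
    · exact fun i j hij => Subgroup.map_mono (Subgroup.upperCentralSeries_mono _ hij)
  · rintro ⟨hQ, n, C, h0, hn, hmono, hcomm, hwc⟩
    refine normal_of_local hS hF hQ fun R hR => ?_
    have hRS : R ≤ S := hR.le.trans (sc_le hQ)
    haveI := finite_of_le hRS
    have hCQ : ∀ i, C i ≤ Q := fun i => hn ▸ hmono (Fin.le_last i)
    have hex : ∃ i : ℕ, ∃ h : i < n + 1, ¬ C ⟨i, h⟩ ≤ R :=
      ⟨n, Nat.lt_succ_self n, fun h => hR.not_ge (hn ▸ h)⟩
    classical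
    obtain ⟨hi, hiR⟩ := Nat.find_spec hex
    have hmin : ∀ j (h : j < n + 1), j < Nat.find hex → C ⟨j, h⟩ ≤ R := fun j h hj => by
      by_contra hc; exact Nat.find_min hex hj ⟨h, hc⟩
    generalize Nat.find hex = i at hi hiR hmin
    obtain _ | i := i
    · exact absurd (by rw [show (⟨0, hi⟩ : Fin (n + 1)) = 0 from rfl, h0]; exact bot_le) hiR
    obtain ⟨t, ht, htR⟩ := SetLike.not_le_iff_exists.1 hiR
    have htQ := hCQ _ ht
    have key : ∀ j (h : j < n), ∀ a ∈ C ⟨j + 1, by omega⟩, ∀ b ∈ Q,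
        a * b * a⁻¹ * b⁻¹ ∈ C ⟨j, by omega⟩ := fun j h a ha b hb =>
      hcomm ⟨j, h⟩ (Subgroup.commutator_mem_commutator ha hb)
    have h1 : ∀ x ∈ R, x⁻¹ * (t * x * t⁻¹) ∈ C ⟨i, by omega⟩ := fun x hx => by
      have := (C _).inv_mem (key i (by omega) t ht x⁻¹ (Q.inv_mem (hR.le hx)))
      simpa [mul_assoc] using this
    have htN : t ∈ Subgroup.normalizer (R : Set Ω) := mem_normalizer_of_conj_mem fun x hx => by
      simpa using R.mul_mem hx (hmin i _ (by omega) (h1 x hx))
    refine ⟨t, htQ, htR, htN, mem_opIn_of_chain (isPGroup_of_le hS hRS)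
      (fun j => if h : j ≤ i then C ⟨j, by omega⟩ else R) (i + 1) ?_ (by simp) ?_
      (cjAut_mem_autGroup F hRS ⟨sc_le hQ htQ, htN⟩) ?_⟩
    · simp only [zero_le, dite_true]
      rw [show (⟨0, by omega⟩ : Fin (n + 1)) = 0 from rfl, h0, inf_bot_eq]
    · intro α hα j _ x hx hxc
      by_cases h : j ≤ i
      · simp only [h, dite_true] at hxc ⊢
        exact wc_mem (hwc ⟨j, by omega⟩) ((mem_autGroup_iff hRS).1 hα) (hmin j _ (by omega)) hxc
      · simp only [h, dite_false]; exact efn_mem α hx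
    · intro j hj x hx hxc
      have hj' : j ≤ i := by omega
      simp only [hj', dite_true]
      rw [efn_cjAut _ _ _ hx]
      by_cases h : j + 1 ≤ i
      · simp only [h, dite_true] at hxc
        have := key j (by omega) x⁻¹ ((C _).inv_mem hxc) t htQ
        simpa [mul_assoc] using this
      · obtain rfl : j = i := by omega
        exact h1 x hx

end Cfsg.Agent.S5226
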