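import Cfsg.Statements.S5236
import Cfsg.Agent.H93.NormCrit
import Cfsg.Agent.S5226

set_option autoImplicit false
open Cfsg

namespace Cfsg.Agent.S5236

open Cfsg.FusionSystem Cfsg.Agent.H91 Cfsg.Agent.H93

theorem efn_mem_omegaOne {Ω : Type*} [Group Ω] {p : ℕ} {P : Subgroup Ω} (α : MulAut P) {x : Ω}
    (hx : x ∈ omegaOne p P) : efn α x ∈ omegaOne p P := by
  have hle : omegaOne p P ≤ P := (Subgroup.closure_le _).2 fun _ h => h.1
  induction hx using Subgroup.closure_induction with
  | mem x hx => exact Subgroup.subset_closure ⟨efn_mem α hx.1, by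
      rw [← (homOn_efn α).map_pow hx.1, hx.2, (homOn_efn α).map_one]⟩
  | one => rw [(homOn_efn α).map_one]; exact one_mem _
  | mul x y hx hy h1 h2 => rw [(homOn_efn α).map_mul (hle hx) (hle hy)]; exact mul_mem h1 h2
  | inv x hx h1 => rw [(homOn_efn α).map_inv (hle hx)]; exact inv_mem h1

/-- Let p be an odd prime, F a saturated fusion system over a finite p-group S and P a subgroup of S strongly closed in F. Then P is normal in F if and only if Ω₁(P) (the subgroup generated by the elements of order p of P) has a chain of subgroups 1 = Q₀ ≤ Q₁ ≤ ⋯ ≤ Qₙ = Ω₁(P), each strongly closed in F, with [Qᵢ₊₁, P] ≤ Qᵢ for all i. -/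
theorem result {Ω : Type*} [Group Ω] {S : Subgroup Ω} [Finite S] (p : ℕ) [Fact p.Prime] (hS : IsPGroup p S) (F : Cfsg.FusionSystem S) (hF : F.IsSaturated p) (hp : p ≠ 2) (P : Subgroup Ω) (hP : F.StronglyClosed P) : F.IsNormal P ↔ ∃ (n : ℕ) (Q : Fin (n + 1) → Subgroup Ω), Q 0 = ⊥ ∧ Q (Fin.last n) = Cfsg.omegaOne p P ∧ Monotone Q ∧ (∀ i : Fin (n + 1), F.StronglyClosed (Q i)) ∧ ∀ i : Fin n, ⁅Q i.succ, P⁆ ≤ Q i.castSucc := by
  have hle : omegaOne p P ≤ P := (Subgroup.closure_le _).2 fun _ h => h.1
  constructor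
  · intro hQ
    haveI := finite_of_le hQ.1
    haveI := (isPGroup_of_le hS hQ.1).isNilpotent
    have hO : F.StronglyClosed (omegaOne p P) :=
      normal_sc (normal_of_invariant hQ hle fun α _ _ hx => efn_mem_omegaOne α hx)
    refine ⟨Group.nilpotencyClass P,
      fun i => omegaOne p P ⊓ (Subgroup.upperCentralSeries P i).map P.subtype, by simp, ?_, ?_,
      fun i => sc_inf hO (normal_sc (normal_of_char hQ _)), fun i => le_inf ?_ ?_⟩
    · show omegaOne p P ⊓ (Subgroup.upperCentralSeries P (Group.nilpotencyClass P)).map P.subtype = _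
      rw [Subgroup.upperCentralSeries_nilpotencyClass, ← MonoidHom.range_eq_map,
        Subgroup.range_subtype, inf_eq_left.2 hle]
    · exact fun i j hij => inf_le_inf_left _
        (Subgroup.map_mono (Subgroup.upperCentralSeries_mono _ hij))
    · refine Subgroup.commutator_le.2 fun a ha b hb => ?_
      have := (omegaOne p P).mul_mem ha.1
        (sc_conj_mem hO (hQ.1 hb) ((omegaOne p P).inv_mem ha.1))
      simpa [commutatorElement_def, mul_assoc] using this
    · exact (Subgroup.commutator_mono inf_le_right le_rfl).trans (S5226.commutator_upper_le P i)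
  · rintro ⟨n, C, h0, hn, -, hsc, hcomm⟩
    refine normal_of_local hS hF hP fun R hR => ?_
    have hRS : R ≤ S := hR.le.trans (sc_le hP)
    haveI := finite_of_le hRS
    haveI := finite_of_le (sc_le hP)
    obtain ⟨t, ht, htR⟩ := SetLike.exists_of_lt (lt_normalizerIn (isPGroup_of_le hS (sc_le hP)) hR)
    refine ⟨t, ht.1, htR, ht.2, mem_opIn_of_chain' (isPGroup_of_le hS hRS)
      (fun j => if h : j < n + 1 then C ⟨j, h⟩ else ⊥) n ?_ ?_ ?_
      (cjAut_mem_autGroup F hRS ⟨sc_le hP ht.1, ht.2⟩) ?_⟩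
    · simp only [Nat.zero_lt_succ, dite_true]
      rw [show (⟨0, by omega⟩ : Fin (n + 1)) = 0 from rfl, h0, inf_bot_eq]
    · intro α hα j hj x hx hxc
      have h : j < n + 1 := by omega
      simp only [h, dite_true] at hxc ⊢
      exact sc_mem (hsc _) ((mem_autGroup_iff hRS).1 hα) hx hxc
    · intro γ _ hγ
      refine pElt_of_omega_fixed hp (isPGroup_of_le hS hRS) fun x hx hxp => hγ x hx ?_
      simp only [Nat.lt_succ_self, dite_true]
      rw [show (⟨n, by omega⟩ : Fin (n + 1)) = Fin.last n from rfl, hn]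
      exact Subgroup.subset_closure ⟨hR.le hx, hxp⟩
    · intro j hj x hx hxc
      have h : j < n + 1 := by omega
      have h' : j + 1 < n + 1 := by omega
      simp only [h, h', dite_true] at hxc ⊢
      rw [efn_cjAut _ _ _ hx]
      have := hcomm ⟨j, hj⟩ (Subgroup.commutator_mem_commutator ((C _).inv_mem hxc) ht.1)
      simpa [commutatorElement_def, mul_assoc] using this

end Cfsg.Agent.S5236
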