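import Cfsg.Statements.S5234
import Cfsg.Agent.H93.AutAct
import Cfsg.Agent.H93.Agemo
import Cfsg.Agent.S5236
import Cfsg.Agent.S0638
import Cfsg.Agent.H22.PGroupMisc

set_option autoImplicit false
open Cfsg

namespace Cfsg.Agent.S5234

open Cfsg.FusionSystem Cfsg.Agent.H91 Cfsg.Agent.H93

/-- Let p be an odd prime, F a saturated fusion system over a finite p-group S and P a metacyclic subgroup of S strongly closed in F. Then P is normal in F. -/
theorem result {Ω : Type*} [Group Ω] {S : Subgroup Ω} [Finite S] (p : ℕ) [Fact p.Prime] (hS : IsPGroup p S) (F : Cfsg.FusionSystem S) (hF : F.IsSaturated p) (P : Subgroup Ω) (hP : F.StronglyClosed P) (hp : p ≠ 2) (hm : Cfsg.IsMetacyclic ↥P) : F.IsNormal P := by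
  have hPS := sc_le hP
  haveI := finite_of_le hPS
  have hPp := isPGroup_of_le hS hPS
  by_cases hcyc : IsCyclic P
  · refine normal_of_sc_abelian hS hF hP fun x hx y hy => ?_
    letI := hcyc.commGroup
    exact congrArg Subtype.val (mul_comm (⟨x, hx⟩ : P) ⟨y, hy⟩)
  obtain ⟨⟨hab0, hexp0⟩, hcard0⟩ := S0638.result hp hPp hm hcyc
  have hup := H22.le_upperCentralSeries_of_normal hPp 2 _ hcard0
  rw [H22.card_omegaOne_top] at hcard0
  set W := omegaOne p P with hW
  have hWm : ∀ x ∈ W, ∃ y ∈ omegaOne p (⊤ : Subgroup P), (y : Ω) = x := fun x hx => by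
    rw [hW, ← H22.map_omegaOne_top] at hx; exact hx
  have hWP : W ≤ P := (Subgroup.closure_le _).2 fun _ h => h.1
  have hWS := hWP.trans hPS
  have hexp : ∀ x ∈ W, x ^ p = 1 := fun x hx => by
    obtain ⟨y, hy, rfl⟩ := hWm x hx
    exact congrArg Subtype.val (hexp0 y hy)
  have hab : ∀ x ∈ W, ∀ y ∈ W, x * y = y * x := fun x hx y hy => by
    obtain ⟨a, ha, rfl⟩ := hWm x hx
    obtain ⟨b, hb, rfl⟩ := hWm y hy
    exact congrArg Subtype.val (congrArg Subtype.val (hab0.is_comm.comm (⟨a, ha⟩ : omegaOne p ⊤) ⟨b, hb⟩))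
  have memW : ∀ x ∈ P, x ^ p = 1 → x ∈ W := fun x hx h => Subgroup.subset_closure ⟨hx, h⟩
  have hWsc : F.StronglyClosed W := stronglyClosed_iff.2 ⟨hWS, fun Q f hf x hx hxW =>
    memW _ (sc_mem hP hf hx (hWP hxW)) (by rw [← hf.homOn.map_pow hx, hexp x hxW, hf.map_one])⟩
  have hWn := normal_of_sc_abelian hS hF hWsc hab
  haveI := finite_of_le hWS
  have hZ : F.StronglyClosed (W ⊓ Subgroup.centralizer (P : Set Ω)) := by
    refine normal_sc (normal_of_invariant hWn inf_le_left fun α hα z hz => ?_)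
    refine ⟨efn_mem α hz.1, fun t ht => ?_⟩
    by_contra hne
    have htN : t ∈ normalizerIn S W := ⟨hPS ht, sc_le_normalizer hWsc (hPS ht)⟩
    have hy := cjAut_mem_autGroup F hWS htN
    have hyp : ∃ k, cjAut W t htN.2 ^ p ^ k = 1 :=
      pow_eq_one_of_mem_isPGroup (isPGroup_autInducedBy hS W) (cjAut_mem_autInducedBy htN.1 _)
    have hyu : cjAut W t htN.2 (α ⟨z, hz.1⟩) ≠ α ⟨z, hz.1⟩ := fun e => hne (by
      have := congrArg Subtype.val e
      rw [coe_cjAut_apply, ← efn_of_mem α hz.1] at this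
      exact mul_inv_eq_iff_eq_mul.1 this)
    obtain ⟨ζ, hζ, hζe⟩ := rankTwo_neg (fun a b => Subtype.ext (hab _ a.2 _ b.2))
      (fun a => Subtype.ext (hexp _ a.2)) hcard0 (x := α * cjAut W t htN.2 * α⁻¹)
      (Subgroup.mul_mem _ (Subgroup.mul_mem _ hα hy) (Subgroup.inv_mem _ hα)) hy
      (hyp.imp fun k hk => by rw [conj_pow, hk]; simp) hyp
      (fun e => hyu (by
        have : cjAut W t htN.2 = 1 := by simpa using e
        rw [this]; rfl)) (by
        simp only [MulAut.mul_apply, MulAut.inv_apply_self]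
        congr 1
        exact Subtype.ext (by rw [coe_cjAut_apply, hz.2 t ht, mul_inv_cancel_right])) hyu
    have hζe' : ∀ x ∈ W, efn ζ x = x⁻¹ := fun x hx => by rw [efn_of_mem ζ hx, hζe]; rfl
    obtain ⟨f, hf, ef⟩ := ((mem_autGroup_iff hWS).1 hζ).extend (im_efn ζ)
      (sat_receptive' hS hF (isFullyNormalized_of_normal F hWS (sc_le_normalizer hWsc))) (R := P)
      (fun g hg => mem_extSub.2 ⟨⟨hPS hg, sc_le_normalizer hWsc (hPS hg)⟩, g, hPS hg, fun x hx => by
        rw [hζe' x hx, hζe' _ (sc_conj_mem hWsc (hPS hg) hx)]; group⟩)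
    have hf' := hf.restrict (le_sup_right (a := W))
    obtain ⟨β, hβ, eβ⟩ := hf'.exists_aut (sc_im_eq hP hf' le_rfl)
    have hp2 : Nat.Coprime 2 p :=
      (Nat.coprime_primes Nat.prime_two Fact.out).2 (Ne.symm hp)
    obtain ⟨γ, -, hγo, eγ⟩ := exists_pPrimeElt_extension p hWP (α := ζ)
      (Nat.Coprime.coprime_dvd_left (orderOf_dvd_of_pow_eq_one (n := 2) (by
        ext w; rw [sq, MulAut.mul_apply, hζe, hζe, inv_inv]; rfl)) hp2) hβ
      (fun x hx => (eβ x (hWP hx)).trans (ef x hx))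
    have eγ' : ∀ x ∈ W, efn γ x = x⁻¹ := fun x hx => (eγ x hx).trans (hζe' x hx)
    have hC : ∀ s : P, s⁻¹ * γ s ∈ (Subgroup.centralizer (W : Set Ω)).subgroupOf P := by
      intro s w hw
      have h1 := eγ' _ (sc_conj_mem hWsc (hPS s.2) (W.inv_mem hw))
      rw [(homOn_efn γ).map_conj s.2 (hWP (W.inv_mem hw)), eγ' _ (W.inv_mem hw), efn_coe] at h1
      simp only [Subgroup.coe_subtype, Subgroup.coe_mul, Subgroup.coe_inv]
      calc w * ((s : Ω)⁻¹ * γ s) = (s : Ω)⁻¹ * (s * w⁻¹ * (s : Ω)⁻¹)⁻¹ * γ s := by group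
        _ = (s : Ω)⁻¹ * γ s * w := by rw [← h1]; group
    obtain ⟨n, hn, en⟩ := aut_coset_fixed_elt hγo (hPp.to_subgroup _)
      (fun n hn => by simpa using Subgroup.mul_mem _ hn (hC n)) (hC ⟨t, ht⟩)
    have hs1 : (⟨t, ht⟩ * n : P) ∉ (⊥ : Subgroup P) := fun e => hne (by
      have : (⟨t, ht⟩ : P) = n⁻¹ := eq_inv_of_mul_eq_one_left (Subgroup.mem_bot.1 e)
      have h2 : (⟨t, ht⟩ : P) ∈ (Subgroup.centralizer (W : Set Ω)).subgroupOf P :=
        this ▸ Subgroup.inv_mem _ hn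
      exact (h2 _ (efn_mem α hz.1)).symm)
    obtain ⟨k, k1, k2⟩ := exists_pow_not_mem (p := p) (hPp _) hs1
    generalize (⟨t, ht⟩ * n : P) = s at en k1 k2
    have h1 : γ (s ^ k) = s ^ k := by rw [map_pow, en]
    rw [Subgroup.mem_bot] at k1 k2
    have h2 := eγ' _ (memW _ (s ^ k).2 (congrArg Subtype.val k2))
    rw [efn_coe, h1] at h2
    have h3 : (s ^ k) ^ 2 = 1 := Subtype.ext (by
      rw [sq, Subgroup.coe_mul]; nth_rewrite 1 [h2]; simp)
    exact k1 (by simpa [hp2] using (pow_gcd_eq_one.2 ⟨h3, k2⟩))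
  refine (S5236.result p hS F hF hp P hP).2 ⟨2, ![⊥, W ⊓ Subgroup.centralizer (P : Set Ω), W],
    rfl, rfl, ?_, ?_, ?_⟩
  · refine Fin.monotone_iff_le_succ.2 fun i => ?_
    fin_cases i
    · exact bot_le
    · exact inf_le_left
  · intro i
    fin_cases i
    · exact sc_bot F
    · exact hZ
    · exact hWsc
  · intro i
    fin_cases i
    · refine Subgroup.commutator_le.2 fun a ha b hb => ?_
      exact Subgroup.mem_bot.2 (commutatorElement_eq_one_iff_mul_comm.2 (ha.2 b hb).symm)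
    · refine Subgroup.commutator_le.2 fun a ha b hb => ⟨?_, fun c hc => ?_⟩
      · have := W.mul_mem ha (sc_conj_mem hWsc (hPS hb) (W.inv_mem ha))
        simpa [commutatorElement_def, mul_assoc] using this
      · obtain ⟨y, hy, rfl⟩ := hWm a ha
        have h1 := Subgroup.mem_upperCentralSeries_succ_iff.1 (hup hy) ⟨b, hb⟩
        rw [Subgroup.upperCentralSeries_one] at h1
        exact congrArg Subtype.val (Subgroup.mem_center_iff.1 h1 ⟨c, hc⟩)

end Cfsg.Agent.S5234
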