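import Cfsg.Statements.S0268
import Mathlib

set_option autoImplicit false
open Cfsg

namespace Cfsg.Agent.S0268

open Matrix

/-- For q odd, -1 is the unique involution of SL_2(q). -/
theorem result {F : Type*} [Field F] [Fintype F] (hF : Odd (Fintype.card F)) (g : Matrix.SpecialLinearGroup (Fin 2) F) (h1 : g ≠ 1) (h2 : g * g = 1) : (g : Matrix (Fin 2) (Fin 2) F) = -1 := by
  have h20 : (2 : F) ≠ 0 := by
    intro h
    have hc : ringChar F = 2 := by
      have : ringChar F ∣ 2 := ringChar.dvd (by exact_mod_cast h)
      rcases (Nat.dvd_prime Nat.prime_two).1 this with h' | h'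
      · exact absurd h' (CharP.ringChar_ne_one)
      · exact h'
    have := FiniteField.even_card_of_char_two hc
    rw [Nat.odd_iff] at hF
    omega
  have hd := g.det_coe
  rw [Matrix.det_fin_two] at hd
  have hm : (g : Matrix (Fin 2) (Fin 2) F) * g = 1 := by
    rw [← Matrix.SpecialLinearGroup.coe_mul, h2]; rfl
  have e00 := congrFun (congrFun hm 0) 0
  have e01 := congrFun (congrFun hm 0) 1
  have e10 := congrFun (congrFun hm 1) 0
  have e11 := congrFun (congrFun hm 1) 1
  simp only [Matrix.mul_apply, Fin.sum_univ_two, Matrix.one_apply] at e00 e01 e10 e11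
  simp only [Fin.isValue, ↓reduceIte, zero_ne_one, one_ne_zero] at e00 e01 e10 e11
  set a := (g : Matrix (Fin 2) (Fin 2) F) 0 0
  set b := (g : Matrix (Fin 2) (Fin 2) F) 0 1
  set c := (g : Matrix (Fin 2) (Fin 2) F) 1 0
  set d := (g : Matrix (Fin 2) (Fin 2) F) 1 1
  have ht : a + d ≠ 0 := by
    intro h
    apply h20
    have hd' : d = -a := by linear_combination h
    rw [hd'] at hd
    linear_combination -hd - e00
  have hb : b = 0 := by
    have : (a + d) * b = 0 := by linear_combination e01
    exact (mul_eq_zero.1 this).resolve_left ht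
  have hc : c = 0 := by
    have : (a + d) * c = 0 := by linear_combination e10
    exact (mul_eq_zero.1 this).resolve_left ht
  have had : a = d := by
    have : (a + d) * (a - d) = 0 := by linear_combination e00 - e11
    exact sub_eq_zero.1 ((mul_eq_zero.1 this).resolve_left ht)
  have ha : (a - 1) * (a + 1) = 0 := by rw [hb] at e00; linear_combination e00
  rcases mul_eq_zero.1 ha with h | h
  · exfalso
    apply h1
    have ha1 : a = 1 := by linear_combination h
    ext i j
    fin_cases i <;> fin_cases j
    · exact ha1
    · exact hb
    · exact hc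
    · exact had.symm.trans ha1
  · have ha1 : a = -1 := by linear_combination h
    ext i j
    fin_cases i <;> fin_cases j
    · simpa using ha1
    · simpa using hb
    · simpa using hc
    · simpa using (had ▸ ha1 : d = -1)

end Cfsg.Agent.S0268
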