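import Cfsg.Statements.S4552
import Cfsg.Agent.H87.Perf

set_option autoImplicit false
open Cfsg

namespace Cfsg.Agent.S4552

open Cfsg.Agent.H87 Cfsg.Agent.H32 MonoidAlgebra

theorem card_inv (m : ℕ) (hm : 1 ≤ m) :
    Nat.card {x : Multiplicative (ZMod (2 ^ m) × ZMod (2 ^ m)) // orderOf x = 2} = 3 := by
  classical
  have h1 : Nat.card {x : ZMod (2 ^ m) // 2 • x = 0} = 2 := by
    have := IsAddCyclic.card_nsmulAddMonoidHom_ker (ZMod (2 ^ m)) 2
    rw [Nat.card_zmod, Nat.gcd_eq_right (dvd_pow_self 2 (by omega))] at this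
    exact this
  have h2 : Nat.card {x : Multiplicative (ZMod (2 ^ m) × ZMod (2 ^ m)) // x ^ 2 = 1} = 4 := by
    rw [Nat.card_congr (Equiv.subtypeEquiv Multiplicative.toAdd
      (q := fun x => 2 • x.1 = 0 ∧ 2 • x.2 = 0) fun x => by
        rw [← toAdd_eq_zero, toAdd_pow, Prod.ext_iff]; rfl),
      Nat.card_congr (Equiv.subtypeProdEquivProd (p := fun x => 2 • x = 0) (q := fun x => 2 • x = 0)), Nat.card_prod, h1]
  have h3 : {x : Multiplicative (ZMod (2 ^ m) × ZMod (2 ^ m)) | x ^ 2 = 1} =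
      insert 1 {x | orderOf x = 2} := Set.ext fun x => by
    by_cases hx : x = 1
    · simp [hx]
    · simp only [Set.mem_ofPred_eq, Set.mem_insert_iff, hx, false_or]
      exact ⟨fun h => orderOf_eq_prime h hx, fun h => orderOf_dvd_iff_pow_eq_one.1 h.dvd⟩
  have h4 : Set.ncard {x : Multiplicative (ZMod (2 ^ m) × ZMod (2 ^ m)) | x ^ 2 = 1} = 4 := h2
  rw [h3, Set.ncard_insert_of_notMem (by simp)] at h4
  exact Nat.succ_injective h4

/-- Let B be a 2-block of the finite group G (relative to a maximal ideal M of the algebraic integers containing 2) whose defect group D is the direct product of two cyclic groups of the same order 2 ^ m, m ≥ 2. Then either B has 2-regular rank one and exactly 4 ^ m irreducible characters, or B has 2-regular rank three and exactly (4 ^ m + 8) / 3 irreducible characters. -/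
theorem result {G : Type*} [Group G] [Finite G] (M : Ideal Cfsg.AlgInt) (hM : Cfsg.IsPModular 2 M) (B : Set (Cfsg.IrrCharacter G)) (hB : Cfsg.IsPBlock M B) (D : Subgroup G) (hD : Cfsg.IsDefectGroup 2 M B D) (m : ℕ) (hm : 2 ≤ m) (hiso : Nonempty (D ≃* Multiplicative (ZMod (2 ^ m) × ZMod (2 ^ m)))) : (Cfsg.blockRank 2 B = 1 ∧ Nat.card B = 4 ^ m) ∨ (Cfsg.blockRank 2 B = 3 ∧ 3 * Nat.card B = 4 ^ m + 8) := by
  have := hM.2.1
  obtain ⟨e, h⟩ := H86.exists_ctx hM hB hD
  obtain ⟨α⟩ := hiso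
  have hab : D ≤ Ce D := fun a ha => mem_Ce.2 fun b hb => congrArg Subtype.val
    (α.injective (a₁ := ⟨b, hb⟩ * ⟨a, ha⟩) (a₂ := ⟨a, ha⟩ * ⟨b, hb⟩) (by rw [map_mul, map_mul, mul_comm]))
  obtain ⟨h2, h3, δ, ε, ζ, X, s, hs⟩ := exists_std_of_three h hab (by
    rw [← card_inv m (by omega)]
    exact Nat.card_congr (α.toEquiv.subtypeEquiv fun x => by simp))
  have h6 := hs.toFrob.card_eq
  have h7 : Nat.card D = 4 ^ m := by
    rw [Nat.card_congr α.toEquiv, Nat.card_congr Multiplicative.toAdd, Nat.card_prod, Nat.card_zmod, ← mul_pow]; rfl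
  rw [h3, h7] at h6
  rw [h3]
  rcases h2 with h2 | h2 <;> rw [h2] at h6 ⊢ <;> omega

end Cfsg.Agent.S4552
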