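import Cfsg.Statements.S0110
import Cfsg.Agent.H4.SCN

set_option autoImplicit false
open Cfsg
open scoped commutatorElement

namespace Cfsg.Agent.S0110

open Subgroup in
theorem card_mul_le_of_lt {G : Type*} [Group G] [Finite G] {p : ℕ} [hp : Fact p.Prime]
    {K L : Subgroup G} (hL : IsPGroup p L) (h : K < L) : Nat.card K * p ≤ Nat.card L := by
  obtain ⟨a, ha⟩ := (hL.to_le h.le).exists_card_eq
  obtain ⟨b, hb⟩ := hL.exists_card_eq
  have := H2.card_lt_of_lt h
  rw [ha, hb, Nat.pow_lt_pow_iff_right hp.out.one_lt] at this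
  rw [ha, hb, ← pow_succ]
  exact Nat.pow_le_pow_right hp.out.pos this

/-- In a p-group G, an extraspecial subgroup E with [G, E] ≤ Z(E) satisfies G = E C_G(E). -/
theorem result {G : Type*} [Group G] [Finite G] {p : ℕ} [Fact p.Prime] (hG : IsPGroup p G) (E : Subgroup G) (hE : Cfsg.IsExtraspecial p E) (h : ⁅(⊤ : Subgroup G), E⁆ ≤ E ⊓ Subgroup.centralizer (E : Set G)) : E ⊔ Subgroup.centralizer (E : Set G) = ⊤ := by
  have hpp : p.Prime := Fact.out
  set C := Subgroup.centralizer (E : Set G) with hC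
  have hcomm : ∀ x ∈ E, ∀ g : G, ⁅x, g⁆ ∈ E ⊓ C := fun x hx g =>
    h (Subgroup.commutator_comm E ⊤ ▸ Subgroup.commutator_mem_commutator hx (Subgroup.mem_top g))
  have hEn : E.Normal := ⟨fun x hx g => by
    have h1 : g * x * g⁻¹ = ⁅x, g⁆⁻¹ * x := by rw [commutatorElement_def]; group
    rw [h1]
    exact mul_mem (inv_mem (hcomm x hx g).1) hx⟩
  have hZ : Nat.card (E ⊓ C : Subgroup G) = p := by
    rw [← hE.2, ← Subgroup.card_subtype]
    congr 2
    ext x
    constructor
    · rintro ⟨h1, h2⟩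
      exact ⟨⟨x, h1⟩, Subgroup.mem_center_iff.mpr fun g => Subtype.ext (h2 g g.2), rfl⟩
    · rintro ⟨y, hy, rfl⟩
      exact ⟨y.2, fun g hg => congrArg Subtype.val (Subgroup.mem_center_iff.mp hy ⟨g, hg⟩)⟩
  have hZc : E ⊓ C ≤ Subgroup.center G := by
    obtain ⟨z, hz1, hz2, hz3⟩ := H3.exists_mem_center_orderOf_eq hG (E ⊓ C) (fun h => by
      rw [h, Subgroup.card_bot] at hZ
      exact hpp.ne_one hZ.symm)
    have : Subgroup.zpowers z = E ⊓ C := Subgroup.eq_of_le_of_card_ge
      (Subgroup.zpowers_le.mpr hz1) (by rw [hZ, Nat.card_zpowers, hz3])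
    rw [← this]
    exact Subgroup.zpowers_le.mpr hz2
  obtain ⟨K, -, ⟨hKE, hK⟩, hmax⟩ := exists_maximal_ge_of_wellFoundedGT
    (fun K : Subgroup G => K ≤ E ∧ (Subgroup.centralizer (K : Set G)).index * p ≤ Nat.card K)
    (E ⊓ C) ⟨inf_le_left, by
      rw [Subgroup.centralizer_eq_top_iff_subset.mpr hZc, Subgroup.index_top, one_mul, hZ]⟩
  have hKeq : K = E := by
    by_contra hne
    obtain ⟨x, hxE, hxK⟩ := SetLike.exists_of_lt (lt_of_le_of_ne hKE hne)
    have hlt : K < K ⊔ Subgroup.zpowers x := lt_of_le_of_ne le_sup_left fun h =>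
      hxK (h ▸ Subgroup.mem_sup_right (Subgroup.mem_zpowers x))
    refine hlt.not_ge (hmax ⟨sup_le hKE (Subgroup.zpowers_le.mpr hxE), ?_⟩ hlt.le)
    have h1 : Subgroup.centralizer ((K ⊔ Subgroup.zpowers x : Subgroup G) : Set G) =
        Subgroup.centralizer {x} ⊓ Subgroup.centralizer (K : Set G) := by
      refine le_antisymm (le_inf (Subgroup.centralizer_le (by
        simpa using Subgroup.mem_sup_right (Subgroup.mem_zpowers x)))
        (Subgroup.centralizer_le hlt.le)) ?_
      rw [Subgroup.le_centralizer_iff]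
      refine sup_le (Subgroup.le_centralizer_iff.mp inf_le_right) (Subgroup.zpowers_le.mpr ?_)
      exact fun y hy => Subgroup.mem_centralizer_singleton_iff.mp hy.1
    refine le_trans ?_ (card_mul_le_of_lt (hG.to_subgroup _) hlt)
    refine Nat.mul_le_mul_right _ (le_trans ?_ hK)
    rw [← Subgroup.relIndex_mul_index (Subgroup.centralizer_le hlt.le :
      Subgroup.centralizer ((K ⊔ Subgroup.zpowers x : Subgroup G) : Set G) ≤ _), h1,
      Subgroup.inf_relIndex_right, mul_comm]
    exact Nat.mul_le_mul_left _ (hZ ▸ H4.relIndex_centralizer_le fun c _ => hcomm x hxE c)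
  subst hKeq
  have h2 := H2.card_sup_mul_card_inf_of_normal K C
  rw [hZ] at h2
  refine Subgroup.eq_top_of_le_card _ (Nat.le_of_mul_le_mul_right ?_ hpp.pos)
  rw [h2, ← C.index_mul_card, mul_right_comm]
  exact Nat.mul_le_mul_right _ hK

end Cfsg.Agent.S0110
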