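import Cfsg.Statements.S3807
import Cfsg.Agent.H79.Count
import Cfsg.Agent.H3.PGroup

set_option autoImplicit false
open Cfsg

namespace Cfsg.Agent.S3807

open Subgroup
theorem center_le {S : Type*} [Group S] {p : ℕ} (hp : p.Prime) (hna : ¬ IsMulCommutative S)
    (A : Subgroup S) (hA : IsMulCommutative ↥A) (hAi : A.index = p) : center S ≤ A := by
  intro z hz
  by_contra hzA
  have h := H79.sup_zpowers_eq_top_of_index_prime hp hAi hzA
  apply hna
  have h1 : A ≤ center S := fun a ha => by
    have : (⊤ : Subgroup S) ≤ centralizer {a} := by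
      rw [← h, sup_le_iff, zpowers_le]
      refine ⟨fun b hb => mem_centralizer_singleton_iff.2 ?_, mem_centralizer_singleton_iff.2 ?_⟩
      · exact congrArg Subtype.val (mul_comm' (⟨b, hb⟩ : A) ⟨a, ha⟩)
      · exact (mem_center_iff.1 hz a).symm
    exact mem_center_iff.2 fun g => mem_centralizer_singleton_iff.1 (this (mem_top g))
  have h2 : (⊤ : Subgroup S) ≤ center S := by
    rw [← h, sup_le_iff, zpowers_le]; exact ⟨h1, hz⟩
  exact ⟨⟨fun a b => (mem_center_iff.1 (h2 (mem_top b)) a)⟩⟩

/-- Let S be a non-abelian finite p-group with an abelian subgroup A of index p. Then [S : Z(S)] = p·#[S,S], and either [S,S] has order p, S/Z(S) is elementary abelian of order p², and S has exactly p + 1 abelian subgroups of index p; or [S,S] has order at least p² and A is the only abelian subgroup of index p in S. -/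
theorem result {S : Type*} [Group S] [Finite S] (p : ℕ) [Fact p.Prime] (hS : IsPGroup p S) (hna : ¬ IsMulCommutative S)
    (A : Subgroup S) (hA : IsMulCommutative ↥A) (hAi : A.index = p) :
    (Subgroup.center S).index = p * Nat.card (commutator S) ∧
      ((Nat.card (commutator S) = p ∧ Cfsg.IsElementaryAbelian p (⊤ : Subgroup (S ⧸ Subgroup.center S)) ∧
          Nat.card (S ⧸ Subgroup.center S) = p ^ 2 ∧
          Nat.card {B : Subgroup S // IsMulCommutative ↥B ∧ B.index = p} = p + 1) ∨
        (p ^ 2 ≤ Nat.card (commutator S) ∧ ∀ B : Subgroup S, IsMulCommutative ↥B → B.index = p → B = A)) := by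
  have hp := (Fact.out : p.Prime)
  haveI := H3.normal_of_index_eq hS hAi
  have hZ := center_le hp hna A hA hAi
  obtain ⟨x, hx⟩ : ∃ x, x ∉ A := by
    by_contra! h
    have h' : A = ⊤ := eq_top_iff.2 fun x _ => h x
    rw [h', index_top] at hAi
    exact hp.one_lt.ne hAi
  have h1 := H79.card_eq_card_inf_center_mul A x (H79.sup_zpowers_eq_top_of_index_prime hp hAi hx)
  rw [inf_eq_right.2 hZ] at h1
  have hmain : (center S).index = p * Nat.card (commutator S) := by
    have h2 := (center S).card_mul_index
    rw [← A.card_mul_index, h1, hAi] at h2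
    apply Nat.eq_of_mul_eq_mul_left (Nat.card_pos (α := center S))
    rw [h2]; ring
  refine ⟨hmain, ?_⟩
  have hnc : ¬ IsCyclic (S ⧸ center S) := fun h => hna
    ⟨⟨commutative_of_cyclic_center_quotient (QuotientGroup.mk' (center S))
      (by rw [QuotientGroup.ker_mk'])⟩⟩
  obtain ⟨k, hk⟩ := (hS.to_subgroup (commutator S)).exists_card_eq
  have hk0 : k ≠ 0 := by
    rintro rfl
    have : commutator S = ⊥ := Subgroup.eq_bot_of_card_eq _ (by simpa using hk)
    rw [_root_.commutator_def, commutator_eq_bot_iff_le_centralizer] at this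
    exact hna ⟨⟨fun a b => this (mem_top b) a (mem_top a)⟩⟩
  by_cases hk1 : k = 1
  · left
    rw [hk1, pow_one] at hk
    have hc : Nat.card (S ⧸ center S) = p ^ 2 := by
      rw [← Subgroup.index_eq_card, hmain, hk, pow_two]
    have hexp : ∀ g : S ⧸ center S, g ^ p = 1 := by
      intro g
      have h3 : orderOf g ∣ p ^ 2 := hc ▸ orderOf_dvd_natCard g
      obtain ⟨i, hi, hi2⟩ := (Nat.dvd_prime_pow hp).1 h3
      have : i ≠ 2 := by
        rintro rfl
        exact hnc (isCyclic_of_orderOf_eq_card g (hi2.trans hc.symm))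
      rw [← orderOf_dvd_iff_pow_eq_one, hi2]
      have : i ≤ 1 := by omega
      simpa using Nat.pow_dvd_pow p this
    refine ⟨hk, ⟨⟨⟨fun a b => Subtype.ext ?_⟩⟩, fun a _ => hexp a⟩, hc, ?_⟩
    · exact (IsPGroup.commGroupOfCardEqPrimeSq hc).mul_comm _ _
    · rw [← H79.card_subgroups_prime_of_card_sq hp hexp hc]
      have hidx : ∀ H : Subgroup (S ⧸ center S), Nat.card H = p ↔ H.index = p := fun H => by
        have h4 := H.card_mul_index
        rw [hc, pow_two] at h4
        constructor
        · intro h; rw [h] at h4; exact Nat.eq_of_mul_eq_mul_left hp.pos h4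
        · intro h; rw [h] at h4; exact Nat.eq_of_mul_eq_mul_right hp.pos h4
      refine Nat.card_congr
        { toFun := fun B => ⟨B.1.map (QuotientGroup.mk' _), (hidx _).2 (by
            rw [index_map_eq _ (QuotientGroup.mk'_surjective _), B.2.2]
            rw [QuotientGroup.ker_mk']; exact center_le hp hna _ B.2.1 B.2.2)⟩
          invFun := fun H => ⟨H.1.comap (QuotientGroup.mk' _), ?_, by
            rw [index_comap_of_surjective _ (QuotientGroup.mk'_surjective _)]
            exact (hidx _).1 H.2⟩
          left_inv := fun B => Subtype.ext (by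
            refine comap_map_eq_self ?_
            rw [QuotientGroup.ker_mk']; exact center_le hp hna _ B.2.1 B.2.2)
          right_inv := fun H => Subtype.ext
            (map_comap_eq_self_of_surjective (QuotientGroup.mk'_surjective _) _) }
      haveI : IsCyclic H.1 := isCyclic_of_prime_card H.2
      refine ⟨⟨commutative_of_cyclic_center_quotient
        ((QuotientGroup.mk' (center S)).subgroupComap H.1) ?_⟩⟩
      intro y hy
      have h5 : (y : S) ∈ center S := by
        rw [← QuotientGroup.eq_one_iff]
        exact congrArg Subtype.val (MonoidHom.mem_ker.1 hy)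
      exact mem_center_iff.2 fun g => Subtype.ext (mem_center_iff.1 h5 g)
  · right
    have hk2 : p ^ 2 ≤ Nat.card (commutator S) := hk ▸ Nat.pow_le_pow_right hp.pos (by omega)
    refine ⟨hk2, fun B hB hBi => ?_⟩
    by_contra hne
    have hBA : ¬ B ≤ A := fun h => hne (by
      have h6 := relIndex_mul_index h
      rw [hAi, hBi] at h6
      exact le_antisymm h (relIndex_eq_one.1
        (Nat.eq_of_mul_eq_mul_right hp.pos (h6.trans (one_mul p).symm))))
    have hsup : A ⊔ B = ⊤ :=
      H79.eq_top_of_index_prime hp hAi le_sup_left fun h => hBA (le_sup_right.trans h)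
    have h7 : A ⊓ B ≤ center S := by
      rintro y ⟨hyA, hyB⟩
      have : (⊤ : Subgroup S) ≤ centralizer {y} := by
        rw [← hsup, sup_le_iff]
        refine ⟨fun b hb => mem_centralizer_singleton_iff.2 ?_,
          fun b hb => mem_centralizer_singleton_iff.2 ?_⟩
        · exact congrArg Subtype.val (mul_comm' (⟨b, hb⟩ : A) ⟨y, hyA⟩)
        · exact congrArg Subtype.val (mul_comm' (⟨b, hb⟩ : B) ⟨y, hyB⟩)
      exact mem_center_iff.2 fun g => mem_centralizer_singleton_iff.1 (this (mem_top g))
    have h8 : (center S).index ≤ p * p := by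
      calc (center S).index ≤ (A ⊓ B).index :=
            Nat.le_of_dvd (Nat.pos_of_ne_zero index_ne_zero_of_finite) (index_dvd_of_le h7)
        _ ≤ A.index * B.index := index_inf_le
        _ = p * p := by rw [hAi, hBi]
    rw [hmain] at h8
    have h9 := Nat.le_of_mul_le_mul_left h8 hp.pos
    have := hp.one_lt
    nlinarith

end Cfsg.Agent.S3807
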