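import Cfsg.Statements.S4544
import Cfsg.Agent.H35.SbCls

set_option autoImplicit false
open Cfsg

namespace Cfsg.Agent.S4544

/-- Let B be a 2-block of the finite group G (relative to a maximal ideal M of the algebraic integers containing 2) whose defect group D contains a cyclic subgroup of index at most 4 in D. Then B contains at most as many irreducible characters as D has elements. -/
theorem result {G : Type*} [Group G] [Finite G] (M : Ideal Cfsg.AlgInt) (hM : Cfsg.IsPModular 2 M) (B : Set (Cfsg.IrrCharacter G)) (hB : Cfsg.IsPBlock M B) (D : Subgroup G) (hD : Cfsg.IsDefectGroup 2 M B D) (C : Subgroup G) (hCD : C ≤ D) (hcyc : IsCyclic C) (hidx : C.relIndex D ≤ 4) : Nat.card B ≤ Nat.card D := by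
  have := hM.2.1
  obtain ⟨e, h⟩ := H86.exists_ctx hM hB hD
  obtain ⟨c, hc⟩ := (Subgroup.isCyclic_iff_exists_zpowers_eq_top (C.subgroupOf D)).1
    ((Subgroup.subgroupOfEquivOfLe hCD).isCyclic.2 hcyc)
  obtain ⟨z, hz, H⟩ := H35.exists_sm h.pgp (c := c) (hc ▸ hidx)
  exact H35.card_le_of_sm h hz H

end Cfsg.Agent.S4544
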