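import Cfsg.Statements.S3329
import Cfsg.Agent.H43.A8Hyp

set_option autoImplicit false
open Cfsg

namespace Cfsg.Agent.S3329

open Cfsg.Agent.H43.Alt8 Cfsg.Agent.H43.Alt8.Y in
theorem f1 : ∀ x : Y8, x * (w * w' * (w * w')) = w * w' * (w * w') * x → x * x * x = 1 →
    x = 1 ∨ x = z ∨ x = z⁻¹ := all1 (by decide +kernel)

open Cfsg.Agent.H43.Alt8 Cfsg.Agent.H43.Alt8.Y in
theorem f2 : ∀ k : Y8, k * w * k⁻¹ * w = w * (k * w * k⁻¹) → k * w * k⁻¹ = w ∨ k * w * k⁻¹ = w⁻¹ :=
  all0 (by decide +kernel)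

/-- A 3-local characterization of the alternating group of degree 8. Let G be a finite group whose Sylow 3-subgroup D is elementary abelian of order 9, generated by y and z, and suppose: (i) C_G(D) = D and N_G(D)/D is dihedral of order 8; (ii) D is normal in C_G(y), C_G(y) has order 18, D is normal in N_G(⟨y⟩) and N_G(⟨y⟩)/D is elementary abelian of order 4; (iii) C_G(z) is isomorphic to the direct product of a cyclic group of order 3 and the alternating group of degree 5, and N_G(⟨z⟩) is isomorphic to the subgroup of index 2 of Sym(3) × Sym(5) consisting of the pairs of permutations whose signs agree. Then G is isomorphic to the alternating group of degree 8. -/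
theorem result {G : Type*} [Group G] [Finite G]
    (P : Sylow 3 G) (D : Subgroup G) (hDP : D = P) (y z : G) (hgen : Subgroup.closure {y, z} = D)
    (hcomm : IsMulCommutative D) (hcard : Nat.card D = 9) (hexp : ∀ a ∈ D, a ^ 3 = 1)
    (hC : Subgroup.centralizer (D : Set G) = D)
    (eN : Subgroup.normalizer (D : Set G) ⧸ D.subgroupOf (Subgroup.normalizer (D : Set G)) ≃* DihedralGroup 4)
    (hyn : (D.subgroupOf (Subgroup.centralizer ({y} : Set G))).Normal)
    (hycard : Nat.card (Subgroup.centralizer ({y} : Set G)) = 18)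
    (Ny : Subgroup G) (hNy : Ny = Subgroup.normalizer (Subgroup.zpowers y : Set G))
    (hyN : D ≤ Ny) [hyNn : (D.subgroupOf Ny).Normal]
    (hyNcard : Nat.card (Ny ⧸ D.subgroupOf Ny) = 4) (hyNexp : ∀ g : Ny ⧸ D.subgroupOf Ny, g ^ 2 = 1)
    (eC : Subgroup.centralizer ({z} : Set G) ≃* Multiplicative (ZMod 3) × alternatingGroup (Fin 5))
    (eL : Subgroup.normalizer (Subgroup.zpowers z : Set G) ≃*
      (((Equiv.Perm.sign).comp (MonoidHom.fst (Equiv.Perm (Fin 3)) (Equiv.Perm (Fin 5)))) *
        ((Equiv.Perm.sign).comp (MonoidHom.snd (Equiv.Perm (Fin 3)) (Equiv.Perm (Fin 5))))).ker) :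
    Nonempty (G ≃* alternatingGroup (Fin 8)) := by
  subst hDP
  have hy : (P : Subgroup G) ≤ Subgroup.centralizer {y} :=
    hC.ge.trans (H49.cent_le_cent1 (hgen.le (Subgroup.subset_closure (by simp))))
  have h2 : (P : Subgroup G).relIndex (Subgroup.centralizer {y}) ∣ 2 := by
    have := H49.card_mul_relIndex hy
    rw [hcard, hycard] at this
    exact ⟨1, by omega⟩
  obtain ⟨ι, s, h1, h2, h3⟩ := H43.Alt8.exists_base (ρ₀ := H43.Alt8.Y.ρ) (τ₀ := H43.Alt8.Y.τ) f1
    (by decide +kernel) (by decide +kernel) f2 P hgen hcomm hcard hexp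
    (by rw [hC]; exact H43.Alt8.d8_facts eN) hyn (fun g hg => H43.Alt8.pow_mem_of_relIndex
      (Subgroup.le_normalizer_of_normal_subgroupOf (hK := hyn) hy) h2 hg)
    (by rw [hycard, Nat.card_congr eC.toEquiv, Nat.card_prod, H56.Alt.a5_card]; omega)
    (eL.trans H43.Alt8.eY)
  exact h3.iso h1 h2

end Cfsg.Agent.S3329
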