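import Cfsg.Statements.S4125
import Cfsg.Agent.H87.QbD

set_option autoImplicit false
open Cfsg

namespace Cfsg.Agent.S4125

/-- Let G be a finite group and q a prime dividing its order such that every element of q-power order has a conjugacy class of prime-power size. Then G is q-solvable of q-length 1: there are normal subgroups K ≤ L of G with K of order prime to q, L/K a q-group and L of index prime to q. Moreover there is a prime p such that every element of q-power order has a class of p-power size (one prime serving for all of them), and for a Sylow q-subgroup Q: if p = q then Q is normal with a normal complement (a direct factor), while if p ≠ q then Q is abelian, the product of Q with the largest normal p-subgroup O_p(G) is normal in G, and G/O_{q'}(G) is solvable, where O_{q'}(G) is the largest normal subgroup of order prime to q. -/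
theorem result {G : Type*} [Group G] [Finite G] (q : ℕ) [Fact q.Prime] (hq : q ∣ Nat.card G)
    (hBaer : ∀ x : G, (∃ k : ℕ, orderOf x = q ^ k) → ∃ (r : ℕ) (a : ℕ), r.Prime ∧ (Subgroup.centralizer ({x} : Set G)).index = r ^ a) (Q : Sylow q G) :
    (∃ K L : Subgroup G, K.Normal ∧ L.Normal ∧ K ≤ L ∧ (Nat.card K).Coprime q ∧ (∃ m : ℕ, K.relIndex L = q ^ m) ∧ L.index.Coprime q) ∧
    ∃ p : ℕ, p.Prime ∧ (∀ x : G, (∃ k : ℕ, orderOf x = q ^ k) → ∃ a : ℕ, (Subgroup.centralizer ({x} : Set G)).index = p ^ a) ∧
      (p = q → (Q : Subgroup G).Normal ∧ ∃ N : Subgroup G, N.Normal ∧ N.IsComplement' (Q : Subgroup G)) ∧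
      (p ≠ q → IsMulCommutative (Q : Subgroup G) ∧ (Cfsg.pCore p G ⊔ (Q : Subgroup G)).Normal ∧
        ∀ _h : (Cfsg.pPrimeCore q G).Normal, Group.IsSolvable (G ⧸ Cfsg.pPrimeCore q G)) := by
  obtain ⟨p, hp, h⟩ := H87.Qb.Baer.exists_prime (q := q) hBaer
  have hK := H33.pPrimeCore_normal' (p := q) (G := G)
  have hL : (pPrimeCore q G ⊔ (Q : Subgroup G)).Normal := by
    by_cases hpq : p = q
    · have := (H87.Qb.case_eq Q hq (hpq ▸ h)).1
      infer_instance
    · have := Fact.mk hp
      have := (H87.Qb.case_ne hp hpq Q h).2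
      rw [← sup_eq_left.mpr (H44.pCore_le_pPrimeCore (G := G) hpq), sup_assoc]
      infer_instance
  refine ⟨⟨_, _, hK, hL, le_sup_left, H44.pPrimeCore_coprime, ?_, ?_⟩, p, hp, h,
    fun e => H87.Qb.case_eq Q hq (e ▸ h), fun e => ⟨(H87.Qb.case_ne hp e Q h).1,
      (H87.Qb.case_ne hp e Q h).2, fun _ => H87.Qb.solv_quot hp e Q h⟩⟩
  · obtain ⟨k, hk⟩ := Q.isPGroup'.exists_card_eq
    obtain ⟨j, -, hj⟩ := (Nat.dvd_prime_pow Fact.out).mp
      (hk ▸ (pPrimeCore q G).relIndex_dvd_card (Q : Subgroup G))
    exact ⟨j, by rw [Subgroup.relIndex_sup_left, hj]⟩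
  · exact ((Nat.Prime.coprime_iff_not_dvd Fact.out).mpr fun e =>
      Q.not_dvd_index (e.trans (Subgroup.index_dvd_of_le le_sup_right))).symm

end Cfsg.Agent.S4125
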