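import Cfsg.Statements.S5892
import Cfsg.Agent.H93.L2Class

set_option autoImplicit false
open Cfsg

namespace Cfsg.Agent.S5892

open Cfsg.Agent.H28 Cfsg.Agent.H93.L2

/-- Let F be a finite field of odd order q ≥ 5 and characteristic p, and let M be a maximal subgroup of PSL₂(F). Then one of the following holds: |M| = q(q − 1)/2 (the stabiliser of a point of the projective line); q ≥ 13 and M is dihedral of order q − 1; q ∉ {7, 9} and M is dihedral of order q + 1; q = q₀² and M ≅ PGL₂(F₀) with |F₀| = q₀; q = q₀^r for an odd prime r and M ≅ PSL₂(F₀) with |F₀| = q₀; q ≡ ±1 (mod 10) with q = p or q = p², p ≡ ±3 (mod 10), and M ≅ A₅; q = p ≡ ±3 (mod 8), q ≢ ±1 (mod 10), and M ≅ A₄; or q = p ≡ ±1 (mod 8) and M ≅ S₄. -/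
theorem result {F : Type*} [Field F] [Fintype F] (p : ℕ)
    [Fact p.Prime] [CharP F p] (hodd : Odd (Fintype.card F)) (h5 : 5 ≤ Fintype.card F)
    (M : Subgroup (Matrix.ProjectiveSpecialLinearGroup (Fin 2) F)) (hM : IsCoatom M) :
    2 * Nat.card M = Fintype.card F * (Fintype.card F - 1) ∨
    (13 ≤ Fintype.card F ∧ (∃ k : ℕ, 2 * k = Fintype.card F - 1 ∧ Nonempty (M ≃* DihedralGroup k))) ∨
    (Fintype.card F ≠ 7 ∧ Fintype.card F ≠ 9 ∧ (∃ k : ℕ, 2 * k = Fintype.card F + 1 ∧ Nonempty (M ≃* DihedralGroup k))) ∨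
    (∃ (F₀ : Type) (_ : Field F₀) (_ : Fintype F₀), Fintype.card F = Fintype.card F₀ ^ 2 ∧
        Nonempty (M ≃* Matrix.ProjGenLinGroup (Fin 2) F₀)) ∨
    (∃ (F₀ : Type) (_ : Field F₀) (_ : Fintype F₀) (r : ℕ), r.Prime ∧ Odd r ∧ Fintype.card F = Fintype.card F₀ ^ r ∧
        Nonempty (M ≃* Matrix.ProjectiveSpecialLinearGroup (Fin 2) F₀)) ∨
    ((Fintype.card F % 10 = 1 ∨ Fintype.card F % 10 = 9) ∧
        (Fintype.card F = p ∨ (Fintype.card F = p ^ 2 ∧ (p % 10 = 3 ∨ p % 10 = 7))) ∧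
        Nonempty (M ≃* alternatingGroup (Fin 5))) ∨
    (Fintype.card F = p ∧ (p % 8 = 3 ∨ p % 8 = 5) ∧ ¬ (p % 10 = 1 ∨ p % 10 = 9) ∧
        Nonempty (M ≃* alternatingGroup (Fin 4))) ∨
    (Fintype.card F = p ∧ (p % 8 = 1 ∨ p % 8 = 7) ∧ Nonempty (M ≃* Equiv.Perm (Fin 4))) := by
  classical
  have hp : p.Prime := Fact.out
  rw [← Nat.card_eq_fintype_card] at *
  have ho := Nat.odd_iff.1 hodd
  have h2 := two_ne_zero_of ho
  have hρ := pslInc_injective (F := F)
  have hL := (range_pslInc (F := F)).ge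
  have hd := card_of_range_eq pslInc_injective (range_pslInc (F := F))
  rw [((gcd_cases (Finite.one_lt_card (α := F)).le).resolve_right fun e => by omega).2] at hd
  have h60 := le_card_pgl (F := F) h5
  have big : ∀ {X : Type} [Group X] {φ : X →* Matrix.ProjGenLinGroup (Fin 2) F},
      Function.Injective φ → M.map (pslInc F) ≤ φ.range → φ.range ≤ pslIn F →
      2 * Nat.card X < Nat.card F * (Nat.card F ^ 2 - 1) → Nat.card M = Nat.card X := by
    intro X _ φ hφ a b c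
    rw [← card_range_of_injective hφ, ← map_eq_of_le hL hM a (fun e => ?_) (b.trans hL),
      Subgroup.card_map_of_injective hρ]
    have := Subgroup.card_le_of_le e
    rw [card_range_of_injective hφ, ← Nat.card_congr (pslEquiv F).toEquiv] at this
    omega
  rcases dickson hρ p M (not_le_map_of_ne_top hρ range_pslInc hM.1) with
    ⟨x, h⟩ | ⟨c, -, hc, h⟩ | ⟨a, b, ⟨e⟩⟩ | ⟨a, b, ⟨e⟩⟩ | ⟨a, b, ⟨e⟩⟩ | ⟨t, K, h3, hK, h⟩
  · obtain rfl := (hM.le_iff.1 h).resolve_left (stab_ne_top hL x)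
    exact Or.inl (card_stab hL hd x)
  · obtain rfl := (hM.le_iff.1 h).resolve_left (torN_ne_top hρ p hL hd hc (by omega))
    have hs := mt not_coatom_small (not_not.2 hM)
    obtain ⟨n, ⟨e⟩, -, ⟨-, hn⟩ | ⟨-, hn⟩⟩ := torN_card hρ p hL hd hc <;> rw [card_of_dih e] at hs
    · exact Or.inr (Or.inl ⟨by omega, n, by omega, ⟨e⟩⟩)
    · exact Or.inr (Or.inr (Or.inl ⟨by omega, by omega, n, hn, ⟨e⟩⟩))
  · obtain ⟨ψ, hψ, h⟩ := exists_hom_of_equiv hρ e
    obtain ⟨φ, hφ, h'⟩ := alt4_props h2 hψ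
    obtain ⟨h4, t, h6⟩ := sym4_props h2 hφ
    have hle : M.map (pslInc F) ≤ φ.range := by rw [← h, h']; exact Subgroup.map_le_range _ _
    have hc := (Nat.card_congr e.toEquiv).trans card_alt4
    have hq := card_eq_char hL hM hρ p ⟨t, fun K => hle.trans (h6 K)⟩
      (hc ▸ not_dvd_small (a := 2) hp a b)
    have h7 : ¬ (Nat.card F % 8 = 1 ∨ Nat.card F % 8 = 7) := fun h8 => by
      have := big hφ hle (h4.2 ((isSquare_two_iff hodd).2 h8)) (by rw [card_sym4]; omega)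
      rw [card_sym4] at this
      omega
    refine Or.inr (Or.inr (Or.inr (Or.inr (Or.inr (Or.inr (Or.inl
      ⟨hq, by omega, fun h10 => ?_, ⟨e⟩⟩))))))
    obtain ⟨τ, hτ⟩ := (exists_tau_iff (F := F)).2 (five_dvd (by omega))
    obtain ⟨χ, hχ, h8⟩ := exists_alt5_ge h2 hτ hψ
    have h9 := le_card_pgl (F := F) (a := 6) (by omega)
    have := big hχ (h ▸ h8) (alt_le_pslIn χ) (by rw [card_alt5]; omega)
    rw [card_alt5] at this
    omega
  · obtain ⟨φ, hφ, h⟩ := exists_hom_of_equiv hρ e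
    obtain ⟨h4, h6⟩ := sym4_props h2 hφ
    have hc := (Nat.card_congr e.toEquiv).trans card_sym4
    have hq := card_eq_char hL hM hρ p (h ▸ h6) (hc ▸ not_dvd_small (a := 3) hp a b)
    have h7 := (isSquare_two_iff hodd).1 (h4.1 (h ▸ (Subgroup.map_le_range _ _).trans
      range_pslInc.le))
    exact Or.inr (Or.inr (Or.inr (Or.inr (Or.inr (Or.inr (Or.inr ⟨hq, hq ▸ h7, ⟨e⟩⟩))))))
  · obtain ⟨φ, hφ, h⟩ := exists_hom_of_equiv hρ e
    have hc := (Nat.card_congr e.toEquiv).trans card_alt5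
    have n5 : ∀ K : Subfield F, ¬ 5 ∣ Nat.card K := fun K e => by
      have := Fintype.ofFinite K
      obtain ⟨n, -, hn⟩ := FiniteField.card K p
      rw [Nat.card_eq_fintype_card, hn] at e
      exact b ((Nat.prime_dvd_prime_iff_eq Nat.prime_five hp).1
        (Nat.prime_five.dvd_of_dvd_pow e)).symm
    have key : ∀ K : Subfield F, Nat.card K % 5 = 1 ∨ Nat.card K % 5 = 4 →
        Nat.card F = Nat.card K := fun K hK => by
      obtain ⟨τ, hτ⟩ := (exists_tau_iff (F := K)).2 (five_dvd hK)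
      obtain ⟨w, hw⟩ := alt5_le_subPGL h2 hφ (τ := τ) (by exact_mod_cast congrArg Subtype.val hτ) τ.2
      rw [← card_top (F := F)]
      by_contra hne
      have h1 := (card_dvd_card_cj_subPSL K w).trans
        (card_dvd_of_coatom hL hM hρ (fun e => hne (by rw [e])) (h ▸ hw))
      have h3 := one_lt_card_subfield K
      have h4 := (odd_card_iff (F := K) p).2 a
      have := eq_three_of_dvd (hc ▸ h1) (by omega) h4 (n5 K)
      omega
    have h6 := n5 ⊤
    rw [card_top] at h6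
    have h7 : Nat.card F % 5 = 1 ∨ Nat.card F % 5 = 4 := by
      have := mt not_five_dvd (not_not.2 (alt5_dvd hφ))
      omega
    refine Or.inr (Or.inr (Or.inr (Or.inr (Or.inr (Or.inl ⟨by omega, ?_, ⟨e⟩⟩)))))
    have h8 := n5 ⊥
    have h9 := key ⊥
    rw [card_bot p] at h8 h9
    by_cases h10 : p % 5 = 1 ∨ p % 5 = 4
    · exact Or.inl (h9 h10)
    have h11 : p % 5 = 2 ∨ p % 5 = 3 := by omega
    have h12 := hp.eq_two_or_odd
    refine Or.inr ⟨?_, by omega⟩
    have e1 := card_eq_pow (⊥ : Subfield F)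
    obtain ⟨K, -, hK⟩ : ∃ K : Subfield F, ⊥ ≤ K ∧ Nat.card K = p ^ 2 := by
      rcases Nat.even_or_odd (Module.finrank (⊥ : Subfield F) F) with ⟨j, hj⟩ | hj
      · obtain ⟨K, hK⟩ := exists_subfield_card (F := F) (k := p ^ 2) (m := j)
          (by rw [e1, card_bot p, hj, ← pow_mul, two_mul])
        exact ⟨K, bot_le, hK⟩
      · have := pow_mod_five h11 hj
        rw [card_bot p] at e1
        omega
    rw [← hK]
    refine key K ?_
    rw [hK, Nat.pow_mod]
    rcases h11 with h | h <;> simp [h]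
  · obtain ⟨m, hm, em⟩ := exists_pow_of_ne_top hK
    rcases Nat.even_or_odd m with hme | hmo
    · obtain ⟨K', hle, e⟩ := exists_subfield_ge K em hme.two_dvd
      have h4 := map_eq_of_le hL hM ((map_le_cj_subPGL hρ h).trans
        (Subgroup.map_mono (subPGL_mono hle))) (not_pslIn_le_cj (ne_top_of_pow (by omega) e) t)
        ((cj_le_pslIn.2 (subPGL_le_pslIn fun y hy => isSquare_of_even e even_two hy)).trans hL)
      obtain ⟨F₀, i1, i2, hc, ⟨e'⟩, -⟩ := exists_small_pgl K' t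
      exact Or.inr (Or.inr (Or.inr (Or.inl ⟨F₀, i1, i2, hc ▸ e,
        ⟨((M.equivMapOfInjective _ hρ).trans (MulEquiv.subgroupCongr h4)).trans e'⟩⟩)))
    obtain ⟨r, hr, hrm⟩ := Nat.exists_prime_and_dvd (by omega : m ≠ 1)
    obtain ⟨K', hle, e⟩ := exists_subfield_ge K em hrm
    rcases h with h | ⟨-, h⟩
    · have a2 := card_cj_subPGL K t
      rw [← h, Subgroup.card_map_of_injective hρ] at a2
      rw [em] at hd hodd
      exact absurd (even_of_dvd ((Nat.odd_pow_iff (by omega)).1 hodd) (by omega) hd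
        (a2 ▸ M.card_subgroup_dvd_card)) (Nat.not_even_iff_odd.2 hmo)
    · have h4 := map_eq_of_le hL hM (h.le.trans (Subgroup.map_mono (subPSL_mono hle)))
        (fun e' => not_pslIn_le_cj (ne_top_of_pow hr.one_lt.ne' e) t
          (e'.trans (Subgroup.map_mono (subPSL_le K'))))
        ((cj_le_pslIn.2 (subPSL_le_pslIn K')).trans hL)
      obtain ⟨F₀, i1, i2, hc, -, ⟨e'⟩⟩ := exists_small_pgl K' t
      exact Or.inr (Or.inr (Or.inr (Or.inr (Or.inl ⟨F₀, i1, i2, r, hr, hmo.of_dvd_nat hrm, hc ▸ e,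
        ⟨((M.equivMapOfInjective _ hρ).trans (MulEquiv.subgroupCongr h4)).trans e'⟩⟩))))

end Cfsg.Agent.S5892
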