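import Cfsg.Statements.S2238
import Cfsg.Agent.H13.SzPart

set_option autoImplicit false
open Cfsg

namespace Cfsg.Agent.S2238

open Cfsg.Agent.H13
set_option linter.style.haveILetI false

/-- The partition of the Suzuki group: with q = 2^(2m+1), m ≥ 1, r = 2^m and the Suzuki group realised as the stabiliser in SL₄ of the Suzuki–Tits ovoid, every non-identity element lies in exactly one subgroup that is either a Sylow 2-subgroup or a cyclic subgroup of order q − 1, q + 2r + 1 or q − 2r + 1. -/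
theorem result {F : Type*} [Field F] [Fintype F] {m : ℕ} (hm : 1 ≤ m) (hF : Fintype.card F = 2 ^ (2 * m + 1)) (g : ↥(Cfsg.Sz F m)) (hg : g ≠ 1) :
    ∃! U : Subgroup ↥(Cfsg.Sz F m), ((∃ P : Sylow 2 ↥(Cfsg.Sz F m), U = (P : Subgroup ↥(Cfsg.Sz F m))) ∨
      (IsCyclic ↥U ∧ Nat.card ↥U ∈ ({2 ^ (2 * m + 1) - 1, 2 ^ (2 * m + 1) + 2 ^ (m + 1) + 1, 2 ^ (2 * m + 1) - 2 ^ (m + 1) + 1} : Set ℕ))) ∧ g ∈ U := by
  letI := titsOfCard hF
  have Q := par_of_card hm hF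
  set M := ovoidModel (titsOfCard_θ hF) Q.hy
  haveI := M.finite
  haveI : Fact (Nat.Prime 2) := ⟨Nat.prime_two⟩
  have hodd : ∀ K : Subgroup (Cfsg.Sz F m), (Nat.card K = 2 ^ (2 * m + 1) - 1 ∨
      Nat.card K = np m ∨ Nat.card K = nm m) → ∀ P : Sylow 2 (Cfsg.Sz F m), g ∈ K →
      g ∈ (P : Subgroup (Cfsg.Sz F m)) → False := by
    intro K hK P h1 h2
    have ho : Odd (Nat.card K) := by
      rcases hK with h | h | h <;> rw [h]
      exacts [Model.odd_q_sub_one Q, odd_np m, odd_nm m]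
    obtain ⟨n, hn⟩ := IsPGroup.iff_orderOf.1 P.isPGroup' ⟨g, h2⟩
    rw [Subgroup.orderOf_mk] at hn
    have h3 := K.orderOf_dvd_natCard h1
    rw [hn] at h3
    have h4 := ((Nat.coprime_two_left.2 ho).pow_left n).eq_one_of_dvd h3
    rw [← hn, orderOf_eq_one_iff] at h4
    exact hg h4
  rcases M.classify' Q g with ⟨k, hk⟩ | ⟨K, hK, hc, hcard, hgK⟩
  · refine ⟨(M.conj k).U, ⟨Or.inl ⟨(M.conj k).sylowU, rfl⟩, hk⟩, ?_⟩
    rintro L ⟨⟨P, rfl⟩ | ⟨-, hL⟩, hgL⟩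
    · obtain ⟨l, hl⟩ := (M.conj k).exists_conj_U P
      rw [hl] at hgL ⊢
      generalize M.conj k = N at *
      rw [N.conj_U, mem_map_conj] at hgL
      have hB := N.mem_B_of_conj_mem_B (g := l⁻¹) hk hg (by simpa using N.U_le_B hgL)
      have hB' : l ∈ N.B := by simpa using N.B.inv_mem hB
      ext x
      rw [N.conj_U, mem_map_conj]
      refine ⟨fun h => ?_, fun h => by simpa using N.conj_mem_U hB h⟩
      simpa [mul_assoc] using N.conj_mem_U hB' h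
    · exact (hodd L hL (M.conj k).sylowU hgL hk).elim
  · refine ⟨K, ⟨Or.inr ⟨hc, hcard⟩, hgK⟩, ?_⟩
    rintro L ⟨⟨P, rfl⟩ | ⟨hLc, hL⟩, hgL⟩
    · exact (hodd K hcard P hgK hgL).elim
    · exact (M.isCC_of_cyclic Q hLc hL).eq_of_mem hK hgL hgK hg

end Cfsg.Agent.S2238
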