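import Cfsg.Statements.S2241
import Cfsg.Agent.H13.SzInst
import Cfsg.Agent.H13.SzSylow

set_option autoImplicit false
open Cfsg

namespace Cfsg.Agent.S2241

open Cfsg.Agent.H13
set_option linter.style.haveILetI false

/-- Real 2-elements of the Suzuki group: with q = 2^(2m+1), m ≥ 1, and the group realised as the stabiliser in SL₄ of the Suzuki–Tits ovoid, a non-identity element of a Sylow 2-subgroup is conjugate to its inverse if and only if it is an involution; in particular no element of order 4 is conjugate to its inverse. -/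
theorem result {F : Type*} [Field F] [Fintype F] {m : ℕ} (hm : 1 ≤ m) (hF : Fintype.card F = 2 ^ (2 * m + 1)) (P : Sylow 2 ↥(Cfsg.Sz F m)) (g : ↥(Cfsg.Sz F m)) (hg : g ∈ (P : Subgroup ↥(Cfsg.Sz F m))) (h1 : g ≠ 1) :
    IsConj g g⁻¹ ↔ orderOf g = 2 := by
  letI := titsOfCard hF
  have hy := exists_sq_ne (two_lt_card hm hF)
  obtain ⟨k, hk⟩ := (ovoidModel (titsOfCard_θ hF) hy).exists_conj_U P
  set M := (ovoidModel (titsOfCard_θ hF) hy).conj k
  rw [hk] at hg
  obtain ⟨a, b, rfl⟩ := hg
  constructor
  · intro h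
    obtain ⟨c, hc⟩ := isConj_iff.1 h
    by_cases ha : a = 0
    · subst ha
      exact M.orderOf_u_zero (by rintro rfl; exact h1 M.u_zero)
    · exact absurd hc (M.not_conj_inv ha b c)
  · intro h
    have h2 := pow_orderOf_eq_one (M.u a b)
    rw [h, sq] at h2
    rw [inv_eq_of_mul_eq_one_right h2]

end Cfsg.Agent.S2241
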