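import Cfsg.Statements.S2480
import Cfsg.Agent.H29.ClsSL

set_option autoImplicit false
open Cfsg

namespace Cfsg.Agent.S2480

theorem num {n q d : ℕ} (hn : 3 ≤ n) (hq : 2 ≤ q) (h1 : d ≤ n) (h2 : d ≤ q - 1) :
    (d - 1) * (5 * q ^ (n / 2 - 1)) ≤ 4 * q ^ (n - 2) := by
  rcases (show n ≤ 4 ∨ 5 ≤ n by omega) with h | h
  · calc _ ≤ (d - 1) * (5 * q ^ (n - 3)) := Nat.mul_le_mul_left _
          (Nat.mul_le_mul_left _ (Nat.pow_le_pow_right (by omega) (by omega)))
      _ = (5 * (d - 1)) * q ^ (n - 3) := by ring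
      _ ≤ (4 * q) * q ^ (n - 3) := Nat.mul_le_mul_right _ (by omega)
      _ = _ := by rw [show n - 2 = n - 3 + 1 by omega]; ring
  · calc _ ≤ q * (5 * q ^ (n - 4)) := Nat.mul_le_mul (by omega)
          (Nat.mul_le_mul_left _ (Nat.pow_le_pow_right (by omega) (by omega)))
      _ = 5 * (q * q ^ (n - 4)) := by ring
      _ ≤ (4 * q) * (q * q ^ (n - 4)) := Nat.mul_le_mul_right _ (by omega)
      _ = _ := by rw [show n - 2 = n - 4 + 2 by omega]; ring

/-- The number of conjugacy classes of PSL(n,q): for F a finite field with q elements, n ≥ 2 and d = gcd(n, q − 1), the number k of conjugacy classes of PSL(n,F) satisfies q^(n−1) ≤ d·k ≤ q^(n−1) + 5q^(n−2). -/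
theorem result {F : Type*} [Field F] [Fintype F] (n : ℕ) (hn : 2 ≤ n) :
    Fintype.card F ^ (n - 1) ≤ Nat.gcd n (Fintype.card F - 1) * Nat.card (ConjClasses (Matrix.ProjectiveSpecialLinearGroup (Fin n) F)) ∧
      Nat.gcd n (Fintype.card F - 1) * Nat.card (ConjClasses (Matrix.ProjectiveSpecialLinearGroup (Fin n) F)) ≤ Fintype.card F ^ (n - 1) + 5 * Fintype.card F ^ (n - 2) := by
  classical
  haveI : Nonempty (Fin n) := ⟨⟨0, by omega⟩⟩
  have hq : 2 ≤ Fintype.card F := Fintype.one_lt_card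
  have h1 : (0 : ℝ) < Fintype.card F - 1 := sub_pos.2 (Nat.one_lt_cast.2 hq)
  haveI := Fintype.ofFinite (Subgroup.center (Matrix.SpecialLinearGroup (Fin n) F))
  have hc := H9.card_center_sl (ι := Fin n) (F := F)
  rw [Fintype.card_fin] at hc
  have hs := H29.card_conj_quot_center (G := Matrix.SpecialLinearGroup (Fin n) F)
  rw [hc, ← Finset.add_sum_erase _ _ (Finset.mem_univ 1), Nat.card_congr
    (Equiv.subtypeUnivEquiv fun C => by rw [OneMemClass.coe_one, one_mul]; exact .refl _)] at hs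
  have hb : ∀ B : ℕ, (∀ e, 2 ≤ e → e ∣ n → 2 * H29.KS (Fintype.card F) (n / e) ≤
      (Fintype.card F - 1) * B) → 2 * (Nat.gcd n (Fintype.card F - 1) * Nat.card (ConjClasses
        (Matrix.ProjectiveSpecialLinearGroup (Fin n) F))) ≤ 2 * Nat.card (ConjClasses
        (Matrix.SpecialLinearGroup (Fin n) F)) + (Nat.gcd n (Fintype.card F - 1) - 1) * B := by
    intro B hB
    rw [hs, mul_add, Finset.mul_sum, add_le_add_iff_left]
    refine (Finset.sum_le_card_nsmul _ _ B fun z hz => ?_).trans_eq (by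
      rw [Finset.card_erase_of_mem (Finset.mem_univ _), Finset.card_univ, ← Nat.card_eq_fintype_card,
        hc, smul_eq_mul])
    obtain ⟨e, h2, h3, h4⟩ := H29.fix_bound z (Finset.ne_of_mem_erase hz)
    rw [Fintype.card_fin] at h3 h4
    have h5 := hB e h2 h3
    have := le_of_mul_le_mul_left
      (((mul_left_comm _ _ _).le.trans (mul_le_mul_of_nonneg_left h4 zero_le_two)).trans h5) h1
    exact_mod_cast this
  have h := H29.SL_bound_one (F := F) (ι := Fin n)
  rw [Fintype.card_fin] at h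
  refine ⟨(H29.SL_lower hn).le.trans (hs ▸ Nat.le_add_right _ _), ?_⟩
  rcases hn.eq_or_lt with rfl | h3
  · have h4 := hb 2 fun e h2 h3 => by
      obtain rfl : e = 2 := le_antisymm (Nat.le_of_dvd two_pos h3) h2
      rw [H29.KS_one hq, mul_comm]; rfl
    rw [H29.KS_two hq] at h
    have h5 : (Nat.card (ConjClasses (Matrix.SpecialLinearGroup (Fin 2) F)) : ℝ) ≤
        Fintype.card F + 4 := (le_of_mul_le_mul_left h h1).trans (by split_ifs <;> linarith)
    have h6 : Nat.card (ConjClasses (Matrix.SpecialLinearGroup (Fin 2) F)) ≤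
        Fintype.card F + 4 := by exact_mod_cast h5
    have h7 := Nat.gcd_le_left (Fintype.card F - 1) two_pos
    simp only [Nat.add_one_sub_one, pow_one, Nat.sub_self, pow_zero]
    omega
  · have h4 := hb (5 * Fintype.card F ^ (n / 2 - 1)) fun e h2 h3 => by
      refine (H29.KS_le' hq (Nat.div_pos (Nat.le_of_dvd (by omega) h3) (by omega)).ne').trans ?_
      push_cast
      gcongr
      exact Nat.one_le_cast.2 (by omega)
    have h5 := le_of_mul_le_mul_left (h.trans (H29.KS_le hq h3)) h1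
    have h6 : Nat.card (ConjClasses (Matrix.SpecialLinearGroup (Fin n) F)) ≤
        Fintype.card F ^ (n - 1) + 3 * Fintype.card F ^ (n - 2) := by exact_mod_cast h5
    have h7 := num h3 hq (Nat.gcd_le_left (Fintype.card F - 1) (by omega))
      (Nat.gcd_le_right n (by omega))
    omega

end Cfsg.Agent.S2480
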