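import Cfsg.Statements.S2481
import Cfsg.Agent.H29.ClsSU

set_option autoImplicit false
open Cfsg

namespace Cfsg.Agent.S2481

/-- The number of conjugacy classes of SU(n,q): for n ≥ 2, q a prime power and F the field with q² elements, the number k of conjugacy classes of SU(n,q) (the determinant-one isometries of the standard Hermitian form on F^n) satisfies q^(n−1) ≤ k ≤ 8.26·q^(n−1). -/
theorem result {F : Type*} [Field F] [Fintype F] (n q : ℕ) (hn : 2 ≤ n) (hF : Fintype.card F = q ^ 2) :
    q ^ (n - 1) ≤ Nat.card (ConjClasses (Cfsg.SU n F q)) ∧ 100 * Nat.card (ConjClasses (Cfsg.SU n F q)) ≤ 826 * q ^ (n - 1) := by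
  haveI : Fact (Fintype.card F = q ^ 2) := ⟨hF⟩
  have hq := H10.two_le_of_card_sq hF
  constructor
  · obtain ⟨m, rfl⟩ := Nat.exists_eq_add_of_le' (show 1 ≤ n by omega)
    exact H29.SU_lower m
  · have h1 := H29.SU_bound (K := F) (q := q) n
    have h2 := H29.sum_SH_le hq hn
    have := le_of_mul_le_mul_left (a := (q : ℝ) + 1)
      (b := 100 * Nat.card (ConjClasses (Cfsg.SU n F q))) (le_trans (by linarith) h2) (by positivity)
    exact_mod_cast this

end Cfsg.Agent.S2481
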