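import Cfsg.Statements.S3703
import Cfsg.Agent.H78.Norm
import Cfsg.Agent.H46.Generation

set_option autoImplicit false
open Cfsg

namespace Cfsg.Agent.S3703

open scoped commutatorElement Pointwise

/-- action of the normaliser on the abelianisation -/
def abAct {G : Type*} [Group G] (P : Subgroup G) :
    Subgroup.normalizer (P : Set G) →* MulAut (Abelianization P) :=
  MonoidHom.mk' (fun a => (P.normalizerMonoidHom a).abelianizationCongr) (by
    intro a b
    ext v
    obtain ⟨w, rfl⟩ := QuotientGroup.mk_surjective v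
    rw [map_mul]
    rfl)

theorem abAct_of {G : Type*} [Group G] (P : Subgroup G) (a : Subgroup.normalizer (P : Set G))
    (w : P) : abAct P a (Abelianization.of w) = Abelianization.of (P.normalizerMonoidHom a w) := rfl

theorem core {G : Type*} [Group G] [Finite G] {p r : ℕ} (hp : p.Prime) (hr : r.Prime) (hpr : p ≠ r)
    {P R : Subgroup G} (hP : IsPGroup p P) (hP1 : P ≠ ⊥) (hR : IsPGroup r R)
    (hRP : R ≤ Subgroup.normalizer (P : Set G)) {x : G} (hxP : x ∈ Subgroup.normalizer (P : Set G))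
    (hxR : x ∈ Subgroup.normalizer (R : Set G)) (hc : ⁅P, R⁆ = P) (m : ℕ) (hm : 0 < m)
    (hinj : ∀ j, 0 < j → j < m → ∀ f ∈ R, ∀ g ∈ R, (x * f) ^ j = (x * g) ^ j → f = g)
    (hpow : ∀ w ∈ P, ∀ f ∈ R, (w * (x * f)) ^ m = 1) : False := by
  classical
  have := Fact.mk hp
  have := Fact.mk hr
  set A := Subgroup.normalizer (P : Set G) with hA
  let φ : A →* MulAut (Abelianization P) := abAct P
  let F : Subgroup A := R.subgroupOf A
  let x' : A := ⟨x, hxP⟩
  have := Fintype.ofFinite F
  have hx' : x' ∈ Subgroup.normalizer (F : Set A) := by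
    rw [Subgroup.mem_normalizer_iff]
    intro y
    exact Subgroup.mem_normalizer_iff.mp hxR y
  have key := H78.pow_card_eq_one_of_norms φ F x' hx' m hm ?_ ?_ ?_
  · have : Nontrivial P := (Subgroup.nontrivial_iff_ne_bot P).mpr hP1
    have := hP.isNilpotent
    have hlt := Group.IsSolvable.commutator_lt_top_of_nontrivial P
    obtain ⟨w, -, hw⟩ := SetLike.exists_of_lt hlt
    have hF : IsPGroup r F := hR.comap_subtype
    obtain ⟨k, hk⟩ := hF.exists_card_eq
    have h1 := key (Abelianization.of w)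
    obtain ⟨l, hl⟩ := hP w
    have h2 : (Abelianization.of w) ^ (p ^ l) = 1 := by rw [← map_pow, hl, map_one]
    rw [hk] at h1
    have h3 : orderOf (Abelianization.of w) ∣ Nat.gcd (r ^ k) (p ^ l) :=
      Nat.dvd_gcd (orderOf_dvd_of_pow_eq_one h1) (orderOf_dvd_of_pow_eq_one h2)
    rw [Nat.Coprime.gcd_eq_one (Nat.coprime_pow_primes _ _ hr hp hpr.symm), Nat.dvd_one,
      orderOf_eq_one_iff] at h3
    exact hw ((QuotientGroup.eq_one_iff w).mp h3)
  · intro j hj0 hjm f g hfg
    exact Subtype.ext (Subtype.ext (hinj j hj0 hjm _ f.2 _ g.2 (congrArg Subtype.val hfg)))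
  · let ν : Abelianization P →* Abelianization P := ∏ f : F, (φ f).toMonoidHom
    have hν : ∀ v, ν v = ∏ f : F, φ f v := by
      intro v; simp [ν]
    have hinv : ∀ (a : A), a ∈ F → ∀ v, ν (φ a v) = ν v := by
      intro a ha v
      rw [hν, hν]
      refine Fintype.prod_equiv (Equiv.mulRight (⟨a, ha⟩ : F)) _ _ ?_
      intro f
      rw [← MulAut.mul_apply, ← map_mul]
      rfl
    have hle : P ≤ ((ν.comp Abelianization.of).ker).map P.subtype := by
      conv_lhs => rw [← hc]
      rw [Subgroup.commutator_le]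
      intro w hw a ha
      refine ⟨⟨w, hw⟩ * (P.normalizerMonoidHom ⟨a, hRP ha⟩ ⟨w, hw⟩)⁻¹, ?_, ?_⟩
      · change ν (Abelianization.of _) = 1
        rw [map_mul, map_inv, ← abAct_of, map_mul, map_inv, hinv ⟨a, hRP ha⟩ ha, mul_inv_cancel]
      · change w * (a * w * a⁻¹)⁻¹ = _
        rw [commutatorElement_def]; group
    intro v
    obtain ⟨w, rfl⟩ := QuotientGroup.mk_surjective v
    obtain ⟨w', hw', he⟩ := hle w.2
    have : w' = w := Subtype.ext he
    subst this
    exact (hν _).symm.trans hw'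
  · intro f v
    obtain ⟨w, rfl⟩ := QuotientGroup.mk_surjective v
    set z : A := x' * f with hz
    have hmem : ∀ k : ℕ, ((w : G) * z) ^ k * ((z : G) ^ k)⁻¹ ∈ P := by
      intro k
      induction k with
      | zero => simp
      | succ k ih =>
        have : ((w : G) * z) ^ (k + 1) * ((z : G) ^ (k + 1))⁻¹ =
            (((w : G) * z) ^ k * ((z : G) ^ k)⁻¹) * ((z : G) ^ k * w * ((z : G) ^ k)⁻¹) := by
          rw [pow_succ, pow_succ]; group
        rw [this]
        exact P.mul_mem ih ((Subgroup.mem_normalizer_iff.mp (A.pow_mem z.2 k) _).mp w.2)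
    have hprod : ∀ k : ℕ, ∏ j ∈ Finset.range k, φ (z ^ j) (Abelianization.of w) =
        Abelianization.of (⟨_, hmem k⟩ : P) := by
      intro k
      induction k with
      | zero => simp; exact (map_one _).symm
      | succ k ih =>
        rw [Finset.prod_range_succ, ih, abAct_of, ← map_mul]
        congr 1
        apply Subtype.ext
        change (((w : G) * z) ^ k * ((z : G) ^ k)⁻¹) * ((z : G) ^ k * w * ((z : G) ^ k)⁻¹) =
          ((w : G) * z) ^ (k + 1) * ((z : G) ^ (k + 1))⁻¹
        rw [pow_succ, pow_succ]; group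
    have h1 : ((w : G) * z) ^ m = 1 := hpow w w.2 f f.2
    have h2 : (z : G) ^ m = 1 := by
      have := hpow 1 P.one_mem f f.2
      rw [one_mul] at this
      exact this
    refine (hprod m).trans ?_
    rw [← map_one Abelianization.of]
    congr 1
    apply Subtype.ext
    change ((w : G) * z) ^ m * ((z : G) ^ m)⁻¹ = 1
    rw [h1, h2]; simp

theorem frob_facts {Q : Type*} [Group Q] [Finite Q] (Fb Hb : Subgroup Q) [Fb.Normal]
    (hHb : Cfsg.IsFrobeniusComplement Hb) (hker : Cfsg.frobeniusKernel Hb = (Fb : Set Q))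
    (hcyc : IsCyclic Hb) : ∃ h : Q, (∀ y : Q, h⁻¹ * y ∈ Fb → orderOf y = Nat.card Hb) ∧
      ∀ j, 0 < j → j < Nat.card Hb → ∀ y y' : Q, h⁻¹ * y ∈ Fb → h⁻¹ * y' ∈ Fb →
        y ^ j = y' ^ j → y = y' := by
  obtain ⟨h, hh⟩ := IsCyclic.exists_ofOrder_eq_natCard (α := Hb)
  set m := Nat.card Hb with hm
  have hm1 : 1 < m := (Subgroup.one_lt_card_iff_ne_bot Hb).mpr hHb.1
  have hdisj : ∀ (g y : Q), y ∈ Fb → y ∈ MulAut.conj g • Hb → y = 1 := by
    intro g y hy hy'
    have : y ∈ Cfsg.frobeniusKernel Hb := by rw [hker]; exact hy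
    rcases this with h | h
    · exact h
    · exact absurd hy' (h g)
  have hnot : ∀ j, 0 < j → j < m → ∀ y : Q, (h : Q)⁻¹ * y ∈ Fb → y ^ j ∉ Fb := by
    intro j hj0 hjm y hy hyj
    have h1 : (QuotientGroup.mk (h : Q) : Q ⧸ Fb) = QuotientGroup.mk y := QuotientGroup.eq.mpr hy
    have h2 : (h : Q) ^ j ∈ Fb := by
      rw [← QuotientGroup.eq_one_iff, QuotientGroup.mk_pow] at hyj ⊢
      rw [h1, hyj]
    have h3 := hdisj 1 _ h2 (by simpa using Hb.pow_mem h.2 j)
    have h4 : h ^ j = 1 := Subtype.ext h3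
    have := Nat.le_of_dvd hj0 (orderOf_dvd_of_pow_eq_one h4)
    omega
  have hconj : ∀ y : Q, (h : Q)⁻¹ * y ∈ Fb → ∃ g : Q, y ∈ MulAut.conj g • Hb := by
    intro y hy
    have h1 := hnot 1 one_pos hm1 y hy
    rw [pow_one] at h1
    have : y ∉ Cfsg.frobeniusKernel Hb := by rw [hker]; exact h1
    unfold Cfsg.frobeniusKernel at this
    simp only [Set.mem_setOf_eq, not_or, not_forall, not_not] at this
    exact this.2
  refine ⟨h, fun y hy => ?_, fun j hj0 hjm y y' hy hy' he => ?_⟩
  · obtain ⟨g, hg⟩ := hconj y hy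
    have h1 : orderOf y ∣ m := by
      have := Subgroup.orderOf_dvd_natCard _ hg
      rwa [← Nat.card_congr (Subgroup.equivSMul (MulAut.conj g) Hb).toEquiv] at this
    rcases (Nat.le_of_dvd (by omega) h1).lt_or_eq with h2 | h2
    · exact absurd (by rw [pow_orderOf_eq_one]; exact Fb.one_mem) (hnot _ (orderOf_pos y) h2 y hy)
    · exact h2
  · obtain ⟨g, hg⟩ := hconj y hy
    obtain ⟨g', hg'⟩ := hconj y' hy'
    have hne : y ^ j ≠ 1 := fun h => hnot j hj0 hjm y hy (by rw [h]; exact Fb.one_mem)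
    have hgg : g⁻¹ * g' ∈ Hb := by
      by_contra hc
      have h1 := hHb.2.2 _ hc
      have h2 : g⁻¹ * y ^ j * g ∈ Hb ⊓ MulAut.conj (g⁻¹ * g') • Hb := by
        constructor
        · have := Subgroup.pow_mem _ hg j
          generalize y ^ j = u at this ⊢
          rw [Subgroup.mem_pointwise_smul_iff_inv_smul_mem] at this
          simpa using this
        · have := Subgroup.pow_mem _ hg' j
          rw [← he] at this
          generalize y ^ j = u at this ⊢
          change _ ∈ MulAut.conj (g⁻¹ * g') • Hb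
          rw [Subgroup.mem_pointwise_smul_iff_inv_smul_mem] at this ⊢
          simpa [mul_assoc] using this
      rw [h1, Subgroup.mem_bot] at h2
      apply hne
      calc y ^ j = g * (g⁻¹ * y ^ j * g) * g⁻¹ := by group
        _ = 1 := by rw [h2]; simp
    have hy2 : y' ∈ MulAut.conj g • Hb := by
      rw [Subgroup.mem_pointwise_smul_iff_inv_smul_mem] at hg' ⊢
      have := Hb.mul_mem (Hb.mul_mem hgg hg') (Hb.inv_mem hgg)
      simpa [mul_assoc] using this
    have h3 : y⁻¹ * y' ∈ Fb := by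
      have := Fb.mul_mem (Fb.inv_mem hy) hy'
      simpa [mul_assoc] using this
    exact inv_mul_eq_one.mp (hdisj g _ h3 (Subgroup.mul_mem _ (Subgroup.inv_mem _ hg) hy2))

/-- Let N be a normal subgroup of the finite group G such that G/N is a Frobenius group with kernel F and cyclic complement H, where the order of F is coprime to that of N and F is not contained in the image of C_G(N) in G/N. Then G has an element of order p·#H for some prime p dividing the order of N. (A standard tool in recognising groups by their element orders.) -/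
theorem result {G : Type*} [Group G] [Finite G] (N : Subgroup G) [N.Normal]
    (Fb Hb : Subgroup (G ⧸ N)) [Fb.Normal] (hHb : Cfsg.IsFrobeniusComplement Hb) (hker : Cfsg.frobeniusKernel Hb = (Fb : Set (G ⧸ N)))
    (hcyc : IsCyclic Hb) (hcop : (Nat.card Fb).Coprime (Nat.card N))
    (hnot : ¬ Fb ≤ (Subgroup.centralizer (N : Set G)).map (QuotientGroup.mk' N)) :
    ∃ p : ℕ, p.Prime ∧ p ∣ Nat.card N ∧ ∃ g : G, orderOf g = p * Nat.card Hb := by
  by_contra hcon
  obtain ⟨h, hord, hinj⟩ := frob_facts Fb Hb hHb hker hcyc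
  set m := Nat.card Hb with hm
  set π := QuotientGroup.mk' N with hπ
  have hπs : Function.Surjective π := QuotientGroup.mk'_surjective N
  have hker' : ∀ g, π g = 1 ↔ g ∈ N := fun g => QuotientGroup.eq_one_iff g
  have hpow : ∀ z : G, h⁻¹ * π z ∈ Fb → z ^ m = 1 := by
    intro z hz
    by_contra hne
    have h1 : z ^ m ∈ N := by rw [← hker', map_pow, ← hord _ hz, pow_orderOf_eq_one]
    have h2 : m ∣ orderOf z := by rw [← hord _ hz]; exact orderOf_map_dvd π z
    obtain ⟨p, hp, hpd⟩ := Nat.exists_prime_and_dvd (mt orderOf_eq_one_iff.mp hne)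
    apply hcon
    refine ⟨p, hp, hpd.trans (Subgroup.orderOf_dvd_natCard _ h1), ?_⟩
    rw [orderOf_pow_of_dvd Nat.card_pos.ne' h2] at hpd
    obtain ⟨y, -, hy⟩ := H78.exists_orderOf_of_dvd (Nat.mul_dvd_of_dvd_div h2 hpd)
    exact ⟨y, by rw [hy, mul_comm]⟩
  set Ft : Subgroup G := Fb.comap π with hFt
  have hNF : N ≤ Ft := fun n hn => by
    change π n ∈ Fb
    rw [(hker' n).mpr hn]; exact Fb.one_mem
  have h1 : ¬ Ft ≤ Subgroup.centralizer (N : Set G) ⊔ N := by
    intro hle
    apply hnot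
    intro y hy
    obtain ⟨g, rfl⟩ := hπs y
    have := Subgroup.map_mono (f := π) hle (Subgroup.mem_map_of_mem π hy)
    rwa [Subgroup.map_sup, (Subgroup.map_eq_bot_iff N).mpr (fun n hn => (hker' n).mpr hn),
      sup_bot_eq] at this
  obtain ⟨r, hrF, R0, hR0⟩ : ∃ (r : ℕ) (_ : Fact r.Prime) (R0 : Sylow r Ft),
      ¬ (R0 : Subgroup Ft).map Ft.subtype ≤ Subgroup.centralizer (N : Set G) ⊔ N := by
    by_contra hc
    push Not at hc
    exact h1 (H46.le_of_forall_sylow_le fun q hq _ => ⟨default, hc q hq _⟩)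
  have hr := hrF.out
  set R : Subgroup G := (R0 : Subgroup Ft).map Ft.subtype with hR
  have hRr : IsPGroup r R := R0.isPGroup'.map _
  have hRF : R ≤ Ft := Subgroup.map_subtype_le _
  have hrN : ¬ r ∣ Nat.card N := by
    intro hd
    apply hR0
    refine le_trans ?_ le_sup_right
    intro y hy
    rw [← hker']
    by_contra hy1
    have h2 := H78.dvd_orderOf_of_pgroup hr (hRr.map π) (Subgroup.mem_map_of_mem π hy) hy1
    have h3 := h2.trans (Subgroup.orderOf_dvd_natCard Fb (hRF hy))
    exact hr.one_lt.ne' (Nat.eq_one_of_dvd_coprimes hcop h3 hd)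
  have hRN : R ≤ Subgroup.normalizer (N : Set G) := Subgroup.le_normalizer_of_normal
  obtain ⟨p, hpF, hpN, P0, hRP, hP0⟩ : ∃ (p : ℕ) (_ : Fact p.Prime) (_ : p ∣ Nat.card N)
      (P0 : Sylow p N),
      R ≤ Subgroup.normalizer (((P0 : Subgroup N).map N.subtype : Subgroup G) : Set G) ∧
      ¬ (P0 : Subgroup N).map N.subtype ≤ Subgroup.centralizer (R : Set G) := by
    by_contra hc
    push Not at hc
    apply hR0
    refine le_trans ?_ le_sup_left
    rw [Subgroup.le_centralizer_iff]
    refine H46.le_of_forall_sylow_le fun q hq hd => ?_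
    obtain ⟨Q, hQ⟩ := H46.exists_invariant_sylow hRr hrN hRN q
    exact ⟨Q, hc q hq hd Q hQ⟩
  have hp := hpF.out
  have hpr : p ≠ r := by rintro rfl; exact hrN hpN
  set P : Subgroup G := (P0 : Subgroup N).map N.subtype with hP
  have hPp : IsPGroup p P := P0.isPGroup'.map _
  have hPN : P ≤ N := Subgroup.map_subtype_le _
  set G1 := Subgroup.normalizer (P : Set G) with hG1
  have hF1 : G1 ⊔ N = ⊤ := Sylow.normalizer_sup_eq_top P0
  -- second Frattini argument
  obtain ⟨x, hxP, hxR, hxh⟩ : ∃ x ∈ G1, x ∈ Subgroup.normalizer (R : Set G) ∧ h⁻¹ * π x ∈ Fb := by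
    obtain ⟨g, rfl⟩ := hπs h
    have : g ∈ ((G1 ⊔ N : Subgroup G) : Set G) := by rw [hF1]; trivial
    rw [Subgroup.mul_normal] at this
    obtain ⟨a, ha, b, hb, rfl⟩ := this
    let F1 : Subgroup G1 := Ft.subgroupOf G1
    have hR1 : IsPGroup r ((R.subgroupOf G1).subgroupOf F1) := hRr.comap_subtype.comap_subtype
    obtain ⟨S, hS⟩ := hR1.exists_le_sylow
    have hSR : ((S : Subgroup F1).map F1.subtype).map G1.subtype = R := by
      have h2 : R ≤ ((S : Subgroup F1).map F1.subtype).map G1.subtype := by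
        intro y hy
        exact ⟨⟨y, hRP hy⟩, ⟨⟨⟨y, hRP hy⟩, hRF hy⟩, hS hy, rfl⟩, rfl⟩
      have h3 : ((S : Subgroup F1).map F1.subtype).map G1.subtype ≤ Ft := by
        rintro _ ⟨_, ⟨y, -, rfl⟩, rfl⟩
        exact y.2
      have h4 : IsPGroup r ((((S : Subgroup F1).map F1.subtype).map G1.subtype).subgroupOf Ft) :=
        ((S.isPGroup'.map _).map _).comap_subtype
      have h5 := R0.is_maximal' h4 (Subgroup.map_le_iff_le_comap.mp h2)
      rw [hR, ← h5, Subgroup.subgroupOf_map_subtype, inf_eq_left.mpr h3]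
    have hF2 := Sylow.normalizer_sup_eq_top S
    have : (⟨a, ha⟩ : G1) ∈ ((Subgroup.normalizer (((S : Subgroup F1).map F1.subtype : Subgroup G1) :
      Set G1) ⊔ F1 : Subgroup G1) : Set G1) := by rw [hF2]; trivial
    rw [Subgroup.mul_normal] at this
    obtain ⟨c, hc, d, hd, hcd⟩ := this
    refine ⟨c, c.2, ?_, ?_⟩
    · rw [← hSR]
      exact Subgroup.le_normalizer_map G1.subtype ⟨_, hc, rfl⟩
    · have h2 : (c : G) * d = a := congrArg Subtype.val hcd
      rw [← map_inv, ← map_mul]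
      change _ ∈ Ft
      have : (a * b)⁻¹ * c = b⁻¹ * (d : G)⁻¹ := by rw [← h2]; group
      rw [this]
      exact Ft.mul_mem (Ft.inv_mem (hNF hb)) (Ft.inv_mem hd)
  have hcos : ∀ w ∈ Ft, ∀ f ∈ Ft, h⁻¹ * π (w * (x * f)) ∈ Fb := by
    intro w hw f hf
    have : h⁻¹ * π (w * (x * f)) = (h⁻¹ * π w * h⁻¹⁻¹) * (h⁻¹ * π x) * π f := by
      rw [map_mul, map_mul]; group
    rw [this]
    exact Fb.mul_mem (Fb.mul_mem (Subgroup.Normal.conj_mem (H := Fb) inferInstance (π w) hw _) hxh) hf
  have hle : ⁅P, R⁆ ≤ P := Subgroup.le_normalizer_iff_commutator_le_left.1 hRP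
  refine core hp hr hpr (P := ⁅P, R⁆) (hPp.to_le hle) ?_ hRr
    (Subgroup.normalizer_commutator_ge_right P R) (x := x) ?_ hxR
    (H46.commutator_commutator_eq hRr (H46.not_dvd_card_of_le hrN hPN) hRP) m Nat.card_pos ?_ ?_
  · intro h
    exact hP0 (Subgroup.commutator_eq_bot_iff_le_centralizer.mp h)
  · rw [Subgroup.mem_normalizer_iff_map_conj_eq] at hxP hxR ⊢
    rw [Subgroup.map_commutator, hxP, hxR]
  · intro j hj0 hjm f hf g hg he
    have h2 := hinj j hj0 hjm (π (x * f)) (π (x * g)) (by simpa using hcos 1 Ft.one_mem f (hRF hf))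
      (by simpa using hcos 1 Ft.one_mem g (hRF hg)) (by rw [← map_pow, ← map_pow, he])
    have h3 : f⁻¹ * g ∈ N := by
      rw [← hker', map_mul, map_inv, inv_mul_eq_one]
      rw [map_mul, map_mul] at h2
      exact mul_left_cancel h2
    by_contra hne
    have h4 := H78.dvd_orderOf_of_pgroup hr hRr (R.mul_mem (R.inv_mem hf) hg)
      (fun h => hne (inv_mul_eq_one.mp h))
    exact hrN (h4.trans (Subgroup.orderOf_dvd_natCard _ h3))
  · intro w hw f hf
    exact hpow _ (hcos w (hNF (hPN (hle hw))) f (hRF hf))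

end Cfsg.Agent.S3703
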