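import Cfsg.Statements.S4729
import Cfsg.Agent.H88.Eig

set_option autoImplicit false
open Cfsg

namespace Cfsg.Agent.S4729

open Cfsg.Agent.H5 Cfsg.Agent.H6 Cfsg.Agent.H88 Cfsg.Agent.H32

/-- Let p be a prime, M a maximal ideal of the algebraic integers containing p, G a finite perfect group and P a Sylow p-subgroup. If the principal p-block of G contains a faithful irreducible character of degree less than 2p, then the centralizer of P is a p-group. -/
theorem result {G : Type*} [Group G] [Finite G] (p : ℕ) [Fact p.Prime] (M : Ideal Cfsg.AlgInt) (hM : Cfsg.IsPModular p M) (hperf : commutator G = ⊤) (P : Sylow p G) (χ : Cfsg.IrrCharacter G) (hχ : χ ∈ Cfsg.principalBlock M G) (hfaith : ∀ g : G, (χ : G → ℂ) g = (χ : G → ℂ) 1 → g = 1) (hdeg : Cfsg.charDegree (χ : G → ℂ) < 2 * p) : IsPGroup p ↥(Subgroup.centralizer ((P : Subgroup G) : Set G)) := by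
  classical
  have hp : p.Prime := Fact.out
  have := hM.2.1
  have hχ' := isCharacter_of_isIrr χ.2
  rw [IsPGroup.iff_card]
  refine ⟨_, Nat.eq_prime_pow_of_unique_prime_dvd Nat.card_pos.ne' fun {q} hq hd => ?_⟩
  have := Fact.mk hq
  by_contra hne
  obtain ⟨⟨y, hyC⟩, hy⟩ := exists_prime_orderOf_dvd_card' q hd
  rw [Subgroup.orderOf_mk] at hy
  have h1 : ∀ n : ℕ, (χ : G → ℂ) (y ^ n) - (χ : G → ℂ) 1 ∈ locMax M := fun n => by
    have h2 : _ ∈ locMax M := hχ (y ^ n)
    have h3 : ¬ p ∣ (Subgroup.centralizer ({y ^ n} : Set G)).index := fun hd =>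
      P.not_dvd_index (hd.trans (Subgroup.index_dvd_of_le fun u hu =>
        Subgroup.mem_centralizer_singleton_iff.mpr (Subgroup.pow_mem _ hyC n u hu)))
    have h4 := mul_mem_locMax_left ((locRing M).mul_mem (inv_natCast_mem_locRing hM h3)
      (irr_mem_locRing χ 1)) ((locMax M).neg_mem h2)
    have h5 := degree_ne_zero χ.2
    have h6 : ((Subgroup.centralizer ({y ^ n} : Set G)).index : ℂ) ≠ 0 :=
      Nat.cast_ne_zero.mpr Subgroup.index_ne_zero_of_finite
    convert h4 using 1
    simp only [centralChar]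
    field_simp
    ring
  obtain ⟨lam, hl⟩ := exists_eigenvalues_det hχ'
  obtain ⟨μ, h2, h3, h4⟩ := hl y
  rw [hy] at h2
  rw [monoidHom_eq_one_of_mem_commutator lam (hperf ▸ Subgroup.mem_top y), Units.val_one] at h4
  have h5 : ∀ i, μ i ≠ 1 → p ≤ (Finset.univ.filter fun j => μ j = μ i).card ∧
      p ∣ (Finset.univ.filter fun j => μ j = μ i).card := fun i hi => by
    suffices h : p ∣ (Finset.univ.filter fun j => μ j = μ i).card from
      ⟨Nat.le_of_dvd (Finset.card_pos.mpr ⟨i, by simp⟩) h, h⟩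
    refine ((Nat.coprime_primes hp hq).mpr (Ne.symm hne)).dvd_of_dvd_mul_left
      ((natCast_mem_locMax_iff hM).mp ?_)
    have h6 := mul_geom_sum (μ i)⁻¹ q
    rw [inv_pow, h2, inv_one, sub_self] at h6
    have h7 := (mul_eq_zero.mp h6).resolve_left fun e => hi (inv_eq_one.mp (sub_eq_zero.mp e))
    have h8 : ∑ n ∈ Finset.range q, ((χ : G → ℂ) (y ^ n) - (χ : G → ℂ) 1) * (μ i)⁻¹ ^ n =
        (q * (Finset.univ.filter fun j => μ j = μ i).card : ℕ) := by
      simp only [sub_mul, Finset.sum_sub_distrib, ← Finset.mul_sum, h7, mul_zero, sub_zero, h3]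
      rw [sum_pow_mul_inv_pow hq.ne_zero μ h2 (h2 i), Nat.cast_mul]
    rw [← h8]
    refine sum_mem_locMax _ _ fun n _ => mul_mem_locMax_right (h1 n) (pow_mem ?_ n)
    exact mem_locRing_of_isIntegral (IsIntegral.of_pow hq.pos (by
      rw [inv_pow, h2, inv_one]; exact isIntegral_one))
  obtain ⟨i, hi⟩ : ∃ i, μ i ≠ 1 := by
    by_contra hc
    push Not at hc
    have h6 := h3 1
    have h7 := h3 0
    simp only [hc, pow_one, pow_zero] at h6 h7
    exact hq.ne_one (by rw [← hy, hfaith y (h6.trans h7.symm), orderOf_one])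
  have h6 : ∀ j, μ j ≠ μ i → μ j = 1 := fun j hj => by
    by_contra hj1
    have h7 := Finset.card_le_univ ((Finset.univ.filter fun k => μ k = μ i).disjUnion
      (Finset.univ.filter fun k => μ k = μ j) (Finset.disjoint_filter.mpr fun k _ e e' =>
        hj (e'.symm.trans e)))
    rw [Finset.card_disjUnion, Fintype.card_fin] at h7
    have := (h5 i hi).1
    have := (h5 j hj1).1
    omega
  have h7 : (Finset.univ.filter fun j => μ j = μ i).card = p := by
    obtain ⟨h8, k, hk⟩ := h5 i hi
    have h9 := Finset.card_le_univ (Finset.univ.filter fun j => μ j = μ i)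
    rw [Fintype.card_fin] at h9
    rw [hk] at h8 h9 ⊢
    have : k = 1 := by
      have := hp.pos
      have : k < 2 := by nlinarith
      have : k ≠ 0 := fun e => by rw [e] at h8; omega
      omega
    rw [this, mul_one]
  rw [← Finset.prod_filter_mul_prod_filter_not _ (fun j => μ j = μ i),
    Finset.prod_eq_one (s := Finset.univ.filter fun j => ¬ μ j = μ i)
      fun j hj => h6 j (Finset.mem_filter.mp hj).2, mul_one,
    Finset.prod_congr rfl (g := fun _ => μ i) fun j hj => (Finset.mem_filter.mp hj).2,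
    Finset.prod_const, h7] at h4
  have h8 := pow_gcd_eq_one.mpr ⟨h4, h2 i⟩
  rw [(Nat.coprime_primes hp hq).mpr (Ne.symm hne), pow_one] at h8
  exact hi h8

end Cfsg.Agent.S4729
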