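import Cfsg.Statements.S0977
import Cfsg.Agent.H35.SmallOrd
import Cfsg.Agent.S0904

set_option autoImplicit false
open Cfsg

namespace Cfsg.Agent.S0977

/-- No finite simple group has order 4320 = 2^5 * 3^3 * 5. -/
theorem result {G : Type*} [Group G] [Finite G] [IsSimpleGroup G] : Nat.card G ≠ 4320 := by
  classical
  intro h
  have : Fact (Nat.Prime 5) := ⟨by norm_num⟩
  obtain ⟨S, B, φ, hB, hφ, hG, hZ, h1, h2, h3, h4, h5⟩ :=
    H35.simple_setup 5 864 h (by norm_num) (by norm_num)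
  have hV : Nat.card S.V = 1 := by
    obtain ⟨P, hP⟩ := H35.exists_sylow_eq_zpowers S.hx S.hsq
    have := S0904.result 2 3 5 5 3 Nat.prime_two Nat.prime_three (by norm_num) (by norm_num)
      (by norm_num) (h.trans (by norm_num)) P
    rw [show ((P : Sylow 5 G) : Set G) = ((P : Subgroup G) : Set G) from rfl, hP,
      H35.centralizer_zpowers] at this
    exact S.card_V_eq_one this
  rw [hV, one_mul] at h5
  have h6 := (Nat.mem_divisors (m := 4)).mpr ⟨h4, by norm_num⟩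
  simp only [Nat.divisors_ofNat, Finset.mem_insert, Finset.mem_singleton] at h6
  have he : S.V.index = 4 := by
    generalize S.V.index = e at *
    rcases h6 with rfl | rfl | rfl <;> omega
  obtain ⟨χ₁, χ₂, χ₃, n1, n2, n3, hχ⟩ :=
    Finset.card_eq_three.mp ((B.card_erase hB).trans (by rw [he]))
  have h7 := B.degree_eq' hB hφ
  obtain ⟨C, hC, h8⟩ := B.bt_principal hB hZ hφ (b := 3) Nat.prime_three (by norm_num)
    (by rw [hV]; norm_num) (by rw [h]; norm_num) (by norm_num)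
  have key : ∀ (χ : IrrCharacter G) (δ : ℤ), χ ≠ H35.triv G → charDegree (χ : G → ℂ) ∣ 864 →
      (δ = 1 ∨ δ = -1) → (5 : ℤ) ∣ δ - charDegree (χ : G → ℂ) →
      ∃ s : ℤ, δ * charDegree (χ : G → ℂ) = s ∧
        (s = 6 ∨ (s = -9 ∧ ¬ C χ) ∨ s = 16 ∨ s = -24 ∨ s = 36 ∨ s = -54) := by
    intro χ δ a0 a2 a3 a4
    have a1 := H35.two_le_degree hG a0
    have a6 : charDegree (χ : G → ℂ) ≠ 4 := fun e => by
      have := B.even_or_even hV (by norm_num) (χ := χ) (by omega) (t := 1) (by omega)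
      rw [hG, Subgroup.index_top] at this
      simp at this
    have a7 := H35.sq_degree_le {χ}
    rw [Finset.sum_singleton, h] at a7
    have a8 : charDegree (χ : G → ℂ) < 66 := by nlinarith
    have a9 := hC χ 2 (H35.simple_faithful a0)
    have a5 := (Nat.mem_divisors (m := 864)).mpr ⟨a2, by norm_num⟩
    simp only [Nat.divisors_ofNat, Finset.mem_insert, Finset.mem_singleton] at a5
    refine ⟨_, rfl, ?_⟩
    by_cases e : charDegree (χ : G → ℂ) = 9
    · exact Or.inr (Or.inl ⟨by rcases a3 with rfl | rfl <;> omega, a9 e⟩)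
    · rcases a3 with rfl | rfl <;> omega
  have keyX : ∀ χ ∈ B.X.erase (H35.triv G), _ := fun χ hχ =>
    have a := B.numX hG hχ
    key χ (B.δ χ) (Finset.mem_erase.mp hχ).1 (h5 ▸ a.2.1) a.2.2.1 a.2.2.2
  obtain ⟨s₁, e₁, a₁⟩ := keyX χ₁ (by simp [hχ])
  obtain ⟨s₂, e₂, a₂⟩ := keyX χ₂ (by simp [hχ])
  obtain ⟨s₃, e₃, a₃⟩ := keyX χ₃ (by simp [hχ])
  obtain ⟨b1, b2, b3, b4⟩ := B.numY hB hG hφ
  obtain ⟨s₄, e₄, a₄⟩ := key φ (-B.ε) (B.ne_triv_of_mem_Y hB hφ) (h5 ▸ b2) (by omega)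
    (by rw [he] at b4; omega)
  rw [neg_mul, neg_eq_iff_eq_neg] at e₄
  rw [hχ, Finset.sum_insert (by simp [n1, n2]), Finset.sum_pair n3, e₁, e₂, e₃, e₄] at h7 h8
  split_ifs at h8 <;> simp only [*, not_true, not_false_iff, and_true, and_false, false_or]
    at a₁ a₂ a₃ a₄ <;> omega

end Cfsg.Agent.S0977
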