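import Cfsg.Statements.S0978
import Cfsg.Agent.H35.SmallOrd
import Cfsg.Agent.S4729

set_option autoImplicit false
open Cfsg

namespace Cfsg.Agent.S0978

/-- No finite simple group has order 5040 = 2^4 * 3^2 * 5 * 7. -/
theorem result {G : Type*} [Group G] [Finite G] [IsSimpleGroup G] : Nat.card G ≠ 5040 := by
  classical
  intro h
  have : Fact (Nat.Prime 5) := ⟨by norm_num⟩
  obtain ⟨S, B, φ, hB, hφ, hG, hZ, h1, h2, h3, h4, h5⟩ :=
    H35.simple_setup 5 1008 h (by norm_num) (by norm_num)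
  have h6 := (Nat.mem_divisors (m := 4)).mpr ⟨h4, by norm_num⟩
  simp only [Nat.divisors_ofNat, Finset.mem_insert, Finset.mem_singleton] at h6
  have h7 := (Nat.mem_divisors (m := 1008)).mpr ⟨Dvd.intro_left _ h5, by norm_num⟩
  simp only [Nat.divisors_ofNat, Finset.mem_insert, Finset.mem_singleton] at h7
  have hV : Nat.card S.V ≠ 1 := fun e => by
    rw [e, one_mul] at h5
    generalize S.V.index = e at *
    rcases h6 with rfl | rfl | rfl <;> omega
  obtain ⟨M, hM⟩ := H86.exists_isPModular (p := 5) (by norm_num)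
  have big : ∀ χ, χ ≠ H35.triv G → χ ∈ B.X ∨ χ ∈ B.Y → 10 ≤ charDegree (χ : G → ℂ) := by
    intro χ h0 hχ
    by_contra! hlt
    obtain ⟨P, hP⟩ := H35.exists_sylow_eq_zpowers S.hx S.hsq
    have h8 := S4729.result 5 M hM hG P χ (by rw [B.principalBlock_eq hM]; exact hχ)
      (H35.simple_faithful h0) hlt
    rw [hP, H35.centralizer_zpowers, IsPGroup.iff_card, S.card_centralizer] at h8
    obtain ⟨k, hk⟩ := h8
    obtain ⟨j, -, hj⟩ := (Nat.dvd_prime_pow (by norm_num)).mp (Dvd.intro_left _ hk)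
    exact S.not_dvd_card_sub S.V (hj ▸ dvd_pow_self 5 fun e => hV (by rw [hj, e, pow_zero]))
  have h8 := B.degree_eq' hB hφ
  obtain ⟨b1, b2, b3, b4⟩ := B.numY hB hG hφ
  have b0 := big φ (B.ne_triv_of_mem_Y hB hφ) (Or.inr hφ)
  have hc := B.card_erase hB
  have hX := fun χ (hχ : χ ∈ B.X.erase (H35.triv G)) => And.intro
    (big χ (Finset.mem_erase.mp hχ).1 (Or.inl (Finset.mem_erase.mp hχ).2)) (B.numX hG hχ).2
  generalize S.V.index = e at *
  generalize Nat.card (Sylow 5 G) = n at *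
  rcases h6 with rfl | rfl | rfl
  · exact h3 rfl
  · obtain ⟨χ, hχ⟩ := Finset.card_eq_one.mp hc
    obtain ⟨a1, a2, a3, a4⟩ := hX χ (by simp [hχ])
    rw [hχ, Finset.sum_singleton] at h8
    have hn : 2 * n ∣ 1008 := Dvd.intro_left (Nat.card S.V) (by rw [← h5]; ring)
    have a5 := (Nat.mem_divisors (m := 1008)).mpr ⟨a2.trans hn, by norm_num⟩
    have b5 := (Nat.mem_divisors (m := 1008)).mpr ⟨b2.trans hn, by norm_num⟩
    simp only [Nat.divisors_ofNat, Finset.mem_insert, Finset.mem_singleton] at a5 b5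
    rcases a3 with a3 | a3 <;> rcases b3 with b3 | b3 <;> rw [a3, b3] at h8 <;> omega
  · obtain ⟨χ₁, χ₂, χ₃, n1, n2, n3, hχ⟩ := Finset.card_eq_three.mp hc
    have hn : n = 36 ∨ 4 * n ∣ 504 := by
      have : n = 6 ∨ n = 21 ∨ n = 36 ∨ n = 126 := by
        rcases h7 with rfl | rfl | rfl | rfl | rfl | rfl | rfl | rfl | rfl | rfl | rfl | rfl | rfl | rfl | rfl | rfl | rfl | rfl | rfl | rfl | rfl | rfl | rfl | rfl | rfl | rfl | rfl | rfl | rfl | rfl <;> omega
      rcases this with rfl | rfl | rfl | rfl <;> norm_num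
    obtain ⟨L, hL, key⟩ : ∃ L : List ℤ, (∀ a ∈ L, ∀ b ∈ L, ∀ c ∈ L, ∀ d ∈ L,
        -d ≠ 1 + (a + (b + c))) ∧ ∀ (d : ℕ) (δ : ℤ), 10 ≤ d → d ∣ 4 * n → (δ = 1 ∨ δ = -1) →
        (5 : ℤ) ∣ δ - d → ∃ s : ℤ, δ * d = s ∧ s ∈ L := by
      rcases hn with rfl | hn
      · refine ⟨[16, -24, 36, -144], by decide, fun d δ a1 a2 a3 a4 => ⟨_, rfl, ?_⟩⟩
        have a5 := (Nat.mem_divisors (m := 144)).mpr ⟨a2, by norm_num⟩
        simp only [Nat.divisors_ofNat, Finset.mem_insert, Finset.mem_singleton] at a5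
        simp only [List.mem_cons, List.not_mem_nil, or_false]
        rcases a3 with rfl | rfl <;> omega
      · refine ⟨[-14, 21, -24, 36, 56, -84, 126, -504], by decide +kernel,
          fun d δ a1 a2 a3 a4 => ⟨_, rfl, ?_⟩⟩
        have a5 := (Nat.mem_divisors (m := 504)).mpr ⟨a2.trans hn, by norm_num⟩
        simp only [Nat.divisors_ofNat, Finset.mem_insert, Finset.mem_singleton] at a5
        simp only [List.mem_cons, List.not_mem_nil, or_false]
        rcases a3 with rfl | rfl <;> omega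
    have keyX := fun χ hχ => have a := hX χ hχ; key _ _ a.1 a.2.1 a.2.2.1 a.2.2.2
    obtain ⟨s₁, e₁, a₁⟩ := keyX χ₁ (by simp [hχ])
    obtain ⟨s₂, e₂, a₂⟩ := keyX χ₂ (by simp [hχ])
    obtain ⟨s₃, e₃, a₃⟩ := keyX χ₃ (by simp [hχ])
    obtain ⟨s₄, e₄, a₄⟩ := key _ (-B.ε) b0 b2 (by omega) (by omega)
    rw [neg_mul, neg_eq_iff_eq_neg] at e₄
    rw [hχ, Finset.sum_insert (by simp [n1, n2]), Finset.sum_pair n3, e₁, e₂, e₃, e₄] at h8
    exact hL _ a₁ _ a₂ _ a₃ _ a₄ h8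

end Cfsg.Agent.S0978
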