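import Cfsg.Statements.S0980
import Cfsg.Agent.H35.SmallOrd
import Cfsg.Agent.S0904

set_option autoImplicit false
open Cfsg

namespace Cfsg.Agent.S0980

/-- No finite simple group has order 5760 = 2^7 * 3^2 * 5. -/
theorem result {G : Type*} [Group G] [Finite G] [IsSimpleGroup G] : Nat.card G ≠ 5760 := by
  classical
  intro h
  have : Fact (Nat.Prime 5) := ⟨by norm_num⟩
  obtain ⟨S, B, φ, hB, hφ, hG, hZ, h1, h2, h3, h4, h5⟩ :=
    H35.simple_setup 5 1152 h (by norm_num) (by norm_num)
  have hV : Nat.card S.V = 1 := by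
    obtain ⟨P, hP⟩ := H35.exists_sylow_eq_zpowers S.hx S.hsq
    have := S0904.result 2 3 5 7 2 Nat.prime_two Nat.prime_three (by norm_num) (by norm_num)
      (by norm_num) (h.trans (by norm_num)) P
    rw [show ((P : Sylow 5 G) : Set G) = ((P : Subgroup G) : Set G) from rfl, hP,
      H35.centralizer_zpowers] at this
    exact S.card_V_eq_one this
  rw [hV, one_mul] at h5
  have h6 := (Nat.mem_divisors (m := 4)).mpr ⟨h4, by norm_num⟩
  simp only [Nat.divisors_ofNat, Finset.mem_insert, Finset.mem_singleton] at h6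
  have he : S.V.index = 2 := by
    generalize S.V.index = e at *
    rcases h6 with rfl | rfl | rfl <;> omega
  obtain ⟨χ, hχ⟩ := Finset.card_eq_one.mp ((B.card_erase hB).trans (by rw [he]))
  have h7 := B.degree_eq' hB hφ
  have hm := hχ ▸ Finset.mem_singleton_self χ
  obtain ⟨a1, a2, a3, a4⟩ := B.numX hG hm
  obtain ⟨b1, b2, b3, b4⟩ := B.numY hB hG hφ
  obtain ⟨C, hC, h8⟩ := B.bt_principal hB hZ hφ (b := 7) Nat.prime_two (by norm_num)
    (by rw [hV]; norm_num) (by rw [h]; norm_num) (by norm_num)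
  rw [hχ, Finset.sum_singleton] at h7 h8
  rw [h5] at a2 b2
  have c1 := fun n => hC χ n (H35.simple_faithful (Finset.mem_erase.mp hm).1)
  have c2 := fun n => hC φ n (H35.simple_faithful (B.ne_triv_of_mem_Y hB hφ))
  have a5 := (Nat.mem_divisors (m := 1152)).mpr ⟨a2, by norm_num⟩
  simp only [Nat.divisors_ofNat, Finset.mem_insert, Finset.mem_singleton] at a5
  have b5 := (Nat.mem_divisors (m := 1152)).mpr ⟨b2, by norm_num⟩
  simp only [Nat.divisors_ofNat, Finset.mem_insert, Finset.mem_singleton] at b5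
  have h9 : charDegree (χ : G → ℂ) = 4 ∧ B.ε * charDegree (φ : G → ℂ) = -3 ∨
      charDegree (φ : G → ℂ) = 8 ∧ B.δ χ * charDegree (χ : G → ℂ) = -9 := by
    rcases a3 with a3 | a3 <;> rcases b3 with b3 | b3 <;> rw [a3, b3] at h7 <;> rw [a3, b3] <;>
      omega
  rcases h9 with h9 | h9
  · rw [if_neg (c1 2 h9.1), h9.2] at h8
    split_ifs at h8 <;> omega
  · rw [if_neg (c2 3 h9.1), h9.2] at h8
    split_ifs at h8 <;> omega

end Cfsg.Agent.S0980
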