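import Cfsg.Statements.S3280
import Cfsg.Agent.H18.SmallCent
import Cfsg.Agent.H18.Transfer2
import Cfsg.Agent.H18.PSL2Order
import Cfsg.Agent.H22.QuatPerfect
import Cfsg.Agent.H42.QD2
import Cfsg.Agent.S0111
import Cfsg.Agent.S0494
import Cfsg.Agent.S0496
import Cfsg.Agent.S0497
import Cfsg.Agent.S3331

set_option autoImplicit false
open Cfsg

namespace Cfsg.Agent.S3280

open Subgroup

theorem not_qd {G : Type*} [Group G] [Finite G] (hG : ∀ H : Subgroup G, H.index ≠ 2)
    (S : Sylow 2 G) (hS : IsQuasiDihedral (S : Subgroup G)) {w : G} (hwS : w ∈ (S : Subgroup G))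
    (hw : Nat.card (centralizer ({w} : Set G)) ≤ 4) : False := by
  obtain ⟨k, x, y, h⟩ := H42.QD.of_isQuasiDihedral hS
  have key : ∀ g : G, g * w * g⁻¹ ∉ zpowers x := fun g hg => by
    have h1 : zpowers x ≤ centralizer ({g * w * g⁻¹} : Set G) := fun a ha =>
      mem_centralizer_singleton_iff.2 (H42.comm_of_mem_zpowers ha hg)
    have h2 := card_le_of_le h1
    rw [H18.card_cent_conj, Nat.card_zpowers, h.ordx'] at h2
    have : 0 < 2 ^ k := by positivity
    omega
  have hwx : w ∉ zpowers x := by simpa using key 1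
  rcases h.sq_out hwS hwx with h2 | h2
  · have hw1 : w ≠ 1 := fun e => hwx (e ▸ one_mem _)
    rcases S0111.result S _ h.A_le h.relIndex w (orderOf_eq_prime (by rw [sq]; exact h2) hw1)
      hwS hwx with ⟨M, -, hM, -⟩ | ⟨g, hg⟩
    exacts [hG M hM, key g hg]
  · obtain ⟨M, -, hM, -⟩ := H18.exists_index_two (H18.odd_index_sylow S)
      (h.relIndex_ext h.hy h.y_notMem) (u := w) (n := 2) (h.pow_four_out hwS hwx) (fun g hg => by
        have hgS := h.ext_le h.hy hg
        rcases (h.mem_ext h.hy h.y_notMem).1 hg with h3 | h3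
        · exact key g (H42.QD.sq_le h3)
        · have h4 := h.conj_of_mem_sq h.hy h.y_notMem h3
          have h5 : g * w * g⁻¹ * (g * w * g⁻¹) = 1 := by
            have hyy := h.yy
            have hy' : y⁻¹ = y := inv_eq_of_mul_eq_one_right hyy
            calc g * w * g⁻¹ * (g * w * g⁻¹)
                = (g * w * g⁻¹ * y⁻¹) * (y * (g * w * g⁻¹ * y⁻¹) * y⁻¹) * (y * y) := by group
              _ = 1 := by rw [h4, hyy]; group
          apply h.z_ne_one
          rw [← h2]
          calc w * w = g⁻¹ * (g * w * g⁻¹ * (g * w * g⁻¹)) * g := by group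
            _ = 1 := by rw [h5]; group) (fun j g hg => by
        have h3 : g * (w * w) ^ j * g⁻¹ * (g * (w * w) ^ j * g⁻¹) = 1 := by
          have : (w * w) ^ j * (w * w) ^ j = 1 := by
            rw [← (Commute.refl _).mul_pow, h2, h.zz, one_pow]
          calc _ = g * ((w * w) ^ j * (w * w) ^ j) * g⁻¹ := by group
            _ = 1 := by rw [this]; group
        by_cases hx : g * (w * w) ^ j * g⁻¹ ∈ zpowers x
        · rcases h.eq_one_or_z hx h3 with e | e
          · rw [e]; exact one_mem _
          · rw [e]; exact mem_sup_left H42.QD.z_mem_sq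
        · exact h.mem_D hg hx h3)
    exact hG M hM

/-- A non-cyclic finite simple group containing an element whose centralizer has order at most 4 is isomorphic to the alternating group of degree 5, 6 or 7, or to PSL(2, 7). -/
theorem result {G : Type*} [Group G] [Finite G] [IsSimpleGroup G] (hG : ¬ IsCyclic G)
    (w : G) (hw : Nat.card ↥(Subgroup.centralizer ({w} : Set G)) ≤ 4) :
    Nonempty (G ≃* ↥(alternatingGroup (Fin 5))) ∨ Nonempty (G ≃* ↥(alternatingGroup (Fin 6))) ∨
      Nonempty (G ≃* ↥(alternatingGroup (Fin 7))) ∨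
      (∃ (F : Type) (_ : Field F) (_ : Fintype F), Fintype.card F = 7 ∧ Nonempty (G ≃* Matrix.ProjectiveSpecialLinearGroup (Fin 2) F)) := by
  have hnc : ¬ IsMulCommutative G := fun h => hG (by
    let _ : CommGroup G := { (inferInstance : Group G) with mul_comm := h.is_comm.comm }
    exact IsSimpleGroup.isCyclic)
  have hP := H18.isPerfect_of_simple hnc
  have hbig : 60 ≤ Nat.card G := by
    by_contra h
    have := S0496.result hnc (by omega)
    omega
  have hw1 : w ≠ 1 := by
    rintro rfl
    have : centralizer ({1} : Set G) = ⊤ := eq_top_iff.2 fun g _ =>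
      mem_centralizer_singleton_iff.2 (by simp)
    rw [this, card_top] at hw
    omega
  have hwC : w ∈ centralizer ({w} : Set G) := mem_centralizer_singleton_iff.2 rfl
  have hi2 : ∀ H : Subgroup G, H.index ≠ 2 := fun H hH => by
    rcases (normal_of_index_eq_two hH).eq_bot_or_eq_top with e | e
    · rw [e, index_bot] at hH; omega
    · rw [e, index_top] at hH; omega
  have hpos : 0 < Nat.card (centralizer ({w} : Set G)) := Nat.card_pos
  have hne1 : Nat.card (centralizer ({w} : Set G)) ≠ 1 := fun e =>
    hw1 (mem_bot.1 (card_eq_one.1 e ▸ hwC))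
  by_cases h3 : Nat.card (centralizer ({w} : Set G)) = 3
  · have : Fact (Nat.Prime 3) := ⟨Nat.prime_three⟩
    have hcy : IsCyclic (centralizer ({w} : Set G)) := isCyclic_of_prime_card h3
    have hC : centralizer (centralizer ({w} : Set G) : Set G) = centralizer ({w} : Set G) :=
      le_antisymm (centralizer_le (Set.singleton_subset_iff.2 hwC))
        (le_centralizer_iff_isMulCommutative.2 hcy.isMulCommutative)
    have hbot : ∀ (N : Subgroup G) (_ : N.Normal), N ≠ ⊤ → Nonempty (G ≃* G ⧸ N) := by
      intro N hN h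
      obtain rfl := hN.eq_bot_or_eq_top.resolve_right h
      exact ⟨QuotientGroup.quotientBot.symm⟩
    rcases S3331.result _ h3 hC with ⟨N, hN, -, -, h⟩ | ⟨N, hN, h1, -, ⟨f⟩⟩ | h
    · exfalso
      have h6 : Nat.card (G ⧸ N) = 3 ∨ Nat.card (G ⧸ N) = 6 := h.imp id fun ⟨f⟩ => by
        rw [Nat.card_congr f.toEquiv, Nat.card_perm, Nat.card_fin]; rfl
      obtain ⟨e⟩ := hbot N hN (by
        rintro rfl
        have : Nat.card (G ⧸ (⊤ : Subgroup G)) = 1 := index_top
        omega)
      rw [← Nat.card_congr e.toEquiv] at h6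
      omega
    · obtain ⟨e⟩ := hbot N hN (by
        rintro rfl
        exact hnc ⟨⟨fun a b => congrArg Subtype.val (h1.is_comm.comm ⟨a, trivial⟩ ⟨b, trivial⟩)⟩⟩)
      exact Or.inl ⟨e.trans f⟩
    · have : Fact (Nat.Prime 7) := ⟨by norm_num⟩
      exact Or.inr (Or.inr (Or.inr ⟨ZMod 7, inferInstance, inferInstance, by simp, h⟩))
  have : Fact (Nat.Prime 2) := ⟨Nat.prime_two⟩
  have h24 : Nat.card (centralizer ({w} : Set G)) = 2 ^ 1 ∨
      Nat.card (centralizer ({w} : Set G)) = 2 ^ 2 := by omega
  have hp : IsPGroup 2 (centralizer ({w} : Set G)) := h24.elim IsPGroup.of_card IsPGroup.of_card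
  obtain ⟨S, hS⟩ := hp.exists_le_sylow
  have hev : Even (Nat.card G) := by
    have := card_subgroup_dvd_card (centralizer ({w} : Set G))
    rw [even_iff_two_dvd]
    rcases h24 with e | e <;> rw [e] at this <;> exact Dvd.dvd.trans (by norm_num) this
  have hO : ∀ N : Subgroup G, N.Normal → Odd (Nat.card N) → N = ⊥ := fun N hN ho =>
    hN.eq_bot_or_eq_top.resolve_right fun e => by
      rw [e, card_top] at ho
      exact Nat.not_even_iff_odd.2 ho hev
  have hwS : Nat.card (centralizer ({(⟨w, hS hwC⟩ : (S : Subgroup G))} : Set (S : Subgroup G))) ≤ 4 := by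
    refine le_trans (Nat.card_le_card_of_injective (fun x => (⟨x.1.1, mem_centralizer_singleton_iff.2
      (congrArg Subtype.val (mem_centralizer_singleton_iff.1 x.2))⟩ : centralizer ({w} : Set G)))
      fun a b e => Subtype.ext (Subtype.ext (by simpa using e))) hw
  rcases H18.two_group_cases S.isPGroup' _ hwS with h | ⟨n, hn, h⟩ | ⟨n, ⟨e⟩⟩ | h
  · exact absurd h (H22.not_isCyclic_sylow_two hP hev S)
  · rcases H22.gw_of_core_eq_bot hP (H8.core_eq_bot_iff.2 hO) S hn h with ⟨F, _, _, h1, h2, ⟨e⟩⟩ | h
    · have a1 := H18.psl2_index_cent_le h1 (e w)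
      have a2 := (centralizer ({e w} : Set _)).card_mul_index
      have a3 := H9.gcd_mul_card_psl_two (F := F)
      rw [Nat.gcd_eq_left (Nat.Odd.sub_odd h1 odd_one).two_dvd] at a3
      rw [H18.card_cent_equiv] at a2
      have a4 := Nat.card_congr e.toEquiv
      have a5 : Fintype.card F * (Fintype.card F + 1) * (Fintype.card F - 1) ≤
          Fintype.card F * (Fintype.card F + 1) * 8 := by
        rw [mul_assoc, ← H66.sq_sub_one_eq, ← a3, ← a2]
        calc 2 * (_ * _) ≤ 2 * (4 * (Fintype.card F * (Fintype.card F + 1))) :=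
              Nat.mul_le_mul_left _ (Nat.mul_le_mul hw a1)
          _ = _ := by ring
      have a6 := Nat.le_of_mul_le_mul_left a5 (by positivity)
      have a7 := Nat.odd_iff.1 h1
      rcases (by omega : Fintype.card F = 5 ∨ Fintype.card F = 7 ∨ Fintype.card F = 9) with
        q | q | q
      · rw [q] at a3; exact Or.inl (S0494.result (by omega))
      · exact Or.inr (Or.inr (Or.inr ⟨F, _, _, q, ⟨e⟩⟩))
      · rw [q] at a3; exact Or.inr (Or.inl (S0497.result (by omega)))
    · exact Or.inr (Or.inr (Or.inl h))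
  · have h2 := S0201.result S n e hO
    rcases (inferInstance : (center G).Normal).eq_bot_or_eq_top with e | e
    · rw [e, card_bot] at h2; omega
    · rw [e, card_top] at h2; omega
  · exact (not_qd hi2 S h (hS hwC) hw).elim

end Cfsg.Agent.S3280
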