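import Cfsg.Statements.S1555
import Cfsg.Agent.H56.OrbPt

set_option autoImplicit false
open scoped Pointwise
open Cfsg

namespace Cfsg.Agent.S1555

open H14 H55 H56

theorem five {s : Finset GolayPt} (hs : s.card = 4) : {y | y ∈ octads ∧ s ⊆ y}.ncard = 5 := by
  obtain ⟨g, rfl⟩ := exists_smul_finset_eq (s := bits 15) (t := s)
    ((card_bits _).trans (hs ▸ by decide +kernel)) (by omega)
  have h : {y | y ∈ octads ∧ bits 15 ⊆ y}.ncard = 5 :=
    (ncard_octads_filter _ (fun m => Nat.beq (Nat.land 15 m) 15) fun _ _ => by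
      rw [beq_iff]
      exact ⟨bits_subset_of_and, and_eq_of_bits_subset (by norm_num)⟩).trans (by decide +kernel)
  rw [← h, ← Set.ncard_smul_set g {y | y ∈ octads ∧ bits 15 ⊆ y}]
  congr 1
  ext y
  rw [Set.mem_smul_set_iff_inv_smul_mem]
  refine ⟨fun h => ⟨m24_smul_mem_octads _ h.1, Finset.smul_finset_subset_iff.1 h.2⟩, fun h =>
    ⟨?_, Finset.smul_finset_subset_iff.2 h.2⟩⟩
  simpa using m24_smul_mem_octads g h.1

/-- Bottom row of the Leech triangle: an octad is met in a prescribed pair of its points by exactly 16 octads and in a prescribed 4-subset by exactly 4 octads. -/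
theorem result (o : Finset Cfsg.GolayPt) (ho : o ∈ Cfsg.octads) (s : Finset Cfsg.GolayPt) (hs : s ⊆ o) : (s.card = 2 → {o' : Finset Cfsg.GolayPt | o' ∈ Cfsg.octads ∧ o ∩ o' = s}.ncard = 16) ∧ (s.card = 4 → {o' : Finset Cfsg.GolayPt | o' ∈ Cfsg.octads ∧ o ∩ o' = s}.ncard = 4) := by
  refine ⟨fun h => ?_, fun h => ?_⟩
  · obtain ⟨p, q, hpq, rfl⟩ := Finset.card_eq_two.1 h
    have hp : p ∈ o := hs (by simp)
    have hq : q ∈ o := hs (by simp)
    refine Eq.trans (congrArg _ (Set.ext fun x => ?_)) ((sII_sub (a := (p, q)) hpq ⟨ho, hp, hq⟩).card 1)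
    refine ⟨fun ⟨h1, h2⟩ => ⟨⟨h1, ?_, ?_⟩, (congrArg _ h2).trans h⟩, fun ⟨⟨h1, h2, h3⟩, h4⟩ =>
      ⟨h1, (Finset.eq_of_subset_of_card_le ?_ (h4.trans h.symm).le).symm⟩⟩
    · exact Finset.mem_of_mem_inter_right (h2 ▸ by simp : p ∈ o ∩ x)
    · exact Finset.mem_of_mem_inter_right (h2 ▸ by simp : q ∈ o ∩ x)
    · exact Finset.subset_inter hs (Finset.insert_subset h2 (Finset.singleton_subset_iff.2 h3))
  · have h1 := Set.ncard_diff_singleton_of_mem (s := {y | y ∈ octads ∧ s ⊆ y}) ⟨ho, hs⟩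
    rw [five h] at h1
    refine Eq.trans (congrArg _ (Set.ext fun x => ?_)) h1
    refine ⟨fun ⟨h1, h2⟩ => ⟨⟨h1, h2 ▸ Finset.inter_subset_right⟩, fun e => ?_⟩,
      fun ⟨⟨h1, h2⟩, h3⟩ => ⟨h1, (Finset.eq_of_subset_of_card_le (Finset.subset_inter hs h2) ?_).symm⟩⟩
    · rw [Set.mem_singleton_iff.1 e, Finset.inter_self] at h2
      have := octad_card ho
      rw [h2] at this
      omega
    · by_contra hc
      exact h3 (octad_eq_of_five ho h1 (by omega)).symm

end Cfsg.Agent.S1555
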