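import Cfsg.Statements.S2049
import Cfsg.Agent.H63.He
import Cfsg.Agent.H58.HeP

set_option autoImplicit false
open Cfsg

namespace Cfsg.Agent.S2049

/-- The Schur multiplier of the Held group (the finitely presented group of the definitions) is trivial; here the Schur multiplier is described through stem extensions, as in the definitions: surjective homomorphisms onto the group from a finite group, whose kernel is central in that finite group and contained in that finite group's commutator subgroup. -/
theorem result : Cfsg.HasCyclicSchurMultiplier Cfsg.Spor.He 1 := by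
  have := H58.HeP.finite
  have := H58.HeP.simple
  have h := H58.HeP.card_eq
  have hU := H63.univ_cox (fun x => (H58.HeP.hc x).2) H58.HeP.homM
  refine H63.mult_trivial (H63.UB.of_PB_fac [(2, []), (3, []), (5, []), (7, [])] ?_ [(2, 10), (3, 3), (5, 2), (7, 3), (17, 1)] 4030387200 h
    (by norm_num) (by simp only [List.forall_mem_cons]; norm_num))
  simp only [List.forall_mem_cons]
  exact ⟨(H63.He.acov hU).pb h (by norm_num) Nat.prime_two (fun _ _ _ hM ho => H63.He.ap2pb (H63.He.asmd hM) ho)
    (by simp), (H63.He.acov hU).pb h (by norm_num) Nat.prime_three (fun _ _ _ hM ho => H63.He.ap3pb (H63.He.asmd hM) ho)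
    (by simp), (H63.He.acov hU).pb h (by norm_num) Nat.prime_five (fun _ _ _ hM ho => H63.He.ap5pb (H63.He.asmd hM) ho)
    (by simp), (H63.He.acov hU).pb h (by norm_num) Nat.prime_seven (fun _ _ _ hM ho => H63.He.ap7pb (H63.He.asmd hM) ho)
    (by simp), by simp⟩

end Cfsg.Agent.S2049
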