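import Cfsg.Statements.S1220
import Cfsg.Agent.H50.Bender

set_option autoImplicit false
open Cfsg

namespace Cfsg.Agent.S1220

open Subgroup Cfsg.Agent.H49 Cfsg.Agent.H50


/-- Let H be a strongly embedded subgroup of the finite group G. Then either G acts doubly transitively on the cosets of H (H permutes transitively the cosets gH with g ∉ H), or every Sylow 2-subgroup of G is cyclic or generalized quaternion and G = O(G)H. -/
theorem result {G : Type*} [Group G] [Finite G] (H : Subgroup G) (hH : Cfsg.IsStronglyEmbedded H) : (∀ g₁ g₂ : G, g₁ ∉ H → g₂ ∉ H → ∃ h ∈ H, g₂⁻¹ * (h * g₁) ∈ H) ∨ ((∀ S : Sylow 2 G, IsCyclic S ∨ ∃ m : ℕ, 1 ≤ m ∧ Nonempty ((S : Subgroup G) ≃* QuaternionGroup (2 ^ m))) ∧ Cfsg.oddCore G ⊔ H = ⊤) := by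
  by_cases r2 : SUZ.Rank2 (⊤ : Subgroup G)
  · left
    obtain ⟨Q, t, -, -, h, -⟩ := bender_quot hH r2
    have hO := oddCore_le_se hH r2
    intro g₁ g₂ h1 h2
    obtain ⟨g, e1, e2⟩ := H41.R1.two_trans h.setup
      (H43.one_ne_mk (fun hm => h1 ((mk_mem_barO hO).1 hm)))
      (H43.one_ne_mk (fun hm => h2 ((mk_mem_barO hO).1 hm)))
    obtain ⟨g, rfl⟩ := QuotientGroup.mk_surjective g
    refine ⟨g, (mk_mem_barO hO).1 (H43.smul_one_eq_iff.1 e1), (mk_mem_barO hO).1 ?_⟩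
    rw [H43.smul_mk_eq_iff] at e2
    simpa [mul_assoc] using e2
  · right
    refine ⟨fun S => (rank1_sylow r2 S.2).imp id ?_, rank1_sup_se r2 hH⟩
    rintro ⟨n, e⟩
    exact ⟨n + 1, by omega, e⟩

end Cfsg.Agent.S1220
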