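import Cfsg.Statements.S2792
import Cfsg.Agent.H61.Wielandt

set_option autoImplicit false
open Cfsg

namespace Cfsg.Agent.S2792

open Subgroup

/-- Let S be a Sylow p-subgroup of the finite group G and W a subgroup of S weakly closed in S with respect to G. If S ∩ G' ≠ S ∩ (N_G(W))', then there are x ∈ S, z ∈ W and a maximal subgroup W₀ of W such that the iterated commutator [x, z; p−1] (with [x, z] = x⁻¹z⁻¹xz and [x, z; i+1] = [[x, z; i], z]) lies in W₀ but not in the Frattini subgroup of W₀; in particular [x, z; p−1] ≠ 1. -/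
theorem result {G : Type*} [Group G] [Finite G] {p : ℕ} [Fact p.Prime] (S : Sylow p G) (W : Subgroup G) (hW : Cfsg.IsWeaklyClosed W (S : Subgroup G)) (h : (S : Subgroup G) ⊓ commutator G ≠ (S : Subgroup G) ⊓ ⁅Subgroup.normalizer (W : Set G), Subgroup.normalizer (W : Set G)⁆) : ∃ x ∈ (S : Subgroup G), ∃ z ∈ W, ∃ W₀ : Subgroup ↥W, IsCoatom W₀ ∧ (fun y : G => y⁻¹ * z⁻¹ * y * z)^[p - 1] x ∈ W₀.map W.subtype ∧ (fun y : G => y⁻¹ * z⁻¹ * y * z)^[p - 1] x ∉ ((frattini ↥W₀).map W₀.subtype).map W.subtype := by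
  have hSH : (S : Subgroup G) ≤ normalizer (W : Set G) := fun s hs =>
    H72.cj_eq_iff.1 (hW.2 s (H72.cj_le_of_mem hs hW.1))
  obtain ⟨x, hx, z, hz, W₀, hW₀, w, hw, hw'⟩ := H61.wielandt S hW fun e => h (by
    refine le_antisymm (le_inf inf_le_left fun x hx => ?_)
      (inf_le_inf_left _ (commutator_mono le_top le_top))
    have h1 : commutator G ≤ ⁅(S : Subgroup G), (S : Subgroup G)⁆ ⊔ pResidual p G := by
      have h2 : (S : Subgroup G).map (QuotientGroup.mk' (pResidual p G)) = ⊤ := by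
        have := congrArg (Subgroup.map (QuotientGroup.mk' (pResidual p G))) (H3.sylow_sup_pResidual S)
        rwa [Subgroup.map_sup, (Subgroup.map_eq_bot_iff (pResidual p G)).2
          (QuotientGroup.ker_mk' _).ge, sup_bot_eq,
          map_top_of_surjective _ (QuotientGroup.mk'_surjective _)] at this
      have h3 := comap_map_eq (QuotientGroup.mk' (pResidual p G)) ⁅(S : Subgroup G), (S : Subgroup G)⁆
      rw [QuotientGroup.ker_mk'] at h3
      rw [← h3, ← map_le_iff_le_comap, commutator_def, map_commutator, map_commutator, h2]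
      exact commutator_mono le_top le_top
    obtain ⟨a, ha, b, hb, rfl⟩ := H72.mem_sup_of_normalizes (by rw [normalizer_eq_top]; exact le_top)
      (h1 hx.2)
    have haS : a ∈ (S : Subgroup G) := (H72.commutator_le_inf_of_normalizes le_normalizer le_normalizer ha).1
    have hbS : b ∈ (S : Subgroup G) := by simpa using mul_mem (inv_mem haS) hx.1
    refine mul_mem (commutator_mono hSH hSH ha) ?_
    rw [← map_subtype_commutator]
    exact ⟨⟨b, hSH hbS⟩, H3.inf_pResidual_le_commutator (S.subtype hSH).isPGroup'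
      ⟨hbS, e.le hb⟩, rfl⟩)
  refine ⟨x, hx, z, hz, W₀, H3.isCoatom_of_index_prime (hW₀ ▸ Fact.out), ⟨w, w.2, hw⟩, ?_⟩
  rintro ⟨_, ⟨v, hv, rfl⟩, e⟩
  exact hw' (by rwa [show w = v from Subtype.ext (Subtype.ext (hw.trans e.symm))])

end Cfsg.Agent.S2792
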