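import Cfsg.Statements.S3861
import Cfsg.Agent.H80.Misc
import Cfsg.Agent.S0200
import Cfsg.Agent.S3863
import Cfsg.Agent.H44.Cores
import Cfsg.Agent.H3.PComplement

set_option autoImplicit false
open Cfsg

namespace Cfsg.Agent.S3861

open Subgroup

/-- A finite group G has no non-identity element of odd order that is conjugate to its inverse if and only if the Sylow 2-subgroups of G are normal. -/
theorem result {G : Type*} [Group G] [Finite G] (P : Sylow 2 G) : (∀ x : G, x ≠ 1 → Odd (orderOf x) → ¬ IsConj x x⁻¹) ↔ (P : Subgroup G).Normal := by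
  have h2 : Nat.Prime 2 := Nat.prime_two
  constructor
  · intro h
    by_contra hP
    have hchar := H44.pCore_characteristic (p := 2) (G := G)
    let π := QuotientGroup.mk' (pCore 2 G)
    have hπ := QuotientGroup.mk'_surjective (pCore 2 G)
    have hev : 2 ∣ Nat.card (G ⧸ pCore 2 G) := by
      by_contra h1
      apply hP
      have : (P : Subgroup G) = pCore 2 G := by
        have h3 := (H44.pCore_isPGroup (p := 2) (G := G)).le_sylow_of_normal P
        exact ((H44.pCore_isPGroup.toSylow h1).is_maximal' P.isPGroup' h3)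
      rw [this]; infer_instance
    obtain ⟨t, ht⟩ := exists_prime_orderOf_dvd_card' 2 hev
    obtain ⟨y, hy1, hyo, hty⟩ := S0200.result t ht (fun N hN hN2 htN => by
      have := H44.le_pCore hN hN2 htN
      rw [H44.pCore_quotient_pCore, mem_bot] at this
      rw [this, orderOf_one] at ht
      exact absurd ht (by norm_num))
    obtain ⟨q, hq, hqd⟩ := Nat.exists_prime_and_dvd (mt orderOf_eq_one_iff.1 hy1)
    have := Fact.mk hq
    have hqo : Odd q := hyo.of_dvd_nat hqd
    have hz : orderOf (y ^ (orderOf y / q)) = q := orderOf_pow_orderOf_div (orderOf_pos y).ne' hqd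
    have htz : t * y ^ (orderOf y / q) * t⁻¹ = (y ^ (orderOf y / q))⁻¹ := by
      rw [← conj_pow, hty, inv_pow]
    obtain ⟨z, hz'⟩ := hπ (y ^ (orderOf y / q))
    obtain ⟨t, rfl⟩ := hπ t
    rw [← hz'] at hz htz
    have hzq : z ^ q ∈ pCore 2 G := by
      rw [← QuotientGroup.eq_one_iff, QuotientGroup.mk_pow]
      exact hz ▸ pow_orderOf_eq_one _
    obtain ⟨k, hk⟩ := H44.pCore_isPGroup ⟨_, hzq⟩
    have hk' : (z ^ 2 ^ k) ^ q = 1 := by
      rw [← pow_mul, mul_comm, pow_mul]; exact congrArg Subtype.val hk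
    set w := z ^ 2 ^ k with hw
    have hw1 : π w ≠ 1 := by
      intro e
      rw [hw, map_pow, ← orderOf_dvd_iff_pow_eq_one] at e
      rw [show orderOf (π z) = q from hz] at e
      exact hq.ne_one (Nat.Coprime.eq_one_of_dvd (Nat.Coprime.pow_right k (Nat.coprime_two_right.2 hqo)) e)
    have hw1' : w ≠ 1 := fun e => hw1 (by rw [e, map_one])
    have hwo : orderOf w = q := orderOf_eq_prime hk' hw1'
    have htw : π t * π w * (π t)⁻¹ = (π w)⁻¹ := by
      rw [hw, map_pow, ← conj_pow, ← inv_pow]; exact congrArg (· ^ 2 ^ k) htz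
    let L := (zpowers (π w)).comap π
    have hpw : ∀ g : G, IsPGroup q (zpowers (g * w * g⁻¹)) := fun g =>
      IsPGroup.of_card (n := 1) (by
        rw [Nat.card_zpowers, pow_one, ← hwo]; exact MulEquiv.orderOf_eq (MulAut.conj g) w)
    obtain ⟨S, hS, hwS⟩ := H4.IsSylowIn.exists_le (K := L) (hpw 1)
      (zpowers_le.2 (by simp [L]))
    obtain ⟨l, hl, hl2⟩ := hS.exists_conj (hpw t) (zpowers_le.2 (by
      change π _ ∈ zpowers (π w)
      rw [map_mul, map_mul, map_inv, htw]; exact inv_mem (mem_zpowers _)))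
    have h3 := hl2 _ (mem_zpowers _)
    have h4 : w ∈ S := hwS (by simp)
    have h5 : l * (t * w * t⁻¹) * l⁻¹ * w ∈ S ⊓ pCore 2 G := by
      refine ⟨mul_mem h3 h4, (QuotientGroup.eq_one_iff _).1 ?_⟩
      change π _ = 1
      obtain ⟨j, hj⟩ : π l ∈ zpowers (π w) := hl
      simp only [map_mul, map_inv, htw, ← hj]
      group
    obtain ⟨m, hm⟩ := IsPGroup.iff_card.1 (H44.pCore_isPGroup (p := 2) (G := G))
    rw [H3.inf_eq_bot_of_isPGroup_of_coprime hS.isPGroup (by
      rw [hm]; exact Nat.Coprime.pow_left _ (Nat.coprime_two_left.2 hqo)), mem_bot,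
      mul_eq_one_iff_eq_inv] at h5
    exact h w hw1' (hwo ▸ hqo) (isConj_iff.2 ⟨l * t, by rw [← h5]; group⟩)
  · intro hP x hx1 hxo hx
    obtain ⟨t, ⟨j, hj⟩, ht⟩ := S3863.exists_two_elt x hx
    have htP : t ∈ (P : Subgroup G) := by
      have : IsPGroup 2 (zpowers t) := IsPGroup.of_card (by rw [Nat.card_zpowers, hj])
      obtain ⟨Q, hQ⟩ := this.exists_le_sylow
      have := P.unique_of_normal hP
      rw [Subsingleton.elim Q P] at hQ
      exact hQ (mem_zpowers t)
    have h3 : x ^ 2 ∈ (P : Subgroup G) := by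
      have h4 := mul_mem (hP.conj_mem _ htP x) (inv_mem htP)
      have : x * t * x⁻¹ * t⁻¹ = x * (t * x * t⁻¹)⁻¹ := by group
      rwa [this, ht, inv_inv, ← sq] at h4
    obtain ⟨k, hk⟩ := P.isPGroup' ⟨_, h3⟩
    have hk' : x ^ 2 ^ (k + 1) = 1 := by
      rw [pow_succ', pow_mul]; exact congrArg Subtype.val hk
    apply hx1
    rw [← orderOf_eq_one_iff]
    exact Nat.Coprime.eq_one_of_dvd
      (Nat.Coprime.pow_right _ (Nat.coprime_two_right.2 hxo)) (orderOf_dvd_of_pow_eq_one hk')

end Cfsg.Agent.S3861
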