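import Cfsg.Statements.S0160
import Cfsg.Agent.H6.BrauerPerm

set_option autoImplicit false
open Cfsg

namespace Cfsg.Agent.S0160

/-- A finite group has as many real-valued irreducible complex characters as conjugacy classes closed under taking inverses. -/
theorem result {G : Type*} [Group G] [Finite G] : Nat.card {χ : Cfsg.IrrCharacter G // ∀ g : G, ((χ : G → ℂ) g).im = 0} = Nat.card {C : ConjClasses G // ∀ g : G, ConjClasses.mk g = C → IsConj g g⁻¹} := by
  have h := H6.card_fixed_irr_eq_card_fixed_classes (G := G) (fun g => g⁻¹) (fun χ hχ => by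
    simpa only [H5.isIrr_apply_inv hχ] using H5.isIrrCharacter_conj hχ)
  rw [← h]
  refine Nat.card_congr (Equiv.subtypeEquivRight fun χ => ?_)
  simp only [H5.isIrr_apply_inv χ.2, funext_iff, Complex.conj_eq_iff_im]

end Cfsg.Agent.S0160
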