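import Cfsg.Statements.S2431
import Cfsg.Agent.H66.SL2Sylow2
import Cfsg.Agent.H67.FinField

set_option autoImplicit false
open Cfsg

namespace Cfsg.Agent.S2431


/-- Let F be a finite field with q elements, q odd, and S a Sylow 2-subgroup of SL₂ over F. The centraliser of S is the centre of SL₂ (of order 2); S is its own normaliser when q ≡ ±1 mod 8, and has index 3 in its normaliser when q ≡ ±3 mod 8. -/
theorem result {F : Type*} [Field F] [Fintype F] (hodd : Odd (Fintype.card F)) (S : Sylow 2 (Matrix.SpecialLinearGroup (Fin 2) F)) :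
    Subgroup.centralizer ((S : Subgroup (Matrix.SpecialLinearGroup (Fin 2) F)) : Set (Matrix.SpecialLinearGroup (Fin 2) F)) = Subgroup.center (Matrix.SpecialLinearGroup (Fin 2) F) ∧
    ((Fintype.card F % 8 = 1 ∨ Fintype.card F % 8 = 7) →
      Subgroup.normalizer ((S : Subgroup (Matrix.SpecialLinearGroup (Fin 2) F)) : Set (Matrix.SpecialLinearGroup (Fin 2) F)) = (S : Subgroup (Matrix.SpecialLinearGroup (Fin 2) F))) ∧
    ((Fintype.card F % 8 = 3 ∨ Fintype.card F % 8 = 5) →
      Nat.card (Subgroup.normalizer ((S : Subgroup (Matrix.SpecialLinearGroup (Fin 2) F)) : Set (Matrix.SpecialLinearGroup (Fin 2) F))) = 3 * Nat.card S) := by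
  classical
  have h2 := H67.two_ne_zero_of_odd hodd
  obtain ⟨k, x, y, hk, hS, hx, hxS, hyS, hxy, hgen⟩ := H66.exists_sylow_two_gens hodd S
  have ht := H66.tr2_sq_ne_of_orderOf_two_pow h2 hk hx
  have hyy := H66.mul_self_of_tr2_eq_zero (H66.tr2_eq_zero_of_conj_eq_inv (H66.nonSc_of_tr2 ht) hxy)
  have hidx := S.not_dvd_index
  have hG := (S : Subgroup (Matrix.SpecialLinearGroup (Fin 2) F)).card_mul_index
  rw [H9.card_sl_two, hS] at hG
  have hq : 1 ≤ Fintype.card F ^ 2 := Nat.one_le_pow _ _ Fintype.card_pos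
  refine ⟨le_antisymm (fun h hh => ?_) (Subgroup.center_le_centralizer _), fun hq8 => ?_,
    fun hq8 => ?_⟩
  · rw [H66.sl2_mem_center_iff]
    exact H66.eq_of_commute_of_commute h2 ht hxy (hh x hxS).symm (hh y hyS).symm
  · have hk2 : 2 ≤ k := by
      by_contra hlt
      obtain rfl : k = 1 := by omega
      have h16 : 16 ∣ Fintype.card F ^ 2 - 1 := by
        apply (Nat.modEq_iff_dvd' hq).1
        have : Fintype.card F % 16 = 1 ∨ Fintype.card F % 16 = 7 ∨ Fintype.card F % 16 = 9 ∨
          Fintype.card F % 16 = 15 := by omega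
        rcases this with h | h | h | h <;> simp [Nat.ModEq, Nat.pow_mod, h]
      have := h16.mul_left (Fintype.card F)
      omega
    refine le_antisymm (fun h hh => ?_) Subgroup.le_normalizer
    have key : ∀ t ∈ Subgroup.normalizer ((S : Subgroup (Matrix.SpecialLinearGroup (Fin 2) F)) : Set (Matrix.SpecialLinearGroup (Fin 2) F)),
        t * x * t⁻¹ = x → t ∈ (S : Subgroup (Matrix.SpecialLinearGroup (Fin 2) F)) := by
      intro t ht1 ht2
      apply H66.mem_sylow_of_pow_mem S ht1
      have e := H66.conj_eq_inv_of_mem_centralizer (H66.nonSc_of_tr2 ht) hxy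
        (Subgroup.inv_mem _ (Subgroup.mem_centralizer_singleton_iff.2 (mul_inv_eq_iff_eq_mul.1 ht2)))
      have : t ^ 2 = t * y * t⁻¹ * y⁻¹ := by
        rw [mul_assoc, mul_assoc, ← mul_assoc y, e, inv_inv, sq]
      rw [this]
      exact Subgroup.mul_mem _ ((Subgroup.mem_normalizer_iff.1 ht1 y).1 hyS) (Subgroup.inv_mem _ hyS)
    obtain ⟨i, hi | hi⟩ := hgen _ ((Subgroup.mem_normalizer_iff.1 hh x).1 hxS)
    · rcases H66.eq_or_eq_inv_of_commute (h := h * x * h⁻¹) ht (by rw [hi, pow_mul_comm'])
        (H66.tr2_conj _ _) with e | e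
      · exact key h hh e
      · have := key (y⁻¹ * h) (Subgroup.mul_mem _ (Subgroup.le_normalizer (Subgroup.inv_mem _ hyS)) hh)
          (by rw [mul_inv_rev, inv_inv, mul_assoc, mul_assoc, ← mul_assoc x, ← mul_assoc h,
            ← mul_assoc h, e, ← hxy]; group)
        simpa using Subgroup.mul_mem _ hyS this
    · exfalso
      have e : (h * x * h⁻¹) * x * (h * x * h⁻¹)⁻¹ = x⁻¹ := by
        rw [hi, ← hxy]; group
      have e2 := H66.mul_self_of_tr2_eq_zero (H66.tr2_eq_zero_of_conj_eq_inv (H66.nonSc_of_tr2 ht) e)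
      have e3 : (h * x * h⁻¹) ^ 4 = 1 := by
        rw [show 4 = 2 * 2 from rfl, pow_mul, sq (h * x * h⁻¹), e2]; simp
      rw [conj_pow, conj_eq_one_iff] at e3
      have := Nat.le_of_dvd (by norm_num) (orderOf_dvd_of_pow_eq_one e3)
      have : 2 ^ 3 ≤ 2 ^ (k + 1) := Nat.pow_le_pow_right two_pos (by omega)
      omega
  · obtain rfl : k = 1 := by
      by_contra hne
      have h16 : 16 ∣ Fintype.card F * (Fintype.card F ^ 2 - 1) := by
        rw [← hG]
        exact (pow_dvd_pow 2 (show 4 ≤ k + 2 by omega)).mul_right _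
      have h16' : 16 ∣ Fintype.card F ^ 2 - 1 :=
        (Nat.Coprime.pow_left 4 (Nat.coprime_two_left.2 hodd)).dvd_of_dvd_mul_left h16
      have := (Nat.modEq_iff_dvd' hq).2 h16'
      have h : Fintype.card F % 16 = 3 ∨ Fintype.card F % 16 = 5 ∨ Fintype.card F % 16 = 11 ∨
          Fintype.card F % 16 = 13 := by omega
      rcases h with h | h | h | h <;> simp [Nat.ModEq, Nat.pow_mod, h] at this
    have hne : (1 : Matrix.SpecialLinearGroup (Fin 2) F) ≠ -1 := by
      intro e
      have := congrArg (fun k : Matrix.SpecialLinearGroup (Fin 2) F => k.1 0 0) e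
      simp only [H66.sl2_neg_apply, H66.sl2_one00] at this
      exact h2 (by linear_combination this)
    have hxx : x * x = -1 := by
      refine ((H66.mul_self_eq_one_iff (x * x) h2).1 ?_).resolve_left fun e => ?_
      · have := pow_orderOf_eq_one x
        rw [hx] at this
        rw [← this, show 2 ^ (1 + 1) = 2 + 2 from rfl, pow_add, sq]
      · have := Nat.le_of_dvd two_pos (orderOf_dvd_of_pow_eq_one (x := x) (n := 2) (by rw [sq, e]))
        omega
    have hyx : y * x = -(x * y) := by
      rw [mul_inv_eq_iff_eq_mul.1 hxy, inv_eq_of_mul_eq_one_right (show x * -x = 1 by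
        rw [mul_neg, hxx, neg_neg]), neg_mul]
    obtain ⟨w, hw1, hw2, hw3⟩ := H66.exists_omega h2 hxx hyy hyx
    have hwN : w ∈ Subgroup.normalizer ((S : Subgroup (Matrix.SpecialLinearGroup (Fin 2) F)) : Set (Matrix.SpecialLinearGroup (Fin 2) F)) := by
      refine Subgroup.mem_normalizer_fintype fun s hs => ?_
      have a1 : w * x * w⁻¹ ∈ (S : Subgroup (Matrix.SpecialLinearGroup (Fin 2) F)) := by
        rw [hw1, mul_inv_cancel_right]; exact hyS
      have a2 : w * y * w⁻¹ ∈ (S : Subgroup (Matrix.SpecialLinearGroup (Fin 2) F)) := by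
        rw [hw2, mul_inv_cancel_right]; exact Subgroup.mul_mem _ hxS hyS
      obtain ⟨i, rfl | rfl⟩ := hgen s hs
      · rw [← conj_pow]; exact Subgroup.pow_mem _ a1 _
      · rw [← conj_mul, ← conj_pow]; exact Subgroup.mul_mem _ a2 (Subgroup.pow_mem _ a1 _)
    have hxney : x ≠ y := by
      rintro rfl
      rw [hxx, neg_neg] at hyx
      exact hne hyx.symm
    have h3 : 3 ∣ Nat.card (Subgroup.normalizer ((S : Subgroup (Matrix.SpecialLinearGroup (Fin 2) F)) : Set (Matrix.SpecialLinearGroup (Fin 2) F))) := by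
      have : Fact (Nat.Prime 3) := ⟨Nat.prime_three⟩
      have ho : orderOf (w * w) = 3 := by
        apply orderOf_eq_prime
        · rw [← sq, ← pow_mul, mul_comm, pow_mul, hw3]; simp
        · intro e
          rcases (H66.mul_self_eq_one_iff w h2).1 e with rfl | rfl
          · exact hxney (by simpa using hw1)
          · exact hxney (by simpa using hw1)
      rw [← ho]
      exact Subgroup.orderOf_dvd_natCard _ (Subgroup.mul_mem _ hwN hwN)
    have hN := ((S : Subgroup (Matrix.SpecialLinearGroup (Fin 2) F)).subgroupOf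
      (Subgroup.normalizer ((S : Subgroup (Matrix.SpecialLinearGroup (Fin 2) F)) : Set (Matrix.SpecialLinearGroup (Fin 2) F)))).card_mul_index
    rw [Nat.card_congr (Subgroup.subgroupOfEquivOfLe Subgroup.le_normalizer).toEquiv, hS] at hN
    have hodd2 : ¬ 2 ∣ ((S : Subgroup (Matrix.SpecialLinearGroup (Fin 2) F)).subgroupOf
      (Subgroup.normalizer ((S : Subgroup (Matrix.SpecialLinearGroup (Fin 2) F)) : Set (Matrix.SpecialLinearGroup (Fin 2) F)))).index := fun e =>
      hidx (e.trans (Subgroup.relIndex_dvd_index_of_le Subgroup.le_normalizer))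
    have hle : Nat.card (Subgroup.normalizer ((S : Subgroup (Matrix.SpecialLinearGroup (Fin 2) F)) : Set (Matrix.SpecialLinearGroup (Fin 2) F))) ≤ 60 := by
      have := Fintype.ofFinite (Matrix.SpecialLinearGroup (Fin 2) F)
      rw [← H66.card_filter_mem_subgroup]
      set A := ((Finset.univ.filter fun s => s ∈ (S : Subgroup (Matrix.SpecialLinearGroup (Fin 2) F))).erase 1).erase (-1) with hA
      have hAc : A.card = 6 := by
        rw [hA, Finset.card_erase_of_mem, Finset.card_erase_of_mem, H66.card_filter_mem_subgroup, hS]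
        · rfl
        · simp [Subgroup.one_mem]
        · simp only [Finset.mem_erase, Finset.mem_filter, Finset.mem_univ, true_and]
          exact ⟨hne.symm, hxx ▸ Subgroup.mul_mem _ hxS hxS⟩
      have hmem : ∀ h ∈ Subgroup.normalizer ((S : Subgroup (Matrix.SpecialLinearGroup (Fin 2) F)) : Set (Matrix.SpecialLinearGroup (Fin 2) F)),
          ∀ z ∈ (S : Subgroup (Matrix.SpecialLinearGroup (Fin 2) F)), z * z = -1 → h * z * h⁻¹ ∈ A := by
        intro h hh z hz hzz
        have e : (h * z * h⁻¹) * (h * z * h⁻¹) = -1 := by rw [conj_mul, hzz]; simp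
        simp only [hA, Finset.mem_erase, Finset.mem_filter, Finset.mem_univ, true_and]
        refine ⟨fun e' => hne ?_, fun e' => hne ?_, (Subgroup.mem_normalizer_iff.1 hh z).1 hz⟩
        · rw [← e, e']; simp
        · rw [← e, e']; simp
      have := Finset.card_le_mul_card_image_of_maps_to (f := fun h => (h * x * h⁻¹, h * y * h⁻¹))
        (s := Finset.univ.filter fun s => s ∈ Subgroup.normalizer ((S : Subgroup (Matrix.SpecialLinearGroup (Fin 2) F)) : Set (Matrix.SpecialLinearGroup (Fin 2) F)))
        (t := A.offDiag) (fun h hh => ?_) 2 (fun b _ => ?_)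
      · rw [Finset.offDiag_card, hAc] at this
        exact this
      · rw [Finset.mem_filter] at hh
        rw [Finset.mem_offDiag]
        refine ⟨hmem h hh.2 x hxS hxx, hmem h hh.2 y hyS hyy, fun e => hxney ?_⟩
        simpa using e
      · by_cases he : ∃ h0 : Matrix.SpecialLinearGroup (Fin 2) F, (h0 * x * h0⁻¹, h0 * y * h0⁻¹) = b
        · obtain ⟨h0, rfl⟩ := he
          refine (Finset.card_le_card (t := {h0, -h0}) fun h hh => ?_).trans Finset.card_le_two
          simp only [Finset.mem_filter, Prod.mk.injEq] at hh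
          rcases H66.eq_of_commute_of_commute h2 (h := h0⁻¹ * h) ht hxy
            (by rw [mul_assoc, mul_inv_eq_iff_eq_mul.1 hh.2.1]; group)
            (by rw [mul_assoc, mul_inv_eq_iff_eq_mul.1 hh.2.2]; group) with e | e
          · simp [(inv_mul_eq_one.1 e).symm]
          · rw [inv_mul_eq_iff_eq_mul] at e
            simp [e]
        · rw [Finset.card_eq_zero.2]
          · omega
          · rw [Finset.filter_eq_empty_iff]
            exact fun h _ e => he ⟨h, e⟩
    rw [hS]
    omega

end Cfsg.Agent.S2431
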