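import Cfsg.Statements.S3278
import Cfsg.Agent.H52.KleinCount
import Cfsg.Agent.H69.Base
import Cfsg.Agent.H42.QD
import Cfsg.Agent.H8.InvCount
import Cfsg.Agent.H8.BrauerFowler
import Cfsg.Agent.H35.Simple
import Cfsg.Agent.S0111
import Cfsg.Agent.S0991
import Cfsg.Agent.S3224
-- import your own Cfsg.Agent.* helpers here

set_option autoImplicit false
open Cfsg

namespace Cfsg.Agent.S3278

/-- Let G be a finite simple group with an involution x such that a Sylow 2-subgroup of C_G(x) is a Klein four-group which is normal in C_G(x). Then G is isomorphic to the alternating group of degree 5 (that is, to PSL(2, 5)). -/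
theorem result {G : Type*} [Group G] [Finite G] [IsSimpleGroup G] (x : G) (hx : orderOf x = 2)
    (S₀ : Subgroup G) (hle : S₀ ≤ Subgroup.centralizer ({x} : Set G)) (hK : IsKleinFour ↥S₀)
    (hodd : ¬ 2 ∣ S₀.relIndex (Subgroup.centralizer ({x} : Set G))) (hn : (S₀.subgroupOf (Subgroup.centralizer ({x} : Set G))).Normal) :
    Nonempty (G ≃* ↥(alternatingGroup (Fin 5))) := by
  classical
  have := Fintype.ofFinite G
  have hc4 : Nat.card S₀ = 4 := hK.card_four
  have h4G : 4 ∣ Nat.card G := hc4 ▸ S₀.card_subgroup_dvd_card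
  have hG2 : Nat.card G ≠ 2 := fun e => by rw [e] at h4G; omega
  have hG : ¬ IsMulCommutative G := fun hc => hG2 (H8.card_eq_two_of_central_involution hx
    (Subgroup.mem_center_iff.2 fun g => hc.is_comm.comm g x))
  have hp0 : IsPGroup 2 S₀ := IsPGroup.of_card (n := 2) hc4
  have hs0 : H69.SylOf 2 S₀ (Subgroup.centralizer ({x} : Set G)) :=
    H69.sylOf_of_not_dvd_relIndex hle hp0 hodd
  have hnorm : Subgroup.centralizer ({x} : Set G) ≤ Subgroup.normalizer (S₀ : Set G) :=
    (Subgroup.normal_subgroupOf_iff_le_normalizer hle).1 hn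
  have h2el : ∀ Q : Subgroup G, IsPGroup 2 Q → Q ≤ Subgroup.centralizer ({x} : Set G) → Q ≤ S₀ :=
    fun Q hQ h1 => hs0.ge_of_le_normalizer' hQ h1 (h1.trans hnorm)
  have hxp : ∀ {y : G}, orderOf y = 2 → IsPGroup 2 (Subgroup.zpowers y) := fun hy =>
    IsPGroup.of_card (n := 1) (by rw [Nat.card_zpowers, hy, pow_one])
  have hxS : x ∈ S₀ := h2el _ (hxp hx)
    (Subgroup.zpowers_le_of_mem (Subgroup.mem_centralizer_singleton_iff.2 rfl))
    (Subgroup.mem_zpowers x)
  obtain ⟨S, hS⟩ := hp0.exists_le_sylow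
  have key : ∀ a ∈ (S : Subgroup G), (Subgroup.zpowers a).relIndex S = 2 →
      Nat.card (S : Subgroup G) ≤ 4 := by
    intro a ha hi
    have h1 : ∃ g : G, g * x * g⁻¹ ∈ Subgroup.zpowers a := by
      by_cases hxa : x ∈ Subgroup.zpowers a
      · exact ⟨1, by simpa using hxa⟩
      rcases Cfsg.Agent.S0111.result S _ (Subgroup.zpowers_le_of_mem ha) hi x hx (hS hxS) hxa with
        ⟨M, -, hM, -⟩ | h1
      · exact absurd (H8.card_eq_two_of_index_two hM) hG2
      · exact h1
    obtain ⟨g, hg⟩ := h1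
    have h2 : H69.cj g⁻¹ (Subgroup.zpowers a) ≤ S₀ := by
      refine h2el _ (H69.isPGroup_cj _ (S.isPGroup'.to_le (Subgroup.zpowers_le_of_mem ha)))
        fun y hy => Subgroup.mem_centralizer_singleton_iff.2 ?_
      rw [H69.mem_cj, inv_inv] at hy
      have := H42.comm_of_mem_zpowers hy hg
      calc y * x = g⁻¹ * (g * y * g⁻¹ * (g * x * g⁻¹)) * g := by group
        _ = x * y := by rw [this]; group
    have h3 := H8.klein_mul_self hK (h2 (H69.conj_mem_cj.2 (Subgroup.mem_zpowers a)))
    have h4 : a ^ 2 = 1 := by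
      calc a ^ 2 = g * (g⁻¹ * a * g⁻¹⁻¹ * (g⁻¹ * a * g⁻¹⁻¹)) * g⁻¹ := by rw [pow_two]; group
        _ = 1 := by rw [h3]; group
    have h5 : orderOf a ≤ 2 := Nat.le_of_dvd two_pos (orderOf_dvd_of_pow_eq_one h4)
    have h6 := ((Subgroup.zpowers a).subgroupOf S).card_mul_index
    rw [H69.card_subgroupOf_of_le (Subgroup.zpowers_le_of_mem ha), Nat.card_zpowers] at h6
    change orderOf a * (Subgroup.zpowers a).relIndex S = _ at h6
    rw [hi] at h6
    omega
  have hS4 : Nat.card (S : Subgroup G) ≤ 4 := by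
    have hcx : Subgroup.centralizer ({(⟨x, hS hxS⟩ : (S : Subgroup G))} : Set (S : Subgroup G)) =
        S₀.subgroupOf S := by
      ext g
      rw [Subgroup.mem_centralizer_singleton_iff, Subgroup.mem_subgroupOf, Subtype.ext_iff]
      exact ⟨fun e => h2el ((S : Subgroup G) ⊓ Subgroup.centralizer {x}) S.isPGroup'.to_inf_left
        inf_le_right ⟨g.2, Subgroup.mem_centralizer_singleton_iff.2 e⟩,
        fun e => H8.klein_comm hK e hxS⟩
    rcases Cfsg.Agent.S3224.result S.isPGroup' ⟨x, hS hxS⟩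
      (by rw [← Subgroup.orderOf_coe]; exact hx)
      (by rw [hcx, H69.card_subgroupOf_of_le hS, hc4]) with ⟨n, ⟨e⟩⟩ | hq | e
    · obtain ⟨a, ha, b, -, -, hb, hab, hb', e'⟩ := H42.exists_gens_of_dihedral e
      refine key a ha ?_
      rw [e']
      exact H42.relIndex_sup_zpowers (H42.mem_normalizer_zpowers_of_inverts hab)
        (by rw [hb]; exact one_mem _) hb'
    · obtain ⟨k, a, b, hq⟩ := H42.QD.of_isQuasiDihedral hq
      exact key a hq.hx hq.relIndex
    · exact e.le
  have hSS : S₀ = S := Subgroup.eq_of_le_of_card_ge hS (by rw [hc4]; exact hS4)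
  have hP : IsKleinFour (S : Subgroup G) := hSS ▸ hK
  have hcomm : IsMulCommutative (S : Subgroup G) :=
    ⟨⟨fun a b => Subtype.ext (H8.klein_comm hP a.2 b.2)⟩⟩
  have hNt : Subgroup.normalizer ((S : Subgroup G) : Set G) ≠ ⊤ := by
    intro e
    rcases (Subgroup.normalizer_eq_top_iff.1 e).eq_bot_or_eq_top with e' | e'
    · rw [e'] at hSS
      rw [hSS, Subgroup.card_bot] at hc4
      omega
    · exact hG ⟨⟨fun a b => H8.klein_comm hP (e' ▸ Subgroup.mem_top a) (e' ▸ Subgroup.mem_top b)⟩⟩
  have hone : ∀ s t : G, orderOf s = 2 → orderOf t = 2 → IsConj s t := by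
    refine (H8.klein_sylow_fusion S hP).resolve_left fun h1 => ?_
    refine H35.not_normalizer_le_centralizer S ((by norm_num : 2 ∣ 4).trans h4G) (fun e => ?_)
      fun n hn => Subgroup.mem_centralizer_iff.2 fun a ha => ?_
    · exact hNt (top_le_iff.1 ((Subgroup.eq_top_of_card_eq _ e).ge.trans Subgroup.le_normalizer))
    · have := h1 a ha _ (H69.conj_mem_of_mem_normalizer hn ha) (isConj_iff.2 ⟨n, rfl⟩)
      conv_lhs => rw [this]
      group
  have hx1 := H8.ne_one_of_orderOf_two hx
  obtain ⟨u, hu, hu1, hux⟩ : ∃ u ∈ S₀, u ≠ 1 ∧ u ≠ x := by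
    by_contra hc
    push Not at hc
    refine H42.klein_not_le_zpowers hK x fun y hy => ?_
    by_cases hy1 : y = 1
    · rw [hy1]; exact one_mem _
    · rw [hc y hy hy1]; exact Subgroup.mem_zpowers x
  have hu2 : orderOf u = 2 := H8.orderOf_two_of (H8.klein_mul_self hK hu) hu1
  have hxu2 : orderOf (x * u) = 2 := H8.orderOf_two_of (H8.klein_mul_self hK (mul_mem hxS hu))
    fun e => hux (by rw [← H8.inv_eq_of_orderOf_two hx]; exact (inv_eq_of_mul_eq_one_right e).symm)
  have hsub : (Finset.univ.filter fun g : G => 2 ∣ orderOf (x * (g * x * g⁻¹))) ⊆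
      (Finset.univ.filter fun g : G => g * x * g⁻¹ = u) ∪
        (Finset.univ.filter fun g : G => g * x * g⁻¹ = x * u) := by
    intro g hg
    simp only [Finset.mem_filter, Finset.mem_univ, true_and, Finset.mem_union] at hg ⊢
    set v := g * x * g⁻¹ with hv
    have hv2 : orderOf v = 2 := by rw [hv, H8.orderOf_conj', hx]
    obtain ⟨h1, h2, h3⟩ := H8.central_involution (H8.mul_self_of_orderOf_two hx)
      (H8.mul_self_of_orderOf_two hv2) (even_iff_two_dvd.2 hg)
    set w := (x * v) ^ (orderOf (x * v) / 2)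
    obtain ⟨c, hc⟩ := isConj_iff.1 (hone w x h1 hx)
    have h4 : ∀ y : G, orderOf y = 2 → Commute w y → c * y * c⁻¹ ∈ S₀ := by
      intro y hy hwy
      refine h2el _ (hxp (by rw [H8.orderOf_conj', hy])) (Subgroup.zpowers_le_of_mem
        (Subgroup.mem_centralizer_singleton_iff.2 ?_)) (Subgroup.mem_zpowers _)
      rw [← hc]
      calc c * y * c⁻¹ * (c * w * c⁻¹) = c * (y * w) * c⁻¹ := by group
        _ = _ := by rw [← hwy.eq]; group
    have h5 := H8.klein_comm hK (h4 v hv2 h3) (h4 x hx h2)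
    have h6 : v ∈ S₀ := by
      refine h2el _ (hxp hv2) (Subgroup.zpowers_le_of_mem
        (Subgroup.mem_centralizer_singleton_iff.2 ?_)) (Subgroup.mem_zpowers _)
      calc v * x = c⁻¹ * (c * v * c⁻¹ * (c * x * c⁻¹)) * c := by group
        _ = x * v := by rw [h5]; group
    by_cases hvu : v = u
    · exact Or.inl hvu
    · refine Or.inr (H8.klein_eq_mul hK hxS hu h6 hx1 hu1 hux.symm
        (H8.ne_one_of_orderOf_two hv2) (fun e => ?_) hvu)
      rw [e, H8.mul_self_of_orderOf_two hx, orderOf_one] at hg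
      omega
  have hcc : ∀ y : G, orderOf y = 2 → (Finset.univ.filter fun g : G => g * x * g⁻¹ = y).card =
      Nat.card (Subgroup.centralizer ({x} : Set G)) := fun y hy => by
    rw [← H8.card_conjugating (hone x y hx hy), Nat.card_eq_fintype_card, Fintype.card_subtype]
  have h15 : (Subgroup.centralizer ({x} : Set G)).index ≤ 15 := by
    have h1 := H52.klein_count hG S hP hone hx
    have h2 := (Finset.card_le_card hsub).trans (Finset.card_union_le _ _)
    rw [hcc u hu2, hcc _ hxu2] at h2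
    have h3 := (Subgroup.centralizer ({x} : Set G)).card_mul_index
    have h4 : 0 < Nat.card (Subgroup.centralizer ({x} : Set G)) := Nat.card_pos
    have h5 : 2 * Nat.card G ≤ 15 * (Nat.card (Subgroup.centralizer ({x} : Set G)) +
        Nat.card (Subgroup.centralizer ({x} : Set G))) := by
      refine h1.trans (Nat.mul_le_mul_left _ ?_)
      convert h2
    rw [← h3] at h5
    nlinarith
  rw [hSS] at hnorm hle hxS hu hc4
  set N := Subgroup.normalizer ((S : Subgroup G) : Set G) with hN
  have hi := Subgroup.relIndex_mul_index hnorm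
  have hoddi : ¬ 2 ∣ (Subgroup.centralizer ({x} : Set G)).index :=
    fun hd => S.not_dvd_index (hd.trans (Subgroup.index_dvd_of_le hle))
  have hr1 : (Subgroup.centralizer ({x} : Set G)).relIndex N ≠ 1 := by
    intro e
    obtain ⟨c, hc⟩ := isConj_iff.1 (hone x u hx hu2)
    obtain ⟨n, hn, e'⟩ := S.conj_eq_normalizer_conj_of_mem x c⁻¹ hxS (by rw [inv_inv, hc]; exact hu)
    have := Subgroup.mem_centralizer_singleton_iff.1 (Subgroup.relIndex_eq_one.1 e hn)
    rw [inv_inv, hc, mul_assoc, ← this] at e'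
    exact hux (by rw [e']; group)
  have hN1 : N.index ≠ 1 := fun e => hNt (Subgroup.index_eq_one.1 e)
  obtain ⟨f, hf⟩ := Cfsg.Agent.S0991.result hG N hNt
  have hcard := (Subgroup.centralizer ({x} : Set G)).card_mul_index
  have h4C : 4 ≤ Nat.card (Subgroup.centralizer ({x} : Set G)) :=
    hc4 ▸ Subgroup.card_le_of_le hle
  have hle' := Nat.card_le_card_of_injective f hf
  generalize (Subgroup.centralizer ({x} : Set G)).relIndex N = r at hi hr1
  rw [← hi] at hoddi h15 hcard
  have hr2 : ¬ 2 ∣ r := fun h => hoddi (h.mul_right _)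
  have hk2 : ¬ 2 ∣ N.index := fun h => hoddi (h.mul_left _)
  have hr3 : 3 ≤ r := by omega
  generalize N.index = k at f hf hle' hN1 hk2 h15 hcard
  have hk5 : k ≤ 5 := by nlinarith
  have hk : k = 3 ∨ k = 5 := by omega
  rcases hk with rfl | rfl
  · rw [nat_card_alternatingGroup] at hle'
    simp only [Nat.card_eq_fintype_card, Fintype.card_fin, Nat.factorial] at hle'
    have := Nat.le_of_dvd Nat.card_pos h4G
    rw [Nat.card_eq_fintype_card] at this
    omega
  · refine ⟨MulEquiv.ofBijective f ((Nat.bijective_iff_injective_and_card f).2 ⟨hf, ?_⟩)⟩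
    refine le_antisymm hle' ?_
    have : Nat.card (alternatingGroup (Fin 5)) = 60 := by
      rw [nat_card_alternatingGroup]; simp [Nat.factorial]
    rw [this, ← hcard]
    nlinarith

end Cfsg.Agent.S3278
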