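import Cfsg.Statements.S3378
import Cfsg.Agent.H24.SL5A5
import Cfsg.Agent.H5.Burnside
import Cfsg.Agent.S0201
import Cfsg.Agent.S0494

set_option autoImplicit false
open Cfsg

namespace Cfsg.Agent.S3378

open H24 H24.SL5

theorem solvable_of_dvd {H : Type*} [Group H] [Finite H] (h : Nat.card H ∣ 120)
    (h1 : Nat.card H ≠ 60) (h2 : Nat.card H ≠ 120) : Group.IsSolvable H := by
  by_cases h30 : Nat.card H = 30
  · have : IsZGroup H := IsZGroup.of_squarefree (by rw [h30]; decide +kernel)
    infer_instance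
  have key : ∀ d ∈ Nat.divisors 120, d ≠ 60 → d ≠ 120 → d ≠ 30 →
      d ∣ 2 ^ 3 * 3 ^ 1 ∨ d ∣ 2 ^ 3 * 5 ^ 1 ∨ d ∣ 3 ^ 1 * 5 ^ 1 := by decide +kernel
  rcases key _ (Nat.mem_divisors.mpr ⟨h, by norm_num⟩) h1 h2 h30 with h | h | h
  · exact H5.isSolvable_of_card_dvd_prime_pow_mul Nat.prime_two Nat.prime_three h
  · exact H5.isSolvable_of_card_dvd_prime_pow_mul Nat.prime_two Nat.prime_five h
  · exact H5.isSolvable_of_card_dvd_prime_pow_mul Nat.prime_three Nat.prime_five h

theorem simple_of_card_60 {H : Type*} [Group H] [Finite H] (h : Nat.card H = 60)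
    (hs : ¬ Group.IsSolvable H) : IsSimpleGroup H := by
  have : Nontrivial H := Finite.one_lt_card_iff_nontrivial.mp (by omega)
  refine ⟨fun N hN => ?_⟩
  by_contra hcon
  push Not at hcon
  apply hs
  have h1 := N.card_mul_index
  rw [h] at h1
  have h2 : Nat.card N ≠ 1 := fun e => hcon.1 (Subgroup.card_eq_one.mp e)
  have h3 : N.index ≠ 1 := fun e => hcon.2 (Subgroup.index_eq_one.mp e)
  rw [Group.isSolvable_iff_subgroup_quotient N]
  constructor
  · apply solvable_of_dvd (Dvd.dvd.trans ⟨_, h1.symm⟩ (by norm_num))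
    · intro e
      rw [e] at h1
      omega
    · intro e
      rw [e] at h1
      omega
  · change Nat.card N * Nat.card (H ⧸ N) = 60 at h1
    apply solvable_of_dvd (Dvd.dvd.trans (Dvd.intro_left _ h1) (by norm_num))
    · intro e
      rw [e] at h1
      omega
    · intro e
      rw [e] at h1
      omega

theorem part1 (G : Type*) [Group G] [Finite G] (hG : Nat.card G = 120)
    (hs : ¬ Group.IsSolvable G)
    (hP : ∀ P : Sylow 2 G, Nonempty ((P : Subgroup G) ≃* QuaternionGroup 2)) :
    Nonempty (G ≃* SL5) := by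
  obtain ⟨P⟩ : Nonempty (Sylow 2 G) := inferInstance
  have hZ : Nat.card (Subgroup.center G) = 2 := by
    refine S0201.result P 0 (hP P).some fun N hN hodd => ?_
    by_contra hN0
    apply hs
    have h1 := N.card_mul_index
    rw [hG] at h1
    have h2 : Nat.card N ≠ 1 := fun e => hN0 (Subgroup.card_eq_one.mp e)
    rw [Group.isSolvable_iff_subgroup_quotient N]
    constructor
    · apply solvable_of_dvd ⟨_, h1.symm⟩
      · intro e
        rw [e] at hodd
        exact absurd hodd (by decide)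
      · intro e
        rw [e] at hodd
        exact absurd hodd (by decide)
    · change Nat.card N * Nat.card (G ⧸ N) = 120 at h1
      apply solvable_of_dvd (Dvd.intro_left _ h1)
      · intro e
        rw [e] at h1
        have : Nat.card N = 2 := by omega
        rw [this] at hodd
        exact absurd hodd (by decide)
      · intro e
        rw [e] at h1
        omega
  have hQ : Nat.card (G ⧸ Subgroup.center G) = 60 := by
    have h1 := (Subgroup.center G).card_mul_index
    rw [hG, hZ] at h1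
    change (Subgroup.center G).index = 60
    omega
  have hsimple : IsSimpleGroup (G ⧸ Subgroup.center G) := simple_of_card_60 hQ fun h =>
    hs ((Group.isSolvable_iff_subgroup_quotient (Subgroup.center G)).mpr 
      ⟨solvable_of_dvd (by rw [hZ]; norm_num) (by rw [hZ]; norm_num) (by rw [hZ]; norm_num), h⟩)
  obtain ⟨e⟩ := S0494.result hQ
  obtain ⟨z, hz1, hz⟩ := (Nat.card_eq_two_iff' (1 : Subgroup.center G)).mp hZ
  have hz1' : (z : G) ≠ 1 := fun h => hz1 (Subtype.ext h)
  have hzc : ∀ g : G, g * z = z * g := Subgroup.mem_center_iff.mp z.2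
  have hz2 : (z : G) ^ 2 = 1 := by
    have := pow_card_eq_one' (x := z)
    rw [hZ] at this
    exact congrArg Subtype.val this
  let f : G →* alternatingGroup (Fin 5) := e.toMonoidHom.comp (QuotientGroup.mk' _)
  have hfs : Function.Surjective f := e.surjective.comp (QuotientGroup.mk'_surjective _)
  have hf : ∀ g, f g = 1 → g = 1 ∨ g = z := by
    intro g hg
    have h1 : g ∈ Subgroup.center G :=
      (QuotientGroup.eq_one_iff g).mp (e.map_eq_one_iff.mp hg)
    by_cases h2 : (⟨g, h1⟩ : Subgroup.center G) = 1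
    · exact Or.inl (congrArg Subtype.val h2)
    · exact Or.inr (congrArg Subtype.val (hz _ h2))
  have hfz : f z = 1 := e.map_eq_one_iff.mpr ((QuotientGroup.eq_one_iff _).mpr z.2)
  have lift : ∀ (k : ℕ) (t : alternatingGroup (Fin 5)), t ^ (2 * k + 1) = 1 →
      ∃ x : G, f x = t ∧ x ^ (2 * k + 1) = 1 := by
    intro k t ht
    obtain ⟨x, rfl⟩ := hfs t
    rcases hf (x ^ (2 * k + 1)) (by rw [map_pow, ht]) with h | h
    · exact ⟨x, rfl, h⟩
    · refine ⟨x * z, by rw [map_mul, hfz, mul_one], ?_⟩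
      rw [(show Commute x z from hzc x).mul_pow, h, ← pow_succ', show 2 * k + 1 + 1 = 2 * (k + 1) by
        ring, pow_mul, hz2, one_pow]
  obtain ⟨x, hx, hx3⟩ := lift 1 (projA A) (by rw [← map_pow]; exact (congrArg _ A3).trans (map_one _))
  obtain ⟨y, hy, hy5⟩ := lift 2 (projA Y) (by rw [← map_pow]; exact (congrArg _ Y5).trans (map_one _))
  have hxy : (x * y) ^ 2 = z := by
    refine (hf _ ?_).resolve_left fun h => ?_
    · rw [map_pow, map_mul, hx, hy, ← map_mul, ← map_pow, AY, projA_eq_one_iff]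
      exact Or.inr rfl
    · have hne : f (x * y) ≠ 1 := by
        rw [map_mul, hx, hy, ← map_mul, Ne, projA_eq_one_iff]
        decide +kernel
      have h2 : IsPGroup 2 (Subgroup.closure ({x * y, (z : G)} : Set G)) := by
        have hc : IsMulCommutative (Subgroup.closure ({x * y, (z : G)} : Set G)) := by
          apply Subgroup.isMulCommutative_closure
          rintro a (rfl | rfl) b (rfl | rfl)
          exacts [rfl, hzc _, (hzc _).symm, rfl]
        intro g
        refine ⟨1, Subtype.ext ?_⟩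
        obtain ⟨g, hg⟩ := g
        change g ^ 2 ^ 1 = 1
        induction hg using Subgroup.closure_induction with
        | mem a ha =>
          rcases ha with rfl | rfl
          exacts [h, hz2]
        | one => simp
        | mul a b ha hb iha ihb =>
          have : Commute a b := congrArg Subtype.val (hc.is_comm.comm ⟨a, ha⟩ ⟨b, hb⟩)
          rw [this.mul_pow, iha, ihb, one_mul]
        | inv a _ ih => rw [inv_pow, ih, inv_one]
      obtain ⟨Q, hQ⟩ := h2.exists_le_sylow
      obtain ⟨q⟩ := hP Q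
      have m1 : x * y ∈ (Q : Subgroup G) := hQ (Subgroup.subset_closure (by simp))
      have m2 : (z : G) ∈ (Q : Subgroup G) := hQ (Subgroup.subset_closure (by simp))
      have key : ∀ u v : QuaternionGroup 2, u ^ 2 = 1 → v ^ 2 = 1 → u = 1 ∨ v = 1 ∨ u = v := by
        decide
      rcases key (q ⟨_, m1⟩) (q ⟨_, m2⟩) (by rw [← map_pow, q.map_eq_one_iff]; exact Subtype.ext h)
        (by rw [← map_pow, q.map_eq_one_iff]; exact Subtype.ext hz2) with h3 | h3 | h3
      · have : x * y = 1 := congrArg Subtype.val (q.map_eq_one_iff.mp h3)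
        exact hne (by rw [this, map_one])
      · exact hz1' (congrArg Subtype.val (q.map_eq_one_iff.mp h3))
      · have : x * y = z := congrArg Subtype.val (q.injective h3)
        exact hne (by rw [this, hfz])
  obtain ⟨φ, -, -, hφ⟩ := exists_hom' hx3 hy5 hz2 (hzc x) (hzc y) hxy
  have hinj := injective_of_ne φ (by rwa [hφ])
  exact ⟨(MulEquiv.ofBijective φ (hinj.bijective_of_nat_card_le (by rw [hG, card_eq]))).symm⟩

/-- Every non-solvable group of order 120 whose Sylow 2-subgroups are quaternion of order 8 is isomorphic to SL(2,5), and SL(2,5) has the presentation ⟨x, y, z | x³ = y⁵ = z² = 1, z⁻¹xz = x, z⁻¹yz = y, (xy)² = z⟩. -/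
theorem result :
    (∀ (G : Type*) [Group G] [Finite G], Nat.card G = 120 → ¬ Group.IsSolvable G →
      (∀ P : Sylow 2 G, Nonempty ((P : Subgroup G) ≃* QuaternionGroup 2)) →
      Nonempty (G ≃* Matrix.SpecialLinearGroup (Fin 2) (ZMod 5))) ∧
    Nonempty (PresentedGroup ({FreeGroup.of (0 : Fin 3) ^ 3, FreeGroup.of (1 : Fin 3) ^ 5, FreeGroup.of (2 : Fin 3) ^ 2,
        (FreeGroup.of (2 : Fin 3))⁻¹ * FreeGroup.of 0 * FreeGroup.of 2 * (FreeGroup.of (0 : Fin 3))⁻¹,
        (FreeGroup.of (2 : Fin 3))⁻¹ * FreeGroup.of 1 * FreeGroup.of 2 * (FreeGroup.of (1 : Fin 3))⁻¹,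
        (FreeGroup.of (0 : Fin 3) * FreeGroup.of 1) ^ 2 * (FreeGroup.of (2 : Fin 3))⁻¹} : Set (FreeGroup (Fin 3)))
      ≃* Matrix.SpecialLinearGroup (Fin 2) (ZMod 5)) := by
  refine ⟨part1, ?_⟩
  set rels := ({FreeGroup.of (0 : Fin 3) ^ 3, FreeGroup.of (1 : Fin 3) ^ 5, FreeGroup.of (2 : Fin 3) ^ 2,
        (FreeGroup.of (2 : Fin 3))⁻¹ * FreeGroup.of 0 * FreeGroup.of 2 * (FreeGroup.of (0 : Fin 3))⁻¹,
        (FreeGroup.of (2 : Fin 3))⁻¹ * FreeGroup.of 1 * FreeGroup.of 2 * (FreeGroup.of (1 : Fin 3))⁻¹,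
        (FreeGroup.of (0 : Fin 3) * FreeGroup.of 1) ^ 2 * (FreeGroup.of (2 : Fin 3))⁻¹} :
          Set (FreeGroup (Fin 3))) with hrels
  have hf : ∀ r ∈ rels, FreeGroup.lift ![A, Y, -1] r = 1 := by
    rintro r (rfl | rfl | rfl | rfl | rfl | rfl) <;>
      simp only [map_pow, map_mul, map_inv, FreeGroup.lift_apply_of] <;> decide +kernel
  let φ := PresentedGroup.toGroup hf
  have hsurj : Function.Surjective φ := by
    rw [← MonoidHom.range_eq_top, eq_top_iff, ← closure_AY, Subgroup.closure_le]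
    rintro s (rfl | rfl)
    · exact ⟨PresentedGroup.of 0, PresentedGroup.toGroup.of hf⟩
    · exact ⟨PresentedGroup.of 1, PresentedGroup.toGroup.of hf⟩
  have r4 : ∀ a b : PresentedGroup rels, b⁻¹ * a * b * a⁻¹ = 1 → a * b = b * a := fun a b h => by
    calc a * b = b * (b⁻¹ * a * b * a⁻¹) * a := by group
      _ = b * a := by rw [h, mul_one]
  obtain ⟨h1, h2⟩ := card_le_235 (G := PresentedGroup rels) (x := PresentedGroup.of 0)
    (y := PresentedGroup.of 1) (z := PresentedGroup.of 2)
    (PresentedGroup.one_of_mem (x := FreeGroup.of (0 : Fin 3) ^ 3) (by simp [hrels]))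
    (PresentedGroup.one_of_mem (x := FreeGroup.of (1 : Fin 3) ^ 5) (by simp [hrels]))
    (PresentedGroup.one_of_mem (x := FreeGroup.of (2 : Fin 3) ^ 2) (by simp [hrels]))
    (r4 _ _ (PresentedGroup.one_of_mem (x := (FreeGroup.of (2 : Fin 3))⁻¹ * FreeGroup.of 0 *
      FreeGroup.of 2 * (FreeGroup.of (0 : Fin 3))⁻¹) (by simp [hrels])))
    (r4 _ _ (PresentedGroup.one_of_mem (x := (FreeGroup.of (2 : Fin 3))⁻¹ * FreeGroup.of 1 *
      FreeGroup.of 2 * (FreeGroup.of (1 : Fin 3))⁻¹) (by simp [hrels])))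
    (mul_inv_eq_one.mp (PresentedGroup.one_of_mem
      (x := (FreeGroup.of (0 : Fin 3) * FreeGroup.of 1) ^ 2 * (FreeGroup.of (2 : Fin 3))⁻¹)
      (by simp [hrels])))
    (by
      rw [← PresentedGroup.closure_range_of]
      congr 1
      ext g
      simp [Fin.exists_fin_succ, eq_comm])
  exact ⟨MulEquiv.ofBijective φ (hsurj.bijective_of_nat_card_le (card_eq ▸ h2))⟩

end Cfsg.Agent.S3378
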