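import Cfsg.Statements.S2357
import Cfsg.Agent.H13.ReeCls

set_option autoImplicit false
open Cfsg

namespace Cfsg.Agent.S2357

open Cfsg.Agent.H13
set_option linter.style.haveILetI false

/-- Let R be the small Ree group over the field with q = 3^(2m+1) ≥ 27 elements and write φ for Euler's totient function. Then R has exactly q²(q²−q+1) involutions, (q²−1)(q³+1) elements of order 3, and q²(q−1)(q³+1) elements of order 6 and as many of order 9; for i > 2 dividing q−1 it has φ(i)q³(q³+1)/2 elements of order i; for i > 1 dividing (q+1)/4 it has φ(i)q³(q−1)(q²−q+1)/6 elements of order i and φ(i)q³(q−1)(q²−q+1)/2 elements of order 2i; and for i > 1 dividing q − 3^(m+1) + 1 (respectively q + 3^(m+1) + 1) it has φ(i)q³(q²−1)(q + 3^(m+1) + 1)/6 (respectively φ(i)q³(q²−1)(q − 3^(m+1) + 1)/6) elements of order i. -/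
theorem result {K : Type*} [Field K] [Fintype K] {m : ℕ} (hm : 1 ≤ m)
    (hK : Fintype.card K = 3 ^ (2 * m + 1)) :
    Nat.card {g : ↥(Cfsg.Lie.twistedG2 K (3 ^ m)) // orderOf g = 2} = (3 ^ (2 * m + 1)) ^ 2 * ((3 ^ (2 * m + 1)) ^ 2 - 3 ^ (2 * m + 1) + 1) ∧
    Nat.card {g : ↥(Cfsg.Lie.twistedG2 K (3 ^ m)) // orderOf g = 3} = ((3 ^ (2 * m + 1)) ^ 2 - 1) * ((3 ^ (2 * m + 1)) ^ 3 + 1) ∧
    Nat.card {g : ↥(Cfsg.Lie.twistedG2 K (3 ^ m)) // orderOf g = 6} = (3 ^ (2 * m + 1)) ^ 2 * (3 ^ (2 * m + 1) - 1) * ((3 ^ (2 * m + 1)) ^ 3 + 1) ∧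
    Nat.card {g : ↥(Cfsg.Lie.twistedG2 K (3 ^ m)) // orderOf g = 9} = (3 ^ (2 * m + 1)) ^ 2 * (3 ^ (2 * m + 1) - 1) * ((3 ^ (2 * m + 1)) ^ 3 + 1) ∧
    (∀ i : ℕ, 2 < i → i ∣ 3 ^ (2 * m + 1) - 1 →
      2 * Nat.card {g : ↥(Cfsg.Lie.twistedG2 K (3 ^ m)) // orderOf g = i} = Nat.totient i * (3 ^ (2 * m + 1)) ^ 3 * ((3 ^ (2 * m + 1)) ^ 3 + 1)) ∧
    (∀ i : ℕ, 1 < i → i ∣ (3 ^ (2 * m + 1) + 1) / 4 →
      6 * Nat.card {g : ↥(Cfsg.Lie.twistedG2 K (3 ^ m)) // orderOf g = i} =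
          Nat.totient i * (3 ^ (2 * m + 1)) ^ 3 * (3 ^ (2 * m + 1) - 1) * ((3 ^ (2 * m + 1)) ^ 2 - 3 ^ (2 * m + 1) + 1) ∧
        2 * Nat.card {g : ↥(Cfsg.Lie.twistedG2 K (3 ^ m)) // orderOf g = 2 * i} =
          Nat.totient i * (3 ^ (2 * m + 1)) ^ 3 * (3 ^ (2 * m + 1) - 1) * ((3 ^ (2 * m + 1)) ^ 2 - 3 ^ (2 * m + 1) + 1)) ∧
    (∀ i : ℕ, 1 < i → i ∣ 3 ^ (2 * m + 1) - 3 ^ (m + 1) + 1 →
      6 * Nat.card {g : ↥(Cfsg.Lie.twistedG2 K (3 ^ m)) // orderOf g = i} =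
        Nat.totient i * (3 ^ (2 * m + 1)) ^ 3 * ((3 ^ (2 * m + 1)) ^ 2 - 1) * (3 ^ (2 * m + 1) + 3 ^ (m + 1) + 1)) ∧
    (∀ i : ℕ, 1 < i → i ∣ 3 ^ (2 * m + 1) + 3 ^ (m + 1) + 1 →
      6 * Nat.card {g : ↥(Cfsg.Lie.twistedG2 K (3 ^ m)) // orderOf g = i} =
        Nat.totient i * (3 ^ (2 * m + 1)) ^ 3 * ((3 ^ (2 * m + 1)) ^ 2 - 1) * (3 ^ (2 * m + 1) - 3 ^ (m + 1) + 1)) := by
  obtain ⟨hc, hq⟩ := ree_par hm hK
  set M := reeModel hK
  haveI := M.finite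
  obtain ⟨Am, Ap, T1, T2, c1, c2, c3, c4⟩ := M.exists_tor hq hc (reeModel_ψ hK)
  obtain ⟨y, hy, -⟩ := H66.exists_nonsplit (F := K)
  have hD := Ree.Dm_mul_Dp hq hc
  have hG : Nat.card (Cfsg.Lie.twistedG2 K (3 ^ m)) = Nat.card K ^ 3 * (Nat.card K - 1) * (Nat.card K + 1) *
      (Nat.card K ^ 2 - Nat.card K + 1) := by
    rw [M.card_G]
    zify [Nat.le_self_pow two_ne_zero (Nat.card K)]
    ring
  have hG' : Nat.card (Cfsg.Lie.twistedG2 K (3 ^ m)) = Nat.card K ^ 3 * (Nat.card K ^ 2 - 1) *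
      ((Nat.card K - 3 ^ (m + 1) + 1) * (Nat.card K + 3 ^ (m + 1) + 1)) := by
    rw [hG, hD]
    zify [Nat.one_le_pow 2 _ (Nat.card_pos (α := K)), show 1 ≤ Nat.card K by omega]
    ring
  rw [← hc]
  refine ⟨M.cnt_two, M.cnt_three, M.cnt_six, M.cnt_nine, fun i h1 h2 => ?_, fun i h1 h2 => ?_, fun i h1 h2 => ?_,
    fun i h1 h2 => ?_⟩
  · refine (M.cnt_H hq (P := (· = i)) (by rintro n rfl; exact ⟨h1, h2⟩)).trans ?_
    rw [cnt_cyclic M.isCyclic_H (M.card_H ▸ h2)]; ring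
  · have T := M.tor_A1 hq hy
    have h2' : i ∣ Nat.card (Subgroup.zpowers (M.f y ^ 2)) := by rwa [Nat.card_zpowers, M.orderOf_fy_sq hy]
    have h3 := T.card_orderOf h1 h2'
    rw [M.card_normalizer_A1 hq hy, hG] at h3
    have h4 := cnt_two_mul (G := Cfsg.Lie.twistedG2 K (3 ^ m)) (c := 3)
      (Nat.coprime_two_right.1 (M.coprimes.2.2.2.2.1.coprime_dvd_left h2)) fun x hx => by
        obtain ⟨k, hk⟩ := T.exists_conj_mem (hx ▸ h2')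
        have := (T.conj k⁻¹).cent x ⟨_, hk, by simp [mul_assoc]⟩ (by rintro rfl; simp at hx; omega)
        rw [this]
        refine Eq.trans ?_ (M.cnt_T1_two hq hy)
        exact Nat.card_congr (((MulAut.conj k⁻¹).subgroupMap _).toEquiv.subtypeEquiv fun z => by
          rw [← ((MulAut.conj k⁻¹).subgroupMap _).orderOf_eq]; rfl).symm
    have h5 : 6 * Nat.card {g : Cfsg.Lie.twistedG2 K (3 ^ m) // orderOf g = i} = Nat.totient i * Nat.card K ^ 3 *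
        (Nat.card K - 1) * (Nat.card K ^ 2 - Nat.card K + 1) :=
      Nat.eq_of_mul_eq_mul_right (Nat.add_one_pos (Nat.card K)) (by linear_combination h3)
    exact ⟨h5, by rw [← h5]; simp only [cnt] at h4; omega⟩
  · have h3 := T1.card_orderOf h1 (c1 ▸ h2)
    rw [c3, hG'] at h3
    exact Nat.eq_of_mul_eq_mul_right (Nat.add_one_pos (Nat.card K - 3 ^ (m + 1))) (by linear_combination h3)
  · have h3 := T2.card_orderOf h1 (c2 ▸ h2)
    rw [c4, hG'] at h3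
    exact Nat.eq_of_mul_eq_mul_right (Nat.add_one_pos (Nat.card K + 3 ^ (m + 1))) (by linear_combination h3)

end Cfsg.Agent.S2357
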