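import Cfsg.Statements.S2787
import Cfsg.Agent.H69.GenPSL
import Cfsg.Agent.H21.PStab
import Cfsg.Agent.H13.ReeTwo
import Cfsg.Agent.H13.ReeInst

set_option autoImplicit false
open Cfsg

namespace Cfsg.Agent.S2787

theorem ring_braid {R : Type*} [Ring R] {α w : R} (h2 : ∀ x : R, x + x = 0 → x = 0) (ha : α * α = 0)
    (hw : w * w = 1) (h : (1 + α) * (1 + w * α * w) * (1 + α) = w) : w * α * w = α := by
  obtain ⟨β, hβ⟩ : ∃ β, β = w * α * w := ⟨_, rfl⟩
  rw [← hβ] at h ⊢
  have hw' : ∀ x, w * (w * x) = x := fun x => by rw [← mul_assoc, hw, one_mul]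
  have ha' : ∀ x, α * (α * x) = 0 := fun x => by rw [← mul_assoc, ha, zero_mul]
  have hb : β * β = 0 := by simp [hβ, mul_assoc, hw', ha']
  have hb' : ∀ x, β * (β * x) = 0 := fun x => by rw [← mul_assoc, hb, zero_mul]
  have e1 : w * β * w = α := by simp [hβ, mul_assoc, hw', hw]
  have h' : (1 + β) * (1 + α) * (1 + β) = w := by
    have : w * ((1 + α) * (1 + β) * (1 + α)) * w = (1 + β) * (1 + α) * (1 + β) := by
      simp [hβ, mul_add, add_mul, mul_assoc, hw', hw]
    rw [← this, h, hw, one_mul]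
  have f1 : w * α = α + β * α + α * (β * α) := by
    rw [← h]; simp [mul_add, add_mul, mul_assoc, ha]; abel
  have f2 : β * w = β + β * α + β * (α * β) := by
    rw [← h']; simp [mul_add, add_mul, mul_assoc, hb, hb']
  have f3 : α * w = α + α * β + α * (β * α) := by
    rw [← h]; simp [mul_add, add_mul, mul_assoc, ha, ha']
  have f4 : w * α = β * w := by simp [hβ, mul_assoc, hw]
  have f5 : w * β = α * w := by simp [hβ, mul_assoc, hw']
  have E : α + α * (β * α) = β + β * (α * β) := by
    have := f1.symm.trans (f4.trans f2)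
    rw [add_right_comm, add_right_comm β] at this
    exact add_right_cancel this
  have E1 : α * β + α * (β * (α * β)) = 0 := by rw [← mul_add, ← E, mul_add, ha, ha', add_zero]
  have g1 : α * (β * α) = 0 := by
    apply h2
    have : α = w * β * (1 + α + α * β) := by
      rw [mul_assoc, mul_add β, mul_add β, mul_one, ← f2, ← f4, hw']
    rw [f5, f3] at this
    simp only [mul_add, add_mul, mul_assoc, ha, ha', mul_one, mul_zero, add_zero, zero_add] at this
    have e : α + α * β + α * (β * α) + α * (β * α) + α * (β * (α * β)) =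
      α + (α * (β * α) + α * (β * α)) + (α * β + α * (β * (α * β))) := by abel
    rw [e, E1, add_zero] at this
    exact (add_eq_left.1 this.symm)
  have g2 : β * (α * β) = 0 := by
    have : β * (α * β) = w * (α * (β * α)) * w := by simp [hβ, mul_assoc]
    rw [this, g1, mul_zero, zero_mul]
  rw [g1, g2, add_zero, add_zero] at E
  exact E.symm

open Subgroup in
theorem pCore_eq_bot {G : Type*} [Group G] [Finite G] {p : ℕ} [Fact p.Prime] {V H : Subgroup G} (hV : Cfsg.IsElementaryAbelian p V) (hHV : H ≤ Subgroup.normalizer (V : Set G)) (hirr : ∀ U : Subgroup G, U ≤ V → H ≤ Subgroup.normalizer (U : Set G) → U = ⊥ ∨ U = V) [hn : ((Subgroup.centralizer (V : Set G)).subgroupOf H).Normal] {a : H}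
    (ha : (a : H ⧸ (centralizer (V : Set G)).subgroupOf H) ∈ pCore p (H ⧸ (centralizer (V : Set G)).subgroupOf H)) : (a : G) ∈ centralizer (V : Set G) := by
  let π := QuotientGroup.mk' ((centralizer (V : Set G)).subgroupOf H)
  let N := (pCore p (H ⧸ (centralizer (V : Set G)).subgroupOf H))
  let act : (H ⧸ (centralizer (V : Set G)).subgroupOf H) →* MulAut V :=
    QuotientGroup.lift _ (V.normalizerMonoidHom.comp (inclusion hHV)) fun x hx => by
      ext v
      change (x : G) * v * (x : G)⁻¹ = v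
      rw [mul_inv_eq_iff_eq_mul]
      exact (hx v v.2).symm
  have hact : ∀ (x : H) (v : V), (act (π x) v : G) = x * v * (x : G)⁻¹ := fun _ _ => rfl
  rcases hirr (V ⊓ centralizer ((N.comap π).map H.subtype : Set G)) inf_le_left (by
    refine H69.le_normalizer_of_cj_le fun g hg => ?_
    rw [H69.cj_inf, H69.cj_centralizer, H69.cj_eq_of_mem_normalizer (hHV hg),
      H69.cj_eq_of_mem_normalizer (g := g) (le_normalizer_map H.subtype ⟨⟨g, hg⟩, by
        rw [normalizer_eq_top]; trivial, rfl⟩)]) with h | h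
  · by_cases hV1 : V = ⊥
    · intro v hv
      rw [hV1] at hv
      rw [show v = 1 from hv, one_mul, mul_one]
    exfalso
    letI : MulAction N V := MulAction.compHom V (act.comp N.subtype)
    have hp : IsPGroup p V := H69.isPGroup_of_elemAb hV.2
    obtain ⟨k, hk⟩ := hp.exists_card_eq
    have hk0 : k ≠ 0 := by
      rintro rfl
      exact hV1 (card_eq_one.1 hk)
    obtain ⟨v, hv, hv1⟩ := (H22.isPGroup_pCore (G := H ⧸ (centralizer (V : Set G)).subgroupOf H)
      (p := p)).exists_fixed_point_of_prime_dvd_card_of_fixed_point V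
      (hk ▸ dvd_pow_self p hk0) (a := 1) (fun g => map_one (act g))
    have : (v : G) ∈ V ⊓ centralizer ((N.comap π).map H.subtype : Set G) := ⟨v.2, by
      rintro _ ⟨x, hx, rfl⟩
      have := congrArg Subtype.val (hv ⟨π x, hx⟩)
      exact mul_inv_eq_iff_eq_mul.1 ((hact x v).symm.trans this)⟩
    rw [h] at this
    exact hv1 (Subtype.ext this.symm)
  · intro v hv
    rw [← h] at hv
    exact (hv.2 a ⟨a, ha, rfl⟩).symm

/-- Let p be a prime and let H act by conjugation on the elementary abelian p-subgroup V of a finite group, irreducibly (no H-invariant subgroups of V other than 1 and V) and nontrivially, and suppose H/C_H(V) is isomorphic to PSL₂(F) for a field F with p^n elements, p^n odd, or p = 3 and H/C_H(V) is isomorphic to a Ree group ²G₂(3^(2m+1)), m ≥ 1. Then no subgroup A of H acting nontrivially on V acts quadratically: [V, A, A] = 1 forces [V, A] = 1. -/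
theorem result {G : Type*} [Group G] [Finite G] {p : ℕ} [Fact p.Prime] (V H : Subgroup G) (hV : Cfsg.IsElementaryAbelian p V) (hHV : H ≤ Subgroup.normalizer (V : Set G)) (hirr : ∀ U : Subgroup G, U ≤ V → H ≤ Subgroup.normalizer (U : Set G) → U = ⊥ ∨ U = V) (hnt : ¬ H ≤ Subgroup.centralizer (V : Set G)) [hn : ((Subgroup.centralizer (V : Set G)).subgroupOf H).Normal] (hq : (∃ (F : Type) (_ : Field F) (_ : Fintype F) (n : ℕ), Fintype.card F = p ^ n ∧ Odd (Fintype.card F) ∧ Nonempty (↥H ⧸ (Subgroup.centralizer (V : Set G)).subgroupOf H ≃* Matrix.ProjectiveSpecialLinearGroup (Fin 2) F)) ∨ (p = 3 ∧ Cfsg.Lie.IsoRee (↥H ⧸ (Subgroup.centralizer (V : Set G)).subgroupOf H))) (A : Subgroup G) (hA : A ≤ H) (hquad : ⁅⁅V, A⁆, A⁆ = ⊥) : ⁅V, A⁆ = ⊥ := by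
  rw [Subgroup.commutator_comm, Subgroup.commutator_eq_bot_iff_le_centralizer]
  intro a ha
  by_contra hc
  have hpp : p.Prime := Fact.out
  let π := QuotientGroup.mk' ((Subgroup.centralizer (V : Set G)).subgroupOf H)
  have hqa : ⁅⁅V, Subgroup.zpowers a⁆, Subgroup.zpowers a⁆ = ⊥ := eq_bot_iff.2 (hquad ▸
    Subgroup.commutator_mono (Subgroup.commutator_mono le_rfl (Subgroup.zpowers_le.2 ha))
      (Subgroup.zpowers_le.2 ha))
  rcases hq with ⟨F, _, _, n, hF, hodd, ⟨e⟩⟩ | ⟨rfl, K, _, _, m, hm, hK, ⟨e⟩⟩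
  · haveI : CharP F p := charP_of_card_eq_prime_pow hF
    have hp2 : p ≠ 2 := by
      rintro rfl
      rw [hF] at hodd
      have hn : n ≠ 0 := by
        rintro rfl
        have := Fintype.one_lt_card (α := F)
        omega
      exact (Nat.not_even_iff_odd.2 hodd) (Nat.even_pow.2 ⟨even_two, hn⟩)
    obtain ⟨k, ρ, -, hker, hq⟩ := H21.exists_matrix_rep_of_isElementaryAbelian hV hHV
    let φ := e.toMonoidHom.comp π
    have hφ : ∀ x : H, φ x = 1 ↔ ρ x = 1 := fun x => by
      rw [hker]
      simp [φ, π, Subgroup.mem_subgroupOf]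
    have hφ' : ∀ x y : H, φ x = φ y ↔ ρ x = ρ y := fun x y => by
      rw [← mul_inv_eq_one, ← map_inv, ← map_mul, hφ, map_mul]
      refine ⟨fun h => ?_, fun h => by rw [h, ← map_mul, mul_inv_cancel, map_one]⟩
      rw [← one_mul (ρ y), ← h, mul_assoc, ← map_mul, inv_mul_cancel, map_one, mul_one]
    set a' : H := ⟨a, hA ha⟩
    have hα := hq _ _ hqa a' a' (Subgroup.mem_zpowers _) (Subgroup.mem_zpowers _)
    obtain ⟨α, hαe⟩ : ∃ α, ρ a' = 1 + α := ⟨ρ a' - 1, by abel⟩
    rw [hαe, add_sub_cancel_left] at hα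
    have hpow : ∀ j : ℕ, (1 + α) ^ j = 1 + (j : ZMod p) • α := fun j => by
      induction j with
      | zero => simp
      | succ j ih => rw [pow_succ, ih]; simp [mul_add, add_mul, hα, add_smul]; abel
    have ho : orderOf (φ a') = p := orderOf_eq_prime
      (by rw [← map_pow, hφ, map_pow, hαe, hpow]; simp) fun h => hc ((hker a').1 ((hφ a').1 h))
    obtain ⟨g, ht, hg, hga⟩ := H69.exists_lift_of_orderOf p ho
    obtain ⟨u, c, hc0, rfl⟩ := H69.exists_conj_up ht hg
    obtain ⟨h, hh⟩ := (e.surjective.comp (QuotientGroup.mk'_surjective _))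
      (H66.toPSL F (u * H69.wn c hc0 * u⁻¹))
    change φ h = _ at hh
    have hw : ρ h * ρ h = 1 := by
      rw [← map_mul, ← hφ, map_mul, hh, ← map_mul, H66.toPSL_eq_one_iff]
      right
      rw [show u * H69.wn c hc0 * u⁻¹ * (u * H69.wn c hc0 * u⁻¹) =
        u * (H69.wn c hc0 * H69.wn c hc0) * u⁻¹ by group, H69.wn_sq]
      simp
    have hinv : ρ h⁻¹ = ρ h := by
      rw [← one_mul (ρ h⁻¹), ← hw, mul_assoc, ← map_mul, mul_inv_cancel, map_one, mul_one]
    have hb : ρ (h * a' * h⁻¹) = 1 + ρ h * α * ρ h := by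
      rw [map_mul, map_mul, hinv, hαe, mul_add, add_mul, mul_one, hw]
    have hbr : φ (a' * (h * a' * h⁻¹) * a') = φ h := by
      simp only [map_mul φ, map_inv φ, hh, ← hga]
      simp only [← map_mul, ← map_inv]
      congr 1
      conv_rhs => rw [← H69.wn_braid c hc0]
      group
    rw [hφ', map_mul, map_mul, hb, hαe] at hbr
    have := ring_braid (fun x hx => by
      have h2 : (2 : ZMod p) ≠ 0 := fun h => hp2
        ((Nat.prime_dvd_prime_iff_eq hpp Nat.prime_two).1 ((ZMod.natCast_eq_zero_iff 2 p).1 h))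
      rw [← two_smul (ZMod p)] at hx
      exact (smul_eq_zero.1 hx).resolve_left h2) hα hw hbr
    rw [this, ← hαe, ← hφ'] at hb
    simp only [map_mul φ, map_inv φ, hh, ← hga] at hb
    simp only [← map_mul, ← map_inv] at hb
    have hb' : H66.toPSL F (H69.wn c hc0 * H69.up c * (H69.wn c hc0)⁻¹) = H66.toPSL F (H69.up c) := by
      apply (MulAut.conj (H66.toPSL F u)).injective
      simp only [MulAut.conj_apply, ← map_mul, ← map_inv]
      rw [← hb]; congr 1; group
    have : (H69.wn c hc0 * H69.up c * (H69.wn c hc0)⁻¹).1 1 0 = 0 := by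
      rcases (H66.toPSL_eq_iff _ _).1 hb' with h | h <;> rw [h] <;> simp [H69.up10]
    simp [H69.sl2_mul_apply, H69.sl2_inv00, H69.sl2_inv10, H69.wn10, H69.wn11, H69.up00, H69.up01,
      H69.up11, H69.up10, hc0] at this
  · haveI : Fact (Nat.Prime 2) := ⟨Nat.prime_two⟩
    refine hc (pCore_eq_bot hV hHV hirr (a := ⟨a, hA ha⟩) (H22.le_pCore inferInstance
      (H8.baer_suzuki_elem _ fun g => ?_) (Subgroup.subset_normalClosure rfl)))
    obtain ⟨g, rfl⟩ := QuotientGroup.mk'_surjective _ g
    rcases H21.isPGroup_or_hasSL2Image_conj hV H.subtype (fun x => hHV x.2) π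
      (fun x hx => (QuotientGroup.eq_one_iff _).2 hx) (a := ⟨a, hA ha⟩) hqa g with
      h | ⟨Y, a', b', -, -, hab, L, _, _, _, μ, φ, hμ, h1, h2, h3⟩
    · exact h
    exfalso
    obtain ⟨T⟩ : Nonempty (Sylow 2 Y) := inferInstance
    have hP : IsPGroup 3 φ.range := H21.isPGroup_of_sylow_two_comm φ.range.subtype (by norm_num)
      (Subgroup.subtype_injective _) (s := {φ.rangeRestrict a', φ.rangeRestrict b'})
      (by rw [← H21.range_eq_closure_pair hab, MonoidHom.range_eq_top]; exact φ.rangeRestrict_surjective)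
      (by
        rintro x (rfl | rfl)
        · exact Subtype.ext (by simpa [h1] using H21.upperT_pow_char (p := 3) μ)
        · exact Subtype.ext (by simpa [h2] using H21.lowerT_pow_char (p := 3) (1 : L)))
      (T.mapSurjective φ.rangeRestrict_surjective) ⟨⟨by
        have key : ∀ x ∈ ((T.mapSurjective φ.rangeRestrict_surjective : Sylow 2 φ.range) :
            Subgroup φ.range), x * x = 1 := by
          rintro _ ⟨t, ht, rfl⟩
          obtain ⟨j, hj⟩ := H69.isPGroup_iff_mem.1 T.isPGroup' t ht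
          have := (H13.reeModel hK).sq_eq_one_of_pow_two_pow (x := e (π t)) (k := j) (by
            rw [← map_pow, ← map_pow, ← Subgroup.coe_pow, hj]; simp)
          rw [← map_mul, ← map_mul, map_eq_one_iff _ e.injective] at this
          exact Subtype.ext ((map_mul φ t t).symm.trans (h3 (x := t * t)
            ((QuotientGroup.eq_one_iff ((t : H) * t)).1 this)))
        exact fun x y => Subtype.ext (H13.comm_of_sq key x.2 y.2)⟩⟩
    obtain ⟨n, hn⟩ := hP (φ.rangeRestrict (a' * b'))
    apply H21.upperT_mul_lowerT_pow_ne_one (p := 3) hμ n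
    simpa [h1, h2] using congrArg Subtype.val hn

end Cfsg.Agent.S2787
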