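import Cfsg.Statements.S0802
import Cfsg.Agent.H93.L2Ex

set_option autoImplicit false
open Cfsg

namespace Cfsg.Agent.S0802

open Cfsg.Agent.H28 Cfsg.Agent.H93.L2

/-- PSL_2(p^n) has a subgroup isomorphic to A_4 if and only if it is not the case that p = 2 and n is odd. -/
theorem result {F : Type*} [Field F] [Fintype F] (p n : ℕ) [Fact p.Prime] [CharP F p] (hF : Fintype.card F = p ^ n) : (∃ H : Subgroup (Matrix.ProjectiveSpecialLinearGroup (Fin 2) F), Nonempty (H ≃* alternatingGroup (Fin 4))) ↔ ¬ (p = 2 ∧ Odd n) := by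
  rw [exists_sub_iff pslInc_injective, range_pslInc]
  rw [← Nat.card_eq_fintype_card] at hF
  constructor
  · rintro ⟨ψ, hψ, -⟩ ⟨rfl, j, rfl⟩
    have h := three_dvd_of_alt4 hψ
    have h1 : (2 ^ 2) ^ j % 3 = 1 := by rw [Nat.pow_mod]; simp
    rw [hF, pow_succ, pow_mul] at h
    omega
  · intro h
    by_cases hp : p = 2
    · subst hp
      obtain ⟨j, rfl⟩ : Even n := by simpa using h
      have h1 : (2 ^ 4) ^ j % 5 = 1 := by rw [Nat.pow_mod]; simp
      obtain ⟨τ, hτ⟩ := (exists_tau_iff (F := F)).2 (Dvd.dvd.mul_left (by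
        rw [hF, ← pow_mul, show (j + j) * 2 = 4 * j by ring, pow_mul]; omega) _)
      obtain ⟨ψ, -, hψ, -⟩ := exists_alt4_le_alt5 hτ
      exact ⟨ψ, hψ, alt_le_pslIn ψ⟩
    · obtain ⟨ψ, hψ⟩ := exists_alt4 (F := F) (two_ne_zero_of ((odd_card_iff p).2 hp))
      exact ⟨ψ, hψ, alt_le_pslIn ψ⟩

end Cfsg.Agent.S0802
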