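import Cfsg.Statements.S4248
import Cfsg.Agent.H3.Part6
import Cfsg.Agent.H12.CC
import Cfsg.Agent.H12.ZassIso

set_option autoImplicit false
open Cfsg

namespace Cfsg.Agent.S4248

/-- Let G be a finite group admitting a nontrivial partition: a family of at least two nontrivial subgroups such that every non-identity element of G lies in exactly one member. Then G is isomorphic to the symmetric group of degree 4; or, for some prime p, the Hughes subgroup generated by the elements g with g^p ≠ 1 is proper (G a p-group or a group of Hughes–Thompson type); or G is a Frobenius group; or G is isomorphic to PSL(2, q) with q ≥ 4, to PGL(2, q) with q ≥ 5 odd, or to a Suzuki group. -/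
theorem result {G : Type*} [Group G] [Finite G] (S : Set (Subgroup G)) (hS2 : ∃ H ∈ S, ∃ K ∈ S, H ≠ K)
    (hS1 : ∀ H ∈ S, H ≠ ⊥) (hpart : ∀ g : G, g ≠ 1 → ∃! H : Subgroup G, H ∈ S ∧ g ∈ H) :
    Nonempty (G ≃* Equiv.Perm (Fin 4)) ∨
    (∃ p : ℕ, p.Prime ∧ Subgroup.closure {g : G | g ^ p ≠ 1} ≠ ⊤) ∨
    (∃ H : Subgroup G, Cfsg.IsFrobeniusComplement H) ∨
    (∃ (F : Type) (_ : Field F) (_ : Fintype F), 4 ≤ Fintype.card F ∧
        Nonempty (G ≃* Matrix.ProjectiveSpecialLinearGroup (Fin 2) F)) ∨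
    (∃ (F : Type) (_ : Field F) (_ : Fintype F), 5 ≤ Fintype.card F ∧ Odd (Fintype.card F) ∧
        Nonempty (G ≃* (GL (Fin 2) F ⧸ Subgroup.center (GL (Fin 2) F)))) ∨
    Cfsg.Lie.IsoSuzuki G := by
  obtain ⟨_, c, h⟩ := H3.exists_np S hS2 hS1 hpart
  rcases h.main with h | h | h | h | h | ⟨H, z, h1, h2, h3, h4, h5⟩
  · exact Or.inl h
  · exact Or.inr (Or.inl h)
  · exact Or.inr (Or.inr (Or.inl h))
  · exact Or.inr (Or.inr (Or.inr (Or.inl h)))
  · exact Or.inr (Or.inr (Or.inr (Or.inr (Or.inl h))))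
  rcases H12.zass_of_cc H h1 h2 h3 h4 with h | h | ⟨hZ, hc, -⟩
  · exact absurd h h5
  · exact Or.inr (Or.inr (Or.inl ⟨H, h⟩))
  rcases H12.zass_odd_iso hZ (hc ▸ (H8.even_card_of_involution h3 h2).add_one) with ⟨n, hn, -, e⟩ | h
  · refine Or.inr (Or.inr (Or.inr (Or.inl ⟨_, inferInstance, Fintype.ofFinite _, ?_, e⟩)))
    rw [← @Nat.card_eq_fintype_card _ (_), GaloisField.card 2 n (by omega)]
    exact Nat.pow_le_pow_right two_pos hn
  · exact Or.inr (Or.inr (Or.inr (Or.inr (Or.inr h))))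

end Cfsg.Agent.S4248
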