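import Cfsg.Statements.S4249
import Cfsg.Agent.H84.Kegel

set_option autoImplicit false
set_option linter.style.haveILetI false
open Cfsg

namespace Cfsg.Agent.S4249

open Subgroup Cfsg.Agent.H84


/-- Let G be a finite group and p a prime such that G is not a p-group, and suppose the Hughes subgroup H_p(G), generated by all elements g with g^p ≠ 1, is a proper subgroup. Then H_p(G) is nilpotent and has index p in G. -/
theorem result {G : Type*} [Group G] [Finite G] (p : ℕ) (hp : p.Prime) (hG : ¬ IsPGroup p G)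
    (hH : Subgroup.closure {g : G | g ^ p ≠ 1} ≠ ⊤) :
    Group.IsNilpotent (Subgroup.closure {g : G | g ^ p ≠ 1}) ∧ (Subgroup.closure {g : G | g ^ p ≠ 1}).index = p := by
  haveI := Fact.mk hp
  set N := Subgroup.closure {g : G | g ^ p ≠ 1} with hN
  haveI hNn : N.Normal := by
    refine ⟨fun n hn g => ?_⟩
    have : N ≤ N.comap (MulAut.conj g).toMonoidHom := by
      rw [hN, closure_le]
      intro x hx
      apply Subgroup.subset_closure
      intro h
      apply hx
      have h' : (g * x * g⁻¹) ^ p = 1 := h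
      rwa [conj_pow, conj_eq_one_iff] at h'
    exact this hn
  have hout : ∀ g, g ∉ N → g ^ p = 1 := fun g hg => by
    by_contra h
    exact hg (subset_closure h)
  refine ⟨isNilpotent_of_outside_pow hp N hH hout, ?_⟩
  have hQ := isPGroup_quotient_of_outside N hout
  haveI : Nontrivial (G ⧸ N) := QuotientGroup.nontrivial_iff.2 hH
  haveI := hQ.center_nontrivial
  obtain ⟨⟨z, hz⟩, hz1⟩ := exists_ne (1 : center (G ⧸ N))
  obtain ⟨z, rfl⟩ := QuotientGroup.mk_surjective z
  have hzN : z ∉ N := fun h => hz1 (Subtype.ext ((QuotientGroup.eq_one_iff z).2 h))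
  have hzp : orderOf (z : G ⧸ N) = p := orderOf_eq_prime
    (by rw [← QuotientGroup.mk_pow, hout z hzN, QuotientGroup.mk_one])
    (fun h => hz1 (Subtype.ext h))
  by_cases hM : zpowers (z : G ⧸ N) = ⊤
  · rw [index, ← hzp, ← Nat.card_zpowers, hM, card_top]
  exfalso
  haveI : (zpowers (z : G ⧸ N)).Normal := ⟨fun n hn g => by
    rwa [mem_center_iff.1 (zpowers_le.2 hz hn) g, mul_inv_cancel_right]⟩
  set M := (zpowers (z : G ⧸ N)).comap (QuotientGroup.mk' N) with hMdef
  have hNM : N ≤ M := fun n hn => by
    rw [hMdef, mem_comap, QuotientGroup.mk'_apply, (QuotientGroup.eq_one_iff n).2 hn]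
    exact one_mem _
  haveI := isNilpotent_of_outside_pow hp M (fun h => hM (by
    rw [← map_comap_eq_self_of_surjective (QuotientGroup.mk'_surjective N) (zpowers _), ← hMdef, h,
      map_top_of_surjective _ (QuotientGroup.mk'_surjective N)])) fun g hg => hout g fun h => hg (hNM h)
  apply hG
  have hK0 : pResidual p G = ⊥ := by
    rw [pResidual, closure_eq_bot_iff]
    intro k hk
    have hkN : k ∈ N := H3.pResidual_le_of_isPGroup_quotient N hQ (subset_closure hk)
    have hc := H3.commute_of_coprime_orderOf (⟨k, hNM hkN⟩ : M) ⟨z, mem_zpowers _⟩ (by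
      rw [← orderOf_coe, ← orderOf_coe]
      exact Nat.Coprime.coprime_dvd_right (orderOf_dvd_of_pow_eq_one (hout z hzN)) hk)
    have hc' : Commute k z := congrArg Subtype.val hc
    have h1 := hout (k * z) fun h => hzN ((mul_mem_cancel_left hkN).1 h)
    rw [hc'.mul_pow, hout z hzN, mul_one] at h1
    exact orderOf_eq_one_iff.1 (Nat.Coprime.eq_one_of_dvd hk (orderOf_dvd_of_pow_eq_one h1))
  have h3 : IsPGroup p (G ⧸ pResidual p G) := H3.isPGroup_quotient_pResidual
  exact h3.of_injective (QuotientGroup.mk' _)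
    (by rw [← MonoidHom.ker_eq_bot_iff, QuotientGroup.ker_mk', hK0])

end Cfsg.Agent.S4249
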