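import Cfsg.Statements.S3889

set_option autoImplicit false
open Cfsg

namespace Cfsg.Agent.S3889

open Subgroup

/-- A finite abelian group that is the union of a family of proper subgroups any two of which intersect trivially is elementary abelian: its exponent is a prime. -/
theorem result {G : Type*} [CommGroup G] [Finite G] (𝓑 : Set (Subgroup G)) (hprop : ∀ B ∈ 𝓑, B ≠ ⊤)
    (hcov : ∀ g : G, ∃ B ∈ 𝓑, g ∈ B) (hdisj : ∀ B ∈ 𝓑, ∀ C ∈ 𝓑, B ≠ C → B ⊓ C = ⊥) :
    (Monoid.exponent G).Prime := by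
  have hpow : ∀ B ∈ 𝓑, ∀ x ∈ B, ∀ y, y ∉ B → ∀ n : ℕ, x ≠ 1 → x ^ n = 1 → y ^ n = 1 := by
    intro B hB x hx y hy n hx1 hn
    obtain ⟨C, hC, hyC⟩ := hcov y
    obtain ⟨D, hD, hxy⟩ := hcov (x * y)
    have hBC : B ≠ C := fun h => hy (h ▸ hyC)
    have hCD : C ≠ D := by
      rintro rfl
      have : x ∈ B ⊓ C := ⟨hx, (mul_mem_cancel_right hyC).1 hxy⟩
      rw [hdisj B hB C hC hBC] at this
      exact hx1 this
    have : y ^ n ∈ C ⊓ D := by
      refine ⟨pow_mem hyC n, ?_⟩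
      have := pow_mem hxy n
      rwa [mul_pow, hn, one_mul] at this
    rwa [hdisj C hC D hD hCD] at this
  have hnt : Nontrivial G := by
    obtain ⟨B, hB, -⟩ := hcov 1
    by_contra h
    rw [not_nontrivial_iff_subsingleton] at h
    exact hprop B hB (Subsingleton.elim _ _)
  obtain ⟨p, hp, hpd⟩ := Nat.exists_prime_and_dvd (Finite.one_lt_card (α := G)).ne'
  have := Fact.mk hp
  obtain ⟨x, hx⟩ := exists_prime_orderOf_dvd_card' p hpd
  have hx1 : x ≠ 1 := by
    rintro rfl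
    rw [orderOf_one] at hx
    exact hp.ne_one hx.symm
  have hxp : x ^ p = 1 := hx ▸ pow_orderOf_eq_one x
  obtain ⟨B, hB, hxB⟩ := hcov x
  obtain ⟨y, -, hy⟩ := SetLike.exists_of_lt (lt_top_iff_ne_top.2 (hprop B hB))
  have hall : ∀ g : G, g ^ p = 1 := by
    intro g
    by_cases hg : g ∈ B
    · have h1 := hpow B hB x hxB (g * y) (fun h => hy ((mul_mem_cancel_left hg).1 h)) p hx1 hxp
      rwa [mul_pow, hpow B hB x hxB y hy p hx1 hxp, mul_one] at h1
    · exact hpow B hB x hxB g hg p hx1 hxp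
  rwa [Nat.dvd_antisymm (Monoid.exponent_dvd_of_forall_pow_eq_one hall) (hx ▸ Monoid.order_dvd_exponent x)]

end Cfsg.Agent.S3889
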