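import Cfsg.Statements.S1950
import Cfsg.Agent.H35.PairSolv
import Cfsg.Agent.S4145

set_option autoImplicit false
open Cfsg

namespace Cfsg.Agent.S1950

open Subgroup

universe u

theorem aux {p : ℕ} [hp : Fact p.Prime] (n : ℕ) : ∀ (G : Type u) [Group G] [Finite G],
    Nat.card G = n → (∀ P : Sylow p G, IsCyclic P) → (∀ x y : G, orderOf x = p → orderOf y = p →
      IsPSolvable p (closure ({x, y} : Set G))) → IsPSolvable p G := by
  induction n using Nat.strong_induction_on with | _ n ih => ?_
  intro G _ _ hn hP h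
  rcases subsingleton_or_nontrivial G with _ | _
  · exact H22.isPSolvable_of_subsingleton
  by_cases hs : IsSimpleGroup G
  · exact H35.isPSolvable_of_simple hP fun x y hx hy => H35.pairRel_of hP hx hy (h x y hx hy)
  obtain ⟨N, hN, h1, h2⟩ : ∃ N : Subgroup G, N.Normal ∧ N ≠ ⊥ ∧ N ≠ ⊤ := by
    by_contra! e
    exact hs ⟨fun N hN => or_iff_not_imp_left.mpr (e N hN)⟩
  obtain ⟨P⟩ : Nonempty (Sylow p G) := inferInstance
  have h3 := N.card_mul_index
  have h4 := (one_lt_card_iff_ne_bot N).mpr h1
  have h5 := one_lt_index_of_ne_top h2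
  by_cases hd : p ∣ Nat.card N
  · by_cases hi : p ∣ N.index
    · exact (S4145.result p P (hP P) N hd hi).2
    refine H22.isPSolvable_of_normal_of_quotient N (ih _ (by nlinarith) N rfl
      (H6.isCyclic_sylow_of_isCyclic P (hP P) N.subtype Subtype.val_injective) fun x y hx hy => ?_)
      (H22.isPSolvable_of_coprime ((Nat.Prime.coprime_iff_not_dvd hp.out).mpr hi).symm)
    have := h x y ((orderOf_coe x).trans hx) ((orderOf_coe y).trans hy)
    rw [← Set.image_pair, ← coe_subtype, ← MonoidHom.map_closure] at this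
    exact H22.IsPSolvable.of_equiv this (equivMapOfInjective _ _ N.subtype_injective).symm
  refine H22.isPSolvable_of_normal_of_quotient N
    (H22.isPSolvable_of_coprime ((Nat.Prime.coprime_iff_not_dvd hp.out).mpr hd).symm)
    (ih N.index (by nlinarith) _ rfl (H6.isCyclic_sylow_quotient P (hP P) _
      (QuotientGroup.mk'_surjective N)) fun x y hx hy => ?_)
  have key : ∀ x : G ⧸ N, orderOf x = p → ∃ z : G, orderOf z = p ∧ QuotientGroup.mk' N z = x :=
    fun x hx => by
      obtain ⟨g, rfl⟩ := QuotientGroup.mk'_surjective N x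
      obtain ⟨z, hz⟩ := H33.exists_isPPart hp.out g
      have a1 := H33.IsPPart.unique hp.out (H33.IsPPart.map hp.out hz (QuotientGroup.mk' N))
        (H33.isPPart_self hp.out ⟨1, by rw [hx, pow_one]⟩)
      obtain ⟨k, hk⟩ := H33.IsPPart.pElt hz
      refine ⟨z, orderOf_eq_prime (H33.eq_one_of_pElt_of_regular (p := p)
        (((Nat.dvd_prime_pow hp.out).mp (hk ▸ orderOf_pow_dvd p)).imp fun _ h => h.2) fun e =>
          hd (e.trans (N.orderOf_dvd_natCard ((QuotientGroup.eq_one_iff _).mp ?_)))) ?_, a1⟩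
      · rw [← QuotientGroup.mk'_apply, map_pow, a1, ← hx, pow_orderOf_eq_one]
      · rintro rfl
        exact hp.out.ne_one (by rw [← hx, ← a1, map_one, orderOf_one])
  obtain ⟨x, hx', rfl⟩ := key x hx
  obtain ⟨y, hy', rfl⟩ := key y hy
  rw [← Set.image_pair, ← MonoidHom.map_closure]
  exact H22.IsPSolvable.map (h x y hx' hy') _


/-- Let G be a finite group whose Sylow p-subgroups are cyclic. Then G is p-solvable if and only if every two elements of order p of G generate a p-solvable subgroup. -/
theorem result {G : Type*} [Group G] [Finite G] {p : ℕ} [Fact p.Prime] (P : Sylow p G) (hP : IsCyclic ↥(P : Subgroup G)) :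
    Cfsg.IsPSolvable p G ↔ ∀ x y : G, orderOf x = p → orderOf y = p → Cfsg.IsPSolvable p ↥(Subgroup.closure ({x, y} : Set G)) := by
  exact ⟨fun h x y _ _ => H22.IsPSolvable.subgroup h _,
    aux _ G rfl fun Q => (Sylow.equiv P Q).isCyclic.mp hP⟩

end Cfsg.Agent.S1950
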