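import Cfsg.Statements.S0839
import Cfsg.Agent.H29.MatBasic

set_option autoImplicit false
open Cfsg

namespace Cfsg.Agent.S0839

open Matrix

/-- Every transvection t ∈ SL_(n+2)(F) (rank(t − 1) = 1, (t − 1)² = 0) is conjugate in SL_(n+2)(F) to 1 + v·e_0ᵀ for some column vector v with v_0 = 0 (the group A of matrices that are the identity except in the first column below the diagonal); the dimension is written n + 2 ≥ 2. -/
theorem result {F : Type*} [Field F] (n : ℕ) (t : Matrix.SpecialLinearGroup (Fin (n + 2)) F) (ht : Cfsg.IsTransvection (t : Matrix (Fin (n + 2)) (Fin (n + 2)) F)) : ∃ (g : Matrix.SpecialLinearGroup (Fin (n + 2)) F) (v : Fin (n + 2) → F), v 0 = 0 ∧ ((g⁻¹ * t * g : Matrix.SpecialLinearGroup (Fin (n + 2)) F) : Matrix (Fin (n + 2)) (Fin (n + 2)) F) = 1 + Matrix.vecMulVec v (Pi.single 0 1) := by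
  obtain ⟨h1, h2⟩ := ht
  obtain ⟨u, w, huw⟩ := H29.exists_vecMulVec_of_rank_le_one _ h1.le
  have hne : vecMulVec u w ≠ 0 := by
    intro h
    rw [huw, h, Matrix.rank_zero] at h1
    exact zero_ne_one h1
  have hu : u ≠ 0 := by rintro rfl; simp at hne
  have hw : w ≠ 0 := by rintro rfl; simp at hne
  have hwu : w ⬝ᵥ u = 0 := by
    rw [huw, vecMulVec_mul_vecMulVec, vecMulVec_eq_zero] at h2
    rcases h2 with h2 | h2
    · exact absurd h2 hu
    · exact (smul_eq_zero.mp h2).resolve_right hw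
  obtain ⟨h, c, hc, hh⟩ := H29.exists_SL_mulVec_eq_smul w (Pi.single 0 1) hw (by simp)
  set g : Matrix.SpecialLinearGroup (Fin (n + 2)) F := h.transpose with hg
  have hwg : w ᵥ* (g : Matrix (Fin (n + 2)) (Fin (n + 2)) F) = c • Pi.single 0 1 := by
    rw [hg, Matrix.SpecialLinearGroup.coe_transpose, vecMul_transpose, hh]
  have ht' : (t : Matrix (Fin (n + 2)) (Fin (n + 2)) F) = 1 + vecMulVec u w := by
    rw [← huw]; abel
  have hgg : ((g⁻¹ : Matrix.SpecialLinearGroup (Fin (n + 2)) F) : Matrix (Fin (n + 2)) (Fin (n + 2)) F) * g = 1 := by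
    rw [← Matrix.SpecialLinearGroup.coe_mul, inv_mul_cancel, Matrix.SpecialLinearGroup.coe_one]
  have hgg' : (g : Matrix (Fin (n + 2)) (Fin (n + 2)) F) *
      ((g⁻¹ : Matrix.SpecialLinearGroup (Fin (n + 2)) F) : Matrix (Fin (n + 2)) (Fin (n + 2)) F) = 1 := by
    rw [← Matrix.SpecialLinearGroup.coe_mul, mul_inv_cancel, Matrix.SpecialLinearGroup.coe_one]
  refine ⟨g, c • (((g⁻¹ : Matrix.SpecialLinearGroup (Fin (n + 2)) F) : Matrix (Fin (n + 2)) (Fin (n + 2)) F) *ᵥ u), ?_, ?_⟩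
  · have : (w ᵥ* (g : Matrix (Fin (n + 2)) (Fin (n + 2)) F)) ⬝ᵥ
        (((g⁻¹ : Matrix.SpecialLinearGroup (Fin (n + 2)) F) : Matrix (Fin (n + 2)) (Fin (n + 2)) F) *ᵥ u) = 0 := by
      rw [← dotProduct_mulVec, mulVec_mulVec, hgg', one_mulVec, hwu]
    rw [hwg, smul_dotProduct, single_dotProduct, one_mul] at this
    simpa using this
  · rw [Matrix.SpecialLinearGroup.coe_mul, Matrix.SpecialLinearGroup.coe_mul, ht', mul_add, add_mul, mul_one, hgg,
      mul_vecMulVec, vecMulVec_mul, hwg, vecMulVec_smul, smul_vecMulVec]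

end Cfsg.Agent.S0839
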