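import Cfsg.Statements.S0820
import Cfsg.Agent.S0839
import Cfsg.Agent.H29.F4
import Cfsg.Agent.H29.Transport

set_option autoImplicit false
open Cfsg

namespace Cfsg.Agent.S0820

open Matrix H29

/-- the standard transvection -/
def t0 (F : Type*) [Field F] : Matrix.SpecialLinearGroup (Fin 3) F :=
  ⟨!![1, 0, 0; 1, 1, 0; 0, 0, 1], by simp [Matrix.det_fin_three]⟩

theorem conj_t0 {F : Type*} [Field F] (t : Matrix.SpecialLinearGroup (Fin 3) F)
    (ht : IsTransvection (t : Matrix (Fin 3) (Fin 3) F)) : IsConj (t0 F) t := by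
  obtain ⟨g, v, hv0, hg⟩ := S0839.result 1 t ht
  have h1 : IsConj (g⁻¹ * t * g) t := isConj_iff.2 ⟨g, by group⟩
  refine IsConj.trans ?_ h1
  have hv : v 1 ≠ 0 ∨ v 2 ≠ 0 := by
    by_contra hh
    push Not at hh
    have : v = 0 := by
      ext i; fin_cases i
      · exact hv0
      · exact hh.1
      · exact hh.2
    rw [this] at hg
    have h2 : g⁻¹ * t * g = 1 := Subtype.ext (by simpa using hg)
    have h3 : t = 1 := by
      calc t = g * (g⁻¹ * t * g) * g⁻¹ := by group
        _ = 1 := by rw [h2]; group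
    have := ht.1
    rw [h3] at this
    simp at this
  obtain ⟨c, d, hcd⟩ : ∃ c d : F, v 1 * d - v 2 * c = 1 := by
    rcases hv with h | h
    · exact ⟨0, (v 1)⁻¹, by simp [h]⟩
    · exact ⟨-(v 2)⁻¹, 0, by simp [h]⟩
  let k : Matrix.SpecialLinearGroup (Fin 3) F := ⟨!![1, 0, 0; 0, v 1, c; 0, v 2, d], by
    simp [Matrix.det_fin_three]; linear_combination hcd⟩
  have hk : (k : Matrix (Fin 3) (Fin 3) F) = !![1, 0, 0; 0, v 1, c; 0, v 2, d] := rfl
  refine isConj_iff.2 ⟨k, ?_⟩
  refine mul_inv_eq_iff_eq_mul.2 ?_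
  apply Subtype.ext
  change (k : Matrix (Fin 3) (Fin 3) F) * (t0 F : Matrix (Fin 3) (Fin 3) F) =
    ((g⁻¹ * t * g : Matrix.SpecialLinearGroup (Fin (1 + 2)) F) :
      Matrix (Fin (1 + 2)) (Fin (1 + 2)) F) * (k : Matrix (Fin 3) (Fin 3) F)
  rw [hg, hk]
  ext i j
  fin_cases i <;> fin_cases j <;>
    simp [t0, Matrix.mul_apply, Fin.sum_univ_three, vecMulVec_apply, hv0, Matrix.one_apply]

theorem conj_inv (x : Matrix.ProjectiveSpecialLinearGroup (Fin 3) F4) (hx : orderOf x = 2) :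
    IsConj (QuotientGroup.mk (t0 F4) : Matrix.ProjectiveSpecialLinearGroup (Fin 3) F4) x := by
  obtain ⟨A, rfl⟩ := QuotientGroup.mk_surjective x
  have h2 : A ^ 2 ∈ Subgroup.center (Matrix.SpecialLinearGroup (Fin 3) F4) := by
    rw [← QuotientGroup.eq_one_iff, QuotientGroup.mk_pow, ← hx, pow_orderOf_eq_one]
  set B := A ^ 2 * A with hB
  have hAB : (QuotientGroup.mk B : Matrix.ProjectiveSpecialLinearGroup (Fin 3) F4) =
      QuotientGroup.mk A := by
    rw [hB, QuotientGroup.mk_mul, (QuotientGroup.eq_one_iff _).2 h2, one_mul]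
  obtain ⟨r, hr, hrA⟩ := Matrix.SpecialLinearGroup.mem_center_iff.1 h2
  have hB2 : B * B = 1 := by
    have : B * B = (A ^ 2) ^ 3 := by rw [hB]; group
    rw [this]
    apply Subtype.ext
    rw [Matrix.SpecialLinearGroup.coe_pow, ← hrA, ← map_pow]
    rw [Fintype.card_fin] at hr
    rw [hr, map_one]; rfl
  have hB2' : (B : Matrix (Fin 3) (Fin 3) F4) * B = 1 := congrArg Subtype.val hB2
  have h11 : (1 : Matrix (Fin 3) (Fin 3) F4) + 1 = 0 := by decide
  have hsq : ((B : Matrix (Fin 3) (Fin 3) F4) - 1) * ((B : Matrix (Fin 3) (Fin 3) F4) - 1) = 0 := by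
    have h3 : (B : Matrix (Fin 3) (Fin 3) F4) + B = 0 := by
      rw [← mul_one (B : Matrix (Fin 3) (Fin 3) F4), ← mul_add, h11, mul_zero]
    rw [sub_mul, mul_sub, mul_sub, hB2', mul_one, one_mul, one_mul]
    calc (1 : Matrix (Fin 3) (Fin 3) F4) - B - (B - 1) = (1 + 1) - (B + B) := by abel
      _ = 0 := by rw [h11, h3, sub_zero]
  have hrk := Matrix.rank_add_rank_le_card_of_mul_eq_zero hsq
  rw [Fintype.card_fin] at hrk
  have hne : ((B : Matrix (Fin 3) (Fin 3) F4) - 1).rank ≠ 0 := by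
    intro h0
    obtain ⟨u, w, huw⟩ := exists_vecMulVec_of_rank_le_one ((B : Matrix (Fin 3) (Fin 3) F4) - 1)
      (by omega)
    have hz : (B : Matrix (Fin 3) (Fin 3) F4) - 1 = 0 := by
      rw [Matrix.rank, Submodule.finrank_eq_zero, LinearMap.range_eq_bot] at h0
      ext i j
      have := congrFun (LinearMap.congr_fun h0 (Pi.single j 1)) i
      simpa [Matrix.one_apply, Pi.single_apply] using this
    have hB1 : B = 1 := Subtype.ext (sub_eq_zero.1 hz)
    rw [← hAB, hB1, QuotientGroup.mk_one, orderOf_one] at hx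
    omega
  have := conj_t0 B ⟨by omega, hsq⟩
  rw [← hAB]
  exact (QuotientGroup.mk' _).map_isConj this

/-- Any two elements of order 2 of PSL_3(4) are conjugate. -/
theorem result {F : Type*} [Field F] [Fintype F] (hF : Fintype.card F = 4) (x y : Matrix.ProjectiveSpecialLinearGroup (Fin 3) F) (hx : orderOf x = 2) (hy : orderOf y = 2) : IsConj x y := by
  set e := pslEquiv (Fin 3) (equivF4 hF)
  have h1 := conj_inv (e x) (by rw [e.orderOf_eq, hx])
  have h2 := conj_inv (e y) (by rw [e.orderOf_eq, hy])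
  have := e.symm.toMonoidHom.map_isConj (h1.symm.trans h2)
  simpa using this

end Cfsg.Agent.S0820
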