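import Cfsg.Statements.S3154
import Cfsg.Agent.H62.Unitri
import Cfsg.Agent.H57.F4
import Cfsg.Agent.H66.SL2Core
import Cfsg.Agent.H81.AbHall
import Cfsg.Agent.S0820

set_option autoImplicit false
set_option linter.style.haveILetI false
open Cfsg

namespace Cfsg.Agent.S3154
set_option backward.isDefEq.respectTransparency false

open Matrix Subgroup
open scoped MatrixGroups commutatorElement

section Mat
variable {F : Type*} [Field F]

theorem ext3 {g h : SL(3, F)} (e : ∀ i j, g.1 i j = h.1 i j) : g = h := Subtype.ext (Matrix.ext e)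

/-- elations with a common centre -/
def xa (u v : F) : SL(3, F) := ⟨!![1, u, v; 0, 1, 0; 0, 0, 1], by simp [det_fin_three]⟩

theorem xa_coe (u v : F) : (xa u v).1 = !![1, u, v; 0, 1, 0; 0, 0, 1] := rfl

theorem xa_mul (u v s t : F) : xa u v * xa s t = xa (u + s) (v + t) := ext3 fun i j => by
  fin_cases i <;> fin_cases j <;> simp [H62.sl_mul, xa_coe, Matrix.mul_apply, Fin.sum_univ_three, add_comm]

theorem xa_zero : xa (0 : F) 0 = 1 := ext3 fun i j => by fin_cases i <;> fin_cases j <;> rfl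

theorem xa_inv (u v : F) : (xa u v)⁻¹ = xa (-u) (-v) :=
  inv_eq_of_mul_eq_one_right (by rw [xa_mul, add_neg_cancel, add_neg_cancel, xa_zero])

/-- the group of these elations -/
def A0 (F : Type*) [Field F] : Subgroup SL(3, F) where
  carrier := {g | ∃ u v, xa u v = g}
  one_mem' := ⟨0, 0, xa_zero⟩
  mul_mem' := by rintro _ _ ⟨u, v, rfl⟩ ⟨s, t, rfl⟩; exact ⟨_, _, (xa_mul _ _ _ _).symm⟩
  inv_mem' := by rintro _ ⟨u, v, rfl⟩; exact ⟨_, _, (xa_inv _ _).symm⟩

/-- the complement -/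
def blk : SL(2, F) →* SL(3, F) where
  toFun m := ⟨!![1, 0, 0; 0, m.1 0 0, m.1 0 1; 0, m.1 1 0, m.1 1 1], by
    have := m.2
    rw [det_fin_two] at this
    simpa [det_fin_three] using this⟩
  map_one' := ext3 fun i j => by fin_cases i <;> fin_cases j <;> rfl
  map_mul' a b := ext3 fun i j => by
    fin_cases i <;> fin_cases j <;> simp [H62.sl_mul, Matrix.mul_apply, Fin.sum_univ_three]

theorem blk_coe (m : SL(2, F)) : (blk m).1 = !![1, 0, 0; 0, m.1 0 0, m.1 0 1; 0, m.1 1 0, m.1 1 1] := rfl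

theorem xa_blk (u v : F) (m : SL(2, F)) :
    xa u v * blk m = blk m * xa (u * m.1 0 0 + v * m.1 1 0) (u * m.1 0 1 + v * m.1 1 1) := ext3 fun i j => by
  fin_cases i <;> fin_cases j <;> simp [H62.sl_mul, xa_coe, blk_coe, Matrix.mul_apply, Fin.sum_univ_three]

theorem eq_one_of_center {g : SL(3, F)} (h : g ∈ center SL(3, F)) (h1 : g.1 0 0 = 1) : g = 1 := by
  obtain ⟨r, -, e⟩ := Matrix.SpecialLinearGroup.mem_center_iff.1 h
  have : r = 1 := by rw [← h1, ← e]; simp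
  exact Subtype.ext (by rw [← e, this]; simp)

theorem trans_xa {u v : F} (h : xa u v ≠ 1) : ∃ m : SL(2, F), (blk m)⁻¹ * xa 1 0 * blk m = xa u v := by
  by_cases hu : u = 0
  · have hv : v ≠ 0 := fun e => h (by rw [hu, e, xa_zero])
    exact ⟨⟨!![u, v; -v⁻¹, 0], by simp [det_fin_two, hv]⟩, by rw [mul_assoc, xa_blk]; simp⟩
  · exact ⟨⟨!![u, v; 0, u⁻¹], by simp [det_fin_two, hu]⟩, by rw [mul_assoc, xa_blk]; simp⟩

theorem norm_A0 (h3 : ∀ a : F, a ≠ 0 → a ^ 3 = 1) {g : SL(3, F)} (h : ∃ s t, g * xa 1 0 = xa s t * g) :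
    ∃ c ∈ center SL(3, F), ∃ u v m, g = c * (blk m * xa u v) := by
  obtain ⟨s, t, e⟩ := h
  have e1 := congrArg (fun x : SL(3, F) => x.1 1 1) e
  have e2 := congrArg (fun x : SL(3, F) => x.1 2 1) e
  simp [H62.sl_mul, xa_coe, Matrix.mul_apply, Fin.sum_univ_three] at e1 e2
  have d := g.2
  rw [det_fin_three, e1, e2] at d
  have d0 : g.1 0 0 ≠ 0 := fun e => by simp [e] at d
  have d3 := h3 _ d0
  refine ⟨⟨scalar _ (g.1 0 0), by simpa using d3⟩, Matrix.SpecialLinearGroup.mem_center_iff.2 ⟨_, by simpa using d3, rfl⟩,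
    g.1 0 1 / g.1 0 0, g.1 0 2 / g.1 0 0, ⟨!![g.1 1 1 / g.1 0 0, g.1 1 2 / g.1 0 0; g.1 2 1 / g.1 0 0, g.1 2 2 / g.1 0 0],
      by rw [det_fin_two_of]; field_simp; linear_combination g.1 0 0 ^ 2 * d - (g.1 1 1 * g.1 2 2 - g.1 1 2 * g.1 2 1) * d3⟩,
    ext3 fun i j => ?_⟩
  fin_cases i <;> fin_cases j <;>
    simp [H62.sl_mul, xa_coe, blk_coe, Matrix.mul_apply, Fin.sum_univ_three, mul_div_cancel₀, d0, e1, e2]

/-- the inverse transpose -/
def th0 : SL(3, F) →* SL(3, F) where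
  toFun g := ⟨(g⁻¹).1ᵀ, by rw [det_transpose, (g⁻¹).2]⟩
  map_one' := Subtype.ext (by simp)
  map_mul' a b := Subtype.ext (by
    change ((a * b)⁻¹).1ᵀ = (a⁻¹).1ᵀ * (b⁻¹).1ᵀ
    rw [_root_.mul_inv_rev, H62.sl_mul, transpose_mul])

theorem th0_th0 (g : SL(3, F)) : th0 (th0 g) = g := Subtype.ext (by
  change ((th0 g)⁻¹).1ᵀ = _
  rw [← map_inv]
  change ((g⁻¹⁻¹).1ᵀ)ᵀ = _
  rw [inv_inv, transpose_transpose])

/-- the inverse transpose as an automorphism -/
def th : SL(3, F) ≃* SL(3, F) := th0.toMulEquiv th0 (MonoidHom.ext th0_th0) (MonoidHom.ext th0_th0)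

/-- a permutation matrix -/
def w3 : SL(3, F) := ⟨!![0, 1, 0; 0, 0, 1; 1, 0, 0], by simp [det_fin_three]⟩

theorem sq_sl2 [CharP F 2] (k : ℕ) : ∀ g : SL(2, F), g ^ 2 ^ k = 1 → g.1 0 0 + g.1 1 1 = 0 := by
  induction k with
  | zero => intro g h; rw [pow_zero, pow_one] at h; rw [h]; simpa using CharTwo.add_self_eq_zero (1 : F)
  | succ k ih =>
    intro g h
    have := ih (g * g) (by rwa [← sq, ← pow_mul, ← pow_succ'])
    have d := g.2
    rw [det_fin_two] at d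
    simp only [H62.sl_mul, Matrix.mul_apply, Fin.sum_univ_two] at this
    exact pow_eq_zero_iff (two_ne_zero) |>.1 (by
      linear_combination this + 2 * d + (CharTwo.two_eq_zero (R := F)))

theorem sq_sl2' [CharP F 2] {k : ℕ} {g : SL(2, F)} (h : g ^ 2 ^ k = 1) : g * g = 1 := by
  have t := sq_sl2 k g h
  have d := g.2
  rw [det_fin_two] at d
  have h2 := CharTwo.two_eq_zero (R := F)
  refine Subtype.ext (Matrix.ext fun i j => ?_)
  fin_cases i <;> fin_cases j <;> simp [H62.sl_mul, Matrix.mul_apply, Fin.sum_univ_two]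
  · linear_combination g.1 0 0 * t - d - h2
  · linear_combination g.1 0 1 * t
  · linear_combination g.1 1 0 * t
  · linear_combination g.1 1 1 * t - d - h2

end Mat

variable {F : Type*} [Field F] [Fintype F] {L : Type*} [Group L]

/-- `L` is the central quotient of `SL₃(F)` -/
def Cov (ρ : SL(3, F) →* L) : Prop := Function.Surjective ρ ∧ ∀ g, ρ g = 1 ↔ g ∈ center SL(3, F)

omit [Fintype F] in
theorem Cov.comp {ρ : SL(3, F) →* L} (h : Cov ρ) (α : SL(3, F) ≃* SL(3, F)) : Cov (ρ.comp α.toMonoidHom) :=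
  ⟨h.1.comp α.surjective, fun g => (h.2 _).trans (MulEquivClass.apply_mem_center_iff α)⟩

theorem classify [Finite L] (hF : Fintype.card F = 4) {ρ : SL(3, F) →* L} (h : Cov ρ) {E : Subgroup L}
    (hE : ∀ e ∈ E, e ^ 2 = 1) (h16 : Nat.card E = 16) : ∃ ρ' : SL(3, F) →* L, Cov ρ' ∧ E = (A0 F).map ρ' := by
  have := H57.charP_two_of_card hF
  have := Fact.mk Nat.prime_two
  have fin : ∀ ρ' : SL(3, F) →* L, E ≤ (A0 F).map ρ' → E = (A0 F).map ρ' := fun ρ' hle =>
    eq_of_le_of_card_ge hle (by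
      rw [h16, show 16 = Nat.card (F × F) by simp [hF]]
      refine Nat.card_le_card_of_surjective (fun p => ⟨ρ' (xa p.1 p.2), _, ⟨_, _, rfl⟩, rfl⟩) ?_
      rintro ⟨_, _, ⟨u, v, rfl⟩, rfl⟩
      exact ⟨(u, v), rfl⟩)
  obtain ⟨U, hU⟩ := H62.exists_sylow_UT (n := 3) (K := F) 2
  obtain ⟨Q, hQ⟩ := (show IsPGroup 2 E from fun x => ⟨1, Subtype.ext (by simpa using hE x x.2)⟩).exists_le_sylow
  obtain ⟨g, rfl⟩ := MulAction.exists_smul_eq L (U.mapSurjective h.1) Q
  obtain ⟨g, rfl⟩ := h.1 g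
  have h' := h.comp (MulAut.conj g)
  have hle : E ≤ (H62.UT 3 F).map (ρ.comp (MulAut.conj g).toMonoidHom) := fun x hx => by
    obtain ⟨_, ⟨y, hy, rfl⟩, rfl⟩ := hQ hx
    exact ⟨y, hU ▸ hy, by simp⟩
  generalize ρ.comp (MulAut.conj g).toMonoidHom = σ at h' hle
  have k : ∀ u ∈ H62.UT 3 F, σ u ∈ E → u.1 0 1 * u.1 1 2 = 0 := fun u hu e => by
    have := congrArg (fun x : SL(3, F) => x.1 0 2) (eq_one_of_center ((h'.2 _).1 (by rw [map_mul, ← sq, hE _ e]))
      ((mul_mem hu hu).2 0))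
    simp only [H62.sl_mul, Matrix.mul_apply, Fin.sum_univ_three, show u.1 0 0 = 1 from hu.2 0,
      show u.1 2 2 = 1 from hu.2 2] at this
    simp at this
    linear_combination this - u.1 0 2 * (CharTwo.two_eq_zero (R := F))
  have z : ∀ u ∈ H62.UT 3 F, u.1 1 0 = 0 ∧ u.1 2 0 = 0 ∧ u.1 2 1 = 0 ∧ u.1 0 0 = 1 ∧ u.1 1 1 = 1 ∧ u.1 2 2 = 1 :=
    fun u hu => ⟨hu.1 (by decide), hu.1 (by decide), hu.1 (by decide), hu.2 _, hu.2 _, hu.2 _⟩
  by_cases hb : ∀ u ∈ H62.UT 3 F, σ u ∈ E → u.1 1 2 = 0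
  · refine ⟨σ, h', fin _ fun x hx => ?_⟩
    obtain ⟨u, hu, rfl⟩ := hle hx
    refine ⟨u, ⟨u.1 0 1, u.1 0 2, ext3 fun i j => ?_⟩, rfl⟩
    fin_cases i <;> fin_cases j <;> simp [xa_coe, z u hu, hb u hu hx]
  push Not at hb
  obtain ⟨y, hy, y1, y2⟩ := hb
  refine ⟨_, (h'.comp (MulAut.conj w3)).comp th, fin _ fun x hx => ?_⟩
  obtain ⟨u, hu, rfl⟩ := hle hx
  have a0 : u.1 0 1 = 0 := by
    by_contra hn
    have := k _ (mul_mem hu hy) (by rw [map_mul]; exact mul_mem hx y1)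
    simp [H62.sl_mul, Matrix.mul_apply, Fin.sum_univ_three, z u hu, z y hy, (mul_eq_zero.1 (k u hu hx)).resolve_left hn,
      (mul_eq_zero.1 (k y hy y1)).resolve_right y2, hn, y2] at this
  refine ⟨xa (-u.1 0 2) (-u.1 1 2), ⟨_, _, rfl⟩, congrArg σ (mul_inv_eq_iff_eq_mul.2 (ext3 fun i j => ?_))⟩
  change ((w3 : SL(3, F)).1 * ((xa (-u.1 0 2) (-u.1 1 2))⁻¹).1ᵀ) i j = (u.1 * (w3 : SL(3, F)).1) i j
  rw [xa_inv]
  fin_cases i <;> fin_cases j <;> simp [w3, xa_coe, Matrix.mul_apply, Fin.sum_univ_three, z u hu, a0]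

theorem exists_a (hF : Fintype.card F = 4) : ∃ a : F, a ≠ 0 ∧ a ^ 2 ≠ 1 := by
  obtain ⟨a, ha⟩ := IsCyclic.exists_ofOrder_eq_natCard (α := Fˣ)
  refine ⟨a, a.ne_zero, fun e => ?_⟩
  have := orderOf_dvd_of_pow_eq_one (x := a) (n := 2) (Units.ext e)
  rw [ha, Nat.card_units, Nat.card_eq_fintype_card, hF] at this
  omega

section Main
variable {X : Type*} [Group X] [Finite X] {ρ : SL(3, F) →* X ⧸ center X} {H : Subgroup X}

omit [Finite X] in
theorem cent_le (hF : Fintype.card F = 4) (h : Cov ρ) {y : X ⧸ center X} (hy : y ∈ normalizer ((A0 F).map ρ : Set _)) :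
    ∃ u v m, y = ρ (blk m) * ρ (xa u v) := by
  have := H57.charP_two_of_card hF
  have h3 : ∀ a : F, a ≠ 0 → a ^ 3 = 1 := fun a ha => by simpa [hF] using FiniteField.pow_card_sub_one_eq_one a ha
  obtain ⟨g, rfl⟩ := h.1 y
  obtain ⟨_, ⟨s, t, rfl⟩, e⟩ := (mem_normalizer_iff.1 hy _).1 ⟨xa 1 0, ⟨_, _, rfl⟩, rfl⟩
  have sq : ∀ u v : F, xa u v * xa u v = 1 := fun u v => by
    rw [xa_mul, CharTwo.add_self_eq_zero, CharTwo.add_self_eq_zero, xa_zero]
  have hc := (h.2 ((xa s t)⁻¹ * (g * xa 1 0 * g⁻¹))).1 (by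
    rw [map_mul, map_inv, e, map_mul, map_mul, map_inv, inv_mul_cancel])
  obtain ⟨c, e'⟩ : ∃ c, (xa s t)⁻¹ * (g * xa 1 0 * g⁻¹) = c := ⟨_, rfl⟩
  rw [e'] at hc
  rw [inv_mul_eq_iff_eq_mul] at e'
  have c2 : c * c = 1 := by
    have : xa s t * c * (xa s t * c) = 1 := by rw [← e', conj_mul, sq]; group
    rwa [mul_assoc, ← mul_assoc c, ← mem_center_iff.1 hc, mul_assoc, ← mul_assoc, sq, one_mul] at this
  have c1 : c = 1 := by
    obtain ⟨r, r3, e⟩ := Matrix.SpecialLinearGroup.mem_center_iff.1 hc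
    have := congrArg (fun x : SL(3, F) => x.1 0 0) c2
    simp only [H62.sl_mul, ← e, ← map_mul] at this
    simp at this r3
    exact eq_one_of_center hc (by rw [← e]; simp; linear_combination r3 - r * this)
  obtain ⟨d, hd, u, v, m, rfl⟩ := norm_A0 h3 ⟨s, t, by rw [← mul_inv_eq_iff_eq_mul, e', c1, mul_one]⟩
  exact ⟨u, v, m, by rw [map_mul, (h.2 d).2 hd, one_mul, map_mul]⟩

omit [Finite X] [Fintype F] in
theorem eq_of (h : Cov ρ) {m : SL(2, F)} {u v : F} (e : ρ (blk m) = ρ (xa u v)) : m = 1 ∧ u = 0 ∧ v = 0 := by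
  have := eq_one_of_center ((h.2 (blk m * xa (-u) (-v))).1 (by rw [← xa_inv]; simp [e]))
    (by simp [H62.sl_mul, xa_coe, blk_coe, Matrix.mul_apply, Fin.sum_univ_three])
  rw [← xa_inv, mul_inv_eq_one] at this
  have k := fun i j => congrArg (fun x : SL(3, F) => x.1 i j) this
  refine ⟨Subtype.ext (Matrix.ext fun i j => ?_), (k 0 1).symm, (k 0 2).symm⟩
  fin_cases i <;> fin_cases j
  exacts [k 1 1, k 1 2, k 2 1, k 2 2]

omit [Finite X] in
theorem sq_H (hF : Fintype.card F = 4) (hZ : ∀ z ∈ center X, z ^ 2 = 1) (h : Cov ρ)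
    (hH : H.map (QuotientGroup.mk' _) = (A0 F).map ρ) {x : X} (hx : x ∈ H) : x * x = 1 := by
  have := H57.charP_two_of_card hF
  choose f hf using fun u v : F => QuotientGroup.mk'_surjective (center X) (ρ (xa u v))
  have k0 : ∀ a b : X, QuotientGroup.mk' (center X) a = QuotientGroup.mk' (center X) b → a * a = b * b :=
    fun a b e => by
      obtain ⟨z, hz, rfl⟩ := (QuotientGroup.mk'_eq_mk' _).1 e
      rw [mul_assoc, ← mul_assoc z, ← mem_center_iff.1 hz, mul_assoc, ← sq z, hZ z hz, mul_one]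
  have fz : ∀ u v, f u v * f u v ∈ center X := fun u v => (QuotientGroup.eq_one_iff _).1 (by
    rw [← QuotientGroup.mk'_apply, map_mul, hf, ← map_mul, xa_mul, CharTwo.add_self_eq_zero, CharTwo.add_self_eq_zero,
      xa_zero, map_one])
  have k1 : ∀ u v, ¬ (u = 0 ∧ v = 0) → f u v * f u v = f 1 0 * f 1 0 := fun u v huv => by
    obtain ⟨m, hm⟩ := trans_xa (u := u) (v := v) fun e =>
      huv ⟨congrArg (fun x : SL(3, F) => x.1 0 1) e, congrArg (fun x : SL(3, F) => x.1 0 2) e⟩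
    obtain ⟨g, hg⟩ := QuotientGroup.mk'_surjective (center X) (ρ (blk m))
    rw [k0 _ (g⁻¹ * f 1 0 * g⁻¹⁻¹) (by rw [hf, ← hm]; simp only [map_mul, map_inv, hg, hf, inv_inv]), conj_mul,
      mem_center_iff.1 (fz 1 0), mul_inv_cancel_right]
  obtain ⟨c, hc⟩ : ∃ c, f 1 0 * f 1 0 = c := ⟨_, rfl⟩
  have cz := hc ▸ fz 1 0
  have k2 : ∀ (a b : X) u v s t, QuotientGroup.mk' (center X) a = ρ (xa u v) →
      QuotientGroup.mk' (center X) b = ρ (xa s t) → ¬ (u = 0 ∧ v = 0) → ¬ (s = 0 ∧ t = 0) →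
      ¬ (u + s = 0 ∧ v + t = 0) → b * a = c * (a * b) := fun a b u v s t ha hb h1 h2 h3 => by
    have e1 := ((k0 a _ (ha.trans (hf _ _).symm)).trans (k1 _ _ h1)).trans hc
    have e2 := ((k0 b _ (hb.trans (hf _ _).symm)).trans (k1 _ _ h2)).trans hc
    have e3 := ((k0 (a * b) _ (by rw [map_mul, ha, hb, hf, ← map_mul, xa_mul])).trans (k1 _ _ h3)).trans hc
    have c2 : c * c = 1 := by rw [← sq, hZ c cz]
    have e4 : a⁻¹ = a * c := inv_eq_of_mul_eq_one_right (by rw [← mul_assoc, e1, c2])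
    have e5 : b⁻¹ = c * b := inv_eq_of_mul_eq_one_left (by rw [mul_assoc, e2, c2])
    calc b * a = a⁻¹ * (a * b * (a * b)) * b⁻¹ := by group
      _ = a * (c * c) * c * b := by rw [e3, e4, e5]; group
      _ = _ := by rw [c2, mul_one, mem_center_iff.1 cz, mul_assoc]
  obtain ⟨ω, h0, h1⟩ : ∃ ω : F, ω ≠ 0 ∧ 1 + ω ≠ 0 := by
    obtain ⟨a, a0, a1⟩ := exists_a hF
    exact ⟨a, a0, fun e => a1 (by linear_combination (a - 1) * e)⟩
  have c1 : c = 1 := by
    have e1 := k2 _ _ _ _ _ _ (hf 1 0) (hf 0 1) (by simp) (by simp) (by simp)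
    have e2 := k2 _ _ _ _ _ _ (hf ω 0) (hf 0 1) (by simp [h0]) (by simp) (by simp)
    have e3 := k2 (f 1 0 * f ω 0) _ (1 + ω) (0 + 0) _ _ (by rw [map_mul, hf, hf, ← map_mul, xa_mul]) (hf 0 1)
      (by simp [h1]) (by simp) (by simp)
    rw [← mul_assoc, e1, mul_assoc, mul_assoc, e2, ← mul_assoc (f 1 0), mem_center_iff.1 cz, mul_assoc, mul_right_inj,
      mul_assoc] at e3
    simpa using e3
  obtain ⟨_, ⟨u, v, rfl⟩, e⟩ := hH.le ⟨x, hx, rfl⟩
  rw [k0 x _ (e.symm.trans (hf u v).symm)]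
  by_cases huv : u = 0 ∧ v = 0
  · rw [k0 _ 1 (by rw [hf, huv.1, huv.2, xa_zero, map_one, map_one]), one_mul]
  · rw [k1 u v huv, hc, c1]

theorem main (hF : Fintype.card F = 4) (hZ : ∀ z ∈ center X, z ^ 2 = 1) (h : Cov ρ) (hZH : center X ≤ H)
    (hH : H.map (QuotientGroup.mk' _) = (A0 F).map ρ)
    (hc : ∀ x y : X ⧸ center X, orderOf x = 2 → orderOf y = 2 → IsConj x y) :
    IsElementaryAbelian 2 H ∧ (∀ x, (∀ y ∈ H, y * x = x * y) → x ∈ H) ∧
      ∃ C : Subgroup X, C ≤ normalizer (H : Set X) ∧ C ⊓ H = ⊥ ∧ H ⊔ C = normalizer (H : Set X) ∧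
        Nonempty (C ≃* ProjectiveSpecialLinearGroup (Fin 2) F) := by
  have := H57.charP_two_of_card hF
  have := Fact.mk Nat.prime_two
  have s2 : ∀ x ∈ H, x * x = 1 := fun x hx => sq_H hF hZ h hH hx
  have inv : ∀ x ∈ H, x⁻¹ = x := fun x hx => inv_eq_of_mul_eq_one_right (s2 x hx)
  have mem : ∀ x, x ∈ H ↔ QuotientGroup.mk' (center X) x ∈ (A0 F).map ρ := fun x => by
    rw [← hH, ← mem_comap, comap_map_eq_self (by rwa [QuotientGroup.ker_mk'])]
  have nm : ∀ x, x ∈ normalizer (H : Set X) ↔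
      QuotientGroup.mk' (center X) x ∈ normalizer ((A0 F).map ρ : Set _) := fun x =>
    ⟨fun hx => hH ▸ le_normalizer_map _ ⟨x, hx, rfl⟩, fun hx => mem_normalizer_iff.2 fun y => by
      rw [mem, mem, map_mul, map_mul, map_inv]; exact mem_normalizer_iff.1 hx _⟩
  refine ⟨⟨⟨⟨fun a b => Subtype.ext ?_⟩⟩, fun x hx => by rw [sq, s2 x hx]⟩, fun x hx => ?_, ?_⟩
  · change a.1 * b.1 = b.1 * a.1
    rw [← inv _ (mul_mem a.2 b.2), _root_.mul_inv_rev, inv _ a.2, inv _ b.2]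
  · obtain ⟨u, v, m, e⟩ := cent_le hF h ((nm x).1 (centralizer_le_normalizer _ hx))
    have k : ∀ s t, s * m.1 0 0 + t * m.1 1 0 = s ∧ s * m.1 0 1 + t * m.1 1 1 = t := fun s t => by
      obtain ⟨y, hy, e'⟩ := hH.ge ⟨xa s t, ⟨_, _, rfl⟩, rfl⟩
      have := congrArg (QuotientGroup.mk' (center X)) (hx y hy)
      rw [map_mul, map_mul, e, e', ← mul_assoc, ← map_mul, xa_blk, map_mul, mul_assoc, mul_assoc, mul_right_inj,
        ← map_mul, ← map_mul, xa_mul, xa_mul, ← mul_inv_eq_one, ← map_inv, ← map_mul, xa_inv, xa_mul] at this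
      obtain ⟨-, e1, e2⟩ := eq_of h (m := 1) (by rw [map_one, map_one, this])
      exact ⟨by linear_combination e1, by linear_combination e2⟩
    have : m = 1 := Subtype.ext (Matrix.ext fun i j => by
      fin_cases i <;> fin_cases j
      exacts [by simpa using (k 1 0).1, by simpa using (k 1 0).2, by simpa using (k 0 1).1, by simpa using (k 0 1).2])
    rw [mem, e, this, map_one, map_one, one_mul]
    exact ⟨_, ⟨_, _, rfl⟩, rfl⟩
  obtain ⟨β, hβ⟩ : ∃ β : SL(2, F) →* X ⧸ center X, β = ρ.comp blk := ⟨_, rfl⟩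
  have βe : ∀ m, β m = ρ (blk m) := fun m => by rw [hβ]; rfl
  have βi : Function.Injective β := (injective_iff_map_eq_one _).2 fun m e =>
    (eq_of h (u := 0) (v := 0) (by rw [← βe, e, xa_zero, map_one])).1
  obtain ⟨D, hD⟩ : ∃ D, D = β.range.comap (QuotientGroup.mk' (center X)) := ⟨_, rfl⟩
  have mD : ∀ x, x ∈ D ↔ ∃ m, β m = QuotientGroup.mk' (center X) x := fun x => by rw [hD]; rfl
  obtain ⟨a, a0, a1⟩ := exists_a hF
  have Dm : (⁅D, D⁆).map (QuotientGroup.mk' _) = β.range := by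
    rw [map_commutator, hD, map_comap_eq_self_of_surjective (QuotientGroup.mk'_surjective _), MonoidHom.range_eq_map,
      ← map_commutator, ← commutator_def, SL2.commutator_eq_top a0 a1]
  have DZ : ∀ z ∈ ⁅D, D⁆, z ∈ center X → z = 1 := fun z hz hz' => by
    rw [← D.map_subtype_commutator] at hz
    obtain ⟨z, hz, rfl⟩ := hz
    refine congrArg Subtype.val (H81.AbHall.eq_one_of_center (p := 2) (fun P => ?_)
      (mem_center_iff.2 fun g => Subtype.ext (mem_center_iff.1 hz' g)) hz (fun y => ?_))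
    · have k : ∀ x : P, x * x = 1 := fun x => by
        obtain ⟨k, hk⟩ := P.isPGroup' x
        obtain ⟨m, hm⟩ := (mD _).1 x.1.2
        have e1 : m * m = 1 := sq_sl2' (k := k) (βi (by
          rw [map_pow, hm, ← map_pow, show (x.1.1 : X) ^ 2 ^ k = 1 from congrArg (fun y : P => (y.1.1 : X)) hk,
            map_one, map_one]))
        refine Subtype.ext (Subtype.ext ?_)
        change x.1.1 * x.1.1 = 1
        by_cases e : β m = 1
        · exact s2 _ ((mem _).2 (by rw [← hm, e]; exact one_mem _))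
        obtain ⟨g, hg⟩ := isConj_iff.1 (hc (β m) (ρ (xa 1 0)) (orderOf_eq_prime (by rw [sq, ← map_mul, e1, map_one]) e)
          (orderOf_eq_prime (by rw [sq, ← map_mul, xa_mul, CharTwo.add_self_eq_zero, add_zero, xa_zero, map_one])
            fun e => one_ne_zero (eq_of h (m := 1) (by rw [map_one, map_one, e])).2.1))
        obtain ⟨g, rfl⟩ := QuotientGroup.mk'_surjective _ g
        have := s2 (g * x.1.1 * g⁻¹) ((mem _).2 (by
          rw [map_mul, map_mul, map_inv, ← hm, hg]; exact ⟨_, ⟨_, _, rfl⟩, rfl⟩))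
        rwa [conj_mul, conj_eq_one_iff] at this
      have k' : ∀ x : P, x⁻¹ = x := fun x => inv_eq_of_mul_eq_one_right (k x)
      exact ⟨⟨fun a b => by rw [← k' (a * b), _root_.mul_inv_rev, k', k']⟩⟩
    · obtain ⟨_, n, rfl⟩ := y
      exact ⟨1, Subtype.ext (Subtype.ext (by simpa using hZ _ (zpow_mem hz' n)))⟩
  have DN : ⁅D, D⁆ ≤ normalizer (H : Set X) := fun x hx => (nm x).2 (by
    obtain ⟨m, hm⟩ := (mD x).1 (commutator_le_self D hx)
    rw [← hm, βe]
    refine le_normalizer_map _ ⟨_, inv_mem_iff.1 (mem_normalizer_fintype ?_), rfl⟩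
    rintro _ ⟨u, v, rfl⟩
    exact ⟨_, _, by rw [inv_inv, mul_assoc, xa_blk, inv_mul_cancel_left]⟩)
  refine ⟨⁅D, D⁆, DN, eq_bot_iff.2 fun x hx => DZ x hx.1 ?_, le_antisymm (sup_le le_normalizer DN) fun x hx => ?_, ?_⟩
  · obtain ⟨m, hm⟩ := (mD x).1 (commutator_le_self D hx.1)
    obtain ⟨_, ⟨u, v, rfl⟩, e⟩ := (mem x).1 hx.2
    rw [← QuotientGroup.eq_one_iff, ← QuotientGroup.mk'_apply, ← hm,
      (eq_of h ((βe m).symm.trans (hm.trans e.symm))).1, map_one]
  · obtain ⟨u, v, m, e⟩ := cent_le hF h ((nm x).1 hx)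
    obtain ⟨d, hd, e'⟩ := Dm.ge ⟨m, rfl⟩
    rw [← mul_inv_cancel_left d x]
    refine mul_mem (mem_sup_right hd) (mem_sup_left ((mem _).2 ?_))
    rw [map_mul, map_inv, e, e', βe, inv_mul_cancel_left]
    exact ⟨_, ⟨_, _, rfl⟩, rfl⟩
  · have i1 : Function.Injective ((QuotientGroup.mk' (center X)).comp (⁅D, D⁆).subtype) :=
      (injective_iff_map_eq_one _).2 fun x e => Subtype.ext (DZ x x.2 ((QuotientGroup.eq_one_iff _).1 e))
    have z1 : center SL(2, F) = ⊥ := eq_bot_iff.2 fun g hg => by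
      rcases (H66.sl2_mem_center_iff g).1 hg with e | e
      · exact e
      · exact e.trans (Subtype.ext (Matrix.ext fun i j => CharTwo.neg_eq _))
    exact ⟨(((MonoidHom.ofInjective i1).trans (MulEquiv.subgroupCongr (by
      rw [MonoidHom.range_comp, range_subtype, Dm]))).trans (MonoidHom.ofInjective βi).symm).trans
      (QuotientGroup.quotientBot.symm.trans (QuotientGroup.quotientMulEquivOfEq z1.symm))⟩

end Main


/-- Let X be a finite quasisimple group whose centre is an elementary abelian 2-group and whose central quotient is isomorphic to the projective special linear group of dimension 3 over the field with 4 elements. Let T be a Sylow 2-subgroup of X and H ≠ K subgroups of T containing the centre Z(X) whose images in X/Z(X) are elementary abelian of order 16 (the two such subgroups of a Sylow 2-subgroup of the quotient). Then H and K are elementary abelian, H ∩ K is the centre of the subgroup they generate,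 and each of N_X(H), N_X(K) is a split extension of H, respectively K, by the projective special linear group of dimension 2 over the field with 4 elements (there is a complement isomorphic to that group). -/
theorem result {X : Type*} [Group X] [Finite X] (hq : Cfsg.IsQuasisimple X) (hZ : Cfsg.IsElementaryAbelian 2 (Subgroup.center X))
    {F : Type*} [Field F] [Fintype F] (hF : Fintype.card F = 4) (hXL : Nonempty ((X ⧸ Subgroup.center X) ≃* Matrix.ProjectiveSpecialLinearGroup (Fin 3) F))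
    (T : Sylow 2 X) (H K : Subgroup X) (hHK : H ≠ K) (hHT : H ≤ T) (hKT : K ≤ T) (hZH : Subgroup.center X ≤ H) (hZK : Subgroup.center X ≤ K)
    (hH : Cfsg.IsElementaryAbelian 2 (H.map (QuotientGroup.mk' (Subgroup.center X))) ∧ Nat.card ↥(H.map (QuotientGroup.mk' (Subgroup.center X))) = 16)
    (hK : Cfsg.IsElementaryAbelian 2 (K.map (QuotientGroup.mk' (Subgroup.center X))) ∧ Nat.card ↥(K.map (QuotientGroup.mk' (Subgroup.center X))) = 16) :
    Cfsg.IsElementaryAbelian 2 H ∧ Cfsg.IsElementaryAbelian 2 K ∧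
      H ⊓ K = (Subgroup.center ↥(H ⊔ K)).map (H ⊔ K).subtype ∧
      (∃ C : Subgroup X, C ≤ Subgroup.normalizer (H : Set X) ∧ C ⊓ H = ⊥ ∧ H ⊔ C = Subgroup.normalizer (H : Set X) ∧
        Nonempty (↥C ≃* Matrix.ProjectiveSpecialLinearGroup (Fin 2) F)) ∧
      (∃ C : Subgroup X, C ≤ Subgroup.normalizer (K : Set X) ∧ C ⊓ K = ⊥ ∧ K ⊔ C = Subgroup.normalizer (K : Set X) ∧
        Nonempty (↥C ≃* Matrix.ProjectiveSpecialLinearGroup (Fin 2) F)) := by

  obtain ⟨e⟩ := hXL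
  have h0 : Cov (e.symm.toMonoidHom.comp (QuotientGroup.mk' (center SL(3, F)))) :=
    ⟨e.symm.surjective.comp (QuotientGroup.mk'_surjective _), fun g => by simp⟩
  have hc : ∀ x y : X ⧸ center X, orderOf x = 2 → orderOf y = 2 → IsConj x y := fun x y hx hy => by
    simpa using e.symm.toMonoidHom.map_isConj
      (S0820.result hF (e x) (e y) (by rwa [e.orderOf_eq]) (by rwa [e.orderOf_eq]))
  obtain ⟨ρ, r1, r2⟩ := classify hF h0 hH.1.2 hH.2
  obtain ⟨σ, s1, s2⟩ := classify hF h0 hK.1.2 hK.2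
  obtain ⟨a1, a2, a3⟩ := main hF hZ.2 r1 hZH r2 hc
  obtain ⟨b1, b2, b3⟩ := main hF hZ.2 s1 hZK s2 hc
  refine ⟨a1, b1, le_antisymm (fun x hx => ?_) ?_, a3, b3⟩
  · have : H ⊔ K ≤ centralizer ({x} : Set X) := sup_le
      (fun y hy => mem_centralizer_singleton_iff.2 (congrArg Subtype.val (a1.1.1.1 ⟨y, hy⟩ ⟨x, hx.1⟩)))
      fun y hy => mem_centralizer_singleton_iff.2 (congrArg Subtype.val (b1.1.1.1 ⟨y, hy⟩ ⟨x, hx.2⟩))
    exact ⟨⟨x, mem_sup_left hx.1⟩, mem_center_iff.2 fun g => Subtype.ext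
      (mem_centralizer_singleton_iff.1 (this g.2)), rfl⟩
  · rintro _ ⟨x, hx, rfl⟩
    exact ⟨a2 _ fun y hy => congrArg Subtype.val (mem_center_iff.1 hx ⟨y, mem_sup_left hy⟩),
      b2 _ fun y hy => congrArg Subtype.val (mem_center_iff.1 hx ⟨y, mem_sup_right hy⟩)⟩

end Cfsg.Agent.S3154
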