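import Cfsg.Statements.S4558
import Cfsg.Agent.H88.Deg
import Cfsg.Agent.H88.PLocal
import Cfsg.Agent.H5.Eigen

set_option autoImplicit false
open Cfsg

namespace Cfsg.Agent.S4558

/-- Let χ be a character of the finite group G and g an element of p-power order for the prime p. If χ g = 0, then p divides the degree of χ. -/
theorem result {G : Type*} [Group G] [Finite G] (p : ℕ) [Fact p.Prime] (χ : G → ℂ) (hχ : Cfsg.IsCharacter G χ) (g : G) (hg : ∃ j : ℕ, orderOf g = p ^ j) (h0 : χ g = 0) : p ∣ Cfsg.charDegree χ := by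
  obtain ⟨j, hj⟩ := hg
  have hp : p.Prime := Fact.out
  obtain ⟨M, hM⟩ := H88.exists_isPModular hp
  have : M.IsMaximal := hM.2.1
  obtain ⟨d, μ, hd, hμ, hsum⟩ := H5.exists_eigenvalues hχ g
  have h1 := hsum 1
  simp only [zpow_one] at h1
  rw [H88.charDegree_eq_of_eq hd]
  have h2 : ∑ i, (μ i - 1) ∈ H32.locMax M :=
    H88.sum_mem_locMax _ _ fun i _ =>
      H32.sub_one_mem_locMax_of_pow_p_pow hM (k := j) (by rw [← hj]; exact hμ i)
  rw [Finset.sum_sub_distrib, ← h1, h0] at h2
  simp only [Finset.sum_const, Finset.card_univ, Fintype.card_fin, nsmul_eq_mul, mul_one,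
    zero_sub] at h2
  exact (H32.natCast_mem_locMax_iff hM).1 (by simpa using (H32.locMax M).neg_mem h2)

end Cfsg.Agent.S4558
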