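import Cfsg.Statements.S4888
import Cfsg.Agent.H89.PrinDeg
import Cfsg.Agent.H3.Tate

set_option autoImplicit false
open Cfsg

namespace Cfsg.Agent.S4888

set_option linter.style.haveILetI false
open Cfsg.Agent.H5 Cfsg.Agent.H89 Subgroup

/-- Let G be a finite group, p a prime and M a maximal ideal of the algebraic integers containing p. Then all height-zero irreducible characters of the principal p-block of G (equivalently, all its characters of degree prime to p) have the same degree if and only if G has a normal p-complement. -/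
theorem result {G : Type*} [Group G] [Finite G] (p : ℕ) [Fact p.Prime] (M : Ideal Cfsg.AlgInt) (hM : Cfsg.IsPModular p M) : (∃ d : ℕ, ∀ χ : Cfsg.IrrCharacter G, χ ∈ (Cfsg.principalBlock M G) → Cfsg.blockHeight p (Cfsg.principalBlock M G) (χ : G → ℂ) = 0 → Cfsg.charDegree (χ : G → ℂ) = d) ↔ Cfsg.HasNormalPComplement p G := by
  haveI := hM.2.1
  constructor
  · rintro ⟨d, hd⟩
    obtain rfl : 1 = d := H33.charDegree_one.symm.trans
      (hd _ H33.oneIrr_mem_principalBlock (H33.blockHeight_of_degree_one _ rfl))
    let P : Sylow p G := default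
    have h1 : commutator G ⊓ (P : Subgroup G) ≤ ⁅(P : Subgroup G), (P : Subgroup G)⁆ := by
      intro x hx
      rw [← map_subtype_commutator]
      refine ⟨⟨x, hx.2⟩, ?_, rfl⟩
      by_contra h
      obtain ⟨χ, h1, h2, h3⟩ := exists_principal_apply_ne hM P h
      exact h3 ((H88.commutator_le_charKer_iff χ.2).2
        (hd χ h1 ((blockHeight_principal_eq_zero_iff hM.1 h1).2 h2)) x hx.1)
    refine H3.hasNormalPComplement_of_inf_pResidual_le_frattini P ?_
    rw [H3.inf_pResidual_eq_of_commutator_inf_eq P le_rfl h1,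
      H3.pResidual_eq_bot_of_isPGroup P.isPGroup']
    exact bot_le
  · intro h
    obtain ⟨N, hN, h1, k, hk⟩ := H3.hasNormalPComplement_iff_exists_normal.1 h
    refine ⟨1, fun χ hχ h0 => ?_⟩
    obtain ⟨φ, hφ, e⟩ := exists_isIrr_quotient N χ.2 fun g hg =>
      H33.apply_eq_degree_of_mem_principalBlock hM N
        ((Nat.Prime.coprime_iff_not_dvd hM.1).1 h1.symm) hχ hg
    obtain ⟨j, hj⟩ := H88.exists_charDegree_eq_pow (IsPGroup.of_card (n := k) hk) hφ
    have h2 := (blockHeight_principal_eq_zero_iff hM.1 hχ).1 h0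
    rw [e, H88.charDegree_inflate, hj] at h2 ⊢
    rcases j with _ | j
    · rfl
    · exact absurd (dvd_pow_self p j.succ_ne_zero) h2

end Cfsg.Agent.S4888
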