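import Cfsg.Statements.S5030
import Cfsg.Agent.H90.Triple

set_option autoImplicit false
open Cfsg

namespace Cfsg.Agent.S5030
open Cfsg.Agent.H90

theorem class_two {G : Type*} [Group G] {S : Set (Subgroup G)} {A B C : Subgroup G} (hA : Cm A A) (hB : Cm B B)
    (h : Sc S A B C) : ⁅⁅A ⊔ B, A ⊔ B⁆, A ⊔ B⁆ = ⊥ := by
  have h1 : ⁅A ⊔ B, A ⊔ B⁆ ≤ C := by
    rw [Subgroup.commutator_le]
    intro x hx y hy
    have hc : Cm C (A ⊔ B) := h.cA.sup_right h.cB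
    have key : ∀ x ∈ A ⊔ B, (∀ a ∈ A, x⁻¹ * a⁻¹ * x * a ∈ C) → (∀ a ∈ B, x⁻¹ * a⁻¹ * x * a ∈ C) →
        ∀ y ∈ A ⊔ B, x⁻¹ * y⁻¹ * x * y ∈ C := by
      intro x _ h1 h2
      let K : Subgroup G :=
        { carrier := {r | r ∈ A ⊔ B ∧ x⁻¹ * r⁻¹ * x * r ∈ C}
          one_mem' := ⟨one_mem _, by simp⟩
          mul_mem' := fun {r s} hr hs => ⟨mul_mem hr.1 hs.1, by
            have h3 := C.mul_mem hs.2 hr.2
            have h4 := hc _ hr.2 s hs.1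
            convert h3 using 1
            calc x⁻¹ * (r * s)⁻¹ * x * (r * s) = x⁻¹ * s⁻¹ * x * ((x⁻¹ * r⁻¹ * x * r) * s) := by group
              _ = _ := by rw [h4]; group⟩
          inv_mem' := fun {r} hr => ⟨inv_mem hr.1, by
            have h3 := C.inv_mem hr.2
            have h4 := hc _ h3 r hr.1
            convert h3 using 1
            calc x⁻¹ * r⁻¹⁻¹ * x * r⁻¹ = (r * (x⁻¹ * r⁻¹ * x * r)⁻¹) * r⁻¹ := by group
              _ = _ := by rw [← h4]; group⟩ }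
      have : A ⊔ B ≤ K := sup_le (fun a ha => ⟨Subgroup.mem_sup_left ha, h1 a ha⟩)
        (fun a ha => ⟨Subgroup.mem_sup_right ha, h2 a ha⟩)
      exact fun y hy => (this hy).2
    have inv : ∀ {x y : G}, x⁻¹ * y⁻¹ * x * y ∈ C → y⁻¹ * x⁻¹ * y * x ∈ C := fun h => by
      have := C.inv_mem h
      convert this using 1; group
    have k1 : ∀ a ∈ A, ∀ y ∈ A ⊔ B, a⁻¹ * y⁻¹ * a * y ∈ C := fun a ha =>
      key a (Subgroup.mem_sup_left ha) (fun a' ha' => by rw [comm_eq_one_of (hA a ha a' ha')]; exact one_mem _)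
        (fun b hb => h.comm a ha b hb)
    have k2 : ∀ a ∈ B, ∀ y ∈ A ⊔ B, a⁻¹ * y⁻¹ * a * y ∈ C := fun a ha =>
      key a (Subgroup.mem_sup_right ha) (fun b hb => h.symm.comm a ha b hb)
        (fun a' ha' => by rw [comm_eq_one_of (hB a ha a' ha')]; exact one_mem _)
    have := key x⁻¹ (inv_mem hx) (fun a ha => inv (k1 a ha _ (inv_mem hx))) (fun a ha => inv (k2 a ha _ (inv_mem hx)))
      y⁻¹ (inv_mem hy)
    rw [commutatorElement_def]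
    simpa using this
  exact cm_iff.1 ((h.cA.sup_right h.cB).mono h1 le_rfl)

/-- Let S be a set of abstract root subgroups of G and A, B, C ∈ S with ⁅A, B⁆ ∈ S and ⁅B, C⁆ ∈ S, where A and C are different and commute. For a non-identity b ∈ B put X = ⟨A, b⁻¹ C b⟩ and Y = ⟨b⁻¹ A b, C⟩ and R = ⟨A, B, C⟩. Then X and Y are either both abelian or both nilpotent of class exactly two; X and Y commute elementwise; XY is normal in R with R = (XY) B; and R is nilpotent. -/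
theorem result {G : Type*} [Group G] {S : Set (Subgroup G)} (hS : Cfsg.IsRootSubgroupSet S)
    {A B C : Subgroup G} (hA : A ∈ S) (hB : B ∈ S) (hC : C ∈ S) (hAB : ⁅A, B⁆ ∈ S) (hBC : ⁅B, C⁆ ∈ S)
    (hAC : C ∈ Cfsg.commutingPartners S A)
    {b : G} (hb : b ∈ B) (hb1 : b ≠ 1) :
    ((IsMulCommutative ↥(A ⊔ Cfsg.conjBy C b⁻¹) ∧ IsMulCommutative ↥(Cfsg.conjBy A b⁻¹ ⊔ C)) ∨
      ((¬ IsMulCommutative ↥(A ⊔ Cfsg.conjBy C b⁻¹) ∧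
          ⁅⁅A ⊔ Cfsg.conjBy C b⁻¹, A ⊔ Cfsg.conjBy C b⁻¹⁆, A ⊔ Cfsg.conjBy C b⁻¹⁆ = ⊥) ∧
        (¬ IsMulCommutative ↥(Cfsg.conjBy A b⁻¹ ⊔ C) ∧
          ⁅⁅Cfsg.conjBy A b⁻¹ ⊔ C, Cfsg.conjBy A b⁻¹ ⊔ C⁆, Cfsg.conjBy A b⁻¹ ⊔ C⁆ = ⊥))) ∧
    ⁅A ⊔ Cfsg.conjBy C b⁻¹, Cfsg.conjBy A b⁻¹ ⊔ C⁆ = ⊥ ∧
    (∀ r ∈ A ⊔ B ⊔ C, Cfsg.conjBy ((A ⊔ Cfsg.conjBy C b⁻¹) ⊔ (Cfsg.conjBy A b⁻¹ ⊔ C)) r =
      (A ⊔ Cfsg.conjBy C b⁻¹) ⊔ (Cfsg.conjBy A b⁻¹ ⊔ C)) ∧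
    ((A ⊔ Cfsg.conjBy C b⁻¹) ⊔ (Cfsg.conjBy A b⁻¹ ⊔ C)) ⊔ B = A ⊔ B ⊔ C ∧
    Group.IsNilpotent ↥(A ⊔ B ⊔ C) := by
  have h1 := rs_sc_of_mem hS hA hB hAB
  have h2 := (rs_sc_of_mem hS hB hC hBC).symm
  have hc : Cm A C := cm_iff.2 hAC.2.2
  change ((IsMulCommutative ↥(A ⊔ C ^~ b) ∧ IsMulCommutative ↥(A ^~ b ⊔ C)) ∨
      ((¬ IsMulCommutative ↥(A ⊔ C ^~ b) ∧ ⁅⁅A ⊔ C ^~ b, A ⊔ C ^~ b⁆, A ⊔ C ^~ b⁆ = ⊥) ∧
        (¬ IsMulCommutative ↥(A ^~ b ⊔ C) ∧ ⁅⁅A ^~ b ⊔ C, A ^~ b ⊔ C⁆, A ^~ b ⊔ C⁆ = ⊥))) ∧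
    ⁅A ⊔ C ^~ b, A ^~ b ⊔ C⁆ = ⊥ ∧
    (∀ r ∈ A ⊔ B ⊔ C, Cfsg.conjBy ((A ⊔ C ^~ b) ⊔ (A ^~ b ⊔ C)) r = (A ⊔ C ^~ b) ⊔ (A ^~ b ⊔ C)) ∧
    ((A ⊔ C ^~ b) ⊔ (A ^~ b ⊔ C)) ⊔ B = A ⊔ B ⊔ C ∧ Group.IsNilpotent ↥(A ⊔ B ⊔ C)
  have eN : (A ⊔ C ^~ b) ⊔ (A ^~ b ⊔ C) = (A ⊔ ⁅A, B⁆) ⊔ (C ⊔ ⁅B, C⁆) := by
    rw [← h1.sup_rc hb hb1, ← h2.sup_rc hb hb1]
    ac_rfl
  have cmiff : ∀ {b : G}, b ∈ B → b ≠ 1 → (Cm A (C ^~ b) ↔ Cm A ⁅B, C⁆) := by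
    intro b hb hb1
    constructor
    · intro h
      exact (hc.sup_right h).mono le_rfl (le_sup_right.trans (h2.sup_rc hb hb1).symm.le)
    · intro h
      exact (hc.sup_right h).mono le_rfl (h2.symm.rc_le hb)
  have cmXY : Cm A (C ^~ b) ↔ Cm (A ^~ b) C := by
    rw [cmiff hb hb1, ← cmiff (B.inv_mem hb) (inv_ne_one.2 hb1)]
    constructor
    · intro h
      have := h.rc b
      rwa [rc_inv_rc] at this
    · intro h
      have := h.rc b⁻¹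
      rwa [rc_rc_inv] at this
  have ab : ∀ {P Q : Subgroup G}, P ∈ S → Q ∈ S → (IsMulCommutative ↥(P ⊔ Q) ↔ Cm P Q) := by
    intro P Q hP hQ
    rw [← cm_self_iff]
    exact ⟨fun h => h.mono le_sup_left le_sup_right,
      fun h => ((rs_cm hS hP).sup_left h.symm).sup_right (h.sup_left (rs_cm hS hQ))⟩
  refine ⟨?_, ?_, ?_, ?_, triple_nilpotent hS hA hB hC hc h1 h2⟩
  · rw [ab hA (rs_rc hS hC b), ab (rs_rc hS hA b) hC, ← cmXY]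
    by_cases h : Cm A (C ^~ b)
    · exact Or.inl ⟨h, h⟩
    · refine Or.inr ⟨⟨h, ?_⟩, h, ?_⟩
      · rcases rs_tri hS hA (rs_rc hS hC b) with h3 | h3 | h3
        · exact absurd h3 h
        · exact absurd (r1_symm h3) (not_r1_triple hS hA hc h2 hb hb1 hC)
        · exact class_two (rs_cm hS hA) (rs_cm hS (rs_rc hS hC b)) h3
      · rcases rs_tri hS (rs_rc hS hA b) hC with h3 | h3 | h3
        · exact absurd (cmXY.2 h3) h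
        · exact absurd h3 (not_r1_triple hS hC hc.symm h1 hb hb1 hA)
        · exact class_two (rs_cm hS (rs_rc hS hA b)) (rs_cm hS hC) h3
  · exact cm_iff.1 (((h1.symm.cm_rc hS hA hb).sup_right hc).sup_left
      ((hc.rc b).symm.sup_right (h2.symm.cm_rc hS hC hb).symm))
  · intro r hr
    rw [conjBy_eq_rc]
    have hB' : ∀ x ∈ B, ((A ⊔ C ^~ b) ⊔ (A ^~ b ⊔ C)) ^~ x = (A ⊔ C ^~ b) ⊔ (A ^~ b ⊔ C) := by
      have aux : ∀ {A E : Subgroup G}, Sc S A B E → ∀ x ∈ B, (A ⊔ E) ^~ x = A ⊔ E := by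
        intro A E h x hx
        have k : ∀ x ∈ B, (A ⊔ E) ^~ x ≤ A ⊔ E := fun x hx => by
          rw [rc_sup, h.cB.rc_eq hx]
          exact sup_le (h.symm.rc_le hx) le_sup_right
        refine le_antisymm (k x hx) ?_
        have := rc_mono (k _ (B.inv_mem hx)) x
        rwa [rc_inv_rc] at this
      intro x hx
      rw [eN, rc_sup, aux h1 x hx, aux h2 x hx]
    exact rc_eq_of_sup (rc_eq_of_sup (fun a ha => rc_of_mem (Subgroup.mem_sup_left (Subgroup.mem_sup_left ha))) hB')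
      (fun c hc => rc_of_mem (Subgroup.mem_sup_right (Subgroup.mem_sup_right hc))) _ (inv_mem hr)
  · refine le_antisymm (sup_le (sup_le (sup_le (le_sup_left.trans le_sup_left) ?_) (sup_le ?_ le_sup_right))
      (le_sup_right.trans le_sup_left)) (sup_le (sup_le (le_sup_left.trans (le_sup_left.trans le_sup_left))
      le_sup_right) (le_sup_right.trans (le_sup_right.trans le_sup_left)))
    · exact rc_le_of_mem le_sup_right (Subgroup.mem_sup_left (Subgroup.mem_sup_right hb))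
    · exact rc_le_of_mem (le_sup_left.trans le_sup_left) (Subgroup.mem_sup_left (Subgroup.mem_sup_right hb))

end Cfsg.Agent.S5030
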