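import Cfsg.Statements.S5031
import Cfsg.Agent.H90.Root3

set_option autoImplicit false
open Cfsg

namespace Cfsg.Agent.S5031
open Cfsg.Agent.H90


/-- Let S be a set of abstract root subgroups of G and let A, B ∈ S lie in different connected components of the graph of rank one pairs on S, each component having more than one member. Then B is not a line partner of A. -/
theorem result {G : Type*} [Group G] {S : Set (Subgroup G)} (hS : Cfsg.IsRootSubgroupSet S)
    {A B : Subgroup G} (hA : A ∈ S) (hB : B ∈ S)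
    (hne : Cfsg.componentOf (Cfsg.FAdj S) S A ≠ Cfsg.componentOf (Cfsg.FAdj S) S B)
    (hA2 : ∃ A' ∈ Cfsg.componentOf (Cfsg.FAdj S) S A, A' ≠ A) (hB2 : ∃ B' ∈ Cfsg.componentOf (Cfsg.FAdj S) S B, B' ≠ B) :
    B ∉ Cfsg.linePartners S A := by
  intro hl
  rw [ln_iff] at hl
  obtain ⟨A', hA', hne1⟩ := hA2
  obtain ⟨B', hB', hne2⟩ := hB2
  obtain ⟨D, hD, hAD⟩ := Conn.partner_of_ne hA'.2 hne1
  obtain ⟨E, hE, hBE⟩ := Conn.partner_of_ne hB'.2 hne2
  have hnc : ¬ Conn S A B := by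
    intro hc
    apply hne
    ext X
    exact ⟨fun h => ⟨h.1, (Conn.symm' hc).trans h.2⟩, fun h => ⟨h.1, Relation.ReflTransGen.trans hc h.2⟩⟩
  have h1 : ¬ IsRankOnePair B D := fun h =>
    hnc ((conn_of_r1 hA hD hAD).trans (conn_of_r1 hD hB (r1_symm h)))
  have h2 : ¬ IsRankOnePair A E := fun h =>
    hnc ((conn_of_r1 hA hE h).trans (conn_of_r1 hE hB (r1_symm hBE)))
  obtain ⟨a, ha, ha1⟩ := rs_exists_ne_one hS hA
  obtain ⟨b, hb, hb1⟩ := rs_exists_ne_one hS hB
  have hab : a * b ≠ 1 := fun e => hl.ne (hl.disj B hB A hA le_sup_right le_sup_left b hb1 hb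
    (by rw [eq_inv_of_mul_eq_one_right e]; exact A.inv_mem ha))
  obtain ⟨P, hP, hle, hx⟩ := hl.cover _ (Subgroup.mul_mem_sup ha hb) hab
  have hPB : P ≠ B := by
    rintro rfl
    exact hl.ne (hl.disj P hP A hA le_sup_right le_sup_left a ha1 (by simpa using P.mul_mem hx (P.inv_mem hb)) ha)
  have hPA : P ≠ A := by
    rintro rfl
    exact hl.ne (hl.disj B hB P hP le_sup_right le_sup_left b hb1 hb (by simpa using P.mul_mem (P.inv_mem ha) hx))
  have h3 := hl.r1_of_ne hS hA hD hAD h1 hP hle hPB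
  have h4 := (hl.symm hA).r1_of_ne hS hB hE hBE h2 hP (by rwa [sup_comm]) hPA
  exact hnc ((((conn_of_r1 hA hD hAD).trans (conn_of_r1 hD hP (r1_symm h3))).trans
    (conn_of_r1 hP hE h4)).trans (conn_of_r1 hE hB (r1_symm hBE)))

end Cfsg.Agent.S5031
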