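import Cfsg.Statements.S5051
import Cfsg.Agent.H5.OT1
import Cfsg.Agent.S0206
-- import your own Cfsg.Agent.* helpers here

set_option autoImplicit false
open Cfsg

namespace Cfsg.Agent.S5051
open Cfsg.Agent.H90 Cfsg.Agent.H5 Subgroup

/-- Let G be a finite group generated by a set D of odd transpositions, d ∈ D, x ∈ D with dx of odd order greater than 1, and X the subgroup generated by x together with the members of D having the same commuting members as d. Then X/O₂(X) is isomorphic to L₂(q) or Sz(q) for a power q > 2 of 2, or is a dihedral group. -/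
theorem result {G : Type*} [Group G] [Finite G] {D : Set G} (hD : Cfsg.IsOddTranspositionSet D) {d x : G} (hd : d ∈ D)
    (hx : x ∈ Cfsg.oddPartners D d) :
    (∃ (F : Type) (_ : Field F) (_ : Fintype F), CharP F 2 ∧ 4 ≤ Fintype.card F ∧
      Nonempty ((↥(Subgroup.closure (Cfsg.sameCommutingClass D d ∪ {x})) ⧸
        Cfsg.pCore 2 ↥(Subgroup.closure (Cfsg.sameCommutingClass D d ∪ {x}))) ≃* Matrix.ProjectiveSpecialLinearGroup (Fin 2) F)) ∨
    Cfsg.Lie.IsoSuzuki ((↥(Subgroup.closure (Cfsg.sameCommutingClass D d ∪ {x})) ⧸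
        Cfsg.pCore 2 ↥(Subgroup.closure (Cfsg.sameCommutingClass D d ∪ {x})))) ∨
    (∃ n : ℕ, Nonempty ((↥(Subgroup.closure (Cfsg.sameCommutingClass D d ∪ {x})) ⧸
        Cfsg.pCore 2 ↥(Subgroup.closure (Cfsg.sameCommutingClass D d ∪ {x}))) ≃* DihedralGroup n)) := by
  
  have h := ot_of hD
  obtain ⟨hxD, o⟩ := mem_oddPartners.1 hx
  rw [← Bl_eq_same]
  set X := closure (Bl D d ∪ {x}) with hX
  let π := QuotientGroup.mk' (pCore 2 X)
  have hk : IsPGroup 2 π.ker := by rw [QuotientGroup.ker_mk']; exact H22.isPGroup_pCore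
  have h1 := h.res X
  have h2 := h1.map (QuotientGroup.mk'_surjective (pCore 2 X)) fun y => h.res_ne_one
  let d' : X := ⟨d, subset_closure (Or.inl (mem_Bl_self hd))⟩
  let x' : X := ⟨x, subset_closure (Or.inr rfl)⟩
  have hx' : x' ∈ Res D X := ⟨hxD, d', hd, o.symm⟩
  have hE : ∀ e : X, (e : G) ∈ Bl D d → e ∈ Res D X := fun e he => ⟨he.1, x', hxD, h.od_Bl he hd hxD o⟩
  have hd' := hE d' (mem_Bl_self hd)
  have hB : ∀ e : X, (e : G) ∈ Bl D d → π e ∈ Bl (π '' Res D X) (π d') := fun e he => ⟨⟨e, hE e he, rfl⟩, by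
    rintro _ ⟨y, hy, rfl⟩
    have k : ∀ e ∈ Res D X, (π y * π e = π e * π y ↔ (y : G) * e = e * y) := fun e he =>
      ⟨fun c => congrArg Subtype.val (h1.comm_of_map hk hy he c), fun c => by
        rw [← map_mul, ← map_mul]; exact congrArg π (Subtype.ext c)⟩
    rw [k e (hE e he), k d' hd']
    exact he.2 _ hy.1⟩
  have o' : Od (π d') (π x') := (h2.odd _ ⟨_, hd', rfl⟩ _ ⟨_, hx', rfl⟩).resolve_left fun c =>
    h.od_not_comm hd hxD o (congrArg Subtype.val (h1.comm_of_map hk hd' hx' c))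
  have hG : closure (Bl (π '' Res D X) (π d') ∪ {π x'}) = ⊤ := by
    rw [eq_top_iff, ← closure_map_top (closure_preimage_eq_top (Bl D d ∪ {x})) (QuotientGroup.mk'_surjective _)]
    refine closure_mono ?_
    rintro _ ⟨y, hy | hy, rfl⟩
    · exact Or.inl (hB y hy)
    · exact Or.inr (congrArg π (Subtype.ext hy))
  by_cases hf : ∃ f ∈ Bl (π '' Res D X) (π d'), f ≠ π d'
  · obtain ⟨f, hf, hne⟩ := hf
    rcases h2.bender H22.pCore_quotient_pCore ⟨_, hd', rfl⟩ ⟨_, hx', rfl⟩ o' hG hf hne (eq_top_iff.2 (hG ▸ closure_mono (by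
      rintro y (hy | rfl); exacts [hy.1, ⟨_, hx', rfl⟩]))) with ⟨q, F, _, _, n, h3, -, h4, e⟩ | c
    · have : Fact (Nat.Prime 2) := ⟨Nat.prime_two⟩
      exact Or.inl ⟨F, inferInstance, inferInstance, charP_of_card_eq_prime_pow h4,
        h4 ▸ Nat.pow_le_pow_right (n := 2) two_pos h3, e⟩
    · exact Or.inr (Or.inl c)
  · push Not at hf
    obtain ⟨e⟩ := S0206.result _ _ (h2.ord ⟨_, hd', rfl⟩) (h2.ord ⟨_, hx', rfl⟩) o'.1
    refine Or.inr (Or.inr ⟨_, ⟨(topEquiv.symm.trans (MulEquiv.subgroupCongr ?_)).trans e⟩⟩)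
    refine (eq_top_iff.2 (hG ▸ closure_mono ?_)).symm
    rintro y (hy | rfl)
    exacts [Or.inl (hf y hy), Or.inr rfl]

end Cfsg.Agent.S5051
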