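import Cfsg.Statements.S2132
import Cfsg.Agent.AN.M
import Cfsg.Agent.MC3.FinA
import Cfsg.Agent.H14.CentIso
import Cfsg.Agent.H14.Classes

set_option autoImplicit false
open Cfsg

namespace Cfsg.Agent.S2132

open Cfsg.Agent.AN Cfsg.Agent.H14 Cfsg.Agent.AN.MD Subgroup Equiv

def Pg : ℕ := nat_lit 0x304b1065c4020ecf2825d26692f3e4e4a1811ed62fe7200110a5623d4c90574ab61a8d3443d388609b55e4bc44995f8023f359c2f3481386443163744e675443a107d3596d028e821c0ac443b258c6d851aa4208c3a1887ee20539cfe0878b1c5015530c08218078f944d775134481a0687108b45b449b911851815ee51732d1ebb1eb0160c55d1250b037636966ee37bb40af85eac990b71cab8983115a75a2527fc25a8df27a7a16a44026c18873b9e53e6a00878a31036950f4942988cb47112a4558611a95408ef4c15c3ecc7eaf994782eb8134db4ac3192cd1e01cd81261a9c6e17612fdccf4259085ad3330658c3825101ee2a3aa80b8fa2286c2882072acb221370880c267d8e973016caa8bed01a059247c453ad6a29719201233743c1bc831033806f6692647673088748c0b458d88e2f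
def Pw : ℕ := nat_lit 0x2b1070a75c39aad285c4148714a948b8223db6df6f57fa98f2a780ad564ee7baf6007f47995e2f045be0d81987b2154e867080e8397005412e3450ccaa7881368d04d2014e1a8d40c3108592839d74cc139500eea638bc8c0e55a004857412f9ec1b1ab34289b23895f4a8183e5305a1087c191261ba41eb47e3f94b094ca89424f488e8989c5c26946b14b25e0e90499a93e94798fda84377b7c8a044396046d188afda6c27a1585c7c81989fadc2e8b4eae53987610703799cbeed2da48d2d9370dde464089e8903436840ef0535ac1a086601f9baca6b41804cf50079b09d2586816615bb15120a4609878d7470f800411da79c818330a976606f00c62b3631f4ec08158d82c17659096cc142c115ee657138e4055e129d838140a5c4b909848c65e54b101aad24911c22c64818388819144023d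
def Os : List ℕ := [nat_lit 0x480080830100040010804000002614080080102982100000080048020800000c2042, nat_lit 0x48000081010004000080000000241008000000088010000008000000080000000000, nat_lit 0x48000000000000000000000000040008000000088000000000000000000000000000, nat_lit 0x81000004000080000000200000000000000010000000000000000000000000, nat_lit 0x20000000000000000000000000000000000000000, nat_lit 0x2000000000000001]

theorem up : upI (nat_lit 9) (nat_lit 512) (nat_lit 275) cML 0 ([Pw].map fun X => (X, X)) [] Os = true := by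
  decide +kernel

instance : Fact (E.pk (E.perm Pg) = Pg) := ⟨E.pk_perm (by decide +kernel)⟩
instance : Fact (E.pk (E.perm Pw) = Pw) := ⟨E.pk_perm (by decide +kernel)⟩

theorem z_comm (c : M8) : c * z8 = z8 * c := by
  have := DFunLike.congr_fun (hom_ext8 (f := (MulAut.conj z8).toMonoidHom) (g := MonoidHom.id _)
    fun i hi => mul_inv_eq_of_eq_mul (car_mg.cz i hi).symm) c
  exact (eq_mul_of_mul_inv_eq this).symm

theorem cen_eq : M ⊓ centralizer {(z8 : S275)} = M8 := by
  have h1 : Nat.card ↥(M ⊓ centralizer {E.perm Pw}) ≤ 40320 :=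
    (chM.card_centralizer_le (E.fixes_zero _) up (by simp)).trans (by decide +kernel)
  have h2 : E.perm Pg * (z8 : S275) * (E.perm Pg)⁻¹ = E.perm Pw := peq _ _ (by decide +kernel)
  rw [← h2, card_centralizer_conj (pmem chM _ (by decide +kernel)), ← card_M8] at h1
  exact (eq_of_le_of_card_ge (le_inf M8_le fun c hc => mem_centralizer_singleton_iff.2
    (congrArg Subtype.val (z_comm ⟨c, hc⟩))) h1).symm

theorem ev8 (g : M8) : Perm.sign (π8 g) = 1 := by
  have : (⊤ : Subgroup M8) ≤ (alternatingGroup (Fin 8)).comap π8 := by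
    rw [← closure_mg, closure_le]
    rintro _ ⟨i, hi, rfl⟩
    show π8 (mg i) ∈ alternatingGroup (Fin 8)
    rw [π8_mg i hi]
    exact Perm.mem_alternatingGroup.2 (H3.sign_c3 (by decide) (S8_ne i hi).1)
  exact this (mem_top g)

theorem sc8 : MC3.SC π8 z8 := by
  refine ⟨sne _ _ (by decide +kernel), fun g => ⟨π8_ker, ?_⟩, fun σ hσ => ?_,
    mg 2, mg 3, car_mg.cube 2 (by decide), car_mg.cube 3 (by decide),
    car_mg.pair 2 (by decide) 3 (by decide) (by decide)⟩
  · rintro (rfl | rfl)
    exacts [map_one _, π8_z]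
  · exact H3.Alt_le (K := π8.range) 0 1 (fun i _ h0 h1 => ⟨mg i, π8_mg i (mem_S8 i h0 h1)⟩)
      (H67.mem_Alt_support hσ)

theorem conj8 {x : M8} (hx : x ^ 2 = 1) (h1 : x ≠ 1) : IsConj (inc x) (inc z8) := by
  by_cases hz : x = z8
  · rw [hz]
  obtain ⟨k, hk⟩ := (sc8.dc ev8).inv_conj (by simp) hx h1 hz (y := x8 * z8) (seq _ _ (by decide +kernel))
    (sne _ _ (by decide +kernel)) (sne _ _ (by decide +kernel))
  refine (inc.map_isConj (isConj_iff.2 ⟨k, hk⟩)).trans (IsConj.symm (isConj_iff.2 ⟨rM, ?_⟩))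
  exact seq _ _ (by decide +kernel)

theorem conjM {x : M} (hx : orderOf x = 2) : IsConj x (inc z8) := by
  have : Fact (Nat.Prime 2) := ⟨Nat.prime_two⟩
  have : Finite M := Nat.finite_of_card_ne_zero (by rw [card_M]; decide)
  have hi : ¬ 2 ∣ inc.range.index := by
    have h1 := inc.range.index_mul_card
    rw [← Nat.card_congr (inc.ofInjective (inclusion_injective _)).toEquiv, card_M8, card_M] at h1
    omega
  obtain ⟨g, hg⟩ : ∃ g : M, g⁻¹ * x * g ∈ inc.range := by
    have h2 : IsPGroup 2 (zpowers x) := IsPGroup.of_card (n := 1) (by rw [Nat.card_zpowers, hx]; rfl)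
    obtain ⟨a, ha⟩ := h2.nonempty_fixed_point_of_prime_not_dvd_card (M ⧸ inc.range) hi
    obtain ⟨g, rfl⟩ := QuotientGroup.mk_surjective a
    have := ha ⟨x, mem_zpowers x⟩
    refine ⟨g, ?_⟩
    have h3 : ((x * g : M) : M ⧸ inc.range) = g := this
    have h4 := QuotientGroup.eq.1 h3.symm
    rwa [← mul_assoc] at h4
  obtain ⟨c, hc⟩ := hg
  have h5 : IsConj x (inc c) := isConj_iff.2 ⟨g⁻¹, by rw [hc, inv_inv]⟩
  have h6 : orderOf c = 2 := by
    rw [← orderOf_injective inc (inclusion_injective _), ← hx]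
    obtain ⟨u, hu⟩ := h5
    exact (SemiconjBy.orderOf_eq _ hu).symm
  exact h5.trans (conj8 (h6 ▸ pow_orderOf_eq_one c) fun e => by simp [e] at h6)

theorem cenM : Nonempty (centralizer ({inc z8} : Set M) ≃* M8) :=
  let ⟨e⟩ := cent_subtype_equiv (inc z8); ⟨e.trans (MulEquiv.subgroupCongr cen_eq)⟩

/-- The McLaughlin group (as a two-vector stabiliser in the automorphism group of the rank-24 lattice) has a single conjugacy class of involutions, and the centraliser of an involution is a non-split double cover of the alternating group of degree 8. -/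
theorem result : (∀ x y : ↥Cfsg.Spor.McL, orderOf x = 2 → orderOf y = 2 → IsConj x y) ∧ ∃ t : ↥Cfsg.Spor.McL, orderOf t = 2 ∧ Cfsg.IsNonsplitDoubleCover ↥(Subgroup.centralizer ({t} : Set ↥Cfsg.Spor.McL)) ↥(alternatingGroup (Fin 8)) := by
  obtain ⟨e⟩ := exists_iso
  obtain ⟨f⟩ := cenM
  obtain ⟨u⟩ := H56.centralizer_equiv e (inc z8)
  refine ⟨fun x y hx hy => ?_, e (inc z8), ?_, ?_⟩
  · have := (e : M →* Spor.McL).map_isConj ((conjM (x := e.symm x) (by simpa using hx)).trans
      (conjM (x := e.symm y) (by simpa using hy)).symm)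
    simpa using this
  · rw [e.orderOf_eq, orderOf_injective inc (inclusion_injective _)]
    have : Fact (Nat.Prime 2) := ⟨Nat.prime_two⟩
    exact orderOf_eq_prime (by rw [sq]; exact car_mg.z2) sc8.ne
  · let v := u.symm.trans f
    exact (sc8.comp (ι := v.toMonoidHom) v.injective (τ' := v.symm z8) (by simp)
      fun g _ => v.surjective g).nonsplit fun g => ev8 _

end Cfsg.Agent.S2132
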