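import Cfsg.Statements.S4200
import Cfsg.Agent.H83.ClassCount

set_option autoImplicit false
open Cfsg

namespace Cfsg.Agent.S4200

open Cfsg.Agent.H83 Subgroup

theorem swap {X : Type*} [Group X] [Fintype X] (Y : Subgroup X) [Fintype Y] :
    ∑ x : X, Nat.card (Y ⊓ centralizer ({x} : Set X) : Subgroup X) =
      ∑ y : Y, Nat.card (centralizer ({(y : X)} : Set X)) := by
  classical
  have h1 : ∀ x : X, Nat.card (Y ⊓ centralizer ({x} : Set X) : Subgroup X) =
      ∑ y : Y, if (y : X) * x = x * y then 1 else 0 := by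
    intro x
    rw [← Finset.card_filter, ← Fintype.card_subtype, ← Nat.card_eq_fintype_card]
    exact Nat.card_congr ⟨fun a => ⟨⟨a.1, a.2.1⟩, mem_cent.mp a.2.2⟩,
      fun a => ⟨a.1.1, a.1.2, mem_cent.mpr a.2⟩, fun _ => rfl, fun _ => rfl⟩
  have h2 : ∀ y : Y, Nat.card (centralizer ({(y : X)} : Set X)) =
      ∑ x : X, if (y : X) * x = x * y then 1 else 0 := by
    intro y
    rw [← Finset.card_filter, ← Fintype.card_subtype, ← Nat.card_eq_fintype_card]
    exact Nat.card_congr (Equiv.subtypeEquivRight fun x => by rw [mem_cent, eq_comm])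
  simp only [h1, h2]
  exact Finset.sum_comm

/-- Let Y be a subgroup of the finite group X, of index m. Then the numbers of conjugacy classes satisfy k(Y) ≤ m·k(X) and k(X) ≤ m·k(Y), and the second inequality is strict unless Y is normal in X. -/
theorem result {X : Type*} [Group X] [Finite X] (Y : Subgroup X) : Nat.card (ConjClasses Y) ≤ Y.index * Nat.card (ConjClasses X) ∧ Nat.card (ConjClasses X) ≤ Y.index * Nat.card (ConjClasses Y) ∧ (¬ Y.Normal → Nat.card (ConjClasses X) < Y.index * Nat.card (ConjClasses Y)) := by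
  classical
  have := Fintype.ofFinite X
  have hX := card_conjClasses_mul (G := X)
  have hY := card_conjClasses_mul (G := Y)
  have hXY := Y.card_mul_index
  have hpos : 0 < Nat.card Y := Nat.card_pos
  have hposX : 0 < Nat.card X := Nat.card_pos
  have h2 : ∑ x : X, Nat.card (centralizer ({x} : Set X)) ≤
      Y.index * ∑ y : Y, Nat.card (centralizer ({(y : X)} : Set X)) := by
    rw [← swap, Finset.mul_sum]
    exact Finset.sum_le_sum fun x _ => card_le_index_mul_card_inf _ _
  have h3 : ∀ y : Y, Nat.card (centralizer ({(y : X)} : Set X)) ≤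
      Y.index * Nat.card (centralizer ({y} : Set Y)) := fun y => by
    rw [card_cent_subgroup]; exact card_le_index_mul_card_inf _ _
  have e : Y.index * (Y.index * ∑ y : Y, Nat.card (centralizer ({y} : Set Y))) =
      Y.index * Nat.card (ConjClasses Y) * Nat.card X := by
    rw [← hY, ← hXY]; ring
  refine ⟨?_, ?_, fun hn => ?_⟩
  · apply Nat.le_of_mul_le_mul_right _ hpos
    rw [hY, mul_comm Y.index, mul_assoc, mul_comm Y.index, hXY, hX]
    calc ∑ y : Y, Nat.card (centralizer ({y} : Set Y))
        ≤ ∑ y : Y, Nat.card (centralizer ({(y : X)} : Set X)) :=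
          Finset.sum_le_sum fun y _ => by
            rw [card_cent_subgroup]; exact card_le_of_le inf_le_right
      _ = ∑ x ∈ Finset.univ.map ⟨Subtype.val, Subtype.val_injective⟩,
            Nat.card (centralizer ({x} : Set X)) := by rw [Finset.sum_map]; rfl
      _ ≤ _ := Finset.sum_le_sum_of_subset (Finset.subset_univ _)
  · apply Nat.le_of_mul_le_mul_right _ hposX
    rw [hX, ← e]
    refine h2.trans (Nat.mul_le_mul_left _ ?_)
    rw [Finset.mul_sum]
    exact Finset.sum_le_sum fun y _ => h3 y
  · apply Nat.lt_of_mul_lt_mul_right (a := Nat.card X)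
    rw [hX, ← e]
    refine h2.trans_lt (Nat.mul_lt_mul_of_pos_left ?_
      (Nat.pos_of_ne_zero index_ne_zero_of_finite))
    rw [Finset.mul_sum]
    refine Finset.sum_lt_sum (fun y _ => h3 y) ?_
    by_contra hcon
    push Not at hcon
    apply hn
    constructor
    intro y hy g
    have h4 := hcon ⟨y, hy⟩ (Finset.mem_univ _)
    have h5 : cs(y) ≤ cs((⟨y, hy⟩ : Y)) := by
      have e1 := card_cent_mul_cs y
      have e2 := card_cent_mul_cs (⟨y, hy⟩ : Y)
      apply Nat.le_of_mul_le_mul_left (c := Y.index * Nat.card (centralizer ({⟨y, hy⟩} : Set Y))) _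
        (Nat.mul_pos (Nat.pos_of_ne_zero index_ne_zero_of_finite) Nat.card_pos)
      rw [mul_assoc _ _ (cs((⟨y, hy⟩ : Y))), e2, mul_comm Y.index (Nat.card Y), hXY, ← e1]
      exact Nat.mul_le_mul_right _ h4
    rw [← card_isConj, ← card_isConj] at h5
    let f : {z : Y // IsConj (⟨y, hy⟩ : Y) z} → {z : X // IsConj y z} :=
      fun z => ⟨z.1, Y.subtype.map_isConj z.2⟩
    have hf : Function.Injective f := fun a b hab =>
      Subtype.ext (Subtype.ext (congrArg (fun z : {z : X // IsConj y z} => z.1) hab))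
    obtain ⟨z, hz⟩ := (hf.bijective_of_nat_card_le h5).2 ⟨g * y * g⁻¹, isConj_iff.mpr ⟨g, rfl⟩⟩
    have : (z.1 : X) = g * y * g⁻¹ := congrArg Subtype.val hz
    exact this ▸ z.1.2

end Cfsg.Agent.S4200
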