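import Cfsg.Statements.S5383
import Cfsg.Agent.S1719
import Cfsg.Agent.H80.SylNet
import Cfsg.Agent.H28.Pgl2Trace

set_option autoImplicit false
open Cfsg

namespace Cfsg.Agent.S5383


open Subgroup H58 H58.SuzP H80 H96

set_option maxRecDepth 100000
set_option exponentiation.threshold 400000

/-- `y` of order 7, `a`, `b` generating `A₄`, `n` normalising `⟨y⟩`, `w` not normalising it -/
def ws : List (List ℕ) := [[1, 2, 3, 2, 4, 3, 2, 4, 5],
  [2, 7, 4, 5, 1, 2, 3, 4, 3, 2, 7, 6, 2, 3, 4, 3, 2, 6, 1, 2, 5, 4],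
  [6, 2, 3, 4, 3, 2, 6, 7, 2, 3, 4, 3, 2, 7, 6, 2, 3, 4, 3, 2, 6, 1, 2, 1, 2, 3, 2, 4, 3, 2, 4, 5, 4,
    3, 2, 1, 2, 4, 3, 2, 5, 4],
  [2, 1, 2, 3, 4, 3, 2, 1, 2, 4, 3, 4, 5, 4, 3], [2, 1, 2, 4, 3, 2, 1, 2, 4],
  [4, 2, 1, 2, 3, 4, 2, 1, 2]]

def prs : List (List ℕ × List ℕ) := [([0, 0, 0, 0, 0, 0, 0], []), ([1, 1, 1], []), ([2, 2], []),
  ([1, 2, 1, 2, 1, 2], []), ([0, 1], [1, 0]), ([0, 2], [2, 0]), ([3, 0], [0, 0, 0, 3]), ([5, 4], [])]

theorem c1 : ∀ t < 11, eqsAt SuzM.nets 1782 11 (prs.map fun p => (sub ws p.1, sub ws p.2)) t = 0 := by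
  decide +kernel

theorem c2 : fixM SuzM.nets 1782 11 (ws.getD 0 []) ||| maskOf [0, 237, 634, 995] =
    maskOf [0, 237, 634, 995] := by decide +kernel

theorem c3 : fixErr SuzM.nets [ws.getD 0 [], ws.getD 4 []] [634, 237, 995, 0] = 0 := by decide +kernel

theorem c4 : orbErr SuzM.nets [[1], [2], [3], [4], [5], [6]]
    [5, 1, 0, 2, 1, 3, 2, 0, 4, 1, 5, 3, 0, 2, 1, 5, 0, 3, 4, 1, 2, 0, 1] 995 11 416 = 0 := by
  decide +kernel

theorem c5 : fixErr SuzM.nets [[1], [2], [3], [4], [5]] [995, 0] = 0 ∧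
    orbErr SuzM.nets [[1], [2], [3], [4], [5]] [0, 1, 3, 4, 2, 3, 1, 0, 4, 1, 2, 1] 237 11 100 = 0 := by
  decide +kernel

def us : List (List ℕ) := [[1, 2, 1, 2, 1], [1, 2, 3, 2, 1], [2, 4, 3, 2, 4], [1, 4, 3, 2, 4, 5]]

theorem c6 : fixErr SuzM.nets us [237, 995, 0] = 0 ∧
    orbErr SuzM.nets us [0, 1, 2, 3, 1, 3, 0, 2, 3] 634 11 36 = 0 := by decide +kernel

theorem c7 : keepErr SuzM.nets [ws.getD 0 []] (maskOf [1, 44, 70, 367, 789, 947, 1090]) = 0 ∧
    appW SuzM.nets (sub ws [4, 0, 5]) (2 ^ 1609) = 2 ^ 1 ∧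
    appW SuzM.nets (ws.getD 0 []) (2 ^ 44) = 2 ^ 1 ∧
    appW SuzM.nets (ws.getD 1 []) (2 ^ 237) = 2 ^ 0 ∧
    orbEqErr SuzM.nets [ws.getD 1 [], ws.getD 2 []] [0, 0, 1] 0 11 4 = 0 := by decide +kernel

local notation "E" => lt (Model.el M) ws

theorem rels : E 0 ^ 7 = 1 ∧ E 1 ^ 3 = 1 ∧ E 2 ^ 2 = 1 ∧ (E 1 * E 2) ^ 3 = 1 ∧ Commute (E 0) (E 1) ∧
    Commute (E 0) (E 2) ∧ E 3 * E 0 * (E 3)⁻¹ = E 0 ^ 3 ∧ E 5 = (E 4)⁻¹ := by
  have h := rels_of M inj (by decide) c1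
  simp only [prs, List.forall_mem_cons, List.map, List.prod_cons, List.prod_nil, mul_one] at h
  simp only [mul_inv_eq_iff_eq_mul, eq_inv_iff_mul_eq_one]
  simp only [pow_succ, pow_zero, one_mul, mul_assoc]
  exact ⟨h.1, h.2.1, h.2.2.1, h.2.2.2.1, h.2.2.2.2.1, h.2.2.2.2.2.1, h.2.2.2.2.2.2.1, h.2.2.2.2.2.2.2.1⟩

theorem p7 : Fact (Nat.Prime 7) := ⟨by norm_num⟩

theorem ord : orderOf (E 0) = 7 :=
  have := p7
  orderOf_eq_prime rels.1 (M.wv_ne_one c7.2.2.1 (by decide))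

theorem card_K : Nat.card (M.fixK ⊤ [634, 237, 995, 0]) ≤ 168 :=
  have := SuzP.finite
  lev_le M c6.1 c6.2 (by decide) (lev_le M c5.1 c5.2 (by decide) (lev_le M fixH c4 (by decide)
    (lev_le M lf0 lo0 (by decide) (card_top.trans card_eq).le)))

theorem card_N (B : Sylow 7 Spor.Suz) (hB : (B : Subgroup Spor.Suz) = zpowers (E 0)) :
    Nat.card (normalizer ((B : Subgroup Spor.Suz) : Set Spor.Suz)) ≤ 504 := by
  have := SuzP.finite
  have := p7
  have hK := mem_fixK_of M c3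
  have hBK : (B : Subgroup Spor.Suz) ≤ M.fixK ⊤ [634, 237, 995, 0] :=
    hB ▸ zpowers_le.2 (hK _ List.mem_cons_self)
  set N := normalizer ((B : Subgroup Spor.Suz) : Set Spor.Suz) with hN
  have h1 : ∀ p ∈ [634, 237, 995, 0], ∀ l, ∀ x ∈ M.fixK N l, M.φ x p ∈ [0, 237, 634, 995] := by
    intro p hp l x hx
    have h2 := (mem_normalizer_iff''.1 (M.mem_fixK.1 hx).1 (E 0)).1 (hB ▸ mem_zpowers _)
    have h3 := conj_fix M (x := x) ((M.mem_fixK.1 (hBK h2)).2 p hp)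
    rw [show x * (x⁻¹ * E 0 * x) * x⁻¹ = E 0 by group] at h3
    exact mem_fixW M (by decide) c2 (perm_lt (M.φ_fix hgen x)
      ((by decide : ∀ p ∈ [634, 237, 995, 0], p < 1782) p hp)) h3
  refine step_le M (prev := []) _ (n := 4) (m := 126) (by decide) (h1 0 (by decide) _) <|
    step_le M _ (n := 3) (m := 42) (by decide) (h1 995 (by decide) _) <|
    step_le M _ (n := 2) (m := 21) (by decide) (h1 237 (by decide) _) <|
    step_le M _ (n := 1) (m := 21) (by decide) (h1 634 (by decide) _) ?_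
  have h2 := relIndex_mul_card' N (M.fixK ⊤ [634, 237, 995, 0])
  have h3 : N.relIndex _ % 7 = 1 := relIndex_normalizer_modEq B hBK
  have h4 : N.relIndex (M.fixK ⊤ [634, 237, 995, 0]) ≠ 1 := fun h => by
    have h5 := (mem_normalizer_iff.1 (relIndex_eq_one.1 h (hK (ws.getD 4 []) (by simp))) (E 0)).1
      (hB ▸ mem_zpowers _)
    have h6 := M.keep_clW c7.1 _ (zpowers_le.2 (wv_mem_clW _ List.mem_cons_self) (hB ▸ h5)) 1
    have h7 := M.apply_wv' c7.2.1
    simp only [wv_sub, List.map, List.prod_cons, List.prod_nil, mul_one, rels.2.2.2.2.2.2.2] at h7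
    rw [mul_assoc] at h6
    exact absurd (h7 ▸ h6) (by decide +kernel)
  rw [fixK_eq]
  exact Nat.le_of_mul_le_mul_left ((Nat.mul_le_mul_right _ (show 8 ≤ _ by omega)).trans
    (h2.le.trans card_K)) (by decide)

theorem main (B : Sylow 7 Spor.Suz) (hB : (B : Subgroup Spor.Suz) = zpowers (E 0)) :
    Nonempty (centralizer ((B : Subgroup Spor.Suz) : Set Spor.Suz) ≃*
      Multiplicative (ZMod 7) × alternatingGroup (Fin 4)) ∧
    Nat.card (normalizer ((B : Subgroup Spor.Suz) : Set Spor.Suz)) = 504 := by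
  have := SuzP.finite
  have h0 := card_N B hB
  rw [hB] at h0 ⊢
  obtain ⟨r1, r2, r3, r4, r5, r6, r7, -⟩ := rels
  obtain ⟨χ, hχ⟩ := H28.exists_hom_alt4 r2 r3 r4
  have hc : ∀ g ∈ χ.range, Commute (E 0) g := fun g hg => by
    rw [hχ] at hg
    refine (mem_centralizer_singleton_iff.1 ((closure_le (centralizer {E 0})).2 ?_ hg)).symm
    rintro _ (rfl | rfl)
    exacts [mem_centralizer_singleton_iff.2 r5.symm, mem_centralizer_singleton_iff.2 r6.symm]
  let ψ := (cyc 7 _ r1).noncommCoprod χ fun s g => (hc _ ⟨g, rfl⟩).pow_left _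
  have mC : ∀ g, Commute (E 0) g → g ∈ centralizer (zpowers (E 0) : Set Spor.Suz) := by
    rintro g hg _ ⟨k, rfl⟩; exact hg.zpow_left k
  have h1 : ψ.range ≤ centralizer (zpowers (E 0) : Set Spor.Suz) := by
    rintro _ ⟨⟨s, g⟩, rfl⟩
    exact mC _ (((Commute.refl _).pow_right _).mul_right (hc _ ⟨g, rfl⟩))
  have h2 : χ.range ≤ ψ.range := by rintro _ ⟨g, rfl⟩; exact ⟨(1, g), one_mul _⟩
  have ha : E 1 ∈ ψ.range := h2 (hχ ▸ subset_closure (by simp))
  have h3 : 84 ∣ Nat.card ψ.range := by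
    refine Nat.Coprime.mul_dvd_of_dvd_of_dvd (m := 7) (n := 12) (by decide) ?_
      (Nat.Coprime.mul_dvd_of_dvd_of_dvd (m := 3) (n := 4) (by decide) ?_ ?_)
    · exact ord.symm.dvd.trans (ψ.range.orderOf_dvd_natCard ⟨(.ofAdd 1, 1),
        (congrArg₂ _ (cyc_one _ _ r1) χ.map_one).trans (mul_one _)⟩)
    · exact orderOf_eq_prime r2 (M.wv_ne_one c7.2.2.2.1 (by decide)) ▸ ψ.range.orderOf_dvd_natCard ha
    · refine (Dvd.intro _ (M.ncard_orb_eq c7.2.2.2.2 ▸ orb_mul_card M _ 0)).trans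
        (card_dvd_of_le (clW_le (forall_cons ha (forall_cons ?_ (forall_nil' _)))))
      exact h2 (hχ ▸ subset_closure (by simp; exact Or.inr rfl))
  have h4 : 84 ≤ Nat.card ψ.range := Nat.le_of_dvd Nat.card_pos h3
  have hn : E 3 ∈ normalizer (zpowers (E 0) : Set Spor.Suz) := 
    mem_normalizer_fintype (by
      rintro _ ⟨k, rfl⟩
      simp only [← conj_zpow, r7]
      exact zpow_mem (pow_mem (mem_zpowers _) _) _)
  have h5 : ∀ k : ℕ, E 3 ^ k * E 0 * (E 3 ^ k)⁻¹ = E 0 ^ 3 ^ k := fun k => by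
    induction k with
    | zero => simp
    | succ k ih => rw [pow_succ 3, pow_mul, ← ih, conj_pow, ← r7]; group
  have h6 := card_le_relIndex (X := centralizer (zpowers (E 0) : Set Spor.Suz))
    (fun i : Fin 6 => E 3 ^ i.1) (fun i => pow_mem hn _) fun i j h => by
      have h7 := h _ (mem_zpowers _)
      have h8 : E 0 ^ 3 ^ i.1 = E 0 ^ 3 ^ j.1 := by
        rw [← h5, ← h5]
        calc _ = E 3 ^ i.1 * (E 0 * ((E 3 ^ i.1)⁻¹ * E 3 ^ j.1)) * (E 3 ^ j.1)⁻¹ := by group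
          _ = _ := by rw [h7]; group
      rw [pow_eq_pow_iff_modEq, ord] at h8
      exact (by decide : ∀ i j : Fin 6, 3 ^ i.1 ≡ 3 ^ j.1 [MOD 7] → i = j) i j h8
  have h7 := relIndex_mul_card' (centralizer (zpowers (E 0) : Set Spor.Suz))
    (normalizer (zpowers (E 0) : Set Spor.Suz))
  rw [inf_eq_right.2 (centralizer_le_normalizer _)] at h7
  rw [Nat.card_fin] at h6
  have h8 := card_le_of_le h1
  have h9 : ψ.range = _ := eq_of_le_of_card_ge h1 (by nlinarith)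
  refine ⟨⟨(MulEquiv.subgroupCongr h9.symm).trans (MonoidHom.ofInjective
    (injective_of_card_le ψ ?_)).symm⟩, by nlinarith⟩
  rw [Nat.card_prod, H28.card_alt4]
  simpa using h4

/-- Let G be a finite group of Suzuki sporadic type (involution z with generalized Fitting subgroup Q of its centralizer C extraspecial of order 2^7, C/Q the commutator subgroup of the isometry group of the elliptic quadratic form in dimension 6 over the field with two elements, z not weakly closed in Q). Then for every Sylow 7-subgroup B of G, the centralizer of B is isomorphic to the direct product of a cyclic group of order 7 and the alternating group of degree 4, and the normalizer of B has order 504. -/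
theorem result {G : Type*} [Group G] [Finite G] (z : G) (hz : orderOf z = 2) (Q : Subgroup (Subgroup.centralizer ({z} : Set G))) [Q.Normal] (hF : Cfsg.generalizedFittingSubgroup (Subgroup.centralizer ({z} : Set G)) = Q) (hQ : Cfsg.IsExtraspecial 2 Q) (hcard : Nat.card Q = 2 ^ 7) (e : (Subgroup.centralizer ({z} : Set G)) ⧸ Q ≃* Cfsg.Omega (ZMod 2) (Cfsg.quadFormMinus 2 (ZMod 2) 1 1)) (hnwc : ∃ g : G, (∃ hq : g * z * g⁻¹ ∈ Subgroup.centralizer ({z} : Set G), (⟨g * z * g⁻¹, hq⟩ : Subgroup.centralizer ({z} : Set G)) ∈ Q) ∧ g * z * g⁻¹ ≠ z) (B : Sylow 7 G) : Nonempty (↥(Subgroup.centralizer ((B : Subgroup G) : Set G)) ≃* Multiplicative (ZMod 7) × alternatingGroup (Fin 4)) ∧ Nat.card ↥(Subgroup.normalizer ((B : Subgroup G) : Set G)) = 504 := by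
  obtain ⟨f⟩ := S1719.result z hz Q hF hQ hcard e hnwc
  have := SuzP.finite
  have := p7
  let B0 : Sylow 7 Spor.Suz := (IsPGroup.of_card (n := 1) ((Nat.card_zpowers _).trans ord)).toSylow
    (by rw [index_of_card (n := 64049356800) ((Nat.card_zpowers _).trans ord) card_eq (by norm_num)
      (by norm_num)]; decide)
  obtain ⟨F, hF⟩ := exists_equiv_sylow f B B0
  obtain ⟨⟨g⟩, h⟩ := main B0 rfl
  rw [← hF, ← map_centralizer] at g
  rw [← hF, ← map_equiv_normalizer_eq, card_map_of_injective F.injective] at h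
  exact ⟨⟨(F.subgroupMap _).trans g⟩, h⟩

end Cfsg.Agent.S5383
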