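import Cfsg.Statements.S2180
import Cfsg.Agent.H64.Cent

set_option autoImplicit false
open Cfsg

namespace Cfsg.Agent.S2180

open Cfsg.Lie Cfsg.Agent.H37 Cfsg.Agent.H40.PE

theorem ok : H64.CentOK chevG2 (2 : ℕ) [9] [9, 10, 11] [9, 10, 11, 6, 5] [7, 8] [1] [1] := by
  decide +kernel

theorem chk : H40.wcheck chevG2 2 ([(9, one)] ++ [(7, var 0), (8, var 1)])
    ([(7, var 0), (8, var 1)] ++ [(9, one), (10, var 0), (11, var 1)]) = true := by
  decide +kernel

/-- Centralizers of involutions in the Chevalley group G of type G₂ over a finite field F of characteristic two with at least four elements (this problem's root numbering for type G₂, from the Chevalley data module: a = p₁ short with index 7, b = p₂ long with index 6, −a = 4, −b = 5, 2a + b = 9, 3a + b = 10, 3a + 2b = 11; U generated by the positive root subgroups). For an element z of G with matrix x_{3a+2b}(1): the centralizer of z in G is generated by U and X_{−a}. For an element t of G with matrix x_{2a+b}(1): the centralizer of t in G is generated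 by X_{2a+b}, X_{3a+b}, X_{3a+2b}, X_b and X_{−b}. -/
theorem result {F : Type*} [Field F] [Fintype F] [CharP F 2] (hF : 4 ≤ Fintype.card F) (z t : GL Cfsg.Lie.chevG2.Idx F) (hz : (z : Matrix Cfsg.Lie.chevG2.Idx Cfsg.Lie.chevG2.Idx F) = Cfsg.Lie.chevG2.x F 11 1) (ht : (t : Matrix Cfsg.Lie.chevG2.Idx Cfsg.Lie.chevG2.Idx F) = Cfsg.Lie.chevG2.x F 9 1) :
    Cfsg.Lie.chevG2.group F ⊓ Subgroup.centralizer {z} = Cfsg.Lie.chevG2.posUnipotent F ⊔ Cfsg.Lie.chevG2.rootSubgroup F 4 ∧
    Cfsg.Lie.chevG2.group F ⊓ Subgroup.centralizer {t} = Cfsg.Lie.chevG2.rootSubgroup F 9 ⊔ Cfsg.Lie.chevG2.rootSubgroup F 10 ⊔ Cfsg.Lie.chevG2.rootSubgroup F 11 ⊔ Cfsg.Lie.chevG2.rootSubgroup F 6 ⊔ Cfsg.Lie.chevG2.rootSubgroup F 5 := by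
  have hD : IsChev chevG2 := by simp
  obtain ⟨inst⟩ := H37.nonempty_chev hD
  constructor
  · rw [H64.mg_centralizer hD F (θ := ⟨11, by decide⟩) (j := ⟨1, by decide⟩) (by decide +kernel)
      (H64.x_comm_top _) (by decide +kernel) (by decide +kernel) hz, H64.KJ, H38.mg_U,
      show chevG2.rootSubgroup F 4 = _ from H38.mg_rootSubgroup hD F ⟨4, by decide⟩]
    congr 2
    ext s
    simp only [Set.mem_ofPred_eq, Set.mem_singleton_iff, Fin.ext_iff, H38.rs_neg_val, H38.rs_sp_val]
    revert s
    decide +kernel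
  · have e : t = gword (matRel hD F).x ([9].map fun r => (r, 1)) :=
      Units.ext (by rw [H40.coe_gword, ht]; simp [ChevalleyDatum.wordMat])
    rw [e, H64.mg_cent hD F 2 ok ?_ ?_ ?_]
    · simp only [H64.US_cons hD F (by decide : 9 < chevG2.nroots),
        H64.US_cons hD F (by decide : 10 < chevG2.nroots), H64.US_cons hD F (by decide : 11 < chevG2.nroots),
        H64.US_cons hD F (by decide : 6 < chevG2.nroots), H64.US_cons hD F (by decide : 5 < chevG2.nroots),
        H64.US_nil, sup_bot_eq, sup_assoc]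
    · intro w hw h θ hθ
      have h1 := h θ hθ
      have h2 := H64.fun_W chevG2.isLong (by decide +kernel) hw θ
      generalize w θ = a at h1 h2
      revert a θ
      decide +kernel
    · intro c hc h i hi
      have h1 := h 9 (by simp)
      have h2 : i = ⟨0, by decide⟩ := by revert i; decide
      rw [show ∏ i, c i ^ chevG2.cartan i 9 = c ⟨0, by decide⟩ ^ chevG2.cartan 0 9 *
        c ⟨1, by decide⟩ ^ chevG2.cartan 1 9 from Fin.prod_univ_two _,
        show chevG2.cartan 0 9 = 1 by decide, show chevG2.cartan 1 9 = 0 by decide] at h1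
      simpa [h2] using h1
    · intro c hc
      have h1 := H40.gword_eq_of_check hD (p := 2) (by exact_mod_cast CharTwo.two_eq_zero) chk [c 7, c 8]
      simp only [H40.evW_append, H40.gword_append] at h1
      have h2 := H40.nf_inj hD (w := [(9, 1), (10, c 7), (11, c 8)]) (w' := [(9, 1), (10, 0), (11, 0)])
        rfl (show [9, 10, 11].Nodup by decide) (show ∀ r ∈ [9, 10, 11], _ by decide)
        (Or.inl (show ∀ r ∈ [9, 10, 11], _ by decide)) (mul_left_cancel (h1.symm.trans (hc.symm.trans (by
          simp [gword, H40.x_zero _ (by decide : 10 < chevG2.nroots),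
            H40.x_zero _ (by decide : 11 < chevG2.nroots), H40.evW, H40.PE.eval]))))
      simpa using h2

end Cfsg.Agent.S2180
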