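import Cfsg.Statements.S2034
import Cfsg.Agent.H63.MatUB

set_option autoImplicit false
open Cfsg

namespace Cfsg.Agent.S2034

/-- The Schur multiplier of the Mathieu group M₁₁ (the stabiliser of a dodecad and one of its points in the automorphism group of the length-24 binary code) is trivial; here the Schur multiplier is described through stem extensions, as in the definitions: surjective homomorphisms onto the group from a finite group, whose kernel is central in that finite group and contained in that finite group's commutator subgroup. -/
theorem result : Cfsg.HasCyclicSchurMultiplier ↥Cfsg.Spor.M11 1 := by
  refine H63.mult_trivial (H63.UB.of_PB_fac [(2, []), (3, [])] ?_ [(2, 4), (3, 2), (5, 1), (11, 1)] 7920 H14.card_M11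
    (by norm_num) (by simp only [List.forall_mem_cons]; norm_num))
  simp only [List.forall_mem_cons]
  exact ⟨H63.Mat.m11p2pb, H63.Mat.m11p3pb, by simp⟩

end Cfsg.Agent.S2034
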