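import Cfsg.Statements.S3709
import Cfsg.Agent.H77.UPhan

set_option autoImplicit false
open Cfsg

namespace Cfsg.Agent.S3709

/-- Recognition of unitary groups from a weak Phan system. Let F be a finite field with q² elements, q > 3, and n ≥ 3. Let G be a group with subgroups U_0, …, U_{n−1}, each isomorphic to SU(2, q²), and, for each pair of consecutive indices, a subgroup V_{i,i+1} in which U_i and U_{i+1} form a standard pair (some isomorphism from SU(3, q²), or from its central quotient PSU(3, q²), onto V_{i,i+1} carries the two block-diagonal SU(2, q²) subgroups, or their images, onto U_i and U_{i+1}). Suppose that U_i and U_j commute elementwise whenever the indices differ by at least 2, and that G is generated by the U_i together with the V_{i,i+1}. Then G is a homomorphic image of SU(n+1, q²). (G is not assumed finite.) -/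
theorem result {G : Type*} [Group G] (n : ℕ) (hn : 3 ≤ n)
    (F : Type*) [Field F] [Fintype F] (q : ℕ) (hq : 3 < q) (hF : Fintype.card F = q ^ 2)
    (U : Fin n → Subgroup G) (e : ∀ i, ↥(Cfsg.SU 2 F q) ≃* ↥(U i))
    (V : Fin n → Fin n → Subgroup G)
    (h1 : ∀ i j : Fin n, (i : ℕ) + 2 ≤ j → ∀ x ∈ U i, ∀ y ∈ U j, x * y = y * x)
    (h2 : ∀ i j : Fin n, (i : ℕ) + 1 = j → Cfsg.IsStandardUnitaryPair (V i j) (U i) (U j) F q)
    (hgen : (⨆ i, U i) ⊔ (⨆ (i : Fin n) (j : Fin n) (_ : (i : ℕ) + 1 = j), V i j) = ⊤) :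
    ∃ f : ↥(Cfsg.SU (n + 1) F q) →* G, Function.Surjective f := by
  haveI := Fact.mk hF
  obtain ⟨n, rfl⟩ : ∃ m, n = 0 + m + 2 := ⟨n - 2, by omega⟩
  obtain ⟨Φ, hΦ⟩ := H77.phan_fin (F := F) (q := q) (by omega) 0 (fun _ => hq) n U
    (fun i => (Nat.card_congr (e i).toEquiv).symm) h1 (fun i j h => by
      obtain ⟨ψ, a, b, c, -⟩ := H77.sp_of_std (h2 i j h)
      exact ⟨ψ, a, b, c⟩) (by
      obtain ⟨ψ, -, b, c, -⟩ := H77.sp_of_std (h2 ⟨0 + n, by omega⟩ ⟨1 + n, by omega⟩ (by
        simp; omega))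
      refine ⟨ψ, fun i hi => ?_⟩
      obtain rfl | rfl : i = 0 ∨ i = 1 := by omega
      exacts [b, c])
  refine ⟨Φ, MonoidHom.range_eq_top.1 (top_le_iff.1 (hgen ▸ sup_le (iSup_le hΦ)
    (iSup_le fun i => iSup_le fun j => iSup_le fun h => ?_)))⟩
  obtain ⟨ψ, -, b, c, d⟩ := H77.sp_of_std (h2 i j h)
  refine d ▸ H77.range_le_of_bl (by omega) (by omega) fun k hk => ?_
  obtain rfl | rfl : k = 0 ∨ k = 1 := by omega
  exacts [b ▸ hΦ i, c ▸ hΦ j]

end Cfsg.Agent.S3709
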