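import Cfsg.Statements.S3710
import Cfsg.Agent.H77.UInv

set_option autoImplicit false
open Cfsg

namespace Cfsg.Agent.S3710

/-- Recognition of unitary groups over the field with 9 elements from a weak Phan system. Let F be a field with 9 elements and n ≥ 4. Let G be a group with subgroups U_0, …, U_{n−1}, each isomorphic to SU(2, 9), and, for consecutive indices, subgroups V_{i,i+1} in which U_i and U_{i+1} form a standard pair (via an isomorphism from SU(3, 9) or PSU(3, 9) carrying the block-diagonal subgroups, or their images, onto U_i and U_{i+1}); suppose U_i and U_j commute elementwise whenever the indices differ by at least 2, that G is generated by the U_i and the V_{i,i+1}, and moreover that for each i the subgroup generated by V_{i,i+1} and V_{i+1,i+2} is a homomorphic image of SU(4, 9). Then G is a homomorphic image of SU(n+1, 9). (G is not assumed finite.) -/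
theorem result {G : Type*} [Group G] (n : ℕ) (hn : 4 ≤ n)
    (F : Type*) [Field F] [Fintype F] (hF : Fintype.card F = 9)
    (U : Fin n → Subgroup G) (e : ∀ i, ↥(Cfsg.SU 2 F 3) ≃* ↥(U i))
    (V : Fin n → Fin n → Subgroup G)
    (h1 : ∀ i j : Fin n, (i : ℕ) + 2 ≤ j → ∀ x ∈ U i, ∀ y ∈ U j, x * y = y * x)
    (h2 : ∀ i j : Fin n, (i : ℕ) + 1 = j → Cfsg.IsStandardUnitaryPair (V i j) (U i) (U j) F 3)
    (hgen : (⨆ i, U i) ⊔ (⨆ (i : Fin n) (j : Fin n) (_ : (i : ℕ) + 1 = j), V i j) = ⊤)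
    (h4 : ∀ i j k : Fin n, (i : ℕ) + 1 = j → (j : ℕ) + 1 = k →
      ∃ g : ↥(Cfsg.SU 4 F 3) →* ↥(V i j ⊔ V j k), Function.Surjective g) :
    ∃ f : ↥(Cfsg.SU (n + 1) F 3) →* G, Function.Surjective f := by
  haveI : Fact (Fintype.card F = 3 ^ 2) := ⟨hF⟩
  obtain ⟨n, rfl⟩ : ∃ m, n = 1 + m + 2 := ⟨n - 3, by omega⟩
  obtain ⟨Φ, hΦ⟩ := H77.phan_fin (F := F) (q := 3) (by omega) 1 (by omega) n U
    (fun i => (Nat.card_congr (e i).toEquiv).symm) h1 (fun i j h => by
      obtain ⟨ψ, a, b, c, -⟩ := H77.sp_of_std (h2 i j h)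
      exact ⟨ψ, a, b, c⟩) (by
      obtain ⟨ψ, a, b, c, d⟩ := H77.sp_of_std (h2 ⟨0 + n, by omega⟩ ⟨1 + n, by omega⟩ (by
        simp; omega))
      obtain ⟨χ, a', -, c', d'⟩ := H77.sp_of_std (h2 ⟨1 + n, by omega⟩ ⟨2 + n, by omega⟩ (by
        simp; omega))
      obtain ⟨g, hg⟩ := h4 ⟨0 + n, by omega⟩ ⟨1 + n, by omega⟩ ⟨2 + n, by omega⟩ (by
        simp; omega) (by simp; omega)
      have r := MonoidHom.range_comp (Subgroup.subtype _) g
      rw [MonoidHom.range_eq_top.2 hg, ← MonoidHom.range_eq_map, Subgroup.range_subtype] at r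
      obtain ⟨Φ, k⟩ := H77.pos3 rfl a a' (d.trans_le (le_sup_left.trans r.ge))
        (d'.trans_le (le_sup_right.trans r.ge))
        fun x y => h1 ⟨0 + n, by omega⟩ ⟨2 + n, by omega⟩ (by simp; omega) _ (b.le ⟨x, rfl⟩) _
          (c'.le ⟨y, rfl⟩)
      refine ⟨Φ, fun i hi => ?_⟩
      obtain rfl | rfl | rfl : i = 0 ∨ i = 1 ∨ i = 2 := by omega
      exacts [k.1.trans b, k.2.1.trans c, k.2.2.trans c'])
  rw [show 1 + n + 2 + 1 = 1 + n + 3 from rfl]
  refine ⟨Φ, MonoidHom.range_eq_top.1 (top_le_iff.1 (hgen ▸ sup_le (iSup_le hΦ)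
    (iSup_le fun i => iSup_le fun j => iSup_le fun h => ?_)))⟩
  obtain ⟨ψ, -, b, c, d⟩ := H77.sp_of_std (h2 i j h)
  refine d ▸ H77.range_le_of_bl (by omega) (by omega) fun k hk => ?_
  obtain rfl | rfl : k = 0 ∨ k = 1 := by omega
  exacts [b ▸ hΦ i, c ▸ hΦ j]

end Cfsg.Agent.S3710
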