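import Cfsg.Statements.S0264
import Mathlib

set_option autoImplicit false
open Cfsg

namespace Cfsg.Agent.S0264

open Matrix
open scoped commutatorElement

variable {F : Type*} [Field F] {ι : Type*} [Fintype ι] [DecidableEq ι]

/-- diagonal matrix with one entry `a` -/
noncomputable def dg (i : ι) (a : F) (ha : a ≠ 0) : GL ι F :=
  ⟨diagonal (fun k => if k = i then a else 1), diagonal (fun k => if k = i then a⁻¹ else 1),
    by rw [diagonal_mul_diagonal, ← diagonal_one]; congr 1; ext k; split_ifs <;> simp [ha],
    by rw [diagonal_mul_diagonal, ← diagonal_one]; congr 1; ext k; split_ifs <;> simp [ha]⟩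

theorem transvection_mem_of_three {i j k : ι} (hij : i ≠ j) (hik : i ≠ k) (hkj : k ≠ j) (c : F) :
    SpecialLinearGroup.toGL (SpecialLinearGroup.transvection hij c) ∈ commutator (GL ι F) := by
  have : SpecialLinearGroup.transvection hij c =
      ⁅SpecialLinearGroup.transvection hik c, SpecialLinearGroup.transvection hkj (1 : F)⁆ := by
    rw [commutatorElement_def, SpecialLinearGroup.transvection_inv,
      SpecialLinearGroup.transvection_inv]
    apply Subtype.ext
    change 1 + single i j c = (1 + single i k c) * (1 + single k j 1) * (1 + single i k (-c)) *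
      (1 + single k j (-1))
    simp only [mul_add, add_mul,
      one_mul, mul_one, single_mul_single_same,
      single_mul_single_of_ne _ _ _ _ hij.symm, single_mul_single_of_ne _ _ _ _ hik.symm,
      single_mul_single_of_ne _ _ _ _ hkj.symm, zero_mul, mul_zero, add_zero]
    simp only [← single_neg, mul_neg, mul_one]
    abel
  rw [this, map_commutatorElement]
  exact Subgroup.commutator_mem_commutator (Subgroup.mem_top _) (Subgroup.mem_top _)

theorem transvection_mem_of_elt {i j : ι} (hij : i ≠ j) {a : F} (ha : a ≠ 0) (ha1 : a ≠ 1) (c : F) :
    SpecialLinearGroup.toGL (SpecialLinearGroup.transvection hij c) ∈ commutator (GL ι F) := by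
  have h1 : a - 1 ≠ 0 := sub_ne_zero.2 ha1
  have : SpecialLinearGroup.toGL (SpecialLinearGroup.transvection hij c) =
      ⁅dg i a ha, SpecialLinearGroup.toGL (SpecialLinearGroup.transvection hij (c / (a - 1)))⁆ := by
    rw [commutatorElement_def, ← map_inv, SpecialLinearGroup.transvection_inv]
    apply Units.ext
    have e1 : ((dg i a ha : GL ι F) : Matrix ι ι F) *
        ((SpecialLinearGroup.toGL (SpecialLinearGroup.transvection hij (c / (a - 1))) : GL ι F) :
          Matrix ι ι F) * (((dg i a ha)⁻¹ : GL ι F) : Matrix ι ι F) =
        1 + single i j (a * (c / (a - 1))) := by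
      change diagonal _ * (1 + single i j _) * diagonal _ = _
      ext k l
      rw [mul_diagonal, diagonal_mul]
      by_cases hk : k = i
      · subst hk
        by_cases hl : l = k
        · subst hl; simp [hij.symm, ha]
        · by_cases hl' : j = l
          · subst hl'; simp [hl, hij]
          · simp [hl, hl', Ne.symm hl]
      · by_cases hl : l = i
        · subst hl; simp [hk, hij.symm]
        · simp [hk, hl, Ne.symm hk, Matrix.add_apply]
    rw [Units.val_mul, Units.val_mul, Units.val_mul, e1]
    change 1 + single i j c = (1 + single i j _) * (1 + single i j _)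
    simp only [mul_add, add_mul, one_mul, mul_one, single_mul_single_of_ne _ _ _ _ hij.symm,
      add_zero]
    rw [add_assoc, ← single_add]
    congr 2
    field_simp
    ring
  rw [this]
  exact Subgroup.commutator_mem_commutator (Subgroup.mem_top _) (Subgroup.mem_top _)

theorem diag2n_mem {i j : ι} (hij : i ≠ j) {a : F} (ha : a ≠ 0) :
    SpecialLinearGroup.toGL (SpecialLinearGroup.diag2n hij a ha) ∈ commutator (GL ι F) := by
  have : SpecialLinearGroup.toGL (SpecialLinearGroup.diag2n hij a ha) =
      ⁅dg i a ha, Matrix.GeneralLinearGroup.swap F i j⁆ := by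
    rw [commutatorElement_def, eq_mul_inv_iff_mul_eq]
    apply Units.ext
    rw [Units.val_mul, Units.val_mul, Units.val_mul]
    change diagonal _ * Matrix.swap F i j = diagonal _ * Matrix.swap F i j * diagonal _
    ext k l
    rw [mul_diagonal, diagonal_mul, diagonal_mul]
    simp only [Matrix.swap, Equiv.Perm.permMatrix, PEquiv.toMatrix_apply, Equiv.toPEquiv_apply,
      Option.mem_def, Option.some.injEq]
    by_cases hk : k = i
    · subst hk
      by_cases hl : j = l
      · subst hl; simp [hij.symm]
      · simp [hl]
    · by_cases hk' : k = j
      · subst hk'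
        by_cases hl : i = l
        · subst hl; simp [hk]
        · simp [hl]
      · rw [Equiv.swap_apply_of_ne_of_ne hk hk']
        by_cases hl : k = l
        · subst hl; simp [hk, hk']
        · simp [hl]
  rw [this]
  exact Subgroup.commutator_mem_commutator (Subgroup.mem_top _) (Subgroup.mem_top _)

/-- GL_n(F)' = SL_n(F) (as the kernel of det), for every field F and every n, except n = 2 over the field of two elements. -/
theorem result {F : Type*} [Field F] (n : ℕ) (h : n = 2 → ∃ a : F, a ≠ 0 ∧ a ≠ 1) : commutator (Matrix.GeneralLinearGroup (Fin n) F) = (Matrix.GeneralLinearGroup.det : Matrix.GeneralLinearGroup (Fin n) F →* Fˣ).ker := by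
  apply le_antisymm
  · exact Abelianization.commutator_subset_ker _
  · intro g hg
    rw [MonoidHom.mem_ker] at hg
    have hd : (g : Matrix (Fin n) (Fin n) F).det = 1 := by
      rw [← Matrix.GeneralLinearGroup.val_det_apply, hg]; rfl
    obtain ⟨M, rfl⟩ : ∃ M : SpecialLinearGroup (Fin n) F, g = SpecialLinearGroup.toGL M :=
      ⟨⟨g, hd⟩, Units.ext rfl⟩
    clear hg hd
    rcases subsingleton_or_nontrivial (Fin n) with hs | hs
    · rw [Subsingleton.elim M 1, map_one]; exact one_mem _
    refine SpecialLinearGroup.diagonal_transvection_induction'
      (fun M => SpecialLinearGroup.toGL M ∈ commutator (GL (Fin n) F)) M ?_ ?_ ?_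
    · intro i j hij c hc
      exact diag2n_mem hij hc
    · intro i j hij c
      by_cases hn : n = 2
      · obtain ⟨a, ha, ha1⟩ := h hn
        exact transvection_mem_of_elt hij ha ha1 c
      · have h2 : 2 < Fintype.card (Fin n) := by
          have := Fintype.one_lt_card (α := Fin n)
          simp only [Fintype.card_fin] at this ⊢
          omega
        obtain ⟨k, hk1, hk2⟩ : ∃ k, k ≠ i ∧ k ≠ j := by
          by_contra hcon
          push Not at hcon
          have : (Finset.univ : Finset (Fin n)) ⊆ {i, j} := by
            intro k _
            by_cases hk : k = i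
            · simp [hk]
            · simp [hcon k hk]
          have h3 := Finset.card_le_card this
          have h4 : ({i, j} : Finset (Fin n)).card ≤ 2 := Finset.card_le_two
          rw [Finset.card_univ] at h3
          omega
        exact transvection_mem_of_three hij hk1.symm hk2 c
    · intro A B hA hB
      rw [map_mul]; exact mul_mem hA hB

end Cfsg.Agent.S0264
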