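import Cfsg.Statements.S5565
import Cfsg.Agent.SGJ4.Rep
import Cfsg.Agent.SGJ4.Main
import Cfsg.Agent.H80.J4R

set_option autoImplicit false
open Cfsg

namespace Cfsg.Agent.S5565

open Subgroup SGJ4 H80.J4 H4

/-- Let G be a finite non-abelian simple group of Janko-four type (an involution z whose centralizer H has an extraspecial largest normal 2-subgroup E of order 2^13 containing its centralizer in H, a normal subgroup N ≥ E of H with N/E of order 3 and H/N the automorphism group of M₂₂, and a subgroup P ≤ N of order 3 with C_E(P) = ⟨z⟩, N_H(P) ≠ C_H(P) and P ≤ C_H(P)′). Then a Sylow 3-subgroup R of G contained in H is extraspecial of order 27 and exponent 3, its normalizer in G lies in H, and that normalizer has order 864. -/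
theorem result {G : Type*} [Group G] [Finite G] [IsSimpleGroup G] (hG : ¬ IsMulCommutative G) (z : G) (hJ : Cfsg.IsOfJankoFourTypeAt z) (R : Sylow 3 G) (hR : (R : Subgroup G) ≤ Subgroup.centralizer ({z} : Set G)) :
    Cfsg.IsExtraspecial 3 ↥(R : Subgroup G) ∧ Nat.card ↥(R : Subgroup G) = 27 ∧ Monoid.exponent ↥(R : Subgroup G) = 3 ∧
    Subgroup.normalizer ((R : Subgroup G) : Set G) ≤ Subgroup.centralizer ({z} : Set G) ∧ Nat.card ↥(Subgroup.normalizer ((R : Subgroup G) : Set G)) = 864 := by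
  have := Fact.mk Nat.prime_three
  obtain ⟨P, hJ⟩ := hJ
  obtain ⟨S1, rfl, -⟩ := exists_setup1 hJ
  obtain ⟨S, rfl⟩ := S1.exists_setup
  obtain ⟨g, hg, e⟩ := exists_conj_R3 R hR
  have h1 : Nat.card (R : Subgroup G) = 27 := by rw [e, card_map_conj, card_R3]
  have h2 : ∃ x y : (R : Subgroup G), x * y ≠ y * x := by
    obtain ⟨x, y, h⟩ := R3_not_comm (S := S.toSetup1)
    refine ⟨⟨g * x * g⁻¹, e ▸ ⟨x, x.2, rfl⟩⟩, ⟨g * y * g⁻¹, e ▸ ⟨y, y.2, rfl⟩⟩, fun h' => h (Subtype.ext ?_)⟩
    have := congrArg Subtype.val h'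
    simp only [coe_mul, conj_mul] at this ⊢
    exact (MulAut.conj g).injective this
  have h3 : ∀ x : (R : Subgroup G), x ^ 3 = 1 := fun x => Subtype.ext (by
    have := (mem_R3.1 (mem_map_conj.1 (e.le x.2))).2
    rwa [show g⁻¹ * x * g = g⁻¹ * x * g⁻¹⁻¹ by rw [inv_inv], conj_pow, conj_eq_one_iff] at this)
  refine ⟨H73.isExtraspecial_of_card_eq_cube h1 h2, h1, ?_, ?_, ?_⟩
  · refine (Nat.dvd_prime Nat.prime_three).1 (Monoid.exponent_dvd_of_forall_pow_eq_one h3) |>.resolve_left
      fun h => ?_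
    obtain ⟨x, y, h'⟩ := h2
    have := Monoid.exp_eq_one_iff.1 h
    exact h' (Subsingleton.elim _ _)
  · rw [e, normalizer_map_conj]
    intro x hx
    have := mul_mem (mul_mem hg (norm_p_le (norm_R3_le (mem_map_conj.1 hx)))) (inv_mem hg)
    simpa [mul_assoc] using this
  · rw [e, normalizer_map_conj, card_map_conj, card_norm_R3]

end Cfsg.Agent.S5565
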