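import Cfsg.Statements.S5566
import Cfsg.Agent.SGJ4.Conj

set_option autoImplicit false
open Cfsg

namespace Cfsg.Agent.S5566

open Subgroup Cfsg.Agent.H70 Cfsg.Agent.H92
open scoped commutatorElement

open Cfsg.Agent.SGJ4

/-- Let G be a finite non-abelian simple group of Janko-four type (an involution z whose centralizer H has an extraspecial largest normal 2-subgroup E of order 2^13 containing its centralizer in H, a normal subgroup N ≥ E of H with N/E of order 3 and H/N the automorphism group of M₂₂, and a subgroup P ≤ N of order 3 with C_E(P) = ⟨z⟩, N_H(P) ≠ C_H(P) and P ≤ C_H(P)′). Then a Sylow 2-subgroup of G has exactly one elementary abelian subgroup of order 2^11. -/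
theorem result {G : Type*} [Group G] [Finite G] [IsSimpleGroup G] (hG : ¬ IsMulCommutative G) (hJ : Cfsg.IsOfJankoFourType G) (T : Sylow 2 G) :
    ∃! V : Subgroup G, V ≤ (T : Subgroup G) ∧ Cfsg.IsElementaryAbelian 2 V ∧ Nat.card ↥V = 2 ^ 11 := by
  obtain ⟨z, P, h⟩ := hJ
  obtain ⟨S, -⟩ := exists_setup1 h
  obtain ⟨T0, -, h1, -⟩ := S.exists_sylow
  haveI : Fact (Nat.Prime 2) := ⟨Nat.prime_two⟩
  obtain ⟨g, rfl⟩ := MulAction.exists_smul_eq G T0 T
  have h2 : cj g S.V1 ≤ (g • T0 : Sylow 2 G) := cj_mono g h1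
  refine ⟨cj g S.V1, ⟨h2, Setup1.ea_cj Setup1.V1_ea g, (card_cj _ _).trans Setup1.card_V1⟩,
    fun A hA => ?_⟩
  have h3 : cj g⁻¹ A ≤ T0 := (cj_mono g⁻¹ hA.1).trans (cj_inv_cj g _).le
  rw [← Setup1.uniq1 T0.isPGroup' h1 h3 (Setup1.ea_cj hA.2.1 _) ((card_cj _ _).trans hA.2.2),
    cj_cj_inv]

end Cfsg.Agent.S5566
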