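import Cfsg.Statements.S5568
import Cfsg.Agent.SGJ4.Conj

set_option autoImplicit false
open Cfsg

namespace Cfsg.Agent.S5568

open Subgroup Cfsg.Agent.H70 Cfsg.Agent.H92
open scoped commutatorElement

open Cfsg.Agent.SGJ4

/-- Let G be a finite non-abelian simple group of Janko-four type (an involution z whose centralizer H has an extraspecial largest normal 2-subgroup E of order 2^13 containing its centralizer in H, a normal subgroup N ≥ E of H with N/E of order 3 and H/N the automorphism group of M₂₂, and a subgroup P ≤ N of order 3 with C_E(P) = ⟨z⟩, N_H(P) ≠ C_H(P) and P ≤ C_H(P)′). Let V be an elementary abelian subgroup of G of order 2^11. Then under conjugation by the normalizer of V the non-identity elements of V fall into an orbit of length 1771 consisting of conjugates of z and an orbit of length 276 consisting of involutions t not conjugate to z, and for such t the centralizer of t in G lies in the normalizer of V. -/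
theorem result {G : Type*} [Group G] [Finite G] [IsSimpleGroup G] (hG : ¬ IsMulCommutative G) (z : G) (hJ : Cfsg.IsOfJankoFourTypeAt z) (V : Subgroup G) (hV : Cfsg.IsElementaryAbelian 2 V) (hcard : Nat.card ↥V = 2 ^ 11) :
    ∃ z' t : G, z' ∈ V ∧ t ∈ V ∧ t ≠ 1 ∧ IsConj z z' ∧ ¬ IsConj z t ∧
    Set.ncard {v : G | ∃ n ∈ Subgroup.normalizer (V : Set G), n * z' * n⁻¹ = v} = 1771 ∧
    Set.ncard {v : G | ∃ n ∈ Subgroup.normalizer (V : Set G), n * t * n⁻¹ = v} = 276 ∧
    Subgroup.centralizer ({t} : Set G) ≤ Subgroup.normalizer (V : Set G) := by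
  obtain ⟨S, h, rfl⟩ := exists_setup_V hJ hV hcard
  have hd : IsDuad ts := ⟨none, some 0, by decide, ts_eq⟩
  refine ⟨S.th (tr zs), S.th (tr ts), Setup.mem_V.2 ⟨_, zs_mem, rfl⟩, Setup.mem_V.2 ⟨_, ts_mem, rfl⟩,
    fun e => ts_ne_zero (tr_eq_one.1 ((Setup.th_eq_one tN_mem).1 e)), Setup.th_zN (S := S) ▸ h,
    fun e => (Setup.isConj_tr ts_mem ts_ne_zero).1 (h.symm.trans e) hd, ?_, ?_,
    Setup.N_eq (S := S) ▸ Setup.cent_t_le⟩
  · rw [← ncard_sextet]
    refine Setup.ncard_orbit zs_mem fun w => ⟨fun h => sextet_trans h.1 h.2.1 h.2.2, ?_⟩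
    rintro ⟨a, ha, rfl⟩
    exact ⟨(m_mem_Ev ha.1).2 zs_mem, mt a.m.map_eq_zero_iff.1 zs_ne_zero,
      mt (isDuad_m ha.1).1 not_isDuad_zs⟩
  · rw [← ncard_duad]
    refine Setup.ncard_orbit ts_mem fun w => ⟨duad_trans, ?_⟩
    rintro ⟨a, ha, rfl⟩
    exact (isDuad_m ha.1).2 hd

end Cfsg.Agent.S5568
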