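import Cfsg.Statements.S5570
import Cfsg.Agent.SGJ4.Rep
import Cfsg.Agent.SGJ4.Main
import Cfsg.Agent.H80.J4AG

set_option autoImplicit false
open Cfsg

namespace Cfsg.Agent.S5570

open Subgroup SGJ4 H80.J4A H70

/-- Let G be a finite non-abelian simple group of Janko-four type (an involution z whose centralizer H has an extraspecial largest normal 2-subgroup E of order 2^13 containing its centralizer in H, a normal subgroup N ≥ E of H with N/E of order 3 and H/N the automorphism group of M₂₂, and a subgroup P ≤ N of order 3 with C_E(P) = ⟨z⟩, N_H(P) ≠ C_H(P) and P ≤ C_H(P)′). Then G has self-centralizing elementary abelian subgroups of order 2^10, any two of them are conjugate, and for such a subgroup A the normalizer of A is a split extension of A by a complement isomorphic to L₅(2) under which A has no proper non-trivial invariant subgroup. -/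
theorem result {G : Type*} [Group G] [Finite G] [IsSimpleGroup G] (hG : ¬ IsMulCommutative G) (hJ : Cfsg.IsOfJankoFourType G) :
    (∃ A : Subgroup G, Cfsg.IsElementaryAbelian 2 A ∧ Nat.card ↥A = 2 ^ 10 ∧ Subgroup.centralizer (A : Set G) = A) ∧
    (∀ A A' : Subgroup G, Cfsg.IsElementaryAbelian 2 A → Nat.card ↥A = 2 ^ 10 → Subgroup.centralizer (A : Set G) = A → Cfsg.IsElementaryAbelian 2 A' → Nat.card ↥A' = 2 ^ 10 → Subgroup.centralizer (A' : Set G) = A' → ∃ g : G, A' = A.map (MulAut.conj g).toMonoidHom) ∧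
    ∀ A : Subgroup G, Cfsg.IsElementaryAbelian 2 A → Nat.card ↥A = 2 ^ 10 → Subgroup.centralizer (A : Set G) = A →
      (∃ B : Subgroup G, B ≤ Subgroup.normalizer (A : Set G) ∧ B ⊓ A = ⊥ ∧ B ⊔ A = Subgroup.normalizer (A : Set G) ∧
        Nonempty (↥B ≃* Matrix.SpecialLinearGroup (Fin 5) (ZMod 2))) ∧
      ∀ W : Subgroup G, W ≤ A → Subgroup.normalizer (A : Set G) ≤ Subgroup.normalizer (W : Set G) → W = ⊥ ∨ W = A := by
  obtain ⟨z, P, hJ⟩ := hJ
  obtain ⟨S1, -⟩ := exists_setup1 hJ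
  obtain ⟨S, -⟩ := S1.exists_setup
  refine ⟨⟨AA S, A10_ea, image_ka.2, cent_A10⟩, fun A A' h1 h2 h3 h4 h5 h6 => ?_, fun A h1 h2 h3 => ?_⟩
  · obtain ⟨g, rfl⟩ := exists_eq_cj (S := S) h1 h2 h3
    obtain ⟨g', rfl⟩ := exists_eq_cj (S := S) h4 h5 h6
    exact ⟨g' * g⁻¹, by change _ = cj _ _; rw [← cj_mul, inv_mul_cancel_right]⟩
  obtain ⟨g, rfl⟩ := exists_eq_cj (S := S) h1 h2 h3
  obtain ⟨B, b1, b2, b3, ⟨e⟩⟩ := exists_compl (S := S)
  rw [← cj_normalizer]
  refine ⟨⟨cj g B, cj_mono g b1, by rw [← cj_inf, b2, cj_eq_bot_iff], by rw [← cj_sup, b3],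
    ⟨(B.equivMapOfInjective _ (MulAut.conj g).injective).symm.trans e⟩⟩, fun W h4 h5 => ?_⟩
  refine (irred (le_cj_iff.1 h4) (cj_normalizer g⁻¹ W ▸ cj_le_iff_le_cj_inv.1 h5)).imp cj_eq_bot_iff.1
    fun h => ?_
  rw [← h, ← cj_mul]; simp

end Cfsg.Agent.S5570
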