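import Cfsg.Statements.S5572
import Cfsg.Agent.SGJ4.Rep
import Cfsg.Agent.SGJ4.Main
import Cfsg.Agent.SGJ4.FiveSeven

set_option autoImplicit false
open Cfsg

namespace Cfsg.Agent.S5572

open Subgroup SGJ4 H60.J4 H49

/-- Let G be a finite non-abelian simple group of Janko-four type (an involution z whose centralizer H has an extraspecial largest normal 2-subgroup E of order 2^13 containing its centralizer in H, a normal subgroup N ≥ E of H with N/E of order 3 and H/N the automorphism group of M₂₂, and a subgroup P ≤ N of order 3 with C_E(P) = ⟨z⟩, N_H(P) ≠ C_H(P) and P ≤ C_H(P)′). Let Q ≤ H have order 5. Then Q is a Sylow 5-subgroup of G; its centralizer is Q × J with J a non-split extension of an elementary abelian group of order 8 by L₃(2); its normalizer contains a subgroup of order 20 containing Q in which Q is self-centralizing (a Frobenius group of order 20); and the normalizer of Q has order 2^8·3·5·7. -/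
theorem result {G : Type*} [Group G] [Finite G] [IsSimpleGroup G] (hG : ¬ IsMulCommutative G) (z : G) (hJ : Cfsg.IsOfJankoFourTypeAt z) (Q : Subgroup G) (hQ : Nat.card ↥Q = 5) (hQz : Q ≤ Subgroup.centralizer ({z} : Set G)) :
    ¬ (25 ∣ Nat.card G) ∧
    (∃ J : Subgroup G, Cfsg.IsInternalDirectProduct Q J (Subgroup.centralizer (Q : Set G)) ∧
      ∃ (E : Subgroup ↥J) (_ : E.Normal), Cfsg.IsElementaryAbelian 2 E ∧ Nat.card ↥E = 8 ∧
        Nonempty (↥J ⧸ E ≃* Matrix.SpecialLinearGroup (Fin 3) (ZMod 2)) ∧ ∀ K : Subgroup ↥J, ¬ E.IsComplement' K) ∧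
    (∃ R : Subgroup G, Q ≤ R ∧ R ≤ Subgroup.normalizer (Q : Set G) ∧ Nat.card ↥R = 20 ∧ R ⊓ Subgroup.centralizer (Q : Set G) = Q) ∧
    Nat.card ↥(Subgroup.normalizer (Q : Set G)) = 2 ^ 8 * 3 * 5 * 7 := by
  obtain ⟨P, hJ⟩ := hJ
  obtain ⟨S1, -⟩ := exists_setup1 hJ
  obtain ⟨S, -⟩ := S1.exists_setup
  have : Fact (Nat.Prime 5) := ⟨by decide⟩
  obtain ⟨x, hx⟩ := (Subgroup.isCyclic_iff_exists_zpowers_eq_top Q).1 (isCyclic_of_prime_card hQ)
  subst hx
  rw [Nat.card_zpowers] at hQ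
  obtain ⟨Z, w, r, g, h⟩ := five_of S S.not_dvd_25 hQ
  obtain ⟨ρ, hρ⟩ := exists_rep3 h.elem h.card
  refine ⟨S.not_dvd_25, ?_, exists_twenty hQ h.conj h.r_pow, ?_⟩
  · rw [cent_zpowers]
    exact five_struct hρ hQ h.x_mem h.elem h.card h.inf_le h.cent_le h.card_cent h.g_mem
      (h.g_pow ▸ h.z_mem) (h.g_pow ▸ h.z_ne)
  · rw [card_norm_five hQ h.conj, h.card_cent]; rfl

end Cfsg.Agent.S5572
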