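import Cfsg.Statements.S5186
import Cfsg.Agent.H62.NoFlag3
import Cfsg.Agent.H73.PCube

set_option autoImplicit false
universe u
open Cfsg

namespace Cfsg.Agent.S5186

open Subgroup Cfsg.Agent.H62 Cfsg.Agent.H91 Cfsg.FusionSystem
open scoped commutatorElement


/-- Let F be a saturated fusion system over a finite p-group S and H an essential subgroup of order p³. Then H is elementary abelian, or p is odd and H is extraspecial of exponent p, or p = 2 and H is the quaternion group of order 8. -/
theorem result {Ω : Type u} [Group Ω] {S : Subgroup Ω} [Finite S] (p : ℕ) [Fact p.Prime] (hS : IsPGroup p S)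
    (F : Cfsg.FusionSystem S) (hF : F.IsSaturated p) (H : Subgroup Ω) (hH : F.IsEssential p H) (hcard : Nat.card H = p ^ 3) :
    Cfsg.IsElementaryAbelian p H ∨ (Odd p ∧ Cfsg.IsExtraspecial p ↥H ∧ ∀ x ∈ H, x ^ p = 1) ∨
      (p = 2 ∧ Nonempty (↥H ≃* QuaternionGroup 2)) := by
  have hpp : p.Prime := Fact.out
  have hES := hH.1.1
  have := finite_of_le hES
  have hp := isPGroup_of_le hS hES
  have hN := nf_of_essential hS hF hH
  have h1 := hN.sq_le hp
  rw [hcard, pow_succ] at h1
  have hΦ := Nat.le_of_mul_le_mul_left h1 (pow_pos hpp.pos 2)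
  by_cases hab : ∀ a b : H, a * b = b * a
  · left
    refine ⟨⟨⟨hab⟩⟩, fun x hx => ?_⟩
    by_cases h0 : frattini H = ⊥
    · exact congrArg Subtype.val ((elem_of_frattini hp (by rw [h0, card_bot])).2 ⟨x, hx⟩)
    have h2 := le_antisymm hΦ (H50.le_card_of_ne_bot (hp.to_subgroup _) h0)
    let _ : CommGroup H := { (inferInstance : Group H) with mul_comm := hab }
    obtain ⟨k, ⟨e⟩⟩ := hN.homocyclic hp (by rw [hcard, h2, pow_succ])
    have := Nat.card_congr e.toEquiv
    rw [hcard, Nat.card_congr Multiplicative.toAdd, Nat.card_prod, Nat.card_zmod, ← pow_add] at this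
    have := Nat.pow_right_injective hpp.two_le this
    omega
  right
  push Not at hab
  have hx := H73.isExtraspecial_of_card_eq_cube hcard hab
  have c1 : Nat.card (center H) ≤ p * Nat.card (frattini H) := by
    rw [hx.2]; exact Nat.le_mul_of_pos_right _ Nat.card_pos
  have c2 : Nat.card H = p ^ 2 * Nat.card (center H) := by rw [hx.2, hcard, pow_succ]
  have hZ : ∀ z ∈ center H, z ^ p = 1 := (H50.elem_of_card_prime hx.2).2
  rcases hpp.eq_two_or_odd' with rfl | hodd
  · exact Or.inr ⟨rfl, quat_of_sq_ne hcard hab hx.2 fun x => hN.sq_ne_one hp hΦ c1 c2 hZ⟩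
  · exact Or.inl ⟨hodd, hx, fun x hx =>
      congrArg Subtype.val (hN.exp_of_odd hp hodd hΦ c1 c2 hZ ⟨x, hx⟩)⟩

end Cfsg.Agent.S5186
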