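import Cfsg.Statements.S5270
import Cfsg.Agent.H93.AbIdx3
import Cfsg.Agent.H62.MaxCl3

set_option autoImplicit false
open Cfsg

namespace Cfsg.Agent.S5270

open Cfsg.FusionSystem Cfsg.Agent.H93
open Cfsg.Agent.H91 hiding center_central center_le central_bot central_mono central_sup conj_mem_hyp core_le core_normal exists_conj_mod_hyp focal_eq_hyp_sup isCentral_iff isFullyAutomized_iff isNormal_iff le_center le_core mem_opIn_of_chain normal_bot normal_sup sSup_mem_of_sup_closed stronglyClosed_iff weaklyClosed_iff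

open scoped commutatorElement

theorem mem_LL_of_comm {G : Type*} [Group G] [Finite G] {p n : ℕ} [Fact p.Prime] (h : H62.MC G p n)
    {y : G} (k : ℕ) (hk : k + 3 ≤ n) (hy : ∀ g, ⁅y, g⁆ ∈ H62.LL G (k + 2)) :
    y ∈ H62.LL G (k + 1) := by
  induction k with
  | zero =>
    rw [zero_add, ← h.KK_zero]
    exact fun g _ => by rw [← commutatorElement_inv]; exact Subgroup.inv_mem _ (hy g)
  | succ k ih =>
    obtain ⟨s, hs⟩ : ∃ s, s ∉ H62.KK G (k + 1) := by
      by_contra hc; push Not at hc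
      exact h.KK_ne_top (k := k + 1) (by omega) (eq_top_iff.2 fun x _ => hc x)
    exact h.mem_of_comm_mem (by omega) hs (ih (by omega) fun g => H62.LL_anti (by omega) (hy g))
      (hy s)

theorem mem_KK_iff {G : Type*} [Group G] [Finite G] {p k : ℕ} [Fact p.Prime]
    (h : H62.MC G p (k + 4)) {g : G} :
    g ∈ H62.KK G (k + 1) ↔ ∀ y ∈ Subgroup.upperCentralSeries G 2, y * g = g * y := by
  have h1 := h.LL_eq_bot (k := k + 3) (by omega)
  have h2 : ∀ y, y ∈ Subgroup.center G ↔ y ∈ H62.LL G (k + 2) := fun y =>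
    ⟨fun hy => mem_LL_of_comm h (k + 1) (by omega) fun g => by
      rw [commutatorElement_eq_one_iff_mul_comm.2 (Subgroup.mem_center_iff.1 hy g).symm]
      exact Subgroup.one_mem _, fun hy => Subgroup.mem_center_iff.2 fun g => by
      have := H62.LL_comm' hy g
      rw [h1, Subgroup.mem_bot, commutatorElement_eq_one_iff_mul_comm] at this
      exact this.symm⟩
  have h3 : ∀ y, y ∈ Subgroup.upperCentralSeries G 2 ↔ y ∈ H62.LL G (k + 1) := fun y => by
    rw [Subgroup.mem_upperCentralSeries_succ_iff, Subgroup.upperCentralSeries_one]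
    exact ⟨fun hy => mem_LL_of_comm h k (by omega) fun g => (h2 _).1 (hy g),
      fun hy g => (h2 _).2 (H62.LL_comm' hy g)⟩
  rw [H62.mem_KK, h1]
  simp only [h3, Subgroup.mem_bot, commutatorElement_eq_one_iff_mul_comm]

/-- Let p ≥ 5 be a prime, S a finite p-group of maximal class of order p^n with n ≥ 4, and F a saturated fusion system over S. If some map of F defined on the second centre Z₂(S) with image Z₂(S) does not carry Z(S) into itself, then the centralizer C_S(Z₂(S)) is an F-essential subgroup. -/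
theorem result {Ω : Type*} [Group Ω] {S : Subgroup Ω} [Finite S] (p : ℕ) [Fact p.Prime] (hS : IsPGroup p ↥S) (n : ℕ) (hn : Nat.card S = p ^ n) (h4 : 4 ≤ n) (hmax : Subgroup.lowerCentralSeries S (n - 2) ≠ ⊥) (F : Cfsg.FusionSystem S) (hF : F.IsSaturated p) (hp : 5 ≤ p) (φ : ↥((Subgroup.upperCentralSeries ↥S 2).map S.subtype) →* Ω) (hφ : φ ∈ F.Hom ((Subgroup.upperCentralSeries ↥S 2).map S.subtype)) (hφZ : φ.range = ((Subgroup.upperCentralSeries ↥S 2).map S.subtype)) (hmove : ∃ (z : Ω) (hz : z ∈ ((Subgroup.upperCentralSeries ↥S 2).map S.subtype)), z ∈ ((Subgroup.center ↥S).map S.subtype) ∧ φ ⟨z, hz⟩ ∉ ((Subgroup.center ↥S).map S.subtype)) : F.IsEssential p (S ⊓ Subgroup.centralizer (((Subgroup.upperCentralSeries ↥S 2).map S.subtype) : Set Ω)) := by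
  obtain ⟨k, rfl⟩ : ∃ k, n = k + 4 := ⟨n - 4, by omega⟩
  have h := (H62.mc_iff hn (by omega)).2 hmax
  change F.IsEssential p (centralizerIn S (ucs S 2))
  have hC : ∀ g : S, g ∈ H62.KK S (k + 1) ↔ (g : Ω) ∈ centralizerIn S (ucs S 2) := fun g => by
    rw [mem_KK_iff h, mem_centralizerIn]
    refine ⟨fun h' => ⟨g.2, ?_⟩, fun h' y hy => Subtype.ext (h'.2 y ⟨y, hy, rfl⟩)⟩
    rintro _ ⟨y, hy, rfl⟩
    exact congrArg Subtype.val (h' y hy)
  have hZ : ∀ z, z ∈ (Subgroup.center S).map S.subtype ↔ z ∈ centralizerIn S S := fun z => by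
    rw [← ucs_one, ucs, Subgroup.upperCentralSeries_one]
  have hN : S ≤ Subgroup.normalizer (ucs S 2 : Set Ω) := fun g hg => by
    haveI := finite_of_le (ucs_le S 2)
    refine mem_normalizer_of_conj_mem ?_
    rintro _ ⟨y, hy, rfl⟩
    exact ⟨_, (inferInstance : (Subgroup.upperCentralSeries S 2).Normal).conj_mem y hy ⟨g, hg⟩, rfl⟩
  have hf : M F (ucs S 2) (fn φ) := M.of_mem hφ
  have him : im (fn φ) (ucs S 2) = ucs S 2 := (im_fn φ).trans hφZ
  obtain ⟨z, hz, hz1, hz2⟩ := hmove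
  rw [hZ] at hz1 hz2
  have hCS := centralizerIn_le S (ucs S 2)
  haveI := finite_of_le hCS
  have hZC := centralizerIn_anti S (ucs_le S 2)
  obtain ⟨g, hg, e, hg'⟩ := hf.extend_centralizer him
    (sat_receptive' hS hF (isFullyNormalized_of_normal F (ucs_le S 2) hN))
  obtain ⟨α, hα, e'⟩ := (hg.restrict le_sup_right).exists_aut
    ((hg.restrict le_sup_right).im_eq_self hg')
  refine (isEssential_iff hS hF).2 ⟨lt_of_le_of_ne hCS fun e => h.KK_ne_top (k := k + 1) le_rfl
    (eq_top_iff.2 fun g _ => (hC g).2 (e.ge g.2)), isFullyNormalized_of_normal F hCS fun g hg =>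
      mem_normalizer_of_conj_mem fun x hx => (hC ⟨_, S.mul_mem (S.mul_mem hg (hCS hx)) (S.inv_mem hg)⟩).1
        ((H62.KK_normal (k + 1)).conj_mem ⟨x, hCS hx⟩ ((hC _).2 hx) ⟨g, hg⟩), fun e'' => hz2 ?_⟩
  haveI := finite_mulAut hCS
  have key : ∀ β ∈ extAut F (centralizerIn S (ucs S 2)), ∀ z ∈ centralizerIn S S,
      efn β z ∈ centralizerIn S S := fun β hβ => by
    rw [extAut, ← Subgroup.mem_toSubmonoid, Subgroup.closure_toSubmonoid_of_finite] at hβ
    induction hβ using Submonoid.closure_induction with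
    | mem β hβ =>
      obtain ⟨Q, f, hQ, hf, e⟩ := hβ
      obtain ⟨s, hs, hs'⟩ := SetLike.exists_of_lt hQ
      have hSQ : S ≤ Q := fun g hg => by
        obtain ⟨a, ha⟩ := h.KK_sup (k := k + 1) (s := ⟨s, hf.le hs⟩) (fun e => hs' ((hC _).1 e))
          (by omega) ⟨g, hg⟩
        have := Q.mul_mem (Q.pow_mem hs a) (hQ.le ((hC _).1 ha))
        simpa using this
      obtain ⟨ψ, -, e'⟩ := (hf.restrict hSQ).exists_aut
        ((hf.restrict hSQ).im_eq_self fun x hx => hf.mem (hSQ hx))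
      intro z hz
      rw [← e z (hZC hz), ← e' z hz.1]
      exact efn_mem_center ψ hz
    | one => intro x hx; rwa [efn_one (hZC hx)]
    | mul β γ _ _ h1 h2 =>
      intro x hx
      rw [efn_mul _ _ (hZC hx)]
      exact h1 _ (h2 x hx)
  have := key α (e''.ge hα) z hz1
  rwa [e' z (hZC hz1), e z hz, fn_of_mem φ hz] at this

end Cfsg.Agent.S5270
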