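import Cfsg.Statements.S5269
import Cfsg.Agent.MCE.IdxP
import Cfsg.Agent.S5270
import Cfsg.Agent.S5186

set_option autoImplicit false
open Cfsg

namespace Cfsg.Agent.S5269

open Subgroup Cfsg.FusionSystem Cfsg.Agent.H62 Cfsg.Agent.MCE
open scoped commutatorElement

/-- Let p ≥ 5 be a prime, S a finite p-group of maximal class of order p^n with n ≥ 4, F a saturated fusion system over S, and E an F-essential subgroup that is normal in S. Then E has index p in S; moreover E is the two-step centralizer Γ₁ = C_S([S,S]/γ₄(S)) or E = C_S(Z₂(S)), unless S has order p^4 and E is extraspecial of order p³ and exponent p. -/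
theorem result {Ω : Type*} [Group Ω] {S : Subgroup Ω} [Finite S] (p : ℕ) [Fact p.Prime] (hS : IsPGroup p ↥S) (n : ℕ) (hn : Nat.card S = p ^ n) (h4 : 4 ≤ n) (hmax : Subgroup.lowerCentralSeries S (n - 2) ≠ ⊥) (F : Cfsg.FusionSystem S) (hF : F.IsSaturated p) (hp : 5 ≤ p) (Γ₁ : Subgroup Ω) (hΓ₁ : ∀ x : Ω, x ∈ Γ₁ ↔ x ∈ S ∧ ∀ y ∈ Subgroup.lowerCentralSeries S 1, x * y * x⁻¹ * y⁻¹ ∈ Subgroup.lowerCentralSeries S 3) (E : Subgroup Ω) (hE : F.IsEssential p E) (hEn : (E.subgroupOf S).Normal) : (E.subgroupOf S).index = p ∧ (E = Γ₁ ∨ E = (S ⊓ Subgroup.centralizer (((Subgroup.upperCentralSeries ↥S 2).map S.subtype) : Set Ω)) ∨ (n = 4 ∧ Nat.card ↥E = p ^ 3 ∧ Cfsg.IsExtraspecial p ↥E ∧ Monoid.exponent ↥E = p)) := by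
  have h := (mc_iff hn (by omega)).2 hmax
  have hES := hE.1.1
  have hpp : p.Prime := Fact.out
  have hr : (inclusion hES).range = E.subgroupOf S := inclusion_range hES
  have hne : E.subgroupOf S ≠ ⊤ := fun e =>
    (H91.essential_lt hS hF hE).not_ge (subgroupOf_eq_top.1 e)
  obtain ⟨r, hi⟩ := hS.index (E.subgroupOf S)
  have hc : r ≤ n ∧ Nat.card (E.subgroupOf S) = p ^ (n - r) := by
    have e := (E.subgroupOf S).index_mul_card
    rw [hi, hn] at e
    have := (Nat.pow_dvd_pow_iff_le_right hpp.one_lt).1 ⟨_, e.symm⟩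
    refine ⟨this, Nat.eq_of_mul_eq_mul_left (pow_pos hpp.pos r) ?_⟩
    rw [e, ← pow_add]; congr 1; omega
  obtain rfl : r = 1 := by
    match r with
    | 0 => exact (hne (by rwa [pow_zero, index_eq_one] at hi)).elim
    | 1 => rfl
    | (m + 2) =>
      exfalso
      have e : LL S (m + 1) = E.subgroupOf S := eq_of_le_of_card_ge (S0662.lcs_le hS m _ hi) (by
        rw [hc.2, h.card_LL (by omega) (by omega)]; exact le_of_eq (by congr 1; omega))
      have hN : ∀ t : S, (t : Ω) ∈ normalizerIn S E := fun t => ⟨t.2,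
        (normal_subgroupOf_iff_le_normalizer hES).1 hEn t.2⟩
      let c : S →* F.autGroup E := (E.normalizerMonoidHom.comp (inclusion fun t ht =>
        (hN ⟨t, ht⟩).2)).codRestrict _ fun t => H91.cjAut_mem_autGroup F hES (hN t)
      have := H91.finite_autGroup F hES
      obtain ⟨R, hR⟩ := (H91.sat_fullyAutomized hS hF hE.2.1).2
      obtain ⟨hcen, -, _, Y, hY⟩ := hE
      refine noLL h h4 hp (j := m + 1) (by omega) (inclusion_injective hES) (hr.trans e.symm)
        (act := (F.autGroup E).subtype) (c := c) (subtype_injective _) (fun t y => rfl) ?_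
        (fun t ht => ?_) ?_ hY
      · convert H91.sylIn_top R
        rw [hR]
        ext α
        rw [mem_subgroupOf, H91.mem_autInducedBy_iff]
        refine ⟨?_, ?_⟩
        · rintro ⟨t, rfl⟩
          exact ⟨t, t.2, fun _ => rfl⟩
        · rintro ⟨g, hg, e⟩
          exact ⟨⟨g, hg⟩, Subtype.ext (MulEquiv.ext fun x => Subtype.ext (e x).symm)⟩
      · rw [e]
        exact H91.mem_of_cjAut_mem_Inn hES (H91.centric_centralizerIn_le hcen) (hN t) ht
      · ext α
        rw [mem_subgroupOf, H91.mem_Inn_iff, e]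
        refine ⟨?_, ?_⟩
        · rintro ⟨g, hg, e⟩
          exact ⟨⟨g, hES hg⟩, hg, Subtype.ext (MulEquiv.ext fun x => Subtype.ext (e x).symm)⟩
        · rintro ⟨t, ht, rfl⟩
          exact ⟨t, ht, fun _ => rfl⟩
  rw [pow_one] at hi
  refine ⟨hi, ?_⟩
  have mem : ∀ K : Subgroup S, E.subgroupOf S = K → ∀ x, x ∈ E ↔ ∃ hx : x ∈ S, (⟨x, hx⟩ : S) ∈ K :=
    fun K e x => ⟨fun hx => ⟨hES hx, e ▸ hx⟩, fun ⟨hx, h⟩ => (e.ge h :)⟩
  by_cases h1 : E.subgroupOf S = KK S 1
  · left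
    ext x
    rw [mem _ h1, hΓ₁, ← top_subtype_lowerCentralSeries S 1, ← top_subtype_lowerCentralSeries S 3]
    refine ⟨fun ⟨hx, h⟩ => ⟨hx, ?_⟩, fun ⟨hx, h⟩ => ⟨hx, fun y hy => ?_⟩⟩
    · rintro _ ⟨y, hy, rfl⟩
      exact ⟨_, commutatorElement_inv y ⟨x, hx⟩ ▸ inv_mem (h y hy), rfl⟩
    · rw [← commutatorElement_inv, inv_mem_iff, ← mem_map_iff_mem S.subtype_injective]
      exact h y ⟨y, hy, rfl⟩
  obtain ⟨k, rfl⟩ : ∃ k, n = k + 4 := ⟨n - 4, by omega⟩
  by_cases h2 : E.subgroupOf S = KK S (k + 1)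
  · right; left
    ext x
    rw [mem _ h2]
    refine ⟨fun ⟨hx, h'⟩ => ⟨hx, ?_⟩, fun ⟨hx, h'⟩ => ⟨hx, (S5270.mem_KK_iff h).2 fun y hy =>
      Subtype.ext (h' y ⟨y, hy, rfl⟩)⟩⟩
    rintro _ ⟨y, hy, rfl⟩
    exact congrArg Subtype.val ((S5270.mem_KK_iff h).1 h' y hy)
  have ne : ¬ E.subgroupOf S ≤ KK S 1 := fun e =>
    h1 (eq_of_le_of_card_ge e (by rw [hc.2, h.card_KK le_rfl h4]))
  rcases Nat.eq_zero_or_pos k with rfl | hk
  · right; right
    have c3 : Nat.card E = p ^ 3 :=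
      (Nat.card_congr (subgroupOfEquivOfLe hES).toEquiv).symm.trans hc.2
    rcases S5186.result p hS F hF E hE c3 with e | ⟨-, e, e'⟩ | ⟨e, -⟩
    · refine (ne fun g hg y hy => ?_).elim
      have := e.1.1.1 ⟨y, H3.commutator_le_of_normal_index_prime hi hy⟩ ⟨g, hg⟩
      rw [(commutatorElement_eq_one_iff_mul_comm (g₁ := y) (g₂ := g)).2
        (Subtype.ext (congrArg (fun u : E => (u : Ω)) this))]
      exact one_mem _
    · refine ⟨rfl, c3, e, ((Nat.dvd_prime hpp).1 (Monoid.exponent_dvd_of_forall_pow_eq_one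
        fun x => Subtype.ext (e' x x.2))).resolve_left fun e1 => ?_⟩
      have := Monoid.exp_eq_one_iff.1 e1
      have := Nat.card_of_subsingleton (1 : E)
      have := Nat.one_lt_pow (show 3 ≠ 0 by omega) hpp.one_lt
      omega
    · omega
  · have : (inclusion hES).range.Normal := hr ▸ hEn
    refine (not_nf h (by omega) (inclusion_injective hES) (hr ▸ hi) (hr ▸ h1) (fun e => ?_)
      (nf_of_essential hS hF hE)).elim
    rw [hr] at e
    match k, hk with
    | 1, _ => exact hne (e.trans (eq_top_iff.2 fun g _ y hy =>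
        bot_le (a := LL S 5) (h.LL_eq_bot (k := 4) le_rfl ▸ LL_comm' hy g)))
    | 2, _ => exact h2 e
    | (k + 3), _ => exact ne (e.le.trans (KK_three h hp (by omega)))

end Cfsg.Agent.S5269
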