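import Cfsg.Statements.S5185
import Cfsg.Agent.H62.NoFlag3
import Cfsg.Agent.H21.QuadPair

set_option autoImplicit false
universe u
open Cfsg

namespace Cfsg.Agent.S5185

open Subgroup Cfsg.Agent.H62 Cfsg.Agent.H91 Cfsg.FusionSystem Matrix
open scoped commutatorElement

/-- The natural action of `SL(2, p)`. -/
noncomputable def rho (p : ℕ) : SpecialLinearGroup (Fin 2) (ZMod p) →*
    MulAut (Multiplicative (Fin 2 → ZMod p)) :=
  MonoidHom.mk' (fun A => AddEquiv.toMultiplicative (SpecialLinearGroup.toLin' A).toAddEquiv)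
    fun A B => by ext x; simp

theorem rho_apply {p : ℕ} (A : SpecialLinearGroup (Fin 2) (ZMod p)) (x : Fin 2 → ZMod p) :
    rho p A (Multiplicative.ofAdd x) = Multiplicative.ofAdd (A.1 *ᵥ x) := rfl

theorem rho_inj (p : ℕ) : Function.Injective (rho p) :=
  (injective_iff_map_eq_one _).2 fun A hA => Subtype.ext (toLin'.injective (LinearMap.ext fun x => by
    have := rho_apply A x
    rw [hA] at this
    rw [toLin'_apply, toLin'_apply]
    exact (Multiplicative.ofAdd.injective this).symm.trans (one_mulVec x).symm))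


/-- Let F be a saturated fusion system over a finite p-group S and H an essential subgroup of order p². Then H is elementary abelian (isomorphic to C_p × C_p) and its F-automorphism group contains a subgroup isomorphic to SL(2,p). -/
theorem result {Ω : Type u} [Group Ω] {S : Subgroup Ω} [Finite S] (p : ℕ) [Fact p.Prime] (hS : IsPGroup p S)
    (F : Cfsg.FusionSystem S) (hF : F.IsSaturated p) (H : Subgroup Ω) (hH : F.IsEssential p H) (hcard : Nat.card H = p ^ 2) :
    Cfsg.IsElementaryAbelian p H ∧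
      ∃ K : Subgroup ↥(F.autGroup H), Nonempty (↥K ≃* Matrix.SpecialLinearGroup (Fin 2) (ZMod p)) := by
  have hpp : p.Prime := Fact.out
  have hES := hH.1.1
  have := finite_of_le hES
  have hp := isPGroup_of_le hS hES
  have h1 := (nf_of_essential hS hF hH).sq_le hp
  rw [hcard] at h1
  obtain ⟨hab, hexp⟩ := elem_of_frattini hp (Nat.le_of_mul_le_mul_left
    (h1.trans_eq (mul_one _).symm) (pow_pos hpp.pos 2))
  have hab' : ∀ x ∈ H, ∀ y ∈ H, x * y = y * x := fun x hx y hy =>
    congrArg Subtype.val (hab ⟨x, hx⟩ ⟨y, hy⟩)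
  have hexp' : ∀ x ∈ H, x ^ p = 1 := fun x hx => congrArg Subtype.val (hexp ⟨x, hx⟩)
  refine ⟨⟨H50.abelian_of_forall hab', hexp'⟩, ?_⟩
  obtain ⟨u, v, t, h⟩ := exists_rt hS hF hH le_rfl bot_le (fun α _ x hx => efn_mem α hx)
    (fun α _ x _ hx => by rw [mem_bot.1 hx, (homOn_efn α).map_one]; exact one_mem _)
    (fun x hx y hy => commutatorElement_eq_one_iff_mul_comm.2 (hab' x hx y hy)) hexp'
    (by rw [card_bot, mul_one, hcard]) fun γ _ e => ⟨0, by
      rw [pow_zero, pow_one]
      exact mulAut_ext_efn fun x hx => (inv_mul_eq_one.1 (e x hx)).symm.trans (efn_one hx).symm⟩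
  obtain ⟨Y, hY, y1, y2, -⟩ := h.opp
  let u' : H := ⟨u, h.uD⟩
  let v' : H := ⟨v, h.vD⟩
  have hsup : zpowers u' ⊔ zpowers v' = ⊤ := eq_top_iff.2 fun x _ => by
    obtain ⟨i, j, e⟩ := h.gen' x.2
    rw [show x = u' ^ i * v' ^ j from Subtype.ext e]
    exact mul_mem_sup (pow_mem (mem_zpowers _) i) (pow_mem (mem_zpowers _) j)
  let f : Multiplicative (Fin 2 → ZMod p) →* H := MonoidHom.mk'
    (fun x => zHom p u' (hexp _) (.ofAdd (x.toAdd 0)) * zHom p v' (hexp _) (.ofAdd (x.toAdd 1)))
    fun x y => by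
      simp only [toAdd_mul, Pi.add_apply, ofAdd_add, map_mul, mul_assoc]
      congr 1
      rw [← mul_assoc, ← mul_assoc, hab (zHom p u' _ _)]
  have z1 : ∀ a : H, zHom p a (hexp a) (.ofAdd 1) = a := fun a => by
    simpa using zHom_natCast p a (hexp a) 1
  have fu : f (.ofAdd ![1, 0]) = u' := by simp [f, z1]
  have fv : f (.ofAdd ![0, 1]) = v' := by simp [f, z1]
  have hf : Function.Surjective f := MonoidHom.range_eq_top.1 (eq_top_iff.2 (hsup ▸
    sup_le (zpowers_le.2 ⟨_, fu⟩) (zpowers_le.2 ⟨_, fv⟩)))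
  let e := MulEquiv.ofBijective f (hf.bijective_of_nat_card_le (by
    rw [hcard, Nat.card_congr Multiplicative.toAdd, Nat.card_fun, Nat.card_zmod]; simp))
  let ρ := (MulAut.congr e).toMonoidHom.comp (rho p)
  have hρ : ∀ A x, ρ A (f (.ofAdd x)) = f (.ofAdd (A.1 *ᵥ x)) := fun A x => by
    change e (rho p A (e.symm (e _))) = _
    rw [e.symm_apply_apply]; rfl
  have hvu : f (.ofAdd ![1, 1]) = v' * u' := by
    rw [← fu, ← fv, ← map_mul, ← ofAdd_add]; simp
  have hle : ρ.range ≤ F.autGroup H := by
    rw [MonoidHom.range_eq_map, ← H21.closure_upperT_lowerT_zmod one_ne_zero one_ne_zero,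
      map_le_iff_le_comap, closure_le]
    rintro _ (rfl | rfl)
    · have : ρ (H21.upperT 1) = cjAut H t h.tN.2 := aut_ext_two hsup
        (by rw [← fu, hρ, fu]
            exact (show f _ = f (.ofAdd ![1, 0]) by
              congr 2; ext i; fin_cases i <;> simp [H21.coe_upperT, mulVec, dotProduct]).trans
              (fu.trans (Subtype.ext h.tu'.symm)))
        (by rw [← fv, hρ, fv]
            exact (show f _ = f (.ofAdd ![1, 1]) by
              congr 2; ext i; fin_cases i <;> simp [H21.coe_upperT, mulVec, dotProduct]).trans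
              (hvu.trans (Subtype.ext h.tv'.symm)))
      exact show ρ _ ∈ _ from this ▸ cjAut_mem_autGroup F hES h.tN
    · have : ρ (H21.lowerT 1) = Y := aut_ext_two hsup
        (by rw [← fu, hρ, fu]
            exact (show f _ = f (.ofAdd ![1, 1]) by
              congr 2; ext i; fin_cases i <;> simp [H21.coe_lowerT, mulVec, dotProduct]).trans
              (hvu.trans ((hab _ _).trans (Subtype.ext ((inv_mul_eq_one.1 y2).trans
                (efn_coe Y u'))))))
        (by rw [← fv, hρ, fv]
            exact (show f _ = f (.ofAdd ![0, 1]) by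
              congr 2; ext i; fin_cases i <;> simp [H21.coe_lowerT, mulVec, dotProduct]).trans
              (fv.trans (Subtype.ext ((inv_mul_eq_one.1 y1).trans (efn_coe Y v')))))
      exact show ρ _ ∈ _ from this ▸ hY
  exact ⟨ρ.range.subgroupOf _, ⟨(subgroupOfEquivOfLe hle).trans
    (MonoidHom.ofInjective ((MulAut.congr e).injective.comp (rho_inj p))).symm⟩⟩

end Cfsg.Agent.S5185
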