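import Cfsg.Statements.S5316
import Cfsg.Agent.MCE.Cube
import Cfsg.Agent.SR3.Rows
import Cfsg.Agent.S5185
import Cfsg.Agent.S5186

set_option autoImplicit false
open Cfsg

namespace Cfsg.Agent.S5316

theorem mc_congr {A B : Type*} [Group A] [Group B] {p n : ℕ} (e : A ≃* B) (h : H62.MC A p n) :
    H62.MC B p n := ⟨Nat.card_congr e.toEquiv ▸ h.card, h.three_le, fun c => h.ne_bot (by
  rw [← Subgroup.map_eq_bot_iff_of_injective _ (f := e.toMonoidHom) e.injective,
    Subgroup.map_lowerCentralSeries, Subgroup.map_top_of_surjective _ e.surjective]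
  exact c)⟩

/-- Let p ≥ 5 be a prime, S a finite p-group of maximal class of order p^n with n ≥ 5 (nilpotency class n − 1), F a saturated fusion system over S, and E an F-essential subgroup that is not a pearl (not elementary abelian of order p² and not extraspecial of order p³ and exponent p). Then E has order at least p⁴. -/
theorem result {Ω : Type*} [Group Ω] {S : Subgroup Ω} [Finite S] (p : ℕ) [Fact p.Prime] (hp : 5 ≤ p) (hS : IsPGroup p ↥S) (n : ℕ) (hn : Nat.card S = p ^ n) (h5 : 5 ≤ n)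
    (hmax : Subgroup.lowerCentralSeries S (n - 2) ≠ ⊥) (F : Cfsg.FusionSystem S) (hF : F.IsSaturated p)
    (E : Subgroup Ω) (hE : F.IsEssential p E)
    (hnp : ¬ ((Nat.card ↥E = p ^ 2 ∧ Cfsg.IsElementaryAbelian p E) ∨ (Nat.card ↥E = p ^ 3 ∧ Cfsg.IsExtraspecial p ↥E ∧ Monoid.exponent ↥E = p))) :
    p ^ 4 ≤ Nat.card ↥E := by
  by_contra hlt
  have hES : E ≤ S := hE.1.1
  have : Finite E := H91.finite_of_le hES
  obtain ⟨m, hm⟩ := (hS.to_le hES).exists_card_eq
  have m4 : m < 4 := (Nat.pow_lt_pow_iff_right (by omega)).1 (hm ▸ not_le.1 hlt)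
  obtain ⟨G, _, _, T, j, k, h⟩ := SR3.Rows.realize hS F
  have hT := h.g.isPGroup hS
  have hc := (h.g.card_im hES).trans hm
  by_cases m1 : m ≤ 1
  · have hP := SR3.par_of hT (h.isSaturated hF) (h.isEssential hE)
      (hc ▸ (Nat.pow_le_pow_right (by omega) (by omega)).trans
        (Nat.le_mul_of_pos_right _ Nat.card_pos))
    exact hP.nc (hP.toLoc.tr_of_card le_rfl bot_le le_rfl (fun _ _ => SR3.nm_bot) (by
      rw [hc, Subgroup.card_bot, mul_one]
      simpa using Nat.pow_le_pow_right (n := p) (by omega) m1))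
  obtain rfl | rfl : m = 2 ∨ m = 3 := by omega
  · exact hnp (Or.inl ⟨hm, (S5185.result p hS F hF E hE hm).1⟩)
  rcases S5186.result p hS F hF E hE hm with c | ⟨-, c1, c2⟩ | ⟨c, -⟩
  · have c' := SR3.Rows.elab_congr (h.g.restrict hES).equiv c
    exact (MCF.cu_of hT (h.isSaturated hF) (h.isEssential hE) hc
      (Subgroup.le_centralizer_iff_isMulCommutative.2 c'.1) c'.2).false
      (mc_congr h.g.equiv ((H62.mc_iff hn (by omega)).2 hmax)) hp h5 (h.isSaturated hF)
  · refine hnp (Or.inr ⟨hm, c1, ?_⟩)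
    have : Nontrivial E := Finite.one_lt_card_iff_nontrivial.1
      (hm ▸ Nat.one_lt_pow (by omega) (by omega))
    exact ((Nat.dvd_prime Fact.out).1 (Monoid.exponent_dvd_of_forall_pow_eq_one fun x =>
      Subtype.ext (c2 x x.2))).resolve_left (Monoid.one_lt_exponent).ne'
  · omega

end Cfsg.Agent.S5316
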