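import Cfsg.Statements.S3433
import Cfsg.Agent.H25.CITStruct
import Cfsg.Agent.H25.FpfSL2
import Cfsg.Agent.H8.CCAb
import Cfsg.Agent.S3224
-- import your own Cfsg.Agent.* helpers here

set_option autoImplicit false
open Cfsg

namespace Cfsg.Agent.S3433

open Subgroup Cfsg.Agent.H69 Cfsg.Agent.H12 Cfsg.Agent.H25

theorem exists_eight {G : Type*} [Group G] [Finite G] {U : Subgroup G} (hU : EA U)
    (hc : Nat.card U = 4) (hC : centralizer (U : Set G) = U) (h16 : 16 ∣ Nat.card G) :
    ∃ g : G, 8 ≤ orderOf g := by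
  have := Fact.mk Nat.prime_two
  obtain ⟨S, hUS⟩ := hU.isPGroup.exists_le_sylow
  have hS : 16 ≤ Nat.card S := Nat.le_of_dvd Nat.card_pos (S.pow_dvd_card_of_pow_dvd_card (n := 4) h16)
  have hSb : (S : Subgroup G) ≠ ⊥ := fun e => by simp [e] at hS
  obtain ⟨z, hz, hz2⟩ := exists_invol_mem (OZ_ea (S : Subgroup G)).isPGroup
    (OZ_ne_bot S.isPGroup' hSb)
  have hzU : z ∈ U := hC ▸ mem_centralizer_iff.2 fun u hu => (hz.2.2 u (hUS hu)).symm
  obtain ⟨s, hs, hsU⟩ := SetLike.not_le_iff_exists.1 fun e : (S : Subgroup G) ≤ U => by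
    have := card_le_of_le e; omega
  obtain ⟨x, hx, hxs⟩ : ∃ x ∈ U, x * s ≠ s * x := by
    by_contra hn
    push Not at hn
    exact hsU (hC ▸ mem_centralizer_iff.2 hn)
  have hx1 : x ≠ 1 := by
    rintro rfl
    exact hxs (by group)
  have hcx : centralizer ({(⟨x, hUS hx⟩ : (S : Subgroup G))} : Set (S : Subgroup G)) =
      U.subgroupOf S := by
    ext g
    rw [mem_centralizer_singleton_iff, mem_subgroupOf, Subtype.ext_iff]
    refine ⟨fun e => hC ▸ mem_centralizer_iff.2 fun u hu => ?_, fun e => hU.comm e hx⟩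
    by_contra hne
    have h1 : zpowers z < U ⊓ centralizer {(g : G)} := lt_of_le_of_ne (zpowers_le_of_mem
      ⟨hzU, mem_centralizer_singleton_iff.2 (hz.2.2 g g.2)⟩) fun e' => hxs
        (comm_of_mem_zpowers (hz.2.2 s hs).symm
          (e' ▸ (⟨hx, mem_centralizer_singleton_iff.2 e.symm⟩ : x ∈ U ⊓ centralizer {(g : G)}))).symm
    have h2 : U ⊓ centralizer {(g : G)} < U := lt_of_le_of_ne inf_le_left fun e' =>
      hne (mem_centralizer_singleton_iff.1 (inf_eq_left.1 e' hu))
    have h3 := (card_le_of_le h1.le).lt_of_ne fun e => h1.ne (eq_of_le_of_card_ge h1.le e.ge)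
    have h4 := (card_le_of_le h2.le).lt_of_ne fun e => h2.ne (eq_of_le_of_card_ge h2.le e.ge)
    have h5 := card_dvd_of_le h2.le
    rw [Nat.card_zpowers, hz2] at h3
    rw [hc] at h4 h5
    rw [show Nat.card (U ⊓ centralizer {(g : G)} : Subgroup G) = 3 by omega] at h5
    omega
  rcases Cfsg.Agent.S3224.result S.isPGroup' ⟨x, hUS hx⟩
    (by rw [← Subgroup.orderOf_coe]; exact orderOf_eq_two hx1 (hU x hx))
    (by rw [hcx, card_subgroupOf_of_le hUS, hc]) with ⟨n, ⟨e⟩⟩ | ⟨n, hn, -, y, -, hy, -⟩ | e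
  · have h1 := Nat.card_congr e.toEquiv
    rw [DihedralGroup.nat_card] at h1
    have : NeZero n := ⟨by omega⟩
    exact ⟨e.symm (DihedralGroup.r 1), by
      rw [Subgroup.orderOf_coe, e.symm.orderOf_eq, DihedralGroup.orderOf_r_one]; omega⟩
  · exact ⟨y, by rw [Subgroup.orderOf_coe, hy]; exact Nat.pow_le_pow_right two_pos hn⟩
  · omega

/-- A finite group whose set of element orders is exactly {1, 2, 3, 4, 5} is isomorphic to the alternating group of degree 6, or has a normal elementary abelian 2-subgroup with quotient isomorphic to the alternating group of degree 5. -/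
theorem result {G : Type*} [Group G] [Finite G] (h : Set.range (orderOf : G → ℕ) = {k : ℕ | 1 ≤ k ∧ k ≤ 5}) :
    Nonempty (G ≃* ↥(alternatingGroup (Fin 6))) ∨
      ∃ (N : Subgroup G) (_ : N.Normal), Cfsg.IsElementaryAbelian 2 N ∧ Nonempty (G ⧸ N ≃* ↥(alternatingGroup (Fin 5))) := by
  have h5 : ∀ g : G, orderOf g ≤ 5 := fun g => (h ▸ Set.mem_range_self g : _ ∈ {k | 1 ≤ k ∧ k ≤ 5}).2
  have hE : H81.Eppo G := H81.eppo_of_isPrimePow fun g hg => by
    have h1 := h5 g
    have h2 := orderOf_pos g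
    have h3 := mt orderOf_eq_one_iff.1 hg
    generalize orderOf g = k at *
    interval_cases k
    · exact absurd rfl h3
    · exact Nat.prime_two.isPrimePow
    · exact Nat.prime_three.isPrimePow
    · exact Nat.prime_two.isPrimePow.pow two_ne_zero
    · exact Nat.prime_five.isPrimePow
  have hd : ∀ k, 1 ≤ k → k ≤ 5 → k ∣ Nat.card G := fun k h1 h2 => by
    obtain ⟨g, rfl⟩ : k ∈ Set.range (orderOf : G → ℕ) := h ▸ ⟨h1, h2⟩
    exact orderOf_dvd_natCard g
  have hs : ¬ Group.IsSolvable G := fun hs => hE.not_three_primes hs Nat.prime_two Nat.prime_three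
    Nat.prime_five (by norm_num) (by norm_num) (by norm_num) (hd 2 (by norm_num) (by norm_num))
    (hd 3 (by norm_num) (by norm_num)) (hd 5 (by norm_num) (by norm_num))
  have hC := cit_of_eppo hE
  have hq : ∀ {X : Type} [Group X] (N : Subgroup G) [N.Normal] (_ : G ⧸ N ≃* X) (x : X),
      orderOf x ≤ 5 := by
    intro X _ N _ e x
    obtain ⟨y, rfl⟩ := e.surjective x
    obtain ⟨g, rfl⟩ := QuotientGroup.mk'_surjective N y
    rw [e.orderOf_eq]
    exact (Nat.le_of_dvd (orderOf_pos g) (orderOf_map_dvd _ g)).trans (h5 g)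
  have h7 : ∀ p : ℕ, p.Prime → p ∣ Nat.card G → p ≤ 5 := fun p hp h => by
    have := Fact.mk hp
    obtain ⟨g, hg⟩ := exists_prime_orderOf_dvd_card' p h
    exact hg ▸ h5 g
  have hsz : ∀ (N : Subgroup G) [N.Normal], ¬ Cfsg.Lie.IsoSuzuki (G ⧸ N) := by
    rintro N _ ⟨K, _, _, m, hm, hK, ⟨e⟩⟩
    obtain ⟨g, hg⟩ := exists_orderOf_sz hm hK (Or.inl rfl)
    have := hq N e g
    have := H13.five_le_nm hm
    have := H13.nm_lt_np m
    omega
  by_cases hO : Cfsg.pCore 2 G = ⊥
  · rcases cit_simple_or_m10 hs hC hO with hG | ⟨⟨N, -, hN, K, _, _, hK, ⟨e⟩⟩, U, U', c⟩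
    · have hc : ∃ a b : G, a * b ≠ b * a := by
        by_contra hn
        push Not at hn
        exact hs (Group.isSolvable_of_comm hn)
      have e0 := QuotientGroup.quotientBot (G := G)
      rcases eppo_simple hc hE with a | ⟨K, _, _, hK, ⟨e⟩⟩ | ⟨K, _, _, hK, ⟨e⟩⟩ |
        ⟨K, _, _, ⟨hK, ⟨e⟩⟩ | ⟨hK, ⟨e⟩⟩⟩
      · exact Or.inl a
      · have hc := H9.gcd_mul_card_psl_two (F := K)
        rw [← Nat.card_congr e.toEquiv] at hc
        simp only [Finset.mem_insert, Finset.mem_singleton] at hK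
        rcases hK with hK | hK | hK | hK
        · exact Or.inr ⟨⊥, inferInstance, ⟨inferInstance, by simp⟩,
            ⟨(e0.trans e).trans (Cfsg.Agent.S0252.result hK).some⟩⟩
        all_goals rw [hK] at hc; norm_num at hc
        · have := h7 7 (by norm_num) (by omega); omega
        · have := h7 7 (by norm_num) (by omega); omega
        · have := h7 17 (by norm_num) (by omega); omega
      · have hc := Cfsg.Agent.S0243.result hK 3 (by norm_num)
        rw [← Nat.card_congr e.toEquiv] at hc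
        simp [Fin.prod_univ_three] at hc
        have := h7 7 (by norm_num) (by omega); omega
      · exact absurd ⟨K, inferInstance, inferInstance, 1, le_rfl, hK, ⟨e0.trans e⟩⟩ (hsz ⊥)
      · exact absurd ⟨K, inferInstance, inferInstance, 2, by norm_num, hK, ⟨e0.trans e⟩⟩ (hsz ⊥)
    · have hc := H9.gcd_mul_card_psl_two (F := K)
      rw [← Nat.card_congr e.toEquiv, hK] at hc
      norm_num at hc
      have := N.card_mul_index
      rw [hN] at this
      obtain ⟨g, hg⟩ := exists_eight c.ea c.card c.cent (by omega)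
      have := h5 g
      omega
  · rcases cit_quotient_iso hs hC _ rfl hO with ⟨n, hn, ⟨e⟩⟩ | a
    · let := Fintype.ofFinite (GaloisField 2 n)
      have hK : Fintype.card (GaloisField 2 n) = 2 ^ n := by
        rw [← Nat.card_eq_fintype_card, GaloisField.card 2 n (by omega)]
      have h4 : 2 ^ 2 ≤ 2 ^ n := Nat.pow_le_pow_right (by norm_num) hn
      have hg : Nat.gcd 2 (Fintype.card (GaloisField 2 n) - 1) = 1 := Nat.coprime_two_left.2 (by
        rw [hK]; exact Nat.Even.sub_odd (by omega) (Nat.even_pow.2 ⟨even_two, by omega⟩) odd_one)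
      obtain ⟨g, hg'⟩ := exists_orderOf_psl2 (F := GaloisField 2 n) (by omega) (Or.inr dvd_rfl)
      have := hq _ e g
      rw [hg', hg] at this
      have := Fact.mk Nat.prime_two
      have hea := ea_of_sl2 (F := GaloisField 2 n) (by rw [Nat.card_eq_fintype_card]; omega) hC _
        (isPGroup_pCore 2 G) (e.trans
          (H8.nonempty_sl_equiv_psl (GaloisField 2 n) (CharP.cast_eq_zero _ 2)).some.symm)
      exact Or.inr ⟨_, inferInstance, ⟨⟨⟨fun a b => Subtype.ext (hea.comm a.2 b.2)⟩⟩,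
        fun a ha => by rw [pow_two, hea a ha]⟩,
        ⟨e.trans (Cfsg.Agent.S0252.result (by omega)).some⟩⟩
    · exact absurd a (hsz _)

end Cfsg.Agent.S3433
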