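import Cfsg.Statements.S3376
import Cfsg.Agent.H49.SylowOf

set_option autoImplicit false
open Cfsg

namespace Cfsg.Agent.S3376

open Equiv Equiv.Perm

/-- a group of order 162 with a core-free subgroup of index 9 avoiding a central element of order 3 -/
theorem embed {G : Type*} [Group G] [Finite G] (hG : Nat.card G = 162) (H : Subgroup G)
    (hH : H.index = 9) (hc : H.normalCore = ⊥) (z : G) (hz : ∀ g, g * z = z * g) (hz3 : z ^ 3 = 1)
    (hzH : z ∉ H) (c : Perm (Fin 9)) (hc3 : c.cycleType = {3, 3, 3}) :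
    Nonempty (G ≃* Subgroup.centralizer ({c} : Set (Perm (Fin 9)))) := by
  classical
  haveI : Fact (Nat.Prime 3) := ⟨by norm_num⟩
  have e : (G ⧸ H) ≃ Fin 9 := Finite.equivFinOfCardEq hH
  let f : G →* Perm (Fin 9) := e.permCongrHom.toMonoidHom.comp (MulAction.toPermHom G (G ⧸ H))
  have hf : Function.Injective f := by
    refine e.permCongrHom.injective.comp ?_
    rw [← MonoidHom.ker_eq_bot_iff, ← Subgroup.normalCore_eq_ker, hc]
  have hfz : (f z).support = Finset.univ := by
    ext x
    simp only [mem_support, Finset.mem_univ, iff_true]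
    intro hx
    obtain ⟨y, rfl⟩ := e.surjective x
    have h1 : z • y = y := by
      apply e.injective
      simpa [f] using hx
    induction y using QuotientGroup.induction_on with
    | H g =>
      have h2 : ((z * g : G) : G ⧸ H) = (g : G ⧸ H) := h1
      rw [QuotientGroup.eq] at h2
      apply hzH
      have h3 : (z * g)⁻¹ * g = z⁻¹ := by rw [← hz g]; group
      rw [h3] at h2
      exact inv_mem_iff.1 h2
  have h3 : (f z) ^ 3 = 1 := by rw [← map_pow, hz3, map_one]
  have hct : (f z).cycleType = c.cycleType := by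
    have h1 := cycleType_of_pow_prime_eq_one h3
    have h2 := (f z).sum_cycleType
    rw [hfz, h1, Multiset.sum_replicate] at h2
    simp only [smul_eq_mul, Finset.card_univ, Fintype.card_fin] at h2
    have h4 : (f z).cycleType.card = 3 := by omega
    rw [h1, h4, hc3]; rfl
  obtain ⟨u, hu⟩ := isConj_iff.1 (isConj_of_cycleType_eq hct)
  let f' : G →* Subgroup.centralizer ({c} : Set (Perm (Fin 9))) :=
    ((MulAut.conj u).toMonoidHom.comp f).codRestrict _ (fun g => by
      rw [Subgroup.mem_centralizer_singleton_iff, ← hu]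
      have : f g * f z = f z * f g := by rw [← map_mul, hz, map_mul]
      simp only [MulEquiv.toMonoidHom_eq_coe, MonoidHom.coe_comp, MonoidHom.coe_coe,
        Function.comp_apply, MulAut.conj_apply]
      calc u * f g * u⁻¹ * (u * f z * u⁻¹) = u * (f g * f z) * u⁻¹ := by group
        _ = u * f z * u⁻¹ * (u * f g * u⁻¹) := by rw [this]; group)
  have hf' : Function.Injective f' := by
    intro a b hab
    have : (MulAut.conj u) (f a) = (MulAut.conj u) (f b) := congrArg Subtype.val hab
    exact hf ((MulAut.conj u).injective this)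
  have hcard : Nat.card (Subgroup.centralizer ({c} : Set (Perm (Fin 9)))) = 162 := by
    rw [nat_card_centralizer, hc3]; decide
  exact ⟨MulEquiv.ofBijective f' (hf'.bijective_of_nat_card_le (by rw [hcard, hG]))⟩

theorem card_sylow {G : Type*} [Group G] [Finite G] {p a m : ℕ} [hp : Fact p.Prime] (P : Sylow p G)
    (h : Nat.card G = p ^ a * m) (hm : ¬ p ∣ m) : Nat.card (P : Subgroup G) = p ^ a := by
  have hm0 : m ≠ 0 := by rintro rfl; exact hm (dvd_zero p)
  rw [P.card_eq_multiplicity, h, Nat.factorization_mul (pow_ne_zero _ hp.out.ne_zero) hm0,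
    Finsupp.add_apply, Nat.factorization_eq_zero_of_not_dvd hm, hp.out.factorization_pow]
  simp


/-- Let G be a group of order 162 = 3⁴·2 with Sylow 3-subgroup S and Sylow 2-subgroup T, having an elementary abelian normal subgroup J of order 27, such that Z = Z(S) has order 3, Z centralizes T, and C_S(T) ≠ S. Then G is isomorphic to the centralizer in Sym(9) of a product of three disjoint 3-cycles. -/
theorem result {G : Type*} [Group G] [Finite G] (hG : Nat.card G = 162)
    (S : Sylow 3 G) (T : Sylow 2 G) (J : Subgroup G) [hJn : J.Normal] (hJcomm : IsMulCommutative J)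
    (hJexp : ∀ a ∈ J, a ^ 3 = 1) (hJcard : Nat.card J = 27)
    (Z : Subgroup G) (hZ : Z = (S : Subgroup G) ⊓ Subgroup.centralizer ((S : Subgroup G) : Set G)) (hZcard : Nat.card Z = 3)
    (hZT : Z ≤ Subgroup.centralizer ((T : Subgroup G) : Set G))
    (hST : (S : Subgroup G) ⊓ Subgroup.centralizer ((T : Subgroup G) : Set G) ≠ S) :
    Nonempty (G ≃* Subgroup.centralizer ({Equiv.swap (0 : Fin 9) 1 * Equiv.swap 1 2 * Equiv.swap 3 4 * Equiv.swap 4 5 * Equiv.swap 6 7 * Equiv.swap 7 8} : Set (Equiv.Perm (Fin 9)))) := by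
  classical
  haveI : Fact (Nat.Prime 3) := ⟨by norm_num⟩
  have hS : Nat.card (S : Subgroup G) = 3 ^ 4 := card_sylow S (m := 2) (by rw [hG]; norm_num) (by norm_num)
  have hT : Nat.card (T : Subgroup G) = 2 ^ 1 := card_sylow T (m := 81) (by rw [hG]; norm_num) (by norm_num)
  have hSi : (S : Subgroup G).index = 2 := by
    have := (S : Subgroup G).card_mul_index
    rw [hS, hG] at this; omega
  haveI hSn : (S : Subgroup G).Normal := Subgroup.normal_of_index_eq_two hSi
  have hJS : J ≤ S := by
    have hp : IsPGroup 3 J := IsPGroup.of_card (n := 3) (by rw [hJcard]; norm_num)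
    obtain ⟨Q, hQ⟩ := hp.exists_le_sylow
    haveI := Sylow.unique_of_normal S hSn
    rwa [Subsingleton.elim Q S] at hQ
  -- the involution
  obtain ⟨t, htT, ht1⟩ : ∃ t ∈ (T : Subgroup G), t ≠ 1 := by
    by_contra hh
    push Not at hh
    have : (T : Subgroup G) = ⊥ := (Subgroup.eq_bot_iff_forall _).2 hh
    rw [this] at hT; simp at hT
  have ht2 : t * t = 1 := by
    have := pow_card_eq_one' (x := (⟨t, htT⟩ : (T : Subgroup G)))
    rw [hT] at this
    have := congrArg Subtype.val this
    simpa [pow_two] using this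
  have hti : t⁻¹ = t := inv_eq_of_mul_eq_one_right ht2
  have hTt : ∀ x ∈ (T : Subgroup G), x = 1 ∨ x = t := by
    intro x hx
    have := (Nat.card_eq_two_iff' (1 : (T : Subgroup G))).1 (by rw [hT]; rfl)
    obtain ⟨y, -, hy⟩ := this
    by_cases h : x = 1
    · exact Or.inl h
    · right
      have h1 := hy ⟨x, hx⟩ (fun h' => h (congrArg Subtype.val h'))
      have h2 := hy ⟨t, htT⟩ (fun h' => ht1 (congrArg Subtype.val h'))
      exact congrArg Subtype.val (h1.trans h2.symm)
  have hSo : ∀ x ∈ (S : Subgroup G), x * x = 1 → x = 1 := by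
    intro x hx h2
    have h1 := pow_card_eq_one' (x := (⟨x, hx⟩ : (S : Subgroup G)))
    rw [hS] at h1
    have h1 : x ^ 81 = 1 := by simpa using congrArg Subtype.val h1
    have : x ^ 81 = (x * x) ^ 40 * x := by rw [← pow_two, ← pow_mul, ← pow_succ]
    rw [this, h2] at h1; simpa using h1
  have htS : t ∉ (S : Subgroup G) := fun h => ht1 (hSo t h ht2)
  have hGS : ∀ g : G, g ∈ (S : Subgroup G) ∨ g * t ∈ (S : Subgroup G) := by
    intro g
    rw [Subgroup.mul_mem_iff_of_index_two hSi]; tauto
  -- nontrivial subgroups of `S` normal in `G` contain `Z`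
  have hZN : ∀ N : Subgroup G, N.Normal → N ≤ S → N ≠ ⊥ → Z ≤ N := by
    intro N hN hNS hN0
    have h1 := H49.inf_center_ne_bot_of_nilpotent (K := (S : Subgroup G)) (N := N)
      S.isPGroup'.isNilpotent hNS (by rw [Subgroup.normalizer_eq_top]; exact le_top) hN0
    have h2 : N ⊓ Z ≠ ⊥ := by
      intro h; apply h1
      rw [eq_bot_iff, ← h, hZ]
      exact le_inf inf_le_left (inf_le_inf_right _ hNS)
    have h3 : Nat.card ↥(N ⊓ Z) ∣ 3 := hZcard ▸ Subgroup.card_dvd_of_le inf_le_right
    rcases (Nat.dvd_prime (by norm_num)).1 h3 with h | h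
    · exact absurd (Subgroup.eq_bot_of_card_eq _ h) h2
    · have : N ⊓ Z = Z := Subgroup.eq_of_le_of_card_ge inf_le_right (by rw [h, hZcard])
      rw [← this]; exact inf_le_left
  obtain ⟨z, hzZ, hz1⟩ : ∃ z ∈ Z, z ≠ 1 := by
    by_contra hh
    push Not at hh
    have : Z = ⊥ := (Subgroup.eq_bot_iff_forall _).2 hh
    rw [this] at hZcard; simp at hZcard
  have hzJ : z ∈ J := hZN J hJn hJS (by rintro rfl; simp at hJcard) hzZ
  have hz3 : z ^ 3 = 1 := hJexp z hzJ
  have hzt : t * z = z * t := (Subgroup.mem_centralizer_iff.1 (hZT hzZ)) t htT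
  have hzS : ∀ s ∈ (S : Subgroup G), s * z = z * s := by
    have := hzZ; rw [hZ] at this
    exact fun s hs => (Subgroup.mem_centralizer_iff.1 this.2) s hs
  have hzc : ∀ g, g * z = z * g := by
    intro g
    rcases hGS g with h | h
    · exact hzS g h
    · have h1 := hzS _ h
      have : g = g * t * t := by rw [mul_assoc, ht2, mul_one]
      rw [this, mul_assoc (g * t), hzt, ← mul_assoc, h1, mul_assoc z]
  -- a `t`-invariant character of `J` not vanishing at `z`
  letI : CommGroup J := IsMulCommutative.instCommGroup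
  obtain ⟨lam, hlam⟩ := CommGroup.exists_apply_ne_one_of_hasEnoughRootsOfUnity J ℂ
    (a := ⟨z, hzJ⟩) (fun h => hz1 (congrArg Subtype.val h))
  let τ : J →* J := (MulAut.conjNormal (H := J) t).toMonoidHom
  have hτ : ∀ x : J, (τ x : G) = t * x * t := fun x => by simp [τ, hti]
  have hττ : ∀ x, τ (τ x) = x := fun x => Subtype.ext (by
    rw [hτ, hτ]
    calc t * (t * x * t) * t = (t * t) * x * (t * t) := by group
      _ = x := by rw [ht2]; simp)
  let μ : J →* ℂˣ := lam * lam.comp τ
  have hμ : ∀ x, μ x = lam x * lam (τ x) := fun x => rfl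
  have hμτ : ∀ x, μ (τ x) = μ x := fun x => by rw [hμ, hμ, hττ, mul_comm]
  have hμ3 : ∀ x, μ x ^ 3 = 1 := fun x => by
    rw [← map_pow, show x ^ 3 = 1 from Subtype.ext (hJexp x x.2), map_one]
  have hμz : μ ⟨z, hzJ⟩ ≠ 1 := by
    have h1 : τ ⟨z, hzJ⟩ = ⟨z, hzJ⟩ := Subtype.ext (by
      rw [hτ]; show t * z * t = z; rw [hzt, mul_assoc, ht2, mul_one])
    rw [hμ, h1]
    intro h
    apply hlam
    have h3 : lam ⟨z, hzJ⟩ ^ 3 = 1 := by
      rw [← map_pow, show (⟨z, hzJ⟩ : J) ^ 3 = 1 from Subtype.ext hz3, map_one]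
    rw [pow_succ, pow_two, h, one_mul] at h3; exact h3
  have hr : Nat.card μ.range = 3 := by
    have h1 : μ.range ≤ rootsOfUnity 3 ℂ := by
      rintro _ ⟨x, rfl⟩; exact (mem_rootsOfUnity 3 _).2 (hμ3 x)
    have h2 : Nat.card μ.range ∣ 3 := by
      have := Subgroup.card_dvd_of_le h1
      rwa [Complex.card_rootsOfUnity] at this
    rcases (Nat.dvd_prime (by norm_num)).1 h2 with h | h
    · exfalso
      have := Subgroup.eq_bot_of_card_eq _ h
      exact hμz ((Subgroup.eq_bot_iff_forall _).1 this _ ⟨_, rfl⟩)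
    · exact h
  let K : Subgroup G := μ.ker.map J.subtype
  have hK9 : Nat.card K = 9 := by
    rw [Subgroup.card_map_of_injective J.subtype_injective]
    have := μ.ker.card_mul_index
    rw [Subgroup.index_ker, hr, hJcard] at this; omega
  have hKt : ∀ x ∈ K, t * x * t ∈ K := by
    rintro _ ⟨x, hx, rfl⟩
    refine ⟨τ x, ?_, hτ x⟩
    rw [SetLike.mem_coe, MonoidHom.mem_ker] at hx ⊢
    rw [hμτ, hx]
  have hKS : K ≤ S := (Subgroup.map_subtype_le _).trans hJS
  have hzK : z ∉ K := by
    rintro ⟨x, hx, hxz⟩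
    apply hμz
    have : x = ⟨z, hzJ⟩ := Subtype.ext hxz
    rw [← this]; exact hx
  let H : Subgroup G :=
    { carrier := {g | g ∈ K ∨ g * t ∈ K}
      one_mem' := Or.inl K.one_mem
      mul_mem' := by
        rintro a b (ha | ha) (hb | hb)
        · exact Or.inl (K.mul_mem ha hb)
        · right; rw [mul_assoc]; exact K.mul_mem ha hb
        · right
          have : a * b * t = a * t * (t * b * t) := by
            rw [← mul_assoc, ← mul_assoc, mul_assoc a t t, ht2, mul_one]
          rw [this]; exact K.mul_mem ha (hKt _ hb)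
        · left
          have : a * b = a * t * (t * (b * t) * t) := by
            calc a * b = a * (t * t) * b * (t * t) := by rw [ht2]; simp
              _ = _ := by group
          rw [this]; exact K.mul_mem ha (hKt _ hb)
      inv_mem' := by
        rintro a (ha | ha)
        · exact Or.inl (K.inv_mem ha)
        · right
          have : a⁻¹ * t = t * (a * t)⁻¹ * t := by
            rw [mul_inv_rev, hti, ← mul_assoc, ht2, one_mul]
          rw [this]; exact hKt _ (K.inv_mem ha) }
  have hHm : ∀ g, g ∈ H ↔ g ∈ K ∨ g * t ∈ K := fun g => Iff.rfl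
  have hHS : ∀ g ∈ H, g ∈ (S : Subgroup G) → g ∈ K := by
    intro g hg hs
    rcases hg with h | h
    · exact h
    · exact absurd ((Subgroup.mul_mem_cancel_left _ hs).1 (hKS h)) htS
  have htH : t ∈ H := Or.inr (by rw [ht2]; exact K.one_mem)
  have hKH : K ≤ H := fun g hg => Or.inl hg
  have hH18 : Nat.card H = 18 := by
    have h1 : (K.subgroupOf H).index = 2 := by
      rw [Subgroup.index_eq_two_iff]
      refine ⟨⟨t, htH⟩, fun b => ?_⟩
      simp only [Subgroup.mem_subgroupOf, Subgroup.coe_mul]
      rcases b.2 with h | h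
      · exact Or.inr ⟨h, fun h' => htS ((Subgroup.mul_mem_cancel_left _ (hKS h)).1 (hKS h'))⟩
      · exact Or.inl ⟨h, fun h' => htS ((Subgroup.mul_mem_cancel_left _ (hKS h')).1 (hKS h))⟩
    have h2 := (K.subgroupOf H).card_mul_index
    rw [h1, Nat.card_congr (Subgroup.subgroupOfEquivOfLe hKH).toEquiv, hK9] at h2
    omega
  have hHi : H.index = 9 := by
    have := H.card_mul_index
    rw [hH18, hG] at this; omega
  have hcore : H.normalCore = ⊥ := by
    have h1 : H.normalCore ⊓ S = ⊥ := by
      by_contra h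
      have := hZN _ inferInstance inf_le_right h hzZ
      exact hzK (hHS z (H.normalCore_le this.1) this.2)
    rw [Subgroup.eq_bot_iff_forall]
    intro x hx
    have h2 : ∀ y ∈ H.normalCore, y ∈ (S : Subgroup G) → y = 1 := fun y hy hs =>
      (Subgroup.eq_bot_iff_forall _).1 h1 y ⟨hy, hs⟩
    by_contra hx1
    have hxS : x ∉ (S : Subgroup G) := fun h => hx1 (h2 x hx h)
    -- `x` is central
    have hxc : ∀ g : G, g * x * g⁻¹ = x := by
      intro g
      have h3 : g * x * g⁻¹ * x⁻¹ ∈ (S : Subgroup G) := by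
        rw [Subgroup.mul_mem_iff_of_index_two hSi, inv_mem_iff]
        exact ⟨fun h => absurd (by simpa [mul_assoc] using hSn.conj_mem _ h g⁻¹) hxS,
          fun h => absurd h hxS⟩
      have := h2 _ (mul_mem ((H.normalCore_normal).conj_mem x hx g) (inv_mem hx)) h3
      exact mul_inv_eq_one.1 this
    have hx2 : x * x = 1 := h2 _ (mul_mem hx hx) (Subgroup.mul_self_mem_of_index_two hSi x)
    -- so `x t` is an involution in `S` or trivial
    have hxt : x * t ∈ (S : Subgroup G) := (hGS x).resolve_left hxS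
    have hc : t * x = x * t := by have := hxc t; rw [mul_inv_eq_iff_eq_mul] at this; exact this
    have h4 : x * t = 1 := hSo _ hxt (by
      calc x * t * (x * t) = x * (t * x) * t := by group
        _ = (x * x) * (t * t) := by rw [hc]; group
        _ = 1 := by rw [hx2, ht2, mul_one])
    have h5 : x = t := by rw [← hti]; exact eq_inv_of_mul_eq_one_left h4
    apply hST
    refine le_antisymm inf_le_left (le_inf le_rfl fun s _ => Subgroup.mem_centralizer_iff.2 ?_)
    intro y hy
    rcases hTt y hy with rfl | rfl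
    · simp
    · have := hxc s; rw [mul_inv_eq_iff_eq_mul, h5] at this; exact this.symm
  refine embed hG H hHi hcore z hzc hz3 (fun h => hzK (hHS z h (hJS hzJ))) _ ?_
  decide +kernel

end Cfsg.Agent.S3376
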