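import Cfsg.Statements.S2154
import Cfsg.Agent.H64.BorelTits
import Cfsg.Agent.H64.FixMat
import Cfsg.Agent.H38.MatLevi

set_option autoImplicit false
open Cfsg

namespace Cfsg.Agent.S2154

/-- The Borel–Tits property of the finite Chevalley groups of types G₂, B₂, D₄, F₄, E₆, E₇, E₈ over a finite field of characteristic p: for every non-trivial p-subgroup U of the group G there are an element g of G and a proper set J of fundamental roots such that the normaliser of U in G lies in the conjugate by g of the standard parabolic subgroup P_J and U lies in the conjugate by g of its unipotent radical U_J. -/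
theorem result {F : Type*} [Field F] [Fintype F] (p : ℕ) [Fact p.Prime] [CharP F p] (D : Cfsg.Lie.ChevalleyDatum) (hD : D ∈ [Cfsg.Lie.chevG2, Cfsg.Lie.chevB2, Cfsg.Lie.chevD4, Cfsg.Lie.chevF4, Cfsg.Lie.chevE6, Cfsg.Lie.chevE7, Cfsg.Lie.chevE8]) (U : Subgroup (GL D.Idx F)) (hUG : U ≤ D.group F) (hU : IsPGroup p ↥U) (hne : U ≠ ⊥) : ∃ g ∈ D.group F, ∃ J : Set ℕ, (∃ i, i < D.rank ∧ i ∉ J) ∧ Subgroup.normalizer (U : Set (GL D.Idx F)) ⊓ D.group F ≤ (D.parabolicSubgroup F J).map (MulAut.conj g).toMonoidHom ∧ U ≤ (D.unipotentRadical F J).map (MulAut.conj g).toMonoidHom := by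
  obtain ⟨inst⟩ := H37.nonempty_chev hD
  obtain ⟨y, hy, hy1⟩ := (Subgroup.bot_or_exists_ne_one U).resolve_left hne
  rw [← H38.mg_grp hD] at hUG
  obtain ⟨g, hg, J, ⟨j, hj⟩, h1, h2⟩ := H64.borel_tits (H38.mg_faithful hD F)
    (Q := (U : Set (GL D.Idx F))) (H64.exists_conj_le_U hD F p hU hUG) hy hy1
  have hJ : H38.nodes D {i | ∃ h : i < D.rank, (⟨i, h⟩ : Fin D.rank) ∈ J} = J := by
    ext i; simp
  refine ⟨g⁻¹, H38.mg_grp hD F ▸ inv_mem hg, {i | ∃ h : i < D.rank, (⟨i, h⟩ : Fin D.rank) ∈ J},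
    ⟨j, j.2, by simpa using hj⟩, fun m hm => ?_, fun y hy => ?_⟩
  · rw [H38.mg_PJ hD, hJ]
    refine ⟨g * m * g⁻¹, h2 m (H38.mg_grp hD F ▸ hm.2) fun y hy => ?_, by simp [mul_assoc]⟩
    exact (Subgroup.mem_normalizer_iff.1 hm.1 y).1 hy
  · rw [H38.mg_UJ' hD, hJ]
    exact ⟨g * y * g⁻¹, h1 y hy, by simp [mul_assoc]⟩

end Cfsg.Agent.S2154
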