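import Cfsg.Statements.S2041
import Cfsg.Agent.H63.UBJ3
import Cfsg.Agent.H63.Cd4
import Cfsg.Agent.H63.Quot2
import Cfsg.Agent.H57.J3Ord

set_option autoImplicit false
open Cfsg

namespace Cfsg.Agent.S2041

/-- For any field with 4 elements and any element ω of it with ω² + ω + 1 = 0: the Schur multiplier of the Janko group J₃ (the group generated by explicit 9 × 9 matrices over that field built from ω, taken modulo its centre) is cyclic of order 3; here the Schur multiplier is described through stem extensions, as in the definitions: surjective homomorphisms onto the group from a finite group, whose kernel is central in that finite group and contained in that finite group's commutator subgroup. -/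
theorem result {F : Type*} [Field F] [Fintype F] (hF : Fintype.card F = 4) (ω : F) (hω : ω ^ 2 + ω + 1 = 0) : Cfsg.HasCyclicSchurMultiplier (Cfsg.Spor.J3 F ω) 3 := by
  have := H57.J3.finGL (F := F)
  have := H57.J3.simple_J3 hF ω hω
  have hs := QuotientGroup.mk'_surjective (Subgroup.center (Spor.threeJ3 F ω))
  have hk := (congrArg (fun K : Subgroup _ => Nat.card K) (QuotientGroup.ker_mk' _)).trans
    (H57.J3.card_center hF ω hω)
  have hM := H63.mod_of_has (H57.J3.cd F hF ω hω) (Spor.threeJ3 F ω) (D := 5)
    (As := List.zip [H57.J3.x1, H57.J3.x2] H63.J3.gens)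
    (fun A hA => H57.J3.has_x hF ω hω _ (List.of_mem_zip hA).1) (by decide +kernel)
  have hX : commutator (Spor.threeJ3 F ω) = ⊤ := by
    refine H63.commutator_top_of_gens _ hs
      (H63.commutator_top_of_card (by rw [H57.J3.card_J3 hF ω hω]; norm_num)) hk
      (S := (Spor.threeJ3 F ω).subtype ⁻¹' {H57.J3.g1 hF ω hω, H57.J3.g2 hF ω hω})
      (by rw [← H57.J3.closure_g hF ω hω]; exact Subgroup.closure_preimage_eq_top _) ?_
    rintro s (h | h)
    · exact ⟨19, by norm_num, Subtype.ext ((congrArg (· ^ 19) h).trans (H57.J3.g1_pow hF ω hω))⟩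
    · exact ⟨19, by norm_num, Subtype.ext ((congrArg (· ^ 19) h).trans (H57.J3.g2_pow hF ω hω))⟩
  have : Fact (Nat.Prime 3) := ⟨Nat.prime_three⟩
  have := isCyclic_of_prime_card hk
  refine H63.mult_cyclic (H63.UB.of_PB_fac [(2, []), (3, [3])] ?_
    [(2, 7), (3, 5), (5, 1), (17, 1), (19, 1)] 50232960 (H57.J3.card_J3 hF ω hω)
    (by norm_num) (by simp only [List.forall_mem_cons]; norm_num))
    ((H63.LB.quot _ hs (QuotientGroup.ker_mk' _).le hX).of_dvd hk.symm.dvd)
  simp only [List.forall_mem_cons]
  exact ⟨(H63.J3.p2pb hM (H57.J3.card_threeJ3 hF ω hω)).quot_cop _ hs hX hk (by norm_num),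
    (H63.J3.p3pb hM (H57.J3.card_threeJ3 hF ω hω)).quot_cyc _ hs hX hk Nat.prime_three, by simp⟩

end Cfsg.Agent.S2041
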