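import Cfsg.Statements.S2051
import Cfsg.Agent.H63.Ru
import Cfsg.Agent.H63.Quot

set_option autoImplicit false
open Cfsg

namespace Cfsg.Agent.S2051

open Spor H57Ru in
/-- The Schur multiplier of the Rudvalis group (the unitary automorphism group of the rank-28 Gaussian lattice modulo its centre) is cyclic of order 2; here the Schur multiplier is described through stem extensions, as in the definitions: surjective homomorphisms onto the group from a finite group, whose kernel is central in that finite group and contained in that finite group's commutator subgroup. -/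
theorem result : Cfsg.HasCyclicSchurMultiplier Cfsg.Spor.Ru 2 := by
  have hg : gI * gI = -1 := by decide
  have iso : ∀ a, (∀ x, ruNorm (ap a x) = ruNorm x) → Iso (ap a) := fun a h =>
    ⟨fun x hx => mem_iff.1 (ap_mem_L a (mem_iff.2 hx)), fun x _ y _ => ap_add a x y, fun x _ => ap_smul a _ x,
      fun x _ => h x⟩
  have n1 : gI.norm = 1 := by decide
  have i1 := iso 1 fun x => by
    change ruNorm (ruRj x) = _
    simp only [ruNorm, Fintype.sum_prod_type, Fin.sum_univ_four, ruRj, Zsqrtd.norm_mul, n1, Zsqrtd.norm_neg]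
    exact Finset.sum_congr rfl fun _ _ => by ring
  have i2 := iso 2 fun x => by
    change ruNorm (ruRk x) = _
    simp only [ruNorm, Fintype.sum_prod_type, Fin.sum_univ_four, ruRk, Zsqrtd.norm_mul, n1, Zsqrtd.norm_neg]
    exact Finset.sum_congr rfl fun _ _ => by ring
  have s1 : ∀ k < 28, ∃ x ∈ Lm, ap 1 x = bV k := fun k hk => ⟨ap 1 (-bV k), i1.mem _ (neg_mem (bV_mem hk)), by
    funext ⟨n, t⟩
    change ruRj (ruRj _) _ = _
    fin_cases t <;> simp [ruRj, ← mul_assoc, hg]⟩
  have s2 : ∀ k < 28, ∃ x ∈ Lm, ap 2 x = bV k := fun k hk => ⟨ap 2 (-bV k), i2.mem _ (neg_mem (bV_mem hk)), by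
    funext ⟨n, t⟩
    change ruRk (ruRk _) _ = _
    fin_cases t <;> simp [ruRk, ← mul_assoc, hg]⟩
  have key : i1.elt s1 * i2.elt s2 = iota ^ 2 * (i2.elt s2 * i1.elt s1) := gV_ext fun x hx => by
    rw [gV_mul _ _ hx, gV_mul _ _ hx, gV_mul _ _ hx, gV_elt _ _ hx, gV_elt _ _ hx, gV_elt _ _ (i2.mem _ hx),
      gV_elt _ _ (i1.mem _ hx), gV_iota_pow _ (i2.mem _ (i1.mem _ hx)), pow_two, hg]
    funext ⟨n, t⟩
    change ruRj (ruRk _) _ = -1 * ruRk (ruRj _) _
    fin_cases t <;> simp [ruRj, ruRk, ← mul_assoc, hg]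
  have hL := H63.LB.of_ext (G := Ru) (QuotientGroup.mk' _) (QuotientGroup.mk'_surjective _)
    (QuotientGroup.ker_mk' _).le (Subgroup.zpowers (iota ^ 2))
    (Subgroup.zpowers_le_of_mem ((QuotientGroup.ker_mk' _).ge (Subgroup.pow_mem _ iota_central 2)))
    (Subgroup.zpowers_le_of_mem (by
      rw [← mul_inv_eq_iff_eq_mul, mul_inv_rev, ← mul_assoc] at key
      exact key ▸ Subgroup.commutator_mem_commutator trivial trivial))
  rw [Nat.card_zpowers, orderOf_pow' _ two_ne_zero, orderOf_iota] at hL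
  have h := card_Ru
  have : Finite Ru := Nat.finite_of_card_ne_zero (by rw [h]; norm_num)
  have e := equivRu.symm
  refine H63.mult_cyclic (H63.UB.of_PB_fac [(2, [2]), (3, []), (5, [])] ?_ [(2, 14), (3, 3), (5, 3), (7, 1), (13, 1), (29, 1)] 145926144000 h
    (by norm_num) (by simp only [List.forall_mem_cons]; norm_num)) hL
  simp only [List.forall_mem_cons]
  exact ⟨H63.Ru.p2pb.congr e, H63.Ru.p3pb.congr e, H63.Ru.p5pb.congr e, by simp⟩

end Cfsg.Agent.S2051
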