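import Cfsg.Statements.S3779
import Cfsg.Agent.H19.HKKGroup
import Cfsg.Agent.S0032
import Cfsg.Agent.S0033

set_option autoImplicit false
open Cfsg

namespace Cfsg.Agent.S3779

theorem iterate_eq {G : Type*} [Group G] (α : MulAut G) (k : ℕ) (x : G) :
    (α : G →* G)^[k] x = (α ^ k) x := by
  induction k with
  | zero => rfl
  | succ k ih => rw [Function.iterate_succ_apply', ih, pow_succ']; rfl

universe u

theorem not_dvd_card {G : Type*} [Group G] [Finite G] {p : ℕ} (hp : p.Prime) (α : MulAut G)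
    (hα : α ^ p = 1) (hfpf : ∀ g : G, α g = g → g = 1) : ¬ p ∣ Nat.card G := by
  haveI := Fact.mk hp
  have h1 : IsPGroup p (Subgroup.zpowers α) := by
    rintro ⟨_, k, rfl⟩
    refine ⟨1, Subtype.ext ?_⟩
    change (α ^ k) ^ p ^ 1 = 1
    rw [pow_one, ← zpow_natCast, ← zpow_mul, mul_comm, zpow_mul, zpow_natCast, hα, one_zpow]
  have h2 := h1.card_modEq_card_fixedPoints G
  have h3 : MulAction.fixedPoints (Subgroup.zpowers α) G = {1} := by
    ext g
    constructor
    · intro h
      exact hfpf g (h ⟨α, Subgroup.mem_zpowers α⟩)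
    · rintro rfl β
      exact map_one (β : MulAut G)
  rw [h3, Nat.card_coe_set_eq, Set.ncard_singleton] at h2
  intro h
  exact hp.one_lt.ne' (Nat.dvd_one.mp ((h2.dvd_iff dvd_rfl).mp h))

theorem gam_eq_bot {G : Type u} [Group G] [Finite G] {p c : ℕ} (hp : p.Prime)
    (hc : H19.GradedNil.{u} p c) (α : MulAut G) (hα : orderOf α = p)
    (hfpf : ∀ g : G, α g = g → g = 1) : (⊤ : Subgroup G).lowerCentralSeries c = ⊥ := by
  haveI := Fact.mk hp
  have hαp : α ^ p = 1 := hα ▸ pow_orderOf_eq_one α
  have hnil := S0033.result α hfpf p hp hα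
  have h1 := H19.group_transfer hc (α : G →* G) (fun x => by rw [iterate_eq, hαp]; rfl) 1
    (fun j x _ h => by
      rw [pow_one]
      exact S0032.result α hfpf _ (fun n hn => H19.map_mem_gam (α : G →* G) hn) x h)
  have h2 : H19.gam G c ≤ H19.gam G (c + 1) := by
    intro x hx
    have hcop : (Nat.card G).Coprime (1 * p * p ^ c) := by
      rw [one_mul, ← pow_succ']
      exact ((Nat.Prime.coprime_iff_not_dvd hp).mpr (not_dvd_card hp α hαp hfpf)).symm.pow_right _
    obtain ⟨k, hk⟩ := exists_pow_eq_self_of_coprime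
      (x := x) (hcop.symm.coprime_dvd_right (orderOf_dvd_natCard x))
    rw [← hk]
    exact pow_mem (h1 x hx) k
  have h3 : ∀ k, H19.gam G c ≤ H19.gam G (c + k) := by
    intro k
    induction k with
    | zero => exact le_rfl
    | succ k ih => exact h2.trans (Subgroup.commutator_mono ih le_rfl)
  obtain ⟨n, hn⟩ := Subgroup.nilpotent_iff_lowerCentralSeries.mp hnil
  rw [eq_bot_iff, ← hn]
  exact (h3 n).trans (Subgroup.lowerCentralSeries_antitone _ (Nat.le_add_left _ _))

/-- Let G be a finite group with an automorphism of prime order p fixing only the identity. Then G is nilpotent; if p = 2 then G is abelian, if p = 3 then G has class at most 2, and in general the class of G is at most ξ = 1 + (p−1) + (p−1)² + ⋯ + (p−1)^(n−1) with n = 2^(p−1) − 1 (the Higman–Kreknin–Kostrikin bound). -/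
theorem result {G : Type*} [Group G] [Finite G] {p : ℕ} (hp : p.Prime) (α : MulAut G) (hα : orderOf α = p) (hfpf : ∀ g : G, α g = g → g = 1) : (p = 2 → (⊤ : Subgroup G).lowerCentralSeries 1 = ⊥) ∧ (p = 3 → (⊤ : Subgroup G).lowerCentralSeries 2 = ⊥) ∧ (⊤ : Subgroup G).lowerCentralSeries (Finset.sum (Finset.range (2 ^ (p - 1) - 1)) (fun i => (p - 1) ^ i)) = ⊥ := by
  haveI := Fact.mk hp
  have h := gam_eq_bot hp (H19.gradedNil_hkk p) α hα hfpf
  refine ⟨?_, ?_, h⟩
  · rintro rfl
    simpa using h
  · rintro rfl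
    exact gam_eq_bot hp H19.gradedNil_three α hα hfpf

end Cfsg.Agent.S3779
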