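import Cfsg.Statements.S3099
import Cfsg.Agent.H22.QuatPerfect

set_option autoImplicit false
open Cfsg

namespace Cfsg.Agent.S3099

/-- Let X be a finite perfect group of 2-rank exactly 1 (X has even order and contains no Klein four-group). Then X modulo its largest normal subgroup of odd order is isomorphic to the special linear group of dimension 2 over a field with q elements for some odd q > 3, or is a non-split double cover of the alternating group of degree 7. -/
theorem result {X : Type*} [Group X] [Finite X] (hP : Group.IsPerfect X) (h1 : Cfsg.PRankLE 2 1 X) (h2 : Even (Nat.card X)) :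
    (∃ (F : Type) (_ : Field F) (_ : Fintype F), Odd (Fintype.card F) ∧ 3 < Fintype.card F ∧
        Nonempty (X ⧸ Cfsg.oddCore X ≃* Matrix.SpecialLinearGroup (Fin 2) F)) ∨
      Cfsg.IsNonsplitDoubleCover (X ⧸ Cfsg.oddCore X) ↥(alternatingGroup (Fin 7)) := by
  obtain ⟨P⟩ : Nonempty (Sylow 2 X) := inferInstance
  have hrank : ∀ E : Subgroup X, ¬ IsKleinFour E := fun E hE => by
    have h := h1 E ⟨⟨fun a b => (IsKleinFour.isMulCommutative (G := E)).is_comm.comm a b⟩⟩
      fun a ha => by
        have := Monoid.pow_exponent_eq_one (⟨a, ha⟩ : E)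
        rw [hE.exponent_two] at this
        exact congrArg Subtype.val this
    rw [hE.card_four] at h
    omega
  let e := H8.sylowMapEquiv P (oddCore X) H22.coprime_card_pPrimeCore
  refine H22.perfect_unique_involution inferInstance H22.pPrimeCore_quotient_pPrimeCore ?_
    (P.mapSurjective (QuotientGroup.mk'_surjective _)) fun x y hx hy => ?_
  · rw [← Subgroup.card_mul_index (oddCore X), Nat.even_mul] at h2
    exact h2.resolve_left (Nat.not_even_iff_odd.2 H8.odd_card_pPrimeCore)
  · obtain ⟨x, rfl⟩ := e.surjective x
    obtain ⟨y, rfl⟩ := e.surjective y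
    rw [e.orderOf_eq, ← Subgroup.orderOf_coe] at hx hy
    exact congrArg e (Subtype.ext (H8.involution_unique_of_no_klein hrank P.isPGroup' x.2 y.2 hx hy))

end Cfsg.Agent.S3099
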