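import Cfsg.Statements.S1823
import Cfsg.Agent.H69.PU2
import Cfsg.Agent.H69.PU4
import Cfsg.Agent.H69.QT
import Cfsg.Agent.H72.PMin

set_option autoImplicit false
open Cfsg

namespace Cfsg.Agent.S1823

open Subgroup H92 H70 H72 PU69 in
theorem char_map {G : Type*} [Group G] {R L : Subgroup G} (h : R ≤ L) {C : Subgroup L}
    (c : (C.subgroupOf (R.subgroupOf L)).Characteristic) :
    ((C.map L.subtype).subgroupOf R).Characteristic := by
  convert char_comap (subgroupOfEquivOfLe h).symm c using 1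
  ext x
  exact ⟨fun ⟨y, hy, e⟩ => by
    obtain rfl : y = ⟨x, h x.2⟩ := Subtype.ext e
    exact hy, fun hx => ⟨_, hx, rfl⟩⟩

open Subgroup H92 H70 H72 PU69 in
theorem norm_of_am {G : Type*} [Group G] [Finite G] {R L : Subgroup G}
    (h : L ≤ normalizer (R : Set G)) {U : Subgroup R}
    (e : ∀ g : L, am (R.normalizerMonoidHom (inclusion h g)) U ≤ U) :
    L ≤ normalizer ((U.map R.subtype : Subgroup G) : Set G) :=
  le_norm_iff_cj.2 fun g hg => H70.cj_le_iff.2 fun _ ⟨_, hx, e'⟩ =>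
    e' ▸ ⟨_, e ⟨g, hg⟩ (apply_mem_am.2 hx), rfl⟩

open Subgroup H92 H70 H72 PU69 in
open scoped commutatorElement in

/-- A common nontrivial normal 2-subgroup for a pair of 2-local-type subgroups over a Sylow 2-subgroup of a simple QTKE-group. Let G be a non-abelian finite simple QTKE-group and T a Sylow 2-subgroup of G. Let M₀ and H be subgroups of G containing T with O₂(M₀) ≠ 1 and O₂(H) ≠ 1, such that T lies in a unique maximal subgroup of H. Let R be a nontrivial subgroup of T that is a Sylow 2-subgroup of O²(H)R and is normalized by M₀. Then some nontrivial subgroup R₀ of R is normalized by both M₀ and H (that is, R₀ is normal in ⟨M₀, H⟩). -/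
theorem result {G : Type*} [Group G] [Finite G] [IsSimpleGroup G]
    (hG : ¬ IsMulCommutative G) (hQ : Cfsg.IsQTKE G) (T : Sylow 2 G) (M₀ H : Subgroup G)
    (hM₀ : M₀ ∈ Cfsg.calHOver (T : Subgroup G)) (hH : H ∈ Cfsg.calHOver (T : Subgroup G))
    (hU : ∃! K : Subgroup ↥H, IsCoatom K ∧ (T : Subgroup G).subgroupOf H ≤ K)
    (R : Subgroup G) (hR : R ≠ ⊥) (hRT : R ≤ (T : Subgroup G))
    (hRS : ∃ P : Sylow 2 ↥(Cfsg.oddGenerated H ⊔ R),
      (P : Subgroup ↥(Cfsg.oddGenerated H ⊔ R)) = R.subgroupOf (Cfsg.oddGenerated H ⊔ R))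
    (hRM : M₀ ≤ Subgroup.normalizer (R : Set G)) :
    ∃ R₀ : Subgroup G, R₀ ≠ ⊥ ∧ R₀ ≤ R ∧ M₀ ⊔ H ≤ Subgroup.normalizer (R₀ : Set G) := by
  by_contra! e
  have hTH : (T : Subgroup G) ≤ H := hH.2
  have hRH := hRT.trans hTH
  have hT : SylIn 2 (T : Subgroup G) H := (sylIn_top T).mono hTH le_top
  have hT' := sylIn_top hT.toSylow
  rw [SylIn.coe_toSylow] at hT'
  have hTR : (T : Subgroup G) ≤ normalizer (R : Set G) := le_trans hM₀.2 hRM
  rw [H69.QT.oddGenerated_eq] at hRS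
  have rs := (sylIn_iff le_sup_right).2 hRS
  have gen : ∀ X : Subgroup G, X ≠ ⊥ → X ≤ R → M₀ ≤ normalizer (X : Set G) →
      ¬ pResidualOf 2 H ≤ normalizer (X : Set G) := fun X x1 x2 x3 x4 =>
    e X x1 x2 (sup_le x3 ((pRes_sup_sylIn hT).ge.trans (sup_le x4 (le_trans hM₀.2 x3))))
  have mK : (pResidualOf 2 (⊤ : Subgroup H)).map H.subtype = pResidualOf 2 H := by
    rw [map_subtype_pRes, map_subtype_top]
  have up : ∀ {X : Subgroup H}, ⊤ ≤ normalizer (X : Set H) →
      H ≤ normalizer ((X.map H.subtype : Subgroup G) : Set G) := fun x => by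
    have := norm_map H.subtype x
    rwa [map_subtype_top] at this
  obtain ⟨M, ⟨m1, m2⟩, m3⟩ := hU
  have h : Hyp ((T : Subgroup G).subgroupOf H) M (R.subgroupOf H) := by
    refine ⟨isChar_top_iff.2 (isChar_iff.1 (H69.QT.isChar_over hQ.2.2 T hTH
      fun e => hH.1 (pCoreOf_eq_bot_iff.1 e))), hT', minOver_of_uniq hT' m2 m1.lt_top
        (fun X x1 x2 => ?_) fun n => gen R hR le_rfl hRM ?_, fun _ hx => hRT hx, fun x hx => ?_, ?_,
      fun e => hR (by rw [← map_subtype_subgroupOf hRH, e, Subgroup.map_bot]),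
      fun C c1 c2 c3 c4 => ?_⟩
    · obtain ⟨N, n1, n2⟩ := (eq_top_or_exists_le_coatom X).resolve_left x2.ne
      exact m3 N ⟨n1, x1.trans n2⟩ ▸ n2
    · have := up n
      rw [map_subtype_subgroupOf hTH] at this
      rw [← rs.max _ inf_le_right T.isPGroup'.to_inf_left (le_inf hRT le_sup_right)]
      exact norm_inf ((pRes_le _).trans this) (norm_of_le le_sup_left)
    · exact H70.mem_normalizer_of_cj_le (H70.cj_le_iff.2 fun y hy =>
        conj_mem_of_mem_norm (A := R) (hTR hx) hy)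
    · have := rs.comap_of_injective H.subtype H.subtype_injective (by rwa [range_subtype])
      rwa [comap_subtype, comap_subtype, subgroupOf_sup (pRes_le _) hRH, subgroupOf_pRes,
        ← pRes_top] at this
    · have a : C.map H.subtype ≤ R := map_subtype_le_iff.2 c1
      exact gen _ (fun e => c2 (map_subtype_eq_bot_iff.1 e)) a
        (hRM.trans (norm_of_char a (char_map hRH c3))) ((pRes_le _).trans (up c4))
  obtain ⟨Γ, _, _, W, _, _, _, π, ι, hπ, f, b⟩ := h.exists_ff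
  obtain ⟨ι', s⟩ := h.exists_st hπ f b (inclusion_injective hRH) (inclusion_range hRH)
  have k := (b.ker_eq f.faith).trans h.cent_eq
  have cV := h.commV
  have nQ := up h.normQ
  have V0 : oz 2 (pCore 2 H) ⊓ R.subgroupOf H ≠ ⊥ := fun e' => h.not_le (by
    have := h.cent_eq
    rw [e', coe_bot, centralizer_eq_top_iff_subset.2 (by simp)] at this
    exact le_top.trans (this.le.trans (h.core_le.trans m2)))
  have ic := fun U => h.inf_cent_le (U := U)
  generalize hV : oz 2 (pCore 2 H) ⊓ R.subgroupOf H = V at *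
  have VR : V ≤ R.subgroupOf H := hV ▸ inf_le_right
  have mp : ∀ X : Subgroup H, X ≤ R.subgroupOf H →
      (X.comap (inclusion hRH)).map R.subtype = X.map H.subtype := fun X hX =>
    le_antisymm (fun _ ⟨x, hx, e⟩ => ⟨_, hx, e⟩) fun _ ⟨x, hx, e⟩ => ⟨⟨x, hX hx⟩, hx, e⟩
  have kq : (π.comp (inclusion hRH)).ker = (pCore 2 H ⊓ R.subgroupOf H).comap (inclusion hRH) :=
    Subgroup.ext fun x => ⟨fun hx => ⟨k.le hx, x.2⟩, fun hx => k.ge hx.1⟩
  set φ := R.normalizerMonoidHom.comp (inclusion hRM) with hφ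
  have l : V.comap (inclusion hRH) ≤ ⨆ g, am (φ g) (V.comap (inclusion hRH)) :=
    le_iSup_of_le 1 (by rw [map_one, am_one])
  have l' := (mp V VR).ge.trans (map_mono l)
  have V1 : V.map H.subtype ≠ ⊥ := fun e => V0 (map_subtype_eq_bot_iff.1 e)
  by_cases hq : ∀ q ∈ (π.comp (inclusion hRH)).ker, q * q = 1
  · have c : ∀ (t : G) (ht : t ∈ (T : Subgroup G)) x, π.comp (inclusion hRH) (φ ⟨t, hM₀.2 ht⟩ x) =
        π ⟨t, hTH ht⟩ * π.comp (inclusion hRH) x * (π ⟨t, hTH ht⟩)⁻¹ := fun t ht x => by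
      rw [MonoidHom.comp_apply, MonoidHom.comp_apply π, ← map_inv, ← map_mul, ← map_mul]
      rfl
    have := s.ker_fixed hq φ ((T : Subgroup G).subgroupOf M₀)
      ((sylIn_top T).mono hM₀.2 le_top).not_dvd_relIndex (fun n hn => eq_of_le_of_card_ge
        (fun _ ⟨x, hx, e⟩ => e ▸ (c n hn x).trans (by rw [hx.out, mul_one, mul_inv_cancel]))
        (card_am _ _).ge) fun _ ⟨t, ht, e⟩ => ⟨_, e ▸ c t ht⟩
    refine gen _ (fun e => V1 (le_bot_iff.1 ((mp V VR).ge.trans ((map_mono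
      (s.vcomm.trans s.ker.ge)).trans e.le)))) (map_subtype_le _)
      (norm_of_am hRM fun g => (this g).le) ?_
    rw [kq, mp _ inf_le_right]
    exact (pRes_le _).trans nQ
  have : ∃ g, ¬ am (φ g) (V.comap (inclusion hRH)) ≤ (π.comp (inclusion hRH)).ker := by
    by_contra! e'
    refine gen _ (fun e => V1 (le_bot_iff.1 (l'.trans e.le))) (map_subtype_le _)
      (norm_of_am hRM fun g => ?_) (norm_of_commutator_le ?_)
    · rw [am, Subgroup.map_iSup]
      exact iSup_le fun a => le_iSup_of_le (g * a) (by rw [map_mul, am_mul]; rfl)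
    · refine (commutator_mono (map_mono ((iSup_le e').trans kq.le)) mK.ge).trans ?_
      rw [mp _ inf_le_right, ← map_commutator]
      exact (map_mono ((commutator_mono inf_le_left le_rfl).trans cV)).trans l'
  obtain ⟨g, hg⟩ := this
  push Not at hq
  obtain ⟨q, q1, q2⟩ := hq
  rw [← mp _ inf_le_right, ← kq] at nQ
  set D := Subgroup.closure ((fun x => x * x) '' ((π.comp (inclusion hRH)).ker.map R.subtype : Set G))
  have d1 : D ≤ T := (closure_le _).2 fun _ ⟨x, hx, e⟩ =>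
    e ▸ mul_mem (hRT (map_subtype_le _ hx)) (hRT (map_subtype_le _ hx))
  have d2 : H ≤ normalizer (D : Set G) := le_norm_iff_cj.2 fun y hy => by
    rw [H70.cj_le_iff_le_cj_inv]
    refine (closure_le _).2 fun _ ⟨x, hx, e⟩ => e ▸ H70.mem_cj.2 (Subgroup.subset_closure
      ⟨_, conj_mem_of_mem_norm (nQ hy) hx, by simp only [inv_inv]; group⟩)
  have d3 := H69.QT.isChar_norm hQ.2.2 T (T.isPGroup'.to_le d1) (fun e => q2 (Subtype.ext
    (mem_bot.1 (e.le (Subgroup.subset_closure ⟨_, mem_map_of_mem _ q1, rfl⟩))))) (hTH.trans d2)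
  have d4 := pCoreOf_le_sylIn ((sylIn_top T).mono (hTH.trans d2) le_top)
  have d5 : ⊤ ≤ normalizer (((pCoreOf 2 (normalizer (D : Set G))).subgroupOf H : Subgroup H) : Set H) :=
    norm_comap _ ((map_subtype_le _).trans (d2.trans (le_norm_pCoreOf _)))
  have d6 := ic _ (H70.le_pCore (normal_of_top_le_norm d5)
    (H70.isPGroup_subgroupOf (pCoreOf_isPGroup _))) d5 fun e => h.not_le fun x hx => m2 (d4 (d3
      ⟨d2 x.2, fun y hy => congrArg Subtype.val (e hx ⟨y, hTH (d4 hy)⟩ hy)⟩))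
  have : ¬ am (φ g)⁻¹ (((pCoreOf 2 (normalizer (D : Set G))).subgroupOf H ⊓ V).comap
      (inclusion hRH)) ≤ (π.comp (inclusion hRH)).ker := fun e => hg fun y hy => by
    have := am_le_cent (φ g) (e.trans s.ker.le)
    rw [am_am_inv] at this
    exact k.ge (d6 ⟨hRT y.2, fun z hz => congrArg (inclusion hRH)
      (this (x := ⟨z, VR hz.2⟩) hz y hy).symm⟩)
  obtain ⟨c, c1, c2⟩ := SetLike.not_le_iff_exists.1 this
  obtain ⟨x, x1, x2⟩ := h.exists_odd hπ (hV ▸ b) s (φ g)⁻¹
    (am_mono _ (comap_mono inf_le_right) c1) c2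
  have x3 : (g : G) * x * (g : G)⁻¹ ∈ normalizer (D : Set G) := norm_of_cent le_rfl
    (zpowers_le.1 (cent_comm.1 ((closure_le _).2 fun _ ⟨_, ⟨y, hy, e1⟩, e2⟩ => by
      have := congrArg Subtype.val (x1 _ (apply_mem_am.2 hy))
      change (g : G)⁻¹ * y * (g : G)⁻¹⁻¹ * ((g : G)⁻¹ * y * (g : G)⁻¹⁻¹) * x =
        x * ((g : G)⁻¹ * y * (g : G)⁻¹⁻¹ * ((g : G)⁻¹ * y * (g : G)⁻¹⁻¹)) at this
      rw [← e2, ← e1]
      refine zpowers_le.1 (cent_comm.1 (zpowers_le.2 fun z hz => ?_))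
      obtain ⟨n, rfl⟩ := hz
      refine Commute.zpow_left ?_ n
      change (y : G) * y * _ = _ * ((y : G) * y)
      calc _ = g * ((g : G)⁻¹ * y * (g : G)⁻¹⁻¹ * ((g : G)⁻¹ * y * (g : G)⁻¹⁻¹) * x) * (g : G)⁻¹ := by
            group
        _ = _ := by rw [this]; group)))
  obtain ⟨n, hn⟩ := isPGroup_iff_mem.1 (pCoreOf_isPGroup _) _ (commutator_le_left_of_norm
    (le_norm_pCoreOf _) (commutator_mem_commutator (mem_am.1 c1).1 x3))
  refine x2 n (Subtype.ext ((MulAut.conj (g : G)).injective ?_))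
  rw [OneMemClass.coe_one, map_one, ← hn, SubmonoidClass.coe_pow, map_pow]
  congr 1
  change _ = ⁅(g : G) * c * (g : G)⁻¹, _⁆
  simp only [MulAut.conj_apply, commutatorElement_def, coe_mul, coe_inv, coe_inclusion]
  group

end Cfsg.Agent.S1823
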