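import Cfsg.Statements.S2649
import Cfsg.Agent.H14.ExtM23

set_option autoImplicit false
open Cfsg

namespace Cfsg.Agent.S2649

open H14


/-- Extensions of the Mathieu group M₂₃ by its code module split. Let E be a finite group with a normal subgroup N, an isomorphism φ from E/N onto M₂₃ = `Spor.M23` (the stabiliser of the extra point `none` in M₂₄ acting on the 24 points `GolayPt`), and an injective additive homomorphism ψ from N onto the set of words of the binary Golay code `golayCode` that vanish at `none` (an 11-dimensional space over the field with two elements), such that conjugation by g ∈ E on N corresponds under ψ to the coordinate permutation w ↦ w ∘ σ⁻¹, σ the permutation φ(gN). Then N has a complement in E: some subgroup H meets N trivially and generates E together with N. (Equivalently, the second cohomology group of M₂₃ with coefficients in this module vanishes.) -/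
theorem result
    {E : Type*} [Group E] [Finite E] (N : Subgroup E) [hN : N.Normal]
    (φ : E ⧸ N ≃* ↥Cfsg.Spor.M23)
    (ψ : Additive ↥N →+ (Cfsg.GolayPt → ZMod 2)) (hinj : Function.Injective ψ)
    (hrange : ∀ w : Cfsg.GolayPt → ZMod 2, w ∈ Set.range ψ ↔ (w ∈ Cfsg.golayCode ∧ w none = 0))
    (hψ : ∀ (g : E) (n : ↥N),
      ψ (Additive.ofMul ⟨g * n * g⁻¹, hN.conj_mem n n.2 g⟩)
        = ψ (Additive.ofMul n) ∘ ⇑(((φ (QuotientGroup.mk g) : ↥Cfsg.Spor.M23) : Equiv.Perm Cfsg.GolayPt)⁻¹)) :
    ∃ H : Subgroup E, H ⊓ N = ⊥ ∧ H ⊔ N = ⊤ := by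
  have hM : Mod GE (extHom N φ) 11 m23CodeBT m23CodeChk
      fun w x => ∃ h : x ∈ N, ψ (Additive.ofMul ⟨x, h⟩) = w :=
    { zero := ⟨one_mem _, map_zero ψ⟩
      add := fun ⟨h, e⟩ ⟨h', e'⟩ => ⟨mul_mem h h', by rw [← e, ← e', ← map_add]; rfl⟩
      conj := fun g _ _ ⟨h, e⟩ => ⟨hN.conj_mem _ h g, e ▸ hψ g ⟨_, h⟩⟩
      ker := fun ⟨h, _⟩ => extHom_eq_one.2 h
      ex_ker := fun x hx => (code_lin.1 ((hrange _).1
        ⟨Additive.ofMul ⟨x, extHom_eq_one.1 hx⟩, rfl⟩)).imp fun _ hc => ⟨_, hc.symm⟩
      ex_lin := fun c => let ⟨x, hx⟩ := (hrange _).2 (code_lin.2 ⟨c, rfl⟩); ⟨x.toMul, x.toMul.2, hx⟩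
      eq_one := fun {w x} ⟨h, e⟩ => ⟨fun hx m _ => by
        subst hx
        rw [← e.symm.trans (map_zero ψ) |>.symm]
        simp [bv], fun hc => by
        have := (hrange w).1 ⟨_, e⟩
        rw [code_chk this.1 this.2 hc, ← map_zero ψ] at e
        exact congrArg (fun a => (a.toMul : E)) (hinj e)⟩ }
  obtain ⟨x, hx⟩ := exists_lift (X := m23Code) (extHom_range (φ := φ)).ge
    (H56.inG_of_memOK m23_chain (by decide +kernel)) (by decide +kernel) m23Code_rules
  obtain ⟨u, hu⟩ := exists_tails hM hx (by decide)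
  have := Mod.split (X := m23Code) hM hx hu (by simp [m23CodeLam]) m23Code_split (e := 7)
    (by decide +kernel) (by decide +kernel) (m := 79695) rfl m23Pc_card
    (by rw [extHom_range, card_M23]; rfl) (by decide)
  rwa [extHom_ker] at this

end Cfsg.Agent.S2649
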