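import Cfsg.Statements.S3839
import Cfsg.Agent.H80.Misc
import Cfsg.Agent.H3.Frobenius
import Cfsg.Agent.H42.Fusion
import Cfsg.Agent.H23.Basic
import Cfsg.Agent.H31.PPart

set_option autoImplicit false
open Cfsg

namespace Cfsg.Agent.S3839

open Subgroup H42

theorem eq_one_of_chain {G : Type*} [Group G] [Finite G] {p : ℕ} [hp : Fact p.Prime] {g x u : G}
    (hg : (orderOf g).Coprime p) (hu : ∃ k, u ^ p ^ k = 1) (h1 : g * x * g⁻¹ = u * x) (h2 : g * u = u * g) :
    u = 1 := by
  have key : ∀ m : ℕ, g ^ m * x * (g ^ m)⁻¹ = u ^ m * x := by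
    intro m
    induction m with
    | zero => simp
    | succ m ih =>
      have h3 : g * u ^ m = u ^ m * g := (Commute.pow_right h2 m).eq
      calc g ^ (m + 1) * x * (g ^ (m + 1))⁻¹ = g * (g ^ m * x * (g ^ m)⁻¹) * g⁻¹ := by rw [pow_succ']; group
        _ = u ^ m * (g * x * g⁻¹) := by rw [ih, ← mul_assoc, h3]; group
        _ = _ := by rw [h1, pow_succ, mul_assoc]
  have h4 := key (orderOf g)
  rw [pow_orderOf_eq_one, one_mul, inv_one, mul_one, eq_comm, mul_eq_right] at h4
  obtain ⟨k, hk⟩ := hu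
  rw [← orderOf_eq_one_iff]
  exact Nat.eq_one_of_dvd_coprimes (hg.pow_right k) (orderOf_dvd_of_pow_eq_one h4) (orderOf_dvd_of_pow_eq_one hk)

/-- A Frobenius normal p-complement criterion relative to a strongly closed subgroup. Let G be a finite group, S a Sylow p-subgroup and D a subgroup of S strongly closed in S with respect to G. Then G has a normal p-complement if and only if N_G(U) has a normal p-complement for every subgroup U of D with C_D(U) ≤ U. -/
theorem result {G : Type*} [Group G] [Finite G] {p : ℕ} [Fact p.Prime] (S : Sylow p G) (D : Subgroup G) (hD : Cfsg.IsStronglyClosed D (S : Subgroup G)) : Cfsg.HasNormalPComplement p G ↔ ∀ U : Subgroup G, U ≤ D → D ⊓ Subgroup.centralizer (U : Set G) ≤ U → Cfsg.HasNormalPComplement p ↥(Subgroup.normalizer (U : Set G)) := by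
  refine ⟨fun h U _ _ => H3.hasNormalPComplement_subgroup h _, fun h => ?_⟩
  rw [H3.hasNormalPComplement_iff_frobenius]
  intro X
  induction hn : Nat.card G - Nat.card X using Nat.strong_induction_on generalizing X with
  | _ n ih =>
  intro hX
  suffices H : ∀ X : Subgroup G, Nat.card G - Nat.card X = n → X ≤ S →
      SylIn p ((S : Subgroup G) ⊓ normalizer (X : Set G)) (normalizer (X : Set G)) →
      ∀ g ∈ normalizer (X : Set G), Nat.Coprime (orderOf g) p → g ∈ centralizer (X : Set G) by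
    obtain ⟨t, ht1, ht2⟩ := exists_fully_normalized S hX
    intro g hg hgp
    have := H (cj t X) (by rw [card_cj, hn]) ht1 ht2 (t * g * t⁻¹)
      (by rw [← cj_normalizer]; exact conj_mem_cj hg) (by rwa [show t * g * t⁻¹ = MulAut.conj t g from rfl, MulEquiv.orderOf_eq])
    rwa [← cj_centralizer, conj_mem_cj_iff] at this
  clear hX hn X
  intro X hn hXS hsyl
  have hX : IsPGroup p X := S.isPGroup'.to_le hXS
  have hNU : normalizer (X : Set G) ≤ normalizer ((X ⊓ D : Subgroup G) : Set G) := by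
    intro g hg
    apply mem_normalizer_of_conj_mem
    intro x hx
    have h1 := conj_mem_of_mem_normalizer hg hx.1
    exact ⟨h1, hD.2 x hx.2 g (hXS h1)⟩
  let K : Subgroup G :=
    { carrier := {g | g ∈ normalizer (X : Set G) ∧ g ∈ centralizer ((X ⊓ D : Subgroup G) : Set G) ∧
        ∀ x ∈ X, g * x * g⁻¹ * x⁻¹ ∈ X ⊓ D}
      one_mem' := ⟨one_mem _, one_mem _, fun x _ => by simp⟩
      mul_mem' := by
        rintro a b ⟨ha1, ha2, ha3⟩ ⟨hb1, hb2, hb3⟩
        refine ⟨mul_mem ha1 hb1, mul_mem ha2 hb2, fun x hx => ?_⟩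
        have : a * b * x * (a * b)⁻¹ * x⁻¹ = a * (b * x * b⁻¹ * x⁻¹) * a⁻¹ * (a * x * a⁻¹ * x⁻¹) := by group
        rw [this]
        exact mul_mem (conj_mem_of_mem_normalizer (hNU ha1) (hb3 x hx)) (ha3 x hx)
      inv_mem' := by
        rintro a ⟨ha1, ha2, ha3⟩
        refine ⟨inv_mem ha1, inv_mem ha2, fun x hx => ?_⟩
        have : a⁻¹ * x * a⁻¹⁻¹ * x⁻¹ = a⁻¹ * (a * x * a⁻¹ * x⁻¹)⁻¹ * a⁻¹⁻¹ := by group
        rw [this]
        exact conj_mem_of_mem_normalizer (inv_mem (hNU ha1)) (inv_mem (ha3 x hx)) }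
  have hKN : K ≤ normalizer (X : Set G) := fun g hg => hg.1
  have hNK : normalizer (X : Set G) ≤ normalizer (K : Set G) := by
    intro g hg
    apply mem_normalizer_of_conj_mem
    rintro a ⟨ha1, ha2, ha3⟩
    refine ⟨mul_mem (mul_mem hg ha1) (inv_mem hg),
      conj_mem_of_mem_normalizer (normalizer_le_normalizer_centralizer _ (hNU hg)) ha2, fun x hx => ?_⟩
    have : g * a * g⁻¹ * x * (g * a * g⁻¹)⁻¹ * x⁻¹ =
        g * (a * (g⁻¹ * x * g⁻¹⁻¹) * a⁻¹ * (g⁻¹ * x * g⁻¹⁻¹)⁻¹) * g⁻¹ := by group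
    rw [this]
    exact conj_mem_of_mem_normalizer (hNU hg) (ha3 _ (conj_mem_of_mem_normalizer (inv_mem hg) hx))
  have hCK : centralizer (X : Set G) ≤ K := by
    intro g hg
    refine ⟨centralizer_le_normalizer _ hg, centralizer_le inf_le_left hg, fun x hx => ?_⟩
    rw [← hg x hx]; simp
  have hKC : ∀ g ∈ K, Nat.Coprime (orderOf g) p → g ∈ centralizer (X : Set G) := by
    rintro g ⟨h1, h2, h3⟩ hgp x hx
    have := eq_one_of_chain (x := x) (u := g * x * g⁻¹ * x⁻¹) hgp
      (by obtain ⟨k, hk⟩ := hX ⟨_, (h3 x hx).1⟩; exact ⟨k, congrArg Subtype.val hk⟩)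
      (by group) (h2 _ (h3 x hx)).symm
    rw [mul_inv_eq_one, mul_inv_eq_iff_eq_mul] at this
    exact this.symm
  have hT := hsyl.inf_normal hKN hNK
  set T := (S : Subgroup G) ⊓ normalizer (X : Set G) ⊓ K with hTdef
  by_cases hTX : T ≤ X
  · have hc : D ⊓ centralizer ((X ⊓ D : Subgroup G) : Set G) ≤ X ⊓ D := by
      refine le_inf ?_ inf_le_left
      by_contra h1
      set C := D ⊓ centralizer ((X ⊓ D : Subgroup G) : Set G)
      have hXC : X ≤ normalizer (C : Set G) := by
        intro g hg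
        apply mem_normalizer_of_conj_mem
        intro c hc
        exact ⟨hD.2 c hc.1 g (mul_mem (mul_mem (hXS hg) (hD.1 hc.1)) (inv_mem (hXS hg))),
          conj_mem_of_mem_normalizer (normalizer_le_normalizer_centralizer _ (hNU (le_normalizer hg))) hc.2⟩
      have h2 : X < X ⊔ C := lt_of_le_of_ne le_sup_left fun e => h1 (e ▸ le_sup_right)
      obtain ⟨y, hy, hyN, hyX⟩ := H23.exists_mem_normalizer_not_mem
        (S.isPGroup'.to_le (sup_le hXS (inf_le_left.trans hD.1))) h2
      obtain ⟨x, hx, c, hc, rfl⟩ := exists_mul_of_mem_sup hXC hy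
      have hcN : c ∈ normalizer (X : Set G) := (mul_mem_cancel_left (le_normalizer hx)).1 hyN
      refine hyX (mul_mem hx (hTX ⟨⟨hD.1 hc.1, hcN⟩, hcN, hc.2, fun z hz => ⟨?_, ?_⟩⟩))
      · exact X.mul_mem (conj_mem_of_mem_normalizer hcN hz) (X.inv_mem hz)
      · have : c * z * c⁻¹ * z⁻¹ = c * (z * c⁻¹ * z⁻¹) := by group
        rw [this]
        exact D.mul_mem hc.1 (hD.2 _ (D.inv_mem hc.1) z
          (mul_mem (mul_mem (hXS hz) (inv_mem (hD.1 hc.1))) (inv_mem (hXS hz))))
    have h3 := H3.hasNormalPComplement_of_le hNU (h _ inf_le_right hc)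
    intro g hg hgp
    have h4 := H3.mem_centralizer_of_hasNormalPComplement h3
      (Q := X.subgroupOf (normalizer (X : Set G)))
      (hX.comap_of_injective _ (subtype_injective _)) (g := ⟨g, hg⟩)
      (normalizer_eq_top (X.subgroupOf (normalizer (X : Set G))) ▸ mem_top _)
      (by rwa [← orderOf_coe])
    intro y hy
    exact congrArg Subtype.val (h4 ⟨y, le_normalizer hy⟩ hy)
  · have h2 : X < X ⊔ T := lt_of_le_of_ne le_sup_left fun e => hTX (e ▸ le_sup_right)
    have hp2 : IsPGroup p ↥(X ⊔ T) := S.isPGroup'.to_le (sup_le hXS (inf_le_left.trans inf_le_left))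
    have h3 := ih _ (by
      have := H23.card_lt_of_lt h2
      have := card_le_card_group (X ⊔ T)
      omega) (X ⊔ T) rfl hp2
    intro g hg hgp
    apply hKC g _ hgp
    have hn' : (K.subgroupOf (normalizer (X : Set G))).Normal := normal_subgroupOf_of_le_normalizer hNK
    have h4 : IsPGroup p (↥(normalizer (X : Set G)) ⧸ K.subgroupOf (normalizer (X : Set G))) := by
      intro y
      obtain ⟨⟨y, hy⟩, rfl⟩ := QuotientGroup.mk_surjective y
      obtain ⟨k, hk, hkT⟩ := hT.exists_conj (isPGroup_cj y hT.isP)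
        (cj_le_iff.2 fun x hx => conj_mem_of_mem_normalizer (hNK hy) (hT.le hx))
      have hkN : k * y ∈ normalizer (T : Set G) := by
        apply mem_normalizer_of_conj_mem
        intro x hx
        have := hkT _ (conj_mem_cj hx)
        simpa [mul_assoc] using this
      have hkX : k * y ∈ normalizer (X : Set G) := mul_mem (hKN hk) hy
      obtain ⟨j, hj⟩ := H3.exists_pow_pow_coprime (p := p) (k * y)
      have h5 := h3 _ (pow_mem (normalizer_inf_normalizer_le_normalizer_sup X T ⟨hkX, hkN⟩) _) hj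
      refine ⟨j, ?_⟩
      have e : ((⟨y, hy⟩ : normalizer (X : Set G)) : ↥(normalizer (X : Set G)) ⧸ K.subgroupOf (normalizer (X : Set G))) =
          ((⟨k * y, hkX⟩ : normalizer (X : Set G)) : _) := by
        have : (⟨k * y, hkX⟩ : normalizer (X : Set G)) = ⟨k, hKN hk⟩ * ⟨y, hy⟩ := rfl
        rw [this, QuotientGroup.mk_mul, (QuotientGroup.eq_one_iff (⟨k, hKN hk⟩ : normalizer (X : Set G))).2 (mem_subgroupOf.2 hk), one_mul]
      rw [e, ← QuotientGroup.mk_pow, QuotientGroup.eq_one_iff, mem_subgroupOf]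
      exact hCK (centralizer_le (le_sup_left : X ≤ X ⊔ T) h5)
    exact H3.pResidual_le_of_isPGroup_quotient _ h4
      (H3.mem_pResidual_of_coprime (g := (⟨g, hg⟩ : normalizer (X : Set G))) (by rwa [← orderOf_coe]))

end Cfsg.Agent.S3839
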