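import Cfsg.Statements.S3862
import Cfsg.Agent.H80.Misc
import Cfsg.Agent.S3839
import Cfsg.Agent.H79.Conj
import Cfsg.Agent.H3.PGroup

set_option autoImplicit false
open Cfsg

namespace Cfsg.Agent.S3862

open Subgroup H42
open scoped commutatorElement

/-- If every 2-element of the finite group G that is conjugate to its inverse lies in the centre of G, then G has a normal 2-complement. -/
theorem result {G : Type*} [Group G] [Finite G] (h : ∀ x : G, (∃ j : ℕ, orderOf x = 2 ^ j) → IsConj x x⁻¹ → x ∈ Subgroup.center G) : Cfsg.HasNormalPComplement 2 G := by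
  rw [H3.hasNormalPComplement_iff_frobenius]
  intro Q hQ a ha hao
  induction Q using WellFoundedLT.induction with
  | ind Q ih =>
  by_contra hna
  have hM : ∀ E : Subgroup G, E ≤ Q → (∀ y ∈ E, a * y * a⁻¹ ∈ E) → E ≠ Q → ∀ y ∈ E, y * a = a * y :=
    fun E hE h1 h2 => ih E (lt_of_le_of_ne hE h2) (hQ.to_le hE) (mem_normalizer_of_conj_mem h1)
  have haQ : ∀ y ∈ Q, a * y * a⁻¹ ∈ Q := fun y hy => conj_mem_of_mem_normalizer ha hy
  have hL : ∀ E : Subgroup G, E ≤ Q → (∀ y ∈ E, a * y * a⁻¹ ∈ E) →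
      (∀ y ∈ Q, a * y * a⁻¹ * y⁻¹ ∈ E) → E = Q := by
    intro E hE h1 h2
    by_contra h3
    apply hna
    intro y hy
    have := S3839.eq_one_of_chain (x := y) (u := a * y * a⁻¹ * y⁻¹) hao
      (by obtain ⟨k, hk⟩ := hQ ⟨_, hE (h2 y hy)⟩; exact ⟨k, congrArg Subtype.val hk⟩)
      (by group) (hM E hE h1 h3 _ (h2 y hy)).symm
    rw [mul_inv_eq_one, mul_inv_eq_iff_eq_mul] at this
    exact this.symm
  obtain ⟨x, hx, hxa⟩ : ∃ x ∈ Q, x * a ≠ a * x := by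
    by_contra h1
    push Not at h1
    exact hna h1
  have hF : ∀ y ∈ (frattini Q).map Q.subtype, y * a = a * y := by
    apply hM _ (map_subtype_le _)
    · intro y hy
      exact conj_mem_of_mem_normalizer (H79.normalizer_le_normalizer_map_subtype _ ha) hy
    · intro e
      have h1 : frattini Q = ⊤ := by
        apply map_injective Q.subtype_injective
        rw [e, ← MonoidHom.range_eq_map, range_subtype]
      have h2 : (⊥ : Subgroup Q) = ⊤ := frattini_nongenerating (by rw [h1, sup_top_eq])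
      have h3 : (⟨x, hx⟩ : Q) = 1 := mem_bot.1 (h2 ▸ mem_top _)
      have h4 : x = 1 := congrArg Subtype.val h3
      exact hxa (by rw [h4]; simp)
  obtain ⟨hF1, hF2⟩ := (H3.map_frattini_le_iff hQ).1 le_rfl
  have hca : ∀ y ∈ Q, ∀ z ∈ Q, y * z * y⁻¹ * z⁻¹ * a = a * (y * z * y⁻¹ * z⁻¹) :=
    fun y hy z hz => hF _ (hF1 (commutator_mem_commutator hy hz))
  have hsq : ∀ y ∈ Q, y ^ 2 * a = a * y ^ 2 := fun y hy => hF _ (hF2 y hy)
  have hcen : ∀ c ∈ Q, c * a = a * c → ∀ y ∈ Q, y * c = c * y := by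
    intro c hc hc2
    have := hL (Q ⊓ centralizer {c}) inf_le_left (by
      rintro y ⟨hy, hy2⟩
      refine ⟨haQ y hy, ?_⟩
      have h1 : a ∈ centralizer {c} := mem_centralizer_singleton_iff.2 hc2.symm
      exact Subgroup.mul_mem _ (Subgroup.mul_mem _ h1 hy2) (Subgroup.inv_mem _ h1)) (by
      intro y hy
      refine ⟨Q.mul_mem (haQ y hy) (Q.inv_mem hy), ?_⟩
      have h1 : a ∈ centralizer {c} := mem_centralizer_singleton_iff.2 hc2.symm
      have h2 : y * a * y⁻¹ ∈ centralizer {c} := by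
        rw [mem_centralizer_singleton_iff]
        have h3 := hca _ (inv_mem hy) c hc
        calc y * a * y⁻¹ * c = y * (a * (y⁻¹ * c * y⁻¹⁻¹ * c⁻¹)) * c * y⁻¹ := by group
          _ = y * (y⁻¹ * c * y⁻¹⁻¹ * c⁻¹) * (a * c) * y⁻¹ := by rw [← h3]; group
          _ = _ := by rw [← hc2]; group
      have : a * y * a⁻¹ * y⁻¹ = a * (y * a * y⁻¹)⁻¹ := by group
      rw [this]
      exact Subgroup.mul_mem _ h1 (Subgroup.inv_mem _ h2))
    intro y hy
    rw [← this] at hy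
    exact mem_centralizer_singleton_iff.1 hy.2
  have hk : ∀ y ∈ Q, ∀ z ∈ Q, ∀ w ∈ Q, w * (y * z * y⁻¹ * z⁻¹) = (y * z * y⁻¹ * z⁻¹) * w :=
    fun y hy z hz => hcen _ (mul_mem (mul_mem (mul_mem hy hz) (inv_mem hy)) (inv_mem hz)) (hca y hy z hz)
  let θ : Q →* G :=
    { toFun := fun y => y * x * (y : G)⁻¹ * x⁻¹
      map_one' := by simp
      map_mul' := fun y z => by
        have h1 := hk z z.2 x hx y y.2
        have h2 := hk z z.2 x hx _ (mul_mem (mul_mem (mul_mem y.2 hx) (inv_mem y.2)) (inv_mem hx))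
        rw [h2]
        simp only [coe_mul]
        calc _ = (y : G) * (z * x * (z : G)⁻¹ * x⁻¹) * x * (y : G)⁻¹ * x⁻¹ := by group
          _ = _ := by rw [h1]; group }
  have hθ : ∀ y : Q, θ y = y * x * (y : G)⁻¹ * x⁻¹ := fun _ => rfl
  have hDa : ∀ d ∈ θ.range, a * d * a⁻¹ = d := by
    rintro _ ⟨y, rfl⟩
    rw [hθ, ← hca y y.2 x hx]; group
  have hDQ : ∀ d ∈ θ.range, ∀ w ∈ Q, w * d * w⁻¹ = d := by
    rintro _ ⟨y, rfl⟩ w hw
    rw [hθ, hk y y.2 x hx w hw]; group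
  let Z : Subgroup G :=
    { carrier := {z | z ∈ Q ∧ ∀ y ∈ Q, y * z * y⁻¹ * z⁻¹ ∈ θ.range}
      one_mem' := ⟨one_mem _, fun y _ => by simp⟩
      mul_mem' := by
        rintro u v ⟨hu, hu2⟩ ⟨hv, hv2⟩
        refine ⟨mul_mem hu hv, fun y hy => ?_⟩
        have : y * (u * v) * y⁻¹ * (u * v)⁻¹ = (y * u * y⁻¹ * u⁻¹) * (u * (y * v * y⁻¹ * v⁻¹) * u⁻¹) := by group
        rw [this, hDQ _ (hv2 y hy) u hu]
        exact mul_mem (hu2 y hy) (hv2 y hy)
      inv_mem' := by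
        rintro u ⟨hu, hu2⟩
        refine ⟨inv_mem hu, fun y hy => ?_⟩
        have : y * u⁻¹ * y⁻¹ * u⁻¹⁻¹ = (u⁻¹ * (y * u * y⁻¹ * u⁻¹) * u⁻¹⁻¹)⁻¹ := by group
        rw [this, hDQ _ (hu2 y hy) _ (inv_mem hu)]
        exact inv_mem (hu2 y hy) }
  have hZ : Z = Q := by
    by_contra h1
    refine hxa (hM Z (fun z hz => hz.1) ?_ h1 x ⟨hx, fun y hy => ⟨⟨y, hy⟩, rfl⟩⟩)
    rintro z ⟨hz, hz2⟩
    refine ⟨haQ z hz, fun y hy => ?_⟩
    have h2 := hz2 _ (conj_mem_of_mem_normalizer (inv_mem ha) hy)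
    have : y * (a * z * a⁻¹) * y⁻¹ * (a * z * a⁻¹)⁻¹ =
        a * (a⁻¹ * y * a⁻¹⁻¹ * z * (a⁻¹ * y * a⁻¹⁻¹)⁻¹ * z⁻¹) * a⁻¹ := by group
    rw [this, hDa _ h2]
    exact h2
  have hD : ∀ z ∈ Q, ∀ y ∈ Q, y * z * y⁻¹ * z⁻¹ ∈ θ.range := fun z hz => (hZ ▸ hz : z ∈ Z).2
  have hmulsq : ∀ u ∈ Q, ∀ v ∈ Q, ∃ d ∈ θ.range, (u * v) ^ 2 = d * (u ^ 2 * v ^ 2) := by
    intro u hu v hv
    refine ⟨_, hD u hu v hv, ?_⟩
    calc (u * v) ^ 2 = u * (v * u * v⁻¹ * u⁻¹) * u * v ^ 2 := by simp only [sq]; group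
      _ = _ := by rw [hk v hv u hu u hu]; simp only [sq]; group
  let E : Subgroup G :=
    { carrier := {z | z ∈ Q ∧ z ^ 2 ∈ θ.range}
      one_mem' := ⟨one_mem _, by simp⟩
      mul_mem' := by
        rintro u v ⟨hu, hu2⟩ ⟨hv, hv2⟩
        refine ⟨mul_mem hu hv, ?_⟩
        obtain ⟨d, hd, e⟩ := hmulsq u hu v hv
        rw [e]
        exact mul_mem hd (mul_mem hu2 hv2)
      inv_mem' := by
        rintro u ⟨hu, hu2⟩
        exact ⟨inv_mem hu, by rw [inv_pow]; exact inv_mem hu2⟩ }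
  have hE : E = Q := by
    apply hL E (fun z hz => hz.1)
    · rintro z ⟨hz, hz2⟩
      exact ⟨haQ z hz, by rw [conj_pow, hDa _ hz2]; exact hz2⟩
    · intro y hy
      refine ⟨mul_mem (haQ y hy) (inv_mem hy), ?_⟩
      obtain ⟨d, hd, e⟩ := hmulsq _ (haQ y hy) _ (inv_mem hy)
      rw [e, conj_pow, ← hsq y hy]
      simpa using hd
  obtain ⟨y, hy⟩ := inv_mem (hE ▸ hx : x ∈ E).2
  rw [hθ, mul_inv_eq_iff_eq_mul] at hy
  have h1 := h x (by
    obtain ⟨k, hk⟩ := IsPGroup.iff_orderOf.1 hQ ⟨x, hx⟩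
    exact ⟨k, by rw [← hk, orderOf_mk]⟩) (isConj_iff.2 ⟨y, by rw [hy]; simp [sq]⟩)
  exact hxa (mem_center_iff.1 h1 a).symm

end Cfsg.Agent.S3862
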