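import Cfsg.Statements.S0199
import Cfsg.Agent.H8.BaerSuzuki

set_option autoImplicit false
open Cfsg

namespace Cfsg.Agent.S0199

/-- Baer–Suzuki Theorem: a p-subgroup X of a finite group such that X and any of its conjugates generate a p-group is contained in a normal p-subgroup. -/
theorem result {G : Type*} [Group G] [Finite G] {p : ℕ} [Fact p.Prime] (X : Subgroup G) (hX : IsPGroup p X) (h : ∀ g : G, IsPGroup p ↥(X ⊔ X.map (MulAut.conj g).toMonoidHom)) : ∃ N : Subgroup G, N.Normal ∧ IsPGroup p N ∧ X ≤ N := by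
  let S : Set G := {y | ∃ g : G, ∃ x ∈ X, y = g * x * g⁻¹}
  have key := H8.baer_suzuki_closure (p := p) S ?_ ?_
  · refine ⟨Subgroup.normalClosure S, inferInstance, key, fun x hx => ?_⟩
    exact Subgroup.subset_normalClosure ⟨1, x, hx, by simp⟩
  · rintro g y ⟨k, x, hx, rfl⟩
    exact ⟨g * k, x, hx, by simp [mul_assoc]⟩
  · rintro y ⟨a, x, hx, rfl⟩ z ⟨b, w, hw, rfl⟩
    refine ((h (a⁻¹ * b)).map (MulAut.conj a).toMonoidHom).to_le ?_
    rw [Subgroup.closure_le]
    rintro u (rfl | rfl)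
    · exact ⟨x, Subgroup.mem_sup_left hx, rfl⟩
    · refine ⟨(a⁻¹ * b) * w * (a⁻¹ * b)⁻¹, Subgroup.mem_sup_right ⟨w, hw, rfl⟩, ?_⟩
      simp [mul_assoc]

end Cfsg.Agent.S0199
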