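import Cfsg.Statements.S0038
import Cfsg.Agent.S0042
import Cfsg.Agent.S0034
import Cfsg.Agent.S0065
import Cfsg.Agent.S0001
import Cfsg.Agent.H44.Cores

set_option autoImplicit false
open Pointwise
open Cfsg

namespace Cfsg.Agent.S0038

/-- A nontrivial nilpotent normal subgroup with a fixed-point-free complement is the Fitting
subgroup. -/
theorem eq_fitting {G : Type*} [Group G] [Finite G] (N H : Subgroup G) [N.Normal]
    (hc : Subgroup.IsComplement' N H) (hN : N ≠ ⊥) (hnil : Group.IsNilpotent N)
    (hfpf : ∀ h ∈ H, h ≠ 1 → N ⊓ Subgroup.centralizer {h} = ⊥) : N = fittingSubgroup G := by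
  have hle : N ≤ fittingSubgroup G := H44.le_fitting inferInstance hnil
  refine le_antisymm hle ?_
  intro x hx
  obtain ⟨n, hn, h, hh, rfl⟩ := H2.exists_mul_eq_of_isComplement' hc x
  have hhF : h ∈ fittingSubgroup G := by
    have := (fittingSubgroup G).mul_mem ((fittingSubgroup G).inv_mem (hle hn)) hx
    rwa [inv_mul_cancel_left] at this
  rcases eq_or_ne h 1 with rfl | h1
  · rwa [mul_one]
  exfalso
  have := H44.fitting_isNilpotent (G := G)
  have hne : N.subgroupOf (fittingSubgroup G) ≠ ⊥ := by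
    rw [Ne, Subgroup.subgroupOf_eq_bot]
    exact fun hd => hN (hd.eq_bot_of_le hle)
  obtain ⟨⟨z, hz⟩, hz1⟩ := Subgroup.ne_bot_iff_exists_ne_one.mp (S0065.result _ hne)
  obtain ⟨hz2, hz3⟩ := Subgroup.mem_inf.mp hz
  have h2 : (z : G) ∈ N ⊓ Subgroup.centralizer {h} := by
    refine Subgroup.mem_inf.mpr ⟨hz2, ?_⟩
    rw [H2.mem_centralizer_singleton]
    exact (congrArg Subtype.val (Subgroup.mem_center_iff.mp hz3 ⟨h, hhF⟩)).symm
  rw [hfpf h hh h1, Subgroup.mem_bot] at h2
  exact hz1 (Subtype.ext (Subtype.ext h2))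

/-- In a finite Frobenius group the kernel is the Fitting subgroup. -/
theorem fitting_isComplement' {G : Type*} [Group G] [Finite G] (H : Subgroup G)
    (hH : IsFrobeniusComplement H) :
    (fittingSubgroup G : Set G) = frobeniusKernel H ∧
      Subgroup.IsComplement' (fittingSubgroup G) H := by
  obtain ⟨N, hN, hNn, hc⟩ := S0035.result H hH
  obtain ⟨N', hN', -, hnil⟩ := S0042.result H hH
  have hNN : N' = N := SetLike.coe_injective (hN'.trans hN.symm)
  subst hNN
  have hN0 : N' ≠ ⊥ := by
    rintro rfl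
    exact hH.2.1 (Subgroup.isComplement'_bot_left.mp hc)
  have := eq_fitting N' H hc hN0 hnil ((S0039.result N' H hc hN0 hH.1).mp hH)
  rw [← this]
  exact ⟨hN, hc⟩

theorem coprime_index {G : Type*} [Group G] [Finite G] (H : Subgroup G)
    (hH : IsFrobeniusComplement H) : H.index.Coprime (Nat.card H) := by
  have h := (S0034.result H hH).2
  have h' : H.index ≡ 1 [MOD Nat.card H] := h
  rw [Nat.Coprime, h'.gcd_eq, Nat.gcd_one_left]

/-- All Frobenius complements of a finite group are conjugate to one another. -/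
theorem result {G : Type*} [Group G] [Finite G] (H H₀ : Subgroup G)
    (hH : Cfsg.IsFrobeniusComplement H) (hH₀ : Cfsg.IsFrobeniusComplement H₀) :
    ∃ g : G, MulAut.conj g • H₀ = H := by
  obtain ⟨-, h1⟩ := fitting_isComplement' H hH
  obtain ⟨-, h2⟩ := fitting_isComplement' H₀ hH₀
  have := H44.fitting_isNilpotent (G := G)
  refine S0001.result (fittingSubgroup G) ?_ (Or.inl inferInstance) H₀ H h2 h1
  rw [← h1.index_eq_card, h1.symm.index_eq_card]
  exact coprime_index H hH

end Cfsg.Agent.S0038
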