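import Cfsg.Statements.S0049
import Cfsg.Agent.H2.Basic
import Mathlib.GroupTheory.SchurZassenhaus

set_option autoImplicit false
open Cfsg

namespace Cfsg.Agent.S0049

/-- A prime divisor of the order of a finite group also divides the index of the Frattini subgroup. -/
theorem result {G : Type*} [Group G] [Finite G] (p : ℕ) (hp : p.Prime) (hdvd : p ∣ Nat.card G) :
    p ∣ (frattini G).index := by
  by_contra hnd
  have := Fact.mk hp
  obtain ⟨P⟩ : Nonempty (Sylow p (frattini G)) := inferInstance
  -- `P` is a normal Sylow subgroup of `G`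
  have hPn : ((P : Subgroup (frattini G)).map (frattini G).subtype).Normal :=
    Subgroup.normalizer_eq_top_iff.mp (frattini_nongenerating (Sylow.normalizer_sup_eq_top P))
  set Q := (P : Subgroup (frattini G)).map (frattini G).subtype with hQ
  have hQp : IsPGroup p Q := P.isPGroup'.map _
  have hidx : ¬ p ∣ Q.index := by
    rw [hQ, Subgroup.index_map_subtype]
    intro h
    rcases (Nat.Prime.dvd_mul hp).mp h with h | h
    · exact P.not_dvd_index h
    · exact hnd h
  obtain ⟨k, hk⟩ := IsPGroup.iff_card.mp hQp
  have hcop : (Nat.card Q).Coprime Q.index := by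
    rw [hk]
    exact Nat.Coprime.pow_left k ((Nat.Prime.coprime_iff_not_dvd hp).mpr hidx)
  obtain ⟨H, hH⟩ := Subgroup.exists_right_complement'_of_coprime hcop
  have hQle : Q ≤ frattini G := Subgroup.map_subtype_le _
  have hHtop : H = ⊤ := by
    apply frattini_nongenerating
    rw [eq_top_iff, ← hH.sup_eq_top, sup_comm]
    exact sup_le_sup_left hQle H
  rw [hHtop, Subgroup.isComplement'_top_right] at hH
  rw [hH, Subgroup.index_bot] at hidx
  exact hidx hdvd

end Cfsg.Agent.S0049
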