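import Cfsg.Statements.S0109
import Cfsg.Agent.H4.Stable
import Cfsg.Agent.H22.PSolvable
import Cfsg.Agent.S0625
import Cfsg.Agent.S0626

set_option autoImplicit false
open Cfsg

namespace Cfsg.Agent.S0109

/-- The Thompson factorization Theorem for solvable groups states that, with p odd (and abelian Sylow 2-subgroups when p = 3) and no nontrivial normal subgroup of order prime to p, every element of G is a product of an element normalizing J(P) and an element centralizing the elements of order dividing p in the centre of P. -/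
theorem result {G : Type*} [Group G] [Finite G] {p : ℕ} [Fact p.Prime] (hp : p ≠ 2) (hs : Group.IsSolvable G) (h3 : p = 3 → ∀ T : Sylow 2 G, IsMulCommutative T) (hF : ∀ N : Subgroup G, N.Normal → Nat.Coprime (Nat.card N) p → N = ⊥) (P : Sylow p G) (g : G) : ∃ a ∈ Subgroup.normalizer (Cfsg.thompsonSubgroupOf p (P : Subgroup G) : Set G), ∃ c ∈ Subgroup.centralizer {x : G | x ∈ (P : Subgroup G) ∧ (∀ y ∈ (P : Subgroup G), x * y = y * x) ∧ x ^ p = 1}, g = a * c := by
-----
  have hO : pPrimeCore p G = ⊥ := hF _ inferInstance H22.coprime_card_pPrimeCore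
  have hps : IsPSolvable p G := H22.isPSolvable_of_isSolvable
  have hc := H22.IsPSolvable.centralizer_pCore_le hps hO
  have hst : IsActionPStable p G := by
    by_cases hp3 : p = 3
    · exact S0626.result hp (h3 hp3)
    · refine S0625.result ?_ hps
      have h2 := (Fact.out : p.Prime).two_le
      have h4 : p ≠ 4 := by
        rintro rfl
        exact absurd (Fact.out : Nat.Prime 4) (by norm_num)
      omega
  have := H21.omegaZClosure_normal (G := G) p
  have h1 := H4.normalizer_thompson_sup_centralizer_of_stable hc hst.1 P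
  have h2 : g ∈ Subgroup.normalizer (thompsonSubgroupOf p (P : Subgroup G) : Set G) ⊔
      Subgroup.centralizer (H21.omegaZClosure p G : Set G) := h1 ▸ Subgroup.mem_top g
  rw [← SetLike.mem_coe, Subgroup.mul_normal] at h2
  obtain ⟨a, ha, c, hc', rfl⟩ := h2
  refine ⟨a, ha, c, Subgroup.centralizer_le ?_ hc', rfl⟩
  rintro x ⟨hx1, hx2, hx3⟩
  exact H21.omegaOne_center_le_omegaZClosure P
    (H21.mem_omegaOne ⟨hx1, fun y hy => (hx2 y hy).symm⟩ hx3)

end Cfsg.Agent.S0109
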