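import Cfsg.Statements.S0183
import Cfsg.Agent.S1473
import Cfsg.Agent.S1477
import Cfsg.Agent.S1479
import Cfsg.Agent.S1483
import Cfsg.Agent.S1526

set_option autoImplicit false
open Cfsg

namespace Cfsg.Agent.S0183

universe u

theorem isCN_subgroup {G : Type*} [Group G] (hCN : IsCNGroup G) (K : Subgroup G) : IsCNGroup K := by
  intro g hg
  have := hCN g (fun h => hg (Subtype.ext h))
  let f : Subgroup.centralizer ({g} : Set K) →* Subgroup.centralizer ({(g : G)} : Set G) :=
    (K.subtype.comp (Subgroup.subtype _)).codRestrict _ fun x => by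
      rw [Subgroup.mem_centralizer_singleton_iff]
      exact congrArg Subtype.val (Subgroup.mem_centralizer_singleton_iff.mp x.2)
  refine Subgroup.isNilpotent_of_ker_le_center f ?_
  intro a ha
  have h1 : ((f a : Subgroup.centralizer ({(g : G)} : Set G)) : G) = 1 := by
    rw [MonoidHom.mem_ker.mp ha]; rfl
  have : a = 1 := Subtype.ext (Subtype.ext h1)
  rw [this]; exact Subgroup.one_mem _

theorem isNilpotent_of_comm {G : Type*} [Group G] (h : ∀ a b : G, a * b = b * a) :
    Group.IsNilpotent G :=
  @CommGroup.isNilpotent G { (inferInstance : Group G) with mul_comm := h }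

theorem isNilpotent_zpowers {G : Type*} [Group G] (g : G) :
    Group.IsNilpotent (Subgroup.zpowers g) :=
  isNilpotent_of_comm (IsCyclic.commGroup (α := Subgroup.zpowers g)).mul_comm

theorem not_minSimple {G : Type*} [Group G] [Finite G] (hG : IsMinSimpleOddOrder G)
    (hCN : IsCNGroup G) : False := by
  classical
  have hs : IsSimpleGroup G := hG.2.1
  let P : Subgroup G → Prop := fun H =>
    Group.IsNilpotent H ∧ ∀ L : Subgroup G, Group.IsNilpotent L → H ≤ L → L = H
  have hex : ∀ g : G, ∃ H, P H ∧ g ∈ H := by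
    intro g
    obtain ⟨H, hH, hmax⟩ := Finite.exists_le_maximal (p := fun L : Subgroup G => Group.IsNilpotent L)
      (a := Subgroup.zpowers g) (isNilpotent_zpowers g)
    exact ⟨H, ⟨hmax.1, fun L hL hle => le_antisymm (hmax.2 hL hle) hle⟩,
      hH (Subgroup.mem_zpowers g)⟩
  let s : Setoid {H // P H} :=
    { r := fun A B => ∃ g : G, B.1 = A.1.map (MulAut.conj g).toMonoidHom
      iseqv :=
        ⟨fun A => ⟨1, by ext x; simp⟩,
         fun {A B} ⟨g, hg⟩ => ⟨g⁻¹, by
          rw [hg, Subgroup.map_map]; ext x; simp [mul_assoc]⟩,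
         fun {A B C} ⟨g, hg⟩ ⟨h, hh⟩ => ⟨h * g, by
          rw [hh, hg, Subgroup.map_map]; congr 1; ext x; simp [mul_assoc]⟩⟩ }
  let ι := Quotient s
  have := Fintype.ofFinite ι
  let H : ι → Subgroup G := fun i => i.out.1
  have hP : ∀ i, P (H i) := fun i => i.out.2
  have hcover : ∀ g : G, ∃ i, ∃ x : G, x * g * x⁻¹ ∈ H i := by
    intro g
    obtain ⟨K, hK, hg⟩ := hex g
    obtain ⟨x, hx⟩ : s.r ⟨K, hK⟩ (Quotient.mk s ⟨K, hK⟩).out := s.symm (Quotient.mk_out _)
    refine ⟨Quotient.mk s ⟨K, hK⟩, x, ?_⟩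
    show _ ∈ (Quotient.mk s ⟨K, hK⟩).out.1
    rw [hx]
    exact ⟨g, hg, rfl⟩
  have h79 := fun i => (Cfsg.Agent.S1479.result hG hCN).1 (H i) (hP i).1 (hP i).2
  have hlt : ∀ i, H i < Subgroup.normalizer (H i : Set G) := by
    intro i
    obtain ⟨-, -, -, E, hE, hE0, -⟩ := h79 i
    refine lt_of_le_of_ne Subgroup.le_normalizer fun h => hE0 ?_
    rw [← hE.2.2.1, eq_comm, inf_eq_right]
    exact hE.2.1.trans h.ge
  refine Cfsg.Agent.S1526.result hG.1 (ι := ι) ?_ (fun i => Subgroup.normalizer (H i : Set G)) H hlt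
    ?_ ?_ ?_ ?_ ?_ (fun g _ => hcover g)
  · by_contra hlt2
    have hsub : Subsingleton ι := Fintype.card_le_one_iff_subsingleton.mp (by omega)
    obtain ⟨i, -⟩ := hcover 1
    have hidx : (H i).index = 1 := by
      by_contra hne
      obtain ⟨p, hp, hpi⟩ := Nat.exists_prime_and_dvd hne
      have : Fact p.Prime := ⟨hp⟩
      obtain ⟨g, hg⟩ := exists_prime_orderOf_dvd_card' p (hpi.trans (H i).index_dvd_card)
      obtain ⟨j, x, hx⟩ := hcover g
      rw [Subsingleton.elim j i] at hx
      have h1 : p ∣ Nat.card (H i) := by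
        have := Subgroup.orderOf_dvd_natCard _ hx
        rwa [show x * g * x⁻¹ = MulAut.conj x g from rfl, MulEquiv.orderOf_eq, hg] at this
      exact hp.one_lt.ne' (Nat.eq_one_of_dvd_coprimes (h79 i).1 h1 hpi)
    have := hlt i
    rw [Subgroup.index_eq_one.mp hidx] at this
    exact not_top_lt this
  · intro i h0
    obtain ⟨g, hg⟩ := exists_ne (1 : G)
    have := (hP i).2 (Subgroup.zpowers g) (isNilpotent_zpowers g) (by rw [h0]; exact bot_le)
    rw [h0] at this
    exact hg (Subgroup.zpowers_eq_bot.mp this)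
  · intro i x hx h hh
    exact (Subgroup.mem_set_normalizer_iff.mp hx h).mp hh
  · intro i h hh h1
    exact inf_le_right.trans ((Cfsg.Agent.S1477.result hCN (H i) (hP i).1 (hP i).2).2.2
      (h79 i).2.1 h hh h1)
  · intro i j hij
    rcases (Cfsg.Agent.S1483.result hG hCN).1 (H i) (H j) (hP i) (hP j) with h | h
    · exact absurd (Quotient.out_equiv_out.mp h) hij
    · exact h
  · intro i
    refine ⟨fun g hg x hx hgx => ?_, rfl⟩
    have hne : (H i).map (MulAut.conj g⁻¹).toMonoidHom ≠ H i := by
      intro h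
      apply hg
      rw [Subgroup.mem_set_normalizer_iff]
      intro y
      simp only [SetLike.mem_coe]
      conv_lhs => rw [← h]
      constructor
      · rintro ⟨z, hz, rfl⟩
        simpa [mul_assoc] using hz
      · intro hy
        exact ⟨_, hy, by simp [mul_assoc]⟩
    have h0 := (h79 i).2.1 g⁻¹ hne
    have : x ∈ H i ⊓ (H i).map (MulAut.conj g⁻¹).toMonoidHom :=
      ⟨hx, _, hgx, by simp [mul_assoc]⟩
    rwa [h0] at this

theorem aux (n : ℕ) : ∀ (G : Type u) [Group G] [Finite G], Nat.card G = n → Odd n → IsCNGroup G →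
    Group.IsSolvable G := by
  induction n using Nat.strong_induction_on with
  | _ n ih =>
    intro G _ _ hn hodd hCN
    by_contra hns
    have hsub : ∀ K : Subgroup G, K ≠ ⊤ → Group.IsSolvable K := by
      intro K hK
      refine ih (Nat.card K) ?_ K rfl
        (Odd.of_dvd_nat hodd (hn ▸ K.card_subgroup_dvd_card)) (isCN_subgroup hCN K)
      rw [← hn, ← K.card_mul_index]
      exact lt_mul_of_one_lt_right Nat.card_pos (Subgroup.one_lt_index_of_ne_top hK)
    have hnt : Nontrivial G := by
      by_contra h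
      rw [not_nontrivial_iff_subsingleton] at h
      exact hns inferInstance
    have hsimple : IsSimpleGroup G := by
      refine ⟨fun N hN => ?_⟩
      by_contra hcon
      push Not at hcon
      have h1 := hsub N hcon.2
      have h2 : Group.IsSolvable (G ⧸ N) := by
        refine ih (Nat.card (G ⧸ N)) ?_ (G ⧸ N) rfl
          (Odd.of_dvd_nat hodd (hn ▸ N.card_quotient_dvd_card)) (Cfsg.Agent.S1473.result hCN N h1)
        rw [← hn, ← N.index_eq_card, ← N.index_mul_card]
        exact lt_mul_of_one_lt_right (Nat.pos_of_ne_zero N.index_ne_zero_of_finite)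
          ((N.one_lt_card_iff_ne_bot).mpr hcon.1)
      exact hns (Group.isSolvable_of_ker_le_range N.subtype (QuotientGroup.mk' N) (by simp))
    exact not_minSimple ⟨hn ▸ hodd, hsimple, fun h => hns (Group.isSolvable_of_comm h.is_comm.comm), hsub⟩ hCN

/-- The CN-Theorem for odd order: a finite group of odd order in which every non-identity element has a nilpotent centralizer (a CN-group) is solvable. -/
theorem result {G : Type*} [Group G] [Finite G] (hodd : Odd (Nat.card G)) (hCN : Cfsg.IsCNGroup G) : Group.IsSolvable G := by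
  exact aux _ G rfl hodd hCN

end Cfsg.Agent.S0183
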