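import Cfsg.Statements.S0191
import Cfsg.Agent.H7.Galois

set_option autoImplicit false
open Cfsg

namespace Cfsg.Agent.S0191

open Cfsg.Agent.H5 Cfsg.Agent.H7
/-- An irreducible complex representation of a finite group of degree greater than 1 has a character that vanishes somewhere. -/
theorem result {G : Type*} [Group G] [Finite G] {V : Type*} [AddCommGroup V] [Module ℂ V] [FiniteDimensional ℂ V] (ρ : Representation ℂ G V) [ρ.IsIrreducible] (hdeg : 1 < Module.finrank ℂ V) : ∃ g : G, ρ.character g = 0 := by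
  classical
  by_contra hne
  push Not at hne
  have := Fintype.ofFinite G
  have hχ := isCharacter_character ρ
  set χ := ρ.character with hχdef
  let s : Finset G := Finset.univ.erase 1
  obtain ⟨k, hk⟩ : ∃ k : ℤ, ∏ g ∈ s, χ g = k := by
    refine exists_int_of_forall_ringEquiv (IsIntegral.prod _ fun g _ => isIntegral_apply hχ g)
      fun τ => ?_
    obtain ⟨m, hm, hτ⟩ := exists_coprime_ringHom_character G τ.toRingHom
    rw [map_prod]
    refine Finset.prod_equiv (powCoprime hm.symm) (fun g => ?_) (fun g _ => hτ χ hχ g)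
    simp only [s, Finset.mem_erase, Finset.mem_univ, and_true]
    rw [← (powCoprime hm.symm).injective.ne_iff]
    simp
  have hk0 : k ≠ 0 := by
    rintro rfl
    simp only [Int.cast_zero, Finset.prod_eq_zero_iff] at hk
    obtain ⟨g, -, hg⟩ := hk
    exact hne g hg
  have hprod : 1 ≤ ∏ g ∈ s, ‖χ g‖ ^ 2 := by
    rw [Finset.prod_pow, ← norm_prod, hk, Complex.norm_intCast]
    have : (1 : ℝ) ≤ |(k : ℝ)| := by exact_mod_cast Int.one_le_abs hk0
    nlinarith
  have hsum : ∑ g, ‖χ g‖ ^ 2 = Nat.card G := by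
    have h1 := classInner_irr_self (isIrrCharacter_character ρ)
    rw [classInner_self_eq] at h1
    have h2 : (Nat.card G : ℝ)⁻¹ * ∑ g : G, ‖χ g‖ ^ 2 = 1 := by exact_mod_cast h1
    have hG : (Nat.card G : ℝ) ≠ 0 := by exact_mod_cast Nat.card_pos.ne'
    exact ((inv_mul_eq_one₀ hG).mp h2).symm
  have hsplit : ∑ g, ‖χ g‖ ^ 2 = ‖χ 1‖ ^ 2 + ∑ g ∈ s, ‖χ g‖ ^ 2 :=
    (Finset.add_sum_erase _ _ (Finset.mem_univ 1)).symm
  have hcard : (s.card : ℝ) = Nat.card G - 1 := by
    simp only [s, Finset.card_erase_of_mem (Finset.mem_univ _), Finset.card_univ,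
      Nat.card_eq_fintype_card]
    rw [Nat.cast_sub Fintype.card_pos]; simp
  have hlog : (s.card : ℝ) ≤ ∑ g ∈ s, ‖χ g‖ ^ 2 := by
    have hpos : ∀ g ∈ s, 0 < ‖χ g‖ ^ 2 := fun g _ => pow_pos (norm_pos_iff.mpr (hne g)) 2
    have h1 : 0 ≤ ∑ g ∈ s, Real.log (‖χ g‖ ^ 2) := by
      rw [← Real.log_prod (fun g hg => (hpos g hg).ne')]
      exact Real.log_nonneg hprod
    have h2 : ∑ g ∈ s, Real.log (‖χ g‖ ^ 2) ≤ ∑ g ∈ s, (‖χ g‖ ^ 2 - 1) :=
      Finset.sum_le_sum fun g hg => Real.log_le_sub_one_of_pos (hpos g hg)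
    rw [Finset.sum_sub_distrib] at h2
    simp only [Finset.sum_const, nsmul_eq_mul, mul_one] at h2
    linarith
  have h1 : ‖χ 1‖ = Module.finrank ℂ V := by rw [hχdef, ρ.char_one]; simp
  have h2 : (2 : ℝ) ≤ Module.finrank ℂ V := by exact_mod_cast hdeg
  rw [h1] at hsplit
  nlinarith

end Cfsg.Agent.S0191
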