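import Cfsg.Statements.S0250
import Cfsg.Agent.H9.Transport

set_option autoImplicit false
open Cfsg

namespace Cfsg.Agent.S0250

/-- SL_2(2) is isomorphic to S_3. -/
theorem result {F : Type*} [Field F] [Fintype F] (hF : Fintype.card F = 2) : Nonempty (Matrix.SpecialLinearGroup (Fin 2) F ≃* Equiv.Perm (Fin 3)) := by
  have hc : Nat.card (Projectivization F (Fin 2 → F)) = Nat.card (Fin 3) := by
    rw [Projectivization.card_of_finrank_two F _ (by simp)]; simp [hF]
  obtain ⟨φ, hφ⟩ := H9.exists_injective_psl_perm (ι := Fin 2) (F := F) (Finite.card_eq.1 hc).some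
  have hz : Subgroup.center (Matrix.SpecialLinearGroup (Fin 2) F) = ⊥ := by
    rw [← Subgroup.card_eq_one, H9.card_center_sl, hF]; simp
  let e := H9.quotCenterEquivOfBot hz
  refine ⟨H9.mulEquivOfInjectiveOfCard (φ.comp e.symm.toMonoidHom) (hφ.comp e.symm.injective) ?_⟩
  rw [H9.card_sl_two, hF, Nat.card_perm]
  simp [Nat.factorial]

end Cfsg.Agent.S0250
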