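import Cfsg.Statements.S0347
import Cfsg.Agent.H12.SuzHig

set_option autoImplicit false
open Cfsg

namespace Cfsg.Agent.S0347

open Cfsg.Agent.H12

/-- If in a finite simple Zassenhaus group the stabiliser of a point `x` has a normal `2`-subgroup `U` which is
non-abelian and acts regularly on the points other than `x`, then the group is simple of Suzuki order (order-level
predicate `IsSuzuki`). -/
theorem result {G Ω : Type*} [Group G] [Finite G] [MulAction G Ω] [Finite Ω]
    (hZ : Cfsg.IsZassenhausGroup G Ω) [IsSimpleGroup G]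
    (x : Ω) (U : Subgroup G) (hUle : U ≤ MulAction.stabilizer G x) (hUn : (U.subgroupOf (MulAction.stabilizer G x)).Normal)
    (hU2 : IsPGroup 2 U) (hUna : ∃ u v : U, u * v ≠ v * u)
    (hreg : ∀ y z : Ω, y ≠ x → z ≠ x → ∃! u : U, (u : G) • y = z) :
    Cfsg.IsSuzuki G := by
  have hT := ZT.of_zass hZ
  obtain rfl := hT.eq_ker_of_regular hUle hreg
  obtain ⟨b, hb⟩ : ∃ b, b ≠ x := by
    obtain ⟨-, -, c, d, hcd, -⟩ := hZ.2.2.2.1
    by_cases h : c = x
    · exact ⟨d, fun e => hcd (h.trans e.symm)⟩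
    · exact ⟨c, h⟩
  have hodd := hT.odd_of_ker hb hU2 (fun e => by
    obtain ⟨u, v, huv⟩ := hUna
    exact huv (Subtype.ext (by
      rw [Subgroup.coe_mul, Subgroup.coe_mul, (Subgroup.eq_bot_iff_forall _).1 e u u.2]; simp)))
  obtain ⟨t, rfl, h, htwo⟩ := zass_exists_zo hZ hodd hb.symm
  obtain ⟨k, ξ, n, -, -, -, -, hn, hc⟩ := h.exists_hig hU2 htwo
  obtain ⟨-, ⟨m, rfl⟩, h3⟩ := h.hig_card hU2 htwo hUna hn hc
  refine ⟨inferInstance, m, by have := hn.two_le; omega, ?_⟩
  rw [hT.card_group hb, hc, ← hT.card_ker hb, h3]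
  ring

end Cfsg.Agent.S0347
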