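import Cfsg.Statements.S0340
import Cfsg.Agent.H12.ZassSimple
import Cfsg.Agent.S0347

set_option autoImplicit false
open Cfsg

namespace Cfsg.Agent.S0340

open Cfsg.Agent.H12

/-- Classification of Zassenhaus groups, simple case, order-level form: a finite simple Zassenhaus group is
isomorphic to `PSL₂(F)` for some finite field `F` or is simple of Suzuki order. -/
theorem result {G Ω : Type*} [Group G] [Finite G] [MulAction G Ω]
    [Finite Ω] (hZ : Cfsg.IsZassenhausGroup G Ω) [IsSimpleGroup G] :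
    (∃ (F : Type) (_ : Field F) (_ : Fintype F), Nonempty (G ≃* Matrix.ProjectiveSpecialLinearGroup (Fin 2) F)) ∨ Cfsg.IsSuzuki G := by
  refine (simple_zass_iso hZ).imp_right ?_
  rintro ⟨-, -, a, h2, u, hu, v, hv, huv⟩
  have hT := ZT.of_zass hZ
  refine S0347.result hZ a (zker G a) (hT.ker_le a)
    ⟨fun x hx g => hT.conj_mem_ker' hx g.2⟩ h2
    ⟨⟨u, hu⟩, ⟨v, hv⟩, fun e => huv (congrArg Subtype.val e)⟩ (fun y z hy hz => ?_)
  obtain ⟨k, hk, e⟩ := hT.ker_trans hy hz
  exact ⟨⟨k, hk⟩, e, fun k' e' => Subtype.ext (hT.ker_unique hy k'.2 hk (e'.trans e.symm))⟩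

end Cfsg.Agent.S0340
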