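import Cfsg.Statements.S0349
import Cfsg.Agent.H12.BNCore
import Cfsg.Agent.S1175
import Cfsg.Agent.S0222
import Cfsg.Agent.H42.SylIn
import Cfsg.Agent.H49.SylowOf
import Cfsg.Agent.H49.Prod

set_option autoImplicit false
open Cfsg

namespace Cfsg.Agent.S0349

/-- Let a finite simple group have a (B,N)-pair of rank one which is strongly split (`B = U (B ⊓ N)` with `U` nilpotent,
normal in `B` and meeting `N` trivially), with `[G : B]` and `|B ⊓ N|` odd. Then the group is isomorphic to `PSL₂(F)` with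
`|F|` a power of `2`, or is simple of Suzuki order, or is isomorphic to `PSU₃` realised over a field with `q²` elements,
`q = 2^n`, `n ≥ 2`. -/
theorem result {G : Type*} [Group G] [Finite G] [IsSimpleGroup G]
    (P : Cfsg.BNPair G) (hrank : P.rank = 1) (U : Subgroup G) (hUB : U ≤ P.B)
    (hUn : (U.subgroupOf P.B).Normal) (hUnil : Group.IsNilpotent U) (hsplit : U ⊔ (P.B ⊓ P.N) = P.B)
    (hdisj : U ⊓ P.N = ⊥) (hind : Odd P.B.index) (hH : Odd (Nat.card ↥(P.B ⊓ P.N))) :
    (∃ (F : Type) (_ : Field F) (_ : Fintype F), (∃ n : ℕ, Fintype.card F = 2 ^ n) ∧ Nonempty (G ≃* Matrix.ProjectiveSpecialLinearGroup (Fin 2) F)) ∨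
      Cfsg.IsSuzuki G ∨
      (∃ (F : Type) (_ : Field F) (_ : Fintype F) (n : ℕ), 2 ≤ n ∧ Fintype.card F = (2 ^ n) ^ 2 ∧
        Nonempty (G ≃* Cfsg.PSU 3 F (2 ^ n))) := by
  classical
  -- the unique generator
  have hsub : Subsingleton P.S ∧ Nonempty P.S := Nat.card_eq_one_iff_unique.mp hrank
  obtain ⟨hss, ⟨s⟩⟩ := hsub
  have hsN : (s : G) ∈ P.N := P.subset s.2
  have hsB : (s : G) ∉ P.B := by
    intro h
    obtain ⟨b, hb, hb'⟩ := H12.exists_conj_notMem s
    exact hb' (P.B.mul_mem (P.B.mul_mem h hb) h)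
  have hBtop : P.B ≠ ⊤ := fun h => hsB (h ▸ Subgroup.mem_top _)
  have hW : ∀ l : List P.S, H12.wp (H12.refl P) l = 1 ∨ H12.wp (H12.refl P) l = H12.refl P s := by
    intro l
    induction l with
    | nil => left; simp
    | cons t l ih =>
      have ht : t = s := Subsingleton.elim _ _
      subst ht
      rw [H12.wp_cons]
      rcases ih with h | h
      · right; rw [h, mul_one]
      · left; rw [h, H12.refl_mul_self]
  have hBn : P.B ≤ Subgroup.normalizer (U : Set G) :=
    (Subgroup.normal_subgroupOf_iff_le_normalizer hUB).mp hUn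
  have hdec : ∀ g : G, g ∉ P.B → ∃ b ∈ P.B, ∃ u ∈ U, g = b * s * u := by
    intro g hg
    obtain ⟨w, hw⟩ := H12.exists_cell (P := P) g
    obtain ⟨l, rfl⟩ := H12.weyl_gen (P := P) w
    rcases hW l with h | h
    · rw [h, H12.cell_one_iff] at hw; exact absurd hw hg
    · rw [h, H12.refl, H12.cell_mk_iff] at hw
      obtain ⟨b₁, hb₁, b₂, hb₂, rfl⟩ := hw
      have hb₂' : b₂ ∈ (P.B ⊓ P.N) ⊔ U := by rw [sup_comm, hsplit]; exact hb₂
      obtain ⟨h', hh', u, hu, rfl⟩ :=
        H42.exists_mul_of_mem_sup (le_trans inf_le_left hBn) hb₂'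
      refine ⟨b₁ * ((s : G) * h' * (s : G)⁻¹), P.B.mul_mem hb₁ (P.conj_mem _ hsN _ hh'), u, hu, ?_⟩
      simp only [mul_assoc, inv_mul_cancel_left]
  -- the key property of the centre of `U`
  have key : ∀ c ∈ U, c ≠ 1 → (∀ u ∈ U, u * c = c * u) → ∀ g : G, g * c * g⁻¹ ∈ P.B →
      g ∈ P.B := by
    intro c hc hc1 hcc g hg
    by_contra hgB
    have hconj : ∀ b ∈ P.B, ∀ u ∈ U, (b * s * u) * c * (b * s * u)⁻¹ =
        b * ((s : G) * c * (s : G)⁻¹) * b⁻¹ := by
      intro b _ u hu
      have := hcc u hu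
      calc (b * s * u) * c * (b * s * u)⁻¹ = b * s * (u * c) * u⁻¹ * (s : G)⁻¹ * b⁻¹ := by group
        _ = b * s * (c * u) * u⁻¹ * (s : G)⁻¹ * b⁻¹ := by rw [this]
        _ = _ := by group
    obtain ⟨b, hb, u, hu, rfl⟩ := hdec g hgB
    rw [hconj b hb u hu] at hg
    have hs : (s : G) * c * (s : G)⁻¹ ∈ P.B := by
      have := P.B.mul_mem (P.B.mul_mem (P.B.inv_mem hb) hg) hb
      simpa [mul_assoc] using this
    have hcore : c ∈ P.B.normalCore := by
      intro x
      by_cases hx : x ∈ P.B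
      · exact P.B.mul_mem (P.B.mul_mem hx (hUB hc)) (P.B.inv_mem hx)
      · obtain ⟨b', hb', u', hu', rfl⟩ := hdec x hx
        rw [hconj b' hb' u' hu']
        exact P.B.mul_mem (P.B.mul_mem hb' hs) (P.B.inv_mem hb')
    rcases IsSimpleGroup.eq_bot_or_eq_top_of_normal P.B.normalCore inferInstance with h | h
    · rw [h] at hcore; exact hc1 (Subgroup.mem_bot.mp hcore)
    · exact hBtop (top_le_iff.mp (h ▸ P.B.normalCore_le))
  -- parity
  have hrel : ¬ 2 ∣ U.relIndex P.B := by
    have h1 : U.relIndex P.B = U.relIndex (P.B ⊓ P.N) := by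
      conv_lhs => rw [← hsplit, sup_comm]
      exact H49.relIndex_sup_of_norm (Or.inl (le_trans inf_le_left hBn))
    rw [h1]
    intro h2
    have h3 : U.relIndex (P.B ⊓ P.N) ∣ Nat.card ↥(P.B ⊓ P.N) := Subgroup.index_dvd_card _
    exact (Nat.not_even_iff_odd.mpr hH) (even_iff_two_dvd.mpr (h2.trans h3))
  have hidx : ¬ 2 ∣ U.index := by
    rw [← Subgroup.relIndex_mul_index hUB]
    intro h
    rcases (Nat.prime_two.dvd_mul).mp h with h | h
    · exact hrel h
    · exact (Nat.not_even_iff_odd.mpr hind) (even_iff_two_dvd.mpr h)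
  have hGeven : 2 ∣ Nat.card G := by
    by_contra hodd
    have hcop : Nat.Coprime (orderOf (s : G)) 2 := by
      have : ¬ 2 ∣ orderOf (s : G) := fun h => hodd (h.trans (orderOf_dvd_natCard _))
      exact ((Nat.Prime.coprime_iff_not_dvd Nat.prime_two).mpr this).symm
    have hodd' : Odd (orderOf (s : G)) := by
      rcases Nat.even_or_odd (orderOf (s : G)) with h | h
      · exact absurd ((even_iff_two_dvd.mp h).trans (orderOf_dvd_natCard _)) hodd
      · exact h
    obtain ⟨k, hk⟩ := hodd'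
    apply hsB
    have h1 : (s : G) ^ (2 * k + 1) = 1 := by rw [← hk]; exact pow_orderOf_eq_one _
    have h2 : (s : G) = (((s : G) * s) ^ k)⁻¹ := by
      rw [← pow_two, ← pow_mul, eq_inv_iff_mul_eq_one, ← pow_succ', h1]
    rw [h2]
    exact P.B.inv_mem (P.B.pow_mem (P.sq_mem _ s.2) _)
  have hUeven : 2 ∣ Nat.card U := by
    rw [← U.card_mul_index] at hGeven
    rcases (Nat.prime_two.dvd_mul).mp hGeven with h | h
    · exact h
    · exact absurd h hidx
  haveI : Fact (Nat.Prime 2) := ⟨Nat.prime_two⟩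
  -- a Sylow 2-subgroup of `U`
  obtain ⟨Q⟩ : Nonempty (Sylow 2 U) := inferInstance
  have hQn : (Q : Subgroup U).Normal := by
    haveI := hUnil
    have h3 : ∀ (p : ℕ) (_hp : Fact p.Prime) (P : Sylow p U), (↑P : Subgroup U).Normal :=
      ((isNilpotent_of_finite_tfae (G := U)).out 0 3).mp hUnil
    exact h3 2 inferInstance Q
  set T : Subgroup G := (Q : Subgroup U).map U.subtype with hT
  have hTU : T ≤ U := Subgroup.map_subtype_le _
  have hTp : IsPGroup 2 T := Q.2.map _
  have hTrel : ¬ 2 ∣ T.relIndex U := by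
    rw [hT, Subgroup.relIndex, Subgroup.subgroupOf,
      Subgroup.comap_map_eq_self_of_injective U.subtype_injective]
    exact Q.not_dvd_index
  have hTidx : ¬ 2 ∣ T.index := by
    rw [← Subgroup.relIndex_mul_index hTU]
    intro h
    rcases (Nat.prime_two.dvd_mul).mp h with h | h
    · exact hTrel h
    · exact hidx h
  have hTn : U ≤ Subgroup.normalizer (T : Set G) := by
    apply (Subgroup.normal_subgroupOf_iff_le_normalizer hTU).mp
    rw [hT, Subgroup.subgroupOf, Subgroup.comap_map_eq_self_of_injective U.subtype_injective]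
    exact hQn
  have hTne : T ≠ ⊥ := by
    intro h
    apply hTrel
    rw [h, Subgroup.relIndex_bot_left]
    exact hUeven
  have hZ := H49.inf_center_ne_bot_of_nilpotent hUnil hTU hTn hTne
  obtain ⟨z, hzo⟩ : ∃ z : ↥(T ⊓ Subgroup.centralizer (U : Set G)), orderOf z = 2 := by
    apply exists_prime_orderOf_dvd_card' 2
    have hp : IsPGroup 2 ↥(T ⊓ Subgroup.centralizer (U : Set G)) := hTp.to_le inf_le_left
    obtain ⟨n, hn⟩ := IsPGroup.iff_card.mp hp
    rw [hn]
    apply dvd_pow_self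
    rintro rfl
    exact hZ (Subgroup.card_eq_one.mp (by simpa using hn))
  have hz : orderOf (z : G) = 2 := by rw [Subgroup.orderOf_coe]; exact hzo
  have hzT : (z : G) ∈ T := z.2.1
  have hzU : (z : G) ∈ U := hTU hzT
  have hzc : ∀ u ∈ U, u * z = z * u := fun u hu => z.2.2 u hu
  have hz1 : (z : G) ≠ 1 := by
    intro h; rw [h, orderOf_one] at hz; exact absurd hz (by norm_num)
  have hzz : (z : G) * z = 1 := by rw [← pow_two, ← hz]; exact pow_orderOf_eq_one _
  obtain ⟨M, hM⟩ := S1175.result P.B hBtop (z : G) hz (hUB hzU)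
    ⟨hTp.toSylow hTidx, hzT, fun t ht => hzc t (hTU ht)⟩ (key z hzU hz1 hzc) (by
      intro g hcomm hne x hx
      have h1 : g * z * g⁻¹ ∈ P.B := by
        apply key z hzU hz1 hzc
        rw [← hcomm.eq, mul_assoc, mul_inv_cancel, mul_one]
        exact hUB hzU
      have hgB : g ∈ P.B := key z hzU hz1 hzc g h1
      have hz'U : g * z * g⁻¹ ∈ U := ((Subgroup.mem_normalizer_iff.mp (hBn hgB)) z).mp hzU
      have hz'c : ∀ u ∈ U, u * (g * z * g⁻¹) = (g * z * g⁻¹) * u := by
        intro u hu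
        have hu' : g⁻¹ * u * g⁻¹⁻¹ ∈ U :=
          ((Subgroup.mem_normalizer_iff.mp (hBn (P.B.inv_mem hgB))) u).mp hu
        have := hzc _ hu'
        calc u * (g * z * g⁻¹) = g * (g⁻¹ * u * g⁻¹⁻¹ * z) * g⁻¹ := by group
          _ = g * (z * (g⁻¹ * u * g⁻¹⁻¹)) * g⁻¹ := by rw [this]
          _ = _ := by group
      have hc1 : (z : G) * (g * z * g⁻¹) ≠ 1 := by
        intro h
        apply hne
        rw [← hzz] at h
        exact mul_left_cancel h
      apply key _ (U.mul_mem hzU hz'U) hc1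
      · intro u hu
        calc u * ((z : G) * (g * z * g⁻¹)) = (u * z) * (g * z * g⁻¹) := by group
          _ = z * (u * (g * z * g⁻¹)) := by rw [hzc u hu]; group
          _ = _ := by rw [hz'c u hu]; group
      · have := (Subgroup.mem_centralizer_iff.mp hx) _ rfl
        rw [← this, mul_assoc, mul_inv_cancel, mul_one]
        exact hUB (U.mul_mem hzU hz'U))
  have hna : ∃ a b : G, a * b ≠ b * a := by
    by_contra hcon
    push Not at hcon
    apply hsB
    apply key z hzU hz1 hzc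
    rw [hcon s z, mul_assoc, mul_inv_cancel, mul_one]
    exact hUB hzU
  rcases S0222.result hna M hM with ⟨F, iF, fF, hch, -, hiso⟩ | h | ⟨F, iF, fF, q, hq, hqe, hq4, hiso⟩
  · left
    obtain ⟨n, -, hn⟩ := FiniteField.card F 2
    exact ⟨F, iF, fF, ⟨n, hn⟩, hiso⟩
  · right; left; exact h
  · right; right
    obtain ⟨p, hchar, n, hp, hn⟩ := FiniteField.card' F
    have hp2 : p = 2 := by
      have h2 : 2 ∣ p ^ (n : ℕ) := by
        rw [← hn, hq]; exact (even_iff_two_dvd.mp hqe).trans (dvd_pow_self q (by norm_num))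
      exact ((Nat.prime_dvd_prime_iff_eq Nat.prime_two hp).mp (Nat.prime_two.dvd_of_dvd_pow h2)).symm
    subst hp2
    have hqd : q ∣ 2 ^ (n : ℕ) := by rw [← hn, hq]; exact dvd_pow_self q (by norm_num)
    obtain ⟨m, -, rfl⟩ := (Nat.dvd_prime_pow Nat.prime_two).mp hqd
    refine ⟨F, iF, fF, m, ?_, hq, hiso⟩
    by_contra hm
    push Not at hm
    interval_cases m <;> simp at hq4

end Cfsg.Agent.S0349
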