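import Cfsg.Statements.S0422
import Cfsg.Agent.H16.M24f
import Cfsg.Agent.H14.MathieuIso

set_option autoImplicit false
open Cfsg

namespace Cfsg.Agent.S0422

/-- Simple groups of order 244823040 are all isomorphic to the concrete largest Mathieu group. -/
theorem result {G : Type*} [Group G] [Finite G] (hG : Cfsg.IsM24 G) : Nonempty (G ≃* Cfsg.M24) := by
  have := hG.1
  have := H14.simple_M24
  exact H16.M24.unique hG.2 H14.card_M24

end Cfsg.Agent.S0422
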