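import Cfsg.Statements.S0461
import Cfsg.Agent.J4P.Main

set_option autoImplicit false
open Cfsg

namespace Cfsg.Agent.S0461

open Cfsg.Agent.SGJ4 Cfsg.Agent.J4P Subgroup

theorem gen_map {Γ Δ : Type*} [Group Γ] [Group Δ] (A : Amal Γ) (hA : A.gen = ⊤) (f : Γ →* Δ)
    (hf : Function.Surjective f) : (A.map f).gen = ⊤ := by
  rw [eq_top_iff, ← MonoidHom.range_eq_top.2 hf, MonoidHom.range_eq_map, ← hA, map_le_iff_le_comap,
    Amal.gen, closure_le]
  rintro _ (⟨a, rfl⟩ | rfl)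
  exacts [subset_closure (Or.inl ⟨a, rfl⟩), (A.map f).t_mem_gen]

/-- Janko's fourth group exists as a group of 112 × 112 matrices over the field with two elements: GL(112, 2) has a simple subgroup of order 86775571046077562880. -/
theorem result : ∃ H : Subgroup (GL (Fin 112) (ZMod 2)), Cfsg.IsJ4 H := by
  obtain ⟨A, h1, h2, h3, h4, -⟩ := exists_amal_J4
  obtain ⟨ρ, e1, e2, e3⟩ := exists_hom rel7_m rel5_m
  have h5 := gen_map A h4 _ ρ.rangeRestrict_surjective
  have := finite_of_gen _ h5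
  obtain ⟨-, ⟨S⟩⟩ := (A.map ρ.rangeRestrict).exists_setup h5 ρ.range.subtype
    ((congrArg _ (map_ex _ _).symm).trans (h1 ▸ e1))
    ((congrArg _ (map_ex _ _).symm).trans (h2 ▸ e2)) (h3 ▸ e3 : ρ A.t = mT)
  exact ⟨ρ.range, isSimpleGroup_of_setup S, S.card_G⟩

end Cfsg.Agent.S0461
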