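import Cfsg.Statements.S0476
import Cfsg.Agent.J4P.Main

set_option autoImplicit false
open Cfsg

namespace Cfsg.Agent.S0476

open Cfsg.Agent.SGJ4 Cfsg.Agent.J4P Subgroup

/-- In some simple group of the order of Janko's fourth group there is an involution whose centraliser C has a normal extraspecial subgroup Q of order 2 ^ 13, a normal subgroup N of order 3 · 2 ^ 13 containing Q, and a subgroup M of index 2 containing N as a normal subgroup with M / N simple of order 443520. -/
theorem result : ∃ (G : Type) (_ : Group G) (_ : Finite G), Cfsg.IsJ4 G ∧ ∃ z : G, orderOf z = 2 ∧ ∃ (Q N M : Subgroup (Subgroup.centralizer ({z} : Set G))), Q.Normal ∧ N.Normal ∧ Q ≤ N ∧ N ≤ M ∧ Nat.card Q = 2 ^ 13 ∧ Cfsg.IsExtraspecial 2 Q ∧ Nat.card N = 3 * 2 ^ 13 ∧ M.index = 2 ∧ ∃ (_ : (N.subgroupOf M).Normal), Cfsg.IsM22 (M ⧸ N.subgroupOf M) := by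
  have := finite_J4
  obtain ⟨T⟩ := nonempty_setup_J4
  let S := T.toSetup1
  let M := (Spor.M22.subgroupOf M22x).comap (sg S)
  have hle : (sg S).ker ≤ M := ker_le_comap _ _
  let f : M →* Spor.M22 := ((M22x.subtype.comp (sg S)).comp M.subtype).codRestrict _ fun m => m.2
  have hk : f.ker = (sg S).ker.subgroupOf M := by
    ext m
    rw [MonoidHom.mem_ker, mem_subgroupOf, MonoidHom.mem_ker, Subtype.ext_iff, Subtype.ext_iff]
    rfl
  have hs : Function.Surjective f := fun g =>
    let ⟨h, e⟩ := sg_surj S ⟨g, M22_le_M22x g.2⟩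
    ⟨⟨h, by rw [mem_comap, e]; exact g.2⟩, Subtype.ext (congrArg Subtype.val e :)⟩
  have e := (QuotientGroup.quotientMulEquivOfEq hk.symm).trans
    (QuotientGroup.quotientKerEquivOfSurjective f hs)
  refine ⟨Spor.J4, inferInstance, this, ⟨simple_J4, card_J4⟩, S.z, S.ord_z, S.E.subgroupOf S.H,
    (sg S).ker, M, normal_E S, inferInstance, Nk_subgroupOf S ▸ subgroupOf_mono _ (E_le_Nk S), hle,
    (Nat.card_congr (subgroupOfEquivOfLe Setup1.E_le_H).toEquiv).trans Setup1.card_E,
    extraspecial_of_hom S (S.H.subtype.comp (S.E.subgroupOf S.H).subtype)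
      (S.H.subtype_injective.comp (subtype_injective _)) ?_, ?_,
    (index_comap_of_surjective _ (sg_surj S)).trans index_M22sub, inferInstance,
    e.isSimpleGroup_congr.2 H14.simple_M22, (Nat.card_congr e.toEquiv).trans H14.card_M22⟩
  · rw [MonoidHom.range_comp, range_subtype, map_subgroupOf_eq_of_le Setup1.E_le_H]
  · rw [← Nk_subgroupOf, ← card_Nk S]
    exact Nat.card_congr (subgroupOfEquivOfLe (Setup1.pre_le_H _)).toEquiv

end Cfsg.Agent.S0476
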