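import Cfsg.Statements.S0477
import Cfsg.Agent.AN.L1
import Cfsg.Agent.AN.LT

set_option autoImplicit false
open Cfsg

namespace Cfsg.Agent.S0477

/-- In some simple group of the Lyons group's order there is an element of order 3 whose centraliser has centre of order 3 with quotient by the centre simple of order 898128000 (a triple cover of a group of McLaughlin's order). -/
theorem result : ∃ (G : Type) (_ : Group G) (_ : Finite G), Cfsg.IsLy G ∧ ∃ x : G, orderOf x = 3 ∧ Nat.card (Subgroup.center (Subgroup.centralizer ({x} : Set G))) = 3 ∧ Cfsg.IsMcL ((Subgroup.centralizer ({x} : Set G)) ⧸ Subgroup.center (Subgroup.centralizer ({x} : Set G))) := by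
  have := Nat.finite_of_card_ne_zero (H17.LyE.card_eq ▸ by decide : Nat.card Spor.Ly ≠ 0)
  obtain ⟨t, h1, h2⟩ := AN.cent AN.LT.R AN.LT.top H17.LyE.card_eq
  obtain ⟨π, h⟩ := AN.exists_DC h1 h2
  obtain ⟨φ, e⟩ := h.exists_emb AN.ι11
  obtain ⟨y, hy, y3⟩ := h.toCov.exists_lift (m := 3) (by decide) (σ := H3.c3 8 9 10) (by decide)
  obtain ⟨o, ho⟩ := h.surj (Equiv.swap 8 9 * Equiv.swap 0 1) (by decide)
  obtain ⟨θ, T, -⟩ := e.theta h (AN.not_isolated (by decide) h) hy y3 ho
  have o3 : orderOf (AN.cz (y : Spor.Ly)) = 3 := orderOf_eq_prime (Subtype.ext T.cube) fun k =>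
    absurd (show π y = 1 by rw [show y = 1 from Subtype.ext (congrArg Subtype.val k :), map_one]) (by rw [hy]; decide)
  have f := (QuotientGroup.quotientMulEquivOfEq T.cen).trans (QuotientGroup.quotientKerEquivOfSurjective θ T.surj)
  refine ⟨Spor.Ly, _, this, ⟨H17.LyS.simple, H17.LyE.card_eq⟩, y, (Subgroup.orderOf_coe (AN.cz _)).trans o3, ?_,
    f.isSimpleGroup, (Nat.card_congr f.toEquiv).trans AN.card_M⟩
  rw [T.cen, ← o3, ← Nat.card_zpowers]
  exact congrArg (fun K : Subgroup _ => Nat.card K) (Subgroup.ext fun g => (T.ker g).trans (by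
    rw [AN.zp3 (Subtype.ext T.cube)]; simp only [Subtype.ext_iff]; rfl))

end Cfsg.Agent.S0477
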