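import Cfsg.Statements.S0480
import Cfsg.Agent.S5368
import Cfsg.Agent.S5361
import Cfsg.Agent.S0144
import Cfsg.Agent.S0286
import Cfsg.Agent.S0287
import Cfsg.Agent.H96.Ident22
import Cfsg.Agent.H96.Ident23
import Cfsg.Agent.H96.Ident24
import Cfsg.Agent.H58.Fi24B
import Cfsg.Agent.H68.LBForm
import Cfsg.Agent.H67.Inv2O
import Cfsg.Agent.H28.NormClass2

set_option autoImplicit false
open Cfsg

namespace Cfsg.Agent.S0480

open Subgroup H28 QuadraticMap

theorem not_dvd {G : Type*} [Group G] [Finite G] [Nontrivial G] (hp : Group.IsPerfect G) (a b : ℕ) :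
    ¬ Nat.card G ∣ 2 ^ a * 3 ^ b := fun h => by
  obtain ⟨x, y, hx, hy, e⟩ := (Nat.dvd_mul.1 h)
  obtain ⟨i, -, rfl⟩ := (Nat.dvd_prime_pow Nat.prime_two).1 hx
  obtain ⟨j, -, rfl⟩ := (Nat.dvd_prime_pow Nat.prime_three).1 hy
  exact Group.IsPerfect.not_isSolvable G (S0144.result 2 3 i j Nat.prime_two Nat.prime_three e.symm)

theorem hom_eq_one {G A : Type*} [Group G] [CommGroup A] (hp : Group.IsPerfect G) (f : G →* A)
    (g : G) : f g = 1 :=
  Abelianization.commutator_subset_ker f (hp.commutator_eq_top ▸ mem_top g)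

theorem index_ne_two {G H : Type*} [Group G] [Group H] (hp : Group.IsPerfect G) (e : G ≃* H) :
    (commutator H).index ≠ 2 := by
  rw [(Group.IsPerfect.ofSurjective (f := e.toMonoidHom) e.surjective).commutator_eq_top, index_top]
  decide

theorem scalar {n : ℕ} (hn : 4 ≤ n) {Q : QuadraticForm (ZMod 3) (Fin n → ZMod 3)}
    (hQ : (polarBilin Q).Nondegenerate) {c : ZMod 3} (hc : c ≠ 0) {z : O Q}
    (hz : ∀ v, Q v = c → z * refl Q v = refl Q v * z) : mat z = 1 ∨ mat z = -1 := by
  have h2 : (2 : ZMod 3) ≠ 0 := by decide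
  have h1 : ∀ v, Q v = c → rho Q z v = v ∨ rho Q z v = -v := fun v hv => by
    have e := congrArg (fun g => rho Q g v) (refl_conj z v)
    simp only [hz v hv, mul_inv_cancel_right] at e
    rw [rho_refl_self (hv ▸ hc), rho_refl] at e
    generalize (Q (rho Q z v))⁻¹ * polar Q (rho Q z v) v = a at e
    have h3 : ∀ x : Fin n → ZMod 3, x + x + x = 0 := fun x => by
      ext i
      have : ∀ t : ZMod 3, t + t + t = 0 := by decide
      exact this _
    rcases (by decide : ∀ a : ZMod 3, a = 0 ∨ a = 1 ∨ a = -1) a with rfl | rfl | rfl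
    · have : v = 0 := by
        rw [zero_smul] at e
        linear_combination (exp := 1) h3 v + e
      rw [this, map_zero] at hv
      exact absurd hv.symm hc
    · rw [one_smul] at e
      exact Or.inr (by linear_combination (exp := 1) e + h3 v)
    · rw [neg_one_smul] at e
      exact Or.inl (by linear_combination (exp := 1) -e - h3 v)
  have hcc : 2 * (2 * c) ≠ 0 := mul_ne_zero h2 (mul_ne_zero h2 hc)
  have key : ∀ v w, Q v = c → Q w = c → rho Q z v = -v → rho Q z w = w → False := by
    intro v w hv hw e1 e2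
    have hvw : polar Q v w = 0 := by
      have := B_rho z v w
      rw [e1, e2, polar_neg_left] at this
      exact (mul_eq_zero.1 (by linear_combination -this : 2 * polar Q v w = 0)).resolve_left h2
    have N1 := (nondegOn_top hQ).inf_ker h2 (Submodule.mem_top (x := v)) (hv ▸ hc)
    have N2 := N1.inf_ker h2 (u := w) ⟨Submodule.mem_top, by simpa using hvw⟩ (hw ▸ hc)
    have f1 := finrank_le_inf_ker (⊤ : Submodule (ZMod 3) (Fin n → ZMod 3)) (polarBilin Q v)
    have f2 := finrank_le_inf_ker (⊤ ⊓ LinearMap.ker (polarBilin Q v)) (polarBilin Q w)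
    rw [finrank_top, Module.finrank_fin_fun] at f1
    obtain ⟨u, ⟨⟨-, hu1⟩, hu2⟩, hu⟩ := N2.exists_eq (by omega) (-c)
    have u1 : polar Q v u = 0 := by simpa using hu1
    have u2 : polar Q w u = 0 := by simpa using hu2
    have hx : Q (v + w + u) = c := by
      rw [Q_add, Q_add, polar_add_left, hv, hw, hu, hvw, u1, u2]; ring
    have p1 := B_rho z v (v + w + u)
    have p2 := B_rho z w (v + w + u)
    have q1 : polar Q v (v + w + u) = 2 * c := by
      rw [polar_add_right, polar_add_right, B_self, hv, hvw, u1]; ring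
    have q2 : polar Q w (v + w + u) = 2 * c := by
      rw [polar_add_right, polar_add_right, B_self, hw, polar_comm Q w v, hvw, u2]; ring
    rcases h1 _ hx with e | e
    · rw [e, e1, polar_neg_left, q1] at p1
      exact hcc (by linear_combination -p1)
    · rw [e, e2, polar_neg_right, q2] at p2
      exact hcc (by linear_combination -p2)
  have hs := (nondegOn_top hQ).span_class h2 (by simp; omega) (by simp; omega) hc
  have ext : ∀ f : (Fin n → ZMod 3) →ₗ[ZMod 3] (Fin n → ZMod 3), (∀ v, Q v = c → rho Q z v = f v) →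
      ∀ v, rho Q z v = f v := fun f h v =>
    LinearMap.eqOn_span' (fun x hx => h x hx.2) (hs Submodule.mem_top)
  by_cases h : ∃ v, Q v = c ∧ rho Q z v = -v
  · obtain ⟨v, hv, e⟩ := h
    exact Or.inr (mat_eq_of_rho fun x => by
      rw [Matrix.neg_mulVec, Matrix.one_mulVec]
      exact ext (-LinearMap.id) (fun w hw => (h1 w hw).resolve_left (key v w hv hw e)) x)
  · exact Or.inl (mat_eq_of_rho fun x => by
      rw [Matrix.one_mulVec]
      exact ext LinearMap.id (fun w hw => (h1 w hw).resolve_right fun e => h ⟨w, hw, e⟩) x)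

theorem refl_case {G : Type*} [Group G] [Finite G] [Nontrivial G] (hp : Group.IsPerfect G)
    (hZ : center G = ⊥) {n : ℕ} {Q : QuadraticForm (ZMod 3) (Fin n → ZMod 3)}
    (hQ : (polarBilin Q).Nondegenerate) {c : ZMod 3} (hc : c ≠ 0)
    (e : G ≃* ↥(reflectionSubgroup (⇑Q) c) ⧸ center ↥(reflectionSubgroup (⇑Q) c))
    {r : O Q} (hr : r ∈ reflectionsOfNorm (⇑Q) c) :
    ∃ m : ℕ, Nonempty (G ≃* POmega (ZMod 3) (quadFormOdd m (ZMod 3))) := by
  have h2 : (2 : ZMod 3) ≠ 0 := by decide
  have hd : Nat.card G ∣ Nat.card (O Q) := by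
    rw [Nat.card_congr e.toEquiv]
    exact (card_quotient_dvd_card _).trans (card_subgroup_dvd_card _)
  have hd2 := hd.trans (card_subgroup_dvd_card _)
  rw [Matrix.card_GL_field, ZMod.card] at hd2
  have hm : ∀ v, Q v = c → refl Q v ∈ reflectionSubgroup (⇑Q) c := fun v hv =>
    subset_closure ⟨v, hv, rfl⟩
  rcases Nat.even_or_odd' n with ⟨m, rfl | rfl⟩
  · exfalso
    by_cases h4 : m < 2
    · interval_cases m
      · exact not_dvd hp 0 0 (by simpa using hd2)
      · exact not_dvd hp 4 1 (by simpa [Fin.prod_univ_succ] using hd2)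
    let δ : reflectionSubgroup (⇑Q) c →* (ZMod 3)ˣ :=
      (Matrix.GeneralLinearGroup.det.comp (O Q).subtype).comp (Subgroup.subtype _)
    have hδ : ∀ z ∈ center (reflectionSubgroup (⇑Q) c), δ z = 1 := fun z hz => Units.ext (by
      change (mat z.1).det = 1
      rcases scalar (by omega) hQ hc (z := z.1) fun v hv =>
        (congrArg Subtype.val (mem_center_iff.1 hz ⟨_, hm v hv⟩)).symm with h | h <;> rw [h]
      · exact Matrix.det_one
      · rw [Matrix.det_neg, Matrix.det_one, Fintype.card_fin, pow_mul]; simp)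
    have := hom_eq_one hp ((QuotientGroup.lift _ δ hδ).comp e.toMonoidHom)
      (e.symm (QuotientGroup.mk ⟨r, subset_closure hr⟩))
    obtain ⟨v, hv, hr⟩ := hr
    rw [MonoidHom.comp_apply, MulEquiv.coe_toMonoidHom, MulEquiv.apply_symm_apply] at this
    have h3 : (mat r).det = 1 := congrArg Units.val this
    rw [show mat r = _ from hr, det_reflectionMatrix (hv ▸ hc)] at h3
    exact absurd h3 (by decide)
  obtain ⟨a, φ, ha, hφ⟩ := H27.quad_equiv_odd hQ.1 (m := m) (by simp)
  let E := H68.oEquiv φ ha hφ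
  by_cases h4 : m < 2
  · exfalso
    rw [Nat.card_congr E.toEquiv, S0286.result (ZMod.card 3) (by decide)] at hd
    interval_cases m
    · exact not_dvd hp 1 0 (by simpa using hd)
    · exact not_dvd hp 4 1 (by simpa using hd)
  have hsub : reflectionSubgroup (⇑Q) c = reflSub Q c := by
    unfold reflectionSubgroup reflSub
    congr 1
    ext g
    exact ⟨fun ⟨v, hv, hg⟩ => ⟨v, hv, O_ext_mat hg⟩, fun ⟨v, hv, hg⟩ => ⟨v, hv, hg ▸ rfl⟩⟩
  have hle : commutator (O Q) ≤ reflectionSubgroup (⇑Q) c := by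
    rw [hsub]
    have := reflSub_normal (Q := Q) c
    have : IsCyclic (O Q ⧸ reflSub Q c) := isCyclic_of_prime_card (p := 2)
      (reflSub_index hQ h2 (by simp; omega) (by simp; omega) hc)
    exact Normal.quotient_commutative_iff_commutator_le.1 inferInstance
  let π : reflectionSubgroup (⇑Q) c →* G := e.symm.toMonoidHom.comp (QuotientGroup.mk' _)
  have hπ : Function.Surjective π := e.symm.surjective.comp (QuotientGroup.mk'_surjective _)
  let f : commutator (O Q) →* G := π.comp (inclusion hle)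
  have hf : Function.Surjective f := fun g => by
    have : g ∈ (commutator (reflectionSubgroup (⇑Q) c)).map π := by
      rw [map_commutator_eq, MonoidHom.range_eq_top.2 hπ]
      exact Group.IsPerfect.mem_commutator
    obtain ⟨x, hx, rfl⟩ := this
    refine ⟨⟨x.1, ?_⟩, rfl⟩
    have := mem_map_of_mem (Subgroup.subtype _) hx
    rw [map_subtype_commutator] at this
    exact commutator_mono le_top le_top this
  have hk : f.ker = center (commutator (O Q)) := by
    ext x
    constructor
    · intro hx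
      have : inclusion hle x ∈ center (reflectionSubgroup (⇑Q) c) := by
        rw [← QuotientGroup.eq_one_iff]
        exact e.symm.injective (hx.trans (map_one _).symm)
      exact mem_center_iff.2 fun y => inclusion_injective hle (by
        rw [map_mul, map_mul]; exact mem_center_iff.1 this _)
    · intro hx
      rw [MonoidHom.mem_ker, ← mem_bot, ← hZ, mem_center_iff]
      intro g
      obtain ⟨y, rfl⟩ := hf g
      rw [← map_mul, mem_center_iff.1 hx, map_mul]
  exact ⟨m, ⟨(((QuotientGroup.quotientMulEquivOfEq hk).symm.trans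
    (QuotientGroup.quotientKerEquivOfSurjective f hf)).symm).trans
      (H29.centerQuotEquiv (H29.commutatorEquiv E))⟩⟩

/-- The simple 3-transposition groups: if a finite non-abelian simple group G is generated by a conjugacy class of 3-transpositions, then G is isomorphic to a symplectic group Sp(2n, 2), or to a projective special unitary group PSU(n, 2) (defined over the field with four elements), or to the projective commutator subgroup of an orthogonal group in odd dimension over the field with three elements, or G has order 64561751654400, or G has order 4089470473293004800. -/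
theorem result {G : Type*} [Group G] [Finite G] [IsSimpleGroup G] (hna : ∃ x y : G, x * y ≠ y * x) {D : Set G} (hD : Cfsg.IsThreeTranspositionClass D) : (∃ n : ℕ, Nonempty (G ≃* Matrix.symplecticGroup (Fin n) (ZMod 2))) ∨ (∃ (F : Type) (_ : Field F) (_ : Fintype F) (n : ℕ), Fintype.card F = 4 ∧ Nonempty (G ≃* Cfsg.PSU n F 2)) ∨ (∃ m : ℕ, Nonempty (G ≃* Cfsg.POmega (ZMod 3) (Cfsg.quadFormOdd m (ZMod 3)))) ∨ Cfsg.IsFi22 G ∨ Cfsg.IsFi23 G := by
  obtain ⟨x, y, hxy⟩ := hna
  have hZ : center G = ⊥ := ((inferInstance : (center G).Normal).eq_bot_or_eq_top).resolve_right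
    fun e => hxy (mem_center_iff.1 (e ▸ mem_top y : y ∈ center G) x)
  have hp : Group.IsPerfect G := ⟨((inferInstance : (commutator G).Normal).eq_bot_or_eq_top).resolve_left
    fun e => hxy (commutatorElement_eq_one_iff_mul_comm.1 (mem_bot.1
      (e ▸ commutator_mem_commutator (mem_top x) (mem_top y))))⟩
  have hs : IsSimpleGroup (commutator G) := by
    rw [hp.commutator_eq_top]; exact topEquiv.isSimpleGroup
  have hG : IsThreeTranspositionGroup D := ⟨hD.1, fun g d hd => by
    obtain ⟨a, -, rfl⟩ := hD.2.1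
    exact IsConj.trans hd (isConj_iff.2 ⟨g, rfl⟩), hD.2.2⟩
  obtain ⟨d, hd, -⟩ := hD.2.1
  have hab : ∀ z₁ z₂ : ZMod 2, z₁ ^ 2 + 1 * z₁ * z₂ + 1 * z₂ ^ 2 = 0 → z₁ = 0 ∧ z₂ = 0 := by decide
  rcases S5368.result hD hZ hs with ⟨n, e, he⟩ | ⟨m, e, -⟩ | ⟨n, F, _, _, hF, e, -⟩ |
    (⟨m, e, -⟩ | ⟨m, e, -⟩) | ⟨n, Q, hQ, c, hc, e, he⟩ | h | h | h
  · have h1 : e d ∈ {σ : Equiv.Perm (Fin n) | σ.IsSwap} := he ▸ ⟨d, hd, rfl⟩
    have h2 := hom_eq_one hp (Equiv.Perm.sign.comp e.toMonoidHom) d
    exact absurd (h2.symm.trans (Equiv.Perm.IsSwap.sign_eq h1)) (by decide)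
  · exact Or.inl ⟨m, ⟨e⟩⟩
  · exact Or.inr (Or.inl ⟨F, _, _, n, hF, ⟨e⟩⟩)
  · exfalso
    by_cases h0 : m = 0
    · subst h0
      exact hxy (e.injective (Subsingleton.elim _ _))
    by_cases h2 : m = 2
    · subst h2
      refine not_dvd hp 3 2 ?_
      rw [Nat.card_congr e.toEquiv, S0287.result (ZMod.card 2) 2 (by norm_num)]
      decide
    have := omega_index_even (qPlus_nondeg (F := ZMod 2) m)
      (eichOK_of_card (qPlus_nondeg m) (Or.inr (by simp; omega))) (ZMod.ringChar_zmod_n 2)
      (by simp; omega)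
    rw [coe_qPlus] at this
    exact index_ne_two hp e this
  · have := omega_index_even (qMinus_nondeg m hab) (H67.eichOK_qMinus hab m)
      (ZMod.ringChar_zmod_n 2) (by simp)
    rw [coe_qMinus] at this
    exact absurd this (index_ne_two hp e)
  · have h1 : e d ∈ e '' D := ⟨d, hd, rfl⟩
    rw [he] at h1
    obtain ⟨r, hr, -⟩ := h1
    exact Or.inr (Or.inr (Or.inl (refl_case hp hZ hQ hc e hr)))
  · obtain ⟨e, -⟩ := H96.ident22 hG h
    exact Or.inr (Or.inr (Or.inr (Or.inl ⟨‹_›, (Nat.card_congr e.toEquiv).trans H58.Fi22P.card_eq⟩)))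
  · obtain ⟨e, -⟩ := H96.ident23 hG h
    exact Or.inr (Or.inr (Or.inr (Or.inr ⟨‹_›, (Nat.card_congr e.toEquiv).trans H58.Fi23P.card_eq⟩)))
  · obtain ⟨-, a, ha, -, -, -, ⟨-, -, ⟨b, hb, -⟩, -⟩, -⟩ := id h
    obtain ⟨e, -⟩ := H96.ident24 hG
      ((S5361.result hD hZ ⟨a, ha, b, hb.1, hb.2.1.symm, hb.2.2⟩).1.1 hs) h
    exact absurd H58.Fi24P.index_commutator (index_ne_two hp e)

end Cfsg.Agent.S0480
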