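import Cfsg.Statements.S0647
import Cfsg.Agent.H23.Basic

set_option autoImplicit false
open Cfsg

namespace Cfsg.Agent.S0647

open Subgroup Cfsg.Agent.H23

/-- For a nonempty family of maximal abelian subgroups of a finite group, the intersection of the family is the centre of the subgroup it generates, which is also the full centralizer of that subgroup. -/
theorem result {S : Type*} [Group S] [Finite S] (𝒜 : Set (Subgroup S)) (hne : 𝒜.Nonempty) (hab : ∀ A ∈ 𝒜, IsMulCommutative A) (hmax : ∀ A ∈ 𝒜, ∀ B : Subgroup S, IsMulCommutative B → A ≤ B → B = A) : sInf 𝒜 = sSup 𝒜 ⊓ Subgroup.centralizer ((sSup 𝒜 : Subgroup S) : Set S) ∧ sInf 𝒜 = Subgroup.centralizer ((sSup 𝒜 : Subgroup S) : Set S) := by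
  have h1 : Subgroup.centralizer ((sSup 𝒜 : Subgroup S) : Set S) ≤ sInf 𝒜 := by
    intro x hx
    rw [Subgroup.mem_sInf]
    intro A hA
    have hxA : zpowers x ≤ centralizer (A : Set S) := by
      rw [zpowers_le]
      exact centralizer_le (SetLike.coe_subset_coe.mpr (le_sSup hA)) hx
    have hc : IsMulCommutative ↥(zpowers x ⊔ A) :=
      isMulCommutative_sup inferInstance (hab A hA) hxA
    have := hmax A hA _ hc le_sup_right
    rw [← this]
    exact mem_sup_left (mem_zpowers x)
  have h2 : sInf 𝒜 ≤ Subgroup.centralizer ((sSup 𝒜 : Subgroup S) : Set S) := by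
    rw [le_centralizer_iff]
    refine sSup_le fun A hA => ?_
    rw [le_centralizer_iff]
    exact (sInf_le hA).trans (le_centralizer_iff_isMulCommutative.mpr (hab A hA))
  obtain ⟨A, hA⟩ := hne
  have h3 : sInf 𝒜 ≤ sSup 𝒜 := (sInf_le hA).trans (le_sSup hA)
  exact ⟨le_antisymm (le_inf h3 h2) (inf_le_right.trans h1), le_antisymm h2 h1⟩

end Cfsg.Agent.S0647
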