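import Cfsg.Statements.S0655
import Cfsg.Agent.H23.MaxAb

set_option autoImplicit false
open Cfsg

namespace Cfsg.Agent.S0655

open Subgroup Cfsg.Agent.H23

/-- In a p-group the intersection of all elementary abelian subgroups of largest order is the subgroup generated by the elements of order dividing p in the centre (equivalently the centralizer) of the elementary-version Thompson subgroup. -/
theorem result {S : Type*} [Group S] [Finite S] {p : ℕ} [Fact p.Prime] (hS : IsPGroup p S) : sInf (Cfsg.maxElementaryAbelianSubgroups p S) = Cfsg.omegaCenterThompson p S ∧ Cfsg.omegaCenterThompson p S = Cfsg.omegaOne p (Subgroup.centralizer (Cfsg.thompsonSubgroup p S : Set S)) := by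
  have h1 : Cfsg.omegaOne p (Subgroup.centralizer (Cfsg.thompsonSubgroup p S : Set S)) ≤
      sInf (Cfsg.maxElementaryAbelianSubgroups p S) := by
    rw [Cfsg.omegaOne, closure_le]
    rintro x ⟨hx, hxp⟩
    rw [SetLike.mem_coe, Subgroup.mem_sInf]
    intro A hA
    have hA' : A ∈ maxAb p (⊤ : Subgroup S) := by rw [maxAb_top]; exact hA
    exact mem_of_mem_centralizer_maxAb hA' (mem_top x) hxp
      (centralizer_le (SetLike.coe_subset_coe.mpr (le_sSup hA)) hx)
  have h2 : sInf (Cfsg.maxElementaryAbelianSubgroups p S) ≤ Cfsg.omegaCenterThompson p S := by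
    obtain ⟨A, hA⟩ := maxAb_nonempty p (⊤ : Subgroup S)
    rw [maxAb_top] at hA
    intro x hx
    have hxA : x ∈ A := sInf_le hA hx
    refine subset_closure ⟨mem_inf.mpr ⟨le_sSup hA hxA, ?_⟩, hA.1.2 x hxA⟩
    have : sInf (Cfsg.maxElementaryAbelianSubgroups p S) ≤
        Subgroup.centralizer (Cfsg.thompsonSubgroup p S : Set S) := by
      rw [le_centralizer_iff]
      refine sSup_le fun B hB => ?_
      rw [le_centralizer_iff]
      exact (sInf_le hB).trans (le_centralizer_iff_isMulCommutative.mpr hB.1.1)
    exact this hx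
  have h3 : Cfsg.omegaCenterThompson p S ≤
      Cfsg.omegaOne p (Subgroup.centralizer (Cfsg.thompsonSubgroup p S : Set S)) :=
    closure_mono fun x hx => ⟨(mem_inf.mp hx.1).2, hx.2⟩
  exact ⟨le_antisymm h2 (h3.trans h1), le_antisymm h3 (h1.trans h2)⟩

end Cfsg.Agent.S0655
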