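import Cfsg.Statements.S0659
import Cfsg.Agent.H4.NPCFunctor
import Cfsg.Agent.H4.Stable
import Cfsg.Agent.H23.ZJ
import Cfsg.Agent.S0626

set_option autoImplicit false
open Cfsg

namespace Cfsg.Agent.S0659

universe u

theorem isPFunctor_zj {p : ℕ} [Fact p.Prime] {e : ℕ} (he : p ∣ e) :
    H4.IsPFunctor.{u} p (fun _ _ _ S => H23.zj e S) where
  le := fun _ _ _ S => H23.zj_le e S
  ne_bot := fun _ _ _ _ hS h => H23.zj_ne_bot he hS h
  map := fun _ _ _ _ _ _ f S _ h => (H23.zj_map_of_injOn f e S (by rw [inf_comm, h])).symm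

/-- Glauberman's normal p-complement Theorem with the abelian-version Thompson subgroup: for odd p, G has a normal p-complement whenever the normalizer of Z(J(P)) does. -/
theorem result {G : Type*} [Group G] [Finite G] {p : ℕ} [Fact p.Prime] (hp : p ≠ 2) (P : Sylow p G) (hN : Cfsg.HasNormalPComplement p ↥(Subgroup.normalizer (Cfsg.centerThompsonAOf ((P : Subgroup G)) : Set G))) : Cfsg.HasNormalPComplement p G := by
  rw [H23.centerThompsonAOf_eq] at hN
  refine (isPFunctor_zj (dvd_zero p)).hasNormalPComplement ?_ P hN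
  intro G _ _ P L hL
  refine H23.zj_normal hp (Or.inr rfl) (H23.qStable_of_isPStableOn ?_) hL.cent P
  exact H4.isPStableOn_of_class (fun G _ _ => ∀ T : Sylow 2 G, IsMulCommutative T)
    (fun G _ _ N _ h => H4.sylow_isMulCommutative_quotient h N)
    (fun G _ _ h => (S0626.result hp h).1) G (hL.sylow_isMulCommutative hp.symm)

end Cfsg.Agent.S0659
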