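import Cfsg.Statements.S0692
import Cfsg.Agent.H24.Mat2

set_option autoImplicit false
open Cfsg

namespace Cfsg.Agent.S0692

open Cfsg.Agent.H24

/-- generators -/
def gens : List N4 := [(0,10,1,0),(2,4,1,8)]

/-- words -/
def words : List (List ℕ) :=
  [[], [0], [1], [0,0], [1,0], [0,1], [1,1], [0,0,0], [1,0,0], [0,1,0], [1,1,0], [1,0,1],
  [0,1,1], [1,0,0,0], [0,1,0,0], [1,1,0,0], [1,0,1,0], [0,1,1,0], [0,1,0,1], [1,1,0,1],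
  [1,0,1,1], [0,1,0,0,0], [1,1,0,0,0], [1,0,1,0,0], [0,1,1,0,0], [0,1,0,1,0], [1,1,0,1,0],
  [1,0,1,1,0], [1,0,1,0,1], [0,1,1,0,1], [0,1,0,1,1], [1,1,0,1,1], [1,0,1,0,0,0], [0,1,1,0,0,0],
  [0,1,0,1,0,0], [1,1,0,1,0,0], [1,0,1,1,0,0], [1,0,1,0,1,0], [0,1,1,0,1,0], [0,1,0,1,1,0],
  [1,1,0,1,1,0], [1,1,0,1,0,1], [1,0,1,1,0,1], [1,0,1,0,1,1], [0,1,0,1,0,0,0], [1,1,0,1,0,0,0],
  [1,0,1,1,0,0,0], [1,0,1,0,1,0,0], [0,1,1,0,1,0,0], [0,1,0,1,1,0,0], [1,1,0,1,1,0,0],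
  [1,1,0,1,0,1,0], [1,0,1,1,0,1,0], [1,0,1,0,1,1,0], [0,1,1,0,1,0,1], [0,1,0,1,1,0,1],
  [1,1,0,1,1,0,1], [1,1,0,1,0,1,1], [1,0,1,0,1,0,0,0], [0,1,1,0,1,0,0,0], [0,1,0,1,1,0,0,0],
  [1,1,0,1,1,0,0,0], [1,1,0,1,0,1,0,0], [1,0,1,1,0,1,0,0], [1,0,1,0,1,1,0,0], [0,1,1,0,1,0,1,0],
  [0,1,0,1,1,0,1,0], [1,1,0,1,1,0,1,0], [1,1,0,1,0,1,1,0], [1,0,1,1,0,1,0,1], [1,0,1,0,1,1,0,1],
  [0,1,1,0,1,0,1,1], [1,1,0,1,0,1,0,0,0], [1,0,1,1,0,1,0,0,0], [1,0,1,0,1,1,0,0,0],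
  [0,1,1,0,1,0,1,0,0], [0,1,0,1,1,0,1,0,0], [1,1,0,1,1,0,1,0,0], [1,1,0,1,0,1,1,0,0],
  [1,0,1,1,0,1,0,1,0], [1,0,1,0,1,1,0,1,0], [0,1,1,0,1,0,1,1,0], [0,1,0,1,1,0,1,0,1],
  [1,1,0,1,1,0,1,0,1], [1,1,0,1,0,1,1,0,1], [1,0,1,1,0,1,0,1,1], [0,1,1,0,1,0,1,0,0,0],
  [0,1,0,1,1,0,1,0,0,0], [1,1,0,1,1,0,1,0,0,0], [1,1,0,1,0,1,1,0,0,0], [1,0,1,1,0,1,0,1,0,0],
  [1,0,1,0,1,1,0,1,0,0], [0,1,1,0,1,0,1,1,0,0], [0,1,0,1,1,0,1,0,1,0], [1,1,0,1,1,0,1,0,1,0],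
  [1,1,0,1,0,1,1,0,1,0], [1,0,1,1,0,1,0,1,1,0], [1,0,1,0,1,1,0,1,0,1], [0,1,1,0,1,0,1,1,0,1],
  [0,1,0,1,1,0,1,0,1,1], [1,0,1,1,0,1,0,1,0,0,0], [1,0,1,0,1,1,0,1,0,0,0],
  [0,1,0,1,1,0,1,0,1,0,0], [1,1,0,1,1,0,1,0,1,0,0], [1,1,0,1,0,1,1,0,1,0,0],
  [1,0,1,1,0,1,0,1,1,0,0], [0,1,1,0,1,0,1,1,0,1,0], [0,1,0,1,1,0,1,0,1,1,0],
  [1,1,0,1,0,1,1,0,1,0,1], [1,0,1,1,0,1,0,1,1,0,1], [1,0,1,0,1,1,0,1,0,1,1],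
  [0,1,0,1,1,0,1,0,1,0,0,0], [1,1,0,1,1,0,1,0,1,0,0,0], [1,1,0,1,0,1,1,0,1,0,0,0],
  [0,1,0,1,1,0,1,0,1,1,0,0], [1,0,1,1,0,1,0,1,1,0,1,0], [1,0,1,0,1,1,0,1,0,1,1,0],
  [0,1,1,0,1,0,1,1,0,1,0,1], [0,1,0,1,1,0,1,0,1,1,0,1], [1,1,0,1,0,1,1,0,1,0,1,1]]

/-- elements -/
def elts : List N4 :=
  [(1,0,0,1), (0,10,1,0), (2,4,1,8), (10,0,0,10), (4,9,8,10), (10,3,2,4), (8,7,10,2), (0,1,10,0),
  (9,7,10,3), (3,1,4,9), (7,3,2,1), (6,0,4,2), (1,9,8,7), (7,2,3,1), (1,8,9,7), (3,4,1,9),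
  (0,5,2,7), (9,10,7,3), (7,9,6,0), (6,8,5,5), (1,2,10,10), (8,10,7,2), (4,8,9,10), (5,0,7,9),
  (10,2,3,4), (9,4,0,5), (8,5,5,6), (2,10,10,1), (5,7,0,9), (6,6,6,8), (1,1,1,2), (9,0,4,5),
  (0,6,9,4), (2,1,4,8), (4,2,5,0), (5,3,6,6), (10,9,1,1), (7,6,9,0), (6,5,8,5), (1,10,2,10),
  (0,2,5,7), (10,6,5,2), (3,0,10,4), (6,10,9,6), (2,7,0,6), (3,6,6,5), (9,1,1,10), (6,4,0,2),
  (5,5,5,3), (10,10,10,9), (2,0,7,6), (6,1,2,6), (0,8,4,1), (10,5,6,2), (6,9,10,6), (1,7,3,0),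
  (2,5,6,10), (4,0,1,3), (4,5,2,0), (5,6,3,6), (10,1,9,1), (0,9,6,4), (1,5,6,9), (8,0,1,7),
  (5,1,2,5), (9,5,6,1), (7,10,0,8), (5,9,10,5), (0,7,3,10), (8,9,9,2), (3,3,3,7), (10,8,4,0),
  (5,10,9,5), (0,3,7,10), (1,6,5,9), (5,2,1,5), (10,4,8,0), (9,6,5,1), (7,0,10,8), (9,3,2,2),
  (3,8,7,8), (8,1,0,7), (2,9,8,9), (8,4,3,3), (7,1,5,4), (3,5,9,8), (2,6,5,10), (4,1,0,3),
  (6,2,1,6), (0,4,8,1), (3,2,2,9), (8,8,8,4), (1,3,7,0), (9,9,9,3), (4,3,3,8), (1,4,4,6),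
  (5,8,8,2), (3,10,0,4), (6,7,7,1), (2,3,3,5), (2,8,9,9), (8,3,4,3), (9,2,3,2), (3,7,8,8),
  (4,10,6,7), (8,6,2,3), (7,5,1,4), (3,9,5,8), (6,3,3,9), (7,7,7,4), (5,4,4,10), (2,2,2,8),
  (7,8,8,3), (10,7,7,5), (9,8,8,6), (7,4,4,4), (4,6,10,7), (8,2,6,3), (4,7,7,7), (4,4,4,7)]

/-- An exceptional sharply doubly transitive group of degree 11^2: the listed matrices generate a subgroup of GL(2,11) of order 120 acting regularly on the non-zero vectors. -/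
theorem result (A : Matrix.GeneralLinearGroup (Fin 2) (ZMod 11)) (B : Matrix.GeneralLinearGroup (Fin 2) (ZMod 11)) (hA : (A : Matrix (Fin 2) (Fin 2) (ZMod 11)) = !![0, -1; 1, 0]) (hB : (B : Matrix (Fin 2) (Fin 2) (ZMod 11)) = !![2, 4; 1, -3]) : Nat.card (Subgroup.closure ({A, B} : Set (Matrix.GeneralLinearGroup (Fin 2) (ZMod 11)))) = 120 ∧ ∀ v w : Fin 2 → ZMod 11, v ≠ 0 → w ≠ 0 → ∃! h : Subgroup.closure ({A, B} : Set (Matrix.GeneralLinearGroup (Fin 2) (ZMod 11))), Matrix.mulVec ((h : Matrix.GeneralLinearGroup (Fin 2) (ZMod 11)) : Matrix (Fin 2) (Fin 2) (ZMod 11)) v = w := by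
  have : Fact (Nat.Prime 11) := ⟨by norm_num⟩
  have hA' : (A : Matrix (Fin 2) (Fin 2) (ZMod 11)) = toMat 11 (0, 10, 1, 0) := by
    rw [hA]; decide
  have hB' : (B : Matrix (Fin 2) (Fin 2) (ZMod 11)) = toMat 11 (2, 4, 1, 8) := by
    rw [hB]; decide
  obtain ⟨h1, h2⟩ := mem_closure_iff_list gens ({A, B} : Set (GL (Fin 2) (ZMod 11)))
    (by
      rintro g (rfl | rfl)
      · exact ⟨_, by simp [gens], hA'⟩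
      · exact ⟨_, by simp [gens], hB'⟩)
    (by
      intro x hx
      simp only [gens, List.mem_cons, List.not_mem_nil, or_false] at hx
      rcases hx with rfl | rfl
      · exact ⟨A, by simp, hA'⟩
      · exact ⟨B, by simp, hB'⟩)
    words elts (by decide +kernel) (by decide +kernel) (by decide +kernel)
  have hc := card_eq_of_list _ elts h1 h2 (by decide +kernel) (by decide +kernel)
  refine ⟨hc, fun v w hv hw => ?_⟩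
  exact regular_of_card _ (by rw [hc]; decide +kernel) (fpf_of_list _ elts h1 (by decide +kernel))
    v w hv hw

end Cfsg.Agent.S0692
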