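import Cfsg.Statements.S0693
import Cfsg.Agent.H24.Mat2
import Cfsg.Agent.H2.Basic

set_option autoImplicit false
open Cfsg

namespace Cfsg.Agent.S0693

open Cfsg.Agent.H24

/-- generators -/
def gens : List N4 := [(0,58,1,0),(9,15,49,49)]

/-- words -/
def words : List (List ℕ) :=
  [[], [0], [1], [0,0], [1,0], [0,1], [1,1], [0,0,0], [1,0,0], [0,1,0], [1,1,0], [1,0,1],
  [0,1,1], [1,0,0,0], [0,1,0,0], [1,1,0,0], [1,0,1,0], [0,1,1,0], [0,1,0,1], [1,1,0,1],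
  [1,0,1,1], [0,1,0,0,0], [1,1,0,0,0], [1,0,1,0,0], [0,1,1,0,0], [0,1,0,1,0], [1,1,0,1,0],
  [1,0,1,1,0], [1,0,1,0,1], [0,1,1,0,1], [0,1,0,1,1], [1,1,0,1,1], [1,0,1,0,0,0], [0,1,1,0,0,0],
  [0,1,0,1,0,0], [1,1,0,1,0,0], [1,0,1,1,0,0], [1,0,1,0,1,0], [0,1,1,0,1,0], [0,1,0,1,1,0],
  [1,1,0,1,1,0], [1,1,0,1,0,1], [1,0,1,1,0,1], [1,0,1,0,1,1], [0,1,0,1,0,0,0], [1,1,0,1,0,0,0],
  [1,0,1,1,0,0,0], [1,0,1,0,1,0,0], [0,1,1,0,1,0,0], [0,1,0,1,1,0,0], [1,1,0,1,1,0,0],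
  [1,1,0,1,0,1,0], [1,0,1,1,0,1,0], [1,0,1,0,1,1,0], [0,1,1,0,1,0,1], [0,1,0,1,1,0,1],
  [1,1,0,1,1,0,1], [1,1,0,1,0,1,1], [1,0,1,0,1,0,0,0], [0,1,1,0,1,0,0,0], [0,1,0,1,1,0,0,0],
  [1,1,0,1,1,0,0,0], [1,1,0,1,0,1,0,0], [1,0,1,1,0,1,0,0], [1,0,1,0,1,1,0,0], [0,1,1,0,1,0,1,0],
  [0,1,0,1,1,0,1,0], [1,1,0,1,1,0,1,0], [1,1,0,1,0,1,1,0], [1,0,1,1,0,1,0,1], [1,0,1,0,1,1,0,1],
  [0,1,1,0,1,0,1,1], [1,1,0,1,0,1,0,0,0], [1,0,1,1,0,1,0,0,0], [1,0,1,0,1,1,0,0,0],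
  [0,1,1,0,1,0,1,0,0], [0,1,0,1,1,0,1,0,0], [1,1,0,1,1,0,1,0,0], [1,1,0,1,0,1,1,0,0],
  [1,0,1,1,0,1,0,1,0], [1,0,1,0,1,1,0,1,0], [0,1,1,0,1,0,1,1,0], [0,1,0,1,1,0,1,0,1],
  [1,1,0,1,1,0,1,0,1], [1,1,0,1,0,1,1,0,1], [1,0,1,1,0,1,0,1,1], [0,1,1,0,1,0,1,0,0,0],
  [0,1,0,1,1,0,1,0,0,0], [1,1,0,1,1,0,1,0,0,0], [1,1,0,1,0,1,1,0,0,0], [1,0,1,1,0,1,0,1,0,0],
  [1,0,1,0,1,1,0,1,0,0], [0,1,1,0,1,0,1,1,0,0], [0,1,0,1,1,0,1,0,1,0], [1,1,0,1,1,0,1,0,1,0],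
  [1,1,0,1,0,1,1,0,1,0], [1,0,1,1,0,1,0,1,1,0], [1,0,1,0,1,1,0,1,0,1], [0,1,1,0,1,0,1,1,0,1],
  [0,1,0,1,1,0,1,0,1,1], [1,0,1,1,0,1,0,1,0,0,0], [1,0,1,0,1,1,0,1,0,0,0],
  [0,1,0,1,1,0,1,0,1,0,0], [1,1,0,1,1,0,1,0,1,0,0], [1,1,0,1,0,1,1,0,1,0,0],
  [1,0,1,1,0,1,0,1,1,0,0], [0,1,1,0,1,0,1,1,0,1,0], [0,1,0,1,1,0,1,0,1,1,0],
  [1,1,0,1,0,1,1,0,1,0,1], [1,0,1,1,0,1,0,1,1,0,1], [1,0,1,0,1,1,0,1,0,1,1],
  [0,1,0,1,1,0,1,0,1,0,0,0], [1,1,0,1,1,0,1,0,1,0,0,0], [1,1,0,1,0,1,1,0,1,0,0,0],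
  [0,1,0,1,1,0,1,0,1,1,0,0], [1,0,1,1,0,1,0,1,1,0,1,0], [1,0,1,0,1,1,0,1,0,1,1,0],
  [0,1,1,0,1,0,1,1,0,1,0,1], [0,1,0,1,1,0,1,0,1,1,0,1], [1,1,0,1,0,1,1,0,1,0,1,1]]

/-- elements -/
def elts : List N4 :=
  [(1,0,0,1), (0,58,1,0), (9,15,49,49), (58,0,0,58), (15,50,49,10), (10,10,9,15), (49,44,10,9),
  (0,1,58,0), (50,44,10,10), (10,49,15,50), (44,10,9,49), (48,20,46,45), (49,50,49,44),
  (44,9,10,49), (49,49,50,44), (10,15,49,50), (20,11,45,13), (50,10,44,10), (13,14,48,20),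
  (1,29,4,58), (55,48,23,4), (49,10,44,9), (15,49,50,10), (11,39,13,14), (10,9,10,15),
  (14,46,20,11), (29,58,58,55), (48,4,4,36), (11,13,39,14), (55,1,1,29), (36,55,55,48),
  (14,20,46,11), (39,48,14,46), (9,49,15,49), (46,45,11,39), (58,30,55,1), (4,11,36,55),
  (13,48,14,20), (1,4,29,58), (55,23,48,4), (20,45,11,13), (35,32,31,25), (38,31,30,54),
  (28,35,34,32), (45,13,39,48), (30,1,1,4), (11,55,55,23), (48,46,20,45), (4,58,58,30),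
  (23,4,4,11), (45,39,13,48), (32,24,25,28), (31,21,54,29), (35,31,32,25), (28,34,35,32),
  (29,5,38,31), (25,27,28,35), (54,28,29,38), (46,11,45,39), (58,55,30,1), (4,36,11,55),
  (39,14,48,46), (24,27,28,34), (21,28,29,5), (31,24,25,27), (34,31,32,24), (5,30,31,21),
  (27,34,35,31), (28,5,38,30), (10,19,19,48), (5,38,38,53), (30,21,54,28), (27,35,34,31),
  (28,38,5,30), (24,28,27,34), (31,25,24,27), (30,54,21,28), (34,32,31,24), (5,31,30,21),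
  (19,49,48,40), (38,54,53,21), (21,29,28,5), (40,11,10,19), (21,6,5,38), (25,16,42,34),
  (18,19,45,41), (25,28,27,35), (54,29,28,38), (32,25,24,28), (31,54,21,29), (49,40,40,11),
  (54,21,21,6), (29,38,5,31), (11,19,19,49), (6,38,38,54), (16,34,34,17), (19,41,41,14),
  (38,30,31,54), (17,25,25,16), (14,18,18,19), (40,10,11,19), (21,5,6,38), (19,48,49,40),
  (38,53,54,21), (34,43,17,25), (41,40,14,18), (25,42,16,34), (18,45,19,41), (40,18,18,45),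
  (56,52,52,3), (42,34,34,43), (48,40,40,10), (53,21,21,5), (43,25,25,42), (45,41,41,40),
  (52,3,3,7), (34,17,43,25), (41,14,40,18), (7,56,56,52), (3,7,7,56)]

/-- scalars -/
def scal : List N4 :=
  [(1, 0, 0, 1), (4, 0, 0, 4), (16, 0, 0, 16), (5, 0, 0, 5), (20, 0, 0, 20), (21, 0, 0, 21), (25, 0, 0, 25), (41, 0, 0, 41), (46, 0, 0, 46), (7, 0, 0, 7), (28, 0, 0, 28), (53, 0, 0, 53), (35, 0, 0, 35), (22, 0, 0, 22), (29, 0, 0, 29), (57, 0, 0, 57), (51, 0, 0, 51), (27, 0, 0, 27), (49, 0, 0, 49), (19, 0, 0, 19), (17, 0, 0, 17), (9, 0, 0, 9), (36, 0, 0, 36), (26, 0, 0, 26), (45, 0, 0, 45), (3, 0, 0, 3), (12, 0, 0, 12), (48, 0, 0, 48), (15, 0, 0, 15)]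

/-- words for the scalars -/
def swords : List (List ℕ) := (List.range 29).map fun i => List.replicate i 0

theorem check : elts.all (fun y => scal.all fun z =>
    beq4 (mul4 59 y z) one4 || noFix4 59 (mul4 59 y z)) = true := by decide +kernel

/-- An exceptional sharply doubly transitive group of degree 59^2: the listed matrices generate a subgroup of GL(2,59) of order 3480 acting regularly on the non-zero vectors. -/
theorem result (A : Matrix.GeneralLinearGroup (Fin 2) (ZMod 59)) (B : Matrix.GeneralLinearGroup (Fin 2) (ZMod 59)) (C : Matrix.GeneralLinearGroup (Fin 2) (ZMod 59)) (hA : (A : Matrix (Fin 2) (Fin 2) (ZMod 59)) = !![0, -1; 1, 0]) (hB : (B : Matrix (Fin 2) (Fin 2) (ZMod 59)) = !![9, 15; -10, -10]) (hC : (C : Matrix (Fin 2) (Fin 2) (ZMod 59)) = !![4, 0; 0, 4]) : Nat.card (Subgroup.closure ({A, B, C} : Set (Matrix.GeneralLinearGroup (Fin 2) (ZMod 59)))) = 3480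 ∧ ∀ v w : Fin 2 → ZMod 59, v ≠ 0 → w ≠ 0 → ∃! h : Subgroup.closure ({A, B, C} : Set (Matrix.GeneralLinearGroup (Fin 2) (ZMod 59))), Matrix.mulVec ((h : Matrix.GeneralLinearGroup (Fin 2) (ZMod 59)) : Matrix (Fin 2) (Fin 2) (ZMod 59)) v = w := by
  have : Fact (Nat.Prime 59) := ⟨by norm_num⟩
  have hA' : (A : Matrix (Fin 2) (Fin 2) (ZMod 59)) = toMat 59 (0, 58, 1, 0) := by
    rw [hA]; decide
  have hB' : (B : Matrix (Fin 2) (Fin 2) (ZMod 59)) = toMat 59 (9, 15, 49, 49) := by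
    rw [hB]; decide
  have hC' : (C : Matrix (Fin 2) (Fin 2) (ZMod 59)) = toMat 59 (4, 0, 0, 4) := by
    rw [hC]; decide
  obtain ⟨h1, h2⟩ := mem_closure_iff_list gens ({A, B} : Set (GL (Fin 2) (ZMod 59)))
    (by
      rintro g (rfl | rfl)
      · exact ⟨_, by simp [gens], hA'⟩
      · exact ⟨_, by simp [gens], hB'⟩)
    (by
      intro x hx
      simp only [gens, List.mem_cons, List.not_mem_nil, or_false] at hx
      rcases hx with rfl | rfl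
      · exact ⟨A, by simp, hA'⟩
      · exact ⟨B, by simp, hB'⟩)
    words elts (by decide +kernel) (by decide +kernel) (by decide +kernel)
  have hc := card_eq_of_list _ elts h1 h2 (by decide +kernel) (by decide +kernel)
  obtain ⟨k1, k2⟩ := mem_closure_iff_list [(4, 0, 0, 4)] ({C} : Set (GL (Fin 2) (ZMod 59)))
    (by
      rintro g rfl
      exact ⟨_, by simp, hC'⟩)
    (by
      intro x hx
      simp only [List.mem_cons, List.not_mem_nil, or_false] at hx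
      subst hx
      exact ⟨C, by simp, hC'⟩)
    swords scal (by decide +kernel) (by decide +kernel) (by decide +kernel)
  have kc := card_eq_of_list _ scal k1 k2 (by decide +kernel) (by decide +kernel)
  have hS : ({A, B, C} : Set (GL (Fin 2) (ZMod 59))) = {A, B} ∪ {C} := by
    ext x
    simp only [Set.mem_insert_iff, Set.mem_singleton_iff, Set.mem_union, or_assoc]
  have hCc : C ∈ Subgroup.center (GL (Fin 2) (ZMod 59)) := by
    rw [Subgroup.mem_center_iff]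
    intro g
    apply Units.ext
    rw [Units.val_mul, Units.val_mul, hC]
    have : (!![4, 0; 0, 4] : Matrix (Fin 2) (Fin 2) (ZMod 59)) = (4 : ZMod 59) • 1 := by
      ext i j
      fin_cases i <;> fin_cases j <;> simp
    rw [this]
    simp
  have hN : (Subgroup.closure ({C} : Set (GL (Fin 2) (ZMod 59)))).Normal :=
    ⟨fun n hn g => by
      have hle : Subgroup.closure ({C} : Set (GL (Fin 2) (ZMod 59))) ≤ Subgroup.center _ := by
        simpa using hCc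
      rw [Subgroup.mem_center_iff.mp (hle hn) g, mul_inv_cancel_right]
      exact hn⟩
  have h3 := H2.card_sup_mul_card_inf_of_normal
    (Subgroup.closure ({A, B} : Set (GL (Fin 2) (ZMod 59)))) (Subgroup.closure {C})
  have h4 : Nat.card (Subgroup.closure ({A, B} : Set (GL (Fin 2) (ZMod 59))) ⊓
      Subgroup.closure {C} : Subgroup _) = 1 := by
    have h5 := Subgroup.card_dvd_of_le (inf_le_left : Subgroup.closure
      ({A, B} : Set (GL (Fin 2) (ZMod 59))) ⊓ Subgroup.closure {C} ≤ _)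
    have h6 := Subgroup.card_dvd_of_le (inf_le_right : Subgroup.closure
      ({A, B} : Set (GL (Fin 2) (ZMod 59))) ⊓ Subgroup.closure {C} ≤ _)
    rw [hc] at h5
    rw [kc] at h6
    exact Nat.eq_one_of_dvd_coprimes (by decide +kernel) h5 h6
  rw [h4, hc, kc, mul_one, ← Subgroup.closure_union, ← hS] at h3
  have h5 : Nat.card (Subgroup.closure ({A, B, C} : Set (GL (Fin 2) (ZMod 59)))) = 3480 := by
    rw [h3]; decide +kernel
  refine ⟨h5, fun v w hv hw => regular_of_card _ (by rw [h5]; norm_num) ?_ v w hv hw⟩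
  intro g hg v hv h
  rw [hS, Subgroup.closure_union, ← SetLike.mem_coe, Subgroup.mul_normal] at hg
  obtain ⟨a, ha, c, hc, rfl⟩ := hg
  obtain ⟨y, hy, hy'⟩ := h1 a ha
  obtain ⟨z, hz, hz'⟩ := k1 c hc
  have h6 : ((a * c : GL (Fin 2) (ZMod 59)) : Matrix (Fin 2) (Fin 2) (ZMod 59)) =
      toMat 59 (mul4 59 y z) := by rw [toMat_mul4, ← hy', ← hz']; rfl
  have h7 := List.all_eq_true.mp (List.all_eq_true.mp check y hy) z hz
  rw [Bool.or_eq_true] at h7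
  rcases h7 with h3 | h3
  · rw [beq4_iff.mp h3, toMat_one4] at h6
    exact Units.ext h6
  · simp only [h6] at h
    exact absurd (eq_zero_of_noFix4 h3 v h) hv

end Cfsg.Agent.S0693
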