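import Cfsg.Statements.S0731
import Cfsg.Agent.H26.ZassFeit

set_option autoImplicit false
open Cfsg

namespace Cfsg.Agent.S0731

open MulAction Cfsg.Agent.H26 Cfsg.Agent.H12

/-- A finite Zassenhaus group whose point stabiliser has an abelian regular normal subgroup on the remaining points is sharply triply transitive or isomorphic to `PSL(2, F)` for a finite field `F` of odd characteristic. -/
theorem result {G Ω : Type*} [Group G] [Finite G] [MulAction G Ω] [Finite Ω] (hZ : Cfsg.IsZassenhausGroup G Ω) (x : Ω) (F : Subgroup G) (hFle : F ≤ MulAction.stabilizer G x) (hFn : (F.subgroupOf (MulAction.stabilizer G x)).Normal) (hFab : IsMulCommutative F) (hreg : ∀ y z : Ω, y ≠ x → z ≠ x → ∃! u : F, (u : G) • y = z) : (MulAction.IsMultiplyPretransitive G Ω 3 ∧ ∀ t : Fin 3 ↪ Ω, MulAction.stabilizer G t = ⊥) ∨ ∃ (K : Type) (_ : Field K) (_ : Fintype K), ringChar K ≠ 2 ∧ Nonempty (G ≃* Matrix.ProjectiveSpecialLinearGroup (Fin 2) K) := by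
  have hT := ZT.of_zass hZ
  obtain ⟨b, hb⟩ := zass_exists_ne hZ x
  have hF := hT.eq_ker_of_regular hFle hreg
  subst hF
  rcases zass_abelian hZ hb.symm (fun u hu v hv => congrArg Subtype.val
    (mul_comm' (⟨u, hu⟩ : zker G x) ⟨v, hv⟩)) with h | ⟨-, K, _, _, -, h1, h2⟩
  · exact Or.inl ⟨mt3_of_card_stab hT hb.symm h.ge,
      sharp3_of_eq_one fun g a b c h1 h2 h3 => hT.three g h1 h2 h3⟩
  · exact Or.inr ⟨K, inferInstance, inferInstance, h1, h2⟩

end Cfsg.Agent.S0731
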