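import Cfsg.Statements.S0851
import Cfsg.Agent.H30.TIFN

set_option autoImplicit false
open Cfsg

namespace Cfsg.Agent.S0851

open Cfsg Cfsg.Agent.H54 Cfsg.Agent.H49

/-- Let K be a subgroup of the finite group G that meets each conjugate by an element outside its normalizer N trivially, is properly contained in N, and contains the centralizer of each of its non-identity elements (a T.I. subgroup with Frobenius normalizer). Suppose K is abelian, let e be the index of K in N, and call an irreducible character of N relevant when it takes at some element of K a value different from its degree. Then either there is exactly one relevant character and K is an elementary abelian p-group of order e + 1 for some prime p, or there are a sign ε and an injective map f from the relevant characters to the irreducible characters of G such that inducing χ - ξ to G gives ε (f χ - f ξ) for all relevant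 χ and ξ. -/
theorem result {G : Type*} [Group G] [Fintype G] (K : Subgroup G) (hTI : ∀ g : G, g ∉ Subgroup.normalizer (K : Set G) → ∀ k ∈ K, g * k * g⁻¹ ∈ K → k = 1) (hlt : K < Subgroup.normalizer (K : Set G)) (hC : ∀ k ∈ K, k ≠ 1 → Subgroup.centralizer ({k} : Set G) ≤ K) (hab : ∀ a ∈ K, ∀ b ∈ K, a * b = b * a) : (Nat.card {χ : Cfsg.IrrCharacter (Subgroup.normalizer (K : Set G)) // ∃ k : Subgroup.normalizer (K : Set G), (k : G) ∈ K ∧ (χ : ↥(Subgroup.normalizer (K : Set G)) → ℂ) k ≠ (χ : ↥(Subgroup.normalizer (K : Set G)) → ℂ) 1} = 1 ∧ ∃ p : ℕ, p.Prime ∧ Cfsg.IsElementaryAbelian p K ∧ Nat.card K = (K.subgroupOf (Subgroup.normalizer (K : Set G))).index + 1) ∨ ∃ (ε : ℂ) (f : {χ : Cfsg.IrrCharacter (Subgroup.normalizer (K : Set G)) // ∃ k : Subgroup.normalizer (K : Set G), (k : G) ∈ K ∧ (χ : ↥(Subgroup.normalizer (K : Set G)) → ℂ) k ≠ (χ : ↥(Subgroup.normalizer (K : Set G)) → ℂ) 1}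 → Cfsg.IrrCharacter G), (ε = 1 ∨ ε = -1) ∧ Function.Injective f ∧ ∀ χ ξ, Cfsg.indFun (Subgroup.normalizer (K : Set G)) ((χ.1 : ↥(Subgroup.normalizer (K : Set G)) → ℂ) - (ξ.1 : ↥(Subgroup.normalizer (K : Set G)) → ℂ)) = ε • ((f χ : G → ℂ) - (f ξ : G → ℂ)) := by
  right
  have : Fintype ↥𝒩(K) := Fintype.ofFinite _
  rcases isEmpty_or_nonempty {χ : IrrCharacter ↥𝒩(K) // ∃ k : ↥𝒩(K), (k : G) ∈ K ∧
    (χ : ↥𝒩(K) → ℂ) k ≠ (χ : ↥𝒩(K) → ℂ) 1} with hE | ⟨⟨χ₀⟩⟩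
  · exact ⟨1, isEmptyElim, Or.inl rfl, fun a => isEmptyElim a, fun a => isEmptyElim a⟩
  have mem : ∀ χ : {χ : IrrCharacter ↥𝒩(K) // ∃ k : ↥𝒩(K), (k : G) ∈ K ∧
    (χ : ↥𝒩(K) → ℂ) k ≠ (χ : ↥𝒩(K) → ℂ) 1}, χ.1.1 ∈ H30.relSet 𝒩(K) K := fun χ => ⟨χ.1.2, χ.2⟩
  have hK := H30.ne_bot_of_relSet (mem χ₀)
  have hF := H53.frobKer_of_cent hK hlt hC
  have hdeg : ∀ φ ∈ H30.relSet 𝒩(K) K, φ 1 = K.relIndex 𝒩(K) := fun φ hφ => by
    rw [← H6A.extend_apply_one _ φ]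
    exact H52.seqIndD_one_of_commutator_le hlt.le
      (commutator_eq_bot_iff.2 (le_cent_iff.2 fun a ha b hb => hab b hb a ha)).le
      (H30.extend_mem_seqIndD hF hφ)
  obtain ⟨ν, hν⟩ := H53.irr_uniform (S := H30.relSet 𝒩(K) K) (τ := H6.indLin 𝒩(K))
    (fun χ hχ => hχ.1) (by rw [H30.relSet_eq hF]; exact H53.ti_isometry hlt.le le_rfl hTI)
    H53.indLin_one subset_rfl fun φ hφ ψ hψ => by rw [hdeg φ hφ, hdeg ψ hψ]
  have hsub : ∀ φ ∈ H30.relSet 𝒩(K) K, ∀ ψ ∈ H30.relSet 𝒩(K) K,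
      φ - ψ ∈ zspanOn (H30.relSet 𝒩(K) K) {1}ᶜ := fun φ hφ ψ hψ =>
    H53.mem_zspanOn_one.2 ⟨H53.zspan_sub (H53.mem_zspan_of_mem hφ) (H53.mem_zspan_of_mem hψ), by
      rw [Pi.sub_apply, hdeg φ hφ, hdeg ψ hψ, sub_self]⟩
  have hone : ∀ φ ∈ H30.relSet 𝒩(K) K, ∀ ψ ∈ H30.relSet 𝒩(K) K, ν φ 1 = ν ψ 1 := by
    intro φ hφ ψ hψ
    have h1 := H53.indLin_one _ (hsub φ hφ ψ hψ)
    rwa [← hν.agree _ (hsub φ hφ ψ hψ), map_sub, Pi.sub_apply, sub_eq_zero] at h1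
  have hdot : ∀ φ ∈ H30.relSet 𝒩(K) K, ∀ ψ ∈ H30.relSet 𝒩(K) K, dot ⊤ (ν φ) (ν ψ) = dot ⊤ φ ψ :=
    fun φ hφ ψ hψ => by rw [H52.dot_top, H52.dot_top, hν.isom φ hφ ψ hψ]
  have hd : ∀ φ ∈ H30.relSet 𝒩(K) K, IsDirr ⊤ (ν φ) := fun φ hφ =>
    H52.dirr_of_dot_one (H52.mem_vchar_top.2 (hν.virt φ hφ))
      (by rw [hdot φ hφ φ hφ, H52.dot_irr_self (H52.mem_irr_top.2 hφ.1)])
  obtain ⟨ε, hε, θ, hθ, e⟩ := H52.dirr_exists_sign (hd _ (mem χ₀))
  have hε2 : (ε : ℂ) * ε = 1 := by rcases hε with rfl | rfl <;> simp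
  have hirr : ∀ φ ∈ H30.relSet 𝒩(K) K, IsIrrCharacter G ((ε : ℂ) • ν φ) := fun φ hφ =>
    H52.mem_irr_top.1 (H52.irr_of_dirr (H52.dirr_sign_smul hε (hd φ hφ)) (by
      rw [Pi.smul_apply, hone φ hφ _ (mem χ₀), e, Pi.smul_apply, smul_smul, hε2, one_smul]
      exact (H52.irr_one_re_pos hθ).le))
  refine ⟨ε, fun χ => ⟨_, hirr _ (mem χ)⟩, by rcases hε with rfl | rfl <;> simp,
    fun χ ξ h => ?_, fun χ ξ => ?_⟩
  · have h1 : ν χ.1.1 = ν ξ.1.1 :=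
      smul_right_injective _ (left_ne_zero_of_mul_eq_one hε2) (congrArg Subtype.val h)
    refine Subtype.ext (Subtype.ext (H52.eq_of_dot_irr_ne_zero (H52.mem_irr_top.2 χ.1.2)
      (H52.mem_irr_top.2 ξ.1.2) ?_))
    rw [← hdot _ (mem χ) _ (mem ξ), h1, H52.dot_dirr_self (hd _ (mem ξ))]
    exact one_ne_zero
  · rw [← smul_sub, smul_smul, hε2, one_smul, ← map_sub, hν.agree _ (hsub _ (mem χ) _ (mem ξ))]
    rfl

end Cfsg.Agent.S0851
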