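import Cfsg.Statements.S0994
import Cfsg.Agent.H35.Simple

set_option autoImplicit false
open Cfsg

namespace Cfsg.Agent.S0994

/-- No finite simple group has order 1188 = 2^2 * 3^3 * 11. -/
theorem result {G : Type*} [Group G] [Finite G] [IsSimpleGroup G] : Nat.card G ≠ 1188 := by
  intro h
  have : Fact (Nat.Prime 11) := ⟨by decide⟩
  obtain ⟨n, e, -, h1, h2, h3, h4, h5⟩ :=
    H35.simple_prime_sylow (G := G) (p := 11) (m := 108) h (by norm_num) (by norm_num)
  have hn : n ≤ 108 := Nat.le_of_dvd (by norm_num) (dvd_of_mul_right_dvd h5)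
  have he : e ≤ 10 := Nat.le_of_dvd (by norm_num) h4
  have key : ∀ n < 109, ∀ e < 11, ¬ (n % 11 = 1 ∧ n ≠ 1 ∧ e ≠ 1 ∧ e ∣ 11 - 1 ∧ n * e ∣ 108) := by
    decide +kernel
  exact key n (by omega) e (by omega) ⟨h1, h2, h3, h4, h5⟩

end Cfsg.Agent.S0994
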