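import Cfsg.Statements.S0997
import Cfsg.Agent.H35.Num
import Cfsg.Agent.H35.B43

set_option autoImplicit false
open Cfsg

namespace Cfsg.Agent.S0997

open Subgroup H35

theorem arithA {p e t α β U : ℕ} (ht : t * e + 1 = p) (h2 : 2 ≤ t) (h3 : α + β + 1 = e)
    (h4 : α ≤ U) (h5 : β ≤ U) (h6 : 1 + U * p + α ≤ e ^ 2) (he : e ≠ 1) :
    t = 2 ∧ α = U ∧ β = U := by
  subst ht
  have h7 : 2 * U < e := by
    by_contra! h
    nlinarith [Nat.mul_le_mul h2 (le_refl (U * e)), Nat.mul_le_mul_right e h]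
  obtain rfl : α = U := by omega
  obtain rfl : α = β := by omega
  subst h3
  refine ⟨le_antisymm ?_ h2, rfl, rfl⟩
  by_contra! h
  have : 0 < α := by omega
  nlinarith [Nat.mul_le_mul h (le_refl (α * (α + α + 1)))]

theorem arithB {e α β U : ℕ} (h8 : 8 ≤ e) (h3 : α + β + 1 = e) (h4 : α ≤ U)
    (h6 : (U + 1) * (2 * e + 1) ≤ (e + 1) ^ 2 + β) : U + 1 < 2 * β := by
  by_contra! h
  have : 2 * e ≤ 3 * (U + 1) := by omega
  nlinarith [Nat.mul_le_mul_right e this]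

theorem pow_eq {p a j b : ℕ} (ha : a = 2 ^ j) (h1 : a ≤ 2 ^ b) (h2 : 2 ^ b ≡ a [MOD p])
    (h3 : Nat.Coprime p a) (h4 : 2 ^ b < a * (p + 1)) : 2 ^ b = a := by
  obtain ⟨m, hm⟩ : a ∣ 2 ^ b := ha ▸ pow_dvd_pow 2 ((Nat.pow_le_pow_iff_right one_lt_two).mp (ha ▸ h1))
  rw [hm] at h2 h4 ⊢
  have h5 : m ≡ 1 [MOD p] := Nat.ModEq.cancel_left_of_coprime h3 (by simpa using h2)
  have h6 := Nat.lt_of_mul_lt_mul_left h4
  have h7 : m ≠ 0 := by rintro rfl; simp at hm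
  have h8 := (Nat.modEq_iff_dvd' (by omega)).mp h5.symm
  rw [show m = 1 by have := Nat.eq_zero_of_dvd_of_lt h8; omega, mul_one]

theorem core {G : Type*} [Group G] [Finite G] [IsSimpleGroup G] (hG : ¬ IsCyclic G) (p q b g₀ : ℕ)
    [hp : Fact p.Prime] (hq : q.Prime) (hpq : p ≠ q) (hG' : Nat.card G = p * (q ^ b * g₀))
    (hg : g₀ < p - 1) (hqg : ¬ q ∣ g₀) :
    (∃ m, (p = 2 ^ m + 1 ∨ p = 2 ^ m - 1) ∧
      Nonempty (G ≃* Matrix.ProjectiveSpecialLinearGroup (Fin 2) (ZMod p))) ∨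
    (∃ (m : ℕ) (F : Type) (_ : Field F) (_ : Fintype F), Fintype.card F = 2 ^ m ∧ p = 2 ^ m + 1 ∧
      3 < p ∧ Nonempty (G ≃* Matrix.ProjectiveSpecialLinearGroup (Fin 2) F)) := by
  classical
  have hg0 : 0 < g₀ := Nat.pos_of_ne_zero fun e => hqg (e ▸ dvd_zero q)
  obtain ⟨S, B, φ, hB, hφ, hP, hZ, hN1, hN, he1, hep, hm⟩ := simple_setup p _ hG' (fun h =>
    (hp.out.dvd_mul.mp h).elim (fun h => hpq ((Nat.prime_dvd_prime_iff_eq hp.out hq).mp
      (hp.out.dvd_of_dvd_pow h))) (Nat.not_dvd_of_pos_of_lt hg0 (by omega)))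
    fun h => hG (isCyclic_of_prime_card (p := p) (by rw [hG', h, mul_one]))
  have hd : ∀ d, d ∣ S.V.index * Nat.card (Sylow p G) → ¬ q ∣ d → d ∣ g₀ := fun d h1 h2 =>
    (((Nat.Prime.coprime_iff_not_dvd hq).mpr h2).symm.pow_right b).dvd_of_dvd_mul_left
      (hm ▸ mul_assoc (Nat.card S.V) _ _ ▸ h1.mul_left _)
  have hX : ∀ χ ∈ B.X, χ ≠ triv G → p - 1 ≤ charDegree (χ : G → ℂ) ∧
      charDegree (χ : G → ℂ) ∣ S.V.index * Nat.card (Sylow p G) := fun χ hχ h1 => by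
    obtain ⟨u, h2, h3⟩ := B.exists_u hχ (two_le_degree hP h1)
    have := B.δ_sign χ hχ
    have : (1 : ℤ) * p ≤ u * p := by gcongr; exact_mod_cast h2
    exact ⟨by omega, S.index_centralizer ▸ B.degX_dvd hχ⟩
  have h1 : ∀ χ ∈ B.X, χ ≠ triv G → q ∣ charDegree (χ : G → ℂ) := fun χ hχ h1 => by
    by_contra h
    have := Nat.le_of_dvd hg0 (hd _ (hX χ hχ h1).2 h)
    have := (hX χ hχ h1).1
    omega
  obtain ⟨t1, t2, t3, -⟩ := B.numY hB hP hφ
  have t4 := B.degree_eq' hB hφ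
  have t5 : (q : ℤ) ∣ B.ε * charDegree (φ : G → ℂ) - 1 := by
    rw [t4, add_sub_cancel_left]
    exact Finset.dvd_sum fun χ hχ => Dvd.dvd.mul_left (Int.natCast_dvd_natCast.mpr
      (h1 χ (Finset.mem_erase.mp hχ).2 (Finset.mem_erase.mp hχ).1)) _
  have t6 := hd _ t2 fun h => hq.not_dvd_one (Int.natCast_dvd_natCast.mp
    ((dvd_sub_right (Dvd.dvd.mul_left (Int.natCast_dvd_natCast.mpr h) _)).mp t5))
  have t7 := Nat.le_of_dvd hg0 t6
  have hV : Nat.card S.V = 1 := card_eq_one.mpr (eq_bot_iff.mpr fun v hv => Subtype.ext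
    (simple_faithful (B.ne_triv_of_mem_Y hB hφ) _ (B.apply_V (Or.inr hφ) (by omega) ⟨v, hv⟩)))
  rw [hV, one_mul] at hm
  have hN2 : p + 1 ≤ Nat.card (Sylow p G) := by
    have := Nat.div_add_mod (Nat.card (Sylow p G)) p
    rcases Nat.eq_zero_or_pos (Nat.card (Sylow p G) / p) with h | h
    · rw [h] at this; omega
    · have := Nat.mul_le_mul_left p h
      omega
  have hb0 : b ≠ 0 := by
    rintro rfl
    have := Nat.le_of_dvd hg0 ⟨S.V.index, by rw [mul_comm, hm]; simp⟩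
    omega
  have hel := lt_of_dvd_pred hep
  have he0 : S.V.index ≠ 0 := index_ne_zero_of_finite
  obtain ⟨α, β, U, V, n1, n2, n3, n4, n5, n6, n7, n8⟩ := B.num_data hB hP hφ
  replace n7 := fun _ : Unit => n7
  replace n8 := fun _ : Unit => n8
  have hUV := uv_cases t3 (t7.trans_lt (hg.trans_le (Nat.sub_le _ _))) hel he0 n4
  have hne : S.V.index ≠ p - 1 := by clear n5 n6; omega
  have hM := B.sum_sign_le' hne hφ
  replace n5 := n5 ▸ hM 1
  replace n6 := n6 ▸ Nat.add_le_add_right (hM (-1)) β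
  have hbt := fun χ hχ hχ1 j => B.bt_bound hB hZ hM hq hpq.symm (hV ▸ hq.not_dvd_one)
    (hG' ▸ (dvd_mul_right _ _).mul_left p) hb0 h1 (χ := χ) hχ hχ1 (j := j)
  clear hM
  obtain ⟨t, ht⟩ := hep
  have ht2 : 2 ≤ t := by
    rcases t with _ | _ | t <;> omega
  have htp : t * S.V.index + 1 = p := by rw [mul_comm]; omega
  rcases hUV with ⟨a1, rfl, a3⟩ | ⟨a1, rfl, a3⟩
  · obtain ⟨rfl, rfl, rfl⟩ := arithA htp ht2 n1 n2 n3 (a3 ▸ n5) he1
    obtain ⟨χ, c1, c2, -, c3⟩ := n7 () (by omega)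
    obtain ⟨ψ, d1, d2, -, d3⟩ := n8 () (by omega)
    obtain rfl : q = 2 := (Nat.prime_dvd_prime_iff_eq hq Nat.prime_two).mp (by
      have := Nat.dvd_sub (h1 χ c1 c2) (h1 ψ d1 d2)
      rwa [c3, d3, show p + 1 - (p - 1) = 2 by omega] at this)
    obtain rfl : g₀ = S.V.index := Nat.eq_of_dvd_of_lt_two_mul hg0.ne' (a3 ▸ t6) (by omega)
    have hN3 := Nat.eq_of_mul_eq_mul_left (Nat.pos_of_ne_zero he0) (hm.trans (mul_comm _ _))
    obtain ⟨j, -, hj⟩ := (Nat.dvd_prime_pow hq).mp (show p + 1 ∣ 2 ^ b from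
      Nat.Coprime.dvd_of_dvd_mul_left (by
        rw [show p + 1 = 2 * (S.V.index + 1) by omega]
        exact Nat.Coprime.mul_left ((Nat.Prime.coprime_iff_not_dvd hq).mpr hqg) (by simp))
        (c3 ▸ hN3 ▸ (hX χ c1 c2).2))
    have h2 := hbt χ c1 c2 j (c3.trans hj)
    have h3 := pow_eq hj (hN3 ▸ hN2) (by
      rw [← hN3, Nat.ModEq, hN1, Nat.add_mod_left, Nat.mod_eq_of_lt hp.out.one_lt]) (by simp)
      (h2.trans_lt (by rw [pow_two]; exact Nat.mul_lt_mul'' (by omega) (by omega)))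
    exact Or.inl ⟨j, Or.inr (by omega), (S.psl2_of hP hV (by omega) he1 (hN3.trans h3)).2⟩
  have hte : 2 * S.V.index + 1 ≤ p := by
    have := Nat.mul_le_mul_right S.V.index ht2
    omega
  obtain rfl : g₀ = charDegree (φ : G → ℂ) := Nat.eq_of_dvd_of_lt_two_mul hg0.ne' t6 (by omega)
  have hcop : Nat.Coprime p S.V.index := (Nat.coprime_of_lt_prime he0 hel hp.out)
  obtain ⟨c, -, hc⟩ := (Nat.dvd_prime_pow hq).mp (show S.V.index ∣ q ^ b from
    Nat.Coprime.dvd_of_dvd_mul_right 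
      (Nat.coprime_add_self_left.mp (by rwa [a3])).symm (hm ▸ dvd_mul_right _ _))
  have hc0 : c ≠ 0 := by rintro rfl; exact he1 hc
  obtain rfl : q = 2 := (Nat.prime_dvd_prime_iff_eq hq Nat.prime_two).mp (by
    have u1 : q ∣ S.V.index := hc ▸ dvd_pow_self q hc0
    have u2 : q ∣ charDegree (φ : G → ℂ) + 1 := by
      rw [a1] at t5
      rw [neg_one_mul, ← neg_add', dvd_neg] at t5
      exact_mod_cast t5
    have := Nat.dvd_sub (u2.add u1) (u1.mul_right t)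
    rwa [show charDegree (φ : G → ℂ) + 1 + S.V.index - S.V.index * t = 2 by omega] at this)
  obtain ⟨χ, c1, c2, j, c3, hj⟩ : ∃ χ ∈ B.X, χ ≠ triv G ∧ ∃ j, charDegree (χ : G → ℂ) = p - 1 ∧
      p - 1 = 2 ^ j := by
    by_cases h2 : S.V.index = 2
    · have u1 := B.card_erase hB
      rw [h2] at u1
      obtain ⟨χ, hχ⟩ := Finset.card_eq_one.mp u1
      obtain ⟨c2, c1⟩ := Finset.mem_erase.mp (hχ ▸ Finset.mem_singleton_self χ)
      rw [hχ, Finset.sum_singleton, a1] at t4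
      have c3 : charDegree (χ : G → ℂ) = p - 1 := by
        rcases B.δ_sign χ c1 with e | e <;> rw [e] at t4 <;> omega
      obtain ⟨j, -, hj⟩ := (Nat.dvd_prime_pow hq).mp (show p - 1 ∣ 2 ^ b from
        Nat.Coprime.dvd_of_dvd_mul_right (by
          rw [show p - 1 = charDegree (φ : G → ℂ) + 1 by omega]; simp) (c3 ▸ hm ▸ (hX χ c1 c2).2))
      exact ⟨χ, c1, c2, j, c3, hj⟩
    obtain ⟨c, rfl⟩ : ∃ d, c = d + 2 := ⟨c - 2, by
      have : c ≠ 1 := by rintro rfl; exact h2 hc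
      omega⟩
    obtain ⟨χ, hχ, u1⟩ : ∃ χ ∈ B.X.erase (triv G), ¬ 4 ∣ charDegree (χ : G → ℂ) := by
      by_contra! h
      have u1 : (4 : ℤ) ∣ B.ε * charDegree (φ : G → ℂ) - 1 := by
        rw [t4, add_sub_cancel_left]
        exact Finset.dvd_sum fun χ hχ => Dvd.dvd.mul_left (by exact_mod_cast h χ hχ) _
      have u2 : 4 ∣ S.V.index := ⟨2 ^ c, by rw [hc]; ring⟩
      have u3 := u2.mul_right t
      rw [a1] at u1
      omega
    obtain ⟨c2, c1⟩ := Finset.mem_erase.mp hχ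
    obtain ⟨d, hd'⟩ := h1 χ c1 c2
    obtain ⟨u2, u3⟩ := hX χ c1 c2
    have hk := hd d ((Dvd.intro_left _ hd'.symm).trans u3) fun h => u1 (by omega)
    obtain ⟨u, u4, u5⟩ := B.exists_u c1 (two_le_degree hP c2)
    replace hk := Nat.eq_of_dvd_of_lt_two_mul hg0.ne' hk (by omega)
    have u7 : u = 1 := by
      by_contra h
      have : (2 : ℤ) * p ≤ u * p := by gcongr; omega
      have := B.δ_sign χ c1
      omega
    have u8 : p = 2 * S.V.index + 1 := by
      have := B.δ_sign χ c1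
      rw [u7] at u5
      omega
    have u9 : 8 ≤ S.V.index := by
      rcases c with _ | c
      · rw [u8, hc] at hp
        exact absurd hp.out (by norm_num)
      · rw [hc]; exact Nat.pow_le_pow_right (i := 3) two_pos (by omega)
    obtain ⟨ψ, d1, d2, -, d3⟩ := n8 () (arithB u9 n1 n2 (by
      rwa [← u8, show S.V.index + 1 = charDegree (φ : G → ℂ) by omega]))
    exact ⟨ψ, d1, d2, c + 3, d3, by rw [u8, hc]; ring_nf; omega⟩
  have h2 := hbt χ c1 c2 j (c3.trans hj)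
  have h3 : p ∣ 2 ^ b + 1 := by
    refine hcop.dvd_of_dvd_mul_left ((Nat.dvd_add_right (b := 2 ^ b * charDegree (φ : G → ℂ) -
      S.V.index) ?_).mp ?_)
    · rw [← hm, ← Nat.mul_sub_one]
      exact ((Nat.modEq_iff_dvd' (by omega)).mp (hN1.trans (Nat.mod_eq_of_lt hp.out.one_lt).symm
        ).symm).mul_left _
    · have : S.V.index ≤ 2 ^ b * charDegree (φ : G → ℂ) := hm ▸ Nat.le_mul_of_pos_right _ (by omega)
      exact ⟨2 ^ b, by zify [this] at a3 ⊢; rw [← a3]; ring⟩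
  have h4 := pow_eq hj (by have := Nat.le_of_dvd (by positivity) h3; omega)
    (Nat.ModEq.add_right_cancel' 1 (by
      rw [show p - 1 + 1 = p by omega]
      exact (Nat.modEq_zero_iff_dvd.mpr h3).trans (Nat.modEq_zero_iff_dvd.mpr dvd_rfl).symm)) (by
      rw [Nat.coprime_self_sub_right (by omega)]; simp)
    (h2.trans_lt (by rw [pow_two]; exact Nat.mul_lt_mul'' (by omega) (by omega)))
  have h7 : p = 2 ^ j + 1 := by omega
  obtain ⟨h5, h6⟩ := S.brauer43_core hP ((Normal.eq_bot_or_eq_top inferInstance).resolve_right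
    fun h => Setup.not_dvd_core (G := G) (p := p) (by rw [h, card_top, hG']; simp))
    (S.not_bForm_of_lt_cube hP (by
      rw [hG', h4, pow_succ', pow_two]
      exact Nat.mul_lt_mul_of_pos_left (Nat.mul_lt_mul'' (by omega) (by omega)) hp.out.pos))
  exact h6.imp (fun h => ⟨j, Or.inl h7, h.2⟩)
    fun ⟨_, m, F, _, _, a, b, c⟩ => ⟨m, F, _, _, a, b, h5, c⟩


/-- Let G be a non-cyclic finite simple group of order p * q^b * g₀, where p and q are distinct primes and g₀ < p - 1. Then either p has the form 2^m + 1 or 2^m - 1 and G is isomorphic to the projective special linear group of dimension 2 over the field with p elements, or p = 2^m + 1 > 3 and G is isomorphic to that group over the field with 2^m elements. -/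
theorem result {G : Type*} [Group G] [Finite G] [IsSimpleGroup G] (hG : ¬ IsCyclic G) (p q b g₀ : ℕ) (hp : p.Prime) (hq : q.Prime) (hpq : p ≠ q) (hG' : Nat.card G = p * q ^ b * g₀) (hg : g₀ < p - 1) : (∃ (m : ℕ) (F : Type) (_ : Field F) (_ : Fintype F), Fintype.card F = p ∧ (p = 2 ^ m + 1 ∨ p = 2 ^ m - 1) ∧ Nonempty (G ≃* Matrix.ProjectiveSpecialLinearGroup (Fin 2) F)) ∨ (∃ (m : ℕ) (F : Type) (_ : Field F) (_ : Fintype F), Fintype.card F = 2 ^ m ∧ p = 2 ^ m + 1 ∧ 3 < p ∧ Nonempty (G ≃* Matrix.ProjectiveSpecialLinearGroup (Fin 2) F)) := by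
  have : Fact p.Prime := ⟨hp⟩
  have h0 : g₀ ≠ 0 := by rintro rfl; exact Nat.card_pos.ne' hG'
  obtain ⟨c, g, h1, rfl⟩ := Nat.exists_eq_pow_mul_and_not_dvd h0 q hq.ne_one
  exact (core hG p q (b + c) g hq hpq (by rw [hG']; ring)
    ((Nat.le_mul_of_pos_left _ (pow_pos hq.pos c)).trans_lt hg) h1).imp
    (fun ⟨m, a, b⟩ => ⟨m, ZMod p, _, _, ZMod.card p, a, b⟩) id

end Cfsg.Agent.S0997
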