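import Cfsg.Statements.S1011
import Cfsg.Agent.H36.Char2

set_option autoImplicit false
open Cfsg

namespace Cfsg.Agent.S1011

open MulAction Subgroup H36

theorem seven {G : Type*} [Group G] [Finite G] [IsSimpleGroup G] (hG : Nat.card G = 504)
    [Fact (Nat.Prime 7)] : Nat.card (Sylow 7 G) = 36 ∧ ∀ P : Sylow 7 G,
      Nat.card (centralizer (P : Set G)) = 7 ∧ Nat.card (normalizer (P : Set G)) = 14 := by
  have hperf : commutator G = ⊤ := commutator_eq_top_of_simple (by rw [hG]; norm_num)
  have key : ∀ P : Sylow 7 G, Nat.card (Sylow 7 G) = 36 ∧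
      Nat.card (centralizer (P : Set G)) = 7 ∧ Nat.card (normalizer (P : Set G)) = 14 := by
    intro P
    have hP := card_sylow_eq_prime P (m := 72) hG (by norm_num)
    have h1 := card_sylow_dvd P (m := 72) (by rw [hP, hG])
    have h2 := card_sylow_mod (p := 7) (G := G)
    have h3 := card_sylow_ne_one P (by rw [hP]; norm_num) (by rw [hP, hG]; norm_num)
    have hF := faithful_sylow h3
    obtain ⟨e, c, he, he1, hC, hNe⟩ := exists_card_normalizer_eq hperf P hP
    have hN := card_sylow_mul_card_normalizer P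
    have he' : e = 2 ∨ e = 3 ∨ e = 6 := by
      have := Nat.le_of_dvd (by norm_num) he
      interval_cases e <;> simp_all
    have hn : ∀ n ∈ Nat.divisors 72, n % 7 = 1 → n ≠ 1 → n = 8 ∨ n = 36 := by
      decide +kernel
    rw [hNe, hG] at hN
    rcases hn _ (Nat.mem_divisors.2 ⟨h1, by norm_num⟩) h2 h3 with nP | nP
    · exfalso
      rw [nP] at hN
      have hc : c = 3 := by rcases he' with rfl | rfl | rfl <;> omega
      obtain ⟨t, ht, ht3⟩ := exists_orderOf_eq_of_dvd (centralizer (P : Set G)) Nat.prime_three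
        (by rw [hC]; omega)
      have a1 := card_fixedBy_sylow_mod P hP ht
      have a2 := card_modEq_card_fixedBy_prime (X := Sylow 7 G) Nat.prime_three t ht3
      have a3 := card_fixedBy_lt (X := Sylow 7 G) (ne_one_of_orderOf_prime Nat.prime_three ht3)
      rw [nP] at a2 a3
      unfold Nat.ModEq at a2
      omega
    · rw [nP] at hN
      have hc : c = 1 := by rcases he' with rfl | rfl | rfl <;> omega
      rw [hC, hNe]
      omega
  exact ⟨(key default).1, fun P => (key P).2⟩

theorem three {G : Type*} [Group G] [Finite G] [IsSimpleGroup G] (hG : Nat.card G = 504)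
    [Fact (Nat.Prime 3)] : Nat.card (Sylow 3 G) = 28 ∧ ∀ (P : Sylow 3 G) (x : G),
      x ∈ (P : Subgroup G) → x ≠ 1 → centralizer ({x} : Set G) = P := by
  have h7 : Fact (Nat.Prime 7) := ⟨by norm_num⟩
  have hperf : commutator G = ⊤ := commutator_eq_top_of_simple (by rw [hG]; norm_num)
  have nP : Nat.card (Sylow 3 G) = 28 := by
    obtain ⟨P⟩ : Nonempty (Sylow 3 G) := inferInstance
    have hP := card_sylow_eq P (k := 2) (m := 56) hG (by norm_num)
    have h1 := card_sylow_dvd P (m := 56) (by rw [hP, hG]; norm_num)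
    have h2 := card_sylow_mod (p := 3) (G := G)
    have h3 := card_lt_card_sylow_of_simple P (mul_comm_of_card_prime_sq hP)
      (by rw [hP]; norm_num) (by rw [hP, hG]; norm_num)
    have h4 := Nat.le_of_dvd (by norm_num) h1
    rw [hP] at h3
    generalize Nat.card (Sylow 3 G) = n at *
    interval_cases n <;> simp_all
  refine ⟨nP, fun P x hx hx1 => ?_⟩
  have hP := card_sylow_eq P (k := 2) (m := 56) hG (by norm_num)
  have hab := mul_comm_of_card_prime_sq hP
  have hN : Nat.card (normalizer (P : Set G)) = 18 := by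
    have := card_sylow_mul_card_normalizer P
    rw [nP, hG] at this
    omega
  have hi : (P : Subgroup G).relIndex (normalizer (P : Set G)) = 2 := by
    have := relIndex_mul_card (show (P : Subgroup G) ≤ normalizer (P : Set G) from le_normalizer)
    rw [hP, hN] at this
    omega
  have hPC : (P : Subgroup G) ≤ centralizer ({x} : Set G) := fun a ha =>
    mem_centralizer_singleton_iff.2 (hab a ha x hx)
  -- elements of `N(P) \ P` invert `P`
  have inv : ∀ t ∈ normalizer (P : Set G), t ∉ (P : Subgroup G) → t * x * t⁻¹ = x⁻¹ := by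
    intro t ht htP
    have h2 : ∀ n ∈ normalizer (P : Set G), n ∉ (P : Subgroup G) → t⁻¹ * n ∈ (P : Subgroup G) := by
      intro n hn hnP
      have := (mul_mem_iff_of_index_two hi (a := ⟨t⁻¹, inv_mem ht⟩) (b := ⟨n, hn⟩)).2
        (iff_of_false (fun h => htP (inv_mem_iff.1 h)) hnP)
      exact this
    have hy : t * x * t⁻¹ ∈ (P : Subgroup G) := (mem_normalizer_iff.1 ht x).1 hx
    have htt : t * t ∈ (P : Subgroup G) := by
      have := h2 t⁻¹ (inv_mem ht) (fun h => htP (inv_mem_iff.1 h))
      simpa using inv_mem this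
    have h3 : t * (x * (t * x * t⁻¹)) = x * (t * x * t⁻¹) * t := by
      calc t * (x * (t * x * t⁻¹)) = (t * x * t⁻¹) * (t * t * x) * t⁻¹ := by group
        _ = (t * x * t⁻¹) * x * (t * t) * t⁻¹ := by rw [hab _ htt x hx]; group
        _ = _ := by rw [hab _ hy x hx]; group
    have := eq_one_of_centralizes_normalizer hperf P hab (mul_mem hx hy) fun n hn => by
      by_cases hnP : n ∈ (P : Subgroup G)
      · exact hab _ hnP _ (mul_mem hx hy)
      · have h4 := hab _ (h2 n hn hnP) _ (mul_mem hx hy)
        calc n * (x * (t * x * t⁻¹)) = t * (t⁻¹ * n * (x * (t * x * t⁻¹))) := by group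
          _ = t * (x * (t * x * t⁻¹)) * (t⁻¹ * n) := by rw [h4]; group
          _ = _ := by rw [h3]; group
    exact eq_inv_of_mul_eq_one_right this
  set M := normalizer (zpowers x : Set G) with hM
  have hCM : centralizer ({x} : Set G) ≤ M := by
    rw [← centralizer_zpowers]
    exact centralizer_le_normalizer _
  have hNM : normalizer (P : Set G) ≤ M := by
    intro n hn
    by_cases hnP : n ∈ (P : Subgroup G)
    · exact hCM (hPC hnP)
    · refine H4.mem_normalizer_of_conj_mem ?_
      rintro _ ⟨k, rfl⟩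
      change n * x ^ k * n⁻¹ ∈ _
      rw [← conj_zpow, inv n hn hnP]
      exact zpow_mem (inv_mem (mem_zpowers x)) k
  have hMtop : M ≠ ⊤ := by
    intro h
    rcases (normalizer_eq_top_iff.1 h).eq_bot_or_eq_top with h1 | h1
    · exact hx1 (zpowers_eq_bot.1 h1)
    · have := card_le_of_le (zpowers_le.2 hx)
      rw [h1, card_top, hG, hP] at this
      omega
  obtain ⟨a, ha, hMa⟩ := exists_card_eq_mul_card_inf_normalizer P (hPC.trans hCM)
  rw [inf_eq_right.2 hNM, hN] at hMa
  have hMi := M.card_mul_index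
  have hM7 := prime_le_index hMtop h7.out (by rw [hG]; norm_num)
  rw [← hMa, hG] at hMi
  have ha' : a = 1 ∨ a = 4 := by
    have : a ≤ 4 := by nlinarith
    interval_cases a <;> omega
  rcases ha' with rfl | rfl
  · have h1 : normalizer (P : Set G) = M := eq_of_le_of_card_ge hNM (by omega)
    refine le_antisymm (fun c hc => ?_) hPC
    by_contra hcP
    have h2 := inv c (h1 ▸ hCM hc) hcP
    rw [mem_centralizer_singleton_iff.1 hc, mul_inv_cancel_right] at h2
    have h3 : orderOf x ∣ 2 := orderOf_dvd_of_pow_eq_one (by rw [sq]; nth_rw 1 [h2]; simp)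
    have h4 := (P : Subgroup G).orderOf_dvd_natCard hx
    rw [hP] at h4
    exact hx1 (orderOf_eq_one_iff.1 (Nat.eq_one_of_dvd_coprimes (by norm_num) h3 h4))
  · exfalso
    have hMi' : Nat.card (G ⧸ M) = 7 := by rw [← index_eq_card]; omega
    have hF := faithful_quotient_of_simple hMtop
    obtain ⟨R⟩ : Nonempty (Sylow 7 G) := inferInstance
    obtain ⟨-, h⟩ := seven hG
    obtain ⟨hC, hN⟩ := h R
    have hR := card_sylow_eq_prime R (m := 72) hG (by norm_num)
    obtain ⟨t, ht, ht2⟩ := exists_orderOf_eq_of_dvd (normalizer (R : Set G)) Nat.prime_two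
      (by rw [hN]; norm_num)
    have htC : t ∉ centralizer (R : Set G) := fun h => by
      have := (centralizer (R : Set G)).orderOf_dvd_natCard h
      rw [ht2, hC] at this
      norm_num at this
    have b1 := card_fixedBy_mul_le (X := G ⧸ M) hR 0 (fun h hh h1 => by
      have a2 := card_modEq_card_fixedBy_prime (X := G ⧸ M) h7.out h
        (orderOf_eq_of_mem_prime hR hh h1)
      have a3 := card_fixedBy_lt (X := G ⧸ M) h1
      rw [hMi'] at a2 a3
      unfold Nat.ModEq at a2
      omega) ht htC
    have b2 := card_modEq_four (X := G ⧸ M) hperf (t := t) (by rw [← ht2, pow_orderOf_eq_one])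
    rw [hMi'] at b1 b2
    unfold Nat.ModEq at b2
    omega


/-- A simple group of order 504 is isomorphic to the projective special linear group of dimension 2 over the field with 8 elements. -/
theorem result {G : Type*} [Group G] [Finite G] [IsSimpleGroup G] (h : Nat.card G = 504) {F : Type*} [Field F] [Fintype F] (hF : Fintype.card F = 8) : Nonempty (G ≃* Matrix.ProjectiveSpecialLinearGroup (Fin 2) F) := by
  have h2 : Fact (Nat.Prime 2) := ⟨Nat.prime_two⟩
  have h3 : Fact (Nat.Prime 3) := ⟨Nat.prime_three⟩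
  have h7 : Fact (Nat.Prime 7) := ⟨by norm_num⟩
  obtain ⟨T⟩ : Nonempty (Sylow 2 G) := inferInstance
  obtain ⟨P⟩ : Nonempty (Sylow 3 G) := inferInstance
  obtain ⟨R⟩ : Nonempty (Sylow 7 G) := inferInstance
  have hT : Nat.card T = 8 := card_sylow_eq T (k := 3) (m := 63) h (by norm_num)
  have hP : ∀ Q : Sylow 3 G, Nat.card (Q : Subgroup G) = 9 := fun Q =>
    card_sylow_eq Q (k := 2) (m := 56) h (by norm_num)
  have hR := card_sylow_eq_prime R (m := 72) h (by norm_num)
  obtain ⟨n7, c7⟩ := seven h
  obtain ⟨n3, c3⟩ := three h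
  refine psl_of_count T (m := 63) (by rw [h, hT]) (by norm_num) (by rw [hT]; norm_num)
    (fun t x ht hx hx2 hc => ?_) ?_ (by rw [hF, hT])
  · have a1 : orderOf x ∣ 2 ^ 3 * 3 ^ 2 * 7 := (orderOf_dvd_natCard x).trans (by rw [h]; norm_num)
    have a2 : t ∈ centralizer ({x} : Set G) := mem_centralizer_singleton_iff.2 hc
    have a3 := (centralizer ({x} : Set G)).orderOf_dvd_natCard a2
    rw [ht] at a3
    rcases hx.dvd_mul.1 a1 with a1 | a1
    · rcases hx.dvd_mul.1 a1 with a1 | a1
      · exact hx2 ((Nat.prime_dvd_prime_iff_eq hx h2.out).1 (hx.dvd_of_dvd_pow a1))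
      · have a4 := (Nat.prime_dvd_prime_iff_eq hx h3.out).1 (hx.dvd_of_dvd_pow a1)
        obtain ⟨Q, hQ⟩ := exists_sylow_mem (p := 3) (k := 1) (x := x)
          (by rw [pow_one, ← a4, pow_orderOf_eq_one])
        rw [c3 Q x hQ (ne_one_of_orderOf_prime h3.out a4), hP] at a3
        norm_num at a3
    · have a4 := (Nat.prime_dvd_prime_iff_eq hx h7.out).1 a1
      obtain ⟨Q, hQ⟩ := exists_sylow_eq_zpowers R hR a4
      rw [← centralizer_zpowers, hQ, Q.coe_coe, (c7 Q).1] at a3
      norm_num at a3
  · have a1 := card_orderOf_eq_prime R hR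
    have a2 := card_mem_sylow_of_TI P fun Q S g hg hQ hS =>
      Sylow.ext ((c3 Q g hQ hg).symm.trans (c3 S g hS hg))
    have a3 := card_add_three_le (p := fun g : G => orderOf g = 7)
      (q := fun g : G => g ≠ 1 ∧ ∃ Q : Sylow 3 G, g ∈ (Q : Subgroup G))
      (r := fun g : G => ∃ k : ℕ, g ^ 2 ^ k = 1) ?_ ?_ ?_
    · rw [a1, a2, n7, n3, hP, h] at a3
      omega
    · rintro g hg ⟨-, Q, hQ⟩
      have := (Q : Subgroup G).orderOf_dvd_natCard hQ
      rw [hg, hP] at this
      norm_num at this
    · rintro g hg ⟨k, hk⟩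
      have := orderOf_dvd_of_pow_eq_one hk
      rw [hg] at this
      exact absurd (h7.out.dvd_of_dvd_pow this) (by norm_num)
    · rintro g ⟨hg, Q, hQ⟩ ⟨k, hk⟩
      have b1 := (Q : Subgroup G).orderOf_dvd_natCard hQ
      rw [hP] at b1
      exact hg (orderOf_eq_one_iff.1 (Nat.eq_one_of_dvd_coprimes
        (Nat.Coprime.pow_left k (by norm_num)) (orderOf_dvd_of_pow_eq_one hk) b1))

end Cfsg.Agent.S1011
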