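import Cfsg.Statements.S1132
import Cfsg.Agent.SUZ.Basic

set_option autoImplicit false
open Cfsg

namespace Cfsg.Agent.S1132

/-- In the rank-one set-up (`G` finite and doubly transitive on `Ω`, `t` an involution moving `a`, `Q` normal in `G_a` with `G_a = Q D`, `Q ⊓ D = 1` for the two-point stabiliser `D = G_a ⊓ G_{t • a}`, `|Q|` even, `|D|` odd), with the action faithful and `G` containing two distinct commuting involutions: a Sylow 2-subgroup of `Q` is abelian or a Suzuki 2-group. -/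
theorem result {G Ω : Type*} [Group G] [Finite G] [MulAction G Ω] [FaithfulSMul G Ω] {a : Ω} {t : G} {Q : Subgroup G}
    (hS : Cfsg.IsRankOneSetup G Ω a t Q)
    (h2 : ∃ x y : G, x ≠ 1 ∧ y ≠ 1 ∧ x ≠ y ∧ x * x = 1 ∧ y * y = 1 ∧ x * y = y * x)
    (S : Sylow 2 ↥Q) : IsMulCommutative (S : Subgroup ↥Q) ∨ Cfsg.IsSuzukiTwoGroup ↥(S : Subgroup ↥Q) := by
  have h : SUZ.Hyp G Ω a t Q :=
    ⟨hS, fun g hg => eq_of_smul_eq_smul (α := Ω) (fun c => by rw [hg, one_smul]), h2⟩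
  have : Fact (Nat.Prime 2) := ⟨Nat.prime_two⟩
  have := H41.R1.nilpotent_Q hS h2
  have := Sylow.characteristic_of_normal S inferInstance
  by_cases hc : ∀ x y : (S : Subgroup Q), x * y = y * x
  · exact Or.inl ⟨⟨hc⟩⟩
  push Not at hc
  have hmem : ∀ x : Q, x * x = 1 → x ∈ (S : Subgroup Q) := fun x hx => by
    have hp : IsPGroup 2 (Subgroup.zpowers x) := IsPGroup.of_card_dvd_pow (n := 1) (by
      rw [Nat.card_zpowers, pow_one]
      exact orderOf_dvd_of_pow_eq_one (by rw [pow_two, hx]))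
    obtain ⟨T, hT⟩ := hp.exists_le_sylow
    have := Sylow.unique_of_normal S inferInstance
    rw [Subsingleton.elim S T]
    exact hT (Subgroup.mem_zpowers x)
  let ρ : SUZ.Kg a t →* MulAut (S : Subgroup Q) := (MulAut.characteristic _).comp
    ((H41.R1.conjQ hS).comp (Subgroup.inclusion (h.Kg_le.trans inf_le_left)))
  have hρ : ∀ (k : SUZ.Kg a t) (x : (S : Subgroup Q)), (((ρ k x : (S : Subgroup Q)) : Q) : G) =
      k * x * (k : G)⁻¹ := fun k x => rfl
  have h0 : ∀ x : (S : Subgroup Q), x * x = 1 → ((x : Q) : G) ∈ SUZ.Q0 G a := fun x hx =>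
    h.mem_Q0.2 ⟨x.1.2, congrArg (fun z : (S : Subgroup Q) => ((z : Q) : G)) hx⟩
  have h1 : ∀ x : (S : Subgroup Q), x ≠ 1 → ((x : Q) : G) ≠ 1 := fun x hx e =>
    hx (Subtype.ext (Subtype.ext e))
  have := h.Kg_cyclic
  refine Or.inr ⟨inferInstance, S.isPGroup', hc, ?_, ρ.range,
    isCyclic_of_surjective _ ρ.rangeRestrict_surjective, fun x y hx1 hx hy1 hy => ?_⟩
  · obtain ⟨x, y, hxa, hya, hx1, hy1, hxy, hx, hy, -⟩ := H41.R1.exists_two_invol hS h2
    exact ⟨⟨⟨x, H41.R1.invol_mem_Q hS hxa hx⟩, hmem _ (Subtype.ext hx)⟩,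
      ⟨⟨y, H41.R1.invol_mem_Q hS hya hy⟩, hmem _ (Subtype.ext hy)⟩,
      fun e => hxy (congrArg (fun z : (S : Subgroup Q) => ((z : Q) : G)) e),
      fun e => hx1 (congrArg (fun z : (S : Subgroup Q) => ((z : Q) : G)) e),
      Subtype.ext (Subtype.ext hx),
      fun e => hy1 (congrArg (fun z : (S : Subgroup Q) => ((z : Q) : G)) e),
      Subtype.ext (Subtype.ext hy)⟩
  · obtain ⟨k, hk, e⟩ := h.exists_K_conj (h0 x hx) (h1 x hx1) (h0 y hy) (h1 y hy1)
    refine ⟨⟨_, ⟨k⁻¹, inv_mem hk⟩, rfl⟩, Subtype.ext (Subtype.ext ?_), ?_⟩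
    · rw [← e]
      exact (hρ ⟨k⁻¹, inv_mem hk⟩ x).trans (by simp)
    · rintro ⟨_, l, rfl⟩ hl
      have e2 : (l : G) * x * (l : G)⁻¹ = y :=
        (hρ l x).symm.trans (congrArg (fun z : (S : Subgroup Q) => ((z : Q) : G)) hl)
      have e3 := h.K_eq_of_conj (h0 x hx) (h1 x hx1) (inv_mem l.2) hk (by rw [inv_inv, e2, e])
      have e4 : l = ⟨k⁻¹, inv_mem hk⟩ := Subtype.ext (inv_eq_iff_eq_inv.1 e3)
      subst e4
      rfl

end Cfsg.Agent.S1132
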