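import Cfsg.Statements.S1133
import Cfsg.Agent.SUZ.Basic

set_option autoImplicit false
open Cfsg

namespace Cfsg.Agent.S1133

/-- In the rank-one set-up (`G` finite and doubly transitive on `Ω`, `t` an involution moving `a`, `Q` normal in `G_a` with `G_a = Q D`, `Q ⊓ D = 1` for the two-point stabiliser `D = G_a ⊓ G_{t • a}`, `|Q|` even, `|D|` odd), with the action faithful and `G` containing two distinct commuting involutions, with `V = C_D(t)`, `K` the elements of `D` inverted by `t` and `W = C_V(K)`: `V/W` is cyclic, i.e. `V = W ⟨v⟩` for some `v ∈ V`. -/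
theorem result {G Ω : Type*} [Group G] [Finite G] [MulAction G Ω] [FaithfulSMul G Ω] {a : Ω} {t : G} {Q : Subgroup G}
    (hS : Cfsg.IsRankOneSetup G Ω a t Q)
    (h2 : ∃ x y : G, x ≠ 1 ∧ y ≠ 1 ∧ x ≠ y ∧ x * x = 1 ∧ y * y = 1 ∧ x * y = y * x) :
    ∃ v ∈ (MulAction.stabilizer G a ⊓ MulAction.stabilizer G (t • a)) ⊓ Subgroup.centralizer {t},
      ((MulAction.stabilizer G a ⊓ MulAction.stabilizer G (t • a)) ⊓ Subgroup.centralizer {t} ⊓ Subgroup.centralizer (Cfsg.invertedBy (MulAction.stabilizer G a ⊓ MulAction.stabilizer G (t • a)) t)) ⊔ Subgroup.closure {v} =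
        (MulAction.stabilizer G a ⊓ MulAction.stabilizer G (t • a)) ⊓ Subgroup.centralizer {t} := by
  have h : SUZ.Hyp G Ω a t Q :=
    ⟨hS, fun g hg => eq_of_smul_eq_smul (α := Ω) (fun c => by rw [hg, one_smul]), h2⟩
  have : Fact (Nat.Prime 2) := ⟨Nat.prime_two⟩
  obtain ⟨n, hn, hn0, -⟩ := h.card_Q0
  obtain ⟨s, r, hs⟩ := h.exists_dist
  have := Fintype.ofFinite (GaloisField 2 n)
  obtain ⟨c, κ, φ, hc⟩ := h.exists_coords hs (GaloisField 2 n) (by
    rw [hn0, ← Nat.card_eq_fintype_card, GaloisField.card 2 n (by omega)])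
  let ψ : SUZ.Vg a t →* (GaloisField 2 n ≃ₐ[ZMod 2] GaloisField 2 n) := MonoidHom.mk'
    (fun v => AlgEquiv.ofRingEquiv (f := φ v) (fun x => RingHom.congr_fun (Subsingleton.elim
      ((φ v).toRingHom.comp (algebraMap (ZMod 2) _)) (algebraMap (ZMod 2) _)) x))
    (fun v w => AlgEquiv.ext fun x => by
      show φ (v * w) x = φ v (φ w x)
      rw [hc.φ_mul v v.2 w w.2]; rfl)
  obtain ⟨⟨_, v, rfl⟩, hv⟩ := IsCyclic.exists_generator (α := ψ.range)
  refine ⟨v, v.2, le_antisymm (sup_le inf_le_left ?_) (fun x hx => ?_)⟩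
  · rw [Subgroup.closure_le, Set.singleton_subset_iff]
    exact v.2
  · obtain ⟨i, hi⟩ := hv ⟨_, ⟨x, hx⟩, rfl⟩
    have e : ψ (⟨x, hx⟩ * (v ^ i)⁻¹) = 1 := by
      rw [map_mul, map_inv, map_zpow, mul_inv_eq_one]
      exact (congrArg Subtype.val hi).symm
    have e2 : x * ((v : G) ^ i)⁻¹ ∈ SUZ.Wg a t :=
      (hc.φ_eq_one _ (mul_mem hx (inv_mem (zpow_mem v.2 i)))).1
        (RingEquiv.ext fun y => DFunLike.congr_fun e y)
    have e3 : x = (x * ((v : G) ^ i)⁻¹) * (v : G) ^ i := by group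
    rw [e3]
    exact Subgroup.mul_mem_sup e2 (zpow_mem (Subgroup.subset_closure (Set.mem_singleton (v : G))) i)

end Cfsg.Agent.S1133
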