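import Cfsg.Statements.S1154
import Cfsg.Agent.H40.Ree4
-- import your own Cfsg.Agent.* helpers here

set_option autoImplicit false
open Cfsg

namespace Cfsg.Agent.S1154

open H40

/-- In the small Ree group ²G₂(q), q = 3^(2m+1) with m ≥ 1, realised as G¹ inside the Chevalley group G₂ over the field with q elements (θ the 3^m-th power map), with `U¹ = G¹ ∩ U` (U the positive unipotent subgroup of the ambient G₂): `U¹` has exactly `q² - 1` elements of order 3. -/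
theorem result {K : Type*} [Field K] [Fintype K] {m : ℕ} (hm : 1 ≤ m) (hK : Fintype.card K = 3 ^ (2 * m + 1)) :
    Nat.card {u : ↥(Cfsg.Lie.chevG2.posUnipotent K ⊓ Cfsg.Lie.twistedG2 K (3 ^ m)) // orderOf u = 3} = (3 ^ (2 * m + 1)) ^ 2 - 1 := by
  let θ := mkTh Nat.prime_three hK
  have : Fact (Nat.Prime 3) := ⟨Nat.prime_three⟩
  rw [← Nat.card_eq_of_bijective (fun p : {p : K × K // p ≠ 0} =>
    (⟨⟨ru θ 0 p.1.1 p.1.2, (mem_U1_G2 θ hK).2 ⟨_, _, _, rfl⟩⟩, orderOf_eq_prime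
      (Subtype.ext ((ru_cube_eq_one θ).2 rfl)) fun h => p.2 (Prod.ext (ru_eq_one θ (congrArg Subtype.val h)).2.1
        (ru_eq_one θ (congrArg Subtype.val h)).2.2)⟩ : {u : ↥(Cfsg.Lie.chevG2.posUnipotent K ⊓
          Cfsg.Lie.twistedG2 K (3 ^ m)) // orderOf u = 3})) ⟨?_, ?_⟩]
  · classical
    rw [Nat.card_eq_fintype_card, Fintype.card_subtype_compl, Fintype.card_prod, hK, Fintype.card_unique, sq]
  · intro a b h
    have := ru_inj θ (congrArg Subtype.val (congrArg Subtype.val h))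
    exact Subtype.ext (Prod.ext this.2.1 this.2.2)
  · rintro ⟨⟨g, hg⟩, h⟩
    obtain ⟨t, u, v, rfl⟩ := (mem_U1_G2 θ hK).1 hg
    have h1 := pow_orderOf_eq_one (⟨_, hg⟩ : ↥(Cfsg.Lie.chevG2.posUnipotent K ⊓ Cfsg.Lie.twistedG2 K (3 ^ m)))
    rw [h] at h1
    obtain rfl := (ru_cube_eq_one θ).1 (congrArg Subtype.val h1)
    refine ⟨⟨(u, v), fun e => ?_⟩, rfl⟩
    obtain ⟨rfl, rfl⟩ := Prod.ext_iff.1 e
    rw [show (⟨_, hg⟩ : ↥(Cfsg.Lie.chevG2.posUnipotent K ⊓ Cfsg.Lie.twistedG2 K (3 ^ m))) = 1 from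
      Subtype.ext (ru_zero θ), orderOf_one] at h
    exact absurd h (by decide)

end Cfsg.Agent.S1154
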