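import Cfsg.Statements.S1155
import Cfsg.Agent.H40.Ree4
-- import your own Cfsg.Agent.* helpers here

set_option autoImplicit false
open Cfsg

namespace Cfsg.Agent.S1155

open H40 Pointwise

/-- In the small Ree group ²G₂(q), q = 3^(2m+1) with m ≥ 1, realised as G¹ inside the Chevalley group G₂ over the field with q elements (θ the 3^m-th power map): distinct Sylow 3-subgroups of `G¹` meet trivially. -/
theorem result {K : Type*} [Field K] [Fintype K] {m : ℕ} (hm : 1 ≤ m) (hK : Fintype.card K = 3 ^ (2 * m + 1))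
    (P Q : Sylow 3 ↥(Cfsg.Lie.twistedG2 K (3 ^ m))) (hPQ : P ≠ Q) : (P : Subgroup ↥(Cfsg.Lie.twistedG2 K (3 ^ m))) ⊓ (Q : Subgroup ↥(Cfsg.Lie.twistedG2 K (3 ^ m))) = ⊥ := by
  let θ := mkTh Nat.prime_three hK
  have : Fact (Nat.Prime 3) := ⟨Nat.prime_three⟩
  have hG := card_G2 θ hK
  have h3 : 0 < 3 ^ (2 * m + 1) - 1 := Nat.sub_pos_of_lt (Nat.one_lt_pow (by omega) (by decide))
  have : Finite (Cfsg.Lie.twistedG2 K (3 ^ m)) := Nat.finite_of_card_ne_zero (by rw [hG]; positivity)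
  let U := (Cfsg.Lie.chevG2.posUnipotent K ⊓ Cfsg.Lie.twistedG2 K (3 ^ m)).subgroupOf (Cfsg.Lie.twistedG2 K (3 ^ m))
  have hU : Nat.card U = (3 ^ (2 * m + 1)) ^ 3 := by
    rw [Nat.card_congr (Subgroup.subgroupOfEquivOfLe inf_le_right).toEquiv, card_U1_G2 θ hK]
  have mU : ∀ {g}, g ∈ U ↔ ∃ t u v, g.1 = ru θ t u v := Subgroup.mem_subgroupOf.trans (mem_U1_G2 θ hK)
  have hi : ¬ 3 ∣ U.index := by
    have := U.card_mul_index
    rw [hU, hG, mul_assoc, mul_right_inj' (by positivity)] at this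
    have h4 : 3 ∣ 3 ^ (2 * m + 1) := dvd_pow_self 3 (by omega)
    have h5 : 3 ∣ (3 ^ (2 * m + 1)) ^ 3 := h4.trans (dvd_pow_self _ (by omega))
    rw [this, Nat.prime_three.dvd_mul]
    omega
  let U₀ := (IsPGroup.of_card (hU.trans (pow_mul _ _ _).symm)).toSylow hi
  obtain ⟨a, rfl⟩ := MulAction.exists_smul_eq (Cfsg.Lie.twistedG2 K (3 ^ m)) U₀ P
  obtain ⟨b, rfl⟩ := MulAction.exists_smul_eq (Cfsg.Lie.twistedG2 K (3 ^ m)) U₀ Q
  refine (Subgroup.eq_bot_iff_forall _).2 fun x hx => by_contra fun hx1 => hPQ ?_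
  have h1 : a⁻¹ * x * a ∈ (U₀ : Subgroup _) := by simpa using Subgroup.mem_pointwise_smul_iff_inv_smul_mem.1 hx.1
  have h2 : b⁻¹ * x * b ∈ (U₀ : Subgroup _) := by simpa using Subgroup.mem_pointwise_smul_iff_inv_smul_mem.1 hx.2
  obtain ⟨t, u, v, h1⟩ := mU.1 h1
  obtain ⟨t', u', v', h2⟩ := mU.1 h2
  obtain ⟨c, d, f, k, h4⟩ := mem_B_of_conj θ (g := (b⁻¹ * a).1) ((Fix_G2 θ hK).ge (b⁻¹ * a).2) (a := t) (b := u) (c := v)
    (a' := t') (b' := u') (c' := v') (by rw [← h1, ← h2]; simp [mul_assoc]) fun h => hx1 (by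
      rw [← h1, OneMemClass.coe_eq_one] at h
      simpa [mul_assoc, inv_mul_eq_one] using h)
  rw [← inv_smul_eq_iff, ← mul_smul, Sylow.smul_eq_iff_mem_normalizer]
  refine Subgroup.mem_normalizer_fintype fun y hy => mU.2 ?_
  obtain ⟨y1, y2, y3, hy⟩ := mU.1 hy
  have h5 : (b⁻¹ * a * y * (b⁻¹ * a)⁻¹).1 = ru θ c d f * (rh θ k * ru θ y1 y2 y3 * (rh θ k)⁻¹) * (ru θ c d f)⁻¹ := by
    rw [Subgroup.coe_mul, Subgroup.coe_mul, Subgroup.coe_inv, h4, hy]; group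
  rw [rh_conj, ru_inv, ru_mul, ru_mul] at h5
  exact ⟨_, _, _, h5⟩

end Cfsg.Agent.S1155
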