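import Cfsg.Statements.S1167
import Cfsg.Agent.H12.ZassSimple

set_option autoImplicit false
open Cfsg

namespace Cfsg.Agent.S1167

open Cfsg.Agent.H12

/-- Let `G` be a finite simple Zassenhaus group on `Ω`, `U` a normal subgroup of `G_a` regular on `Ω` minus `a` which is an abelian 2-group, and `v` an involution with `v • a ≠ a`. Then there is a unique `u₀ ∈ U`, `u₀ ≠ 1`, with `v u₀ v = u₀ v u₀`. -/
theorem result {G Ω : Type*} [Group G] [Finite G] [MulAction G Ω] [Finite Ω]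
    (hZ : Cfsg.IsZassenhausGroup G Ω) [IsSimpleGroup G] {a : Ω}
    (U : Subgroup G) (hUle : U ≤ MulAction.stabilizer G a)
    (hUn : ∀ h ∈ MulAction.stabilizer G a, ∀ u ∈ U, h * u * h⁻¹ ∈ U)
    (hreg : ∀ c d : Ω, c ≠ a → d ≠ a → ∃! u : U, (u : G) • c = d)
    (hU2 : IsPGroup 2 U) (hUab : ∀ u ∈ U, ∀ u' ∈ U, u * u' = u' * u)
    (v : G) (hv1 : v ≠ 1) (hv2 : v * v = 1) (hva : v • a ≠ a) :
    ∃! u₀ : G, u₀ ∈ U ∧ u₀ ≠ 1 ∧ v * u₀ * v = u₀ * v * u₀ := by
  have hT := ZT.of_zass hZ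
  obtain rfl := hT.eq_ker_of_regular hUle hreg
  obtain ⟨c, hca, hcb⟩ := H26.zass_exists_third hZ hva.symm
  have hne : zker G a ≠ ⊥ := fun e => by
    obtain ⟨u, hu, e'⟩ := hT.ker_trans hva hca
    rw [e] at hu
    rw [Subgroup.mem_bot.1 hu, one_smul] at e'
    exact hcb e'.symm
  have h := hT.zo (hT.odd_of_ker hva hU2 hne) hv2 hva
  have hd := (H26.feit_bound hZ hva.symm).resolve_right (by
    rintro ⟨-, u, hu, w, hw, e⟩
    exact e (hUab u hu w hw))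
  obtain ⟨-, p, f, hp, hpow, -⟩ := H26.ker_elementary_of_large hT hva.symm le_rfl hd
  obtain ⟨s, r, s0, s1, s2, hr, e⟩ := H41.R1.exists_structure h.rk
  have hs := H41.R1.invol_mem_Q h.rk s0 s2
  obtain rfl : 2 = p := by
    have h2 : orderOf s = 2 := orderOf_eq_prime (by rw [sq, s2]) s1
    exact (Nat.prime_dvd_prime_iff_eq Nat.prime_two hp).1
      (h2 ▸ orderOf_dvd_of_pow_eq_one (hpow s hs))
  obtain rfl := h.struct_invol hs s2 hr e (by rw [← sq, hpow r hr])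
  rw [inv_eq_of_mul_eq_one_right s2] at e
  exact ⟨r, ⟨hr, s1, e⟩, fun y hy => h.braid_unique hy.1 hy.2.1 (by rw [← sq, hpow y hy.1]) hy.2.2
    hr s1 s2 e⟩

end Cfsg.Agent.S1167
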