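import Cfsg.Statements.S1223
import Cfsg.Agent.H50.Bender

set_option autoImplicit false
open Cfsg

namespace Cfsg.Agent.S1223

open Subgroup Cfsg.Agent.H49 Cfsg.Agent.H50


/-- Let H be a strongly embedded subgroup of the finite group G containing no nontrivial normal subgroup of G (so G acts faithfully on the cosets of H), u an involution of G outside H, and j ≠ 1 an element of H ∩ uHu⁻¹ with u j u⁻¹ = j⁻¹. Then C_G(j) has odd order. -/
theorem result {G : Type*} [Group G] [Finite G] (H : Subgroup G) (hH : Cfsg.IsStronglyEmbedded H) (hcore : H.normalCore = ⊥) (u : G) (hu : orderOf u = 2) (huH : u ∉ H) (j : G) (hj : j ∈ (H ⊓ H.map (MulAut.conj u).toMonoidHom)) (hj1 : j ≠ 1) (hinv : u * j * u⁻¹ = j⁻¹) : Odd (Nat.card (Subgroup.centralizer ({j} : Set G))) := by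
  have h0 := se0_of_se hH
  rw [← Nat.not_even_iff_odd]
  intro hev
  obtain ⟨s, hsC, hs⟩ := H43.exists_inv_of_even hev
  rw [Subgroup.mem_centralizer_singleton_iff] at hsC
  have hu2 := H43.mul_self_of_orderOf hu
  have hs2 := H43.mul_self_of_orderOf hs
  have hui : u⁻¹ = u := inv_eq_of_mul_eq_one_right hu2
  have hinv' : u * j * u = j⁻¹ := by rwa [hui] at hinv
  obtain ⟨e, he⟩ := h0.exists_fix hs
  have hue : u • e = e := by
    by_contra hne
    exact hj1 (h0.K_eq_one_of_comm hu hs hne he hinv' hsC.symm)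
  obtain ⟨hj0, hju⟩ := H43.mem_inf_conj_iff.1 hj
  have hodd : Odd (orderOf j) := h0.odd_of_fix_two (H43.one_ne_mk huH) hj0 hju
  apply hj1
  apply H41.eq_one_of_odd_of_mul_self hodd
  by_cases r2 : SUZ.Rank2 (⊤ : Subgroup G)
  · obtain ⟨Q, t, -, -, h, -⟩ := bender_of_se (se_of_se_core hH r2 hcore)
    have hje : j • e = e := h0.fix_of_comm hs he hsC
    have h1 : (u * j) * (u * j) = 1 := by
      rw [← mul_assoc, hinv', inv_mul_cancel]
    have h2 := H41.R1.invol_commute_of_fix h.setup h.rank2 hu2 h1 hue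
      (by rw [mul_smul, hje, hue])
    rw [← mul_assoc, hu2, one_mul, hinv'] at h2
    exact mul_eq_one_iff_eq_inv.2 h2
  · have h1 := BEND.rank1_mul_mem r2 (Subgroup.mem_top u) (Subgroup.mem_top s) hu hs
    rw [map_oddCore_top] at h1
    refine H43.sq_eq_one_of_odd_inverts (odd_orderOf_of_mem_oddCore h1) ?_
    calc u * s * j * (u * s)⁻¹ = u * (s * j * s⁻¹) * u⁻¹ := by group
      _ = u * j * u⁻¹ := by rw [hsC]; group
      _ = j⁻¹ := hinv

end Cfsg.Agent.S1223
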