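import Cfsg.Statements.S1249
import Cfsg.Agent.H43.Basic

set_option autoImplicit false
open Cfsg

namespace Cfsg.Agent.S1249

open Cfsg.Agent.H43

/-- Let P and Q be Sylow p-subgroups of the finite group G both containing the subgroup A. If A is strongly closed in P, then A is strongly closed in Q. -/
theorem result {G : Type*} [Group G] [Finite G] {p : ℕ} [Fact p.Prime] (P Q : Sylow p G) (A : Subgroup G) (hAQ : A ≤ Q) (hA : Cfsg.IsStronglyClosed A (P : Subgroup G)) : Cfsg.IsStronglyClosed A (Q : Subgroup G) := by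
  obtain ⟨h, hh⟩ := sylow_conj P Q
  have h1 : h⁻¹ ∈ Subgroup.normalizer (A : Set G) := by
    apply mem_normalizer_of_conj_mem
    intro x hx
    apply hA.2 x hx
    simpa using (hh x).1 (hAQ hx)
  refine ⟨hAQ, fun x hx g hg => ?_⟩
  have h2 := hA.2 x hx (h⁻¹ * g) (by simpa [mul_assoc] using (hh _).1 hg)
  have h3 := inv_conj_mem_of_mem_normalizer h1 h2
  simpa [mul_assoc] using h3

end Cfsg.Agent.S1249
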