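import Cfsg.Statements.S1250
import Cfsg.Agent.H43.Basic

set_option autoImplicit false
open Cfsg

namespace Cfsg.Agent.S1250

open Cfsg.Agent.H43

/-- Let S be a Sylow p-subgroup of the finite group G, A ≤ S strongly closed in S, and N a normal subgroup. Then the image of A in G ⧸ N is strongly closed in the image of S (which is a Sylow p-subgroup of G ⧸ N). -/
theorem result {G : Type*} [Group G] [Finite G] {p : ℕ} [Fact p.Prime] (S : Sylow p G) (A : Subgroup G) (hA : Cfsg.IsStronglyClosed A (S : Subgroup G)) (N : Subgroup G) [N.Normal] : Cfsg.IsStronglyClosed (A.map (QuotientGroup.mk' N)) ((S : Subgroup G).map (QuotientGroup.mk' N)) := by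
  refine ⟨Subgroup.map_mono hA.1, ?_⟩
  rintro _ ⟨x, hx, rfl⟩ g hg
  obtain ⟨g, rfl⟩ := QuotientGroup.mk'_surjective N g
  have h1 : g * x * g⁻¹ ∈ (S : Subgroup G) ⊔ N := by
    have : g * x * g⁻¹ ∈ ((S : Subgroup G).map (QuotientGroup.mk' N)).comap (QuotientGroup.mk' N) := by
      rw [Subgroup.mem_comap, map_mul, map_mul, map_inv]; exact hg
    rwa [Subgroup.comap_map_eq, QuotientGroup.ker_mk'] at this
  obtain ⟨k, hk⟩ := S.2 ⟨x, hA.1 hx⟩
  have hk' : x ^ p ^ k = 1 := congrArg Subtype.val hk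
  have hp : IsPGroup p (Subgroup.zpowers (g * x * g⁻¹)) := by
    obtain ⟨j, -, hj⟩ := (Nat.dvd_prime_pow Fact.out).1 (orderOf_dvd_of_pow_eq_one hk')
    exact isPGroup_zpowers_of_orderOf (k := j) (by rw [orderOf_conj, hj])
  obtain ⟨h, hh, hh2⟩ := exists_conj_le_sylow_in S le_sup_left hp
    ((Subgroup.zpowers_le).2 h1)
  have h3 := hh2 _ (Subgroup.mem_zpowers _)
  have h4 := hA.2 x hx (h * g) (by simpa [mul_assoc] using h3)
  obtain ⟨s, hs, n, hn, rfl⟩ := Subgroup.mem_sup_of_normal_right.1 hh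
  have h5 := hA.2 _ h4 s⁻¹ ((S : Subgroup G).mul_mem ((S : Subgroup G).mul_mem
    ((S : Subgroup G).inv_mem hs) (hA.1 h4)) (by simpa using hs))
  refine ⟨_, h5, ?_⟩
  have hn1 : (n : G ⧸ N) = 1 := (QuotientGroup.eq_one_iff n).2 hn
  simp [hn1, mul_assoc]

end Cfsg.Agent.S1250
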