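import Cfsg.Statements.S1295
import Cfsg.Agent.H44.SigApp

set_option autoImplicit false
open Cfsg

namespace Cfsg.Agent.S1295

open Cfsg.Agent.H44

/-- Let G be finite with O_{p'}(G) = 1 and p-rank at least 3, whose reduced rank-2 commuting graph for p is connected. Suppose that for every element a of order p with m_p(C_G(a)) ≥ 3 the p-layer of C_G(a) is trivial and O_{p'}(C_G(a)) is solvable. Then F*(C_G(a)) = O_p(C_G(a)) for every such a. -/
theorem result {G : Type*} [Group G] [Finite G] (p : ℕ) [Fact p.Prime] (hO : Cfsg.pPrimeCore p G = ⊥) (hrk : ¬ Cfsg.PRankLE p 2 G) (hconn : Cfsg.IsRankGraphConnected p 2 G) (hL : ∀ a : G, (orderOf a = p ∧ ¬ Cfsg.PRankLE p 2 ↥(Subgroup.centralizer ({a} : Set G))) → Cfsg.pLayer p ↥(Subgroup.centralizer ({a} : Set G)) = ⊥ ∧ Group.IsSolvable ↥(Cfsg.centralizerPPrimeCore p a)) (a : G) (ha : (orderOf a = p ∧ ¬ Cfsg.PRankLE p 2 ↥(Subgroup.centralizer ({a} : Set G)))) : Cfsg.generalizedFittingSubgroup ↥(Subgroup.centralizer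 ({a} : Set G)) = Cfsg.pCore p ↥(Subgroup.centralizer ({a} : Set G)) := by
  have hL' : ∀ a : G, (orderOf a = p ∧ ¬ Cfsg.PRankLE p 2 ↥(Subgroup.centralizer ({a} : Set G))) →
      Lof p (Subgroup.centralizer ({a} : Set G)) = ⊥ := fun a ha => by
    rw [Lof, (hL a ha).1, Subgroup.map_bot]
  refine FSof_eq_Opof_iff'.1 (FSof_eq_Opof_iff.2 ⟨hL' a ha, ?_⟩)
  refine equivariant_eq_bot (θ := centralizerPPrimeCore p) hO hconn (fun A hA hA3 => ?_)
    (fun a g _ => (cj_centralizerPPrimeCore g a).symm) ha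
  have hP := fun a (ha : a ∈ A) ha1 => rankThree_of_mem hA hA3 ha ha1
  refine ⟨⟨fun a ha ha1 => Oppof_le _,
    fun a ha ha1 => coprime_iff_not_dvd.1 (pPrimeCoreOf_coprime _),
    fun a ha ha1 b hb x hx => ?_, fun a ha ha1 b hb hb1 => ?_⟩,
    fun a ha ha1 => (hL a (hP a ha ha1)).2⟩
  · exact (Subgroup.mem_normalizer_iff.1 (le_normalizer_pPrimeCoreOf _
      (le_centralizer_singleton_of_comm hA.1 ha hb)) x).1 hx
  · have h := (inf_centralizer_of_Lof_eq_bot (hL' b (hP b hb hb1))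
      (isPGroup_zpowers_of_orderOf (hP a ha ha1).1)
      ((Subgroup.zpowers_le).2 (le_centralizer_singleton_of_comm hA.1 hb ha))).2
    rw [centralizer_zpowers_eq] at h
    exact le_trans (le_trans (le_inf inf_le_left (le_inf inf_le_right
      (inf_le_left.trans (Oppof_le _)))) (Oppof_inf_le_Oppof inf_le_right)) h

end Cfsg.Agent.S1295
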