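import Cfsg.Statements.S1315
import Cfsg.Agent.Q54.F

set_option autoImplicit false
open Cfsg

namespace Cfsg.Agent.S1315

open Subgroup H44 H59 Q54 in
theorem mk {G : Type*} [Group G] [Finite G] {J : Subgroup G} {z : G}
    (h : z ∈ J ∧ orderOf z = 2 ∧ ∀ t ∈ J, orderOf t = 2 → t = z)
    (hJ : J ≤ Subgroup.centralizer ({z} : Set G) ∧
      Cfsg.IsPComponent 2 (J.subgroupOf (Subgroup.centralizer ({z} : Set G)))) : Om z J := by
  refine ⟨?_, ?_, h.1, fun s hs s2 => ?_, pcomp_iff.2 hJ⟩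
  · rw [← pow_two, ← h.2.1, pow_orderOf_eq_one]
  · rintro rfl
    simpa using h.2.1
  · by_cases e : s = 1
    exacts [.inl e, .inr (h.2.2 s hs (ord2 s2 e))]

open Subgroup H44 H59 Q54 in
theorem part1 {G : Type*} [Group G] [Finite G] {J K : Subgroup G} {z t y : G} (hJ : Om z J)
    (hK : Om t K) (hy : y ∈ K) {k : ℕ} (y2 : y ^ 2 ^ k = 1) (yy : y * y ≠ 1) (yz : y * z = z * y) :
    y ∈ normalizer (J : Set G) := by
  by_cases e : z = t
  · subst e
    exact pc_norm hK.pc hJ.pc hy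
  have zt : z * t = t * z :=
    comm_zp (hK.mem_zp hy (fun e => yy (by rw [e, mul_one])) y2) yz.symm
  have zK : z ∈ normalizer (K : Set G) := mem_normalizer_iff_cj.2
    (hK.eq_of_mem (hK.conj' zt).pc hy (conj_eq yz.symm ▸ conj_mem_cj hy) y2 yy).symm
  have tJ := part2 hJ hK zK
  clear yy
  induction k generalizing y with
  | zero => rw [show y = 1 by simpa using y2]; exact one_mem _
  | succ k ih =>
    have n2 := ih (mul_mem hy hy) (by rw [← pow_two, ← pow_mul, ← pow_succ', y2])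
      ((show Commute y z from yz).mul_left yz).eq
    by_contra n
    obtain ⟨R, R', fr, l, l'⟩ := exists_fr (z := z) (t := t) (isP y2) (zpowers_le.2 (mem_C1.2 yz))
      (zpowers_le.2 (hK.le hy))
    exact Cf.false ⟨hJ, hK, e, fr, zK, tJ, ⟨l' (mem_zpowers y), hy⟩, l (mem_zpowers y), n, n2⟩

/-- Let G be finite and J ≠ K subgroups, each containing exactly one involution, z(J) resp. z(K), each a 2-component of the centralizer of its involution, with J / O(J) and K / O(K) both isomorphic to SL(2, F) for one finite field F of odd order, or both non-split double covers of A7. Then (i) every 2-element of K of order at least 4 centralizing z(J) normalizes J; (ii) if z(J) normalizes K then z(K) normalizes J. -/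
theorem result {G : Type*} [Group G] [Finite G] (J K : Subgroup G) (hJK : J ≠ K) (zJ zK : G) (hzJ : zJ ∈ J ∧ orderOf zJ = 2 ∧ ∀ t ∈ J, orderOf t = 2 → t = zJ) (hzK : zK ∈ K ∧ orderOf zK = 2 ∧ ∀ t ∈ K, orderOf t = 2 → t = zK) (hJ : J ≤ Subgroup.centralizer ({zJ} : Set G) ∧ Cfsg.IsPComponent 2 (J.subgroupOf (Subgroup.centralizer ({zJ} : Set G)))) (hK : K ≤ Subgroup.centralizer ({zK} : Set G) ∧ Cfsg.IsPComponent 2 (K.subgroupOf (Subgroup.centralizer ({zK} : Set G)))) (htype : (∃ (F : Type) (_ : Field F) (_ : Fintype F), Odd (Fintype.card F) ∧ Nonempty (↥J ⧸ Cfsg.oddCore ↥J ≃* Matrix.SpecialLinearGroup (Fin 2) F) ∧ Nonempty (↥K ⧸ Cfsg.oddCore ↥K ≃* Matrix.SpecialLinearGroup (Fin 2) F)) ∨ (Cfsg.IsNonsplitDoubleCover (↥J ⧸ Cfsg.oddCore ↥J) ↥(alternatingGroup (Fin 7)) ∧ Cfsg.IsNonsplitDoubleCover (↥K ⧸ Cfsg.oddCore ↥K) ↥(alternatingGroup (Fin 7)))) : (∀ y ∈ K, IsPGroup 2 ↥(Subgroup.zpowers y) → 4 ≤ orderOf y → y * zJ = zJ * y → y ∈ Subgroup.normalizer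 (J : Set G)) ∧ (zJ ∈ Subgroup.normalizer (K : Set G) → zK ∈ Subgroup.normalizer (J : Set G)) := by
  refine ⟨fun y hy hp h4 yz => ?_, Q54.part2 (mk hzJ hJ) (mk hzK hK)⟩
  obtain ⟨k, hk⟩ := Q54.two_of_mem hp (Subgroup.mem_zpowers y)
  refine part1 (mk hzJ hJ) (mk hzK hK) hy hk (fun e => ?_) yz
  have := orderOf_le_of_pow_eq_one two_pos ((pow_two y).trans e)
  omega

end Cfsg.Agent.S1315
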