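import Cfsg.Statements.S1322
import Cfsg.Agent.H46.Pump
import Cfsg.Agent.H46.OddQS
import Cfsg.Agent.H46.LBalance

set_option autoImplicit false
open Cfsg

namespace Cfsg.Agent.S1322

/-- Let G be finite with L_{2'}(G) = E(G), t an involution and L ≤ C_G(t) a component of C_G(t). Then there is a component D of G with: L = D; or L < D and D = ⁅D, ⟨t⟩⁆; or tDt⁻¹ ≠ D and L is the layer of C_{D ⊔ tDt⁻¹}(t). -/
theorem result {G : Type*} [Group G] [Finite G] (hL2 : Cfsg.pLayer 2 G = Cfsg.layer G) (t : G) (ht : orderOf t = 2) (L : Subgroup G) (hLt : L ≤ Subgroup.centralizer ({t} : Set G)) (hL : Cfsg.IsComponent (L.subgroupOf (Subgroup.centralizer ({t} : Set G)))) : ∃ D : Subgroup G, Cfsg.IsComponent D ∧ (L = D ∨ (L < D ∧ D = ⁅D, Subgroup.zpowers t⁆) ∨ (D.map (MulAut.conj t).toMonoidHom ≠ D ∧ L = (Cfsg.layer ↥((D ⊔ D.map (MulAut.conj t).toMonoidHom) ⊓ Subgroup.centralizer ({t} : Set G))).map ((D ⊔ D.map (MulAut.conj t).toMonoidHom)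 ⊓ Subgroup.centralizer ({t} : Set G)).subtype)) := by
  have h1 : H44.PComp 2 (Subgroup.centralizer ({t} : Set G)) L :=
    H46.pcomp_two_of_comp (H44.comp_iff.2 ⟨hLt, hL⟩)
  have h2 : L ≤ H44.Eof ⊤ := by
    rw [H44.Eof_top, ← hL2]
    refine h1.le_Lof.trans ?_
    rw [← H44.centralizer_zpowers_eq]
    exact H46.Lof_centralizer_le_pLayer (H44.isPGroup_zpowers_of_orderOf ht)
  obtain ⟨D, hD, h⟩ := H46.pump_trichotomy (p := 2) (X := ⊤) ht
    (Subgroup.le_normalizer (Subgroup.mem_top t)) (by rwa [top_inf_eq]) h2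
  refine ⟨D, H44.comp_top_iff.1 hD, ?_⟩
  rcases h with h | h | h
  · exact Or.inl h
  · exact Or.inr (Or.inl h)
  · exact Or.inr (Or.inr ⟨h.1, h.2.1⟩)

end Cfsg.Agent.S1322
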