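import Cfsg.Statements.S1323
import Cfsg.Agent.H46.AltOn

set_option autoImplicit false
open Cfsg

namespace Cfsg.Agent.S1323

open Subgroup Equiv Equiv.Perm H44 H46
open scoped commutatorElement

section
variable {α : Type*} [Fintype α] [DecidableEq α]

/-- `Alt(s)` inside the alternating group. -/
def A (s : Finset α) : Subgroup (alternatingGroup α) := (AltOn s).subgroupOf (alternatingGroup α)

theorem mem_A {s : Finset α} {g : alternatingGroup α} :
    g ∈ A s ↔ ∀ x, x ∉ s → (g : Perm α) x = x := by
  rw [A, mem_subgroupOf, mem_AltOn']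
  exact and_iff_left (mem_alternatingGroup.1 g.2)

theorem AltOn_le_alt (s : Finset α) : AltOn s ≤ alternatingGroup α :=
  fun _ hg => mem_alternatingGroup.2 (mem_AltOn'.1 hg).2

theorem card_A (s : Finset α) : Nat.card (A s) = Nat.card (alternatingGroup (Fin s.card)) := by
  rw [A, Nat.card_congr (subgroupOfEquivOfLe (AltOn_le_alt s)).toEquiv,
    Nat.card_congr (altOnEquiv s).toEquiv]

theorem moved {s : Finset α} (hs : 3 ≤ s.card) {x : α} (hx : x ∈ s) :
    ∃ g ∈ A s, (g : Perm α) x ≠ x := by
  obtain ⟨t, ht, h2⟩ := Finset.exists_subset_card_eq (s := s.erase x) (n := 2)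
    (by rw [Finset.card_erase_of_mem hx]; omega)
  obtain ⟨y, z, hyz, rfl⟩ := Finset.card_eq_two.1 h2
  have hy := Finset.mem_erase.1 (ht (by simp : y ∈ _))
  have hz := Finset.mem_erase.1 (ht (by simp : z ∈ _))
  refine ⟨⟨swap x y * swap y z, by simp [hy.1.symm, hyz]⟩, ?_, ?_⟩
  · rw [mem_A]
    intro w hw
    simp only [Perm.mul_apply, swap_apply_def]
    grind
  · simp only [Perm.mul_apply, swap_apply_def]
    grind

theorem cent_A {s : Finset α} (hs : 4 ≤ s.card) :
    centralizer (A s : Set (alternatingGroup α)) = A sᶜ := by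
  apply le_antisymm
  · intro g hg
    rw [mem_A]
    intro x hx
    have hx : x ∈ s := by simpa using hx
    have key : ∀ k ∈ A s, ∀ y, (k : Perm α) ((g : Perm α) y) = (g : Perm α) ((k : Perm α) y) := by
      intro k hk y
      exact DFunLike.congr_fun (congrArg Subtype.val (hg k hk)) y
    by_contra hne
    have h1 : (g : Perm α) x ∈ s := by
      obtain ⟨k, hk, hkx⟩ := moved (by omega) hx
      by_contra h
      have := mem_A.1 hk _ h
      rw [key k hk] at this
      exact hkx ((g : Perm α).injective this)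
    obtain ⟨k, hk, hkx⟩ := moved (s := s.erase x) (by rw [Finset.card_erase_of_mem hx]; omega)
      (Finset.mem_erase.2 ⟨hne, h1⟩)
    have hk' : k ∈ A s := mem_A.2 fun y hy => mem_A.1 hk y (fun h => hy (Finset.mem_of_mem_erase h))
    rw [key k hk', mem_A.1 hk x (by simp)] at hkx
    exact hkx rfl
  · intro g hg k hk
    apply Subtype.ext
    exact (commute_of_fix (s := s) (fun x hx => mem_A.1 hg x (by simpa using hx)) hk).symm

theorem map_A (s : Finset α) (g : alternatingGroup α) :
    (A s).map (MulAut.conj g).toMonoidHom = A (s.map (g : Perm α).toEmbedding) := by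
  ext k
  constructor
  · rintro ⟨k, hk, rfl⟩
    rw [mem_A]
    intro x hx
    have : (g : Perm α)⁻¹ x ∉ s := fun h => hx (Finset.mem_map.2 ⟨_, h, by simp⟩)
    show (g : Perm α) ((k : Perm α) ((g : Perm α)⁻¹ x)) = x
    rw [mem_A.1 hk _ this]; simp
  · intro hk
    refine ⟨g⁻¹ * k * g, mem_A.2 fun x hx => ?_, by simp [mul_assoc]⟩
    have : (g : Perm α) x ∉ s.map (g : Perm α).toEmbedding := by simpa using hx
    show (g : Perm α)⁻¹ ((k : Perm α) ((g : Perm α) x)) = x
    rw [mem_A.1 hk _ this]; simp

theorem A_le {s t : Finset α} (hs : 3 ≤ s.card) (h : A s ≤ A t) : s ⊆ t := by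
  intro x hx
  obtain ⟨k, hk, hkx⟩ := moved hs hx
  by_contra hxt
  exact hkx (mem_A.1 (h hk) x hxt)

theorem mem_norm_A {s : Finset α} (hs : 3 ≤ s.card) {g : alternatingGroup α} :
    g ∈ normalizer (A s : Set (alternatingGroup α)) ↔ ∀ x, (g : Perm α) x ∈ s ↔ x ∈ s := by
  have key : ∀ g : alternatingGroup α, g ∈ normalizer (A s : Set (alternatingGroup α)) →
      ∀ x ∈ s, (g : Perm α) x ∈ s := by
    intro g hg x hx
    obtain ⟨k, hk, hkx⟩ := moved hs hx
    have h1 := (mem_normalizer_iff.1 hg k).1 hk
    by_contra h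
    have h2 : (g : Perm α) ((k : Perm α) ((g : Perm α)⁻¹ ((g : Perm α) x))) = (g : Perm α) x :=
      mem_A.1 h1 _ h
    simp only [Perm.inv_def, symm_apply_apply] at h2
    exact hkx ((g : Perm α).injective h2)
  constructor
  · intro hg x
    refine ⟨fun h => ?_, key g hg x⟩
    have := key g⁻¹ (inv_mem hg) _ h
    simpa using this
  · intro h
    have := mem_normalizer_AltOn h
    rw [mem_normalizer_iff] at this ⊢
    exact fun k => this k

theorem standard {s : Finset α} (hs : 5 ≤ s.card) (h4 : sᶜ.card = 4) :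
    Cfsg.IsStandardSubgroup (A s) := by
  have hC := cent_A (s := s) (by omega)
  refine ⟨?_, ⟨?_, ?_⟩, ?_, ?_⟩
  · rw [← qs_iff, A, qs_subgroupOf_iff (AltOn_le_alt s)]
    refine qs_of_simple (AltOn_simple hs) (fun h => ?_)
    have h1 : A s ≤ A sᶜ := by
      rw [← hC]
      exact fun g hg k hk => Subtype.ext (h hg k hk)
    have := Finset.card_le_card (A_le (by omega) h1)
    omega
  · rw [hC, card_A, h4]
    haveI : Nontrivial (Fin 4) := inferInstance
    rw [nat_card_alternatingGroup]
    simp
    decide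
  · rw [hC]
    intro g hg
    rw [map_A]
    have h1 : A sᶜ ⊓ A (sᶜ.map (g : Perm α).toEmbedding) = A (sᶜ ∩ sᶜ.map (g : Perm α).toEmbedding) := by
      ext k
      simp only [mem_inf, mem_A, Finset.mem_inter, not_and_or]
      exact ⟨fun h x hx => hx.elim (h.1 x) (h.2 x),
        fun h => ⟨fun x hx => h x (Or.inl hx), fun x hx => h x (Or.inr hx)⟩⟩
    rw [h1, card_A]
    have h2 : (sᶜ ∩ sᶜ.map (g : Perm α).toEmbedding).card ≤ 3 := by
      by_contra hcon
      apply hg
      have h3 : sᶜ ∩ sᶜ.map (g : Perm α).toEmbedding = sᶜ.map (g : Perm α).toEmbedding :=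
        Finset.eq_of_subset_of_card_le Finset.inter_subset_right (by rw [Finset.card_map]; omega)
      have h5 : sᶜ ∩ sᶜ.map (g : Perm α).toEmbedding = sᶜ :=
        Finset.eq_of_subset_of_card_le Finset.inter_subset_left (by omega)
      rw [mem_norm_A (by omega)]
      intro x
      conv_lhs => rw [← h5, h3]
      simp
    generalize (sᶜ ∩ sᶜ.map (g : Perm α).toEmbedding).card = m at h2
    rw [Nat.card_eq_fintype_card]
    interval_cases m <;> decide +kernel
  · intro g _ h
    rw [commutator_comm, commutator_eq_bot_iff_le_centralizer, hC, map_A] at h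
    have := Finset.card_le_card (A_le (by rw [Finset.card_map]; omega) h)
    rw [Finset.card_map] at this
    omega
  · rw [hC]
    ext g
    rw [mem_norm_A (by omega), mem_norm_A (by omega)]
    simp only [Finset.mem_compl, not_iff_not]

end


/-- For n ≥ 9, the subgroup of the alternating group on Fin n fixing each of the points 0, 1, 2, 3 is a standard subgroup. -/
theorem result (n : ℕ) (h4 : 4 ≤ n) (hn : 9 ≤ n) : Cfsg.IsStandardSubgroup (⨅ i : Fin 4, MulAction.stabilizer ↥(alternatingGroup (Fin n)) (Fin.castLE h4 i : Fin n)) := by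
  classical
  set D : Finset (Fin n) := Finset.univ.map (Fin.castLEEmb h4) with hD
  have hc : D.card = 4 := by simp [hD]
  have h1 : (⨅ i : Fin 4, MulAction.stabilizer ↥(alternatingGroup (Fin n)) (Fin.castLE h4 i : Fin n)) = A Dᶜ := by
    ext g
    rw [mem_iInf, mem_A]
    constructor
    · intro h x hx
      have hx' : x ∈ D := by simpa using hx
      obtain ⟨i, -, rfl⟩ := Finset.mem_map.1 hx'
      exact h i
    · intro h i
      exact h _ (by simp [hD])
  rw [h1]
  exact standard (by rw [Finset.card_compl, Fintype.card_fin]; omega) (by rw [compl_compl]; exact hc)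

end Cfsg.Agent.S1323
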