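import Cfsg.Statements.S1339
import Cfsg.Agent.H33.LieBT0

set_option autoImplicit false
open Cfsg

namespace Cfsg.Agent.S1339

/-- Let F be a field with 2 elements, n ≥ 3, and t ∈ SL(n, F) a transvection (t = 1 + E_{ij}, i ≠ j). Then the generalized Fitting subgroup of C(t) is O_2(C(t)). -/
theorem result {F : Type*} [Field F] [Fintype F] [DecidableEq F] (hF : Fintype.card F = 2) (n : ℕ) (hn : 3 ≤ n) (i j : Fin n) (hij : i ≠ j) (t : Matrix.SpecialLinearGroup (Fin n) F) (ht : (t : Matrix (Fin n) (Fin n) F) = Matrix.transvection i j 1) : Cfsg.generalizedFittingSubgroup ↥(Subgroup.centralizer ({t} : Set (Matrix.SpecialLinearGroup (Fin n) F))) = Cfsg.pCore 2 ↥(Subgroup.centralizer ({t} : Set (Matrix.SpecialLinearGroup (Fin n) F))) := by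
  have : Fact (Nat.Prime 2) := ⟨Nat.prime_two⟩
  have hc : CharP F 2 := by
    obtain ⟨p, hp, k, hpp, hk⟩ := FiniteField.card' F
    rw [hF] at hk
    have h2 : p ∣ 2 := hk ▸ dvd_pow_self p k.ne_zero
    rwa [(Nat.prime_dvd_prime_iff_eq hpp Nat.prime_two).1 h2] at hp
  obtain ⟨m, rfl⟩ : ∃ k, n = k + 1 := ⟨n - 1, by omega⟩
  have hbt : H33.BT 2 (Matrix.SpecialLinearGroup (Fin (m + 1)) F) :=
    H33.rg_bt 2 H38.ClA.faithful H38.ClA.grp_eq_top H38.ClA.conn
  have hZ : ∀ z ∈ Subgroup.center (Matrix.SpecialLinearGroup (Fin (m + 1)) F), z = 1 := by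
    intro z hz
    obtain ⟨r, hr, e⟩ := Matrix.SpecialLinearGroup.mem_center_iff.1 hz
    have hr0 : r ≠ 0 := by
      rintro rfl
      simp at hr
    have hr1 : r = 1 := by
      have := FiniteField.pow_card_sub_one_eq_one r hr0
      rwa [hF, pow_one] at this
    apply Subtype.ext
    rw [← e, hr1, map_one]; rfl
  have ht2 : orderOf t = 2 := by
    refine orderOf_eq_prime (Subtype.ext ?_) fun e => ?_
    · rw [Matrix.SpecialLinearGroup.coe_pow, ht, sq, Matrix.transvection_mul_transvection_same _ _ hij,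
        CharTwo.add_self_eq_zero, Matrix.transvection_zero]
      rfl
    · have h1 := congrFun (congrFun ht i) j
      rw [e] at h1
      simp [Matrix.transvection, Matrix.one_apply_ne hij] at h1
  have h1 := H71.charPIn_centralizer_of_normalizer (hbt.charPIn (fun z hz _ => hZ z hz)
    (Q := Subgroup.zpowers t) (IsPGroup.of_card (n := 1) (by rw [Nat.card_zpowers, ht2, pow_one]))
    (by rw [Ne, Subgroup.zpowers_eq_bot]; rintro rfl; simp at ht2))
  rw [Subgroup.zpowers_eq_closure, Subgroup.centralizer_closure] at h1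
  exact (H71.charPIn_iff_gfitting _).1 h1

end Cfsg.Agent.S1339
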