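import Cfsg.Statements.S1340
import Cfsg.Agent.H68.BlkSL
import Cfsg.Agent.H44.Cores

set_option autoImplicit false
open Cfsg

namespace Cfsg.Agent.S1340

/-- Let F be a finite field of odd order and n ≥ 3 with (n, |F|) ≠ (3, 3). Then GL(n, F) has a non-central involution t such that C(t) / O(C(t)) has a component. -/
theorem result {F : Type*} [Field F] [Fintype F] [DecidableEq F] (hF : Odd (Fintype.card F)) (n : ℕ) (hn : 3 ≤ n) (h33 : ¬ (n = 3 ∧ Fintype.card F = 3)) : ∃ t : Matrix.GeneralLinearGroup (Fin n) F, orderOf t = 2 ∧ t ∉ Subgroup.center (Matrix.GeneralLinearGroup (Fin n) F) ∧ Cfsg.HasComponent (↥(Subgroup.centralizer ({t} : Set (Matrix.GeneralLinearGroup (Fin n) F))) ⧸ Cfsg.oddCore ↥(Subgroup.centralizer ({t} : Set (Matrix.GeneralLinearGroup (Fin n) F)))) := by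
  obtain ⟨m, rfl⟩ : ∃ m, n = m + 1 := ⟨n - 1, by omega⟩
  have h2 : (2 : F) ≠ 0 := by
    intro h
    have : CharP F 2 := CharTwo.of_one_ne_zero_of_two_eq_zero one_ne_zero h
    obtain ⟨k, -, hk⟩ := FiniteField.card F 2
    rw [hk] at hF
    exact (Nat.not_even_iff_odd.2 hF) (Nat.even_pow.2 ⟨even_two, k.ne_zero⟩)
  have hq : 3 ≤ m ∨ (m = 2 ∧ 4 ≤ Nat.card F) := by
    have := Fintype.one_lt_card (α := F)
    rw [Nat.card_eq_fintype_card]
    obtain ⟨k, hk⟩ := hF
    omega
  have hm : 2 ≤ m := by omega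
  have h0 : (0 : Fin (m + 1)) ≠ Fin.last m := by rw [Ne, Fin.ext_iff]; simp; omega
  have hn1 : (-1 : F) ≠ 1 := fun h => h2 (by linear_combination -h)
  let t : Matrix.GeneralLinearGroup (Fin (m + 1)) F :=
    ⟨H68.tdiag m F, H68.tdiag m F, H68.tdiag_mul_self, H68.tdiag_mul_self⟩
  have ht0 : H68.tdiag m F 0 0 = -1 := by
    have : m ≠ 0 := by omega
    simp [H68.tdiag, this.symm]
  have htl : H68.tdiag m F (Fin.last m) (Fin.last m) = 1 := by simp [H68.tdiag]
  refine ⟨t, orderOf_eq_prime (Units.ext ?_) fun e => ?_, fun hc => ?_, ?_⟩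
  · rw [sq]; exact H68.tdiag_mul_self
  · have e' : H68.tdiag m F = 1 := congrArg Units.val e
    rw [e'] at ht0
    exact hn1 (by simpa using ht0.symm)
  · have h3 : Matrix.transvection 0 (Fin.last m) (1 : F) * H68.tdiag m F =
        H68.tdiag m F * Matrix.transvection 0 (Fin.last m) 1 :=
      congrArg Units.val (Subgroup.mem_center_iff.1 hc
        (Matrix.SpecialLinearGroup.toGL (Matrix.SpecialLinearGroup.transvection h0 1)))
    have := congrFun (congrFun h3 0) (Fin.last m)
    rw [Matrix.transvection_mul_apply_same, Matrix.mul_transvection_apply_same, ht0, htl] at this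
    exact hn1 (by linear_combination -this)
  · set C := Subgroup.centralizer ({t} : Set (Matrix.GeneralLinearGroup (Fin (m + 1)) F))
    have hC : ∀ g ∈ C, g.val * H68.Elast m F = H68.Elast m F * g.val := fun g hg =>
      (H68.comm_tdiag_iff h2 _).1 (congrArg Units.val (hg t rfl) :)
    set L := (H68.Lb m F).map Matrix.SpecialLinearGroup.toGL
    have hL : H44.QS L := (H68.qs_Lb hq).map_inj _ Matrix.SpecialLinearGroup.toGL_injective
    have hle : L ≤ C := by
      rintro _ ⟨x, hx, rfl⟩ _ rfl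
      exact Units.ext ((H68.comm_tdiag_iff h2 _).2 (hx.1.trans hx.2.symm))
    have hN : (L.subgroupOf C).Normal := by
      refine ⟨?_⟩
      rintro x ⟨y, hy, e⟩ g
      have hd : (g.1.val * y.1 * (g.1⁻¹).val).det = 1 := by
        rw [Matrix.det_mul, Matrix.det_mul, y.2, mul_one, ← Matrix.det_mul, Units.mul_inv,
          Matrix.det_one]
      refine ⟨⟨_, hd⟩, H68.conj_mem_Lb (hC g g.2) (Units.mul_inv _) hy rfl, Units.ext ?_⟩
      have : x.1.val = y.1 := (congrArg Units.val e).symm
      change g.1.val * y.1 * (g.1⁻¹).val = g.1.val * x.1.val * (g.1⁻¹).val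
      rw [this]
    have hL' : H44.QS (L.subgroupOf C) := (H44.qs_subgroupOf_iff hle).2 hL
    refine ⟨(L.subgroupOf C).map (QuotientGroup.mk' _), ?_, H44.qs_iff.1 (hL'.map _ fun hb => ?_)⟩
    · exact (hN.map _ (QuotientGroup.mk'_surjective _)).isSubnormal
    · rw [Subgroup.map_eq_bot_iff, QuotientGroup.ker_mk'] at hb
      have h01 : (⟨0, by omega⟩ : Fin m) ≠ ⟨1, by omega⟩ := by simp
      let y : Matrix.SpecialLinearGroup (Fin m) F := Matrix.SpecialLinearGroup.diag2n h01 (-1) (by simp)
      have hy : orderOf y = 2 := by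
        refine orderOf_eq_prime (Subtype.ext ?_) fun e => ?_
        · rw [sq, Matrix.SpecialLinearGroup.coe_mul, Matrix.SpecialLinearGroup.diag2n_coe, Matrix.diagonal_mul_diagonal,
            Matrix.SpecialLinearGroup.coe_one, ← Matrix.diagonal_one]
          congr 1; funext k; split_ifs <;> simp
        · have := congrFun (congrFun (congrArg Subtype.val e) ⟨0, by omega⟩) ⟨0, by omega⟩
          exact hn1 (by simpa [y, Matrix.SpecialLinearGroup.diag2n_coe] using this)
      have hmem : Matrix.SpecialLinearGroup.toGL (H68.embL m F y) ∈ L :=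
        ⟨_, (H68.range_embL (m := m) (F := F)).le ⟨y, rfl⟩, rfl⟩
      have ho := Subgroup.orderOf_dvd_natCard _ (hb (x := ⟨_, hle hmem⟩) hmem)
      rw [← Subgroup.orderOf_coe, orderOf_injective _ Matrix.SpecialLinearGroup.toGL_injective,
        orderOf_injective _ H68.embL_injective, hy] at ho
      exact absurd (Nat.Coprime.eq_one_of_dvd (H44.pPrimeCore_coprime (p := 2)).symm ho) (by decide)

end Cfsg.Agent.S1340
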