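import Cfsg.Statements.S1458
import Cfsg.Agent.H4.ZJe
import Cfsg.Agent.H51.PStable

set_option autoImplicit false
open Cfsg

namespace Cfsg.Agent.S1458

/-- Let G be a solvable group of odd order, p a prime and S a Sylow p-subgroup of G. Then the subgroup generated by the centre of the Thompson subgroup of S and O_{p'}(G) is normal in G. -/
theorem result {G : Type*} [Group G] [Finite G] [Group.IsSolvable G] (hodd : Odd (Nat.card G)) (p : ℕ) [Fact p.Prime] (S : Sylow p G) :
    (Cfsg.centerThompsonOf p (S : Subgroup G) ⊔ Cfsg.pPrimeCore p G).Normal := by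
  by_cases hp2 : p = 2
  · have hS : (S : Subgroup G) = ⊥ := by
      subst hp2
      exact H22.eq_bot_of_pgroup_coprime S.isPGroup' (Nat.Coprime.coprime_dvd_left
        (Subgroup.card_subgroup_dvd_card _) (Nat.coprime_two_right.mpr hodd))
    rw [le_bot_iff.mp ((H4.centerThompsonOf_le p (S : Subgroup G)).trans hS.le), bot_sup_eq]
    infer_instance
  let π := QuotientGroup.mk' (pPrimeCore p G)
  have hπ : Function.Surjective π := QuotientGroup.mk'_surjective _
  have hS : (S : Subgroup G) ⊓ π.ker = ⊥ := by
    rw [QuotientGroup.ker_mk']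
    exact H22.inf_eq_bot_of_pgroup_coprime S.isPGroup' H22.coprime_card_pPrimeCore
  have hodd' : Odd (Nat.card (G ⧸ pPrimeCore p G)) :=
    Odd.of_dvd_nat hodd (Subgroup.card_quotient_dvd_card _)
  have h := H4.centerThompsonOf_normal hp2
    (H23.qStable_of_isPStableOn fun P _ hP => H51.isPStableOn_of_odd hodd' P hP)
    (H22.IsPSolvable.centralizer_pCore_le H22.isPSolvable_of_isSolvable
      H22.pPrimeCore_quotient_pPrimeCore)
    (S.mapSurjective hπ)
  rw [Sylow.coe_mapSurjective, ← H4.centerThompsonOf_map_of_disjoint p hS] at h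
  have h2 := h.comap π
  rwa [Subgroup.comap_map_eq, QuotientGroup.ker_mk'] at h2

end Cfsg.Agent.S1458
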