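import Cfsg.Statements.S1606
import Cfsg.Agent.H56.M24Fix

set_option autoImplicit false
open scoped Pointwise
open Cfsg

namespace Cfsg.Agent.S1606

open H14 H55 H56 MulAction

theorem index_normalizer_mod {K : Type*} [Group K] [Finite K] {p : ℕ} (hp : p.Prime) {x : K}
    (hx : orderOf x = p) (h : ¬ p * p ∣ Nat.card K) :
    (Subgroup.normalizer (Subgroup.zpowers x : Set K)).index % p = 1 := by
  have : Fact p.Prime := ⟨hp⟩
  have h1 : IsPGroup p (Subgroup.zpowers x) :=
    IsPGroup.of_card (n := 1) (by rw [Nat.card_zpowers, hx, pow_one])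
  have h2 : ¬ p ∣ (Subgroup.zpowers x).index := fun hc => h (by
    rw [← (Subgroup.zpowers x).card_mul_index, Nat.card_zpowers, hx]
    exact Nat.mul_dvd_mul_left _ hc)
  have h3 := card_sylow_modEq_one p K
  rw [Sylow.card_eq_index_normalizer (h1.toSylow h2)] at h3
  exact Eq.trans h3 (Nat.mod_eq_of_lt hp.one_lt)

/-- the two point stabiliser -/
abbrev G : Type := stabilizer M24 (pt 23, pt 0)

theorem card_G : Nat.card G = 443520 := by
  have h1 := card_stab_eq_mul (G := M24) (pt 23) (pt 0)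
  have h2 : orbit (stabilizer M24 (pt 23)) (pt 0) = (Finset.univ.erase (pt 23) : Finset GolayPt) := by
    ext y
    simp only [Finset.coe_erase, Finset.coe_univ, Set.mem_sdiff, Set.mem_univ, true_and,
      Set.mem_singleton_iff]
    constructor
    · rintro ⟨g, rfl⟩ h
      exact absurd (MulAction.injective g.1 (h.trans g.2.symm)) (by decide)
    · intro h
      obtain ⟨g, e1, e2⟩ := exists_smul_finset_eq_fix (x := pt 23) (s := {pt 0}) (t := {y}) rfl
        (by simp) (by decide) (by simpa [eq_comm] using h)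
      exact ⟨⟨g, e1⟩, show g • pt 0 = y by simpa using e2⟩
  rw [card_stab_pt, h2, Set.ncard_coe_finset,
    show (Finset.univ.erase (pt 23) : Finset GolayPt).card = 23 by decide] at h1
  exact Nat.eq_of_mul_eq_mul_left (by norm_num : 0 < 23) (h1.symm.trans (by norm_num))

/-- `t ↦ 2 t` -/
def A : ℕ := nat_lit 983435072843990828779021698901151808
/-- an element of order five normalising `A` -/
def B : ℕ := nat_lit 974380510768821363662145534143076928
/-- the map with packed form `P` -/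
def fn (P : ℕ) (x : GolayPt) : GolayPt := pt (app (nat_lit 5) (nat_lit 32) P (idx x))

theorem rel0 : (cProd cPt cPt).rel ((23 : ℕ), (0 : ℕ)) (pt 23, pt 0) :=
  ⟨idx_pt (n := 23) (by norm_num), idx_pt (n := 0) (by norm_num)⟩

theorem exists_ab : ∀ P ∈ [A, B], ∃ g : G, GE.pk (incl _ g) = P :=
  exists_pk_of_chkGens (cProd cPt cPt) rel0 (by decide +kernel)

theorem pow_smul {g : G} {P : ℕ} (h : GE.pk (incl _ g) = P) (n : ℕ) (x : GolayPt) :
    g ^ n • x = (fn P)^[n] x := by
  have e : (fun y : GolayPt => g • y) = fn P := funext fun y => h ▸ GE.apply_eq (incl _ g) y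
  rw [← smul_iterate_apply, e]

theorem ext_G {g h : G} (e : ∀ x : GolayPt, g • x = h • x) : g = h :=
  incl_injective _ (Equiv.ext e)

section
variable {a b : G} (ha : GE.pk (incl _ a) = A) (hb : GE.pk (incl _ b) = B)

include ha in
theorem order_a : orderOf a = 11 := by
  have : Fact (Nat.Prime 11) := ⟨by norm_num⟩
  refine orderOf_eq_prime (ext_G fun x => ?_) fun h => ?_
  · rw [pow_smul ha, one_smul]; revert x; decide +kernel
  · have := pow_smul ha 1 (pt 1)
    rw [h, one_pow, one_smul] at this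
    revert this; decide +kernel

include hb in
theorem order_b : orderOf b = 5 := by
  have : Fact (Nat.Prime 5) := ⟨by norm_num⟩
  refine orderOf_eq_prime (ext_G fun x => ?_) fun h => ?_
  · rw [pow_smul hb, one_smul]; revert x; decide +kernel
  · have := pow_smul hb 1 (pt 2)
    rw [h, one_pow, one_smul] at this
    revert this; decide +kernel

include ha hb in
theorem b_mem : b ∈ Subgroup.normalizer (Subgroup.zpowers a : Set G) := by
  have h : b * a * b⁻¹ = a ^ 3 := by
    rw [mul_inv_eq_iff_eq_mul]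
    refine ext_G fun x => ?_
    rw [mul_smul, mul_smul, pow_smul ha, ← pow_one a, pow_smul ha, ← pow_one b, pow_smul hb,
      pow_smul hb]
    revert x; decide +kernel
  refine Subgroup.mem_normalizer_fintype ?_
  rintro _ ⟨k, rfl⟩
  rw [← conj_zpow, h]
  exact Subgroup.zpow_mem _ (Subgroup.pow_mem _ (Subgroup.mem_zpowers a) 3) k

include ha in
theorem card_N_le : Nat.card (Subgroup.normalizer (Subgroup.zpowers a : Set G)) ≤ 24 * 24 := by
  rw [← card_golayPt, ← Fintype.card_prod, ← Nat.card_eq_fintype_card]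
  refine Nat.card_le_card_of_injective (fun g => (g.1 • pt 1, g.1 • pt 2)) fun g g' e => ?_
  have h1 : (g'⁻¹ * g).1 • pt 1 = pt 1 := by
    rw [Subgroup.coe_mul, mul_smul, Subgroup.coe_inv, inv_smul_eq_iff]; exact congrArg Prod.fst e
  have h2 : (g'⁻¹ * g).1 • pt 2 = pt 2 := by
    rw [Subgroup.coe_mul, mul_smul, Subgroup.coe_inv, inv_smul_eq_iff]; exact congrArg Prod.snd e
  rw [eq_comm, ← inv_mul_eq_one]
  generalize g'⁻¹ * g = h at h1 h2
  obtain ⟨h, hh⟩ := h
  have h3 := (Subgroup.mem_normalizer_iff.1 hh a).1 (Subgroup.mem_zpowers a)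
  classical
  rw [mem_zpowers_iff_mem_range_orderOf, order_a ha, Finset.mem_image] at h3
  obtain ⟨j, hj, e3⟩ := h3
  have h4 : a • pt 1 = pt 2 := by
    rw [← pow_one a, pow_smul ha]; decide +kernel
  have h5 : a ^ j • pt 1 = pt 2 := by
    rw [e3, mul_smul, mul_smul, inv_smul_eq_iff.2 h1.symm, h4]; exact h2
  rw [pow_smul ha] at h5
  obtain rfl : j = 1 := (by decide +kernel : ∀ j ∈ Finset.range 11, (fn A)^[j] (pt 1) = pt 2 → j = 1)
    j hj h5
  have h6 : ∀ i : ℕ, h • a ^ i • pt 1 = a ^ i • pt 1 := fun i => by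
    conv_rhs => rw [← pow_one a, e3, conj_pow, mul_smul, mul_smul, inv_smul_eq_iff.2 h1.symm]
  refine Subtype.ext (incl_injective _ (eq_one_of_fix_base h.1.2
    (fix_of_rigidOK h.1.2 (F := 8729439) [8663097] (by decide +kernel) fun z hz => ?_)))
  rcases (by decide +kernel : ∀ z ∈ bits 8729439, z = pt 23 ∨ z = pt 0 ∨
    ∃ i < 11, (fn A)^[i] (pt 1) = z) z hz with rfl | rfl | ⟨i, -, rfl⟩
  · exact congrArg Prod.fst h.2
  · exact congrArg Prod.snd h.2
  · rw [← pow_smul ha]; exact h6 i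

include ha hb in
theorem card_N : Nat.card (Subgroup.normalizer (Subgroup.zpowers a : Set G)) = 55 := by
  have h1 := index_normalizer_mod (by norm_num) (order_a ha) (by rw [card_G]; norm_num)
  have h2 := (Subgroup.normalizer (Subgroup.zpowers a : Set G)).card_mul_index
  have h3 := Subgroup.orderOf_dvd_natCard _ (b_mem ha hb)
  have h4 := Subgroup.orderOf_dvd_natCard _
    (Subgroup.le_normalizer (Subgroup.mem_zpowers a))
  have h5 := card_N_le ha
  rw [order_b hb] at h3
  rw [order_a ha] at h4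
  obtain ⟨m, hm⟩ := Nat.Coprime.mul_dvd_of_dvd_of_dvd (by norm_num) h3 h4
  rw [hm, card_G] at h2
  rw [hm] at h5 ⊢
  have : m ≤ 10 := by omega
  interval_cases m <;> omega

include ha hb in
theorem sylow_count {H : Subgroup G} (h : a ∈ H) :
    ∃ c i, c ∣ 55 ∧ c * i = Nat.card H ∧ i % 11 = 1 ∧ (c = 55 → b ∈ H) := by
  have h0 : orderOf (⟨a, h⟩ : H) = 11 := by rw [← Subgroup.orderOf_coe]; exact order_a ha
  have h1 := index_normalizer_mod (by norm_num) h0 fun hc => by
    have := hc.trans H.card_subgroup_dvd_card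
    rw [card_G] at this
    omega
  have h2 := Subgroup.le_normalizer_map (H := Subgroup.zpowers (⟨a, h⟩ : H)) H.subtype
  rw [MonoidHom.map_zpowers] at h2
  have h3 := Subgroup.card_map_of_injective
    (K := Subgroup.normalizer (Subgroup.zpowers (⟨a, h⟩ : H) : Set H)) H.subtype_injective
  refine ⟨_, _, ?_, Subgroup.card_mul_index _, h1, fun hc => ?_⟩
  · rw [← h3, ← card_N ha hb]; exact Subgroup.card_dvd_of_le h2
  · have h4 := Subgroup.eq_of_le_of_card_ge h2 (by rw [h3, hc]; exact (card_N ha hb).le)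
    have h5 := b_mem ha hb
    obtain ⟨y, -, rfl⟩ : b ∈ Subgroup.map H.subtype _ := by rw [h4]; exact h5
    exact y.2

/-- the action of the two generators on masks -/
noncomputable def ac (i c : ℕ) : ℕ := act (Bool.rec B A (Nat.beq i 1)) c

include ha hb in
theorem reach {H : Subgroup G} (h1 : a ∈ H) (h2 : b ∈ H) {c : ℕ} (hc : c < 2 ^ 24) {L : List ℕ}
    (ws : List ℕ) (h : ws.map (fun w => runWord ac 64 w c) = L) :
    ∀ m ∈ L, bits m ∈ orbit H (bits c) := by
  intro m hm
  obtain ⟨w, -, rfl⟩ := List.mem_map.1 (h ▸ hm)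
  obtain ⟨g, hg⟩ := runWord_rel (H := H) (act := ac) (rel := relM) (fun i _ c y hy => by
    unfold ac
    cases Nat.beq i 1
    · exact ⟨⟨b, h2⟩, cSet.smul (g := b.1) (hb ▸ isTab_pk _) hy⟩
    · exact ⟨⟨a, h1⟩, cSet.smul (g := a.1) (ha ▸ isTab_pk _) hy⟩) 64 w c _ ⟨hc, rfl⟩
  exact ⟨g, hg.2⟩

end

def L1 : List ℕ := [12656663, 10486557, 8675909, 9240913, 9506893, 8663097, 8524371, 8499969, 8398155, 8657159, 8716939]
def L2 : List ℕ := [15335473, 11046145, 15747077, 14254209, 10110017, 10666625, 12641313, 9607201, 12717187, 9193633, 11535529]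
def L3 : List ℕ := [13062145, 10496547, 8546577, 13370381, 12325377, 12650793, 9112069, 11575377, 12599513, 9347075, 13636881, 14747201, 11100169, 12880401, 13121601, 9048457, 9471495, 10506593, 8536111, 8431757, 11731203, 8471941, 9465987, 8946281, 13771273, 14950785, 8966165, 14716939, 13124355, 8505411, 9830549, 8688833, 8983587, 8391797, 10881097, 9776129, 9519665, 8593633, 8783649, 8412681, 8421811, 12747077, 11010247, 9748745, 10846245, 12587685, 9963547, 8922769, 10630149, 10557585, 13893731, 8619033, 10765331, 9440193, 9969957]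

theorem mem_L {o : Finset GolayPt} : (o ∈ octads ∧ pt 23 ∈ o ∧ pt 0 ∈ o) ↔
    ∃ m ∈ L1 ++ L2 ++ L3, bits m = o := by
  constructor
  · rintro ⟨ho, h1, h2⟩
    obtain ⟨x, hx, h8, rfl⟩ := mem_octads_iff.1 ho
    rw [pt_mem_bits (by norm_num), ← tb_eq] at h1 h2
    have key : all2 64 64 (fun x => force (enc x) fun e => bimp (Nat.beq (pc e) 8 && tb e 23 &&
      tb e 0) (anyL (L1 ++ L2 ++ L3) fun m => Nat.beq m e)) = true := by decide +kernel
    have := all2_iff.1 key x hx
    simp only [force_eq, bimp_iff, Bool.and_eq_true, beq_iff, anyL_iff] at this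
    obtain ⟨m, hm, e⟩ := this ⟨⟨h8, h1⟩, h2⟩
    exact ⟨m, hm, by rw [e]⟩
  · rintro ⟨m, hm, rfl⟩
    obtain ⟨h1, h2, h3, h4⟩ := (by decide +kernel : ∀ m ∈ L1 ++ L2 ++ L3, enc m = m ∧ pc m = 8 ∧
      m.testBit 23 = true ∧ m.testBit 0 = true) m hm
    exact ⟨bits_mem_octads h1 h2, (pt_mem_bits (by norm_num)).2 h3, (pt_mem_bits (by norm_num)).2 h4⟩

theorem smul_L (g : G) {m : ℕ} (hm : m ∈ L1 ++ L2 ++ L3) :
    ∃ m' ∈ L1 ++ L2 ++ L3, bits m' = g • bits m := by
  obtain ⟨h1, h2, h3⟩ := mem_L.2 ⟨m, hm, rfl⟩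
  refine mem_L.1 ⟨smul_mem_octads g.1.2 h1, ?_, ?_⟩
  · have := Finset.smul_mem_smul_finset (a := g.1) h2
    rwa [show g.1 • pt 23 = pt 23 from congrArg Prod.fst g.2] at this
  · have := Finset.smul_mem_smul_finset (a := g.1) h3
    rwa [show g.1 • pt 0 = pt 0 from congrArg Prod.snd g.2] at this

theorem T_ok : (cProd cPt cPt).chkFix ((23 : ℕ), (0 : ℕ))
    0xbd58b449ca79281834499c4c5b1c60ba8d40d9af13a0599e554b1035c480baeb65427108989748c438d0f6d0a0bc4b51d052311879a54f5a02e6da00b96c79342b9a5f510d0a740d423220b9e6da8c32b2590215d142c46a29e0ba0a25aacc0d2246d4c993a037cce0bc4c12d0e2191524bed37220d5b2a0bb5c14cc455d20862ac3abe4621e20b8cd60d10faba123cca2625aa59220b850f14589512a63bad0a4e4b195a0bb98b0a28f80eb254c45311a7b2620b9a34b24522b98d9d4640ad0f828e0bba6282da851251605253daa333e80bb2a27cace24530698b49a0233a960bdab49ca307b9ac5a928398a418820 = true := by decide +kernel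

theorem low1 : 57 ≤ (orbit G (fam L1)).ncard :=
  (cProd cPt cPt).le_orbit' cFam rel0 T_ok (c := L1) (relL_fam (by decide +kernel))
    (unpack 4096 [0x7805c05902708902201d01208d0580b80c4f1204707b0b708f03300b0a200700e03e00208b0fc0b004593202903f0c60e60da01407fa220880d8f2200a0790b30d40c802d0240f74220040010ea0350c006607c0b2]) 57 (by decide +kernel)

theorem low2 : 57 ≤ (orbit G (fam L2)).ncard :=
  (cProd cPt cPt).le_orbit' cFam rel0 T_ok (c := L2) (relL_fam (by decide +kernel))
    (unpack 4096 [0x91206904b0f40230d703a09c016028d320b90e50ff01f0050f306e00f7220740970060750f805605e0440260dc08006307a0aa0ed046c1201c0540900f60d00d904e09a0a80bf0670bc0390c90e90720c70090e206d]) 57 (by decide +kernel)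

theorem low3 : 57 ≤ (orbit G (fam (L1 ++ L2))).ncard :=
  (cProd cPt cPt).le_orbit' cFam rel0 T_ok (c := L1 ++ L2) (relL_fam (by decide +kernel))
    (unpack 4096 [0x7220640780490337120770d709d0db0100e40df06500cd128120b6083085f125320d6022052025069a320550f504b0f40b50420960a50cd0370030ab0bb0a40320d301e04d112036c32d220760c20fb07d0c30570dd]) 57 (by decide +kernel)

theorem mem_fam {L : List ℕ} {s : Finset GolayPt} : s ∈ fam L ↔ ∃ m ∈ L, bits m = s := by
  simp [fam]

theorem not_inv {H : Subgroup G} (hH : H.index = 56) {L : List ℕ} {Ω : Set (Finset GolayPt)}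
    (hΩ : ∀ h ∈ H, ∀ s, h • s ∈ Ω → s ∈ Ω) (h1 : ∀ m ∈ L, m ∈ L1 ++ L2 ++ L3 ∧ bits m ∉ Ω)
    (h2 : ∀ m ∈ L1 ++ L2 ++ L3, m ∈ L ∨ bits m ∈ Ω) : ¬ 57 ≤ (orbit G (fam L)).ncard := by
  have h3 : H ≤ stabilizer G (fam L) := fun h hh => by
    refine Finset.eq_of_subset_of_card_le (fun s hs => ?_) (by rw [Finset.card_smul_finset])
    obtain ⟨s, hs', rfl⟩ := Finset.mem_smul_finset.1 hs
    obtain ⟨m, hm, rfl⟩ := mem_fam.1 hs'
    obtain ⟨m', hm', e⟩ := smul_L h (h1 m hm).1
    exact mem_fam.2 ⟨m', (h2 m' hm').resolve_right fun hc => (h1 m hm).2 (hΩ h hh _ (e ▸ hc)), e⟩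
  have h4 := Nat.le_of_dvd (by rw [hH]; norm_num) (Subgroup.index_dvd_of_le h3)
  rw [index_stabilizer, hH] at h4
  omega

theorem std (H : Subgroup G) : H.index ≠ 56 ∧ H.index ≠ 210 := by
  obtain ⟨a, ha⟩ := exists_ab A (by simp)
  obtain ⟨b, hb⟩ := exists_ab B (by simp)
  have : Fact (Nat.Prime 11) := ⟨by norm_num⟩
  by_cases hd : 11 ∣ H.index
  · constructor <;> intro h <;> rw [h] at hd <;> omega
  obtain ⟨g, hg⟩ := exists_conj_mem_of_isPGroup (T := Subgroup.zpowers a)
    (IsPGroup.of_card (n := 1) (by rw [Nat.card_zpowers, order_a ha, pow_one])) hd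
  rw [← Subgroup.index_comap_of_surjective H (f := (MulAut.conj g).toMonoidHom)
    (MulAut.conj g).surjective]
  have h1 : a ∈ H.comap (MulAut.conj g).toMonoidHom := hg a (Subgroup.mem_zpowers a)
  generalize H.comap (MulAut.conj g).toMonoidHom = K at h1
  obtain ⟨c, i, hc, hi, hm, h2⟩ := sylow_count ha hb h1
  have h3 := K.index_mul_card
  rw [card_G] at h3
  have h4 : c = 1 ∨ c = 5 ∨ c = 11 ∨ c = 55 := by
    have := Nat.le_of_dvd (by norm_num) hc
    interval_cases c <;> omega
  refine ⟨fun h => ?_, fun h => by rw [h] at h3; rcases h4 with rfl | rfl | rfl | rfl <;> omega⟩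
  have h5 : Nat.card K = 7920 := by rw [h] at h3; omega
  have h6 : b ∈ K := h2 (by rcases h4 with rfl | rfl | rfl | rfl <;> omega)
  have r1 := reach ha hb h1 h6 (c := 12656663) (by norm_num) (L := L1)
    [0, 1, 2, 17, 33, 18, 34, 273, 545, 290, 4369] (by decide +kernel)
  have r2 := reach ha hb h1 h6 (c := 15335473) (by norm_num) (L := L2)
    [0, 1, 2, 17, 34, 273, 529, 290, 546, 4369, 4625] (by decide +kernel)
  have r3 := reach ha hb h1 h6 (c := 13062145) (by norm_num) (L := L3)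
    [0, 1, 2, 17, 33, 18, 34, 273, 529, 289, 545, 274, 530, 290, 546, 4369, 8465, 4625, 8721, 4385, 4641, 8737, 8466, 4626, 8722, 4386, 8482, 4642, 8738, 69905, 74001, 139537, 70161, 74257, 139793, 135713, 74273, 139809, 139538, 139794, 74018, 139554, 70178, 135714, 74274, 1118481, 2236945, 2232865, 2171425, 2236690, 1188370, 2232866, 17895697, 35725857, 35791122] (by decide +kernel)
  set Ω := orbit K (bits 13062145) with hΩ
  have hinv : ∀ h ∈ K, ∀ s, h • s ∈ Ω → s ∈ Ω := fun h hh s hs => by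
    have := mem_orbit_of_mem_orbit (⟨h, hh⟩ : K)⁻¹ hs
    exact (inv_smul_smul h s) ▸ this
  have hiff : ∀ {s t : Finset GolayPt}, s ∈ orbit K t → (s ∈ Ω ↔ t ∈ Ω) := by
    rintro _ t ⟨k, rfl⟩
    exact ⟨hinv k k.2 t, mem_orbit_of_mem_orbit k⟩
  by_cases c1 : bits 12656663 ∈ Ω <;> by_cases c2 : bits 15335473 ∈ Ω
  · have h7 : Ω = (fam (L1 ++ L2 ++ L3) : Finset (Finset GolayPt)) := by
      ext s
      rw [Finset.mem_coe, mem_fam]
      constructor
      · rintro ⟨k, rfl⟩
        exact smul_L k.1 (by decide)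
      · rintro ⟨m, hm, rfl⟩
        simp only [List.mem_append] at hm
        rcases hm with (hm | hm) | hm
        exacts [(hiff (r1 m hm)).2 c1, (hiff (r2 m hm)).2 c2, r3 m hm]
    have h8 := card_eq_orbit_mul_stab (G := K) (bits 13062145)
    rw [← hΩ, h7, Set.ncard_coe_finset, (relL_fam (by decide +kernel)).card, h5,
      show (L1 ++ L2 ++ L3).length = 77 by decide] at h8
    omega
  · refine not_inv h hinv (fun m hm => ⟨by simp [hm], mt (hiff (r2 m hm)).1 c2⟩) (fun m hm => ?_) low2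
    simp only [List.mem_append] at hm
    rcases hm with (hm | hm) | hm
    exacts [.inr ((hiff (r1 m hm)).2 c1), .inl hm, .inr (r3 m hm)]
  · refine not_inv h hinv (fun m hm => ⟨by simp [hm], mt (hiff (r1 m hm)).1 c1⟩) (fun m hm => ?_) low1
    simp only [List.mem_append] at hm
    rcases hm with (hm | hm) | hm
    exacts [.inl hm, .inr ((hiff (r2 m hm)).2 c2), .inr (r3 m hm)]
  · refine not_inv h hinv (fun m hm => ⟨List.mem_append_left _ hm, ?_⟩) (fun m hm => ?_) low3
    · rcases List.mem_append.1 hm with hm | hm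
      exacts [mt (hiff (r1 m hm)).1 c1, mt (hiff (r2 m hm)).1 c2]
    · exact (List.mem_append.1 hm).imp_right (r3 m)

/-- The stabiliser of two points in the group of the length-24 code has no subgroups of index 56 or 210. -/
theorem result (p q : Cfsg.GolayPt) (hpq : p ≠ q) (H : Subgroup ↥(MulAction.stabilizer Cfsg.M24 p ⊓ MulAction.stabilizer Cfsg.M24 q)) : H.index ≠ 56 ∧ H.index ≠ 210 := by
  revert H
  rw [← stab_prod]
  intro H
  obtain ⟨g, hg, e⟩ := m24_exists_apply_eq (t := 2) (by norm_num) ![pt 23, pt 0] ![p, q] (by decide)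
    (by
      intro i j
      fin_cases i <;> fin_cases j <;> simp_all [eq_comm])
  obtain ⟨e1⟩ := stab_equiv (show (⟨g, hg⟩ : M24) • (pt 23, pt 0) = (p, q) from Prod.ext (e 0) (e 1))
  rw [← Subgroup.index_comap_of_surjective H (f := e1.toMonoidHom) e1.surjective]
  exact std _

end Cfsg.Agent.S1606
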