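import Cfsg.Statements.S1642
import Cfsg.Agent.H55.CfgThm

set_option autoImplicit false
open Cfsg

set_option maxRecDepth 100000

namespace Cfsg.Agent.S1642

open Cfsg.Agent.H14 Cfsg.Agent.H15 Cfsg.Agent.H55

def Z : ℕ := nat_lit 0x150011001100110011001100110011001100110011001100110011001100110011001100110011000d00110011000d0011000d000d00110011001100110011000d00110011000d0011001100110011001100110011001100110011000d00110011000d0011000d00110011000d001100110011000d001100110011000d00110011001100110011001100110011001100110011000d0011000d00110011000d0011000d000d0011001100110011001100110011001100110011001100110011001100110011000d000d0011001100110011001100110011000d001100110011001100110011000d00110011000d0011001100110011001100110011000d00110011000d00110011001100110011001100110011000d00110011000d000d001100110011000d00110011000d000d00110011001100110011000d0011001100110011000d001100110011001100110011001100110011000d001100110011000d001100110011000d00110011001100110011000d001100110011000d001100110011000d0011001100110011001100110011000d001100110011001100110011000d000d0011000d0011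001100110011001100110011000d0011000d00110011000d000d00110011001100110011000d0011001100110011001100110011001100110011000d000d001100110011001100110011001100110011000d00110011000d0011000d001100110011001100110011000d00110011001100110011000d0011001100110011000d00110011000d00110011000d001100110011001100110011001100110011000d0011000d0011001100110011000d001100110011000d000d00110011001100110011001100110011001100110011001100110011001100110011000d00110011000d0011000d0011000d0011001100110011000d001100110011000d00110011001100110011001100110011001100110011000d000d001100110011000d0011000d00110011001100110011001100110011001100110011000d0011000d000d000d000d00110011001100110011001100110011001100110011001100110011001100110011000d0011000d0011000d001100110011000d0011001100110011000d00110011001100110011001100110011000d000d000d0011001100110011000d00110011001100110011000d001100110011001100110011001100110011000d0011001100110011000d000d001100110011001100110011000d000d00110011001100110011001100110011000d001100110011000d00110011001100110011000d00110011000d000d00110011001100110011000d0011001100110011001100110011001100110011001100110011001100110011001100110011001500110011000d00110011001100110011000d0011000d001100110011001100110011000d0011000d00110011001100110011000d00110011000d00110011000d000d0011001100110011001100110011000d0011001100110011001100110011000d00110011000d0011001100110011001100110011001100110011001100110011001100110011001100110011000d001100110015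

theorem Z_ok : ∀ X ∈ [Z], ∃ g, HasMat g X := hasMat_all (by decide +kernel)

theorem Z_fix : fxOK [Z] [CfgHS.w, CfgHS.v] = true := by decide +kernel

theorem Z_sq : eqOK (stT 1 [Z]) [0, 0] [] = true := by decide +kernel

theorem Z_mv : orbOK (stT CfgHS.A.length CfgHS.A) (fun r => stT 1 [Z] 0 r (nePM r)) CfgHS.l1_c1 = true := by
  decide +kernel

theorem std : ∃ z ∈ Fx [lpt CfgHS.w, lpt CfgHS.v], z * z = 1 ∧
    ∀ x ∈ XS [lpt CfgHS.w, lpt CfgHS.v] [-24, 24], z • x ≠ x := by
  obtain ⟨z, h1, h2⟩ := exists_stp Z_ok Z_fix
  obtain ⟨g, h3, h4⟩ := exists_stp CfgHS.A_ok CfgHS.l1_fix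
  obtain ⟨S, h5, h6⟩ := orbOK_sound h3 h4 Z_mv
  refine ⟨z 0, h2 0, by simpa [wp] using h1.eq Z_sq, fun x hx e => ?_⟩
  have h7 := ((hs1 (v := lpt CfgHS.v) (w := lpt CfgHS.w) (lpt_norm (by decide +kernel)) (lpt_norm (by decide +kernel))
    (lpt_dot (by decide +kernel))).1 (-24, 100) (by simp)).1
  have h8 : (S : Set leechLattice) = XS [lpt CfgHS.w, lpt CfgHS.v] [-24, 24] := Set.eq_of_subset_of_ncard_le
    (fun y hy => orbit_subset_XS (lpt_XS (fx := [_, _]) (by decide +kernel)) (h6 y hy).1)
    (by rw [h7, Set.ncard_coe_finset, h5]; rfl) (Set.finite_of_ncard_ne_zero (by rw [h7]; decide))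
  obtain ⟨-, r, h9, h10⟩ := h6 x (h8.ge hx)
  obtain ⟨r', h11, h12⟩ := h1 0 r x _ h9 h10
  exact (ne_of_nePM h11).1 (by rw [h12, e, h9])


/-- Some involution of the Higman–Sims group acts without fixed points on its 100 points. -/
theorem result (v w : ↥Cfsg.leechLattice) (hv : Cfsg.sqNorm (v : Cfsg.GolayPt → ℤ) = 48) (hw : Cfsg.sqNorm (w : Cfsg.GolayPt → ℤ) = 48) (hvw : Cfsg.dotInt (v : Cfsg.GolayPt → ℤ) (w : Cfsg.GolayPt → ℤ) = -32) : ∃ g : ↥Cfsg.Co0, g • v = v ∧ g • w = w ∧ orderOf g = 2 ∧ ∀ x ∈ {x : ↥Cfsg.leechLattice | Cfsg.sqNorm (x : Cfsg.GolayPt → ℤ) = 32 ∧ Cfsg.dotInt (v : Cfsg.GolayPt → ℤ) (x : Cfsg.GolayPt → ℤ) = 24 ∧ Cfsg.dotInt (w : Cfsg.GolayPt → ℤ) (x : Cfsg.GolayPt → ℤ) = -24}, g • x ≠ x := by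
  have e : {x : leechLattice | sqNorm (x : Vec) = 32 ∧ dotInt (v : Vec) (x : Vec) = 24 ∧
      dotInt (w : Vec) (x : Vec) = -24} = XS [w, v] [-24, 24] := Set.ext fun y => mem_XS2.symm
  rw [e]
  obtain ⟨z, h1, h2, h3⟩ := std
  obtain ⟨g, hg⟩ := tr_hs hv hw hvw
  have k : ∀ x ∈ XS [w, v] [-24, 24], (g * z * g⁻¹) • x ≠ x := fun x hx e => h3 (g⁻¹ • x)
    ((smul_mem_XS g).1 (by rwa [hg, smul_inv_smul])) (by rw [eq_inv_smul_iff, ← mul_smul, ← mul_smul, e])
  obtain ⟨x, hx⟩ := ((hs1 hv hw hvw).1 (-24, 100) (by simp)).2.1
  simp only [List.map_cons, List.cons.injEq] at hg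
  refine ⟨g * z * g⁻¹, ?_, ?_, orderOf_eq_prime ?_ fun e => k x hx (by rw [e, one_smul]), k⟩
  · rw [← hg.2.1, mul_smul, inv_smul_smul, mul_smul, h1 _ (by simp)]
  · rw [← hg.1, mul_smul, inv_smul_smul, mul_smul, h1 _ (by simp)]
  · rw [conj_pow, sq, h2, mul_one, mul_inv_cancel]

end Cfsg.Agent.S1642
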