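import Cfsg.Statements.S1646
import Cfsg.Agent.H7.J4Rec
import Cfsg.Agent.SGJ4.Main
import Cfsg.Agent.SGJ4.Order

set_option autoImplicit false
open Cfsg

namespace Cfsg.Agent.S1646

/-- The fourth Janko group from an involution centraliser: suppose a finite simple group has an involution t whose centraliser C has normal subgroups Q ≤ N ≤ M with M of index 2 and every element of C that centralises M / N lying in M, Q extraspecial of order 2 ^ 13 and containing its centraliser in C, containing an elementary abelian subgroup of order 2 ^ 7, N / Q of order 3 and central in M / Q, M / Q perfect, and M / N isomorphic to the Mathieu group M₂₂. Then the group has exactly two conjugacy classes of involutions and order 2^21·3^3·5·7·11^3·23·29·31·37·43. -/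
theorem result {G : Type*} [Group G] [Finite G] [IsSimpleGroup G] (t : G) (ht : orderOf t = 2) (Q N M : Subgroup (Subgroup.centralizer ({t} : Set G))) [Q.Normal] [N.Normal] [M.Normal] (hQN : Q ≤ N) (hNM : N ≤ M) (hM : M.index = 2) (hQ : Cfsg.IsExtraspecial 2 Q) (hcard : Nat.card Q = 2 ^ 13) (hplus : ∃ E : Subgroup Q, Cfsg.IsElementaryAbelian 2 E ∧ Nat.card E = 2 ^ 7) (hN : Nat.card N = 3 * Nat.card Q) (hcent : ⁅M, N⁆ ≤ Q) (hperf : M ≤ ⁅M, M⁆ ⊔ Q) (h2c : Subgroup.centralizer (Q : Set (Subgroup.centralizer ({t} : Set G))) ≤ Q) (hout : ∀ c : Subgroup.centralizer ({t} : Set G), (∀ m ∈ M, c * m * c⁻¹ * m⁻¹ ∈ N) → c ∈ M) (hM22 : Cfsg.Spor.IsoM22 (M ⧸ N.subgroupOf M)) : Cfsg.IsJ4 G ∧ ∃ x y : G, orderOf x = 2 ∧ orderOf y = 2 ∧ ¬ IsConj x y ∧ ∀ z : G, orderOf z = 2 → IsConj z x ∨ IsConj z y := by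
  obtain ⟨ψ⟩ := hM22
  have tC : t ∈ Subgroup.centralizer ({t} : Set G) := Subgroup.mem_centralizer_singleton_iff.2 rfl
  obtain ⟨p, π, h1, h2, h3, h4, h5⟩ := H7.J4.exists_pre (z := ⟨t, tC⟩)
    (by rw [← Subgroup.orderOf_coe]; exact ht)
    (fun h => Subtype.ext (Subgroup.mem_centralizer_singleton_iff.1 h.2)) hQN hNM hM hQ hcard hN
    hcent hperf h2c hout ψ
  have czp : ∀ s, ((SGJ4.zp (⟨t, tC⟩ : Subgroup.centralizer ({t} : Set G)) s :
      Subgroup.centralizer ({t} : Set G)) : G) = SGJ4.zp t s := fun s => by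
    unfold SGJ4.zp; split_ifs <;> rfl
  obtain ⟨S, -⟩ := SGJ4.Setup1.exists_setup (G := G) ⟨t, p, π, ht,
    (Subgroup.orderOf_coe p).trans h1, p.2, h2, h3,
    fun h e => (h4 h e).imp (congrArg Subtype.val) (congrArg Subtype.val),
    fun h v e => (congrArg Subtype.val (h5 h v e)).trans (czp _)⟩
  exact ⟨⟨‹_›, S.card_G⟩, S.z, S.t, S.ord_z,
    (SGJ4.Setup.orderOf_th SGJ4.tN_mem).trans H7.J4.orderOf_tN, H7.J4.not_isConj,
    fun z hz => (SGJ4.Setup.two' hz).imp IsConj.symm IsConj.symm⟩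

end Cfsg.Agent.S1646
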