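import Cfsg.Statements.S1761
import Cfsg.Agent.DW.Main
import Cfsg.Agent.H8.LargeX4

set_option autoImplicit false
open Cfsg

namespace Cfsg.Agent.S1761

/-- Let G be a finite simple group and let z be an involution of G such that Q, the generalized Fitting subgroup of the centralizer C of z, is a 2-group of symplectic type (every characteristic abelian subgroup of Q is cyclic); suppose moreover that Q is extraspecial of order 2^(2n+1) with n ≥ 3. Then G is isomorphic to the projective special linear group of dimension n + 2 over the field with 2 elements, or n = 3 and G is isomorphic to the Mathieu group of degree 24 or to the Held group, or C acts irreducibly on Q/⟨z⟩: every normal subgroup of C lying between the subgroup generated by z and Q is one of these two. -/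
theorem result {G : Type*} [Group G] [Finite G] [IsSimpleGroup G] (z : G) (hz : orderOf z = 2) (hQ : Cfsg.IsOfSymplecticType ↥(Cfsg.generalizedFittingSubgroup ↥(Subgroup.centralizer ({z} : Set G)))) (hE : Cfsg.IsExtraspecial 2 ↥(Cfsg.generalizedFittingSubgroup ↥(Subgroup.centralizer ({z} : Set G))))
    (n : ℕ) (hn : 3 ≤ n) (hcard : Nat.card ↥(Cfsg.generalizedFittingSubgroup ↥(Subgroup.centralizer ({z} : Set G))) = 2 ^ (2 * n + 1)) :
    (∃ (F : Type) (_ : Field F) (_ : Fintype F), Fintype.card F = 2 ∧ Nonempty (G ≃* Matrix.ProjectiveSpecialLinearGroup (Fin (n + 2)) F)) ∨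
      (n = 3 ∧ (Cfsg.Spor.IsoM24 G ∨ Cfsg.Spor.IsoHe G)) ∨
      (∀ A : Subgroup ↥(Subgroup.centralizer ({z} : Set G)), A.Normal → Subgroup.zpowers (⟨z, Subgroup.mem_centralizer_singleton_iff.mpr rfl⟩ : ↥(Subgroup.centralizer ({z} : Set G))) ≤ A →
        A ≤ Cfsg.generalizedFittingSubgroup ↥(Subgroup.centralizer ({z} : Set G)) → A = Subgroup.zpowers (⟨z, Subgroup.mem_centralizer_singleton_iff.mpr rfl⟩ : ↥(Subgroup.centralizer ({z} : Set G))) ∨ A = Cfsg.generalizedFittingSubgroup ↥(Subgroup.centralizer ({z} : Set G))) := by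
  have : Fact (Nat.Prime 2) := ⟨Nat.prime_two⟩
  have e := (generalizedFittingSubgroup (Subgroup.centralizer ({z} : Set G))).equivMapOfInjective _
    (Subgroup.subtype_injective _)
  obtain ⟨L, hO⟩ := H8.lx_of_FSof hz rfl (H15.isExtraspecial_congr e hE)
  by_contra k
  simp only [not_or, not_forall] at k
  obtain ⟨k1, k2, A, hA, h1, h2, h3, h4⟩ := k
  rcases DW.dw (A := A.map (Subgroup.subtype _)) L hn (Nat.card_congr e.toEquiv ▸ hcard)
    (fun P hP h h' => hO ▸ H44.le_pCoreOf (fun p hp => Subgroup.mem_centralizer_singleton_iff.2 (h p hp))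
      (fun g hg => H4.mem_normalizer_of_conj_mem (h' g (Subgroup.mem_centralizer_singleton_iff.1 hg))) hP)
    (by
      rintro g hg _ ⟨a, ha, rfl⟩
      exact ⟨_, hA.conj_mem a ha ⟨g, Subgroup.mem_centralizer_singleton_iff.2 hg⟩, rfl⟩)
    ⟨_, h1 (Subgroup.mem_zpowers _), rfl⟩ (by
      obtain ⟨a, ha, n⟩ := SetLike.exists_of_lt (lt_of_le_of_ne h1 (Ne.symm h3))
      rw [H15.mem_zpowers_two (Subtype.ext L.sq), not_or] at n
      exact ⟨a, ⟨a, ha, rfl⟩, ⟨a, h2 ha, rfl⟩, fun e => n.1 (Subtype.ext e),
        fun e => n.2 (Subtype.ext e)⟩)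
    (fun k => h4 (le_antisymm h2 ((Subgroup.map_le_map_iff_of_injective
      (Subgroup.subtype_injective _)).1 k))) with h | h
  · exact k1 ⟨ZMod 2, inferInstance, inferInstance, ZMod.card 2, h⟩
  · exact k2 h

end Cfsg.Agent.S1761
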