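import Cfsg.Statements.S1659
import Cfsg.Agent.H24.He.Red
import Cfsg.Agent.S1761
import Cfsg.Agent.H14.MathieuIso

set_option autoImplicit false
open Cfsg

namespace Cfsg.Agent.S1659

/-- Uniqueness of the Held group at the level of isomorphism: a finite simple group of order 4030387200 with exactly two conjugacy classes of involutions, having an involution t whose centraliser C has a normal subgroup Q, extraspecial of order 2 ^ 7 with an elementary abelian subgroup of order 16, whose centraliser in C lies in Q, and with C / Q isomorphic to SL(3, 2), is isomorphic to the presented Held group. -/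
theorem result {G : Type*} [Group G] [Finite G] [IsSimpleGroup G] (t : G) (ht : orderOf t = 2) (Q : Subgroup (Subgroup.centralizer ({t} : Set G))) [Q.Normal] (hQ : Cfsg.IsExtraspecial 2 Q) (hcard : Nat.card Q = 2 ^ 7) (hplus : ∃ E : Subgroup Q, Cfsg.IsElementaryAbelian 2 E ∧ Nat.card E = 2 ^ 4) (h2c : Subgroup.centralizer (Q : Set (Subgroup.centralizer ({t} : Set G))) ≤ Q) (e : (Subgroup.centralizer ({t} : Set G)) ⧸ Q ≃* Matrix.SpecialLinearGroup (Fin 3) (ZMod 2)) (hG : Nat.card G = 4030387200) (htwo : ∃ x y : G, orderOf x = 2 ∧ orderOf y = 2 ∧ ¬ IsConj x y ∧ ∀ z : G, orderOf z = 2 → IsConj z x ∨ IsConj z y) : Cfsg.Spor.IsoHe G := by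
  have hF := H24.gfit_eq hQ.1.1 h2c e
  rcases S1761.result t ht (hF ▸ H24.symp_of_extraspecial hQ (by rw [hcard]; norm_num)) (hF ▸ hQ) 3
    le_rfl (hF ▸ hcard) with ⟨F, _, _, h1, ⟨φ⟩⟩ | ⟨-, ⟨⟨φ⟩⟩ | h⟩ | h
  · have h2 := H9.gcd_mul_card_psl (ι := Fin (3 + 2)) (F := F)
    have h3 := H9.card_sl_fin (F := F) (3 + 2) (by norm_num)
    rw [← h2, ← Nat.card_congr φ.toEquiv, hG, h1] at h3
    exact absurd h3 (by decide)
  · have h2 := Nat.card_congr φ.toEquiv
    rw [hG] at h2
    exact absurd (h2.trans H14.card_M24) (by norm_num)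
  · exact h
  · obtain ⟨A, h1, h2, h3⟩ := H24.exists_between hQ hcard e
    let z : Subgroup.centralizer ({t} : Set G) := ⟨t, Subgroup.mem_centralizer_singleton_iff.mpr rfl⟩
    have hz : ∀ y : Subgroup.centralizer ({t} : Set G), y * z = z * y := fun y =>
      Subtype.ext (Subgroup.mem_centralizer_singleton_iff.1 y.2)
    have h4 : Subgroup.zpowers z = (Subgroup.center Q).map Q.subtype := by
      refine Subgroup.eq_of_le_of_card_ge (Subgroup.zpowers_le.2 ⟨⟨z, h2c fun y _ => hz y⟩,
        Subgroup.mem_center_iff.2 fun y => Subtype.ext (hz y), rfl⟩) ?_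
      rw [Subgroup.card_subtype, hQ.2, Nat.card_zpowers, ← Subgroup.orderOf_coe, ht]
    rw [hF] at h
    rcases h A h1 (h4 ▸ h2.le) h3.le with h5 | h5
    · exact absurd (h5.trans h4) h2.ne'
    · exact absurd h5 h3.ne

end Cfsg.Agent.S1659
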