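import Cfsg.Statements.S1712
import Cfsg.Agent.J4P.Main
import Cfsg.Agent.J4P.Cover

set_option autoImplicit false
open Cfsg

namespace Cfsg.Agent.S1712

open Cfsg.Agent.SGJ4 Cfsg.Agent.J4P Cfsg.Agent.H14 Subgroup AG

noncomputable def ck3 : ℕ := cN (nat_lit 0x34d071bece8c897606022aa806ad35) (nat_lit 0)

theorem exists_conj {Γ : Type*} [Group Γ] (A : Amal Γ) : ∃ g ∈ Ks,
    (ex A.φ ky * ((ex A.φ ky * ex A.φ kx) ^ 4 * (ex A.φ ky)⁻¹ * ex A.φ kx)⁻¹ * A.t *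
      ((ex A.φ ky * ex A.φ kx) ^ 4 * (ex A.φ ky)⁻¹ * ex A.φ kx)) ^ 3 =
      (ex A.φ g)⁻¹ * ex A.φ zN * ex A.φ g := by
  have h1 : InS KT ck3 := inS_KT (by decide +kernel)
  have hk := KT_le_Ks h1.ofC_mem
  have hx := Ks_le_Ns kx_mem
  have hy := Ks_le_Ns ky_mem
  have h2 := mul_mem (pow_mem (mul_mem ky_mem kx_mem) 4) (inv_mem ky_mem)
  have h3 := mul_mem h2 kx_mem
  have h4 : ofC ck3 * ((ky * kx) ^ 4 * ky⁻¹ * kx) * ky =
      rz * (ofC ck3 * ((ky * kx) ^ 4 * ky⁻¹ * kx)) := by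
    have e : cd ky⁻¹ = cmul cky cky := cd_xyL 2
    rw [← cd_inj]
    simp only [cd_mul, cd_pow, e]
    simp only [h1.cd_ofC, rz, kx, ky, inS_crz.cd_ofC, inS_ckx.cd_ofC, inS_cky.cd_ofC]
    decide +kernel
  have hr : rz ∈ Ks := KS_le_Ks inS_crz.ofC_mem
  have h5 := congrArg (ex A.φ) h4
  have h6 := Ks_le_Ns (mul_mem hk h3)
  refine ⟨_, mul_mem (inv_mem hr) (mul_mem hk h3), ?_⟩
  rw [ex_mul h6 hy, ex_mul (Ks_le_Ns hr) h6, ex_mul (Ks_le_Ns hk) (Ks_le_Ns h3)] at h5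
  rw [← ex_mul hy hx, ← ex_pow (mul_mem hy hx), ← ex_inv hy,
    ← ex_mul (pow_mem (mul_mem hy hx) 4) (inv_mem hy), ← ex_mul (Ks_le_Ns h2) hx, ← A.hyp,
    ex_mul (inv_mem (Ks_le_Ns hr)) h6, ex_mul (Ks_le_Ns hk) (Ks_le_Ns h3), ex_inv (Ks_le_Ns hr)]
  have h7 := A.comm _ h1.ofC_mem
  generalize ex A.φ (ofC ck3) = a, ex A.φ ((ky * kx) ^ 4 * ky⁻¹ * kx) = b, ex A.φ rz = r,
    ex A.φ ky = y at h5 h7 ⊢
  refine Eq.trans ?_ (conj_pow.trans (by rw [inv_inv]))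
  congr 1
  calc _ = (a * b)⁻¹ * (a * b * y) * b⁻¹ * A.t * b := by group
    _ = (a * b)⁻¹ * r * (a * A.t) * b := by rw [h5]; group
    _ = _ := by rw [← h7]; group

theorem closure_eq {Γ : Type*} [Group Γ] (A : Amal Γ) {g : AG} (hg : g ∈ Ks) :
    closure {ex A.φ kx, ex A.φ ky, (ex A.φ g)⁻¹ * ex A.φ zN * ex A.φ g} = A.φ.range := by
  refine le_antisymm ((closure_le _).2 ?_) ?_
  · rintro _ (rfl | rfl | rfl)
    exacts [ex_mem_range _, ex_mem_range _,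
      mul_mem (mul_mem (inv_mem (ex_mem_range _)) (ex_mem_range _)) (ex_mem_range _)]
  set K := closure {ex A.φ kx, ex A.φ ky, (ex A.φ g)⁻¹ * ex A.φ zN * ex A.φ g}
  have k : ∀ {a}, a ∈ Ns → (a ∈ (K.comap A.φ).map Ns.subtype ↔ ex A.φ a ∈ K) := fun {a} ha => by
    rw [ex_eq ha]
    exact mem_map_iff_mem (x := (⟨a, ha⟩ : Ns)) Ns.subtype_injective
  have h1 : Ks ≤ (K.comap A.φ).map Ns.subtype := by
    rw [Ks_eq, closure_le]
    rintro _ (rfl | rfl)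
    exacts [(k (Ks_le_Ns kx_mem)).2 (subset_closure (by simp)),
      (k (Ks_le_Ns ky_mem)).2 (subset_closure (by simp))]
  have h2 := (k (Ks_le_Ns hg)).1 (h1 hg)
  have h3 : ex A.φ zN ∈ K := (mul_mem_cancel_left (inv_mem h2)).1
    ((mul_mem_cancel_right h2).1 (subset_closure (by simp)))
  rintro _ ⟨a, rfl⟩
  rw [← ex_coe]
  exact (k a.2).1 ((Ns_eq.trans_le (sup_le h1 (zpowers_le.2 ((k zN_mem).2 h3)))) a.2)

/-- In the presented fourth Janko group (generators x, y, t), the subgroup generated by the images of x, y and (y * w⁻¹ * t * w) ^ 3 with w = (y * x) ^ 4 * y⁻¹ * x has index 173067389. -/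
theorem result : (((Subgroup.closure ({Cfsg.Spor.J4.x, Cfsg.Spor.J4.y, (Cfsg.Spor.J4.y * ((Cfsg.Spor.J4.y * Cfsg.Spor.J4.x) ^ 4 * Cfsg.Spor.J4.y⁻¹ * Cfsg.Spor.J4.x)⁻¹ * Cfsg.Spor.J4.t * ((Cfsg.Spor.J4.y * Cfsg.Spor.J4.x) ^ 4 * Cfsg.Spor.J4.y⁻¹ * Cfsg.Spor.J4.x)) ^ 3} : Set (FreeGroup Cfsg.Spor.J4.Gen))).map (PresentedGroup.mk (Cfsg.Spor.coxRelators Cfsg.Spor.J4.edges ∪ {r | r ∈ Cfsg.Spor.J4.extra})))).index = 173067389 := by
  obtain ⟨A, h1, h2, h3, -, h4, -⟩ := exists_amal_J4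
  obtain ⟨g, hg, e⟩ := exists_conj A
  have h5 := closure_eq A hg
  rw [← e, h1, h2, h3] at h5
  have h6 := card_mul_index A.φ.range
  rw [← Nat.card_congr (MonoidHom.ofInjective h4).toEquiv, card_Ns, card_J4, ← h5] at h6
  rw [MonoidHom.map_closure, Set.image_insert_eq, Set.image_pair]
  simp only [map_mul, map_pow, map_inv]
  exact Nat.eq_of_mul_eq_mul_left (by decide) (h6.trans (by decide))

end Cfsg.Agent.S1712
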