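import Cfsg.Statements.S1725
import Cfsg.Agent.H91.SuzY
import Cfsg.Agent.H91.SuzA

set_option autoImplicit false
open Cfsg

namespace Cfsg.Agent.S1725

open Cfsg.Agent.H91

/-- A 3-local step in the uniqueness proof for the sporadic Suzuki group: let G satisfy the large-extraspecial hypothesis with Q of order 2 ^ 7, quotient Ω⁻(6, 2) and z not weakly closed in Q, and let X be a subgroup of order 3 of the centraliser C of z with the commutator subgroup of Q and X of order 8 and non-abelian (a quaternion group). Then for any Sylow 3-subgroup P of the normaliser of X in G, P is a Sylow 3-subgroup of G (its index in G is prime to 3), and P contains an elementary abelian subgroup A of order 3 ^ 5 with C_G(A) = A and N_G(A) / A isomorphic to the Mathieu group M₁₁. -/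
theorem result {G : Type*} [Group G] [Finite G] (z : G) (hz : orderOf z = 2) (Q : Subgroup (Subgroup.centralizer ({z} : Set G))) [Q.Normal] (hF : Cfsg.generalizedFittingSubgroup (Subgroup.centralizer ({z} : Set G)) = Q) (hQ : Cfsg.IsExtraspecial 2 Q) (hcard : Nat.card Q = 2 ^ 7) (e : (Subgroup.centralizer ({z} : Set G)) ⧸ Q ≃* Cfsg.Omega (ZMod 2) (Cfsg.quadFormMinus 2 (ZMod 2) 1 1)) (hnwc : ∃ g : G, (∃ hq : g * z * g⁻¹ ∈ Subgroup.centralizer ({z} : Set G), (⟨g * z * g⁻¹, hq⟩ : Subgroup.centralizer ({z} : Set G)) ∈ Q) ∧ g * z * g⁻¹ ≠ z) (X : Subgroup (Subgroup.centralizer ({z} : Set G))) (hX : Nat.card X = 3) (hQX : Nat.card ↥⁅Q, X⁆ = 8) (hQXna : ¬ IsMulCommutative ↥⁅Q, X⁆) (P : Sylow 3 ↥(Subgroup.normalizer ((X.map (Subgroup.subtype (Subgroup.centralizer ({z} : Set G))) : Subgroup G) : Set G))) : ¬ 3 ∣ (((P : Subgroup ↥(Subgroup.normalizer ((X.map (Subgroup.subtype (Subgroup.centralizer ({z} : Set G))) : Subgroup G) : Set G))).map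 (Subgroup.subtype (Subgroup.normalizer ((X.map (Subgroup.subtype (Subgroup.centralizer ({z} : Set G))) : Subgroup G) : Set G)))).index) ∧ ∃ A : Subgroup G, A ≤ (P : Subgroup ↥(Subgroup.normalizer ((X.map (Subgroup.subtype (Subgroup.centralizer ({z} : Set G))) : Subgroup G) : Set G))).map (Subgroup.subtype (Subgroup.normalizer ((X.map (Subgroup.subtype (Subgroup.centralizer ({z} : Set G))) : Subgroup G) : Set G))) ∧ Cfsg.IsElementaryAbelian 3 A ∧ Nat.card A = 3 ^ 5 ∧ Subgroup.centralizer (A : Set G) = A ∧ ∃ _ : (A.subgroupOf (Subgroup.normalizer (A : Set G))).Normal, Cfsg.Spor.IsoM11 (↥(Subgroup.normalizer (A : Set G)) ⧸ A.subgroupOf (Subgroup.normalizer (A : Set G))) := by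
  obtain ⟨ψ, hψ⟩ := SuzY.exists_equiv ⟨hz, hF, hQ, hcard, hnwc⟩ e hX hQX hQXna
  revert P
  rw [hψ]
  intro P
  have : Fact (Nat.Prime 3) := ⟨Nat.prime_three⟩
  have hN := Subgroup.map_equiv_normalizer_eq SuzN.Y ψ
  refine ⟨?_, ?_⟩
  · have h0 : (SuzN.NY.map ψ.toMonoidHom).index = 22880 :=
      (Subgroup.index_map_equiv _ ψ).trans (SuzN.K_eq ▸ H58.SuzU.index_K)
    rw [hN] at h0
    rw [Subgroup.index_map_subtype, Nat.prime_three.dvd_mul, h0]
    exact fun h => h.elim P.not_dvd_index (by decide)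
  have h1 : SuzA.A0.map ψ.toMonoidHom ≤ _ := hN ▸ Subgroup.map_mono SuzA.A_le
  have h2 : ∀ φ : Spor.Suz ≃* G, Nat.card (SuzA.A0.map φ.toMonoidHom) = 3 ^ 5 := fun φ => by
    rw [Subgroup.card_map_of_injective φ.injective, SuzA.stab.2]; rfl
  obtain ⟨R, hR⟩ := (IsPGroup.of_card (n := 5)
    ((Nat.card_congr (Subgroup.subgroupOfEquivOfLe h1).toEquiv).trans (h2 ψ))).exists_le_sylow
  obtain ⟨n, rfl⟩ := MulAction.exists_smul_eq
    (Subgroup.normalizer (SuzN.Y.map ψ.toMonoidHom : Set G)) R P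
  let φ := ψ.trans (MulAut.conj (n : G))
  refine ⟨SuzA.A0.map φ.toMonoidHom, ?_, ⟨?_, ?_⟩, h2 φ, ?_, inferInstance,
    hom_map φ (Subgroup.map_equiv_normalizer_eq _ φ) SuzA.exists_hom_N.2⟩
  · rintro _ ⟨a, ha, rfl⟩
    exact ⟨n * ⟨ψ a, h1 ⟨a, ha, rfl⟩⟩ * n⁻¹, ⟨_, hR (show _ ∈ Subgroup.subgroupOf _ _ from ⟨a, ha, rfl⟩), rfl⟩, rfl⟩
  · have := SuzA.A_comm
    infer_instance
  · rintro _ ⟨a, ha, rfl⟩
    rw [← map_pow, SuzA.A_cube ha, map_one]
  · rw [← H80.map_centralizer, SuzA.exists_hom_N.1]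

end Cfsg.Agent.S1725
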