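import Cfsg.Statements.S1733
import Cfsg.Agent.STD.Sp6
import Cfsg.Agent.S0814
import Cfsg.Agent.H29.Transport

set_option autoImplicit false
open Cfsg

namespace Cfsg.Agent.S1733

/-- Let G be a non-abelian finite simple group which is locally balanced (the centralizer of every involution has no nontrivial normal subgroup of odd order) and has the strong B-property (every section of G has the B-property), and let L be a standard subgroup of G whose centre has order 2 with quotient isomorphic to the symplectic group of dimension 6 over the field with 2 elements. Then G is isomorphic to the third Conway group. -/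
theorem result {G : Type*} [Group G] [Finite G] [IsSimpleGroup G] (hG : ¬ IsMulCommutative G)
    (hbal : ∀ t : G, orderOf t = 2 → Cfsg.centralizerPPrimeCore 2 t = ⊥) (hB : Cfsg.HasStrongBProperty G)
    (L : Subgroup G) (hL : Cfsg.IsStandardSubgroup L)
    {F : Type*} [Field F] [Fintype F] (hF : Fintype.card F = 2) (hLX : (Nat.card ↥(Subgroup.center ↥L) = 2 ∧ Nonempty (↥L ⧸ Subgroup.center ↥L ≃* Cfsg.PSp 3 F))) :
    Cfsg.Spor.IsoCo3 G := by
  obtain ⟨M, -, h⟩ := CONW.C3.exists_cf
  obtain ⟨h2, ⟨e⟩⟩ := hLX
  obtain ⟨f⟩ := H63.equiv_quot_center (Subgroup.card_eq_one.2 CONW.C3.CovAux.center_Sp6)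
  have f' := (H29.pspEquiv 3 (ZMod.ringEquivOfPrime F Nat.prime_two hF).symm).trans f.symm
  have hc := STD.nonsplit_of_standard hL h2 (e.trans f')
  obtain ⟨ε⟩ := CONW.C3.cover_unique hc h.cover
  have s := STD.exists_IS hL ε (orderOf_eq_prime ((pow_two _).trans h.z_sq) h.z_ne)
    (STD.cen_of_card h.cover.1 (Subgroup.mem_center_iff.2 h.z_comm) h.z_ne)
    (STD1.inner_of_equiv e (STD.inner_of_card
      (bot_unique fun a ha => (map_eq_one_iff _ f'.injective).1 (Subgroup.mem_bot.1
        (CONW.C3.CovAux.center_Sp6 ▸ Subgroup.mem_center_iff.2 fun b => by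
          simpa using congrArg f' (Subgroup.mem_center_iff.1 ha (f'.symm b)))))
      (by simpa using S0814.result 2 1 le_rfl hF 3 (by decide) (by decide))))
  obtain ⟨g, h3, h4⟩ := STD.exists_comm_conj hG s.ord
  have h5 := STD.Sp6.cent_eq h (s.ip h3 h4) (hbal _ s.ord)
  refine CONW.C3.iso_of_cover s.ord ?_ ⟨_, isConj_iff.2 ⟨g, rfl⟩, h4, h3⟩
  rwa [h5, MonoidHom.range_comp, MonoidHom.range_eq_top.2 ε.symm.surjective, ← MonoidHom.range_eq_map,
    Subgroup.range_subtype]

end Cfsg.Agent.S1733
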