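import Cfsg.Statements.S1824
import Cfsg.Agent.QT0.QIn
import Cfsg.Agent.QT0.QOut1
import Cfsg.Agent.QT0.QOut2
import Cfsg.Agent.S1823

set_option autoImplicit false
open Cfsg

namespace Cfsg.Agent.S1824

open Subgroup H92 H70 H72 QRC in
/-- The qrc-lemma in the form used for simple QTKE-groups. Let G be a non-abelian finite simple QTKE-group, T a Sylow 2-subgroup of G and M a maximal 2-local subgroup of G containing T. Let T ≤ M₀ ≤ M, let H be a minimal member of the set of subgroups of G with nontrivial 2-core that contain T and are not contained in M, and let V be a 2-reduced elementary abelian normal 2-subgroup of M₀ with O₂(M₀) = C_T(V). Suppose H ∩ M normalizes O²(M₀) or normalizes V. Then one of the following holds: (1) some nontrivial subgroup of O₂(M₀) is normalized by both M₀ and H; (2) V ≰ O₂(H) and q̂(M₀/C_{M₀}(V), V) ≤ 2; (3) q(M₀/C_{M₀}(V), V) ≤ 2. Here q (resp. q̂) ≤ 2 means that some subgroup of M₀ inducing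 a nontrivial elementary abelian 2-group A on V acts quadratically (resp. cubically) on V with |V : C_V(A)| ≤ |A|². -/
theorem result {G : Type*} [Group G] [Finite G] [IsSimpleGroup G]
    (hG : ¬ IsMulCommutative G) (hQ : Cfsg.IsQTKE G) (T : Sylow 2 G) (M M₀ H V : Subgroup G)
    (hM : M ∈ Cfsg.maxTwoLocalsContaining (T : Subgroup G))
    (hTM₀ : (T : Subgroup G) ≤ M₀) (hM₀M : M₀ ≤ M) (hH : H ∈ Cfsg.calHMin (T : Subgroup G) M)
    (hV : V ∈ Cfsg.calR2 M₀)
    (hR : (Cfsg.pCore 2 ↥M₀).map M₀.subtype = (T : Subgroup G) ⊓ Subgroup.centralizer (V : Set G))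
    (hI : H ⊓ M ≤ Subgroup.normalizer (Cfsg.oddGenerated M₀ : Set G) ∨
      H ⊓ M ≤ Subgroup.normalizer (V : Set G)) :
    (∃ R₀ : Subgroup G, R₀ ≠ ⊥ ∧ R₀ ≤ (Cfsg.pCore 2 ↥M₀).map M₀.subtype ∧
        M₀ ⊔ H ≤ Subgroup.normalizer (R₀ : Set G)) ∨
      (¬ V ≤ (Cfsg.pCore 2 ↥H).map H.subtype ∧ Cfsg.CubicParamLE M₀ V 2) ∨
      Cfsg.QuadParamLE M₀ V 2 := by
  rw [or_iff_not_imp_left, or_iff_not_imp_right]
  intro e1 e3
  push Not at e1
  change pCoreOf 2 M₀ = _ at hR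
  change ¬ V ≤ pCoreOf 2 H ∧ _
  change ∀ R₀, _ → R₀ ≤ pCoreOf 2 M₀ → _ at e1
  obtain ⟨⟨⟨h0, hTH⟩, hHM⟩, hmin⟩ := hH
  obtain ⟨v1, v2, v3, -⟩ := hV
  have hT := sylIn_top T
  have tH := hT.mono hTH le_top
  have tM := hT.mono hTM₀ le_top
  have RT : pCoreOf 2 M₀ ≤ T := pCoreOf_le_sylIn tM
  have nR := le_norm_pCoreOf (p := 2) M₀
  have R0 : pCoreOf 2 M₀ ≠ ⊥ := by
    obtain ⟨⟨⟨U, u1, u2, rfl⟩, -⟩, u3⟩ := hM
    exact pCoreOf_ne_bot u1 u2 ((le_sylIn_of_norm hT le_top u1 u3).trans hTM₀) hM₀M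
  have BH : H ⊓ M < H := inf_lt_left.2 hHM
  have uq : ∀ X, (T : Subgroup G) ≤ X → X < H → X ≤ H ⊓ M := fun X x1 x2 => le_inf x2.le (by
    by_contra e
    refine x2.ne (hmin X ⟨⟨fun e' => h0 (pCoreOf_eq_bot_iff.1 (le_bot_iff.1 ((pCoreOf_le_of_le x2.le
      ((pCoreOf_le_sylIn tH).trans x1)).trans (pCoreOf_eq_bot_iff.2 e').le))), x1⟩, e⟩ x2.le))
  have TB : (T : Subgroup G) ≤ H ⊓ M := le_inf hTH hM.2
  have push : ¬ (T : Subgroup G) ⊓ pResidualOf 2 H ≤ centralizer (V : Set G) := fun e => by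
    have nE := le_norm_pRes (p := 2) H
    have l : pResidualOf 2 H ⊔ pCoreOf 2 M₀ ≤ H := sup_le (pRes_le H) (RT.trans hTH)
    have s := tH.inf_normal' l ((pRes_sup_sylIn tH).ge.trans (sup_le (norm_of_le le_sup_left)
      (norm_sup (hTH.trans nE) (hTM₀.trans nR))))
    rw [inf_comm, sup_comm, sup_inf_of_norm ((RT.trans hTH).trans nE) RT, sup_eq_left.2
      ((le_inf inf_le_right ((inf_comm _ _).le.trans e)).trans hR.ge), sup_comm] at s
    obtain ⟨X, x1, x2, x3⟩ := S1823.result hG hQ T M₀ H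
      ⟨fun e' => R0 (pCoreOf_eq_bot_iff.2 e'), hTM₀⟩ ⟨h0, hTH⟩ (by
        have c : ∀ K : Subgroup H, K ≠ ⊤ → (T : Subgroup G).subgroupOf H ≤ K →
            K ≤ (H ⊓ M).subgroupOf H := fun K k1 k2 => map_subtype_le_iff.1 (uq _
              ((subgroupOf_le_iff hTH).1 k2) (lt_of_le_of_ne (map_subtype_le K) fun e' => k1
                (top_le_iff.1 (map_subtype_le_map_subtype_iff.1
                  ((map_subtype_top H).le.trans e'.ge)))))
        have c0 : (H ⊓ M).subgroupOf H ≠ ⊤ := fun e' => BH.not_ge (subgroupOf_eq_top.1 e')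
        refine ⟨(H ⊓ M).subgroupOf H, ⟨⟨c0, fun K k => by_contra fun k' => k.not_ge (c K k'
          ((subgroupOf_mono H TB).trans k.le))⟩, subgroupOf_mono H TB⟩, fun K k => ?_⟩
        exact (k.1.le_iff.1 (c K k.1.1 k.2)).resolve_left c0 |>.symm)
      (pCoreOf 2 M₀) R0 RT (by
        rw [H69.QT.oddGenerated_eq]; exact (sylIn_iff le_sup_right).1 s) nR
    exact e1 X x1 x2 x3
  have V0 : V ≠ ⊥ := fun e => push (cent_comm.1 (e.le.trans bot_le))
  have VT : V ≤ T := le_sylIn_of_norm hT le_top (IsElementaryAbelian_isPGroup v3) (hTM₀.trans v2)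
  have ng : ∀ A ≤ (T : Subgroup G), ¬ Good V A := fun A a g =>
    e3 (g.param v3 (a.trans (hTM₀.trans v2)) (a.trans hTM₀))
  have nn : ∀ X, X ≠ ⊥ → X ≤ (T : Subgroup G) ⊓ centralizer (V : Set G) →
      M₀ ≤ normalizer (X : Set G) → ¬ H ≤ normalizer (X : Set G) := fun X x1 x2 x3 x4 =>
    e1 X x1 (x2.trans hR.ge) (sup_le x3 x4)
  have j := jt_le_R v3 VT (hTM₀.trans v2) ng
  have hm : MinOver (T : Subgroup G) H (H ⊓ M) := minOver_of_uniq tH TB BH uq fun e =>
    nn _ (jt_ne_bot hT.pgroup fun e => V0 (le_bot_iff.1 (VT.trans e.le))) j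
      (jt_eq_of_le j inf_le_left ▸ norm_jt (hR ▸ nR)) (norm_jt e)
  obtain ⟨K, k1, k2, k3⟩ : ∃ K ≤ H ⊓ M, H ⊓ M ≤ normalizer (K : Set G) ∧
      K ⊓ T = (T : Subgroup G) ⊓ centralizer (V : Set G) := by
    rcases hI with hI | hI
    · rw [H69.QT.oddGenerated_eq] at hI
      have nX := le_norm_pRes (p := 2) M₀
      have o := pCoreOf_le_pCoreOf_of_norm (p := 2) (pRes_le (p := 2) M₀) nX
      have n := norm_relCent hI (norm_pCoreOf (p := 2) hI)
      refine ⟨H ⊓ M ⊓ relCent _ (pCoreOf 2 (pResidualOf 2 M₀)), inf_le_left,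
        norm_inf le_normalizer n, le_antisymm (le_trans ?_ hR.le) (hR.ge.trans (le_inf (le_inf
          (RT.trans TB) (le_relCent.2 ⟨(H70.pCoreOf_le _).trans (norm_pCoreOf nX), ?_⟩)) RT))⟩
      · have l : (H ⊓ M ⊓ relCent (pResidualOf 2 M₀ : Set G) (pCoreOf 2 (pResidualOf 2 M₀)) ⊓ T) ⊔
            pCoreOf 2 M₀ ≤ T :=
          sup_le inf_le_right RT
        refine le_sup_left.trans (le_pCoreOf (l.trans hTM₀) ((pRes_sup_sylIn tM).ge.trans (sup_le
          (norm_of_commutator_le (le_trans ?_ le_sup_right)) (norm_sup (norm_inf (TB.trans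
            (norm_inf le_normalizer n)) le_normalizer) (hTM₀.trans nR)))) (hT.pgroup.to_le l))
        exact comm_sup_le (inf_le_right.trans (hTM₀.trans nR)) le_normalizer
          ((le_relCent.1 (inf_le_left.trans inf_le_right)).2.trans o)
          (commutator_le_left_of_norm ((pRes_le _).trans nR))
      · rw [pCoreOf_eq_inf_of_norm (pRes_le M₀) nX]
        exact le_inf (commutator_le_left_of_norm ((pRes_le _).trans nR))
          (commutator_le_right_of_norm ((H70.pCoreOf_le _).trans nX))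
    · exact ⟨H ⊓ M ⊓ centralizer (V : Set G), inf_le_left,
        norm_inf le_normalizer (norm_centralizer hI), le_antisymm (le_inf inf_le_right
          (inf_le_left.trans inf_le_right)) (le_inf (inf_le_inf_right _ TB) inf_le_left)⟩
  have h : QS (T : Subgroup G) M₀ H (H ⊓ M) V K := ⟨hT, hTM₀, H69.QT.isChar_over hQ.2.2 T hTH
    fun e => h0 (pCoreOf_eq_bot_iff.1 e), hm, v3, VT, V0, v2, hR ▸ nR, k1, k2, k3, nn, ng⟩
  have q : ¬ V ≤ pCoreOf 2 H := fun e => push (h.inn e)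
  have TY := hTM₀.trans h.nY
  obtain ⟨L, l1, l2⟩ := h.exists_L (fun e => by
    obtain ⟨C, c1, c2⟩ := good_of_sym hT (oz_isElem _) TY e
    exact h.ngY c1 c2) q
  obtain ⟨A, a1, a2⟩ := cub_of_min (oz_isElem _) l1 l2
  obtain ⟨C, c1, c2⟩ := cub_conj hT TY a1 a2
  exact ⟨q, (c2.of_le h.VY (h.inf_cent_Y c1)).param (c1.trans hTM₀)⟩

end Cfsg.Agent.S1824
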