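import Cfsg.Statements.S1903
import Cfsg.Agent.H42.Rank2Aut
import Cfsg.Agent.S3117
import Cfsg.Agent.H36.U3W
import Cfsg.Agent.H56.Mod.U34
import Cfsg.Agent.H56.ClsTools

set_option autoImplicit false
open Cfsg

namespace Cfsg.Agent.S1903

open Subgroup Cfsg.Agent.H41 Cfsg.Agent.H42

/-- Generators and relations, in terms of an automorphism. -/
structure Rel {T : Type*} [Group T] (φ : MulAut T) (a : T) : Prop where
  five : φ (φ (φ (φ (φ a)))) = a
  prod : a * φ a * φ (φ a) * φ (φ (φ a)) * φ (φ (φ (φ a))) = 1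
  f1 : φ (kap a (φ a)) = kap a (φ a)
  f2 : φ (kap a (φ (φ a))) = kap a (φ (φ a))
  c1 : a * kap a (φ a) = kap a (φ a) * a
  c2 : a * kap a (φ (φ a)) = kap a (φ (φ a)) * a
  s1 : kap a (φ a) * kap a (φ a) = 1
  s2 : kap a (φ (φ a)) * kap a (φ (φ a)) = 1
  sq : a * a = kap a (φ a) * kap a (φ (φ a))

theorem Rel.map {T T' : Type*} [Group T] [Group T'] {φ : MulAut T} {φ' : MulAut T'} {a : T}
    (h : Rel φ a) (f : T →* T') (e : ∀ x, φ' (f x) = f (φ x)) : Rel φ' (f a) := by
  have hk : ∀ x y, kap (f x) (f y) = f (kap x y) := fun x y => by simp [kap]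
  constructor <;> simp only [e, hk, ← map_mul f]
  exacts [by rw [h.five], by rw [h.prod, map_one], by rw [h.f1], by rw [h.f2], by rw [h.c1],
    by rw [h.c2], by rw [h.s1, map_one], by rw [h.s2, map_one], by rw [h.sq]]

theorem Rel.card_le {G : Type*} [Group G] [Finite G] {a α : G} (h : Rel (MulAut.conj α) a)
    (hα : α ^ 5 = 1) (hg : closure {a, α} = ⊤) : Nat.card G ≤ 320 := by
  set φ := MulAut.conj α with hφ
  have hz : ∀ c, φ c = c → a * c = c * a → c ∈ center G := fun c h1 h2 => by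
    refine mem_center_iff.mpr fun g => ?_
    have : closure {a, α} ≤ centralizer {c} := (closure_le _).mpr (by
      rintro _ (rfl | rfl)
      exacts [mem_centralizer_singleton_iff.mpr h2,
        mem_centralizer_singleton_iff.mpr (mul_inv_eq_iff_eq_mul.mp h1)])
    exact mem_centralizer_singleton_iff.mp (this (hg ▸ mem_top g))
  have z1 := hz _ h.f1 h.c1
  have z2 := hz _ h.f2 h.c2
  have h1 := card_sup_closure_le (N := ⊥) [kap a (φ a), kap a (φ (φ a))]
    (by simp [kap_eq_one_iff, mem_center_iff.1 z2]) (by simp [h.s1, h.s2])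
  set N := ⊥ ⊔ closure {c | c ∈ [kap a (φ a), kap a (φ (φ a))]}
  have hN : N ≤ center G := sup_le bot_le ((closure_le _).2 (by
    intro c hc
    simp only [List.mem_cons, List.not_mem_nil, or_false, Set.mem_ofPred_eq] at hc
    rcases hc with rfl | rfl
    exacts [z1, z2]))
  have hn : N.Normal := ⟨fun n hn g => by rwa [mem_center_iff.1 (hN hn) g, mul_inv_cancel_right]⟩
  have hφN : ∀ c ∈ N, φ c ∈ N := fun c hc => hn.conj_mem c hc α
  have m1 : kap a (φ a) ∈ N := mem_sup_right (subset_closure (by simp))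
  have m2 : kap a (φ (φ a)) ∈ N := mem_sup_right (subset_closure (by simp))
  have m3 : kap a (φ (φ (φ a))) ∈ N := by
    have := hn.conj_mem _ (inv_mem (hφN _ (hφN _ (hφN _ m2)))) (a⁻¹ * φ (φ (φ a)))
    rw [map_kap, map_kap, map_kap, h.five] at this
    convert this using 1
    simp only [kap]; group
  have m0 : a * a ∈ N := h.sq ▸ mul_mem m1 m2
  have h2 := card_sup_closure_le (N := N) [a, φ a, φ (φ a), φ (φ (φ a))]
    (by simp [← map_kap, m1, m2, m3, hφN]) (by simp [← map_mul, m0, hφN _ m0, hφN _ (hφN _ m0), hφN _ (hφN _ (hφN _ m0))])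
  set Q := N ⊔ closure {c | c ∈ [a, φ a, φ (φ a), φ (φ (φ a))]}
  have a0 : a ∈ Q := mem_sup_right (subset_closure (by simp))
  have a1 : φ a ∈ Q := mem_sup_right (subset_closure (by simp))
  have a2 : φ (φ a) ∈ Q := mem_sup_right (subset_closure (by simp))
  have a3 : φ (φ (φ a)) ∈ Q := mem_sup_right (subset_closure (by simp))
  have hQ : Q.Normal := normalizer_eq_top_iff.mp (eq_top_iff.mpr (hg.ge.trans ((closure_le _).mpr (by
    rintro _ (rfl | rfl)
    · exact le_normalizer a0
    refine mem_normalizer_fintype (inv_sup_closure (ξ := φ) hφN fun x hx => ?_)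
    simp only [List.mem_cons, List.not_mem_nil, or_false, Set.mem_ofPred_eq] at hx
    rcases hx with rfl | rfl | rfl | rfl
    exacts [a1, a2, a3, eq_inv_of_mul_eq_one_right h.prod ▸
      inv_mem (mul_mem (mul_mem (mul_mem a0 a1) a2) a3)]))))
  have h3 : Q.index ≤ 5 := by
    have : zpowers (QuotientGroup.mk' Q α) = ⊤ := by
      rw [eq_top_iff, ← map_top_of_surjective _ (QuotientGroup.mk'_surjective Q), ← hg,
        MonoidHom.map_closure, closure_le]
      rintro _ ⟨_, rfl | rfl, rfl⟩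
      exacts [⟨0, (zpow_zero _).trans ((QuotientGroup.eq_one_iff _).mpr a0).symm⟩, mem_zpowers _]
    rw [index, ← card_top, ← this, Nat.card_zpowers]
    exact orderOf_le_of_pow_eq_one (by norm_num) (by rw [← map_pow, hα, map_one])
  rw [← Q.card_mul_index]
  simp only [card_bot, List.length_cons, List.length_nil] at h1 h2
  exact Nat.mul_le_mul (show _ ≤ 64 by omega) h3

theorem Rel.equiv {G G' : Type*} [Group G] [Group G'] {a α : G} {a' α' : G'}
    (h : Rel (MulAut.conj α) a) (h' : Rel (MulAut.conj α') a') (hα : α ^ 5 = 1) (hα' : α' ^ 5 = 1)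
    (hg : closure {a, α} = ⊤) (hg' : closure {a', α'} = ⊤) (hc : Nat.card G = 320)
    (hc' : Nat.card G' = 320) : Nonempty (G ≃* G') := by
  have : Finite G := Nat.finite_of_card_ne_zero (by omega)
  have : Finite G' := Nat.finite_of_card_ne_zero (by omega)
  set K := closure ({(a, a'), (α, α')} : Set (G × G')) with hK
  have hle : Nat.card K ≤ 320 := by
    refine Rel.card_le (a := ⟨(a, a'), subset_closure (by simp)⟩)
      (α := ⟨(α, α'), subset_closure (by simp)⟩) ?_ (Subtype.ext (Prod.ext hα hα')) ?_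
    · exact ⟨Subtype.ext (Prod.ext h.five h'.five), Subtype.ext (Prod.ext h.prod h'.prod),
        Subtype.ext (Prod.ext h.f1 h'.f1), Subtype.ext (Prod.ext h.f2 h'.f2),
        Subtype.ext (Prod.ext h.c1 h'.c1), Subtype.ext (Prod.ext h.c2 h'.c2),
        Subtype.ext (Prod.ext h.s1 h'.s1), Subtype.ext (Prod.ext h.s2 h'.s2),
        Subtype.ext (Prod.ext h.sq h'.sq)⟩
    · refine map_injective K.subtype_injective ?_
      rw [MonoidHom.map_closure, ← MonoidHom.range_eq_map, range_subtype, Set.image_pair]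
      rfl
  have b1 : Function.Bijective ((MonoidHom.fst G G').comp K.subtype) := by
    refine Function.Surjective.bijective_of_nat_card_le ?_ (hc ▸ hle)
    rw [← MonoidHom.range_eq_top, ← MonoidHom.map_range, range_subtype, hK, MonoidHom.map_closure,
      ← hg]
    simp [Set.image_insert_eq]
  have b2 : Function.Bijective ((MonoidHom.snd G G').comp K.subtype) := by
    refine Function.Surjective.bijective_of_nat_card_le ?_ (hc' ▸ hle)
    rw [← MonoidHom.range_eq_top, ← MonoidHom.map_range, range_subtype, hK, MonoidHom.map_closure,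
      ← hg']
    simp [Set.image_insert_eq]
  exact ⟨(MulEquiv.ofBijective _ b1).symm.trans (MulEquiv.ofBijective _ b2)⟩

theorem card_modEq_one {W : Type*} [Group W] [Finite W] {φ : MulAut W} (h5 : φ ^ 5 = 1)
    (hf : ∀ w, φ w = w → w = 1) {H : Subgroup W} (hH : ∀ w ∈ H, φ w ∈ H) : Nat.card H % 5 = 1 := by
  have := Fact.mk Nat.prime_five
  have h := S3117.modEq_fix (MulAut.toPerm W φ) (p := 5) (by rw [← map_pow, h5, map_one]) (· ∈ H)
    fun w => ⟨fun e => by
      have := pow_apply_mem hH 4 e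
      rwa [show (φ ^ 4) (MulAut.toPerm W φ w) = (φ ^ 5) w from rfl, h5] at this, hH w⟩
  exact h.trans (congrArg (· % 5) (Nat.card_eq_one_iff_exists.mpr
    ⟨⟨1, one_mem _, map_one φ⟩, fun y => Subtype.ext (hf _ y.2.2)⟩))

theorem exists_rel {T : Type*} [Group T] (hT : Nat.card T = 64) (hV : IsKleinFour (center T))
    {φ : MulAut T} (h5 : φ ^ 5 = 1) (h1 : φ ≠ 1) : ∃ a, Rel φ a ∧ (∀ z ∈ center T, φ z = z) ∧
      (∀ x, x * x ∈ center T) ∧ ∀ H : Subgroup T, a ∈ H → (∀ x ∈ H, φ x ∈ H) → center T ⊔ H = ⊤ := by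
  have : Finite T := Nat.finite_of_card_ne_zero (by omega)
  have := Fact.mk Nat.prime_five
  have := Fact.mk Nat.prime_two
  have hz2 : ∀ z ∈ center T, z * z = 1 := fun z hz => klein_mul_self hV hz
  have hm : (center T).map φ.toMonoidHom = center T :=
    characteristic_iff_map_eq.mp inferInstance φ
  have hφZ : ∀ z ∈ center T, φ z ∈ center T := fun z hz => hm ▸ mem_map_of_mem _ hz
  have hfix : ∀ z ∈ center T, φ z = z := by
    have h := S3117.modEq_fix (MulAut.toPerm T φ) (p := 5) (by rw [← map_pow, h5, map_one])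
      (· ∈ center T) fun w => ⟨fun e => (mem_map_iff_mem (f := φ.toMonoidHom) φ.injective).mp
        (hm.symm ▸ e), hφZ w⟩
    let C := center T ⊓ φ.toMonoidHom.eqLocus (MonoidHom.id T)
    have h2 : Nat.card C ≤ 4 := hV.card_four ▸ card_le_of_le inf_le_left
    have h3 : Nat.card (center T) % 5 = Nat.card C % 5 := h
    exact fun z hz => ((eq_of_le_of_card_ge inf_le_left (by rw [hV.card_four] at h3 ⊢; omega) :
      C = center T).symm ▸ hz : z ∈ C).2
  have hh : ∀ x, φ (φ (φ (φ (φ x)))) = x := fun x => DFunLike.congr_fun h5 x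
  set ψ := H1.quotAut φ _ hm
  have hψ : ψ ^ 5 = 1 := H1.quotAut_pow_eq_one hm h5
  have hW : Nat.card (T ⧸ center T) = 16 := by
    have := card_eq_card_quotient_mul_card_subgroup (center T)
    rw [hV.card_four] at this
    omega
  have hp : IsPGroup 2 (T ⧸ center T) := IsPGroup.of_card (n := 4) hW
  have hf : ∀ w, ψ w = w → w = 1 := by
    let C := ψ.toMonoidHom.eqLocus (MonoidHom.id _)
    have h := S3117.modEq_fix (MulAut.toPerm _ ψ) (p := 5) (by rw [← map_pow, hψ, map_one])
      (fun _ => True) fun _ => Iff.rfl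
    simp only [true_and, Nat.card_subtype_true, hW] at h
    obtain ⟨j, hj, e⟩ := (Nat.dvd_prime_pow (m := 4) Nat.prime_two).mp (hW ▸ card_subgroup_dvd_card C)
    have h3 : 16 % 5 = 2 ^ j % 5 := e ▸ h
    have h4 : j ≠ 4 := by
      rintro rfl
      refine h1 (MulEquiv.ext fun x => ?_)
      have hu : x⁻¹ * φ x ∈ center T := QuotientGroup.eq.mp
        (eq_top_of_card_eq C (e.trans hW.symm) ▸ mem_top (x : T ⧸ center T) : _ ∈ C).symm
      have : φ (φ x) = x := by
        rw [← mul_inv_cancel_left x (φ x), map_mul, hfix _ hu, ← mul_inv_cancel_left x (φ x),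
          inv_mul_cancel_left, mul_assoc, hz2 _ hu, mul_one]
      have h6 := hh x
      rwa [this, this] at h6
    obtain rfl : j = 0 := by interval_cases j <;> simp_all
    exact fun w hw => mem_bot.mp (card_eq_one.mp e ▸ (hw : w ∈ C))
  have irr : ∀ H : Subgroup (T ⧸ center T), (∀ w ∈ H, ψ w ∈ H) → H ≠ ⊥ → H = ⊤ := fun H hH hne => by
    have h := card_modEq_one hψ hf hH
    obtain ⟨j, hj, e⟩ := (Nat.dvd_prime_pow (m := 4) Nat.prime_two).mp (hW ▸ card_subgroup_dvd_card H)
    have := card_eq_one.not.mpr hne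
    refine eq_top_of_card_eq H ?_
    rw [e] at h this ⊢
    interval_cases j <;> simp_all
  have : Nontrivial (T ⧸ center T) := Finite.one_lt_card_iff_nontrivial.mp (by omega)
  have hsq : ∀ w : T ⧸ center T, w * w = 1 := by
    obtain ⟨z, hz, hz1, hzz⟩ := exists_central_involution hp
    let H : Subgroup (T ⧸ center T) :=
      { carrier := {w | w ∈ center _ ∧ w * w = 1}
        one_mem' := ⟨one_mem _, mul_one _⟩
        mul_mem' := fun {a b} ha hb => ⟨mul_mem ha.1 hb.1, by
          rw [mul_assoc, ← mul_assoc b, mem_center_iff.mp ha.1 b, mul_assoc, hb.2, mul_one, ha.2]⟩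
        inv_mem' := fun {a} ha => ⟨inv_mem ha.1, by rw [← mul_inv_rev, ha.2, inv_one]⟩ }
    exact fun w => ((irr H (fun w hw => ⟨characteristic_iff_le_comap.mp inferInstance ψ hw.1,
      by rw [← map_mul, hw.2, map_one]⟩) fun e => hz1 (mem_bot.mp (e ▸ ⟨hz, hzz⟩))).symm ▸
        mem_top w : w ∈ H).2
  have hsq' : ∀ x : T, x * x ∈ center T := fun x => (QuotientGroup.eq_one_iff _).mp (hsq x)
  have hk : ∀ x y : T, kap x y ∈ center T := fun x y => by
    have : kap x y = (x * x)⁻¹ * (x * y * (x * y)) * (y * y)⁻¹ := by rw [mul_sq_eq]; group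
    rw [this]
    exact mul_mem (mul_mem (inv_mem (hsq' _)) (hsq' _)) (inv_mem (hsq' _))
  obtain ⟨w, hw⟩ := exists_ne (1 : T ⧸ center T)
  obtain ⟨b, rfl⟩ := QuotientGroup.mk_surjective w
  obtain ⟨p, hp⟩ : ∃ p, p = b * φ b * φ (φ b) * φ (φ (φ b)) * φ (φ (φ (φ b))) := ⟨_, rfl⟩
  have hpZ : p ∈ center T := (QuotientGroup.eq_one_iff _).mp (hf _ (by
    rw [H1.quotAut_mk, hp]
    simp only [map_mul, hh, QuotientGroup.mk_mul]
    rw [mul_comm_of_sq hsq _ (b : T ⧸ center T)]
    simp only [mul_assoc]))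
  have hc : ∀ x y, x * (p * y) = p * (x * y) := fun x y => by
    rw [← mul_assoc, mem_center_iff.mp hpZ, mul_assoc]
  have hprod : p * b * φ (p * b) * φ (φ (p * b)) * φ (φ (φ (p * b))) * φ (φ (φ (φ (p * b)))) = 1 := by
    have : b * (φ b * (φ (φ b) * (φ (φ (φ b)) * φ (φ (φ (φ b)))))) = p := by
      simp only [hp, mul_assoc]
    simp only [map_mul, hfix p hpZ, mul_assoc, hc b, hc (φ _), this]
    simp only [← mul_assoc, hz2 p hpZ, one_mul]
  refine ⟨p * b, ⟨hh _, hprod, hfix _ (hk _ _), hfix _ (hk _ _), mem_center_iff.mp (hk _ _) _,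
    mem_center_iff.mp (hk _ _) _, hz2 _ (hk _ _), hz2 _ (hk _ _), ?_⟩, hfix, hsq', fun H ha hH => ?_⟩
  · generalize p * b = a at hprod
    have e1 : ∀ x, φ x * φ x = x * x := fun x => by rw [← map_mul, hfix _ (hsq' x)]
    have e2 : a * φ a * (a * φ a) = kap a (φ a) := by
      rw [mul_sq_eq, e1, mul_assoc, mem_center_iff.mp (hsq' a), ← mul_assoc, hz2 _ (hsq' a), one_mul]
    have e3 := mul_sq_eq (a * φ a) (φ (φ a))
    have e4 : a * φ a * φ (φ a) = (φ (φ (φ (a * φ a))))⁻¹ := by
      rw [map_mul, map_mul, map_mul]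
      exact eq_inv_of_mul_eq_one_left ((mul_assoc _ _ _).symm.trans hprod)
    rw [e4, ← mul_inv_rev, e1, e1, e1, e1, e1, e2, inv_eq_of_mul_eq_one_right (hz2 _ (hk _ _)),
      kap_mul_left, ← map_kap, hfix _ (hk _ _), mem_center_iff.mp (hk a _) (φ a)⁻¹,
      inv_mul_cancel_right, mul_assoc, left_eq_mul] at e3
    rw [← inv_eq_of_mul_eq_one_right e3, mul_inv_rev, inv_eq_of_mul_eq_one_right (hz2 _ (hk _ _)),
      inv_eq_of_mul_eq_one_right (hz2 _ (hk _ _))]
  · have := irr (H.map (QuotientGroup.mk' _)) (by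
      rintro _ ⟨x, hx, rfl⟩
      exact ⟨φ x, hH x hx, rfl⟩) fun e => hw (by
        have := mem_bot.mp (e ▸ mem_map_of_mem (QuotientGroup.mk' _) ha)
        rwa [map_mul, show QuotientGroup.mk' _ p = 1 from (QuotientGroup.eq_one_iff _).mpr hpZ,
          one_mul] at this)
    rw [← QuotientGroup.comap_map_mk', this, comap_top]

theorem commutator_le_of_center_sup {G : Type*} [Group G] {H : Subgroup G}
    (h : center G ⊔ H = ⊤) : commutator G ≤ ⁅H, H⁆ := commutator_le.mpr fun x _ y _ => by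
  obtain ⟨z, hz, a, ha, rfl⟩ := mem_sup_of_normal_left.mp (h ▸ mem_top x)
  obtain ⟨w, hw, b, hb, rfl⟩ := mem_sup_of_normal_left.mp (h ▸ mem_top y)
  convert commutator_mem_commutator ha hb using 1
  rw [commutatorElement_def, commutatorElement_def, mul_inv_rev, mul_inv_rev,
    ← mem_center_iff.mp hz, ← mem_center_iff.mp hw, mul_assoc a z, ← mem_center_iff.mp hz]
  simp only [mul_assoc]
  rw [← mul_assoc z a⁻¹, ← mem_center_iff.mp hz, mul_assoc, mul_inv_cancel_left,
    ← mul_assoc w, ← mem_center_iff.mp hw, mul_assoc, ← mul_assoc w, ← mem_center_iff.mp hw,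
    mul_inv_cancel_right]

theorem eq_top_of_dvd {G : Type*} [Group G] (hG : Nat.card G = 320) {H : Subgroup G}
    (h1 : 64 ∣ Nat.card H) (h2 : 5 ∣ Nat.card H) : H = ⊤ :=
  have : Finite G := Nat.finite_of_card_ne_zero (by omega)
  eq_top_of_card_eq H (Nat.dvd_antisymm (card_subgroup_dvd_card H)
    (hG ▸ Nat.Coprime.mul_dvd_of_dvd_of_dvd (m := 64) (n := 5) (by norm_num) h1 h2))

theorem exists_model {F : Type*} [Field F] [Fintype F] (hF : Fintype.card F = 16) :
    ∃ t : PSU 3 F 4, orderOf t = 2 ∧ Nat.card (centralizer ({t} : Set (PSU 3 F 4))) = 320 ∧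
      ∃ a α : centralizer ({t} : Set (PSU 3 F 4)), Rel (MulAut.conj α) a ∧ α ^ 5 = 1 ∧
        closure {a, α} = ⊤ := by
  have : Fact (Fintype.card F = 4 ^ 2) := ⟨hF⟩
  have := charP_of_card hF
  have := Fact.mk Nat.prime_two
  have := Fact.mk Nat.prime_five
  obtain ⟨c, hc, hc1⟩ := H10.exists_norm_one_ne_one (F := F) (q := 4)
  have h5 : c ^ 5 = 1 := (H10.mul_cj_eq_pow c).symm.trans hc
  have h0 : c ^ 3 ≠ 0 := pow_ne_zero _ (left_ne_zero_of_mul_eq_one hc)
  have h3 : c ^ 3 * H10.cj F 4 (c ^ 3) = 1 := by rw [map_pow, ← mul_pow, hc, one_pow]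
  obtain ⟨ψ, h, hψ, hh, hconj⟩ := H36.exists_um_hom_torus hc
  have hφ : ∀ a, h * ψ a * h⁻¹ = ψ (UM.diag _ h0 a) := fun a =>
    hconj a _ rfl (show _ * _ * a.y = a.y by rw [h3, one_mul])
  obtain ⟨u, hu⟩ := UM.exists_x (q := 4) (1 : F)
  have hφ1 : UM.diag (q := 4) _ h0 ≠ 1 := fun e => hc1 (by
    have : c ^ 3 * u.x = u.x := congrArg UM.x (DFunLike.congr_fun e u)
    rw [hu, mul_one] at this
    linear_combination (c ^ 3 + 1) * this - c * h5)
  obtain ⟨a, ha, hfix, hsq, hgen⟩ := exists_rel (T := UM F 4) UM.card suzLike_UM.klein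
    (φ := UM.diag _ h0) (by
      ext a
      · rw [(UM.diag_pow _ h0 _ a).1, ← pow_mul, mul_comm 3, pow_mul, h5]; simp
      · rw [(UM.diag_pow _ h0 _ a).2, h3]; simp) hφ1
  have hu1 : u * u ≠ 1 := fun e => one_ne_zero (hu ▸ UM.sq_eq_one_iff.mp e)
  have ht : orderOf (ψ (u * u)) = 2 := by
    rw [orderOf_injective ψ hψ]
    exact orderOf_eq_prime (by rw [sq, klein_mul_self suzLike_UM.klein (hsq u)]) hu1
  obtain ⟨e⟩ := H56.U34.equiv hF
  have hC : Nat.card (centralizer ({ψ (u * u)} : Set (PSU 3 F 4))) = 320 := by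
    rw [← H56.card_centralizer_equiv e]
    exact Nat.eq_of_beq_eq_true (H56.card_centralizer_of_order H56.U34.classes 20 2 (Nat.beq · 320)
      (by decide +kernel) _ ((e.orderOf_eq _).trans ht))
  let f : UM F 4 →* centralizer ({ψ (u * u)} : Set (PSU 3 F 4)) := ψ.codRestrict _ fun x =>
    mem_centralizer_singleton_iff.mpr (by rw [← map_mul, ← map_mul, mem_center_iff.mp (hsq u)])
  let α : centralizer ({ψ (u * u)} : Set (PSU 3 F 4)) := ⟨h, mem_centralizer_singleton_iff.mpr
    (mul_inv_eq_iff_eq_mul.mp (by rw [hφ, hfix _ (hsq u)]))⟩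
  have hf : ∀ x, MulAut.conj α (f x) = f (UM.diag _ h0 x) := fun x => Subtype.ext (hφ x)
  refine ⟨_, ht, hC, f a, α, ha.map f hf, Subtype.ext hh, eq_top_of_dvd hC ?_ ?_⟩
  · have h1 := hgen ((closure {f a, α}).comap f) (subset_closure (by simp)) fun x hx => by
      rw [mem_comap, ← hf]
      have : α ∈ closure {f a, α} := subset_closure (by simp)
      exact mul_mem (mul_mem this hx) (inv_mem this)
    have h2 : (closure {f a, α}).comap f = ⊤ := by
      rw [← h1]
      refine (sup_eq_right.mpr fun z hz => ?_).symm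
      have hz' := UM.mem_center_iff.mp hz
      obtain ⟨x, hx⟩ := H10.exists_norm_eq (q := 4) (t := z.y) (by
        have := z.h
        rw [hz', zero_mul] at this
        exact (CharTwo.add_eq_zero.mp this).symm)
      obtain ⟨v, rfl⟩ := UM.exists_x (q := 4) x
      obtain ⟨w, hw, n, hn, rfl⟩ := mem_sup_of_normal_left.mp (h1 ▸ mem_top v)
      convert mul_mem hn hn using 1
      refine UM.ext (hz'.trans (UM.sq_x n).symm) ?_
      rw [UM.sq_y, ← hx, UM.mul_x, UM.mem_center_iff.mp hw, zero_add, mul_comm]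
    have h3 : f.range ≤ closure {f a, α} := by
      rintro _ ⟨x, rfl⟩
      exact (h2 ▸ mem_top x : x ∈ (closure {f a, α}).comap f)
    refine Dvd.dvd.trans ?_ (card_dvd_of_le h3)
    rw [← Nat.card_congr (MonoidHom.ofInjective ((ψ.injective_codRestrict _ _).mpr hψ)).toEquiv,
      UM.card]
    rfl
  · refine Dvd.dvd.trans (dvd_of_eq (orderOf_eq_prime (Subtype.ext hh) fun e => hφ1 ?_).symm)
      ((closure {f a, α}).orderOf_dvd_natCard (subset_closure (by simp) : α ∈ _))
    refine MulEquiv.ext fun x => hψ ?_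
    rw [← hφ, show h = 1 from congrArg Subtype.val e]
    simp

/-- A finite group of order 320 whose derived subgroup has order 64 and has centre a Klein four-group is isomorphic to the centralizer of an involution in PSU₃(4). -/
theorem result {G : Type*} [Group G] [Finite G] (hG : Nat.card G = 320) (hD : Nat.card (commutator G) = 64)
    (hZ : IsKleinFour (Subgroup.center (commutator G)))
    {F : Type*} [Field F] [Fintype F] (hF : Fintype.card F = 16) :
    ∃ t : Cfsg.PSU 3 F 4, orderOf t = 2 ∧ Nonempty (G ≃* Subgroup.centralizer ({t} : Set (Cfsg.PSU 3 F 4))) := by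
  have := Fact.mk Nat.prime_five
  obtain ⟨t, ht, hC, a', α', h', hα', hg'⟩ := exists_model hF
  obtain ⟨α, hα⟩ := exists_prime_orderOf_dvd_card' (G := G) 5 (by omega)
  have h5 : α ^ 5 = 1 := hα ▸ pow_orderOf_eq_one α
  have top : ∀ H : Subgroup G, commutator G ≤ H → α ∈ H → H = ⊤ := fun H h1 h2 =>
    eq_top_of_dvd hG (hD ▸ card_dvd_of_le h1) (hα ▸ H.orderOf_dvd_natCard h2)
  have cen : ∀ z, (∀ x ∈ commutator G, x * z = z * x) → α * z = z * α → z ∈ center G :=
    fun z h1 h2 => mem_center_iff.mpr fun g => mem_centralizer_singleton_iff.mp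
      (top (centralizer {z}) (fun x hx => mem_centralizer_singleton_iff.mpr (h1 x hx))
        (mem_centralizer_singleton_iff.mpr h2) ▸ mem_top g)
  obtain ⟨a, ha, hfix, -, hgen⟩ := exists_rel hD hZ (φ := MulAut.conjNormal α)
    (by rw [← map_pow, h5, map_one]) fun e => by
      have : Group.IsSolvable G := H5.isSolvable_of_card_dvd_prime_pow_mul Nat.prime_two
        Nat.prime_five (a := 6) (b := 1) (by rw [hG]; rfl)
      refine (Group.IsSolvable.commutator_lt_of_ne_bot (H := commutator G) fun e => ?_).not_ge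
        (commutator_le_of_center_sup (top _ le_sup_right (mem_sup_left (cen α (fun x hx => ?_) rfl))))
      · simp [e] at hD
      · exact (mul_inv_eq_iff_eq_mul.mp (congrArg Subtype.val (DFunLike.congr_fun e ⟨x, hx⟩))).symm
  have m1 : (a : G) ∈ closure {(a : G), α} := subset_closure (by simp)
  have m2 : α ∈ closure {(a : G), α} := subset_closure (by simp)
  refine ⟨t, ht, (ha.map (commutator G).subtype fun _ => rfl).equiv h' h5 hα'
    (top _ ((commutator_le_of_center_sup (top _ (fun x hx => ?_) (mem_sup_right m2))).trans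
      (commutator_le_self _)) m2) hg' hG hC⟩
  obtain ⟨z, hz, n, hn, e⟩ := mem_sup_of_normal_left.mp
    (hgen ((closure {(a : G), α}).subgroupOf _) m1 (fun x hx => mul_mem (mul_mem m2 hx) (inv_mem m2))
      ▸ mem_top (⟨x, hx⟩ : commutator G))
  rw [← show (z : G) * n = x from congrArg Subtype.val e]
  exact mul_mem_sup (cen z (fun y hy => congrArg Subtype.val (mem_center_iff.mp hz ⟨y, hy⟩))
    (mul_inv_eq_iff_eq_mul.mp (congrArg Subtype.val (hfix z hz)))) hn

end Cfsg.Agent.S1903
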