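import Cfsg.Statements.S4416
import Cfsg.Agent.S0099

set_option autoImplicit false
open Cfsg

namespace Cfsg.Agent.S4416

/-- the sign character of `ZMod 2`. -/
def sg (a : ZMod 2) : ℤ := if a = 0 then 1 else -1

theorem sg_add (a b : ZMod 2) : sg (a + b) = sg a * sg b := by
  revert a b; decide

theorem sg_zero : sg 0 = 1 := rfl

section
variable {V : Type*} [AddCommGroup V] [Module (ZMod 2) V] [Fintype V]

/-- Gauss sum of a quadratic form. -/
def gs (Q : QuadraticForm (ZMod 2) V) : ℤ := ∑ x, sg (Q x)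

theorem sum_sg_lin (l : V →ₗ[ZMod 2] ZMod 2) (hl : l ≠ 0) : ∑ x, sg (l x) = 0 := by
  obtain ⟨v, hv⟩ : ∃ v, l v ≠ 0 := by
    by_contra h
    push Not at h
    exact hl (LinearMap.ext h)
  have h1 : l v = 1 := (H3.zmod2_cases _).resolve_left hv
  have h2 : ∑ x, sg (l x) = ∑ x, sg (l (x + v)) :=
    (Equiv.sum_comp (Equiv.addRight v) (fun x => sg (l x))).symm
  have h3 : ∑ x, sg (l (x + v)) = - ∑ x, sg (l x) := by
    rw [← Finset.sum_neg_distrib]
    refine Finset.sum_congr rfl fun x _ => ?_
    rw [map_add, sg_add, h1]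
    simp [sg]
  omega

theorem gs_sq (Q : QuadraticForm (ZMod 2) V) (hQ : (QuadraticMap.polarBilin Q).Nondegenerate) :
    gs Q * gs Q = Fintype.card V := by
  classical
  unfold gs
  rw [Finset.sum_mul_sum]
  have h1 : ∀ x : V, ∑ y, sg (Q x) * sg (Q y) =
      ∑ z, sg (Q z) * sg (QuadraticMap.polarBilin Q z x) := fun x => by
    rw [← Equiv.sum_comp (Equiv.addRight x)]
    refine Finset.sum_congr rfl fun z _ => ?_
    rw [Equiv.coe_addRight, H3.quad_add]
    generalize QuadraticMap.polarBilin Q z x = a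
    generalize Q x = b
    generalize Q z = c
    revert a b c; decide
  simp_rw [h1]
  rw [Finset.sum_comm]
  simp_rw [← Finset.mul_sum]
  rw [Finset.sum_eq_single 0]
  · simp [sg_zero]
  · intro z _ hz
    rw [sum_sg_lin _ (fun h => hz (hQ.1 z fun y => by rw [h]; rfl)), mul_zero]
  · simp

theorem gs_eq_of_add (Q Q' : QuadraticForm (ZMod 2) V) (v : V)
    (h : ∀ x, Q' x = Q x + QuadraticMap.polarBilin Q v x) : gs Q' = sg (Q v) * gs Q := by
  unfold gs
  rw [← Equiv.sum_comp (Equiv.addLeft v) (fun x => sg (Q x)), Finset.mul_sum]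
  refine Finset.sum_congr rfl fun x _ => ?_
  rw [Equiv.coe_addLeft, H3.quad_add, h]
  generalize QuadraticMap.polarBilin Q v x = a
  generalize Q x = b
  generalize Q v = c
  revert a b c; decide

theorem card_zero (Q : QuadraticForm (ZMod 2) V) :
    2 * (Nat.card {x : V // Q x = 0} : ℤ) = Fintype.card V + gs Q := by
  classical
  unfold gs
  rw [Nat.card_eq_fintype_card, Fintype.card_subtype, Finset.card_filter, ← Finset.card_univ,
    Finset.card_eq_sum_ones, Nat.cast_sum, Nat.cast_sum, Finset.mul_sum, ← Finset.sum_add_distrib]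
  refine Finset.sum_congr rfl fun x _ => ?_
  by_cases h : Q x = 0 <;> simp [sg, h]

theorem exists_equiv {W : Type*} [AddCommGroup W] [Module (ZMod 2) W] [Fintype W]
    (Q : QuadraticForm (ZMod 2) V) (Q' : QuadraticForm (ZMod 2) W)
    (hQ : (QuadraticMap.polarBilin Q).Nondegenerate)
    (hQ' : (QuadraticMap.polarBilin Q').Nondegenerate)
    (hf : Module.finrank (ZMod 2) V = Module.finrank (ZMod 2) W) (hg : gs Q = gs Q') :
    ∃ e : V ≃ₗ[ZMod 2] W, ∀ x, Q' (e x) = Q x := by
  obtain ⟨e, he⟩ := H3.exists_isometry_of_isAlt _ _ (H3.polarBilin_isAlt_two Q)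
    (H3.polarBilin_isAlt_two Q') hQ hQ' hf
  have k : QuadraticMap.polarBilin (Q'.comp e.toLinearMap) = QuadraticMap.polarBilin Q := by
    ext u v
    rw [← he]
    exact (H3.polarBilin_eq_of_quad_eq _ Q' e.toLinearMap (fun _ => rfl) u v).symm
  obtain ⟨v, hv⟩ := H3.exists_quad_eq_add Q _ hQ k
  have h1 := gs_eq_of_add Q _ v hv
  have h2 : gs (Q'.comp e.toLinearMap) = gs Q' := by
    unfold gs
    exact Equiv.sum_comp e.toEquiv (fun x => sg (Q' x))
  have h3 : gs Q ≠ 0 := fun h => by
    have := gs_sq Q hQ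
    rw [h, mul_zero] at this
    exact Fintype.card_ne_zero (α := V) (by exact_mod_cast this.symm)
  have h4 : Q v = 0 := by
    rcases H3.zmod2_cases (Q v) with h | h
    · exact h
    · rw [h2, ← hg, h] at h1
      simp [sg] at h1
      omega
  obtain ⟨f, hf⟩ := H3.exists_equiv_of_quad_eq_add Q _ h4 hv
  refine ⟨f.symm.trans e, fun x => ?_⟩
  simpa using (hf (f.symm x)).symm

theorem card_sq {E : Type*} [Group E] (D : H3.ESData 2 E V) :
    (Nat.card {x : E // x ^ 2 = 1} : ℤ) = Fintype.card V + gs D.quad := by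
  rw [← card_zero]
  choose σ hσ using D.π_surj
  have : Nat.card {x : E // x ^ 2 = 1} = Nat.card (ZMod 2 × {x : V // D.quad x = 0}) := by
    symm
    refine Nat.card_eq_of_bijective (fun y => ⟨D.ζ y.1 * σ y.2.1, ?_⟩) ⟨?_, ?_⟩
    · rw [D.pow_eq_one_iff, D.π_mul, D.π_ζ, zero_add, hσ]
      exact y.2.2
    · rintro ⟨s, v, hv⟩ ⟨t, w, hw⟩ h
      have h := congrArg Subtype.val h
      simp only at h
      have h1 : v = w := by
        have := congrArg D.π h
        rwa [D.π_mul, D.π_mul, D.π_ζ, D.π_ζ, zero_add, zero_add, hσ, hσ] at this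
      subst h1
      have h2 : s = t := D.ζ_inj (mul_right_cancel h)
      subst h2
      rfl
    · rintro ⟨x, hx⟩
      obtain ⟨s, hs⟩ := (D.π_eq_iff x (σ (D.π x))).mp (hσ _).symm
      exact ⟨⟨s, D.π x, (D.pow_eq_one_iff x).mp hx⟩, Subtype.ext hs.symm⟩
  rw [this, Nat.card_prod, Nat.card_zmod]
  push_cast
  ring

end

/-- Classification of extraspecial 2-groups in intrinsic form. An extraspecial 2-group has order 2^(2m+1) for some m ≥ 1, and the number of its elements squaring to the identity is either 2^(2m) + 2^m or 2^(2m) − 2^m; two extraspecial 2-groups of the same order with the same number of such elements are isomorphic. (The two cases are the central products of m dihedral groups of order 8, and of m − 1 dihedral groups with one quaternion group.) -/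
theorem result (E : Type*) [Group E] [Finite E] (hE : Cfsg.IsExtraspecial 2 E) :
    (∃ m : ℕ, 1 ≤ m ∧ Nat.card E = 2 ^ (2 * m + 1) ∧
      (Nat.card {x : E // x ^ 2 = 1} = 2 ^ (2 * m) + 2 ^ m ∨ Nat.card {x : E // x ^ 2 = 1} = 2 ^ (2 * m) - 2 ^ m)) ∧
    ∀ (E' : Type*) [Group E'] [Finite E'], Cfsg.IsExtraspecial 2 E' → Nat.card E' = Nat.card E →
      Nat.card {x : E' // x ^ 2 = 1} = Nat.card {x : E // x ^ 2 = 1} → Nonempty (E ≃* E') := by
  obtain ⟨V, _, _, _, _, D, hD, -⟩ := H3.exists_esData_of_isExtraspecial hE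
  haveI := Fintype.ofFinite V
  have hQ : (QuadraticMap.polarBilin D.quad).Nondegenerate := D.polarBilin_quad ▸ hD
  refine ⟨?_, fun E' _ _ hE' hc hn => ?_⟩
  · obtain ⟨m, hm⟩ := H3.even_finrank_of_isAlt _ D.isAlt hD
    have hV : Nat.card V = 2 ^ (2 * m) := by
      rw [Module.natCard_eq_pow_finrank (K := ZMod 2), Nat.card_zmod, hm]
    have hm1 : 1 ≤ m := by
      have := Module.finrank_pos (R := ZMod 2) (M := V)
      omega
    refine ⟨m, hm1, by rw [D.card_eq, hV, pow_succ], ?_⟩
    have h1 := card_sq D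
    have h2 := gs_sq D.quad hQ
    rw [← Nat.card_eq_fintype_card, hV] at h1 h2
    have h3 : gs D.quad = 2 ^ m ∨ gs D.quad = - 2 ^ m := by
      rw [← sq_eq_sq_iff_eq_or_eq_neg, sq, h2]
      push_cast
      ring
    rcases h3 with h | h
    · left
      rw [h] at h1
      exact_mod_cast h1
    · right
      rw [h] at h1
      have : 2 ^ m ≤ 2 ^ (2 * m) := Nat.pow_le_pow_right two_pos (by omega)
      zify [this]
      rw [h1]
      push_cast
      ring
  · obtain ⟨W, _, _, _, _, D', hD', -⟩ := H3.exists_esData_of_isExtraspecial hE'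
    haveI := Fintype.ofFinite W
    have hQ' : (QuadraticMap.polarBilin D'.quad).Nondegenerate := D'.polarBilin_quad ▸ hD'
    have hf := S0099.finrank_eq D D' hc.symm
    have hV : Fintype.card V = Fintype.card W := by
      rw [← Nat.card_eq_fintype_card, ← Nat.card_eq_fintype_card,
        Module.natCard_eq_pow_finrank (K := ZMod 2), hf,
        ← Module.natCard_eq_pow_finrank (K := ZMod 2)]
    have h1 := card_sq D
    have h2 := card_sq D'
    rw [hn, h1, hV] at h2
    obtain ⟨e, he⟩ := exists_equiv D.quad D'.quad hQ hQ' hf (by omega)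
    exact S0099.nonempty_mulEquiv D D' e he

end Cfsg.Agent.S4416
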