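import Cfsg.Statements.S1905
import Cfsg.Agent.S0223
import Cfsg.Agent.S1225
import Cfsg.Agent.H42.Isolated
import Cfsg.Agent.H43.SE
import Cfsg.Agent.H72.SylowIn
-- import your own Cfsg.Agent.* helpers here

set_option autoImplicit false
open Cfsg

namespace Cfsg.Agent.S1905

open Subgroup in
/-- Let M be a subgroup of even order of a finite group S such that M contains the centralizer in S of each of its involutions and the normal core of M in S has odd order. Then all involutions of S are conjugate. If moreover N_S(X) ≤ M for a Sylow 2-subgroup X of M and I is an involution in the centre of X, then all involutions of M are conjugate in M and M = M₀ C_M(I) for some subgroup M₀ of M of odd order. -/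
theorem result {S : Type*} [Group S] [Finite S] (M : Subgroup S) (hM : Even (Nat.card M))
    (hC : ∀ i ∈ M, orderOf i = 2 → Subgroup.centralizer ({i} : Set S) ≤ M) (hcore : Odd (Nat.card M.normalCore)) :
    (∀ x y : S, orderOf x = 2 → orderOf y = 2 → IsConj x y) ∧
      ∀ (X : Sylow 2 M) (I : M), I ∈ (Subgroup.center ↥(X : Subgroup ↥M)).map (X : Subgroup ↥M).subtype → orderOf I = 2 →
        Subgroup.normalizer (((X : Subgroup M).map M.subtype : Subgroup S) : Set S) ≤ M →
        (∀ x y : M, orderOf x = 2 → orderOf y = 2 → IsConj x y) ∧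
          ∃ M₀ : Subgroup M, Odd (Nat.card M₀) ∧
            ∀ m : M, ∃ a ∈ M₀, ∃ c ∈ Subgroup.centralizer ({I} : Set M), m = a * c := by
  haveI : Fact (Nat.Prime 2) := ⟨Nat.prime_two⟩
  obtain ⟨i, hi⟩ := exists_prime_orderOf_dvd_card' (G := M) 2 hM.two_dvd
  have hi' : orderOf (i : S) = 2 := by rw [orderOf_coe, hi]
  obtain ⟨g, hg⟩ : ∃ g : S, g * i * g⁻¹ ∉ M := by
    by_contra! h
    have h1 : (i : S) ∈ M.normalCore := h
    have h2 := orderOf_dvd_natCard _ h1
    rw [hi'] at h2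
    exact (Nat.not_even_iff_odd.mpr hcore) (even_iff_two_dvd.mpr h2)
  have hu : orderOf (g * i * g⁻¹) = 2 := by rw [H42.orderOf_conj', hi']
  have key : ∀ s ∈ M, ∀ v ∉ M, orderOf s = 2 → orderOf v = 2 → IsConj s v := by
    intro s hs v hv hs2 hv2
    have h1 := H42.mul_self_of_orderOf_two hs2
    have h2 := H42.mul_self_of_orderOf_two hv2
    rcases Nat.even_or_odd (orderOf (v * s)) with h | h
    · obtain ⟨k, a1, a2, a3⟩ := H43.exists_central_inv h2 h1 h
      exact absurd (hC _ (hC s hs hs2 (mem_centralizer_singleton_iff.mpr a3.symm)) a1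
        (mem_centralizer_singleton_iff.mpr a2)) hv
    · obtain ⟨j, hj⟩ := H42.exists_pow_conj_of_odd h1 h2 h
      exact isConj_iff.mpr ⟨_, hj⟩
  have hall : ∀ x : S, orderOf x = 2 → IsConj (i : S) x := fun x hx => by
    by_cases h : x ∈ M
    · exact (key i i.2 _ hg hi' hu).trans (key x h _ hg hx hu).symm
    · exact key i i.2 x h hi' hx
  have hall' : ∀ x y : S, orderOf x = 2 → orderOf y = 2 → IsConj x y :=
    fun x y hx hy => (hall x hx).symm.trans (hall y hy)
  refine ⟨hall', fun X I hI hI2 hN => ?_⟩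
  have hI' : orderOf (I : S) = 2 := by rw [orderOf_coe, hI2]
  have hX := H72.isSylowIn_map M X
  have hconj : ∀ x ∈ M, orderOf x = 2 → ∃ m ∈ M, m * I * m⁻¹ = x := fun x hx hx2 => by
    obtain ⟨c, rfl⟩ := isConj_iff.mp (hall' _ _ hI' hx2)
    refine ⟨c, ?_, rfl⟩
    have h1 : H72.cj c ((X : Subgroup M).map M.subtype) ≤ M := by
      refine le_trans ?_ (hC _ hx hx2)
      rw [← H72.cj_centralizer_singleton]
      refine H72.cj_mono c ?_
      rintro _ ⟨y, hy, rfl⟩
      obtain ⟨z, hz, rfl⟩ := hI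
      exact mem_centralizer_singleton_iff.mpr
        (congrArg (fun a : X => ((a : M) : S)) (mem_center_iff.mp hz ⟨y, hy⟩))
    obtain ⟨m, hm, h2⟩ := (hX.of_card_le (H72.IsPGroup_cj c hX.isPGroup) h1
      (H72.card_cj _ _).ge).exists_cj_eq hX
    rw [← H72.cj_mul, H72.cj_eq_iff] at h2
    simpa using mul_mem (inv_mem hm) (hN h2)
  have hMt : M ≠ ⊤ := by rintro rfl; exact hg trivial
  have hse := (S0223.result M hMt hM).mpr ⟨hC, fun t ht s hs ht2 hs2 _ => by
    obtain ⟨a, ha, rfl⟩ := hconj t ht ht2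
    obtain ⟨b, hb, rfl⟩ := hconj s hs hs2
    exact ⟨b * a⁻¹, mul_mem hb (inv_mem ha), by group⟩⟩
  refine ⟨fun x y hx hy => ?_, (M ⊓ M.map (MulAut.conj (g * i * g⁻¹)).toMonoidHom).subgroupOf M,
    ?_, fun m => ?_⟩
  · obtain ⟨a, ha, h1⟩ := hconj x x.2 (by rw [orderOf_coe, hx])
    obtain ⟨b, hb, h2⟩ := hconj y y.2 (by rw [orderOf_coe, hy])
    refine isConj_iff.mpr ⟨⟨b * a⁻¹, mul_mem hb (inv_mem ha)⟩, Subtype.ext ?_⟩
    change b * a⁻¹ * x * (b * a⁻¹)⁻¹ = y
    rw [← h1, ← h2]; group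
  · rw [Nat.card_congr (subgroupOfEquivOfLe inf_le_left).toEquiv]
    exact hse.2.2 _ hg
  · obtain ⟨d, hd, h⟩ := (S1225.result M hse _ hu hg I (m * I * (m : S)⁻¹) hI' I.2
      (by rw [H42.orderOf_conj', hI']) (mul_mem (mul_mem m.2 I.2) (inv_mem m.2))).1
    refine ⟨⟨d, hd.1⟩, hd, (⟨d, hd.1⟩ : M)⁻¹ * m, mem_centralizer_singleton_iff.mpr
      (Subtype.ext ?_), by group⟩
    change d⁻¹ * m * I = I * (d⁻¹ * m)
    calc d⁻¹ * m * I = d⁻¹ * (m * I * (m : S)⁻¹) * m := by group
      _ = _ := by rw [← h]; group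

end Cfsg.Agent.S1905
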