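import Cfsg.Statements.S1907
import Cfsg.Agent.H23.ZJ2
import Cfsg.Agent.H72.SylowIn
-- import your own Cfsg.Agent.* helpers here

set_option autoImplicit false
open Cfsg

namespace Cfsg.Agent.S1907

open Subgroup in
/-- Let P be a Sylow p-subgroup of a finite group G, H = P ∩ O_{p',p}(G), N = N_G(H) and D = O_{p'}(G). (a) If y is an element of p-power order of N and d ∈ D with d⁻¹ y d ∈ N, then d = d₁ d₂ with d₁ ∈ C_D(y) and d₂ ∈ C_D(H). (b) Two elements of P that are conjugate in G are conjugate in N. -/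
theorem result {G : Type*} [Group G] [Finite G] {p : ℕ} [Fact p.Prime] (P : Sylow p G) :
    (∀ y ∈ Subgroup.normalizer (((P : Subgroup G) ⊓ Cfsg.pPrimePCore p G : Subgroup G) : Set G), (∃ k : ℕ, orderOf y = p ^ k) →
      ∀ d ∈ Cfsg.pPrimeCore p G, d⁻¹ * y * d ∈ Subgroup.normalizer (((P : Subgroup G) ⊓ Cfsg.pPrimePCore p G : Subgroup G) : Set G) →
        ∃ d₁ ∈ Cfsg.pPrimeCore p G ⊓ Subgroup.centralizer ({y} : Set G),
          ∃ d₂ ∈ Cfsg.pPrimeCore p G ⊓ Subgroup.centralizer (((P : Subgroup G) ⊓ Cfsg.pPrimePCore p G : Subgroup G) : Set G), d = d₁ * d₂) ∧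
    ∀ x y : G, x ∈ (P : Subgroup G) → y ∈ (P : Subgroup G) → IsConj x y →
      ∃ n ∈ Subgroup.normalizer (((P : Subgroup G) ⊓ Cfsg.pPrimePCore p G : Subgroup G) : Set G), n * x * n⁻¹ = y := by
  set D := pPrimeCore p G with hD
  set H := (P : Subgroup G) ⊓ pPrimePCore p G with hH
  have hDc : (Nat.card D).Coprime p := H22.coprime_card_pPrimeCore
  have hHp : IsPGroup p H := P.isPGroup'.to_le inf_le_left
  have ha : ∀ y ∈ normalizer (H : Set G), (∃ k : ℕ, orderOf y = p ^ k) → ∀ d ∈ D,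
      d⁻¹ * y * d ∈ normalizer (H : Set G) → ∃ d₁ ∈ D ⊓ centralizer ({y} : Set G),
        ∃ d₂ ∈ D ⊓ centralizer (H : Set G), d = d₁ * d₂ := by
    rintro y hy ⟨k, hk⟩ d hd hdy
    set E := D ⊓ centralizer (H : Set G) with hE
    have hY : IsPGroup p (zpowers y) := IsPGroup.of_card (by rw [Nat.card_zpowers, hk])
    have hYE : zpowers y ≤ normalizer (E : Set G) := H72.le_normalizer_inf
      (by rw [normalizer_eq_top]; exact le_top) (H72.le_normalizer_centralizer (zpowers_le.mpr hy))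
    have h1 : y⁻¹ * (d⁻¹ * y * d) ∈ E := by
      have h2 : y⁻¹ * (d⁻¹ * y * d) ∈ D := by
        have := mul_mem ((inferInstance : D.Normal).conj_mem _ (inv_mem hd) y⁻¹) hd
        simpa [mul_assoc] using this
      have h3 := mul_mem (inv_mem hy) hdy
      refine ⟨h2, mem_centralizer_iff.mpr fun h hh => ?_⟩
      generalize y⁻¹ * (d⁻¹ * y * d) = n at h2 h3
      have h4 : n * h * n⁻¹ * h⁻¹ ∈ H ⊓ D := mem_inf.mpr ⟨mul_mem (H72.conj_mem_of_mem_normalizer h3 hh)
        (inv_mem hh), by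
          have := mul_mem h2 ((inferInstance : D.Normal).conj_mem _ (inv_mem h2) h)
          simpa [mul_assoc] using this⟩
      rw [H22.inf_eq_bot_of_pgroup_coprime hHp hDc, mem_bot, mul_inv_eq_one,
        mul_inv_eq_iff_eq_mul] at h4
      exact h4.symm
    have hsyl : H72.IsSylowIn p (zpowers y) (zpowers y ⊔ E) :=
      (H72.isSylowIn_of_not_dvd_relIndex hY le_sup_left
        (H22.sylIn_sup_of_coprime hY hDc).not_dvd_relIndex).of_le le_sup_left
        (sup_le_sup_left inf_le_left _)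
    obtain ⟨g, hg, hgy⟩ := hsyl.exists_cj_le (Q := zpowers (d⁻¹ * y * d))
      (IsPGroup.of_card (n := k) (by
        rw [Nat.card_zpowers, ← hk]
        simpa using (MulAut.conj d⁻¹).orderOf_eq y))
      (zpowers_le.mpr (by simpa using mul_mem_sup (mem_zpowers y) h1))
    obtain ⟨a, ha, e, he, rfl⟩ := H72.mem_sup_of_normalizes hYE hg
    have h2 : e * (d⁻¹ * y * d) * e⁻¹ ∈ zpowers y := by
      have := mul_mem (mul_mem (inv_mem ha) (hgy (H72.conj_mem_cj (mem_zpowers _)))) ha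
      convert this using 1
      group
    have h3 : y⁻¹ * (e * (d⁻¹ * y * d) * e⁻¹) ∈ zpowers y ⊓ D := by
      refine mem_inf.mpr ⟨mul_mem (inv_mem (mem_zpowers y)) h2, ?_⟩
      have h4 := mul_mem hd (inv_mem (mem_inf.mp he).1)
      have := mul_mem ((inferInstance : D.Normal).conj_mem _ (inv_mem h4) y⁻¹) h4
      simpa [mul_assoc] using this
    rw [H22.inf_eq_bot_of_pgroup_coprime hY hDc, mem_bot, inv_mul_eq_one] at h3
    refine ⟨d * e⁻¹, mem_inf.mpr ⟨mul_mem hd (inv_mem (mem_inf.mp he).1),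
      mem_centralizer_singleton_iff.mpr ?_⟩, e, he,
      by group⟩
    calc d * e⁻¹ * y = d * e⁻¹ * (e * (d⁻¹ * y * d) * e⁻¹) := by rw [← h3]
      _ = _ := by group
  refine ⟨ha, fun x y hx hy hxy => ?_⟩
  obtain ⟨g, rfl⟩ := isConj_iff.mp hxy
  haveI : (pPrimePCore p G).Normal := Normal.comap inferInstance _
  have hPN : (P : Subgroup G) ≤ normalizer (H : Set G) :=
    H72.le_normalizer_inf le_normalizer (by rw [normalizer_eq_top]; exact le_top)
  have hπ := QuotientGroup.mk'_surjective D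
  have hmap : H.map (QuotientGroup.mk' D) = pCore p (G ⧸ D) := by
    have := ((H72.isSylowIn_top P).inf_normal (N := pPrimePCore p G) le_top
      (by rw [normalizer_eq_top])).map (QuotientGroup.mk' D)
    rw [pPrimePCore, map_comap_eq_self_of_surjective hπ] at this
    exact this.eq_of_isPGroup H22.isPGroup_pCore
  have htop := H23.ker_sup_normalizer_eq_top _ hπ (by rw [QuotientGroup.ker_mk']; exact hDc) hHp
    (by rw [hmap]; infer_instance)
  rw [QuotientGroup.ker_mk'] at htop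
  obtain ⟨d, hd, n, hn, rfl⟩ := mem_sup_of_normal_left.mp (htop.ge (mem_top g))
  obtain ⟨d₁, h1, d₂, h2, rfl⟩ := ha _ (hPN hy) (by
    obtain ⟨k, hk⟩ := IsPGroup.iff_orderOf.mp P.isPGroup' ⟨_, hy⟩
    exact ⟨k, by rw [← hk, orderOf_mk]⟩) d hd (by
      convert mul_mem (mul_mem hn (hPN hx)) (inv_mem hn) using 1
      group)
  refine ⟨d₂ * n, mul_mem (centralizer_le_normalizer _ h2.2) hn, ?_⟩
  have h3 := mem_centralizer_singleton_iff.mp h1.2
  calc d₂ * n * x * (d₂ * n)⁻¹ = d₁⁻¹ * (d₁ * d₂ * n * x * (d₁ * d₂ * n)⁻¹ * d₁) := by group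
    _ = _ := by rw [← h3, inv_mul_cancel_left]

end Cfsg.Agent.S1907
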