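import Cfsg.Statements.S1908
import Cfsg.Agent.H84.OddCoprime

set_option autoImplicit false
set_option linter.style.haveILetI false
open Cfsg

namespace Cfsg.Agent.S1908

open Subgroup Cfsg.Agent.H84 Cfsg.Agent.H1 Pointwise


/-- Let π be a set of primes and G a finite π-separable group: G has a chain of normal subgroups from 1 to G in which each successive index is divisible only by primes in π or only by primes outside π. Then G has a Hall π-subgroup, any two Hall π-subgroups of G are conjugate, and every subgroup of G whose order is divisible only by primes in π lies in some Hall π-subgroup. -/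
theorem result {G : Type*} [Group G] [Finite G] (π : Set ℕ)
    (hsep : ∃ (n : ℕ) (H : Fin (n + 1) → Subgroup G), H 0 = ⊥ ∧ H (Fin.last n) = ⊤ ∧ Monotone H ∧ (∀ i, (H i).Normal) ∧
      ∀ i : Fin n, (∀ q : ℕ, q.Prime → q ∣ (H i.castSucc).relIndex (H i.succ) → q ∈ π) ∨
        (∀ q : ℕ, q.Prime → q ∣ (H i.castSucc).relIndex (H i.succ) → q ∉ π)) :
    (∃ K : Subgroup G, Cfsg.IsPiHall π K) ∧
      (∀ K L : Subgroup G, Cfsg.IsPiHall π K → Cfsg.IsPiHall π L → ∃ g : G, L = K.map (MulAut.conj g).toMonoidHom) ∧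
      ∀ U : Subgroup G, (∀ q : ℕ, q.Prime → q ∣ Nat.card U → q ∈ π) → ∃ K : Subgroup G, Cfsg.IsPiHall π K ∧ U ≤ K := by
  obtain ⟨n, H, h0, hn, hmono, hnorm, hstep⟩ := hsep
  have key : ∀ i : Fin (n + 1), HallProp False π (G ⧸ H i) := by
    intro i
    induction i using Fin.reverseInduction with
    | last =>
      haveI : Subsingleton (G ⧸ H (Fin.last n)) := by rw [hn]; exact QuotientGroup.subsingleton_quotient_top
      exact hallProp_of_subsingleton
    | cast i ih => exact ih.of_le (hmono i.castSucc_le_succ) (hstep i)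
  have h1 : HallProp False π G := by
    refine HallProp.of_quotient (H 0) (Or.inl ?_) (key 0)
    intro p hp hd
    rw [h0, card_bot] at hd
    exact absurd (Nat.dvd_one.mp hd) hp.ne_one
  simp only [← hall_iff_isPiHall]
  obtain ⟨⟨K, hK⟩, h2⟩ := h1
  refine ⟨⟨K, hK⟩, fun K L hK hL => ?_, fun U hU => ?_⟩
  · obtain ⟨g, hg⟩ := h2 L K hL hK.1 False.elim
    exact ⟨g⁻¹, (conj_smul_eq_of_card_eq (by simpa using hg) (hL.card_eq hK).le).symm⟩
  · obtain ⟨g, hg⟩ := h2 K U hK hU False.elim
    exact ⟨MulAut.conj g • K, hK.conj g, fun k hk => H2.mem_conj_smul.mpr (hg k hk)⟩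

end Cfsg.Agent.S1908
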