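import Cfsg.Statements.S1910
import Cfsg.Agent.H72.SylowIn
import Cfsg.Agent.H22.Core
-- import your own Cfsg.Agent.* helpers here

set_option autoImplicit false
open Cfsg

namespace Cfsg.Agent.S1910

open Subgroup H72
open scoped commutatorElement

theorem mem_normalizer_of_tight {G : Type*} [Group G] [Finite G] {Q : Subgroup G}
    (hQ : IsTightlyEmbedded Q) {T : Subgroup G} (hT : IsPGroup 2 T) {t x : G} (ht : t ∈ T)
    (h1 : t ≠ 1) (h2 : t ∈ Q) (h3 : t ∈ cj x Q) : x ∈ normalizer (Q : Set G) := by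
  haveI : Fact (Nat.Prime 2) := ⟨Nat.prime_two⟩
  by_contra h
  have := H22.inf_eq_bot_of_pgroup_coprime hT (Nat.coprime_two_right.mpr (hQ.2 x h))
  exact h1 (mem_bot.mp (this.le (mem_inf.mpr ⟨ht, mem_inf.mpr ⟨h2, h3⟩⟩)))

theorem tight_cj {G : Type*} [Group G] {Q : Subgroup G} (hQ : IsTightlyEmbedded Q) (g : G) :
    IsTightlyEmbedded (cj g Q) := by
  refine ⟨by rw [card_cj]; exact hQ.1, fun x hx => ?_⟩
  rw [← cj_normalizer, mem_cj] at hx
  have := hQ.2 _ hx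
  rw [← card_cj g, cj_inf, ← cj_mul, show g * (g⁻¹ * x * g) = x * g by group, cj_mul] at this
  exact this

theorem exists_injective {G : Type*} [Group G] [Finite G] {Q₁ Q₂ T₁ T₂ W : Subgroup G}
    (hQ : IsTightlyEmbedded Q₂) (h : G) (hh : cj h Q₂ = Q₁) (h1 : T₁ ≤ Q₁) (h2 : T₂ ≤ Q₂)
    (h2N : T₂ ≤ normalizer (Q₁ : Set G)) (hc : T₁ ≤ centralizer (T₂ : Set G)) (hi : T₂ ⊓ Q₁ = ⊥)
    (hW : IsSylowIn 2 W (Q₁ ⊔ T₂)) (h1W : T₁ ≤ W) (h2W : T₂ ≤ W)
    (hN : W ⊓ Q₁ ⊓ normalizer (Q₂ : Set G) ≤ T₁) : ∃ φ : T₂ →* T₁, Function.Injective φ := by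
  haveI : Fact (Nat.Prime 2) := ⟨Nat.prime_two⟩
  have hT₂ := hW.isPGroup.to_le h2W
  have hY : ∀ y ∈ T₁ ⊔ T₂, y ∈ Q₁ → y ∈ T₁ := fun y hy hyQ => by
    obtain ⟨a, ha, b, hb, rfl⟩ := mem_sup_of_normalizes (hc.trans (centralizer_le_normalizer _)) hy
    have : b ∈ T₂ ⊓ Q₁ := mem_inf.mpr ⟨hb, by simpa using mul_mem (inv_mem (h1 ha)) hyQ⟩
    rw [hi, mem_bot] at this
    rwa [this, mul_one]
  by_cases hle : W ≤ T₁ ⊔ T₂
  · have hs := hW.inf_normal le_sup_left (sup_le le_normalizer h2N)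
    obtain ⟨k, -, hk⟩ := hs.exists_cj_le (IsPGroup_cj h hT₂) (hh ▸ cj_mono h h2)
    rw [← cj_mul] at hk
    refine ⟨((MulAut.conj (k * h)).toMonoidHom.comp T₂.subtype).codRestrict T₁ fun t => ?_, ?_⟩
    · have := hk (conj_mem_cj t.2)
      exact hY _ (hle this.1) this.2
    · exact (MonoidHom.injective_codRestrict _ _ _).mpr
        ((MulAut.conj (k * h)).injective.comp T₂.subtype_injective)
  · obtain ⟨w, hw, hwY⟩ := SetLike.exists_of_lt (lt_inf_normalizer_of_isPGroup hW.isPGroup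
      (lt_of_le_not_ge (sup_le h1W h2W) hle))
    obtain ⟨x, hx, t₂, ht₂, rfl⟩ := mem_sup_of_normalizes' h2N (hW.le hw.1)
    have hxW : x ∈ W := by simpa using mul_mem (mem_inf.mp hw).1 (inv_mem (h2W ht₂))
    have hxN : x ∈ normalizer ((T₁ ⊔ T₂ : Subgroup G) : Set G) := by
      simpa using mul_mem (mem_inf.mp hw).2 (inv_mem (le_normalizer (mem_sup_right ht₂ : t₂ ∈ T₁ ⊔ T₂)))
    have hxQ : x ∉ normalizer (Q₂ : Set G) := fun h' =>
      hwY (mul_mem_sup (hN (mem_inf.mpr ⟨mem_inf.mpr ⟨hxW, hx⟩, h'⟩)) ht₂)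
    have hφ : ∀ t ∈ T₂, ⁅x, t⁆ ∈ T₁ := fun t ht => hY _
      (mul_mem (conj_mem_of_mem_normalizer hxN (mem_sup_right ht)) (inv_mem (mem_sup_right ht))) (by
        have := mul_mem hx (conj_mem_of_mem_normalizer (h2N ht) (inv_mem hx))
        simpa [commutatorElement_def, mul_assoc] using this)
    refine ⟨MonoidHom.mk' (fun t => ⟨_, hφ t t.2⟩) fun a b => Subtype.ext ?_, ?_⟩
    · have := mem_centralizer_iff.mp (hc (hφ b b.2)) a a.2
      change ⁅x, (a : G) * b⁆ = ⁅x, (a : G)⁆ * ⁅x, (b : G)⁆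
      calc ⁅x, (a : G) * b⁆ = ⁅x, (a : G)⁆ * (a * ⁅x, (b : G)⁆) * (a : G)⁻¹ := by
            simp only [commutatorElement_def]; group
        _ = _ := by rw [this]; group
    · rw [injective_iff_map_eq_one]
      intro t ht
      have h3 : ⁅x, (t : G)⁆ = 1 := congrArg Subtype.val ht
      by_contra h4
      refine hxQ (mem_normalizer_of_tight hQ hT₂ t.2 (fun h => h4 (Subtype.ext h)) (h2 t.2) ?_)
      have := conj_mem_cj (g := x) (h2 t.2)
      rwa [commutatorElement_eq_one_iff_mul_comm.mp h3, mul_inv_cancel_right] at this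

/-- Let Q be a tightly embedded subgroup of a finite group G, g an element outside N_G(Q), T a nontrivial Sylow 2-subgroup of Q^g ∩ N_G(Q), and S a Sylow 2-subgroup of QT containing T. Then T ∩ Q = 1, and N_S(T) is the direct product of T and N_S(T) ∩ Q, with N_S(T) ∩ Q isomorphic to T. -/
theorem result {G : Type*} [Group G] [Finite G] (Q : Subgroup G) (hQ : Cfsg.IsTightlyEmbedded Q)
    (g : G) (hg : g ∉ Subgroup.normalizer (Q : Set G))
    (T : Subgroup G) (hT1 : T ≠ ⊥) (hT : T ≤ Q.map (MulAut.conj g).toMonoidHom ⊓ Subgroup.normalizer (Q : Set G))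
    (hTsyl : IsPGroup 2 T ∧ ¬ 2 ∣ T.relIndex (Q.map (MulAut.conj g).toMonoidHom ⊓ Subgroup.normalizer (Q : Set G)))
    (S : Subgroup G) (hTS : T ≤ S) (hS : S ≤ Q ⊔ T) (hSsyl : IsPGroup 2 S ∧ ¬ 2 ∣ S.relIndex (Q ⊔ T)) :
    T ⊓ Q = ⊥ ∧
      T ⊓ (S ⊓ Subgroup.normalizer (T : Set G) ⊓ Q) = ⊥ ∧
      ⁅T, S ⊓ Subgroup.normalizer (T : Set G) ⊓ Q⁆ = ⊥ ∧
      T ⊔ (S ⊓ Subgroup.normalizer (T : Set G) ⊓ Q) = S ⊓ Subgroup.normalizer (T : Set G) ∧
      Nonempty (↥(S ⊓ Subgroup.normalizer (T : Set G) ⊓ Q) ≃* T) := by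
  haveI : Fact (Nat.Prime 2) := ⟨Nat.prime_two⟩
  have hTs := isSylowIn_of_not_dvd_relIndex hTsyl.1 hT hTsyl.2
  have hSs := isSylowIn_of_not_dvd_relIndex hSsyl.1 hS hSsyl.2
  have hTQ : T ≤ cj g Q := hT.trans inf_le_left
  have hTN : T ≤ normalizer (Q : Set G) := hT.trans inf_le_right
  have hodd : ∀ x ∈ S, x ∈ Q → x ∈ cj g Q → x = 1 := fun x h1 h2 h3 => by
    by_contra h
    exact hg (mem_normalizer_of_tight hQ hSsyl.1 h1 h h2 h3)
  have hi : T ⊓ Q = ⊥ := eq_bot_iff.mpr fun x hx => hodd x (hTS hx.1) hx.2 (hTQ hx.1)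
  set R := S ⊓ normalizer (T : Set G) ⊓ Q with hR
  have hRS : R ≤ S := inf_le_left.trans inf_le_left
  have hcomm : ∀ r ∈ S, r ∈ Q → r ∈ normalizer (cj g Q : Set G) → r ∈ centralizer (T : Set G) :=
    fun r h1 h2 h3 => mem_centralizer_iff.mpr fun t ht => by
      rw [← commutatorElement_eq_one_iff_mul_comm]
      refine hodd _ (mul_mem (mul_mem (mul_mem (hTS ht) h1) (inv_mem (hTS ht))) (inv_mem h1))
        (mul_mem (conj_mem_of_mem_normalizer (hTN ht) h2) (inv_mem h2)) ?_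
      have := mul_mem (hTQ ht) (conj_mem_of_mem_normalizer h3 (inv_mem (hTQ ht)))
      simpa [commutatorElement_def, mul_assoc] using this
  have hRN : R ≤ normalizer (cj g Q : Set G) := fun r hr => by
    obtain ⟨t, ht, h1⟩ := (bot_or_exists_ne_one T).resolve_left hT1
    refine mem_normalizer_of_tight (tight_cj hQ g) hTsyl.1 ht h1 (hTQ ht) ?_
    rw [mem_cj]
    exact hTQ (conj_mem_of_mem_normalizer' hr.1.2 ht)
  have hRC : R ≤ centralizer (T : Set G) := fun r hr => hcomm r hr.1.1 hr.2 (hRN hr)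
  refine ⟨hi, eq_bot_iff.mpr (hi ▸ inf_le_inf_left _ inf_le_right), ?_, ?_, ?_⟩
  · rw [commutator_comm, commutator_eq_bot_iff_le_centralizer]; exact hRC
  · refine le_antisymm (sup_le (le_inf hTS le_normalizer) inf_le_left) fun s hs => ?_
    obtain ⟨q, hq, t, ht, rfl⟩ := mem_sup_of_normalizes' hTN (hS hs.1)
    refine mul_mem (mem_sup_right (mem_inf.mpr ⟨?_, hq⟩)) (mem_sup_left ht)
    simpa using mul_mem hs (inv_mem (le_inf hTS le_normalizer ht))
  · obtain ⟨φ, hφ⟩ := exists_injective (T₁ := R) (tight_cj hQ g) g⁻¹ (cj_inv_cj g Q) inf_le_right hTQ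
      hTN hRC hi hSs hRS hTS (fun r hr => mem_inf.mpr ⟨mem_inf.mpr ⟨hr.1.1,
        centralizer_le_normalizer _ (hcomm r hr.1.1 hr.1.2 hr.2)⟩, hr.1.2⟩)
    obtain ⟨W, hW, hW'⟩ := exists_isSylowIn_ge (hSsyl.1.to_le (sup_le hTS hRS))
      (sup_le_sup_right hTQ R)
    obtain ⟨ψ, hψ⟩ := exists_injective (T₂ := R) hQ g rfl hTQ inf_le_right hRN
      (le_centralizer_iff.mp hRC) (eq_bot_iff.mpr fun x hx => hodd x hx.1.1.1 hx.1.2 hx.2) hW
      (le_sup_left.trans hW') (le_sup_right.trans hW')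
      (hTs.maximal _ (hW.isPGroup.to_le (inf_le_left.trans inf_le_left))
        (le_inf (le_inf (le_sup_left.trans hW') hTQ) hTN)
        (inf_le_inf_right _ inf_le_right)).le
    exact ⟨MulEquiv.ofBijective ψ (hψ.bijective_of_nat_card_le
      (Nat.card_le_card_of_injective φ hφ))⟩

end Cfsg.Agent.S1910
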