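import Cfsg.Statements.S1913
import Cfsg.Agent.H36.PD
import Cfsg.Agent.ASCH.Main

set_option autoImplicit false
open Cfsg

namespace Cfsg.Agent.S1913

open Subgroup Cfsg.Agent.H36


/-- Let z be an involution in the centre of a Sylow 2-subgroup of a finite group G and H a proper subgroup such that z ∈ gHg⁻¹ exactly when g ∈ H, and such that for every involution u commuting with z whose centralizer is not contained in H, the subgroup H ∩ L is strongly embedded in L = ⟨G-conjugates of z commuting with u⟩. Then, with K the normal closure of z in G, H ∩ K is strongly embedded in K. -/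
theorem result {G : Type*} [Group G] [Finite G] (P : Sylow 2 G) (z : G) (hz2 : orderOf z = 2)
    (hzP : z ∈ (Subgroup.center ↥(P : Subgroup G)).map (P : Subgroup G).subtype)
    (H : Subgroup G) (hH : H ≠ ⊤) (hi : ∀ g : G, z ∈ H.map (MulAut.conj g).toMonoidHom ↔ g ∈ H)
    (hii : ∀ u : G, orderOf u = 2 → u * z = z * u → ¬ Subgroup.centralizer ({u} : Set G) ≤ H →
      Cfsg.IsStronglyEmbedded (H.subgroupOf (Subgroup.closure {x : G | IsConj z x ∧ x * u = u * x}))) :
    Cfsg.IsStronglyEmbedded (H.subgroupOf (Subgroup.normalClosure ({z} : Set G))) := by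
  obtain ⟨y, hy, rfl⟩ := hzP
  rw [normalClosure_eq]
  refine se_of_local (fun _ _ _ _ _ _ h => ASCH.zd h) hH hz2 P
    (fun s hs => congrArg Subtype.val (mem_center_iff.1 hy ⟨s, hs⟩))
    (by simpa using H43.mem_map_conj.1 ((hi 1).2 (one_mem _))) (fun g hg => ?_)
    fun x hx hc hn => not_mem_of_se (hii x hx hc hn) hx ((closure_le _).2 fun w hw =>
      H43.mem_centralizer_singleton.2 hw.2.symm)
  exact inv_mem_iff.1 ((hi g⁻¹).1 (H43.mem_map_conj.2 (by rwa [inv_inv])))

end Cfsg.Agent.S1913
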