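import Cfsg.Statements.S1921
import Cfsg.Agent.H44.Components
import Cfsg.Agent.H72.Conj
-- import your own Cfsg.Agent.* helpers here

set_option autoImplicit false
open Cfsg

namespace Cfsg.Agent.S1921

open Subgroup in
/-- Let a be an involution of a finite group H and L a component of H with a L a⁻¹ ≠ L; put M = ⟨L, aLa⁻¹⟩ and let J be the subgroup generated by the elements x · a x a⁻¹ with x ∈ L (the diagonal). Then every element of M outside J·Z(M) generates M together with J. -/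
theorem result {H : Type*} [Group H] [Finite H] (a : H) (ha : orderOf a = 2) (L : Subgroup H) (hL : Cfsg.IsComponent L)
    (hLa : L.map (MulAut.conj a).toMonoidHom ≠ L) (x : H) (hxM : x ∈ L ⊔ L.map (MulAut.conj a).toMonoidHom)
    (hxJ : x ∉ Subgroup.closure {y : H | ∃ l ∈ L, y = l * (a * l * a⁻¹)} ⊔
      ((L ⊔ L.map (MulAut.conj a).toMonoidHom) ⊓ Subgroup.centralizer ((L ⊔ L.map (MulAut.conj a).toMonoidHom : Subgroup H) : Set H))) :
    Subgroup.closure {y : H | ∃ l ∈ L, y = l * (a * l * a⁻¹)} ⊔ Subgroup.zpowers x = L ⊔ L.map (MulAut.conj a).toMonoidHom := by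
  have hL' := H44.comp_top_iff.mpr hL
  have hc : H72.cj a L ≤ centralizer (L : Set H) := commutator_eq_bot_iff_le_centralizer.mp
    ((hL'.conj (g := a) (by rw [normalizer_eq_top]; trivial)).commutator_eq_bot_of_ne hL' hLa)
  set J := Subgroup.closure {y : H | ∃ l ∈ L, y = l * (a * l * a⁻¹)} with hJ
  have hj : ∀ l ∈ L, l * (a * l * a⁻¹) ∈ J := fun l hl => subset_closure ⟨l, hl, rfl⟩
  refine le_antisymm (sup_le ?_ (zpowers_le.mpr hxM)) ?_
  · rw [hJ, closure_le]
    rintro _ ⟨l, hl, rfl⟩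
    exact mul_mem_sup hl (H72.conj_mem_cj hl)
  obtain ⟨l₁, h1, _, ⟨l₂, h2, rfl⟩, rfl⟩ := H72.mem_sup_of_normalizes'
    (hc.trans (centralizer_le_normalizer _)) hxM
  change l₁ * (a * l₂ * a⁻¹) ∉ _ at hxJ
  set N := J ⊔ zpowers (l₁ * (MulAut.conj a).toMonoidHom l₂) with hN
  have hy : l₁ * l₂⁻¹ ∈ N := by
    have := mul_mem (mem_sup_right (mem_zpowers (l₁ * (a * l₂ * a⁻¹))) : _ ∈ N)
      (inv_mem (mem_sup_left (hj l₂ h2) : _ ∈ N))
    convert this using 1
    group
  have hLN : L ≤ N := by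
    have hn : L ≤ normalizer ((N ⊓ L : Subgroup H) : Set H) := fun l hl =>
      H72.mem_normalizer_of_conj_mem fun n hn => mem_inf.mpr ⟨by
        have h3 : l * (a * l * a⁻¹) ∈ N := mem_sup_left (hj l hl)
        have h4 := mem_centralizer_iff.mp (hc (H72.conj_mem_cj hl)) n (mem_inf.mp hn).2
        convert mul_mem (mul_mem h3 (mem_inf.mp hn).1) (inv_mem h3) using 1
        rw [mul_assoc l _ n, ← h4]; group,
        mul_mem (mul_mem hl (mem_inf.mp hn).2) (inv_mem hl)⟩
    rcases hL'.qs.sn (H44.SN.of_le_normalizer inf_le_right hn) with h | h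
    · exact inf_eq_right.mp h
    · exfalso
      have h3 := mul_mem h1 (inv_mem h2)
      have h4 := h (mem_inf.mpr ⟨hy, h3⟩)
      refine hxJ ?_
      rw [show l₁ * (a * l₂ * a⁻¹) = l₁ * l₂⁻¹ * (l₂ * (a * l₂ * a⁻¹)) by group]
      refine mul_mem (mem_sup_right (mem_inf.mpr ⟨mem_sup_left h3, ?_⟩)) (mem_sup_left (hj l₂ h2))
      rw [H72.centralizer_sup]
      exact mem_inf.mpr ⟨h4, le_centralizer_iff.mp hc h3⟩
  refine sup_le hLN ?_
  rintro _ ⟨l, hl, rfl⟩
  simpa using mul_mem (inv_mem (hLN hl)) (mem_sup_left (hj l hl) : _ ∈ N)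

end Cfsg.Agent.S1921
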