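import Cfsg.Statements.S1922
import Cfsg.Agent.H72.SylowIn
import Cfsg.Agent.H43.SE
import Cfsg.Agent.H42.Isolated
import Mathlib.GroupTheory.Perm.Cycle.Type
-- import your own Cfsg.Agent.* helpers here

set_option autoImplicit false
open Cfsg

namespace Cfsg.Agent.S1922

open Subgroup

section
variable {G Ω : Type*} [Group G] [Finite G] [MulAction G Ω] {D : G → Prop}
  (hD2 : ∀ t, D t → t * t = 1) (hDc : ∀ t g, D t → D (g * t * g⁻¹))
  (h1 : ∀ t, D t → ∀ a b : Ω, t • a = a → t • b = b → a = b)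
  (h2 : ∀ s t, D s → D t → t ≠ s → t * s = s * t → ∀ a b : Ω, (s * t) • a = a → (s * t) • b = b → a = b)

omit [Finite G] in
include hD2 hDc in
theorem mul_pow_mem {a b : G} (ha : D a) (hb : D b) (k : ℕ) : D (a * (a * b) ^ k) := by
  rcases Nat.even_or_odd' k with ⟨j, rfl | rfl⟩
  · rw [H42.mul_pow_even_isConj (hD2 a ha) (hD2 b hb)]; exact hDc _ _ ha
  · rw [H42.mul_pow_odd_isConj (hD2 a ha) (hD2 b hb)]; exact hDc _ _ hb

include hD2 hDc h2 in
theorem odd_of {a b : G} (ha : D a) (hb : D b) {α β : Ω} (hαβ : α ≠ β)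
    (h : ∀ k : ℕ, Commute a ((a * b) ^ k) → Commute b ((a * b) ^ k) →
      (a * b) ^ k • α = α ∧ (a * b) ^ k • β = β) : Odd (orderOf (a * b)) := by
  by_contra hodd
  obtain ⟨m, hm⟩ := Nat.not_odd_iff_even.mp hodd
  have hm0 : m ≠ 0 := by rintro rfl; exact (orderOf_pos _).ne' hm
  obtain ⟨a1, -, a3, a4⟩ := H42.half_pow_facts (hD2 a ha) (hD2 b hb) hm0 (hm.trans (two_mul m).symm)
  obtain ⟨b1, b2⟩ := h m a3 a4
  refine hαβ (h2 a _ ha (mul_pow_mem hD2 hDc ha hb m) (by simpa using a1)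
    ((Commute.refl a).mul_left a3.symm) α β ?_ ?_) <;> rwa [← mul_assoc, hD2 a ha, one_mul]

include hD2 hDc h1 h2 in
theorem odd_card {α β : Ω} (hαβ : α ≠ β) {z s : G} (hz : D z) (hzα : z • α = α) (hs : D s)
    (hsβ : s • β = β) : Odd (Nat.card {t // D t ∧ t • α = α}) := by
  classical
  have hfix : ∀ t, D t → ∀ a : Ω, t • a = a → ∀ u, Commute t u → u • a = a := fun t ht a ha u hu =>
    h1 t ht _ _ (by rw [← mul_smul, hu.eq, mul_smul, ha]) ha
  have hinv : ∀ t, D t → t⁻¹ = t := fun t ht => inv_eq_of_mul_eq_one_right (hD2 t ht)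
  have hcan : ∀ t, D t → t • α = α → ∃ w, D w ∧ w • α = β ∧ w • β = α ∧ w * s * w = t ∧
      ∀ c, Commute c s → Commute c t → Commute c w := fun t ht htα => by
    obtain ⟨k, b1, b2⟩ := H43.exists_pow_conj (hD2 s hs) (hD2 t ht)
      (odd_of hD2 hDc h2 hs ht hαβ fun k c1 c2 => ⟨hfix t ht α htα _ c2, hfix s hs β hsβ _ c1⟩)
    have b3 : ((s * t) ^ k * s) • β = α := h1 t ht _ _ (by
      generalize (s * t) ^ k * s = w at b1 b2
      rw [← b2, ← mul_smul, mul_assoc, b1, mul_one, mul_smul, hsβ]) htα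
    refine ⟨_, ?_, by rw [← b3, ← mul_smul, b1, one_smul], b3, b2,
      fun c c1 c2 => ((c1.mul_right c2).pow_right k).mul_right c1⟩
    have := hDc _ s⁻¹ (mul_pow_mem hD2 hDc hs ht k)
    rwa [inv_mul_cancel_left, inv_inv] at this
  let W := {w // D w ∧ w • α = β ∧ w • β = α}
  have hW : ∀ w : W, D ((w : G) * s * w) ∧ ((w : G) * s * w) • α = α := fun w =>
    ⟨by simpa [hinv _ w.2.1] using hDc s w hs, by rw [mul_smul, mul_smul, w.2.2.1, hsβ, w.2.2.2]⟩
  have hcard : Nat.card W = Nat.card {t // D t ∧ t • α = α} := by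
    refine Nat.card_eq_of_bijective (fun w => ⟨_, hW w⟩) ⟨fun a b hab => ?_, fun t => ?_⟩
    · obtain ⟨w, b1, b2, b3, b4, b5⟩ := hcan _ (hW a).1 (hW a).2
      have key : ∀ v : W, (v : G) * s * v = a * s * a → (v : G) = w := fun v hv => by
        have c1 : Odd (orderOf (w * v)) := odd_of hD2 hDc h2 b1 v.2.1 hαβ fun k _ _ =>
          ⟨(MulAction.stabilizer G α).pow_mem (by
            rw [MulAction.mem_stabilizer_iff, mul_smul, v.2.2.1, b3]) k,
           (MulAction.stabilizer G β).pow_mem (by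
            rw [MulAction.mem_stabilizer_iff, mul_smul, v.2.2.2, b2]) k⟩
        have e1 := hD2 w b1
        have e2 := hD2 v v.2.1
        rw [← b4] at hv b5
        have c2 : Commute (w * v) s := by
          change w * v * s = s * (w * v)
          calc w * v * s = w * (v * s * v) * v := by simp only [mul_assoc, e2, mul_one]
            _ = w * w * s * (w * v) := by rw [hv]; simp only [mul_assoc]
            _ = _ := by rw [e1, one_mul]
        have c3 : Commute (w * v) (w * s * w) := by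
          change w * v * (w * s * w) = w * s * w * (w * v)
          calc w * v * (w * s * w) = w * (v * v) * s * v := by rw [← hv]; simp only [mul_assoc]
            _ = w * s * (w * w) * v := by rw [e1, e2, mul_one, mul_one]
            _ = _ := by simp only [mul_assoc]
        have c4 : w * v * w = v := by rw [(b5 _ c2 c3).eq, ← mul_assoc, e1, one_mul]
        have c5 := H42.eq_one_of_sq_of_odd c1 (by rw [pow_two, ← mul_assoc, c4, e2])
        rw [← hinv w b1]; exact eq_inv_of_mul_eq_one_right c5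
      exact Subtype.ext ((key a rfl).trans (key b (congrArg Subtype.val hab).symm).symm)
    · obtain ⟨w, b1, b2, b3, b4, -⟩ := hcan t t.2.1 t.2.2
      exact ⟨⟨w, b1, b2, b3⟩, Subtype.ext b4⟩
  rw [← hcard]
  obtain ⟨w, b1, b2, b3, -⟩ := hcan z hz hzα
  haveI : Fintype W := Fintype.ofFinite _
  let f : Function.End W := fun v => ⟨w * v * w, by simpa [hinv _ b1] using hDc v w v.2.1,
    by rw [mul_smul, mul_smul, b2, v.2.2.2, b2], by rw [mul_smul, mul_smul, b3, v.2.2.1, b3]⟩
  haveI : Fact (Nat.Prime 2) := ⟨Nat.prime_two⟩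
  have hf := Equiv.Perm.card_fixedPoints_modEq (f := f) (p := 2) (n := 1) (by
    funext v
    apply Subtype.ext
    change w * (w * v * w) * w = v
    rw [← mul_assoc, ← mul_assoc, hD2 w b1, one_mul, mul_assoc, hD2 w b1, mul_one])
  have h3 : Fintype.card f.fixedPoints = 1 := by
    rw [Fintype.card_eq_one_iff]
    refine ⟨⟨⟨w, b1, b2, b3⟩, Subtype.ext (by
      change w * w * w = w
      rw [hD2 w b1, one_mul])⟩, fun v => Subtype.ext (Subtype.ext ?_)⟩
    by_contra h
    have h4 : w * v.1 * w = v.1 := congrArg Subtype.val v.2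
    refine hαβ (h2 w v.1 b1 v.1.2.1 h ?_ α β (by rw [mul_smul, v.1.2.2.1, b3])
      (by rw [mul_smul, v.1.2.2.2, b2]))
    conv_lhs => rw [← h4]
    rw [mul_assoc, hD2 w b1, mul_one]
  rw [h3] at hf
  rw [Nat.card_eq_fintype_card, Nat.odd_iff]
  exact hf

end

/-- Let z be an involution of a finite group G and H a proper subgroup such that z lies in gHg⁻¹ exactly when g ∈ H. Then the following are equivalent: (1) for every conjugate t ≠ z of z commuting with z, the product zt lies in gHg⁻¹ exactly when g ∈ H; (2) z lies in the centre of some Sylow 2-subgroup of G, and for every conjugate t ≠ z of z commuting with z, the centralizer of zt is contained in H. -/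
theorem result {G : Type*} [Group G] [Finite G] (z : G) (hz : orderOf z = 2) (H : Subgroup G) (hH : H ≠ ⊤)
    (h0 : ∀ g : G, z ∈ H.map (MulAut.conj g).toMonoidHom ↔ g ∈ H) :
    (∀ t : G, IsConj z t → t ≠ z → t * z = z * t → ∀ g : G, z * t ∈ H.map (MulAut.conj g).toMonoidHom ↔ g ∈ H) ↔
      ((∃ P : Sylow 2 G, z ∈ (Subgroup.center ↥(P : Subgroup G)).map (P : Subgroup G).subtype) ∧
        ∀ t : G, IsConj z t → t ≠ z → t * z = z * t → Subgroup.centralizer ({z * t} : Set G) ≤ H) := by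
  haveI : Fact (Nat.Prime 2) := ⟨Nat.prime_two⟩
  have hz2 := H42.mul_self_of_orderOf_two hz
  have hzH : z ∈ H := by simpa using (h0 1).mpr (one_mem H)
  have h0' : ∀ g : G, g⁻¹ * z * g ∈ H → g ∈ H := fun g hg => (h0 g).mp (H72.mem_cj.mpr hg)
  have hCH : centralizer ({z} : Set G) ≤ H := fun c hc => h0' c (by
    rwa [mul_assoc, ← mem_centralizer_singleton_iff.mp hc, inv_mul_cancel_left])
  have hztH : ∀ t, t * z = z * t → z * t ∈ H := fun t ht =>
    mul_mem hzH (hCH (mem_centralizer_singleton_iff.mpr ht))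
  constructor
  · intro h
    refine ⟨?_, fun t h1 h2 h3 c hc => (h t h1 h2 h3 c).mp (H72.mem_cj.mpr (by
      rw [mul_assoc, ← mem_centralizer_singleton_iff.mp hc, inv_mul_cancel_left]
      exact hztH t h3))⟩
    have huniq : ∀ u : G, (∀ g : G, g⁻¹ * u * g ∈ H → g ∈ H) → ∀ (c : G) (a b : G ⧸ H),
        (c * u * c⁻¹) • a = a → (c * u * c⁻¹) • b = b → a = b := fun u hu c a b ha hb => by
      induction a using QuotientGroup.induction_on with
      | H a =>
      induction b using QuotientGroup.induction_on with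
      | H b =>
      rw [H43.smul_mk_eq_iff] at ha hb
      have h1 := hu (c⁻¹ * a) (by simpa [mul_assoc] using ha)
      have h2 := hu (c⁻¹ * b) (by simpa [mul_assoc] using hb)
      rw [QuotientGroup.eq]
      simpa [mul_assoc] using mul_mem (inv_mem h1) h2
    obtain ⟨x, hx⟩ : ∃ x, x ∉ H := by
      by_contra! h'
      exact hH (eq_top_iff.mpr fun x _ => h' x)
    have hodd := odd_card (Ω := G ⧸ H) (D := IsConj z) (fun t ht => by
        obtain ⟨c, rfl⟩ := isConj_iff.mp ht
        exact H42.conj_mul_self hz2 c)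
      (fun t g ht => ht.trans (isConj_iff.mpr ⟨g, rfl⟩))
      (fun t ht => by
        obtain ⟨c, rfl⟩ := isConj_iff.mp ht
        exact huniq z h0' c)
      (fun s t hs ht h1 h2 => by
        obtain ⟨c, rfl⟩ := isConj_iff.mp hs
        have := huniq _ (fun g hg => (h (c⁻¹ * t * c⁻¹⁻¹) (ht.trans (isConj_iff.mpr ⟨_, rfl⟩))
          (fun h' => h1 (by rw [← h']; group)) (by
            calc c⁻¹ * t * c⁻¹⁻¹ * z = c⁻¹ * (t * (c * z * c⁻¹)) * c := by group
              _ = _ := by rw [h2]; group) g).mp (H72.mem_cj.mpr hg)) c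
        rwa [show c * (z * (c⁻¹ * t * c⁻¹⁻¹)) * c⁻¹ = c * z * c⁻¹ * t by group] at this)
      (H43.one_ne_mk hx) (IsConj.refl z) (H43.smul_one_eq_iff.mpr hzH)
      (s := x * z * x⁻¹) (isConj_iff.mpr ⟨x, rfl⟩)
      (H43.smul_mk_eq_iff.mpr (by simpa [mul_assoc] using hzH))
    obtain ⟨P, hP, hzP⟩ := H72.exists_isSylowIn_ge (p := 2) (Q := zpowers z)
      (IsPGroup.of_card (n := 1) (by rw [Nat.card_zpowers, hz, pow_one])) (zpowers_le.mpr hzH)
    have hP' : H72.IsSylowIn 2 P ⊤ := ⟨le_top, hP.isPGroup, fun Q hQ hPQ _ => by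
      by_contra hne
      have := H72.lt_inf_normalizer_of_isPGroup hQ (lt_of_le_of_ne hPQ (Ne.symm hne))
      refine this.ne' (hP.maximal _ (hQ.to_le inf_le_left) this.le fun g hg => h0' g (hP.le ?_))
      exact H72.conj_mem_of_mem_normalizer' hg.2 (hzP (mem_zpowers z))⟩
    letI : MulAction P {t // IsConj z t ∧ t • ((1 : G) : G ⧸ H) = ((1 : G) : G ⧸ H)} :=
      { smul := fun p t => ⟨p * t * (p : G)⁻¹, t.2.1.trans (isConj_iff.mpr ⟨_, rfl⟩),
          H43.smul_one_eq_iff.mpr (mul_mem (mul_mem (hP.le p.2) (H43.smul_one_eq_iff.mp t.2.2))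
            (inv_mem (hP.le p.2)))⟩
        one_smul := fun t => Subtype.ext (by change (1 : G) * t * 1⁻¹ = t; simp)
        mul_smul := fun a b t => Subtype.ext (by
          change (a : G) * b * t * ((a : G) * b)⁻¹ = a * (b * t * (b : G)⁻¹) * (a : G)⁻¹
          group) }
    obtain ⟨t, ht⟩ := hP.isPGroup.nonempty_fixed_point_of_prime_not_dvd_card _
      (fun h' => Nat.not_even_iff_odd.mpr hodd (even_iff_two_dvd.mpr h'))
    obtain ⟨c, hc⟩ := isConj_iff.mp t.2.1
    obtain ⟨P', hP''⟩ := (hP'.cj_of_mem (mem_top c⁻¹)).exists_sylow_top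
    have h1 : (P' : Subgroup G) ≤ centralizer ({z} : Set G) := fun y hy => by
      rw [hP'', H72.mem_cj, inv_inv] at hy
      have h2 : c * y * c⁻¹ * t * (c * y * c⁻¹)⁻¹ = t := congrArg Subtype.val (ht ⟨_, hy⟩)
      rw [← hc] at h2
      rw [mem_centralizer_singleton_iff]
      calc y * z = c⁻¹ * (c * y * c⁻¹ * (c * z * c⁻¹) * (c * y * c⁻¹)⁻¹) * c * y := by group
        _ = _ := by rw [h2]; group
    have h2 : z ∈ (P' : Subgroup G) := (H72.isSylowIn_top P').le_of_normalizes (Q := zpowers z)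
      (IsPGroup.of_card (n := 1) (by rw [Nat.card_zpowers, hz, pow_one])) le_top
      (by rw [← H72.centralizer_zpowers] at h1; exact h1.trans (centralizer_le_normalizer _))
      (mem_zpowers z)
    refine ⟨P', ?_⟩
    rw [H72.map_subtype_center]
    exact ⟨h2, mem_centralizer_iff.mpr fun y hy => mem_centralizer_singleton_iff.mp (h1 hy)⟩
  · rintro ⟨⟨P, hP⟩, h⟩ t h1 h2 h3 g
    refine ⟨fun hg => ?_, fun hg => (H72.cj_eq_of_mem hg).ge (hztH t h3)⟩
    rw [H72.map_subtype_center] at hP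
    have hPC : (P : Subgroup G) ≤ centralizer ({z} : Set G) := fun y hy =>
      mem_centralizer_singleton_iff.mpr (mem_centralizer_iff.mp hP.2 y hy)
    obtain ⟨c, rfl⟩ := isConj_iff.mp h1
    have h4 : (g⁻¹ * (z * (c * z * c⁻¹)) * g) ^ 2 ^ 1 = 1 := by
      have := H42.conj_mul_self hz2 c
      set t := c * z * c⁻¹
      calc (g⁻¹ * (z * t) * g) ^ 2 ^ 1 = g⁻¹ * (z * (t * z) * t) * g := by
            rw [pow_one, pow_two]; group
        _ = g⁻¹ * ((z * z) * (t * t)) * g := by rw [h3]; group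
        _ = 1 := by rw [hz2, this]; group
    obtain ⟨k, hk, h5⟩ := (H72.isSylowIn_sylow P (hPC.trans hCH)).exists_cj_le
      (Q := zpowers (g⁻¹ * (z * (c * z * c⁻¹)) * g)) (by
        rintro ⟨_, m, rfl⟩
        exact ⟨1, Subtype.ext (by
          change (_ ^ m) ^ 2 ^ 1 = 1
          rw [← zpow_natCast, ← zpow_mul, mul_comm, zpow_mul, zpow_natCast, h4, one_zpow])⟩)
      (zpowers_le.mpr (H72.mem_cj.mp hg))
    have h6 := mem_centralizer_singleton_iff.mp (hPC (h5 (H72.conj_mem_cj (mem_zpowers _))))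
    have h7 := h0' (k * g⁻¹) (h _ h1 h2 h3 (mem_centralizer_singleton_iff.mpr (by
      set u := z * (c * z * c⁻¹)
      calc (k * g⁻¹)⁻¹ * z * (k * g⁻¹) * u = g * k⁻¹ * (z * (k * (g⁻¹ * u * g) * k⁻¹)) * k * g⁻¹ := by
            group
        _ = _ := by rw [← h6]; group)))
    simpa using mul_mem (inv_mem hk) h7

end Cfsg.Agent.S1922
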