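import Cfsg.Statements.S1930
import Cfsg.Agent.FZJ.Top
import Cfsg.Agent.S1265

set_option autoImplicit false
open Cfsg

namespace Cfsg.Agent.S1930

/-- Inside a finite group let G be a nontrivial subgroup and R an r-subgroup (r a prime) normalizing G, with the order of G prime to r. Let p > 3 be a prime with F*(G) = O_p(G), and let P be the intersection of all R-invariant Sylow p-subgroups of G. Then P has a nontrivial characteristic subgroup that is normalized by G. -/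
theorem result {X : Type*} [Group X] [Finite X] (G R : Subgroup X) (r : ℕ) [Fact r.Prime] (hR : IsPGroup r ↥R) (hcop : (Nat.card ↥G).Coprime r) (hnorm : R ≤ Subgroup.normalizer (G : Set X)) (hG : G ≠ ⊥) (p : ℕ) [Fact p.Prime] (hp : 3 < p) (hF : Cfsg.generalizedFittingSubgroup ↥G = Cfsg.pCore p ↥G) (P : Subgroup X) (hP : P = ⨅ S : {S : Sylow p ↥G // ∀ a ∈ R, ((S : Subgroup ↥G).map G.subtype).map (MulAut.conj a).toMonoidHom = (S : Subgroup ↥G).map G.subtype}, ((S : Sylow p ↥G) : Subgroup ↥G).map G.subtype) : ∃ C : Subgroup ↥P, C.Characteristic ∧ C ≠ ⊥ ∧ G ≤ Subgroup.normalizer ((C.map P.subtype : Subgroup X) : Set X) := by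
  have hC := S1265.result (G := G)
  rw [hF] at hC
  have hT : Cfsg.pCore p G ≠ ⊥ := fun e => hG (eq_bot_iff.2 fun x hx => by
    rw [e] at hC
    exact congrArg Subtype.val (hC (show (⟨x, hx⟩ : G) ∈ _ from fun y hy => by rw [show y = 1 from hy]; simp)))
  have hrp : r ≠ p := by
    rintro rfl
    obtain ⟨k, hk⟩ := (H72.isPGroup_pCore r G).exists_card_eq
    exact hT (Subgroup.eq_bot_of_card_eq _ (Nat.Coprime.eq_one_of_dvd (hk ▸ (hcop.symm.pow_left k))
      (Subgroup.card_subgroup_dvd_card _)))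
  have h1 : ∀ U : Subgroup X, U ≤ G → IsPGroup p U → R ≤ Subgroup.normalizer (U : Set X) →
      ∃ S : Subgroup X, IsPGroup p S ∧ U ≤ S ∧ P ≤ S ∧ S ≤ G := fun U h1 h2 h3 => by
    obtain ⟨S, h4, h5⟩ := FZJ.exists_syl hR hcop hnorm h1 h2 h3
    exact ⟨_, S.2.map _, h4, hP.le.trans (iInf_le_of_le ⟨S, fun a ha =>
      Subgroup.mem_normalizer_iff_map_conj_eq.1 (h5 ha)⟩ le_rfl), Subgroup.map_subtype_le _⟩
  obtain ⟨S, h2, -, h3, h4⟩ := h1 ⊥ bot_le IsPGroup.of_bot Subgroup.le_normalizer_of_normal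
  have h5 : Cfsg.pCoreOf p G ≤ P := hP.ge.trans' (le_iInf fun S => Subgroup.map_mono (H72.pCore_le_sylow S.1))
  have h6 : Nontrivial P := (Subgroup.nontrivial_iff_ne_bot P).2 fun e => hT
    ((Subgroup.map_eq_bot_iff_of_injective _ G.subtype_injective).1 (eq_bot_iff.2 (h5.trans e.le)))
  refine ⟨Cfsg.kInfLower P, Subgroup.characteristic_iff_map_eq.2 fun φ => H61.map_kInfLower_equiv φ,
    fun e => (h2.to_le h3).bot_lt_center.ne' (le_bot_iff.1 (e ▸ H61.center_le_kInfLower)),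
    FZJ.kInf_norm hp hrp ((H72.charPIn_iff G).2 hC) h5 (h3.trans h4) hnorm fun g hg =>
      ⟨hR, hcop, hnorm, h4 (h3 hg), fun Q a1 a2 a3 => ?_⟩⟩
  obtain ⟨S', b1, b2, b3, -⟩ := h1 Q a1 a2 a3
  exact b1.to_le (sup_le b2 (Subgroup.zpowers_le.2 (b3 hg)))

end Cfsg.Agent.S1930
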