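import Cfsg.Statements.S1931
import Cfsg.Agent.H60.NC3
import Cfsg.Agent.H46.NormalFour
import Cfsg.Agent.H49.Elem

set_option autoImplicit false
open Cfsg

namespace Cfsg.Agent.S1931

/-- Inside a finite group let G be a subgroup and R a noncyclic abelian r-subgroup (r a prime) normalizing G, with the order of G prime to r, and let p > 3 be a prime. Suppose that for every nonidentity a ∈ R, R centralizes the subgroup O^p(F*(C_G(a))) generated by the p'-elements of the generalized Fitting subgroup of C_G(a). Then R centralizes O^p(F*(G)). -/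
theorem result {X : Type*} [Group X] [Finite X] (G R : Subgroup X) (r : ℕ) [Fact r.Prime] (hR : IsPGroup r ↥R) (hcop : (Nat.card ↥G).Coprime r) (hnorm : R ≤ Subgroup.normalizer (G : Set X)) (hab : IsMulCommutative ↥R) (hnc : ¬ IsCyclic ↥R) (p : ℕ) [Fact p.Prime] (hp : 3 < p) (hloc : ∀ a ∈ R, a ≠ 1 → R ≤ Subgroup.centralizer ((((Cfsg.pResidual p ↥(Cfsg.generalizedFittingSubgroup ↥(G ⊓ Subgroup.centralizer ({a} : Set X)))).map (Cfsg.generalizedFittingSubgroup ↥(G ⊓ Subgroup.centralizer ({a} : Set X))).subtype).map (G ⊓ Subgroup.centralizer ({a} : Set X)).subtype : Subgroup X) : Set X)) : R ≤ Subgroup.centralizer ((((Cfsg.pResidual p ↥(Cfsg.generalizedFittingSubgroup ↥G)).map (Cfsg.generalizedFittingSubgroup ↥G).subtype).map G.subtype : Subgroup X) : Set X) := by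
  have pp : p.Prime := Fact.out
  have pr : r.Prime := Fact.out
  simp only [H60.NC.res_eq pp] at hloc ⊢
  obtain ⟨x, y, hx, hy, hn⟩ : ∃ x y : R, orderOf x = r ∧ y ^ r = 1 ∧ y ∉ Subgroup.zpowers x := by
    by_contra! e
    exact hnc (H46.isCyclic_of_comm_of_unique hR e)
  have y1 : (y : X) ≠ 1 := fun e => hn (by rw [show y = 1 from Subtype.ext e]; exact one_mem _)
  have a1 := H49.isElem_zpowers pr x.2 ((Subgroup.orderOf_coe x).trans hx)
  have a2 := H49.isElem_zpowers' pr y.2 (congrArg Subtype.val hy) y1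
  have a3 := a1.sup_of_cent a2 (H49.le_cent_of_abelian hab a1.le a2.le) (a1.inf_eq_bot a2 pr fun e => hn (by
    obtain ⟨k, hk⟩ := e.ge (Subgroup.mem_zpowers (y : X))
    exact ⟨k, Subtype.ext (by simpa using hk)⟩))
  have a4 : H60.NC.Sq r _ := ⟨pr, a3.card, a3.not_cyclic pr⟩
  have a5 := H60.NC.main pp hp a4 (a4.act (a3.le.trans hnorm) hcop) fun c hc c1 =>
    a3.le.trans (hloc c (a3.le hc) c1)
  refine (hloc y y.2 y1).trans (H49.cent_anti ?_)
  have a6 : H60.NC.Dp p G ≤ G ⊓ Subgroup.centralizer {(y : X)} := le_inf (H60.NC.Dp_le p G)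
    ((H49.cent_symm a5).trans (H49.cent_le_cent1 (Subgroup.mem_sup_right (Subgroup.mem_zpowers _))))
  have a7 : ∀ U : Subgroup X, U ≤ H60.NC.Dp p G → G ≤ Subgroup.normalizer (U : Set X) →
      H44.SN (G ⊓ Subgroup.centralizer {(y : X)}) U := fun U u1 u2 =>
    H44.SN.of_le_normalizer (u1.trans a6) (inf_le_left.trans u2)
  refine sup_le (le_sup_of_le_left ?_) (le_sup_of_le_right (H60.NC.le_Op
    (a7 _ le_sup_right (H60.NC.norm_Op Subgroup.le_normalizer)) (H60.NC.Op_nil p G) (H49.piCoreOf_pi _ _)))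
  exact H44.Eof_le_Eof_of_le inf_le_left (le_sup_left.trans a6)

end Cfsg.Agent.S1931
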