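import Cfsg.Statements.S1951
import Cfsg.Agent.S1950
import Cfsg.Agent.H7.Galois

set_option autoImplicit false
open Cfsg

namespace Cfsg.Agent.S1951

open Subgroup Finset H35

variable {p : ℕ} [hp : Fact p.Prime]

theorem comm_sylow {G K : Type*} [Group G] [Finite G] [Group K] [Finite K] (P : Sylow p G)
    (hP : IsMulCommutative P) (H : Subgroup G) (f : H →* K) (hf : Function.Surjective f)
    (R : Sylow p K) {a b : K} (ha : a ∈ (R : Subgroup K)) (hb : b ∈ (R : Subgroup K)) :
    a * b = b * a := by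
  obtain ⟨Q⟩ : Nonempty (Sylow p H) := inferInstance
  obtain ⟨g, rfl⟩ := MulAction.exists_smul_eq K (Q.mapSurjective hf) R
  obtain ⟨_, ⟨a, ha, rfl⟩, rfl⟩ := ha
  obtain ⟨_, ⟨b, hb, rfl⟩, rfl⟩ := hb
  obtain ⟨T, hT⟩ := (Q.2.map H.subtype).exists_le_sylow
  have h := (Sylow.equiv T P).injective (a₁ := ⟨_, hT ⟨a, ha, rfl⟩⟩ * ⟨_, hT ⟨b, hb, rfl⟩⟩)
    (a₂ := ⟨_, hT ⟨b, hb, rfl⟩⟩ * ⟨_, hT ⟨a, ha, rfl⟩⟩)
    (by rw [map_mul, map_mul, hP.is_comm.comm])
  exact (((show Commute a b from Subtype.ext (congrArg Subtype.val h :)).map f).map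
    (MulAut.conj g)).eq

theorem pair_eq {G : Type*} [Group G] [Finite G] (P : Sylow p G) (hP : IsMulCommutative P) {x y : G}
    (hx : orderOf x = p) (hy : orderOf y = p) (h : IsPSolvable p (closure ({x, y} : Set G)))
    {k l : ZMod p} (hk : ¬ p ∣ orderOf (x * y ^ k.val)) (hl : ¬ p ∣ orderOf (x * y ^ l.val)) :
    k = l := by
  set H := closure ({x, y} : Set G)
  have := H33.pPrimeCore_normal' (p := p) (G := H)
  set π := QuotientGroup.mk' (pPrimeCore p H)
  have hU := H33.not_dvd_card_pPrimeCore (G := H) hp.out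
  have h1 := H22.IsPSolvable.centralizer_pCore_le (H22.IsPSolvable.quotient h (pPrimeCore p H))
    H22.pPrimeCore_quotient_pPrimeCore
  have h4 : ∀ a : H, orderOf a = p → orderOf (π a) = p ∧ π a ∈ pCore p _ := fun a ha => by
    have a1 : orderOf (π a) = p := orderOf_eq_prime (by
      rw [← map_pow, show a ^ p = 1 from ha ▸ pow_orderOf_eq_one a, map_one])
      fun e => hU (ha.symm.dvd.trans
        (Subgroup.orderOf_dvd_natCard _ ((QuotientGroup.eq_one_iff a).mp e)))
    obtain ⟨R, hR⟩ := (IsPGroup.of_card (n := 1)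
      ((Nat.card_zpowers _).trans (a1.trans (pow_one p).symm))).exists_le_sylow
    exact ⟨a1, h1 fun b hb => comm_sylow P hP H π (QuotientGroup.mk'_surjective _) R
      (H22.pCore_le_sylow R hb) (hR (mem_zpowers _))⟩
  let x' : H := ⟨x, subset_closure (by simp)⟩
  let y' : H := ⟨y, subset_closure (by simp)⟩
  obtain ⟨-, a1⟩ := h4 x' ((orderOf_coe _).symm.trans hx)
  obtain ⟨a2, a3⟩ := h4 y' ((orderOf_coe _).symm.trans hy)
  have h5 : ∀ k : ZMod p, ¬ p ∣ orderOf (x * y ^ k.val) → π x' * π y' ^ k.val = 1 := fun k hk =>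
    H33.eq_one_of_pElt_of_regular (H34.pElt_of_le H22.isPGroup_pCore (mul_mem a1 (pow_mem a3 _)))
      fun e => hk (by
        rw [← map_pow, ← map_mul] at e
        exact (e.trans (orderOf_map_dvd π _)).trans (orderOf_coe (x' * y' ^ k.val)).symm.dvd)
  exact pow_val_inj a2 (mul_left_cancel ((h5 k hk).trans (h5 l hl).symm))


/-- Let p be a prime and P a nontrivial elementary abelian Sylow p-subgroup of a finite nonabelian simple group G whose nonidentity elements are all conjugate in G. Suppose that two elements of P are conjugate in G only if they are conjugate in N_G(P), that the centralizer of every element of order p of P has a normal p-complement, and that every two elements of order p of G generate a p-solvable subgroup. Then p = 2. -/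
theorem result {G : Type*} [Group G] [Finite G] [IsSimpleGroup G] (hG : ¬ IsMulCommutative G) {p : ℕ} [Fact p.Prime] (P : Sylow p G)
    (hP1 : (P : Subgroup G) ≠ ⊥) (hPe : Cfsg.IsElementaryAbelian p (P : Subgroup G))
    (hconj : ∀ x ∈ (P : Subgroup G), ∀ y ∈ (P : Subgroup G), x ≠ 1 → y ≠ 1 → ∃ g : G, g * x * g⁻¹ = y)
    (ha : ∀ x ∈ (P : Subgroup G), ∀ y ∈ (P : Subgroup G), (∃ g : G, g * x * g⁻¹ = y) →
      ∃ n ∈ Subgroup.normalizer ((P : Subgroup G) : Set G), n * x * n⁻¹ = y)
    (hb : ∀ x ∈ (P : Subgroup G), orderOf x = p → Cfsg.HasNormalPComplement p ↥(Subgroup.centralizer ({x} : Set G)))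
    (hc : ∀ x y : G, orderOf x = p → orderOf y = p → Cfsg.IsPSolvable p ↥(Subgroup.closure ({x, y} : Set G))) :
    p = 2 := by
  classical
  by_contra hp2
  have := Fintype.ofFinite G
  obtain ⟨n, hn⟩ := P.2.exists_card_eq
  have hp3 : 3 ≤ p := by have := (Fact.out : p.Prime).two_le; omega
  have hp := (Fact.out : p.Prime)
  have hn2 : 2 ≤ n := by
    by_contra! h
    interval_cases n
    · exact hP1 (card_eq_one.mp hn)
    have h1 := (S1950.result P (isCyclic_of_prime_card (hn.trans (pow_one p)))).mpr hc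
    rcases H22.IsPSolvable.pCore_ne_bot_or h1 with h2 | h2
    · have h3 := (Normal.eq_bot_or_eq_top inferInstance).resolve_left h2
      have h4 := top_le_iff.mp (h3 ▸ H22.pCore_le_sylow P)
      rw [h4, card_top, pow_one] at hn
      exact hG (isCyclic_of_prime_card hn).isMulCommutative
    · have h3 := (H33.pPrimeCore_normal'.eq_bot_or_eq_top).resolve_left h2
      refine H33.not_dvd_card_pPrimeCore (G := G) hp ?_
      rw [h3, card_top, ← pow_one p, ← hn]
      exact card_subgroup_dvd_card _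
  have hq : (9 : ℝ) ≤ Nat.card P := by
    rw [hn]
    exact_mod_cast (Nat.pow_le_pow_left hp3 2).trans (Nat.pow_le_pow_right hp.pos hn2)
  have hord : ∀ y ∈ (P : Subgroup G), y ≠ 1 → orderOf y = p := fun y hy => orderOf_eq_prime (hPe.2 y hy)
  have hA : H34.AbF P := ⟨hPe.1.is_comm.comm, fun y hy hy1 => le_antisymm (fun g hg w hw => by
    have hle : (P : Subgroup G) ≤ centralizer {y} := fun a ha => mem_centralizer_singleton_iff.mpr
      (congrArg Subtype.val (hPe.1.is_comm.comm ⟨a, ha⟩ ⟨y, hy⟩))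
    obtain ⟨N, hN, hQ⟩ := (H3.hasNormalPComplement_iff_sylow (P.subtype hle)).mp
      (hb y hy (hord y hy hy1))
    have b1 : ∀ a b : centralizer {y} ⧸ N, a * b = b * a := fun a b =>
      hQ.symm.QuotientMulEquiv.injective (by
        rw [map_mul, map_mul]
        generalize hQ.symm.QuotientMulEquiv a = a, hQ.symm.QuotientMulEquiv b = b
        exact Subtype.ext (Subtype.ext (congrArg Subtype.val
          (hPe.1.is_comm.comm ⟨_, a.2⟩ ⟨_, b.2⟩) :)))
    have b2 := disjoint_def.mp hQ.disjoint (x := ⟨w, hle hw⟩ * (⟨g, hg.1⟩ * ⟨w, hle hw⟩⁻¹ * ⟨g, hg.1⟩⁻¹))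
      ((QuotientGroup.eq_one_iff _).mp (by
        simp only [QuotientGroup.mk_mul, QuotientGroup.mk_inv]
        rw [b1 (QuotientGroup.mk ⟨g, hg.1⟩)]
        simp)) (mul_mem hw ((mem_normalizer_iff.mp hg.2 _).mp (inv_mem hw)))
    have b3 : w * (g * w⁻¹ * g⁻¹) = 1 := congrArg Subtype.val b2
    rwa [← mul_assoc, ← mul_assoc, mul_inv_eq_one, mul_inv_eq_iff_eq_mul] at b3) (le_inf
    (centralizer_le (Set.singleton_subset_iff.mpr hy)) (centralizer_le_normalizer _))⟩
  obtain ⟨M, hM⟩ := H86.exists_isPModular hp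
  have := hM.2.1
  obtain ⟨x, hx, hx1⟩ := (bot_or_exists_ne_one _).resolve_left hP1
  have hxo := hord x hx hx1
  have hcj : ∀ z, (∃ k, orderOf z = p ^ k) → z ≠ 1 → IsConj z x := fun z hz hz1 => by
    obtain ⟨g, hg⟩ := H34.exists_conj_mem_sylow' P hz
    exact (isConj_iff.mpr ⟨g, rfl⟩).trans (isConj_iff.mpr (hconj _ hg x hx (by simpa) hx1))
  choose a ha using fun χ : IrrCharacter G => H7.exists_int_character_of_pow
    (H5.isCharacter_of_isIrr χ.2) (g := x) fun m hm => H34.irr_isConj χ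
      (hcj _ (H34.pElt_of_le P.2 (pow_mem hx m)) fun e => hp.ne_one (by
        rw [← hxo]; exact Nat.eq_one_of_dvd_coprimes hm (orderOf_dvd_of_pow_eq_one e) dvd_rfl))
  set T := H86.fs (principalBlock M G)
  have h1 : ∑ χ ∈ T, (a χ : ℂ) * a χ = Nat.card P := by
    rw [← hA.lamC_eq hM hx hx1, ← H34.colS_self hM (H34.pElt_of_le P.2 hx), H34.colS]
    simp [ha, T]
  have h2 : ∀ g, ∑ χ ∈ T, a χ * (χ : G → ℂ) g = if p ∣ orderOf g then (Nat.card P : ℂ) else 0 :=
    fun g => by
      obtain ⟨z, hz⟩ := H33.exists_isPPart hp g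
      split_ifs with hg
      · obtain ⟨k, hk⟩ := isConj_iff.mp (hcj z (H33.IsPPart.pElt hz)
          fun e => (H33.IsPPart.eq_one_iff hp hz).mp e hg)
        rw [← h1]
        refine sum_congr rfl fun χ hχ => ?_
        rw [← ha, ← hA.apply_eq hM (H86.mem_fs.mp hχ) (hk ▸ H33.IsPPart.conj hp hz k) hx hx1,
          H5.isClassFunction_of_isIrr χ.2]
      · rw [← H34.colS_eq_zero hM H33.isPBlock_principalBlock (H33.isPPart_one_of_regular hg)
          (H33.isPPart_self hp (H34.pElt_of_le P.2 hx)) (by simpa using hx1.symm), H34.colS]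
        simp [ha, T, mul_comm]
  set A := univ.filter fun y : G => orderOf y = p with hA'
  have h3 : ∀ χ : IrrCharacter G, ∑ y ∈ A, (χ : G → ℂ) (x * y) =
      A.card * (a χ * a χ / charDegree (χ : G → ℂ)) := fun χ => by
    have hc := H5.isClassFunction_of_isIrr χ.2
    have a1 := H5.sum_mul_irr_mul χ.2 (f := fun g => if orderOf g = p then 1 else 0)
      (fun g k => by simp only [← MulAut.conj_apply, MulEquiv.orderOf_eq]) x
    simp only [ite_mul, one_mul, zero_mul, ← sum_filter] at a1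
    rw [sum_congr rfl fun y _ => show (χ : G → ℂ) (x * y) = (χ : G → ℂ) (y * x) by
      rw [← hc (x * y) y]; simp [mul_assoc], a1, sum_congr rfl fun y hy => H34.irr_isConj χ
        (hcj y ⟨1, by simpa using hy⟩ fun e => hp.ne_one.symm (by simpa [e] using hy)), ha,
      cast_degree_irr, sum_const, nsmul_eq_mul]
    ring
  have h4 := sum_congr (rfl : A = A) fun y _ => h2 (x * y)
  rw [sum_comm, ← sum_filter, sum_const] at h4
  simp only [← mul_sum, h3, nsmul_eq_mul] at h4
  have h5 : A.card ≤ 2 * (A.filter fun y => p ∣ orderOf (x * y)).card := by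
    rw [two_mul, ← card_filter_add_card_filter_not (s := A) fun y => p ∣ orderOf (x * y),
      add_le_add_iff_left]
    have b1 : ∀ y ∈ A, orderOf y⁻¹ = p := fun y hy => by simpa [hA'] using hy
    refine card_le_card_of_injOn (·⁻¹) (fun y hy => ?_) fun _ _ _ _ => inv_injective.eq_iff.mp
    simp only [coe_filter, Set.mem_ofPred_eq, hA', mem_filter, mem_univ, true_and] at hy ⊢
    refine ⟨by simpa using hy.1, by_contra fun e => ?_⟩
    have b2 := pair_eq P hPe.1 hxo hy.1 (hc x y hxo hy.1) (k := 1) (l := -1)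
      (by simpa [ZMod.val_one] using hy.2) (by
        rwa [show y ^ (-1 : ZMod p).val = y⁻¹ from eq_inv_of_mul_eq_one_left (by
          simpa [ZMod.val_one] using (pow_val_add hy.1 (-1) 1).symm)])
    exact hp2 ((Nat.prime_dvd_prime_iff_eq hp Nat.prime_two).mp
      ((ZMod.natCast_eq_zero_iff 2 p).mp (by linear_combination b2)))
  have h6 : ∑ χ ∈ T, (a χ : ℝ) * (A.card * (a χ * a χ / charDegree (χ : G → ℂ))) =
      (A.filter fun y => p ∣ orderOf (x * y)).card * Nat.card P := by exact_mod_cast h4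
  have h7 : ∑ χ ∈ T, (a χ : ℝ) * a χ = Nat.card P := by exact_mod_cast h1
  have h8 : H33.oneIrr G ∈ T := H86.mem_fs.mpr H33.oneIrr_mem_principalBlock
  have h9 : a (H33.oneIrr G) = 1 := Int.cast_injective (α := ℂ) ((ha _).symm.trans Int.cast_one.symm)
  have a1 : ∀ χ ∈ T.erase (H33.oneIrr G), (a χ : ℝ) * (A.card * (a χ * a χ /
      charDegree (χ : G → ℂ))) ≤ A.card / 4 * (a χ * a χ) := fun χ hχ => by
    have b0 := single_le_sum (f := fun χ => (a χ : ℝ) * a χ) (fun _ _ => mul_self_nonneg _)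
      (mem_of_mem_erase hχ)
    obtain ⟨k, hk⟩ := H5.exists_nat_classInner
      (H5.isCharacter_restrict (H5.isCharacter_of_isIrr χ.2) P) H5.isCharacter_one
    simp only [classInner, map_one, mul_one] at hk
    rw [← add_sum_erase _ _ (mem_univ 1), sum_congr rfl fun y hy => H34.irr_isConj χ
      (hcj _ (H34.pElt_of_le P.2 y.2) fun e => ne_of_mem_erase hy (Subtype.ext e)), ha,
      sum_const, card_erase_of_mem (mem_univ _), card_univ, ← Nat.card_eq_fintype_card,
      inv_mul_eq_iff_eq_mul₀ (by simp), Subgroup.coe_one, cast_degree_irr, nsmul_eq_mul,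
      Nat.cast_sub Nat.card_pos] at hk
    have b1 : (charDegree (χ : G → ℂ) - a χ : ℤ) = Nat.card P * (k - a χ) := by
      exact_mod_cast (by push_cast at hk ⊢; linear_combination hk :
        ((charDegree (χ : G → ℂ) - a χ : ℤ) : ℂ) = (Nat.card P * (k - a χ) : ℤ))
    have b2 : (charDegree (χ : G → ℂ) : ℤ) ≠ a χ := fun e => hx1 (simple_faithful
      (ne_of_mem_erase hχ) x (by rw [ha, cast_degree_irr, ← e]; simp))
    have b3 := H5.norm_apply_le_degree (H5.isCharacter_of_isIrr χ.2) x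
    rw [ha, cast_degree_irr, Complex.norm_intCast, Complex.norm_natCast] at b3
    have b4 : a χ ≤ charDegree (χ : G → ℂ) := by exact_mod_cast (le_abs_self _).trans b3
    have b5 : (Nat.card P : ℤ) ≤ charDegree (χ : G → ℂ) - a χ :=
      Int.le_of_dvd (by omega) ⟨_, b1⟩
    have b6 : (Nat.card P : ℝ) ≤ charDegree (χ : G → ℂ) - a χ := by exact_mod_cast b5
    have b7 : (0 : ℝ) < charDegree (χ : G → ℂ) := by exact_mod_cast degree_pos χ
    have b8 : (a χ : ℝ) / charDegree (χ : G → ℂ) ≤ 1 / 4 := by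
      rw [div_le_div_iff₀ b7 four_pos]
      nlinarith
    calc _ = A.card * (a χ * a χ) * ((a χ : ℝ) / charDegree (χ : G → ℂ)) := by ring
      _ ≤ A.card * (a χ * a χ) * (1 / 4) :=
        mul_le_mul_of_nonneg_left b8 (mul_nonneg (by positivity) (mul_self_nonneg _))
      _ = _ := by ring
  have a2 := sum_le_sum a1
  rw [← add_sum_erase _ _ h8, h9] at h6 h7
  rw [← mul_sum] at a2
  have a3 : (0 : ℝ) < A.card := by exact_mod_cast card_pos.mpr ⟨x, by simp [hA', hxo]⟩
  have a4 : (A.card : ℝ) ≤ 2 * (A.filter fun y => p ∣ orderOf (x * y)).card := by exact_mod_cast h5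
  have a5 : charDegree (H33.oneIrr G : G → ℂ) = 1 := degree_triv
  rw [a5] at h6
  push_cast at h6 h7
  nlinarith

end Cfsg.Agent.S1951
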