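import Cfsg.Statements.S1953
import Cfsg.Agent.H60.StableZJ
import Cfsg.Agent.H60.QdSylow
-- import your own Cfsg.Agent.* helpers here

set_option autoImplicit false
open Cfsg

namespace Cfsg.Agent.S1953

open Subgroup in
theorem exists_hom_sup {G Y : Type*} [Group G] [Group Y] (A C : Subgroup G)
    (hA : A ≤ normalizer (C : Set G)) (ρ : A →* Y) (hρ : Function.Surjective ρ)
    (hC : ∀ a : A, (a : G) ∈ C → ρ a = 1) :
    ∃ ψ : ↥(A ⊔ C) →* Y, Function.Surjective ψ ∧ ∀ x : ↥(A ⊔ C), (x : G) ∈ C → ψ x = 1 := by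
  letI := normal_subgroupOf_of_le_normalizer hA
  letI := normal_subgroupOf_sup_of_le_normalizer hA
  let e := QuotientGroup.quotientInfEquivProdNormalizerQuotient A C hA
  refine ⟨(QuotientGroup.lift (C.subgroupOf A) ρ fun a ha => hC a ha).comp
    (e.symm.toMonoidHom.comp (QuotientGroup.mk' _)), ?_, fun x hx => ?_⟩
  · exact (QuotientGroup.lift_surjective_of_surjective _ _ hρ fun a ha => hC a ha).comp
      (e.symm.surjective.comp (QuotientGroup.mk'_surjective _))
  · have : QuotientGroup.mk' (C.subgroupOf (A ⊔ C)) x = 1 := (QuotientGroup.eq_one_iff x).mpr hx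
    rw [MonoidHom.comp_apply, MonoidHom.comp_apply, this, map_one, map_one]

open Subgroup in
theorem not_involves {G : Type*} [Group G] [Finite G] {p : ℕ} [Fact p.Prime]
    (hfree : ∀ Q : Subgroup G, IsPGroup p ↥Q → ¬ ∃ (H K : Subgroup G) (_ : (K.subgroupOf H).Normal),
      Subgroup.centralizer (Q : Set G) ≤ K ∧ K ≤ H ∧ H ≤ Subgroup.normalizer (Q : Set G) ∧
      Nonempty ((↥H ⧸ K.subgroupOf H) ≃* Matrix.SpecialLinearGroup (Fin 2) (ZMod p))) :
    ¬ Involves (qd p) G := by
  rw [H94.involves_iff]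
  rintro ⟨K, f, hf⟩
  set V := (H60.qdLin p).ker with hV
  have hVp : IsPGroup p V := IsPGroup.of_card H60.card_ker_qdLin
  obtain ⟨R, hR⟩ := H72.exists_isSylowIn p (V.comap f)
  have hRV : R.map f = V := by
    have := hR.map f
    rw [map_comap_eq_self_of_surjective hf] at this
    exact this.eq_of_isPGroup hVp
  set Q := R.map K.subtype with hQ
  set A := K ⊓ normalizer (Q : Set G) with hA
  obtain ⟨ψ, hψ, hψC⟩ := exists_hom_sup A (centralizer (Q : Set G))
    (inf_le_right.trans (H72.normalizer_le_normalizer_centralizer Q))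
    (((H60.qdLin p).comp f).comp (inclusion inf_le_left)) (fun y => by
      obtain ⟨y, rfl⟩ := H60.qdLin_surjective y
      obtain ⟨k, rfl⟩ := hf y
      obtain ⟨m, hm, n, hn, rfl⟩ := hR.frattini (H := ⊤) (g := k) (by rw [normalizer_eq_top]) trivial
      refine ⟨⟨n, n.2, le_normalizer_map K.subtype (mem_map_of_mem _ hn)⟩, ?_⟩
      have : H60.qdLin p (f m) = 1 := hm
      rw [map_mul, map_mul, this, one_mul]
      rfl)
    (fun a ha => by
      have h1 : ∀ v ∈ V, f ⟨a, a.2.1⟩ * v * (f ⟨a, a.2.1⟩)⁻¹ = v := by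
        rw [← hRV]
        rintro _ ⟨r, hr, rfl⟩
        rw [mul_inv_eq_iff_eq_mul, ← map_mul, ← map_mul]
        congr 1
        exact Subtype.ext (mem_centralizer_iff.mp ha _ (mem_map_of_mem _ hr)).symm
      change H60.qdLin p (f ⟨a, a.2.1⟩) = 1
      generalize f ⟨a, a.2.1⟩ = M at h1
      rw [H60.qd_eq_mk M] at h1 ⊢
      have h2 := h1 _ (H60.mem_ker_qdLin'.mpr ⟨1, 0, rfl⟩)
      have h3 := h1 _ (H60.mem_ker_qdLin'.mpr ⟨0, 1, rfl⟩)
      rw [H60.conj_heis_transl, H60.heis_inj] at h2 h3
      refine H60.mem_ker_qdLin.mpr ⟨M.1.1 0 2, M.1.1 1 2, H60.qdMk_inj.mpr ?_⟩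
      simp only [mul_one, mul_zero, add_zero, zero_add] at h2 h3
      exact ⟨h2.2.1, h3.2.1, h2.2.2, h3.2.2, rfl, rfl⟩)
  have hk : (ψ.ker.map (A ⊔ centralizer (Q : Set G)).subtype).subgroupOf
      (A ⊔ centralizer (Q : Set G)) = ψ.ker :=
    comap_map_eq_self_of_injective (Subgroup.subtype_injective _) _
  refine hfree Q (hR.isPGroup.map _) ⟨A ⊔ centralizer (Q : Set G), ψ.ker.map (Subgroup.subtype _),
    hk.symm ▸ inferInstance, fun c hc => ⟨⟨c, mem_sup_right hc⟩, hψC _ hc, rfl⟩, map_subtype_le _,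
    sup_le inf_le_right (centralizer_le_normalizer _), ⟨?_⟩⟩
  haveI : ((ψ.ker.map (A ⊔ centralizer (Q : Set G)).subtype).subgroupOf
      (A ⊔ centralizer (Q : Set G))).Normal := hk.symm ▸ inferInstance
  exact (QuotientGroup.quotientMulEquivOfEq hk).trans
    (QuotientGroup.quotientKerEquivOfSurjective ψ hψ)

open Subgroup in
theorem nc_inf_of_normal {G : Type*} [Group G] [Finite G] {p : ℕ} [Fact p.Prime] (S : Sylow p G)
    (Q X : Subgroup G) [Q.Normal] [X.Normal] (hQS : Q ≤ S) (hQX : Q ≤ X)
    (hcen : (S : Subgroup G) ⊓ centralizer (Q : Set G) ≤ Q) (hCX : centralizer (Q : Set G) ≤ X)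
    (hX : X ≤ ((S : Subgroup G) ⊓ X) ⊔ centralizer (Q : Set G)) :
    H60.NC ⊤ (S : Subgroup G) ((S : Subgroup G) ⊓ X) := by
  have hsyl : H72.IsSylowIn p (Q ⊓ centralizer (Q : Set G)) (centralizer (Q : Set G)) := by
    have := (H72.isSylowIn_top S).inf_normal (N := centralizer (Q : Set G)) le_top (by
      rw [normalizer_eq_top])
    rwa [show (S : Subgroup G) ⊓ centralizer (Q : Set G) = Q ⊓ centralizer (Q : Set G) from
      le_antisymm (le_inf hcen inf_le_right) (inf_le_inf_right _ hQS)] at this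
  have hnd := (Nat.Prime.coprime_iff_not_dvd Fact.out).mpr hsyl.not_dvd_relIndex
  obtain ⟨K, hKn, hKC, hK, hsup⟩ := H22.exists_normal_complement_of_central
    (Q ⊓ centralizer (Q : Set G)) (centralizer (Q : Set G)) inf_le_right
    (centralizer_le (fun z hz => hz.1)) (by
      obtain ⟨k, hk⟩ := hsyl.isPGroup.exists_card_eq
      rw [hk]; exact hnd.pow_left k)
  have hf := QuotientGroup.mk'_surjective K
  refine H60.NC.of_coprime _ hf (by rw [QuotientGroup.ker_mk', hK]; exact hnd.symm) S inf_le_left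
    (H72.le_normalizer_inf le_normalizer (by rw [normalizer_eq_top]; exact le_top)) ?_
  have : ((S : Subgroup G) ⊓ X).map (QuotientGroup.mk' K) = X.map (QuotientGroup.mk' K) := by
    refine le_antisymm (map_mono inf_le_right) ?_
    rw [map_le_iff_le_comap, comap_map_eq, QuotientGroup.ker_mk']
    refine hX.trans (sup_le le_sup_left ?_)
    rw [← hsup]
    exact sup_le_sup_right (inf_le_left.trans (le_inf hQS hQX)) _
  rw [this]
  haveI : (X.map (QuotientGroup.mk' K)).Normal := Normal.map inferInstance _ hf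
  exact H60.nc_of_normal _ _

open Subgroup in
/-- Let p be an odd prime and P a Sylow p-subgroup of the finite group G, and suppose that for no p-subgroup Q of G does N_G(Q)/C_G(Q) have a section isomorphic to SL₂(p). Call a subgroup Q of P centric-radical when Z(Q) is a Sylow p-subgroup of C_G(Q) and the only normal subgroup X of N_G(Q) containing Q·C_G(Q) such that the index of Q·C_G(Q) in X is a power of p is Q·C_G(Q) itself (that is, N_G(Q)/Q·C_G(Q) has no nontrivial normal p-subgroup). Then there is a centric-radical subgroup Q of P contained in every centric-radical subgroup of P; it is normal in P, and N_G(Q) controls strong fusion in P: whenever a subgroup A of P has g A g⁻¹ ≤ P, the element g is a product h c with h in N_G(Q) and c centralizing A. -/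
theorem result {G : Type*} [Group G] [Finite G] {p : ℕ} [Fact p.Prime] (hp : p ≠ 2) (P : Sylow p G)
    (hfree : ∀ Q : Subgroup G, IsPGroup p ↥Q → ¬ ∃ (H K : Subgroup G) (_ : (K.subgroupOf H).Normal),
      Subgroup.centralizer (Q : Set G) ≤ K ∧ K ≤ H ∧ H ≤ Subgroup.normalizer (Q : Set G) ∧
      Nonempty ((↥H ⧸ K.subgroupOf H) ≃* Matrix.SpecialLinearGroup (Fin 2) (ZMod p)))
    (cr : Subgroup G → Prop)
    (hcr : ∀ Q : Subgroup G, cr Q ↔ (Q ≤ (P : Subgroup G) ∧
      (∃ R : Sylow p ↥(Subgroup.centralizer (Q : Set G)),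
        (R : Subgroup ↥(Subgroup.centralizer (Q : Set G))).map (Subgroup.centralizer (Q : Set G)).subtype = Q ⊓ Subgroup.centralizer (Q : Set G)) ∧
      ∀ X : Subgroup G, X ≤ Subgroup.normalizer (Q : Set G) →
        (∀ n ∈ Subgroup.normalizer (Q : Set G), X.map (MulAut.conj n).toMonoidHom = X) →
        Q ⊔ Subgroup.centralizer (Q : Set G) ≤ X → (∃ k : ℕ, (Q ⊔ Subgroup.centralizer (Q : Set G)).relIndex X = p ^ k) →
        X = Q ⊔ Subgroup.centralizer (Q : Set G))) :
    ∃ Q : Subgroup G, cr Q ∧ (∀ R : Subgroup G, cr R → Q ≤ R) ∧ (∀ x ∈ (P : Subgroup G), Q.map (MulAut.conj x).toMonoidHom = Q) ∧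
      ∀ A : Subgroup G, A ≤ (P : Subgroup G) → ∀ g : G, A.map (MulAut.conj g).toMonoidHom ≤ (P : Subgroup G) →
        ∃ h ∈ Subgroup.normalizer (Q : Set G), ∃ c ∈ Subgroup.centralizer (A : Set G), g = h * c := by
  have hst := H60.pairStab_of_isNormalizerPStable
    (H60.isNormalizerPStable_of_not_involves hp (not_involves hfree))
  have hcen := H60.core_centric hp hst P
  set Q := (groupFusionSystem (P : Subgroup G)).core with hQ
  have hQn := H93.core_normal (groupFusionSystem (P : Subgroup G))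
  have hQS : Q ≤ P := H93.core_le _
  have hSN : (P : Subgroup G) ≤ normalizer (Q : Set G) := H93.sc_le_normalizer (H93.normal_sc hQn)
  have hnc := H60.nc_of_isNormal hQn
  refine ⟨Q, (hcr Q).mpr ⟨hQS, ?_, fun X hXN hXn hX ⟨k, hk⟩ => ?_⟩, fun R hR => ?_,
    fun x hx => H72.cj_eq_of_mem_normalizer (hSN hx), fun A hA g hg => ?_⟩
  · have := (H72.isSylowIn_top P).inf_of_normalizes (N := centralizer (Q : Set G)) le_top
      (H72.le_normalizer_centralizer hSN)
    rw [show (P : Subgroup G) ⊓ centralizer (Q : Set G) = Q ⊓ centralizer (Q : Set G) from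
      le_antisymm (le_inf hcen inf_le_right) (inf_le_inf_right _ hQS)] at this
    exact this.exists_sylow_map
  · set N := normalizer (Q : Set G) with hN
    have hNX : N ≤ normalizer (X : Set G) := fun n hn => H72.cj_eq_iff.mp (hXn n hn)
    have hT := (H72.isSylowIn_top P).inf_of_normalizes (N := X) le_top (hSN.trans hNX)
    have hXT : X ≤ ((P : Subgroup G) ⊓ X) ⊔ centralizer (Q : Set G) := by
      rw [← relIndex_eq_one]
      have h1 := relIndex_dvd_of_le_left X
        (le_sup_left : (P : Subgroup G) ⊓ X ≤ ((P : Subgroup G) ⊓ X) ⊔ centralizer (Q : Set G))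
      have h2 := relIndex_dvd_of_le_left X (sup_le_sup_right (le_inf hQS (le_sup_left.trans hX))
        (centralizer (Q : Set G)))
      rw [hk] at h2
      exact (Nat.coprime_self _).mp ((Nat.Coprime.pow_left k
        ((Nat.Prime.coprime_iff_not_dvd Fact.out).mpr hT.not_dvd_relIndex)).coprime_dvd_left h2
        |>.coprime_dvd_right h1)
    haveI : (Q.subgroupOf N).Normal := normal_in_normalizer
    haveI : (X.subgroupOf N).Normal := normal_subgroupOf_of_le_normalizer hNX
    have hcN : ∀ c : N, c ∈ centralizer ((Q.subgroupOf N : Subgroup N) : Set N) ↔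
        (c : G) ∈ centralizer (Q : Set G) := fun c => by
      simp only [mem_centralizer_iff]
      exact ⟨fun h u hu => congrArg Subtype.val (h ⟨u, le_normalizer hu⟩ hu),
        fun h u hu => Subtype.ext (h u hu)⟩
    have h1 := (nc_inf_of_normal (P.subtype hSN) (Q.subgroupOf N) (X.subgroupOf N)
      (fun u hu => hQS hu) (fun u hu => hX (mem_sup_left hu))
      (fun u hu => hcen ⟨hu.1, (hcN u).mp hu.2⟩) (fun u hu => hX (mem_sup_right ((hcN u).mp hu)))
      (fun u hu => by
        obtain ⟨a, ha, b, hb, e⟩ := H72.mem_sup_of_normalizes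
          (H72.le_normalizer_centralizer (inf_le_left.trans hSN)) (hXT hu)
        have : u = ⟨a, hSN ha.1⟩ * ⟨b, centralizer_le_normalizer _ hb⟩ := Subtype.ext e.symm
        rw [this]
        exact mul_mem_sup ⟨ha.1, ha.2⟩ ((hcN _).mpr hb))).map_subtype
    rw [Sylow.coe_subtype, map_subgroupOf_eq_of_le hSN] at h1
    have h2 := H93.le_core ((hnc.trans h1).isNormal (by
      rintro _ ⟨u, hu, rfl⟩; exact hu.1))
    refine le_antisymm (hXT.trans (sup_le_sup_right (fun u hu => h2 ?_) _)) hX
    exact ⟨⟨u, hSN hu.1⟩, ⟨hu.1, hu.2⟩, rfl⟩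
  · obtain ⟨hRP, hZ, hrad⟩ := (hcr R).mp hR
    have hZ' := H72.isSylowIn_iff.mpr hZ
    have hcR : (P : Subgroup G) ⊓ centralizer (R : Set G) ≤ R :=
      (hZ'.maximal _ (P.isPGroup'.to_le inf_le_left) (inf_le_inf_right _ hRP) inf_le_right).le.trans
        inf_le_left
    set M := R ⊔ centralizer (R : Set G) with hM
    set B := Q ⊓ normalizer (R : Set G) with hB
    have hNM : normalizer (R : Set G) ≤ normalizer (M : Set G) :=
      H72.le_normalizer_sup le_rfl (H72.normalizer_le_normalizer_centralizer R)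
    have hBM : B ≤ normalizer (M : Set G) := inf_le_right.trans hNM
    have key := hrad (B ⊔ M) (sup_le inf_le_right (sup_le le_normalizer (centralizer_le_normalizer _)))
      (fun n hn => by
        obtain ⟨x, -, hx, hxR⟩ := hnc R hRP n trivial
          (fun a ha => hRP (H72.conj_mem_of_mem_normalizer hn ha))
        have h1 : x⁻¹ * n ∈ centralizer (R : Set G) := H61.same_iff.mp hxR
        have h2 : x ∈ normalizer (R : Set G) := by
          simpa using mul_mem hn (inv_mem (centralizer_le_normalizer _ h1))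
        have h3 : zpowers x ≤ normalizer ((B ⊔ M : Subgroup G) : Set G) :=
          H72.le_normalizer_sup (H72.le_normalizer_inf (zpowers_le.mpr hx)
            (zpowers_le.mpr (le_normalizer h2))) (zpowers_le.mpr (hNM h2))
        have h4 : x⁻¹ * n ∈ normalizer ((B ⊔ M : Subgroup G) : Set G) :=
          le_normalizer (mem_sup_right (mem_sup_right h1))
        exact H72.cj_eq_of_mem_normalizer (by simpa using mul_mem (h3 (mem_zpowers x)) h4))
      le_sup_right (by
        letI := normal_subgroupOf_of_le_normalizer hBM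
        letI := normal_subgroupOf_sup_of_le_normalizer hBM
        obtain ⟨k, hk⟩ := (P.isPGroup'.to_le (inf_le_left.trans hQS : B ≤ P)).index (M.subgroupOf B)
        exact ⟨k, by
          rw [← hk]
          exact (Nat.card_congr
            (QuotientGroup.quotientInfEquivProdNormalizerQuotient B M hBM).toEquiv).symm⟩)
    refine H91.le_of_normalizerIn_le P.isPGroup' hRP hQS (hRP.trans hSN) fun b hb => ?_
    have h1 : b ∈ (P : Subgroup G) ⊓ M := ⟨hQS hb.1, key.le (mem_sup_left hb)⟩
    rw [hM, H72.inf_sup_of_normalizes hRP (H72.le_normalizer_centralizer le_normalizer)] at h1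
    exact sup_le le_rfl hcR h1
  · obtain ⟨x, -, hx, hxA⟩ := hnc A hA g trivial (fun a ha => hg (H72.conj_mem_cj ha))
    exact ⟨x, hx, x⁻¹ * g, H61.same_iff.mp hxA, by group⟩

end Cfsg.Agent.S1953
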