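import Cfsg.Statements.S1989
import Cfsg.Agent.S1987
import Cfsg.Agent.H60.ZJFusion
import Cfsg.Agent.H60.QdSylow

set_option autoImplicit false
universe u
open Cfsg

namespace Cfsg.Agent.S1989

/-- Let p be an odd prime and G a finite group. Then Qd(p) (the natural semidirect product of an elementary abelian group of order p² by SL₂(p)) is not involved in G if and only if, in every section K/R of G and for every Sylow p-subgroup T of K/R, the lower K-infinity subgroup of T controls strong fusion in K/R. -/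
theorem result {G : Type u} [Group G] [Finite G] {p : ℕ} [Fact p.Prime] (hp : p ≠ 2) : ¬ Cfsg.Involves ↥(Cfsg.qd p) G ↔ ∀ (K R : Subgroup G) [hR : (R.subgroupOf K).Normal], ∀ T : Sylow p (↥K ⧸ R.subgroupOf K), Cfsg.ControlsStrongFusion p (Cfsg.inducedFunctor (G := (↥K ⧸ R.subgroupOf K)) Cfsg.kInfLower (T : Subgroup (↥K ⧸ R.subgroupOf K))) := by
  constructor
  · intro h K R _ T
    exact S1987.result hp (fun K' R' _ => H60.isNormalizerPStable_of_not_involves hp
      (fun h' => h (H62.inv_trans (H62.inv_trans h' (H62.inv_sec K' R')) (H62.inv_sec K R)))) T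
  · rintro h ⟨K, R, hR, ⟨e⟩⟩
    obtain ⟨T⟩ := (inferInstance : Nonempty (Sylow p (K ⧸ R.subgroupOf K)))
    have h1 := h K R T
    haveI := H60.characteristic_of_isCharPFunctor (H61.isCharPFunctor_kInfLower p) T.isPGroup'
    refine H60.not_controlsStrongFusion_of_qd e T _
      ((H61.isCharPFunctor_kInfLower p).1 _ T.isPGroup' ?_) h1
    obtain ⟨ψ, hψ⟩ := H60.exists_equiv_map_eq_qdS e T
    rw [Subgroup.nontrivial_iff_ne_bot]
    intro hT
    rw [hT, Subgroup.map_bot] at hψ
    have h2 : H60.heis (1 : ZMod p) 0 0 ∈ (⊥ : Subgroup (qd p)) := hψ ▸ H60.heis_mem 1 0 0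
    rw [Subgroup.mem_bot, ← H60.heis_zero, H60.heis_inj] at h2
    exact one_ne_zero h2.1

end Cfsg.Agent.S1989
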