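import Cfsg.Statements.S2042
import Cfsg.Agent.J4P.Main
import Cfsg.Agent.J4P.Cover
import Cfsg.Agent.J4P.PreV
import Cfsg.Agent.S2038
import Cfsg.Agent.H63.Final

set_option autoImplicit false
open Cfsg

namespace Cfsg.Agent.S2042

open Cfsg.Agent.SGJ4 Cfsg.Agent.J4P Cfsg.Agent.H14 Subgroup AG Function

theorem exists_lift {K Γ G : Type} [Group K] [Group Γ] [Group G] [Finite K] [Finite Γ]
    (hK : HasCyclicSchurMultiplier K 1) (hp : commutator K = ⊤) {σ : Γ →* G} (hs : Surjective σ)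
    (hc : σ.ker ≤ center Γ) (ψ : K →* G) : ∃ ψ' : K →* Γ, σ.comp ψ' = ψ := by
  let P := (σ.comp (MonoidHom.fst Γ K)).eqLocus (ψ.comp (MonoidHom.snd Γ K))
  let τ : P →* K := (MonoidHom.snd Γ K).comp P.subtype
  have t1 : Surjective τ := fun k => let ⟨g, e⟩ := hs (ψ k); ⟨⟨(g, k), e⟩, rfl⟩
  have t2 : τ.ker ≤ center P := fun z hz => mem_center_iff.2 fun g => Subtype.ext (Prod.ext
    (mem_center_iff.1 (hc (z.2.trans ((congrArg ψ hz).trans (map_one ψ)))) _) (by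
      change τ g * τ z = τ z * τ g
      rw [show τ z = 1 from hz, mul_one, one_mul]))
  have t3 : (commutator P).map τ = ⊤ := by
    rw [map_commutator_eq, MonoidHom.range_eq_top.2 t1, ← commutator_def, hp]
  let τ' := τ.comp (commutator P).subtype
  have t4 : Surjective τ' := fun k =>
    let ⟨g, hg, e⟩ := t3.ge (mem_top k); ⟨⟨g, hg⟩, e⟩
  obtain ⟨π, hπ⟩ := hK.2 _ τ' ⟨t4, fun z hz => mem_center_iff.2 fun g =>
    Subtype.ext (mem_center_iff.1 (t2 hz) _), fun z hz => by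
      have := H63.pow_index_mem t1 t2 (commutator P) hz z.2
      rw [t3, index_top, pow_one, ← map_subtype_commutator] at this
      exact (mem_map_iff_mem (subtype_injective _)).1 this⟩
  have := hπ.subsingleton
  have t5 : Injective τ' := (MonoidHom.ker_eq_bot_iff _).1 (eq_bot_of_subsingleton _)
  let e := MulEquiv.ofBijective τ' ⟨t5, t4⟩
  refine ⟨((MonoidHom.fst Γ K).comp (P.subtype.comp (commutator P).subtype)).comp e.symm,
    MonoidHom.ext fun k => ?_⟩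
  exact (e.symm k).1.2.trans (congrArg ψ (e.apply_symm_apply k))

theorem commutator_M24 : commutator M24 = ⊤ := by
  have := simple_M24
  refine (commutator_normal ⊤ ⊤).eq_bot_or_eq_top.resolve_left fun e => ?_
  have : IsMulCommutative M24 := ⟨⟨fun a b => commutatorElement_eq_one_iff_mul_comm.1
    (mem_bot.1 (e ▸ commutator_mem_commutator (mem_top a) (mem_top b)))⟩⟩
  have hp : (Nat.card M24).Prime := (Group.is_simple_iff_prime_card (α := M24)).1 inferInstance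
  rw [card_M24] at hp
  exact absurd hp (by norm_num)

section
variable {Γ G : Type} [Group Γ] [Group G] {σ : Γ →* G} (hc : σ.ker ≤ center Γ)
include hc

theorem exists_lift_Ks [Finite Γ] (hs : Surjective σ) (ψ : Ks →* G) :
    ∃ ψ' : Ks →* Γ, ∀ a, σ (ex ψ' a) = ex ψ a := by
  obtain ⟨f, hf⟩ := exists_lift S2038.result commutator_M24 hs hc
    (ψ.comp ksEquiv.symm.toMonoidHom)
  refine ⟨f.comp ksEquiv.toMonoidHom, fun a => ?_⟩
  rw [map_ex, ← MonoidHom.comp_assoc, hf]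
  congr 1
  exact MonoidHom.ext fun x => congrArg ψ (ksEquiv.symm_apply_apply x)

theorem comm {c : Γ} (h : σ c = 1) (a : Γ) : Commute a c := mem_center_iff.1 (hc h) a

theorem eq_of_pow {n : ℕ} (hn : ∀ c, σ c = 1 → c ^ n = 1 → c = 1) {a b : Γ} (h : σ a = σ b)
    (ha : a ^ n = 1) (hb : b ^ n = 1) : a = b := by
  have h1 : σ (b⁻¹ * a) = 1 := by rw [map_mul, map_inv, h, inv_mul_cancel]
  have h2 := (comm hc h1 b).mul_pow n
  rw [mul_inv_cancel_left, ha, hb, one_mul] at h2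
  exact (inv_mul_eq_one.1 (hn _ h1 h2.symm)).symm

def cka : ℕ := nat_lit 0x15aad4483078e8c311333ac0a75e25
def ckb : ℕ := nat_lit 0xbd6cb998a87b92ca1db054a2408860
def ckc : ℕ := nat_lit 0x299b43ca2463aaf5a12a9daf010c20

theorem exists_pre_lift [Finite Γ] (hs : Surjective σ) {p : ℕ} (hp : Odd p)
    (ho : ∀ c, σ c = 1 → c ^ p = 1) (P : Pre G) :
    ∃ Q : Pre Γ, σ Q.t = P.t ∧ ∀ a, σ (ex Q.ψ a) = ex P.ψ a := by
  obtain ⟨m, rfl⟩ := hp
  have h2 : ∀ c, σ c = 1 → c ^ 2 = 1 → c = 1 := fun c h e => by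
    have := ho c h
    rwa [pow_succ, pow_mul, e, one_pow, one_mul] at this
  have real : ∀ (g u : Γ) (n : ℕ), σ (g ^ n) = 1 → u * g * u⁻¹ = g⁻¹ → g ^ n = 1 :=
    fun g u n h e => h2 _ h (by
      have := congrArg (· ^ n) e
      rw [conj_pow, (comm hc h u).eq, mul_inv_cancel_right, inv_pow] at this
      rw [sq]; exact mul_eq_one_iff_eq_inv.2 this)
  obtain ⟨ψ, hψ⟩ := exists_lift_Ks hc hs P.ψ
  obtain ⟨t, ht, t2⟩ : ∃ t, σ t = P.t ∧ t ^ 2 = 1 := by
    obtain ⟨t, ht⟩ := hs P.t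
    have h : σ (t ^ 2) = 1 := by rw [map_pow, ht, sq, P.t_sq]
    have h' : σ ((t ^ 2) ^ m) = 1 := by rw [map_pow, h, one_pow]
    refine ⟨t * (t ^ 2) ^ m, by rw [map_mul, h', mul_one, ht], ?_⟩
    rw [← ho _ h]; group
  have cm : ∀ a ∈ KT, t * ex ψ a = ex ψ a * t := fun a ha =>
    (mul_inv_eq_iff_eq_mul.1 (eq_of_pow hc h2 (by
      rw [map_mul, map_mul, map_inv, hψ, ht, ← P.comm a ha, mul_inv_cancel_right])
      (by rw [conj_pow, t2, mul_one, mul_inv_cancel]) t2)).symm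
  have ti : t⁻¹ = t := inv_eq_of_mul_eq_one_right (by rw [← sq, t2])
  refine ⟨⟨ψ, t, by rw [← sq, t2], cm, ?_, ?_⟩, ht, hψ⟩
  · have k : InS KT (cN cka 0) := inS_KT (by decide +kernel)
    have hr : r1 ∈ Ks := KS_le_Ks inS_cr1.ofC_mem
    have hk := KT_le_Ks k.ofC_mem
    have e : r1 * (ofC (cN cka 0) * r1) = ofC (cN cka 0) := by
      rw [← cd_inj]
      simp only [cd_mul, r1, k.cd_ofC, inS_cr1.cd_ofC]
      decide +kernel
    have e1 := congrArg (ex ψ) e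
    rw [ex_mul hr (mul_mem hk hr), ex_mul hk hr] at e1
    have e2 := cm _ k.ofC_mem
    refine real _ (t * ex ψ (ofC (cN cka 0))) 3 (by rw [map_pow, map_mul, ht, hψ, P.tri]) ?_
    generalize ex ψ (ofC (cN cka 0)) = a, ex ψ r1 = r at e1 e2
    calc _ = t * (a * t) * r * (t * a)⁻¹ := by group
      _ = t * t⁻¹ * r⁻¹ * (r * (a * r)) * (t * a)⁻¹ := by rw [← e2, ti]; group
      _ = _ := by rw [e1]; group
  · have k : InS KT (cN ckb 0) := inS_KT (by decide +kernel)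
    have k' : InS KT (cN ckc 0) := inS_KT (by decide +kernel)
    have hp : p2 ∈ Ks := KT_le_Ks inS_cp2.ofC_mem
    have hw : w2 ∈ Ks := inS_cw2.ofC_mem
    have hk := KT_le_Ks k.ofC_mem
    have e : p2 * (ofC (cN ckb 0) * p2) = ofC (cN ckb 0) ∧
        w2 * ofC (cN ckb 0) = ofC (cN ckc 0) * w2 := by
      rw [← cd_inj, ← cd_inj]
      simp only [cd_mul, p2, w2, k.cd_ofC, k'.cd_ofC, inS_cp2.cd_ofC, inS_cw2.cd_ofC]
      decide +kernel
    have e1 := congrArg (ex ψ) e.1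
    have e2 := congrArg (ex ψ) e.2
    rw [ex_mul hp (mul_mem hk hp), ex_mul hk hp] at e1
    rw [ex_mul hw hk, ex_mul (KT_le_Ks k'.ofC_mem) hw] at e2
    have e3 := cm _ k.ofC_mem
    have e4 := cm _ k'.ofC_mem
    have e5 : t * ex ψ p2 = ex ψ p2 * t := cm _ inS_cp2.ofC_mem
    refine real _ ((ex ψ w2)⁻¹ * t * ex ψ w2 * ex ψ (ofC (cN ckb 0))) 2
      (by simp only [map_pow, map_mul, map_inv, ht, hψ, P.quad]) ?_
    generalize ex ψ (ofC (cN ckb 0)) = a, ex ψ (ofC (cN ckc 0)) = b, ex ψ p2 = p, ex ψ w2 = w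
      at e1 e2 e3 e4 e5
    have e6 : w⁻¹ * t * w * a = a * (w⁻¹ * t * w) := by
      calc _ = w⁻¹ * (t * b) * w := by rw [mul_assoc, e2]; group
        _ = w⁻¹ * (b * w) * (w⁻¹ * t * w) := by rw [e4]; group
        _ = _ := by rw [← e2]; group
    have e7 : (w⁻¹ * t * w)⁻¹ = w⁻¹ * t * w := by rw [mul_inv_rev, mul_inv_rev, ti]; group
    generalize w⁻¹ * t * w = s at e6 e7
    calc _ = s * p⁻¹ * (p * (a * p)) * t * s * (s * a)⁻¹ := by group
      _ = s * p⁻¹ * (a * t) * a⁻¹ := by rw [e1, e6]; group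
      _ = s * (p⁻¹ * (t * p) * p⁻¹) := by rw [← e3]; group
      _ = s⁻¹ * (p * t)⁻¹ := by rw [e5, e7, mul_inv_rev, ti]; group
      _ = _ := by group

variable (h2 : ∀ c, σ c = 1 → c ^ 2 = 1)
include h2

theorem sq_eq (hs : Surjective σ) {a b : Γ} (h : IsConj (σ a) (σ b)) (ha : σ (a ^ 2) = 1) :
    b ^ 2 = a ^ 2 := by
  obtain ⟨g, e⟩ := isConj_iff.1 h
  obtain ⟨u, rfl⟩ := hs g
  have h1 : σ ((u * a * u⁻¹)⁻¹ * b) = 1 := by
    rw [map_mul, map_inv, map_mul, map_mul, map_inv, e, inv_mul_cancel]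
  have h3 := (comm hc h1 (u * a * u⁻¹)).mul_pow 2
  rwa [mul_inv_cancel_left, h2 _ h1, mul_one, conj_pow, (comm hc ha u).eq,
    mul_inv_cancel_right] at h3

theorem swap {a b : Γ} (ha : σ (a ^ 2) = 1) (hb : σ (b ^ 2) = 1) (h : σ ((a * b) ^ 2) = 1) :
    b * a = a * b * (a ^ 2 * b ^ 2 * (a * b) ^ 2) :=
  calc _ = a⁻¹ * ((a * b) ^ 2 * b⁻¹) := by rw [sq]; group
    _ = a⁻¹ * (a ^ 2) ^ 2 * (b⁻¹ * (b ^ 2) ^ 2 * (a * b) ^ 2) := by
      rw [← (comm hc h _).eq, h2 _ ha, h2 _ hb, mul_one, mul_one]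
    _ = a * (a ^ 2 * b) * b ^ 2 * (a * b) ^ 2 := by generalize (a * b) ^ 2 = x; group
    _ = _ := by rw [← (comm hc ha _).eq]; simp only [mul_assoc]

theorem sq_one (hs : Surjective σ) (S : Setup G) {a : Γ} (h : σ (a ^ 2) = 1) : a ^ 2 = 1 := by
  obtain ⟨z, hz⟩ := hs S.z
  obtain ⟨t, ht⟩ := hs S.t
  have k : ∀ {v : Vb} {a}, v ∈ Ev → σ a = S.th (tr v) → σ (a ^ 2) = 1 := fun hv e => by
    rw [map_pow, e, sq, ← Setup.th_tr_add hv hv, Vb.add_self, tr_zero, Setup.th_one]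
  have z2 := k (tr_mem_Ns.1 zN_mem) (hz.trans Setup.th_zN.symm)
  have t2 := k (tr_mem_Ns.1 tN_mem) ht
  have ks : ∀ {v : Vb} {a}, σ a = S.th (tr v) → pn v.val = 0 ∧ v ≠ 0 ∧ ¬ bt DT v.val = 1 →
      a ^ 2 = z ^ 2 := fun e h => sq_eq hc h2 hs
    (by rw [hz, e]; exact (Setup.isConj_tr (mem_Ev'.2 h.1) h.2.1).2 (mt isDuad_iff.1 h.2.2)) z2
  have kd : ∀ {v : Vb} {a}, σ a = S.th (tr v) → pn v.val = 0 ∧ bt DT v.val = 1 →
      a ^ 2 = t ^ 2 := fun e h => sq_eq hc h2 hs (by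
    obtain ⟨x, hx, rfl⟩ := duad_trans (isDuad_iff.2 h.2)
    rw [ht, e]
    exact isConj_iff.2 ⟨_, Setup.conj_th_tr (Ks_le_Ns hx) (tr_mem_Ns.1 tN_mem)⟩) t2
  have kk : ∀ u ∈ Ev, ∀ v ∈ Ev, ∀ w ∈ Ev, ∃ a b c, σ a = S.th (tr u) ∧ σ b = S.th (tr v) ∧
      σ c = S.th (tr w) ∧ σ (a * b) = S.th (tr (u + v)) ∧ σ (a * c) = S.th (tr (u + w)) ∧
      σ (b * c) = S.th (tr (v + w)) ∧ σ (a * (b * c)) = S.th (tr (u + (v + w))) ∧
      b * a = a * b * (a ^ 2 * b ^ 2 * (a * b) ^ 2) ∧ c * a = a * c * (a ^ 2 * c ^ 2 * (a * c) ^ 2) ∧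
      b * c * a = a * (b * c) * (a ^ 2 * (b * c) ^ 2 * (a * (b * c)) ^ 2) :=
    fun u hu v hv w hw => by
      obtain ⟨a, ha⟩ := hs (S.th (tr u))
      obtain ⟨b, hb⟩ := hs (S.th (tr v))
      obtain ⟨c, hc'⟩ := hs (S.th (tr w))
      have m : ∀ {u v a b}, u ∈ Ev → v ∈ Ev → σ a = S.th (tr u) → σ b = S.th (tr v) →
          σ (a * b) = S.th (tr (u + v)) := fun h1 h3 e1 e2 => by
        rw [map_mul, e1, e2, Setup.th_tr_add h1 h3]
      have h4 := add_mem hv hw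
      have h5 := m hv hw hb hc'
      exact ⟨a, b, c, ha, hb, hc', m hu hv ha hb, m hu hw ha hc', h5, m hu h4 ha h5,
        swap hc h2 (k hu ha) (k hv hb) (k (add_mem hu hv) (m hu hv ha hb)),
        swap hc h2 (k hu ha) (k hw hc') (k (add_mem hu hw) (m hu hw ha hc')),
        swap hc h2 (k hu ha) (k h4 h5) (k (add_mem hu h4) (m hu h4 ha h5))⟩
  have z1 : z ^ 2 = 1 := by
    obtain ⟨a, b, c, e1, e2, e3, e4, e5, e6, e7, f1, f2, f3⟩ :=
      kk (Vb.of 834) (mem_Ev'.2 (by decide +kernel)) (Vb.of 694) (mem_Ev'.2 (by decide +kernel))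
        (Vb.of 2254) (mem_Ev'.2 (by decide +kernel))
    have z4 := h2 _ z2
    rw [ks e1 (by decide +kernel), ks e2 (by decide +kernel), ks e4 (by decide +kernel), ← sq, z4,
      one_mul] at f1
    rw [ks e1 (by decide +kernel), ks e3 (by decide +kernel), ks e5 (by decide +kernel), ← sq, z4,
      one_mul] at f2
    rw [ks e1 (by decide +kernel), ks e6 (by decide +kernel), ks e7 (by decide +kernel), ← sq, z4,
      one_mul, mul_assoc b, f2, ← mul_assoc, ← mul_assoc, f1, mul_assoc _ _ c, ← (comm hc z2 c).eq,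
      ← mul_assoc, ← mul_assoc, mul_left_inj, mul_eq_left] at f3
    exact f3
  have t1 : t ^ 2 = 1 := by
    obtain ⟨a, b, c, e1, e2, e3, e4, e5, e6, e7, f1, f2, f3⟩ :=
      kk (Vb.of 3) (mem_Ev'.2 (by decide +kernel)) (Vb.of 15) (mem_Ev'.2 (by decide +kernel))
        (Vb.of 51) (mem_Ev'.2 (by decide +kernel))
    have t4 := h2 _ t2
    rw [kd e1 (by decide +kernel), ks e2 (by decide +kernel), kd e4 (by decide +kernel), z1,
      mul_one, ← sq, t4, mul_one] at f1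
    rw [kd e1 (by decide +kernel), ks e3 (by decide +kernel), kd e5 (by decide +kernel), z1,
      mul_one, ← sq, t4, mul_one] at f2
    rw [kd e1 (by decide +kernel), ks e6 (by decide +kernel), ks e7 (by decide +kernel), z1,
      mul_one, mul_one, mul_assoc b, f2, ← mul_assoc, f1, ← mul_assoc, left_eq_mul] at f3
    exact f3
  by_cases h1 : σ a = 1
  · exact h2 a h1
  rcases Setup.two' (S := S) (orderOf_eq_prime ((map_pow σ a 2).symm.trans h) h1) with e | e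
  exacts [(sq_eq hc h2 hs (hz ▸ e) z2).trans z1, (sq_eq hc h2 hs (ht ▸ e) t2).trans t1]

theorem exists_phi_lift [Finite Γ] (hs : Surjective σ) (S : Setup G) :
    ∃ φ : Ns →* Γ, Injective (σ.comp φ) := by
  obtain ⟨ψ, hψ⟩ := exists_lift_Ks hc hs (S.θ.comp (inclusion Ks_le_Ns))
  replace hψ : ∀ a ∈ Ks, σ (ex ψ a) = S.th a := fun a ha => by
    rw [hψ, ex_eq ha, S.th_eq (Ks_le_Ns ha)]; rfl
  obtain ⟨z, hz⟩ := hs S.z
  have z2 := sq_one hc h2 hs S (a := z) (by rw [map_pow, hz, sq, S.z_mul_z])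
  have cm : ∀ a ∈ KS, z * ex ψ a = ex ψ a * z := fun a ha => by
    have : KS ≤ ((centralizer {z}).comap ψ).map Ks.subtype := by
      rw [KS_eq, closure_le]
      rintro _ ⟨i, h1, h3, rfl⟩
      have h4 : eN i ∈ KS := KS_eq.ge (subset_closure ⟨i, h1, h3, rfl⟩)
      have h5 := KS_le_Ks h4
      have h6 := S.mem_H.1 ((Setup.th_mem_H (S := S) (Ks_le_Ns h5)).2 (KS_le_N1 h4))
      refine ⟨⟨_, h5⟩, ?_, rfl⟩
      rw [SetLike.mem_coe, mem_comap, ← ex_eq, mem_centralizer_singleton_iff]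
      have h7 : eN i ^ 2 = 1 ∨ eN i ^ 3 = 1 := by
        rw [← cd_inj, ← cd_inj, cd_pow, cd_pow, cd_eN, cd_one]
        clear h6 h5 h4; revert i; decide +kernel
      rcases h7.imp (congrArg (ex ψ)) (congrArg (ex ψ)) with e | e <;> rw [ex_pow h5, ex_one] at e
      · have h8 := sq_one hc h2 hs S (a := z * ex ψ (eN i)) (by
          rw [map_pow, map_mul, hz, (show Commute S.z _ from (hψ _ h5).symm ▸ h6.symm).mul_pow,
            ← map_pow, e, map_one, mul_one, sq, S.z_mul_z])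
        have := swap hc h2 (by rw [z2, map_one]) (by rw [e, map_one]) (by rw [h8, map_one])
        rwa [z2, e, h8, mul_one, mul_one, mul_one] at this
      · exact (mul_inv_eq_iff_eq_mul.1 (eq_of_pow hc (n := 3)
          (fun c h e => by rwa [pow_succ, h2 c h, one_mul] at e)
          (by rw [map_mul, map_mul, map_inv, hz, hψ _ h5, ← h6, mul_inv_cancel_right])
          (by rw [conj_pow, e, mul_one, mul_inv_cancel]) e)).symm
    obtain ⟨b, hb, rfl⟩ := this ha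
    rw [coe_subtype, ex_coe]
    exact (mem_centralizer_singleton_iff.1 hb).symm
  have hl : lz ∈ Ks := KT_le_Ks inS_clz.ofC_mem
  have h3 : σ ((z * ex ψ lz) ^ 3) = 1 := by
    have := mul_mem zN_mem (Ks_le_Ns hl)
    rw [map_pow, map_mul, hz, hψ _ hl, ← Setup.th_zN, ← Setup.th_mul zN_mem (Ks_le_Ns hl),
      ← Setup.th_pow this, Setup.th_eq_one (pow_mem this 3), ← cd_inj, cd_pow, cd_mul, zN, cd_tr,
      lz, inS_clz.cd_ofC, cd_one]
    decide +kernel
  have h4 := h2 _ h3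
  generalize hx : (z * ex ψ lz) ^ 3 = x at h3 h4
  obtain ⟨φ, -, h5⟩ := PreV.exists_phi (Γ := Γ) ⟨ψ, x * z,
    by rw [← sq, (comm hc h3 z).symm.mul_pow, h4, z2, mul_one],
    fun a ha => by rw [mul_assoc, cm a ha, ← mul_assoc, ← (comm hc h3 _).eq, mul_assoc],
    by rw [mul_assoc, (comm hc h3 _).symm.mul_pow, hx, ← pow_succ, pow_mul x 2 2, h4, one_pow]⟩
  refine ⟨φ, injective_of_zN ?_⟩
  rw [← map_ex, h5, map_mul, h3, one_mul, hz]
  exact S.z_ne_one

end

theorem eq_one {Γ G : Type} [Group Γ] [Group G] [Finite Γ] {σ : Γ →* G} (hσ : IsStemExtension σ)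
    {T : Subgroup Γ} (hT : Injective (σ.comp T.subtype)) {z : Γ} (hz : z ∈ σ.ker) {p : ℕ}
    (hp : z ^ p = 1) (h : Nat.Coprime p (T.map σ).index) : z = 1 := by
  have h1 := H63.mem_of_pow_coprime h (hp ▸ one_mem T)
    (commutator_le_self T (H63.pow_index_mem hσ.1 hσ.2.1 T hz (hσ.2.2 hz)))
  exact congrArg Subtype.val ((injective_iff_map_eq_one _).1 hT ⟨z, h1⟩ hz)

/-- The Schur multiplier of the Janko group J₄ (the finitely presented group of the definitions) is trivial; here the Schur multiplier is described through stem extensions, as in the definitions: surjective homomorphisms onto the group from a finite group, whose kernel is central in that finite group and contained in that finite group's commutator subgroup. -/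
theorem result : Cfsg.HasCyclicSchurMultiplier Cfsg.Spor.J4 1 := by
  have := finite_J4
  refine H63.mult_trivial (H63.UB.of_PB [] (by simp) fun p hp _ =>
    H63.PB.of_exp (e := 0) hp (by simp) fun Γ _ _ σ hσ ho => ⟨[], List.Forall₂.nil, fun z hz => ?_⟩)
  simp only [zero_add, pow_one] at ho
  refine (?_ : z = 1) ▸ one_mem _
  rcases hp.eq_two_or_odd' with rfl | h
  · obtain ⟨S⟩ := nonempty_setup_J4
    obtain ⟨φ, hφ⟩ := exists_phi_lift hσ.2.1 ho hσ.1 S
    refine eq_one hσ (T := φ.range) (fun ⟨_, a, e⟩ ⟨_, b, e'⟩ h => ?_) hz (ho z hz) ?_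
    · subst e e'
      exact Subtype.ext (congrArg φ (hφ h))
    · have h1 := card_mul_index (σ.comp φ).range
      rw [← Nat.card_congr (MonoidHom.ofInjective hφ).toEquiv, card_Ns, card_J4,
        MonoidHom.range_comp] at h1
      rw [show (φ.range.map σ).index = 173067389 by omega]
      decide
  · obtain ⟨P, h1, h2, h3⟩ := exists_pre rel_j.1 rel_j.2
    obtain ⟨Q, h4, h5⟩ := exists_pre_lift hσ.2.1 hσ.1 h ho P
    obtain ⟨A, h6, h7⟩ := Q.exists_amal
    have h8 : A.gen.map σ = ⊤ := eq_top_j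
      ⟨_, A.ex_mem_gen kx, by rw [h7 _ kx_mem, h5, h2]⟩
      ⟨_, A.ex_mem_gen ky, by rw [h7 _ ky_mem, h5, h3]⟩ ⟨_, A.t_mem_gen, by rw [h6, h4, h1]⟩
    have h9 : Surjective (σ.comp A.gen.subtype) := fun g =>
      let ⟨a, ha, e⟩ := h8.ge (mem_top g); ⟨⟨a, ha⟩, e⟩
    refine eq_one hσ ((Nat.bijective_iff_surjective_and_card _).2 ⟨h9, le_antisymm
      (card_J4 ▸ A.card_gen_le) (Nat.card_le_card_of_surjective _ h9)⟩).1 hz (ho z hz) ?_
    rw [h8, index_top]
    exact Nat.coprime_one_right p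

end Cfsg.Agent.S2042
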