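import Cfsg.Statements.S2166
import Cfsg.Agent.H29.SpInv2

set_option autoImplicit false
open Cfsg

namespace Cfsg.Agent.S2166

/-- Conjugacy of involutions in the symplectic group Sp_{2m}(F), F a finite field of characteristic two, m ≥ 2 (Sp taken as the matrices A with A J Aᵀ = J, acting on column vectors, with the alternating form f(u, v) = u ⬝ (J v)). For an involution t write V(t) for the set of vectors v with f(v, t v) = 0 (a subspace). Two involutions a, b are conjugate in Sp_{2m}(F) exactly when a − 1 and b − 1 have the same rank and, in case that rank is even, V(a) and V(b) have the same number of elements. -/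
theorem result {F : Type*} [Field F] [Fintype F] [CharP F 2] {m : ℕ} (hm : 2 ≤ m) (a b : ↥(Matrix.symplecticGroup (Fin m) F)) (ha : orderOf a = 2) (hb : orderOf b = 2) :
    IsConj a b ↔ ((((a : ↥(Matrix.symplecticGroup (Fin m) F)) : Matrix (Fin m ⊕ Fin m) (Fin m ⊕ Fin m) F) - 1).rank = (((b : ↥(Matrix.symplecticGroup (Fin m) F)) : Matrix (Fin m ⊕ Fin m) (Fin m ⊕ Fin m) F) - 1).rank ∧
      (Even (((a : ↥(Matrix.symplecticGroup (Fin m) F)) : Matrix (Fin m ⊕ Fin m) (Fin m ⊕ Fin m) F) - 1).rank → Nat.card {v : Fin m ⊕ Fin m → F // Cfsg.sympForm m F v (Matrix.mulVec ((a : ↥(Matrix.symplecticGroup (Fin m) F)) : Matrix (Fin m ⊕ Fin m) (Fin m ⊕ Fin m) F) v) = 0} = Nat.card {v : Fin m ⊕ Fin m → F // Cfsg.sympForm m F v (Matrix.mulVec ((b : ↥(Matrix.symplecticGroup (Fin m) F)) : Matrix (Fin m ⊕ Fin m) (Fin m ⊕ Fin m) F) v) = 0})) := by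
----
  refine ⟨fun h => ?_, fun ⟨h1, h2⟩ => H29.sp_isConj ha hb h1 ?_⟩
  · obtain ⟨g, rfl⟩ := isConj_iff.1 h
    refine ⟨?_, fun _ => Nat.card_congr ⟨fun v => ⟨g.1.mulVec v.1, ?_⟩,
      fun v => ⟨(g⁻¹).1.mulVec v.1, ?_⟩, fun v => Subtype.ext (H27.sp_inv_mulVec_mulVec g _),
      fun v => Subtype.ext (H27.sp_mulVec_inv_mulVec g _)⟩⟩
    · have := H67.rank_conj ((Matrix.symplecticGroup (Fin m) F).subtype.toHomUnits g) (a.1 - 1)
      rw [← H67.conj_sub_one] at this
      exact this.symm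
    · rw [H27.sp_mul_mulVec, H27.sp_inv_mulVec_mulVec, H27.sp_mul_mulVec, H27.sp_sympForm, v.2]
    · rw [← H27.sp_sympForm g, H27.sp_mulVec_inv_mulVec, ← H27.sp_mul_mulVec, ← H27.sp_mul_mulVec,
        v.2]
  have q1 : 1 < Fintype.card F := Fintype.one_lt_card
  have q2 : 0 < Fintype.card F ^ (2 * m) := by positivity
  refine ⟨fun h => by_contra fun k => ?_, fun h => by_contra fun k => ?_⟩
  · have := H29.sp_card hb k
    rw [← h2 (H29.sp_even ha h), H29.sp_card' h] at this
    nlinarith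
  · have := H29.sp_card ha k
    rw [h2 (h1 ▸ H29.sp_even hb h), H29.sp_card' h] at this
    nlinarith

end Cfsg.Agent.S2166
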