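import Cfsg.Statements.S2176
import Cfsg.Agent.H65.InvFix

set_option autoImplicit false
open Cfsg

namespace Cfsg.Agent.S2176

open Cfsg.Lie Cfsg.Agent.H37 Cfsg.Agent.H65

/-- representatives -/
def Ys : List (List ℕ) := [[239], [232, 233], [228, 222, 218], [226, 220, 213, 216]]

/-- fusion certificate -/
def f0 : List ℕ × ℕ × List (ℕ × ℕ) :=
    ([119, 116, 109, 92, 83, 78, 7, 6], 3, [(2, 119), (1, 0), (0, 22), (0, 21), (0, 20), (0, 19), (0, 18), (0, 17),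
    (0, 16), (0, 15), (0, 14), (0, 13), (0, 12), (0, 11), (0, 10), (0, 9), (0, 8), (0, 7), (0, 6), (0, 5), (0, 4),
    (0, 3), (0, 2), (1, 1), (2, 116), (0, 0), (1, 1), (0, 20), (0, 19), (0, 18), (0, 17), (0, 16), (0, 15), (0,
    14), (0, 13), (0, 12), (0, 11), (0, 10), (0, 9), (0, 8), (0, 7), (0, 6), (0, 5), (0, 4), (0, 3), (1, 2), (2,
    109), (0, 0), (0, 1), (1, 2), (0, 18), (0, 17), (0, 16), (0, 15), (0, 14), (0, 13), (0, 12), (0, 11), (0, 10),
    (0, 9), (0, 8), (0, 7), (0, 6), (0, 5), (0, 4), (1, 3), (2, 92), (0, 0), (0, 1), (0, 2), (1, 3), (0, 16), (0,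
    15), (0, 14), (0, 13), (0, 12), (0, 11), (0, 10), (0, 9), (0, 8), (0, 7), (0, 6), (0, 5), (1, 4), (2, 83), (0,
    0), (0, 1), (0, 2), (0, 3), (1, 4), (0, 14), (0, 13), (0, 12), (0, 11), (0, 10), (0, 9), (0, 8), (0, 7), (0,
    6), (1, 5), (2, 78), (0, 0), (0, 1), (0, 2), (0, 3), (0, 4), (1, 5), (0, 12), (0, 11), (0, 10), (0, 9), (0, 8),
    (0, 7), (1, 6), (2, 7), (0, 0), (0, 1), (0, 2), (0, 3), (0, 4), (0, 5), (1, 6), (0, 10), (0, 9), (0, 8), (1,
    7), (2, 6), (0, 0), (0, 1), (0, 2), (0, 3), (0, 4), (0, 5), (0, 6), (1, 7), (1, 8), (0, 1), (0, 0), (0, 2), (0,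
    1), (0, 3), (0, 4), (0, 3), (0, 2), (0, 1), (0, 0), (0, 5), (0, 4), (0, 3), (0, 2), (0, 1), (0, 0), (0, 6), (0,
    5), (0, 4), (0, 3), (0, 2), (0, 1), (0, 0), (2, 49), (0, 8), (0, 7), (0, 6), (0, 5), (0, 4), (0, 3), (0, 2),
    (0, 1), (1, 0), (0, 2), (0, 3), (0, 7), (2, 191), (0, 10), (0, 9), (0, 8), (0, 7), (0, 6), (0, 5), (0, 4), (0,
    3), (0, 2), (0, 1), (1, 0), (1, 4), (1, 9), (2, 44), (0, 9), (0, 8), (0, 7), (0, 6), (0, 5), (0, 4), (0, 3),
    (0, 2), (0, 1), (1, 0), (0, 2), (0, 3), (0, 5), (0, 6), (0, 5), (0, 4), (0, 7), (0, 6), (0, 5), (0, 8), (0, 7),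
    (1, 6), (0, 7), (0, 6), (0, 8), (1, 7), (2, 50), (0, 0), (0, 1), (0, 3), (0, 2), (0, 4), (0, 3), (0, 5), (0,
    4), (0, 6), (0, 5), (0, 7), (0, 6), (1, 8), (1, 7), (0, 1), (0, 2), (0, 1), (0, 3), (0, 4), (0, 3), (0, 2), (0,
    1), (0, 5), (0, 4), (2, 94), (0, 7), (0, 6), (0, 5), (0, 4), (0, 3), (0, 2), (0, 1), (1, 0), (0, 1), (0, 5),
    (2, 226), (0, 9), (0, 8), (0, 7), (0, 6), (0, 5), (0, 4), (0, 3), (0, 2), (0, 1), (1, 0), (1, 2), (0, 7), (1,
    8), (2, 139), (0, 8), (0, 7), (0, 6), (0, 5), (0, 4), (0, 3), (0, 2), (0, 1), (1, 0), (0, 1), (0, 3), (0, 4),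
    (0, 3), (0, 2), (0, 5), (0, 4), (0, 3), (0, 6), (0, 5), (1, 4), (0, 5), (0, 4), (0, 6), (1, 5), (0, 5), (2,
    140), (0, 0), (0, 2), (0, 1), (0, 3), (0, 2), (0, 4), (0, 3), (0, 5), (0, 4), (0, 6), (1, 7), (0, 6), (1, 5),
    (0, 0), (0, 1), (0, 3), (0, 2), (0, 1), (0, 4), (0, 3), (2, 66), (0, 6), (0, 5), (0, 4), (0, 3), (0, 2), (0,
    1), (1, 0), (2, 210), (0, 8), (0, 7), (0, 6), (0, 5), (0, 4), (0, 3), (0, 2), (0, 1), (1, 0), (0, 1), (1, 3),
    (0, 4), (0, 5), (1, 6), (3, 176), (0, 2), (0, 1), (0, 0), (0, 4), (0, 3), (0, 5), (0, 4), (0, 3), (0, 2), (0,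
    1), (0, 4), (0, 5), (1, 6), (2, 176), (0, 7), (0, 6), (0, 5), (0, 4), (0, 3), (0, 2), (0, 1), (1, 0), (0, 1),
    (0, 3), (0, 4), (0, 3), (0, 2), (0, 5), (0, 4), (1, 3), (0, 4), (0, 3), (0, 5), (1, 4), (0, 4), (2, 130), (0,
    0), (0, 1), (0, 3), (0, 2), (0, 4), (0, 5), (1, 6), (0, 5), (0, 4), (1, 3), (0, 0), (0, 1), (0, 2), (0, 1), (0,
    0), (2, 150), (0, 5), (0, 4), (0, 3), (0, 2), (0, 1), (1, 0), (2, 183), (0, 7), (0, 6), (0, 5), (0, 4), (0, 3),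
    (0, 2), (0, 1), (1, 0), (0, 1), (0, 2), (1, 3), (0, 4), (1, 6), (2, 70), (0, 6), (0, 5), (0, 4), (0, 3), (0,
    2), (0, 1), (1, 0), (0, 1), (0, 2), (0, 4), (0, 5), (0, 4), (0, 3), (0, 6), (0, 5), (1, 4), (0, 5), (1, 4), (2,
    77), (0, 0), (0, 1), (0, 2), (0, 4), (0, 3), (1, 5), (1, 4), (3, 151), (3, 230), (3, 135), (3, 239), (3, 131),
    (3, 213), (3, 216)])

/-- fusion certificate -/
def f1 : List ℕ × ℕ × List (ℕ × ℕ) :=
    ([119, 116, 109, 35, 30, 21, 7], 3, [(2, 119), (1, 0), (0, 19), (0, 18), (0, 17), (0, 16), (0, 15), (0, 14),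
    (0, 13), (0, 12), (0, 11), (0, 10), (0, 9), (0, 8), (0, 7), (0, 6), (0, 5), (0, 4), (0, 3), (0, 2), (1, 1), (2,
    116), (0, 0), (1, 1), (0, 17), (0, 16), (0, 15), (0, 14), (0, 13), (0, 12), (0, 11), (0, 10), (0, 9), (0, 8),
    (0, 7), (0, 6), (0, 5), (0, 4), (0, 3), (1, 2), (2, 109), (0, 0), (0, 1), (1, 2), (0, 15), (0, 14), (0, 13),
    (0, 12), (0, 11), (0, 10), (0, 9), (0, 8), (0, 7), (0, 6), (0, 5), (0, 4), (1, 3), (2, 35), (0, 0), (0, 1), (0,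
    2), (1, 3), (0, 13), (0, 12), (0, 11), (0, 10), (0, 9), (0, 8), (0, 7), (0, 6), (0, 5), (1, 4), (2, 30), (0,
    0), (0, 1), (0, 2), (0, 3), (1, 4), (0, 11), (0, 10), (0, 9), (0, 8), (0, 7), (0, 6), (1, 5), (2, 21), (0, 0),
    (0, 1), (0, 2), (0, 3), (0, 4), (1, 5), (0, 9), (0, 8), (0, 7), (1, 6), (2, 7), (0, 0), (0, 1), (0, 2), (0, 3),
    (0, 4), (0, 5), (1, 6), (1, 7), (0, 1), (0, 0), (0, 2), (0, 1), (0, 3), (0, 5), (0, 4), (0, 3), (0, 2), (2,
    190), (0, 7), (0, 6), (0, 5), (0, 4), (0, 3), (0, 2), (0, 1), (1, 0), (2, 191), (0, 9), (0, 8), (0, 7), (0, 6),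
    (0, 5), (0, 4), (0, 3), (0, 2), (0, 1), (1, 0), (0, 1), (0, 3), (0, 2), (1, 4), (0, 5), (0, 6), (1, 7), (3,
    44), (0, 1), (0, 0), (0, 3), (0, 2), (0, 1), (0, 0), (0, 5), (0, 4), (0, 6), (0, 5), (0, 4), (0, 3), (0, 2),
    (0, 5), (0, 6), (1, 7), (2, 44), (0, 8), (0, 7), (0, 6), (0, 5), (0, 4), (0, 3), (0, 2), (0, 1), (1, 0), (0,
    1), (0, 2), (0, 4), (0, 5), (0, 4), (0, 3), (0, 6), (0, 5), (1, 4), (0, 5), (0, 4), (0, 6), (1, 5), (0, 5), (2,
    120), (0, 0), (0, 1), (0, 2), (0, 4), (0, 3), (0, 5), (0, 6), (1, 7), (0, 6), (0, 5), (1, 4), (0, 2), (0, 1),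
    (0, 0), (0, 3), (0, 2), (0, 1), (0, 4), (0, 3), (0, 2), (2, 98), (0, 6), (0, 5), (0, 4), (0, 3), (0, 2), (0,
    1), (1, 0), (0, 2), (0, 3), (2, 124), (0, 8), (0, 7), (0, 6), (0, 5), (0, 4), (0, 3), (0, 2), (0, 1), (1, 0),
    (1, 4), (1, 7), (2, 117), (0, 7), (0, 6), (0, 5), (0, 4), (0, 3), (0, 2), (0, 1), (1, 0), (0, 2), (0, 3), (0,
    5), (0, 6), (0, 5), (0, 4), (0, 7), (0, 6), (1, 5), (0, 6), (1, 5), (2, 194), (0, 0), (0, 1), (0, 3), (0, 2),
    (0, 4), (0, 3), (0, 5), (0, 4), (1, 6), (1, 5), (0, 0), (0, 2), (0, 1), (2, 37), (0, 5), (0, 4), (0, 3), (0,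
    2), (0, 1), (1, 0), (0, 5), (2, 55), (0, 7), (0, 6), (0, 5), (0, 4), (0, 3), (0, 2), (0, 1), (1, 0), (1, 4),
    (1, 6), (3, 210), (0, 3), (0, 2), (0, 1), (0, 5), (0, 4), (0, 3), (0, 2), (0, 5), (1, 6), (2, 210), (0, 6), (0,
    5), (0, 4), (0, 3), (0, 2), (0, 1), (1, 0), (0, 2), (0, 4), (0, 5), (0, 4), (0, 3), (0, 6), (0, 5), (1, 4), (0,
    5), (1, 4), (2, 50), (0, 0), (0, 1), (0, 2), (0, 3), (1, 5), (1, 4), (3, 122), (3, 165), (3, 133), (3, 221),
    (3, 130), (3, 217), (3, 143), (3, 216)])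

/-- fusion certificate -/
def f2 : List ℕ × ℕ × List (ℕ × ℕ) :=
    ([119, 116, 51, 46, 21, 4], 3, [(2, 119), (1, 0), (0, 16), (0, 15), (0, 14), (0, 13), (0, 12), (0, 11), (0,
    10), (0, 9), (0, 8), (0, 7), (0, 6), (0, 5), (0, 4), (0, 3), (0, 2), (1, 1), (2, 116), (0, 0), (1, 1), (0, 14),
    (0, 13), (0, 12), (0, 11), (0, 10), (0, 9), (0, 8), (0, 7), (0, 6), (0, 5), (0, 4), (0, 3), (1, 2), (2, 51),
    (0, 0), (0, 1), (1, 2), (0, 12), (0, 11), (0, 10), (0, 9), (0, 8), (0, 7), (0, 6), (0, 5), (0, 4), (1, 3), (2,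
    46), (0, 0), (0, 1), (0, 2), (1, 3), (0, 10), (0, 9), (0, 8), (0, 7), (0, 6), (0, 5), (1, 4), (2, 21), (0, 0),
    (0, 1), (0, 2), (0, 3), (1, 4), (0, 8), (0, 7), (0, 6), (1, 5), (2, 4), (0, 0), (0, 1), (0, 2), (0, 3), (0, 4),
    (1, 5), (1, 6), (0, 0), (0, 2), (0, 1), (0, 0), (0, 3), (0, 2), (0, 1), (0, 0), (0, 4), (0, 3), (0, 2), (2,
    50), (0, 6), (0, 5), (0, 4), (0, 3), (0, 2), (0, 1), (1, 0), (0, 2), (2, 115), (0, 8), (0, 7), (0, 6), (0, 5),
    (0, 4), (0, 3), (0, 2), (0, 1), (1, 0), (0, 2), (0, 3), (0, 5), (0, 7), (1, 6), (0, 6), (1, 7), (3, 117), (0,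
    1), (0, 4), (0, 3), (0, 2), (0, 6), (0, 5), (0, 4), (0, 6), (1, 7), (2, 117), (0, 7), (0, 6), (0, 5), (0, 4),
    (0, 3), (0, 2), (0, 1), (1, 0), (0, 3), (0, 4), (0, 6), (0, 7), (0, 6), (1, 5), (0, 6), (1, 5), (2, 120), (0,
    0), (0, 1), (0, 2), (0, 3), (0, 5), (0, 4), (1, 6), (1, 5), (0, 2), (0, 1), (0, 0), (0, 3), (0, 2), (2, 25),
    (0, 5), (0, 4), (0, 3), (0, 2), (0, 1), (1, 0), (0, 2), (0, 3), (0, 5), (0, 6), (2, 55), (0, 8), (0, 7), (0,
    6), (0, 5), (0, 4), (0, 3), (0, 2), (0, 1), (1, 0), (0, 3), (0, 5), (0, 6), (0, 5), (1, 4), (0, 5), (0, 6), (0,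
    7), (1, 6), (1, 6), (2, 113), (0, 6), (0, 5), (0, 4), (0, 3), (0, 2), (0, 1), (1, 0), (0, 2), (0, 4), (0, 5),
    (0, 4), (0, 3), (0, 6), (0, 5), (1, 4), (0, 5), (1, 4), (2, 129), (0, 0), (0, 1), (0, 2), (0, 3), (1, 5), (1,
    4), (3, 174), (3, 128), (3, 135), (3, 123), (3, 150)])

/-- fusion certificate -/
def f3 : List ℕ × ℕ × List (ℕ × ℕ) :=
    ([119, 55, 46, 23, 2], 3, [(2, 119), (1, 0), (0, 13), (0, 12), (0, 11), (0, 10), (0, 9), (0, 8), (0, 7), (0,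
    6), (0, 5), (0, 4), (0, 3), (0, 2), (1, 1), (2, 55), (0, 0), (1, 1), (0, 11), (0, 10), (0, 9), (0, 8), (0, 7),
    (0, 6), (0, 5), (0, 4), (0, 3), (1, 2), (2, 46), (0, 0), (0, 1), (1, 2), (0, 9), (0, 8), (0, 7), (0, 6), (0,
    5), (0, 4), (1, 3), (2, 23), (0, 0), (0, 1), (0, 2), (1, 3), (0, 7), (0, 6), (0, 5), (1, 4), (2, 2), (0, 0),
    (0, 1), (0, 2), (0, 3), (1, 4), (1, 5), (0, 0), (0, 1), (0, 2), (0, 3), (0, 2), (2, 25), (0, 5), (0, 4), (0,
    3), (0, 2), (0, 1), (1, 0), (2, 118), (0, 7), (0, 6), (0, 5), (0, 4), (0, 3), (0, 2), (0, 1), (1, 0), (0, 2),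
    (1, 3), (0, 4), (1, 6), (2, 48), (0, 6), (0, 5), (0, 4), (0, 3), (0, 2), (0, 1), (1, 0), (0, 2), (0, 4), (0,
    5), (0, 4), (0, 3), (0, 6), (0, 5), (1, 4), (0, 5), (1, 4), (2, 122), (0, 0), (0, 1), (0, 2), (0, 4), (0, 3),
    (1, 5), (1, 4), (3, 181), (3, 121), (3, 152), (3, 144), (3, 142), (3, 157)])

/-- fusion certificate -/
def f4 : List ℕ × ℕ × List (ℕ × ℕ) :=
    ([119, 78, 11, 2], 2, [(2, 119), (1, 0), (0, 10), (0, 9), (0, 8), (0, 7), (0, 6), (0, 5), (0, 4), (0, 3), (0,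
    2), (1, 1), (2, 78), (0, 0), (1, 1), (0, 8), (0, 7), (0, 6), (0, 5), (0, 4), (0, 3), (1, 2), (2, 11), (0, 0),
    (0, 1), (1, 2), (0, 6), (0, 5), (0, 4), (1, 3), (2, 2), (0, 0), (0, 1), (0, 2), (1, 3), (1, 4), (0, 1), (0, 0),
    (2, 118), (0, 4), (0, 3), (0, 2), (0, 1), (1, 0), (0, 1), (2, 226), (0, 6), (0, 5), (0, 4), (0, 3), (0, 2), (0,
    1), (1, 0), (1, 2), (1, 5), (2, 159), (0, 5), (0, 4), (0, 3), (0, 2), (0, 1), (1, 0), (0, 1), (0, 3), (0, 4),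
    (0, 3), (0, 2), (0, 5), (0, 4), (1, 3), (0, 4), (1, 3), (2, 160), (0, 0), (0, 2), (0, 1), (0, 3), (0, 2), (1,
    4), (1, 3), (3, 124), (3, 219), (3, 181)])

/-- fusion certificate -/
def f5 : List ℕ × ℕ × List (ℕ × ℕ) :=
    ([55, 48, 25, 0], 3, [(2, 55), (1, 0), (0, 10), (0, 9), (0, 8), (0, 7), (0, 6), (0, 5), (0, 4), (0, 3), (0, 2),
    (1, 1), (2, 48), (0, 0), (1, 1), (0, 8), (0, 7), (0, 6), (0, 5), (0, 4), (0, 3), (1, 2), (2, 25), (0, 0), (0,
    1), (1, 2), (0, 6), (0, 5), (0, 4), (1, 3), (2, 0), (0, 0), (0, 1), (0, 2), (1, 3), (1, 4), (3, 181), (3, 215),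
    (3, 150), (3, 213), (3, 142), (3, 157)])

/-- fusion certificate -/
def f6 : List ℕ × ℕ × List (ℕ × ℕ) :=
    ([80, 13, 0], 2, [(2, 80), (1, 0), (0, 7), (0, 6), (0, 5), (0, 4), (0, 3), (0, 2), (1, 1), (2, 13), (0, 0), (1,
    1), (0, 5), (0, 4), (0, 3), (1, 2), (2, 0), (0, 0), (0, 1), (1, 2), (1, 3), (3, 159), (3, 238), (3, 161), (3,
    185), (3, 128), (3, 214)])

/-- fusion certificate -/
def f7 : List ℕ × ℕ × List (ℕ × ℕ) :=
    ([13, 0], 1, [(2, 13), (1, 0), (0, 4), (0, 3), (0, 2), (1, 1), (2, 0), (0, 0), (1, 1), (1, 2), (3, 140)])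

/-- fusion certificate -/
def f8 : List ℕ × ℕ × List (ℕ × ℕ) :=
    ([0], 0, [(2, 0), (1, 0), (1, 1)])

/-- the classes of involutions of the Weyl group -/
def fs : List (List ℕ × ℕ × List (ℕ × ℕ)) := [f0, f1, f2, f3, f4, f5, f6, f7, f8]

/-- certificates for the sets of nodes -/
def certs : List (ℕ × ℕ × List ℕ) :=
    [(0, 0, []), (0, 1, []), (0, 1, [121, 135, 152, 147, 126, 150, 127, 205, 165, 238]), (0, 2, []), (0, 1, [121,
    131, 150, 127, 205, 165, 238]), (0, 1, [121, 131, 172, 127, 205, 137, 238]), (0, 2, [147, 130, 226, 188, 121,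
    157, 238]), (0, 2, [169, 130, 219, 188, 121, 179, 238]), (0, 1, [121, 137, 135, 126, 150, 127, 205, 165, 238]),
    (0, 2, [164, 135, 200, 188, 121, 205, 238]), (0, 1, [121, 136, 147, 131, 150, 127, 205, 165, 238]), (0, 2,
    [169, 135, 210, 188, 121, 195, 238]), (0, 1, [121, 131, 126, 150, 127, 205, 165, 238]), (0, 2, [163, 200, 188,
    121, 205, 238]), (0, 2, [142, 226, 188, 121, 157, 238]), (0, 2, [164, 214, 121, 189, 238]), (0, 1, [121, 136,
    150, 127, 205, 165, 238]), (0, 2, [165, 136, 191, 188, 121, 205, 131, 238]), (0, 2, [135, 136, 133, 205, 165,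
    238]), (0, 3, []), (0, 2, [136, 159, 149, 121, 205, 165, 238]), (0, 2, [164, 181, 171, 121, 205, 137, 238]),
    (0, 3, [121, 159, 226, 163, 238]), (0, 3, [121, 181, 219, 135, 238]), (0, 1, [121, 136, 135, 150, 127, 205,
    165, 238]), (0, 2, [165, 135, 197, 185, 121, 205, 126, 238]), (0, 2, [135, 126, 133, 205, 165, 238]), (0, 3,
    [121, 200, 207, 131, 238]), (0, 2, [135, 126, 159, 149, 121, 205, 165, 238]), (0, 2, [164, 191, 188, 121, 205,
    131, 238]), (0, 4, []), (0, 4, [121, 200, 207, 165, 238]), (0, 1, [128, 138, 150, 205, 165, 238]), (0, 2, [141,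
    166, 137, 186, 184, 121, 205, 131, 238]), (0, 2, [138, 128, 130, 121, 205, 165, 238]), (0, 3, [128, 186, 214,
    127, 238]), (0, 2, [141, 138, 154, 147, 121, 205, 165, 238]), (0, 2, [141, 166, 176, 169, 121, 205, 137, 238]),
    (0, 3, [128, 154, 226, 163, 127, 238]), (0, 3, [128, 176, 219, 135, 127, 238]), (0, 2, [149, 145, 141, 121,
    205, 165, 238]), (0, 3, [145, 186, 200, 127, 144, 238]), (0, 2, [138, 133, 121, 205, 165, 238]), (0, 3, [133,
    186, 210, 127, 132, 238]), (0, 2, [138, 149, 133, 205, 165, 238]), (0, 3, [154, 172, 136, 200, 127, 144, 238]),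
    (0, 3, [139, 145, 136, 226, 163, 127, 238]), (0, 3, [150, 167, 147, 214, 127, 238]), (0, 1, [124, 138, 150,
    126, 205, 165, 238]), (0, 2, [166, 136, 188, 124, 205, 131, 238]), (0, 2, [138, 130, 124, 131, 121, 205, 165,
    238]), (0, 3, [124, 189, 214, 123, 238]), (0, 2, [149, 136, 157, 148, 121, 205, 165, 238]), (0, 2, [171, 164,
    179, 170, 121, 205, 137, 238]), (0, 3, [124, 157, 226, 163, 123, 238]), (0, 3, [124, 179, 219, 135, 123, 238]),
    (0, 2, [149, 147, 145, 141, 121, 205, 165, 238]), (0, 3, [145, 191, 195, 144, 238]), (0, 2, [138, 135, 128,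
    130, 121, 205, 165, 238]), (0, 3, [128, 197, 205, 132, 127, 238]), (0, 2, [144, 135, 154, 147, 121, 205, 165,
    238]), (0, 3, [159, 179, 138, 186, 131, 144, 238]), (0, 4, [139, 145, 138, 226, 238]), (0, 4, [214, 128, 186,
    178, 238]), (0, 1, [126, 159, 135, 145, 132, 148, 205, 165, 238]), (0, 2, [141, 167, 138, 185, 205, 131, 238]),
    (0, 2, [139, 126, 130, 123, 205, 165, 238]), (0, 3, [184, 214, 128, 123, 238]), (0, 2, [141, 139, 152, 147,
    123, 205, 165, 238]), (0, 2, [141, 167, 174, 169, 123, 205, 137, 238]), (0, 3, [179, 175, 184, 159, 238]), (0,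
    3, [157, 153, 184, 181, 238]), (0, 2, [150, 143, 141, 123, 205, 165, 238]), (0, 3, [184, 200, 128, 145, 123,
    238]), (0, 2, [139, 131, 123, 205, 165, 238]), (0, 3, [184, 210, 128, 133, 123, 238]), (0, 2, [145, 138, 149,
    131, 205, 165, 238]), (0, 3, [170, 136, 200, 128, 145, 123, 238]), (0, 3, [136, 179, 175, 184, 159, 238]), (0,
    3, [165, 147, 214, 128, 123, 238]), (0, 2, [157, 123, 144, 205, 165, 238]), (0, 3, [189, 185, 145, 132, 238]),
    (0, 3, [148, 136, 157, 153, 221, 182, 227, 120]), (0, 5, []), (0, 3, [141, 148, 136, 157, 153, 181, 238]), (0,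
    3, [141, 170, 164, 179, 175, 159, 238]), (0, 5, [143, 130, 157, 127, 174, 218, 125]), (0, 5, [143, 130, 179,
    127, 152, 218, 125]), (0, 2, [150, 123, 142, 141, 127, 205, 165, 238]), (0, 3, [184, 197, 124, 145, 127, 238]),
    (0, 3, [137, 142, 135, 157, 153, 221, 182, 227, 120]), (0, 5, [179, 156, 142, 218, 125]), (0, 3, [142, 135,
    157, 153, 181, 238]), (0, 3, [137, 189, 185, 145, 132, 238]), (0, 6, []), (0, 6, [167, 205, 124, 228, 120]),
    (0, 1, [127, 141, 139, 149, 205, 165, 238]), (0, 2, [141, 167, 137, 185, 184, 205, 131, 238]), (0, 2, [139,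
    127, 130, 205, 165, 238]), (0, 3, [185, 214, 128, 238]), (0, 2, [141, 139, 153, 147, 205, 165, 238]), (0, 2,
    [141, 167, 175, 169, 205, 137, 238]), (0, 3, [153, 226, 163, 128, 238]), (0, 3, [175, 219, 135, 128, 238]), (0,
    2, [150, 144, 141, 205, 165, 238]), (0, 3, [185, 200, 128, 145, 238]), (0, 2, [139, 132, 205, 165, 238]), (0,
    3, [185, 210, 128, 133, 238]), (0, 2, [142, 139, 149, 147, 130, 205, 165, 238]), (0, 3, [171, 136, 200, 128,
    145, 238]), (0, 3, [144, 136, 226, 163, 128, 238]), (0, 3, [166, 147, 214, 128, 238]), (0, 2, [159, 121, 144,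
    205, 165, 238]), (0, 3, [186, 188, 127, 145, 132, 238]), (0, 3, [135, 150, 136, 156, 127, 221, 182, 227, 120]),
    (0, 5, [139, 166, 137, 143, 130, 218, 125]), (0, 3, [150, 136, 156, 127, 181, 238]), (0, 3, [172, 164, 178,
    127, 159, 238]), (0, 5, [145, 130, 153, 126, 174, 218, 125]), (0, 5, [145, 130, 175, 126, 152, 218, 125]), (0,
    2, [150, 147, 143, 141, 123, 205, 165, 238]), (0, 3, [189, 194, 145, 123, 238]), (0, 3, [144, 135, 152, 221,
    182, 227, 120]), (0, 5, [159, 179, 154, 142, 124, 218, 125]), (0, 3, [145, 144, 135, 152, 181, 238]), (0, 3,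
    [175, 139, 184, 132, 145, 127, 238]), (0, 7, []), (0, 8, []), (0, 1, [126, 161, 135, 145, 134, 148, 205, 165,
    238, 122]), (0, 2, [141, 168, 139, 187, 205, 131, 238, 122]), (0, 2, [139, 126, 130, 125, 205, 165, 238, 122]),
    (0, 3, [126, 184, 216, 129, 124, 238, 122]), (0, 2, [141, 139, 152, 147, 125, 205, 165, 238, 122]), (0, 2,
    [141, 167, 174, 169, 125, 205, 137, 238, 122]), (0, 3, [126, 180, 176, 184, 161, 238, 122]), (0, 3, [126, 158,
    154, 184, 183, 238, 122]), (0, 2, [150, 143, 141, 125, 205, 165, 238, 122]), (0, 3, [143, 184, 202, 129, 146,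
    124, 238, 122]), (0, 2, [139, 131, 125, 205, 165, 238, 122]), (0, 3, [131, 184, 212, 129, 134, 124, 238, 122]),
    (0, 2, [145, 140, 151, 131, 205, 165, 238, 122]), (0, 3, [152, 170, 136, 202, 129, 146, 124, 238, 122]), (0, 3,
    [137, 136, 180, 176, 184, 161, 238, 122]), (0, 3, [148, 165, 147, 216, 129, 124, 238, 122]), (0, 2, [157, 125,
    146, 205, 165, 238, 122]), (0, 3, [141, 190, 186, 146, 133, 238, 122]), (0, 3, [148, 136, 158, 154, 220, 181,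
    226, 121]), (0, 5, [165, 168, 139, 146, 130, 218, 123]), (0, 3, [148, 136, 158, 154, 183, 238, 122]), (0, 3,
    [170, 164, 180, 176, 161, 238, 122]), (0, 5, [143, 130, 154, 129, 177, 218, 123]), (0, 5, [143, 130, 176, 129,
    155, 218, 123]), (0, 2, [148, 151, 124, 142, 141, 129, 205, 165, 238, 122]), (0, 3, [142, 184, 199, 125, 146,
    128, 238, 122]), (0, 3, [137, 142, 135, 158, 154, 220, 181, 226, 121]), (0, 5, [180, 157, 142, 125, 218, 123]),
    (0, 3, [143, 142, 135, 158, 154, 183, 238, 122]), (0, 3, [148, 137, 190, 186, 146, 133, 238, 122]), (0, 6,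
    [206, 168, 227]), (0, 6, [168, 206, 125, 227]), (0, 2, [156, 160, 124, 144, 212, 165, 238, 129]), (0, 3, [188,
    193, 124, 145, 132, 238, 129]), (0, 3, [135, 149, 137, 161, 125, 221, 175, 226, 128]), (0, 5, [166, 168, 139,
    146, 131, 217]), (0, 3, [141, 149, 137, 161, 124, 181, 238, 129]), (0, 3, [141, 171, 165, 183, 124, 159, 238,
    129]), (0, 5, [144, 131, 157, 125, 180, 217]), (0, 5, [144, 131, 179, 125, 158, 217]), (0, 3, [156, 132, 158,
    154, 203, 238, 140]), (0, 5, [171, 173, 150, 210, 134, 203]), (0, 3, [136, 138, 126, 158, 154, 221, 171, 226,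
    133]), (0, 5, [166, 168, 139, 200, 146, 213]), (0, 3, [138, 158, 154, 181, 238, 134]), (0, 5, [144, 122, 160,
    131, 183, 127]), (0, 5, [149, 154, 129, 223, 187, 213, 135]), (0, 5, [126, 125, 158, 142, 183, 132]), (0, 2,
    [159, 144, 209, 168, 238, 125]), (0, 3, [185, 193, 128, 145, 132, 238, 125]), (0, 3, [135, 149, 136, 161, 129,
    221, 178, 226, 124]), (0, 5, [166, 168, 139, 146, 130, 218]), (0, 3, [141, 149, 136, 161, 128, 181, 238, 125]),
    (0, 3, [141, 171, 164, 183, 128, 159, 238, 125]), (0, 5, [144, 130, 154, 129, 177, 218]), (0, 5, [144, 130,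
    176, 129, 155, 218]), (0, 3, [152, 130, 158, 154, 203, 238, 140]), (0, 5, [178, 169, 173, 150, 205, 134, 203]),
    (0, 3, [143, 135, 161, 125, 221, 175, 226, 128]), (0, 5, [182, 159, 143, 122, 217]), (0, 3, [143, 135, 161,
    124, 181, 238, 129]), (0, 5, [142, 129, 155, 183]), (0, 6, [220, 168, 227, 138]), (0, 6, [214, 128, 185, 161,
    238, 159]), (0, 1, [126, 160, 135, 146, 132, 148, 206, 165, 239, 120]), (0, 2, [141, 168, 138, 185, 206, 131,
    239, 120]), (0, 2, [140, 126, 130, 123, 206, 165, 239, 120]), (0, 3, [184, 215, 129, 123, 239, 120]), (0, 2,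
    [141, 140, 152, 147, 123, 206, 165, 239, 120]), (0, 2, [141, 168, 174, 169, 123, 206, 137, 239, 120]), (0, 3,
    [180, 175, 184, 160, 239, 120]), (0, 3, [158, 153, 184, 182, 239, 120]), (0, 2, [151, 143, 141, 123, 206, 165,
    239, 120]), (0, 3, [184, 201, 129, 146, 123, 239, 120]), (0, 2, [140, 131, 123, 206, 165, 239, 120]), (0, 3,
    [184, 211, 129, 134, 123, 239, 120]), (0, 2, [146, 138, 149, 131, 206, 165, 239, 120]), (0, 3, [170, 136, 201,
    129, 146, 123, 239, 120]), (0, 3, [136, 180, 175, 184, 160, 239, 120]), (0, 3, [165, 147, 215, 129, 123, 239,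
    120]), (0, 2, [158, 123, 144, 206, 165, 239, 120]), (0, 3, [190, 185, 146, 132, 239, 120]), (0, 3, [148, 136,
    158, 153, 221, 181, 226]), (0, 5, [165, 168, 138, 146, 130, 218, 124]), (0, 3, [141, 148, 136, 158, 153, 182,
    239, 120]), (0, 3, [141, 170, 164, 180, 175, 160, 239, 120]), (0, 5, [143, 130, 153, 129, 177, 218, 124]), (0,
    5, [143, 130, 175, 129, 155, 218, 124]), (0, 2, [151, 123, 142, 141, 127, 206, 165, 239, 120]), (0, 3, [184,
    198, 125, 146, 127, 239, 120]), (0, 3, [137, 142, 135, 158, 153, 221, 181, 226]), (0, 5, [180, 156, 142, 125,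
    218, 124]), (0, 3, [142, 135, 158, 153, 182, 239, 120]), (0, 3, [137, 190, 185, 146, 132, 239, 120]), (0, 6,
    [206, 168, 228]), (0, 6, [168, 206, 125, 228]), (0, 2, [157, 123, 144, 212, 165, 238, 129]), (0, 3, [193, 188,
    145, 132, 238, 129]), (0, 3, [135, 151, 137, 159, 123, 221, 175, 226, 128]), (0, 5, [167, 138, 146, 131, 217]),
    (0, 3, [141, 151, 137, 161, 156, 181, 238, 129]), (0, 3, [141, 173, 165, 183, 178, 159, 238, 129]), (0, 5,
    [146, 131, 161, 123, 180, 217]), (0, 5, [146, 131, 183, 123, 158, 217]), (0, 3, [147, 148, 157, 153, 203, 238,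
    140]), (0, 5, [172, 149, 210, 134, 203]), (0, 3, [136, 140, 157, 153, 221, 171, 226, 133]), (0, 5, [167, 138,
    200, 146, 213]), (0, 3, [142, 143, 140, 157, 153, 181, 238, 134]), (0, 5, [146, 160, 131, 183, 127]), (0, 5,
    [151, 161, 127, 223, 187, 213, 135]), (0, 5, [129, 123, 158, 142, 183, 132]), (0, 2, [161, 146, 205, 165, 238,
    122]), (0, 3, [141, 187, 189, 128, 146, 133, 238, 122]), (0, 3, [135, 151, 136, 157, 128, 220, 181, 226, 121]),
    (0, 5, [167, 137, 146, 130, 218, 123]), (0, 3, [141, 151, 136, 157, 128, 183, 238, 122]), (0, 3, [141, 173,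
    164, 179, 128, 161, 238, 122]), (0, 5, [146, 130, 161, 126, 177, 218, 123]), (0, 5, [146, 130, 183, 126, 155,
    218, 123]), (0, 3, [151, 147, 120, 156, 127, 203, 238, 140]), (0, 5, [161, 182, 158, 218, 130, 203]), (0, 3,
    [145, 135, 153, 121, 221, 178, 226, 124]), (0, 5, [161, 182, 155, 142, 218]), (0, 3, [145, 135, 153, 122, 181,
    238, 125]), (0, 5, [144, 218, 177, 215, 181]), (0, 7, [146]), (0, 1000, [])]

theorem fus0 : fusOK chevE8 E8.tab (gen1 chevE8.nroots) (gen1 chevE8.nroots) Ys f0 = true := by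
  decide +kernel

theorem fus1 : fusOK chevE8 E8.tab (gen1 chevE8.nroots) (gen1 chevE8.nroots) Ys f1 = true := by
  decide +kernel

theorem fus2 : fusOK chevE8 E8.tab (gen1 chevE8.nroots) (gen1 chevE8.nroots) Ys f2 = true := by
  decide +kernel

theorem fus3 : fusOK chevE8 E8.tab (gen1 chevE8.nroots) (gen1 chevE8.nroots) Ys f3 = true := by
  decide +kernel

theorem fus4 : fusOK chevE8 E8.tab (gen1 chevE8.nroots) (gen1 chevE8.nroots) Ys f4 = true := by
  decide +kernel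

theorem fus5 : fusOK chevE8 E8.tab (gen1 chevE8.nroots) (gen1 chevE8.nroots) Ys f5 = true := by
  decide +kernel

theorem fus6 : fusOK chevE8 E8.tab (gen1 chevE8.nroots) (gen1 chevE8.nroots) Ys f6 = true := by
  decide +kernel

theorem fus7 : fusOK chevE8 E8.tab (gen1 chevE8.nroots) (gen1 chevE8.nroots) Ys f7 = true := by
  decide +kernel

theorem fus8 : fusOK chevE8 E8.tab (gen1 chevE8.nroots) (gen1 chevE8.nroots) Ys f8 = true := by
  decide +kernel

theorem hfus : ∀ e ∈ fs, fusOK chevE8 E8.tab (gen1 chevE8.nroots) (gen1 chevE8.nroots) Ys e = true := by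
  simp only [fs, List.forall_mem_cons, List.not_mem_nil, false_imp_iff, implies_true, and_true]
  exact ⟨fus0, fus1, fus2, fus3, fus4, fus5, fus6, fus7, fus8⟩

theorem hk : allLt (2 ^ chevE8.rank) (fun k => chkK chevE8 E8.tab (fun c => (fs.map Prod.fst).getD c [])
    (gen1 chevE8.nroots) (fun _ => (0, 0)) k (certs.getD k (2, 0, []))) = true := by
  decide +kernel

theorem hD : IsChev chevE8 := by simp

variable {F : Type*} [Field F] [Fintype F] [CharP F 2]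

theorem fix0 : fixOK chevE8 E8.tab f8.1 [9277451035365114369, 9241421688590303745]
    9241984647133659394 9241703167861981442 90107245773456000 90107245773456000 128 1 190 = true := by
  decide +kernel

theorem rep0 : orderOf (xw (matRel hD F) [239]) = 2 ∧ fixc (xw (matRel hD F) [239]) = Nat.card F ^ 190 := by
  obtain ⟨inst⟩ := nonempty_chev hD
  obtain ⟨-, -, g, -, h⟩ := fus_of_fusOK (matRel hD F) E8.checked.agree (gen1_x hD) (gen1_n hD) fus8
  exact inv_of_fixOK hD E8.checked.agree fix0 (by decide) h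

theorem fix1 : fixOK chevE8 E8.tab f7.1 [9241703167870468609, 9277451035365114369, 9241421688590303745]
    9243110564220175874 9241984647133593860 90107245773488130 162164839811383680 384 2 156 = true := by
  decide +kernel

theorem rep1 : orderOf (xw (matRel hD F) [232, 233]) = 2 ∧ fixc (xw (matRel hD F) [232, 233]) = Nat.card F ^ 156 := by
  obtain ⟨inst⟩ := nonempty_chev hD
  obtain ⟨-, -, g, -, h⟩ := fus_of_fusOK (matRel hD F) E8.checked.agree (gen1_x hD) (gen1_n hD) fus7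
  exact inv_of_fixOK hD E8.checked.agree fix1 (by decide) h

theorem fix2 : fixOK chevE8 E8.tab f6.1 [9286457689161081601, 9241703167870468609, 9277451035365114369, 9241421688590303745]
    9223688790831531010 9225096152825856320 306247042546540547 306247042546540577 8396833 3 138 = true := by
  decide +kernel

theorem rep2 : orderOf (xw (matRel hD F) [228, 222, 218]) = 2 ∧ fixc (xw (matRel hD F) [228, 222, 218]) = Nat.card F ^ 138 := by
  obtain ⟨inst⟩ := nonempty_chev hD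
  obtain ⟨-, -, g, -, h⟩ := fus_of_fusOK (matRel hD F) E8.checked.agree (gen1_x hD) (gen1_n hD) fus6
  exact inv_of_fixOK hD E8.checked.agree fix2 (by decide) h

theorem fix3 : fixOK chevE8 E8.tab f5.1 [9286457856662702597, 9286457736403627553, 9244799439850472077, 9277451035365114369, 9241421688590303745]
    9225659039597330945 9226784947791987201 594479617612546080 162130756966025220 2149582852 4 128 = true := by
  decide +kernel

theorem rep3 : orderOf (xw (matRel hD F) [226, 220, 213, 216]) = 2 ∧ fixc (xw (matRel hD F) [226, 220, 213, 216]) = Nat.card F ^ 128 := by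
  obtain ⟨inst⟩ := nonempty_chev hD
  obtain ⟨-, -, g, -, h⟩ := fus_of_fusOK (matRel hD F) E8.checked.agree (gen1_x hD) (gen1_n hD) fus5
  exact inv_of_fixOK hD E8.checked.agree fix3 (by decide) h

theorem hval : ∀ y ∈ Ys, Val chevE8 y := by unfold Val; decide

theorem hmem : ∀ y ∈ Ys, xw (matRel hD F) y ∈ chevE8.group F ∧ orderOf (xw (matRel hD F) y) = 2 := by
  obtain ⟨inst⟩ := nonempty_chev hD
  intro y hy
  refine ⟨H38.mg_grp hD F ▸ xw_mem_grp hD (hval y hy), ?_⟩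
  simp only [Ys, List.mem_cons, List.not_mem_nil, or_false] at hy
  rcases hy with rfl | rfl | rfl | rfl
  exacts [rep0.1, rep1.1, rep2.1, rep3.1]

theorem hcov : ∀ t ∈ chevE8.group F, orderOf t = 2 →
    ∃ y ∈ Ys, ∃ g ∈ chevE8.group F, g * t * g⁻¹ = xw (matRel hD F) y := by
  obtain ⟨inst⟩ := nonempty_chev hD
  exact fun t ht h => cover_grp hD E8.checked.agree hval hfus (allLt_spec hk) ht h

theorem hfix : ∀ y ∈ Ys, fixc (xw (matRel hD F) y) = Nat.card F ^ [190, 156, 138, 128].getD (Ys.idxOf y) 0 := by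
  intro y hy
  simp only [Ys, List.mem_cons, List.not_mem_nil, or_false] at hy
  rcases hy with rfl | rfl | rfl | rfl
  exacts [rep0.2, rep1.2, rep2.2, rep3.2]

theorem hne : ∀ y ∈ Ys, ∀ y' ∈ Ys, ∀ g ∈ chevE8.group F,
    g * xw (matRel hD F) y * g⁻¹ = xw (matRel hD F) y' → y = y' := by
  intro y hy y' hy' g _ e
  have h := hfix (F := F) y' hy'
  rw [← e, fixc_conj, hfix y hy] at h
  have h' := Nat.pow_right_injective Finite.one_lt_card h
  clear h e
  revert y y'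
  decide

/-- Conjugacy classes of involutions in the Chevalley group of type E₈ over a finite field F of characteristic two (the matrix group generated by the root elements x_r(t)). In this problem's root numbering for type E₈ (the Chevalley data module; fundamental roots numbered so that p₁–p₃–p₄–p₅–p₆–p₇–p₈ is the long chain of the diagram and p₂ is joined to p₄; roots indexed by their coefficient vectors in increasing order) let r = 239 be the highest root (2,3,4,6,5,4,3,2), α = 232 = (2,2,4,5,4,3,2,1), β = 233 = (2,3,3,5,4,3,2,1), γ = 228 = (2,2,3,4,3,2,2,1), δ = 222 = (1,2,3,4,3,3,2,1), ε = 218 = (1,2,2,4,4,3,2,1), φ = 226 = (2,2,3,4,3,2,1,0), ψ = 220 = (1,2,3,4,3,2,1,1), θ = 213 = (1,2,2,3,3,3,2,1), ω = 216 = (1,2,2,4,3,2,2,1) (the roots within each of {α, β}, {γ, δ, ε}, {φ, ψ, θ, ω} pairwise orthogonal); consider x_r(1), x_α(1)x_β(1), x_γ(1)x_δ(1)x_ε(1) and x_φ(1)x_ψ(1)x_θ(1)x_ω(1). Then: each invertible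 matrix equal to one of these four products lies in the group and has order 2; every element of order 2 of the group is conjugate in the group to one of them; and no two of them are conjugate in the group (so, the four matrices being distinct, the group has exactly four conjugacy classes of involutions). -/
theorem result {F : Type*} [Field F] [Fintype F] [CharP F 2] :
    (∀ y : GL Cfsg.Lie.chevE8.Idx F, ((y : GL Cfsg.Lie.chevE8.Idx F) : Matrix Cfsg.Lie.chevE8.Idx Cfsg.Lie.chevE8.Idx F) ∈ [Cfsg.Lie.chevE8.x F 239 1, Cfsg.Lie.chevE8.x F 232 1 * Cfsg.Lie.chevE8.x F 233 1, Cfsg.Lie.chevE8.x F 228 1 * Cfsg.Lie.chevE8.x F 222 1 * Cfsg.Lie.chevE8.x F 218 1, Cfsg.Lie.chevE8.x F 226 1 * Cfsg.Lie.chevE8.x F 220 1 * Cfsg.Lie.chevE8.x F 213 1 * Cfsg.Lie.chevE8.x F 216 1] → y ∈ Cfsg.Lie.chevE8.group F ∧ orderOf y = 2) ∧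
    (∀ g ∈ Cfsg.Lie.chevE8.group F, orderOf g = 2 → ∃ y ∈ Cfsg.Lie.chevE8.group F, ((y : GL Cfsg.Lie.chevE8.Idx F) : Matrix Cfsg.Lie.chevE8.Idx Cfsg.Lie.chevE8.Idx F) ∈ [Cfsg.Lie.chevE8.x F 239 1, Cfsg.Lie.chevE8.x F 232 1 * Cfsg.Lie.chevE8.x F 233 1, Cfsg.Lie.chevE8.x F 228 1 * Cfsg.Lie.chevE8.x F 222 1 * Cfsg.Lie.chevE8.x F 218 1, Cfsg.Lie.chevE8.x F 226 1 * Cfsg.Lie.chevE8.x F 220 1 * Cfsg.Lie.chevE8.x F 213 1 * Cfsg.Lie.chevE8.x F 216 1] ∧ ∃ h ∈ Cfsg.Lie.chevE8.group F, h * g * h⁻¹ = y) ∧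
    (∀ y₁ ∈ Cfsg.Lie.chevE8.group F, ∀ y₂ ∈ Cfsg.Lie.chevE8.group F, ((y₁ : GL Cfsg.Lie.chevE8.Idx F) : Matrix Cfsg.Lie.chevE8.Idx Cfsg.Lie.chevE8.Idx F) ∈ [Cfsg.Lie.chevE8.x F 239 1, Cfsg.Lie.chevE8.x F 232 1 * Cfsg.Lie.chevE8.x F 233 1, Cfsg.Lie.chevE8.x F 228 1 * Cfsg.Lie.chevE8.x F 222 1 * Cfsg.Lie.chevE8.x F 218 1, Cfsg.Lie.chevE8.x F 226 1 * Cfsg.Lie.chevE8.x F 220 1 * Cfsg.Lie.chevE8.x F 213 1 * Cfsg.Lie.chevE8.x F 216 1] → ((y₂ : GL Cfsg.Lie.chevE8.Idx F) : Matrix Cfsg.Lie.chevE8.Idx Cfsg.Lie.chevE8.Idx F) ∈ [Cfsg.Lie.chevE8.x F 239 1, Cfsg.Lie.chevE8.x F 232 1 * Cfsg.Lie.chevE8.x F 233 1, Cfsg.Lie.chevE8.x F 228 1 * Cfsg.Lie.chevE8.x F 222 1 * Cfsg.Lie.chevE8.x F 218 1, Cfsg.Lie.chevE8.x F 226 1 * Cfsg.Lie.chevE8.x F 220 1 * Cfsg.Lie.chevE8.x F 213 1 * Cfsg.Lie.chevE8.x F 216 1] →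
      (∃ h ∈ Cfsg.Lie.chevE8.group F, h * y₁ * h⁻¹ = y₂) → ((y₁ : GL Cfsg.Lie.chevE8.Idx F) : Matrix Cfsg.Lie.chevE8.Idx Cfsg.Lie.chevE8.Idx F) = ((y₂ : GL Cfsg.Lie.chevE8.Idx F) : Matrix Cfsg.Lie.chevE8.Idx Cfsg.Lie.chevE8.Idx F)) := by
  exact three_parts hD (by simp [Ys, mul_assoc]) hmem hcov hne

end Cfsg.Agent.S2176
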