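import Cfsg.Statements.S2189
import Cfsg.Agent.H33.SubH

set_option autoImplicit false
open Cfsg

namespace Cfsg.Agent.S2189

/-- Finite subgroups of an adjoint Chevalley group over an algebraically closed field that contain the group over a finite subfield. Let k be an algebraically closed field of prime characteristic p, G the Chevalley group of type G₂, B₂, D₄, F₄, E₆, E₇ or E₈ over k (the matrix group generated by the root elements x_s(t), t ∈ k), and q = p^a with a ≥ 1. Let L be the subgroup generated by the root elements x_s(t) with t^q = t (the Chevalley group over the field of q elements inside G), and let M be a finite subgroup of G containing L. Then for some r ≥ 1, M contains every root element x_s(t) with t^(q^r) = t and every element of M is a matrix all of whose entries c satisfy c^(q^r) = c (so M lies between the Chevalley group over the field with q^r elements and the group of points of G fixed by the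 q^r-th power map). -/
theorem result {k : Type*} [Field k] [IsAlgClosed k] (p : ℕ) [Fact p.Prime] [CharP k p] (D : Cfsg.Lie.ChevalleyDatum) (hD : D ∈ [Cfsg.Lie.chevG2, Cfsg.Lie.chevB2, Cfsg.Lie.chevD4, Cfsg.Lie.chevF4, Cfsg.Lie.chevE6, Cfsg.Lie.chevE7, Cfsg.Lie.chevE8]) (a : ℕ) (ha : 1 ≤ a) (M : Subgroup (GL D.Idx k)) (hMfin : Finite ↥M) (hMG : M ≤ D.group k)
    (hLM : Subgroup.closure {g : GL D.Idx k | ∃ (s : ℕ) (t : k), t ^ (p ^ a) = t ∧ (g : Matrix D.Idx D.Idx k) = D.x k s t} ≤ M) :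
    ∃ r : ℕ, 1 ≤ r ∧ Subgroup.closure {g : GL D.Idx k | ∃ (s : ℕ) (t : k), t ^ ((p ^ a) ^ r) = t ∧ (g : Matrix D.Idx D.Idx k) = D.x k s t} ≤ M ∧
      ∀ g ∈ M, ∀ i j : D.Idx, ((g : Matrix D.Idx D.Idx k) i j) ^ ((p ^ a) ^ r) = (g : Matrix D.Idx D.Idx k) i j := by
  obtain ⟨_⟩ := H37.nonempty_chev hD
  have hp : p.Prime := Fact.out
  have hx : ∀ r t, t ^ p ^ a = t → (H37.matRel hD k).x r t ∈ M := fun r t ht =>
    hLM (Subgroup.subset_closure ⟨r, t, ht, rfl⟩)
  have hdvd : ∀ {K : Type _} [Monoid K] {m n : ℕ} {t : K}, m ∣ n → t ^ p ^ m = t → t ^ p ^ n = t := fun h ht =>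
    (H33.pow_pow_iff p _ _).1 (((H33.pow_pow_iff p _ _).2 ht).trans_dvd h)
  obtain ⟨n, hn, han, hn'⟩ : ∃ n, n ≠ 0 ∧ a ∣ n ∧ ∀ m, 0 < m → p ^ m ≤ Nat.card M → m ∣ n :=
    ⟨a * (Nat.card M).factorial, by positivity, dvd_mul_right _ _, fun m hm h =>
      (Nat.dvd_factorial hm ((Nat.lt_pow_self hp.one_lt).le.trans h)).mul_left a⟩
  let F₀ := (iterateFrobenius k p n).eqLocusField (RingHom.id k)
  have : Finite F₀ := Nat.finite_of_card_ne_zero ((H37.card_pow_eq_self k p hn).trans_ne (pow_pos hp.pos n).ne')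
  obtain ⟨T, hT, hMT⟩ := H33.exists_params hD hMG
  obtain ⟨F, _, _, j, Γ, h1, h2, h3⟩ := H33.exists_spec F₀ (hT.union (Set.finite_range
    fun z : M × D.Idx × D.Idx => (z.1.1.1 z.2.1 z.2.2 ^ p ^ n - z.1.1.1 z.2.1 z.2.2)⁻¹))
  have : CharP F p := j.charP j.injective p
  have h4 : ∀ {t t' t''}, (t, t') ∈ Γ → (t, t'') ∈ Γ → t' = t'' := fun h h' =>
    sub_eq_zero.1 (h1 _ (by simpa using sub_mem h h'))
  have h5 : ∀ g ∈ M, ∃ g', (g, g') ∈ H33.relG Γ D := fun g hg => by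
    obtain ⟨z, hz, rfl⟩ : g ∈ (H33.relG Γ D).map (MonoidHom.fst _ _) := (Subgroup.closure_le _).2 (by
      rintro _ ⟨r, hr, t, ht, rfl⟩
      obtain ⟨t', ht'⟩ := h2 t (Or.inl ht)
      exact ⟨_, H33.x_mem_relG hD ht' hr, rfl⟩) (hMT hg)
    exact ⟨z.2, hz⟩
  let M' := (H33.relG Γ D ⊓ M.comap (MonoidHom.fst _ _)).map (MonoidHom.snd _ _)
  have h6 : ∀ r < D.nroots, ∀ t t', t ^ p ^ a = t → (t, t') ∈ Γ → (H33.ss F hD).x r t' ∈ M' := fun r hr t t' ht h =>
    ⟨_, ⟨H33.x_mem_relG hD h hr, hx r t ht⟩, rfl⟩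
  obtain ⟨m, hm, h7, h8, h9, h10⟩ := H33.fin_over p hD (M := M') fun r hr t ht => by
    have h7 : j t ^ p ^ 1 = j t := by rw [pow_one, ← map_pow]; exact congrArg j ht
    obtain ⟨t', h8, h9⟩ := h3 (j t) (hdvd (one_dvd n) h7)
    exact h6 r hr _ _ (hdvd (one_dvd a) h7) (j.injective h9 ▸ h8)
  have hmn : m ∣ n := hn' m hm (h7.trans (by
    choose f hf using fun g : M => h5 g g.2
    refine Nat.card_le_card_of_surjective (fun g : M => (⟨f g, _, ⟨hf g, g.2⟩, rfl⟩ : M')) ?_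
    rintro ⟨_, z, ⟨hz, hz'⟩, rfl⟩
    exact ⟨⟨z.1, hz'⟩, Subtype.ext (Subtype.ext (Units.ext (Matrix.ext fun i j => h4 ((hf _).1 i j) (hz.1 i j))))⟩))
  have h11 : ∀ g ∈ M, ∀ g', (g, g') ∈ H33.relG Γ D → ∀ i l, g.1 i l = j (g'.1.1 i l) := fun g hg g' h i l => by
    have h11 := hdvd hmn (h10 g' ⟨_, ⟨h, hg⟩, rfl⟩ i l)
    have h14 : g.1 i l ^ p ^ n = g.1 i l := by_contra fun h12 => by
      obtain ⟨z, hz⟩ := h2 _ (Or.inr ⟨(⟨g, hg⟩, i, l), rfl⟩)
      have := mul_mem (sub_mem (pow_mem (h.1 i l) (p ^ n)) (h.1 i l)) hz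
      simp only [Prod.pow_mk, Prod.mk_sub_mk, Prod.mk_mul_mk, h11, sub_self, zero_mul] at this
      rw [mul_inv_cancel₀ (sub_ne_zero.2 h12)] at this
      exact zero_ne_one (h4 this (one_mem Γ))
    obtain ⟨t', h12, h13⟩ := h3 (g.1 i l) h14
    rw [← h13, h4 h12 (h.1 i l)]
  obtain ⟨r, rfl⟩ : a ∣ m := by
    have h12 : Nat.card {t : k // iterateFrobenius k p a t = t} ≤
        Nat.card {t : k // iterateFrobenius k p (a.gcd m) t = t} := by
      have : Finite {t : k // iterateFrobenius k p (a.gcd m) t = t} := Nat.finite_of_card_ne_zero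
        ((H37.card_pow_eq_self k p (Nat.gcd_pos_of_pos_right a hm).ne').trans_ne (pow_pos hp.pos _).ne')
      refine Nat.card_le_card_of_injective (fun t => ⟨t.1, ?_⟩) fun _ _ e => Subtype.ext (Subtype.mk.inj e)
      obtain ⟨t', h12, h13⟩ := h3 t (hdvd han t.2)
      refine (H33.pow_pow_iff p _ _).1 (((H33.pow_pow_iff p _ _).2 t.2).gcd ((H33.pow_pow_iff p _ _).2 ?_))
      rw [← h13, ← map_pow, h8 t' (h6 _ (H64.top D).2 _ _ t.2 h12)]
    rw [H37.card_pow_eq_self k p (by omega), H37.card_pow_eq_self k p (Nat.gcd_pos_of_pos_right a hm).ne',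
      Nat.pow_le_pow_iff_right hp.one_lt] at h12
    exact Nat.gcd_eq_left_iff_dvd.1 (le_antisymm (Nat.gcd_le_left _ ha) h12)
  refine ⟨r, Nat.pos_of_mul_pos_left hm, (Subgroup.closure_le _).2 ?_, fun g hg i l => ?_⟩
  · rintro g ⟨s, t, ht, e⟩
    by_cases hs : s < D.nroots
    · rw [← pow_mul] at ht
      obtain ⟨t', -, rfl⟩ := h3 t (hdvd hmn ht)
      obtain ⟨z, ⟨hz, hz'⟩, e'⟩ := h9 s hs t' (j.injective (by rw [map_pow, ht]))
      have : g = z.1 := Units.ext (e.trans (Matrix.ext fun i l => by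
        rw [h11 z.1 hz' z.2 hz, show z.2 = _ from e', ← H39.x_map]; rfl))
      exact this ▸ hz'
    · rw [show g = 1 from Units.ext (by rw [e, Lie.ChevalleyDatum.x, dif_neg hs]; rfl)]
      exact one_mem _
  · obtain ⟨g', h⟩ := h5 g hg
    rw [h11 g hg g' h, ← map_pow, ← pow_mul, h10 g' ⟨_, ⟨h, hg⟩, rfl⟩]

end Cfsg.Agent.S2189
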