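import Cfsg.Statements.S2190
import Cfsg.Agent.H33.SubCh

set_option autoImplicit false
open Cfsg

namespace Cfsg.Agent.S2190

/-- Subfield subgroups of prime degree are maximal. Let K be a finite field with q^r elements, r a prime, q a power of the characteristic, and G the Chevalley group of type G₂, B₂, D₄, F₄, E₆, E₇ or E₈ over K (the matrix group generated by the root elements). Let M be the subgroup of G consisting of the matrices all of whose entries lie in the subfield with q elements (entries c with c^q = c). Then M is a proper subgroup of G and is maximal: every subgroup of G containing M is M or G. -/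
theorem result {K : Type*} [Field K] [Fintype K] (p : ℕ) [Fact p.Prime] [CharP K p] (D : Cfsg.Lie.ChevalleyDatum) (hD : D ∈ [Cfsg.Lie.chevG2, Cfsg.Lie.chevB2, Cfsg.Lie.chevD4, Cfsg.Lie.chevF4, Cfsg.Lie.chevE6, Cfsg.Lie.chevE7, Cfsg.Lie.chevE8]) (a r : ℕ) (ha : 1 ≤ a) (hr : r.Prime) (hK : Fintype.card K = (p ^ a) ^ r) (M : Subgroup (GL D.Idx K))
    (hM : ∀ g : GL D.Idx K, g ∈ M ↔ g ∈ D.group K ∧ ∀ i j : D.Idx, ((g : Matrix D.Idx D.Idx K) i j) ^ (p ^ a) = (g : Matrix D.Idx D.Idx K) i j) :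
    M ≠ D.group K ∧ ∀ H : Subgroup (GL D.Idx K), M ≤ H → H ≤ D.group K → H = M ∨ H = D.group K := by
  have hq : IsPrimePow (p ^ a) := (Fact.out : p.Prime).isPrimePow.pow (by omega)
  obtain ⟨φ, hφ⟩ := H40.exists_frob hq hK
  have h1 : ∃ t, φ t ≠ t := by simpa [hφ] using H33.exists_frob_ne hq hr.two_le hK
  have hR := H33.subring_eq_top hr h1 (H40.frob_iter_self hK hφ)
  obtain ⟨_⟩ := H37.nonempty_chev hD
  obtain ⟨l, hl, hl'⟩ := H33.exists_fieldAut hD φ
  simp only [hφ] at hl'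
  have hX := H33.ss_faithful K hD
  have hG := H33.ss_grp K hD
  have hP := H38.rs_conn hD
  have hZ := H33.grp_center K hD
  refine H33.max_of_sub le_rfl hM ?_ fun H _ h0 => ?_
  · obtain ⟨t, ht⟩ := h1
    exact ⟨_, ((H33.ss K hD).x (H64.top D) t).2, fun h =>
      ht (hX.x_inj (H64.top D) ((hl _ (H64.top D).2 t).symm.trans ((hl' _).2 h)))⟩
  replace h0 : ∀ g, l g = g → g ∈ H := fun g hg => h0 g g.2 ((hl' g).1 hg)
  suffices h : (∀ g ∈ H, l g = g) ∨ H = ⊤ from h.imp (fun h g hg => (hl' g).1 (h g hg)) fun h => le_top.trans h.ge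
  simp only [List.mem_cons, List.not_mem_nil, or_false] at hD
  rcases hD with rfl | rfl | rfl | rfl | rfl | rfl | rfl
  exacts [H33.ch_max_G2 hl h0 hR hX hG p hP hZ,
    H33.ch_max_B2 hl h0 hR hX hG p hP hZ H33.allOK_B2 h1 rfl H33.good_B2 H33.good_B2',
    H33.ch_max_ring hl h0 hR hX hG p hP hZ H33.allOK_D4 (by simp) rfl H33.good_D4,
    H33.ch_max_B2 hl h0 hR hX hG p hP hZ H33.allOK_F4 h1 rfl H33.good_F4 H33.good_F4',
    H33.ch_max_ring hl h0 hR hX hG p hP hZ H33.allOK_E6 (by simp) rfl H33.good_E6,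
    H33.ch_max_ring hl h0 hR hX hG p hP hZ H33.allOK_E7 (by simp) rfl H33.good_E7,
    H33.ch_max_ring hl h0 hR hX hG p hP hZ H33.allOK_E8 (by simp) rfl H33.good_E8]

end Cfsg.Agent.S2190
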