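import Cfsg.Statements.S2191
import Cfsg.Agent.H33.SubTwM

set_option autoImplicit false
open Cfsg

namespace Cfsg.Agent.S2191

/-- In the twisted group ²E₆(q), realised inside the Chevalley group of type E₆ over the field K with q² elements (q a power of the characteristic) as the subgroup generated by the root elements, and products of root elements, that the twisting map fixes, the subgroup of matrices all of whose entries lie in the subfield with q elements (entries c with c^q = c; it contains the subgroup of type F₄ over that subfield) is a proper maximal subgroup. -/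
theorem result {K : Type*} [Field K] [Fintype K] (p : ℕ) [Fact p.Prime] [CharP K p] (q : ℕ) (hq : ∃ a : ℕ, 1 ≤ a ∧ q = p ^ a) (hK : Fintype.card K = q ^ 2) (M : Subgroup (GL Cfsg.Lie.chevE6.Idx K))
    (hM : ∀ g : GL Cfsg.Lie.chevE6.Idx K, g ∈ M ↔ g ∈ Cfsg.Lie.twistedE6 K q ∧ ∀ i j : Cfsg.Lie.chevE6.Idx, ((g : Matrix Cfsg.Lie.chevE6.Idx Cfsg.Lie.chevE6.Idx K) i j) ^ q = (g : Matrix Cfsg.Lie.chevE6.Idx Cfsg.Lie.chevE6.Idx K) i j) :
    M ≠ Cfsg.Lie.twistedE6 K q ∧ ∀ H : Subgroup (GL Cfsg.Lie.chevE6.Idx K), M ≤ H → H ≤ Cfsg.Lie.twistedE6 K q → H = M ∨ H = Cfsg.Lie.twistedE6 K q := by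
  obtain ⟨a, ha, rfl⟩ := hq
  have hq : IsPrimePow (p ^ a) := (Fact.out : p.Prime).isPrimePow.pow (by omega)
  obtain ⟨φ, hφ⟩ := H40.exists_frob hq hK
  have h1 : ∃ t, φ t ≠ t := by simpa [hφ] using H33.exists_frob_ne hq le_rfl hK
  have h2 := H40.frob_iter_self hK hφ
  have := H40.chE6
  obtain ⟨T, hT⟩ := H33.exists_twR (H40.TE φ) (H40.TE_e φ) two_pos h1 h2 (by decide +kernel)
    (show Equiv.Perm (Fin 6) from Equiv.swap 0 5 * Equiv.swap 2 4) (by decide +kernel) (by decide +kernel)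
  rw [← H40.Fix_E6 h2 hφ] at hM ⊢
  simp only [← hφ] at hM
  refine H33.tw_max H40.isChev_E6 (s₀ := ⟨68, by decide⟩) p (H40.TE φ) (H40.TE_e φ) Nat.prime_two T hT h1 H33.twTab_E6
    (by decide +kernel) H40.orbE6
    (fun j => if j = 2 then [0, 5, 2, 4, 3, 2, 4, 0, 5, 1, 3] else [0, 5, 2, 4, 3, 2, 4, 1, 3, 2, 4])
    (fun j => if j = 2 then [0, 5, 2, 4, 3, 2, 4, 0, 5, 1, 3, 2, 4] else [0, 5, 2, 4, 3, 2, 4, 1, 3, 2, 4, 0, 5])
    (by decide +kernel) (H40.Fix_le_G0_E6 h2) (fun A e _ _ h => ⟨by simp, fun M h0 _ t ht ht' => ?_⟩) hM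
  subst e
  refine H33.top_of_span (H33.subring_eq_top Nat.prime_two h1 h2) ht' (s := {1, t}) (by simp) (fun B hB hs => ?_)
    (H33.parA_mul H40.isChev_E6 H33.twTab_E6 h h0) (by
      rintro _ (rfl | rfl)
      exacts [h.mem_parA h0 (map_one _), ht])
  have h3 : A.l.φ (A.l.φ t) = t := h2 t
  rintro x (rfl | e)
  · simpa using hs (Or.inr rfl)
  · rw [show x = t from e]
    convert sub_mem (hB (t + A.l.φ t) (by simp [h3, add_comm]) t (hs (Or.inr rfl)))
      (hB (t * A.l.φ t) (by simp [h3, mul_comm]) 1 (hs (Or.inl rfl))) using 1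
    ring

end Cfsg.Agent.S2191
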