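import Cfsg.Statements.S2192
import Cfsg.Agent.H33.SubD4

set_option autoImplicit false
open Cfsg

namespace Cfsg.Agent.S2192

/-- In the twisted group ³D₄(q), realised inside the Chevalley group of type D₄ over the field K with q³ elements (q a power of the characteristic) as the subgroup generated by the root elements, and products of root elements, that the twisting map fixes, the subgroup of matrices all of whose entries lie in the subfield with q elements (it contains the subgroup of type G₂ over that subfield) is a proper maximal subgroup. -/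
theorem result {K : Type*} [Field K] [Fintype K] (p : ℕ) [Fact p.Prime] [CharP K p] (q : ℕ) (hq : ∃ a : ℕ, 1 ≤ a ∧ q = p ^ a) (hK : Fintype.card K = q ^ 3) (M : Subgroup (GL Cfsg.Lie.chevD4.Idx K))
    (hM : ∀ g : GL Cfsg.Lie.chevD4.Idx K, g ∈ M ↔ g ∈ Cfsg.Lie.twistedD4 K q ∧ ∀ i j : Cfsg.Lie.chevD4.Idx, ((g : Matrix Cfsg.Lie.chevD4.Idx Cfsg.Lie.chevD4.Idx K) i j) ^ q = (g : Matrix Cfsg.Lie.chevD4.Idx Cfsg.Lie.chevD4.Idx K) i j) :
    M ≠ Cfsg.Lie.twistedD4 K q ∧ ∀ H : Subgroup (GL Cfsg.Lie.chevD4.Idx K), M ≤ H → H ≤ Cfsg.Lie.twistedD4 K q → H = M ∨ H = Cfsg.Lie.twistedD4 K q := by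
  obtain ⟨a, ha, rfl⟩ := hq
  have hq : IsPrimePow (p ^ a) := (Fact.out : p.Prime).isPrimePow.pow (by omega)
  obtain ⟨φ, hφ⟩ := H40.exists_frob hq hK
  have h1 : ∃ t, φ t ≠ t := by simpa [hφ] using H33.exists_frob_ne hq (by omega) hK
  have h2 := H40.frob_iter_self hK hφ
  letI := H40.chD4
  obtain ⟨T, hT⟩ := H33.exists_twR (H40.TD φ) (H40.TD_e φ) three_pos h1 h2 (by decide +kernel)
    (show Equiv.Perm (Fin 4) from Equiv.swap 0 2 * Equiv.swap 2 3) (by decide +kernel) (by decide +kernel)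
  rw [← H40.Fix_D4 h2 hφ] at hM ⊢
  simp only [← hφ] at hM
  refine H33.tw_max H40.isChev_D4 (s₀ := ⟨17, by decide⟩) p (H40.TD φ) (H40.TD_e φ) Nat.prime_three T hT h1
    H33.twTab_D4 (by decide +kernel) H40.orbD4 (fun _ => [0, 2, 3, 1]) (fun _ => [0, 2, 3, 1, 0, 2, 3])
    (by decide +kernel) (H40.Fix_le_G0_D4 h2) (fun A e hμ hρ h => ?_) hM
  subst e
  have hX := H33.ss_faithful K H40.isChev_D4
  have h4 : ∀ t, A.l.φ (A.l.φ (A.l.φ t)) = t := h2
  refine ⟨H33.good_D4_tw hX hμ hρ h h4, fun M h0 h3 t ht ht' => ?_⟩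
  refine H33.top_of_span (H33.subring_eq_top Nat.prime_three h1 h2) ht' (s := {1, t, A.l.φ t * A.l.φ (A.l.φ t)})
    (by simp) (fun B hB hs => ?_) (H33.parA_mul H40.isChev_D4 H33.twTab_D4 h h0) (Set.insert_subset (h.mem_parA h0 (map_one _))
      (Set.insert_subset ht (Set.singleton_subset_iff.2 (H33.quad_D4 hX hμ hρ h h4 h0 h3 ht))))
  have h5 := hs (Or.inl rfl)
  have h6 := hs (Or.inr (Or.inl rfl))
  rintro x (rfl | e | e)
  · simpa using h6
  · rw [show x = t from e]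
    convert add_mem (sub_mem (hB (t + A.l.φ t + A.l.φ (A.l.φ t)) (by simp only [map_add, h4]; ring) t h6)
      (hB (t * A.l.φ t + A.l.φ t * A.l.φ (A.l.φ t) + A.l.φ (A.l.φ t) * t) (by simp only [map_add, map_mul, h4]; ring)
        1 h5)) (hs (Or.inr (Or.inr rfl))) using 1
    ring
  · rw [show x = A.l.φ t * A.l.φ (A.l.φ t) from e]
    simpa using hB (t * (A.l.φ t * A.l.φ (A.l.φ t))) (by simp only [map_mul, h4]; ring) 1 h5

end Cfsg.Agent.S2192
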