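import Cfsg.Statements.S2268

set_option autoImplicit false
open Cfsg

namespace Cfsg.Agent.S2268

theorem exists_mem_smul_eq {G : Type*} [Group G] [Finite G] {p : ℕ} [Fact p.Prime]
    (P Q : Sylow p G) (K : Subgroup G) (hP : (P : Subgroup G) ≤ K) (hQ : (Q : Subgroup G) ≤ K) :
    ∃ k ∈ K, k • P = Q := by
  obtain ⟨k, hk⟩ := MulAction.exists_smul_eq K (P.subtype hP) (Q.subtype hQ)
  rw [Sylow.smul_subtype] at hk
  exact ⟨k, k.2, Sylow.subtype_injective hk⟩

theorem centralizer_le_normalizer {G : Type*} [Group G] (Q : Subgroup G) :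
    Subgroup.centralizer (Q : Set G) ≤ Subgroup.normalizer (Q : Set G) := by
  intro c hc
  rw [Subgroup.mem_centralizer_iff] at hc
  rw [Subgroup.mem_normalizer_iff]
  intro h
  constructor
  · intro hh
    have := hc h hh
    rw [← this]; simpa using hh
  · intro hh
    have := hc _ hh
    have h2 : c * h * c⁻¹ = h := by
      have h3 : c * (c * h * c⁻¹) = c * h := by rw [← this]; group
      exact mul_left_cancel h3
    rw [← h2]; exact hh

theorem conj_mem_centralizer {G : Type*} [Group G] (Q : Subgroup G) {g c : G}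
    (hg : g ∈ Subgroup.normalizer (Q : Set G)) (hc : c ∈ Subgroup.centralizer (Q : Set G)) :
    g * c * g⁻¹ ∈ Subgroup.centralizer (Q : Set G) := by
  rw [Subgroup.mem_centralizer_iff] at hc ⊢
  intro h hh
  have h1 : g⁻¹ * h * g ∈ Q := by
    have := (Subgroup.mem_normalizer_iff.1 ((Subgroup.normalizer (Q : Set G)).inv_mem hg) h).1 hh
    simpa using this
  have h2 := hc _ h1
  calc h * (g * c * g⁻¹) = g * (g⁻¹ * h * g * c) * g⁻¹ := by group
    _ = g * (c * (g⁻¹ * h * g)) * g⁻¹ := by rw [h2]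
    _ = g * c * g⁻¹ * h := by group

/-- Let G be a finite group with an abelian Sylow p-subgroup P and let Q ≤ P. Then N_G(Q) = (N_G(Q) ∩ N_G(P))·C_G(Q), so that N_G(Q)/C_G(Q) is a homomorphic image of the subgroup (N_G(Q) ∩ N_G(P))/C_G(P) of N_G(P)/C_G(P); in particular the order of N_G(Q)/C_G(Q) divides the order of N_G(P)/C_G(P). -/
theorem result {G : Type*} [Group G] [Finite G] {p : ℕ} [Fact p.Prime]
    (P : Sylow p G) (hP : IsMulCommutative (P : Subgroup G)) (Q : Subgroup G) (hQ : Q ≤ (P : Subgroup G)) :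
    Subgroup.normalizer (Q : Set G) =
      (Subgroup.normalizer (Q : Set G) ⊓ Subgroup.normalizer ((P : Subgroup G) : Set G)) ⊔ Subgroup.centralizer (Q : Set G) ∧
    ((Subgroup.centralizer (Q : Set G)).subgroupOf (Subgroup.normalizer (Q : Set G))).index ∣ ((Subgroup.centralizer ((P : Subgroup G) : Set G)).subgroupOf (Subgroup.normalizer ((P : Subgroup G) : Set G))).index := by
  have hPC : (P : Subgroup G) ≤ Subgroup.centralizer (Q : Set G) := by
    intro x hx
    rw [Subgroup.mem_centralizer_iff]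
    intro h hh
    exact congrArg Subtype.val (hP.is_comm.comm ⟨h, hQ hh⟩ ⟨x, hx⟩)
  have h1 : Subgroup.normalizer (Q : Set G) =
      (Subgroup.normalizer (Q : Set G) ⊓ Subgroup.normalizer ((P : Subgroup G) : Set G)) ⊔ Subgroup.centralizer (Q : Set G) := by
    refine le_antisymm ?_ (sup_le inf_le_left (centralizer_le_normalizer Q))
    intro g hg
    have hgP : ((g • P : Sylow p G) : Subgroup G) ≤ Subgroup.centralizer (Q : Set G) := by
      rw [Sylow.coe_subgroup_smul]
      rintro _ ⟨x, hx, rfl⟩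
      exact conj_mem_centralizer Q hg (hPC hx)
    obtain ⟨c, hc, hcP⟩ := exists_mem_smul_eq P (g • P) _ hPC hgP
    have h2 : (c⁻¹ * g) • P = P := by rw [mul_smul, ← hcP, inv_smul_smul]
    rw [Sylow.smul_eq_iff_mem_normalizer] at h2
    have h3 : g = c * (c⁻¹ * g) := by group
    rw [h3]
    refine Subgroup.mul_mem _ (Subgroup.mem_sup_right hc) (Subgroup.mem_sup_left ⟨?_, h2⟩)
    exact Subgroup.mul_mem _ (Subgroup.inv_mem _ (centralizer_le_normalizer Q hc)) hg
  refine ⟨h1, ?_⟩
  set NQ := Subgroup.normalizer (Q : Set G) with hNQ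
  set NP := Subgroup.normalizer ((P : Subgroup G) : Set G) with hNP
  set CQ := Subgroup.centralizer (Q : Set G) with hCQ
  set CP := Subgroup.centralizer ((P : Subgroup G) : Set G) with hCP
  have hCPQ : CP ≤ CQ := Subgroup.centralizer_le hQ
  have hCN : CQ ≤ NQ := centralizer_le_normalizer Q
  have hn : (CQ.subgroupOf NQ).Normal := ⟨fun c hc g => by
    rw [Subgroup.mem_subgroupOf] at hc ⊢
    exact conj_mem_centralizer Q g.2 hc⟩
  have h4 : (NQ ⊓ NP).subgroupOf NQ ⊔ CQ.subgroupOf NQ = ⊤ := by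
    rw [← Subgroup.subgroupOf_sup inf_le_left hCN, ← h1, Subgroup.subgroupOf_self]
  have h5 : (CQ.subgroupOf NQ).index = CQ.relIndex (NQ ⊓ NP) := by
    rw [← Subgroup.relIndex_top_right, ← h4, Subgroup.relIndex_sup_right,
      Subgroup.relIndex_subgroupOf inf_le_left]
  rw [h5]
  refine (Subgroup.relIndex_dvd_of_le_left _ hCPQ).trans ?_
  have h6 := Subgroup.relIndex_mul_relIndex CP (NQ ⊓ NP) NP
    (le_inf (hCPQ.trans hCN) (centralizer_le_normalizer _)) inf_le_right
  exact Dvd.intro _ h6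

end Cfsg.Agent.S2268
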