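import Cfsg.Statements.S2222
import Cfsg.Agent.H64.AltSylow
import Cfsg.Agent.S2268

set_option autoImplicit false
open Cfsg

namespace Cfsg.Agent.S2222

open Cfsg.Agent.H64 Equiv Equiv.Perm

theorem exists_sylow_le {G : Type*} [Group G] [Finite G] {p : ℕ} [Fact p.Prime] (H : Subgroup G)
    (hH : ¬ p ∣ H.index) : ∃ R : Sylow p G, (R : Subgroup G) ≤ H := by
  obtain ⟨S⟩ : Nonempty (Sylow p H) := inferInstance
  have h1 : IsPGroup p ((S : Subgroup H).map H.subtype) := S.isPGroup'.map _
  have h2 : ¬ p ∣ ((S : Subgroup H).map H.subtype).index := by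
    rw [Subgroup.index_map_subtype]
    intro h
    rcases (Fact.out : p.Prime).dvd_mul.1 h with h | h
    · exact S.not_dvd_index h
    · exact hH h
  exact ⟨h1.toSylow h2, Subgroup.map_subtype_le _⟩

theorem pronormal_of {G : Type*} [Group G] [Finite G] {p : ℕ} [Fact p.Prime] (H : Subgroup G)
    (R : Sylow p G) (hR : (R : Subgroup G) ≤ H)
    (hN : Subgroup.normalizer (R : Set G) ≤ Subgroup.normalizer (H : Set G)) :
    Cfsg.IsPronormal H := by
  intro g
  have h1 : ((g • R : Sylow p G) : Subgroup G) ≤ H.map (MulAut.conj g).toMonoidHom := by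
    rw [Sylow.coe_subgroup_smul]
    rintro _ ⟨x, hx, rfl⟩
    exact ⟨x, hR hx, rfl⟩
  obtain ⟨k, hk, hkR⟩ := Cfsg.Agent.S2268.exists_mem_smul_eq R (g • R)
    (H ⊔ H.map (MulAut.conj g).toMonoidHom) (hR.trans le_sup_left) (h1.trans le_sup_right)
  refine ⟨k, hk, ?_⟩
  have h2 : (k⁻¹ * g) • R = R := by rw [mul_smul, ← hkR, inv_smul_smul]
  rw [Sylow.smul_eq_iff_mem_normalizer] at h2
  have h3 := Subgroup.mem_normalizer_iff.1 (hN h2)
  have h4 := Subgroup.mem_normalizer_iff.1 (Subgroup.inv_mem _ (hN h2))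
  ext y
  constructor
  · rintro ⟨x, hx, rfl⟩
    refine ⟨_, (h3 x).1 hx, ?_⟩
    simp [mul_assoc]
  · rintro ⟨x, hx, rfl⟩
    refine ⟨_, (h4 x).1 hx, ?_⟩
    simp [mul_assoc]

theorem five (R : Sylow 2 (alternatingGroup (Fin 5))) (H : Subgroup (alternatingGroup (Fin 5)))
    (hR : (R : Subgroup _) ≤ H) :
    Subgroup.normalizer (R : Set (alternatingGroup (Fin 5))) ≤
      Subgroup.normalizer (H : Set (alternatingGroup (Fin 5))) := by
  obtain ⟨Q, hQ⟩ := R.exists_comap_subtype_eq
  have hRQ : ∀ g : alternatingGroup (Fin 5), g ∈ R ↔ (g : Perm (Fin 5)) ∈ Q := fun g => by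
    rw [← SetLike.mem_coe, ← R.coe_coe, ← hQ]; rfl
  obtain ⟨z, h1, h2, h3⟩ := sylow_pow_add_one (k := 2) le_rfl (by simp) Q
  rcases h3 (H.map (alternatingGroup (Fin 5)).subtype)
    (fun g hg hg' => ⟨⟨g, hg'⟩, hR ((hRQ _).2 hg), rfl⟩) with h4 | h4
  · set S := MulAction.stabilizer (alternatingGroup (Fin 5)) z with hS
    have hHS : H ≤ S := fun g hg => h4 _ ⟨g, hg, rfl⟩
    have hNS : Subgroup.normalizer (R : Set (alternatingGroup (Fin 5))) ≤ S := by
      intro g hg
      by_contra hne
      have h5 : (g : Perm (Fin 5)) z ≠ z := hne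
      obtain ⟨b, hb⟩ := exists_not_mem_list [z, (g : Perm (Fin 5)) z] (by simp)
      simp only [List.mem_cons, List.not_mem_nil, or_false, not_or] at hb
      obtain ⟨q, hq, hq', h6⟩ := h2 _ b h5 hb.1
      have h7 := (Subgroup.mem_set_normalizer_iff.1 (Subgroup.inv_mem _ hg) ⟨q, hq'⟩).1
        ((hRQ _).2 hq)
      have h8 := h1 _ ((hRQ _).1 h7)
      simp only [inv_inv, Subgroup.coe_mul, InvMemClass.coe_inv, Perm.mul_apply] at h8
      rw [h6] at h8
      apply hb.2
      rw [← h8]; simp
    have hcard : Nat.card (alternatingGroup (Fin 5)) = 60 := by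
      rw [nat_card_alternatingGroup]; simp; decide
    have hRi : (R : Subgroup (alternatingGroup (Fin 5))).index = 15 := by
      have h5 := R.card_eq_multiplicity
      have h6 := (R : Subgroup (alternatingGroup (Fin 5))).card_mul_index
      rw [hcard] at h5 h6
      have h7 : (60 : ℕ).factorization 2 = 2 := by
        rw [Nat.factorization_def _ Nat.prime_two]; decide +kernel
      rw [h7] at h5
      change Nat.card (R : Subgroup (alternatingGroup (Fin 5))) = _ at h5
      rw [h5] at h6
      omega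
    have hSi : S.index = 5 := by
      have := alternatingGroup.isPretransitive_of_three_le_card (α := Fin 5) (by simp)
      rw [hS, MulAction.index_stabilizer_of_transitive]; simp
    have e1 := Subgroup.relIndex_mul_index (hR.trans hHS)
    have e2 := Subgroup.relIndex_mul_relIndex _ _ _ hR hHS
    rw [hSi, hRi] at e1
    have e3 : (R : Subgroup (alternatingGroup (Fin 5))).relIndex S = 3 := by omega
    rw [e3] at e2
    rcases (Nat.prime_three.eq_one_or_self_of_dvd _ (Dvd.intro _ e2)) with h | h
    · have : H = R := le_antisymm (Subgroup.relIndex_eq_one.1 h) hR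
      rw [this]; exact le_rfl
    · rw [h] at e2
      have h' : H.relIndex S = 1 := by omega
      exact hNS.trans ((Subgroup.relIndex_eq_one.1 h').trans Subgroup.le_normalizer)
  · have : H = ⊤ := by
      rw [eq_top_iff]
      intro g _
      obtain ⟨y, hy, hy'⟩ := h4 g.2
      rwa [← Subtype.ext hy']
    rw [this, Subgroup.normalizer_eq_top]; exact le_top

/-- Every subgroup of odd index in the alternating group of degree at least five is pronormal. -/
theorem result (n : ℕ) (hn : 5 ≤ n)
    (H : Subgroup (alternatingGroup (Fin n))) (hH : Odd H.index) : Cfsg.IsPronormal H := by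
  obtain ⟨R, hR⟩ := exists_sylow_le (p := 2) H (by rcases hH with ⟨k, hk⟩; omega)
  refine pronormal_of H R hR ?_
  rcases hn.eq_or_lt with rfl | h
  · exact five R H hR
  · exact (alt_sylow_normalizer_le (by simp; omega) R).trans (hR.trans Subgroup.le_normalizer)

end Cfsg.Agent.S2222
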