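import Cfsg.Statements.S2228
import Cfsg.Agent.SGJ2.Cor
import Cfsg.Agent.SGJ2.ModJ3

set_option autoImplicit false
open Cfsg

namespace Cfsg.Agent.S2228

/-- Let G be a finite simple group in which all involutions are conjugate and the centralizer of an involution has a normal extraspecial subgroup of order 32 complemented by a subgroup isomorphic to the alternating group of degree 5 (a group of J₃-type). Then a Sylow 19-subgroup of G is self-centralizing with normalizer-quotient cyclic of order 9, and a Sylow 17-subgroup is self-centralizing with normalizer-quotient cyclic of order 8. -/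
theorem result {G : Type*} [Group G] [Finite G] [IsSimpleGroup G]
    (hone : ∀ x y : G, orderOf x = 2 → orderOf y = 2 → IsConj x y)
    (t : G) (ht : orderOf t = 2) (E A : Subgroup ↥(Subgroup.centralizer ({t} : Set G))) [E.Normal]
    (hE : Cfsg.IsExtraspecial 2 ↥E) (hE32 : Nat.card ↥E = 32) (hEA : E.IsComplement' A)
    (eA : ↥A ≃* ↥(alternatingGroup (Fin 5))) :
    (∀ X : Sylow 19 G, Subgroup.centralizer ((X : Subgroup G) : Set G) = X ∧
        ∃ h : ((X : Subgroup G).subgroupOf (Subgroup.normalizer ((X : Subgroup G) : Set G))).Normal,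
          IsCyclic (↥(Subgroup.normalizer ((X : Subgroup G) : Set G)) ⧸ (X : Subgroup G).subgroupOf _) ∧
          Nat.card (↥(Subgroup.normalizer ((X : Subgroup G) : Set G)) ⧸ (X : Subgroup G).subgroupOf _) = 9) ∧
    (∀ Y : Sylow 17 G, Subgroup.centralizer ((Y : Subgroup G) : Set G) = Y ∧
        ∃ h : ((Y : Subgroup G).subgroupOf (Subgroup.normalizer ((Y : Subgroup G) : Set G))).Normal,
          IsCyclic (↥(Subgroup.normalizer ((Y : Subgroup G) : Set G)) ⧸ (Y : Subgroup G).subgroupOf _) ∧
          Nat.card (↥(Subgroup.normalizer ((Y : Subgroup G) : Set G)) ⧸ (Y : Subgroup G).subgroupOf _) = 8) := by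
  have e : (Subgroup.centralizer ({t} : Set G)) ⧸ E ≃* alternatingGroup (Fin 5) :=
    hEA.symm.QuotientMulEquiv.trans eA
  have h := H88.JJ.Hyp.iso3 (H88.JJ.red_simple ht E hE32 hE e) hone
  have hc := H88.JJ.card_of_iso3 h
  obtain ⟨F, _, _, ω, h1, h2, ⟨φ⟩⟩ := h
  have tr : ∀ g a : G, φ a ∈ Subgroup.zpowers (φ g) → a ∈ Subgroup.zpowers g :=
    fun g a ⟨n, hn⟩ => ⟨n, φ.injective ((map_zpow φ g n).trans hn)⟩
  have : Fact (Nat.Prime 19) := ⟨by norm_num⟩
  have : Fact (Nat.Prime 17) := ⟨by norm_num⟩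
  refine ⟨H88.JJ.sylow_prime (m := 2643840) hc (by norm_num) (fun g a hg k => tr g a
      (H88.JJ.J3_cent19 h1 h2 (by rw [φ.orderOf_eq, hg]) (by rw [← map_mul, k, map_mul]))) ?_,
    H88.JJ.sylow_prime (m := 2954880) hc (by norm_num) (fun g a hg k => tr g a
      (H88.JJ.J3_cent17 h1 h2 (by rw [φ.orderOf_eq, hg]) (by rw [← map_mul, k, map_mul]))) ?_⟩ <;>
    intro d h1 _ h2 <;> have := Nat.le_of_dvd (by norm_num) h1 <;> interval_cases d <;> omega

end Cfsg.Agent.S2228
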