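import Cfsg.Statements.S2232
import Cfsg.Agent.S1953
import Cfsg.Agent.H51.GoldB
import Cfsg.Agent.H21.QuadPair
-- import your own Cfsg.Agent.* helpers here

set_option autoImplicit false
open Cfsg

namespace Cfsg.Agent.S2232

section
open Subgroup Matrix H10 H51

variable {F : Type*} [Field F] [Fintype F] {q : ℕ} [hF : Fact (Fintype.card F = q ^ 2)]
  {p : ℕ} [hp : Fact p.Prime] [CharP F p]

local notation "𝐡" => hermForm 3 F q

omit [Fintype F] hF in
theorem eq_one_of_pow {c : F} {i : ℕ} (h : c ^ p ^ i = 1) : c = 1 := by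
  have h1 : (c - 1) ^ p ^ i = 0 := by rw [sub_pow_char_pow, h, one_pow, sub_self]
  exact sub_eq_zero.1 (pow_eq_zero_iff (pow_pos hp.out.pos i).ne' |>.1 h1)

theorem uniV_of_elt {v : Fin 3 → F} (hv : 𝐡 v v = 0) (hv0 : v ≠ 0) {a : SU 3 F q} {c : F}
    (hc : a • v = c • v) {i : ℕ} (hi : a ^ p ^ i = 1) : UniV v a := by
  have h1 : ∀ n : ℕ, (a ^ n) • v = c ^ n • v := by
    intro n
    induction n with
    | zero => simp
    | succ n ih => rw [pow_succ', mul_smul, ih, su_smul_smul, hc, smul_smul, pow_succ]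
  have hc1 : c = 1 := by
    refine eq_one_of_pow (i := i) (smul_left_injective F hv0 ?_)
    change c ^ p ^ i • v = (1 : F) • v
    rw [← h1, hi, one_smul, one_smul]
  rw [hc1, one_smul] at hc
  obtain ⟨w, hwv, hww, hw⟩ := exists_perp_basis hv hv0
  obtain ⟨α, β, hα⟩ := hw (a • w) (by
    have := su_herm a w v
    rwa [hc, hwv] at this)
  have h2 : ∀ n : ℕ, ∃ γ : F, (a ^ n) • w = α ^ n • w + γ • v := by
    intro n
    induction n with
    | zero => exact ⟨0, by simp⟩
    | succ n ih =>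
      obtain ⟨γ, hγ⟩ := ih
      refine ⟨α ^ n * β + γ, ?_⟩
      rw [pow_succ', mul_smul, hγ, su_smul_add, su_smul_smul, su_smul_smul, hα, hc, pow_succ]
      module
  have hα1 : α = 1 := by
    obtain ⟨γ, hγ⟩ := h2 (p ^ i)
    rw [hi, one_smul] at hγ
    have h3 := congrArg (fun x => 𝐡 x w) hγ
    simp only [herm_add_left, herm_smul_left, herm_swap_zero hwv, mul_zero, add_zero] at h3
    exact eq_one_of_pow (i := i) (mul_right_cancel₀ hww (by rw [← h3, one_mul]))
  refine ⟨hc, fun x hx => ?_⟩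
  obtain ⟨s, t, rfl⟩ := hw x hx
  refine ⟨s * β, ?_⟩
  rw [su_smul_add, su_smul_smul, su_smul_smul, hα, hc, hα1]
  module

theorem uniV_pow (hp2 : p ≠ 2) {v : Fin 3 → F} {g : SU 3 F q} (hg : UniV v g) : g ^ p = 1 := by
  set M : Matrix (Fin 3) (Fin 3) F := g.1.1 with hM
  have hs : ∀ x, (M - 1) *ᵥ x = g • x - x := fun x => by rw [sub_mulVec, one_mulVec]; rfl
  have h1 : (M - 1) ^ 3 = 0 := by
    rw [Matrix.ext_iff_mulVec]
    intro x
    obtain ⟨c, hc⟩ := hg.2 (g • x - x) (by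
      have := su_herm g x v
      rw [hg.1] at this
      rw [herm_sub_left, this, sub_self])
    rw [pow_three, ← mulVec_mulVec, ← mulVec_mulVec, hs x, hs (g • x - x), hc, add_sub_cancel_left, hs,
      su_smul_smul, hg.1, sub_self, zero_mulVec]
  have h2 : 3 ≤ p := by have := hp.out.two_le; omega
  have h3 := sub_pow_char_of_commute p (Commute.one_right M)
  rw [pow_eq_zero_of_le h2 h1, one_pow, eq_comm, sub_eq_zero] at h3
  exact Subtype.ext (Subtype.ext (by simpa using h3))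

theorem exists_axis {T : Subgroup (SU 3 F q)} (hT : IsPGroup p T) (hT1 : T ≠ ⊥) :
    ∃ v : Fin 3 → F, v ≠ 0 ∧ 𝐡 v v = 0 ∧ ∀ g ∈ normalizer (T : Set (SU 3 F q)), ∃ c : F,
      g • v = c • v := by
  let U : AddSubgroup (Fin 3 → F) :=
    { carrier := {x | ∀ w, (∀ t ∈ T, t • w = w) → 𝐡 x w = 0}
      zero_mem' := fun w _ => by simp [hermForm]
      add_mem' := fun ha hb w hw => by rw [herm_add_left, ha w hw, hb w hw, add_zero]
      neg_mem' := fun {a} ha w hw => by
        rw [← neg_one_smul F a, herm_smul_left, ha w hw, mul_zero] }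
  have hfix : ∀ g ∈ normalizer (T : Set (SU 3 F q)), ∀ w : Fin 3 → F, (∀ t ∈ T, t • w = w) →
      ∀ t ∈ T, t • g • w = g • w := fun g hg w hw t ht => by
    conv_rhs => rw [← hw _ (H72.conj_mem_of_mem_normalizer' hg ht)]
    rw [← mul_smul, ← mul_smul, ← mul_assoc, mul_inv_cancel_left]
  have hU : ∀ g ∈ normalizer (T : Set (SU 3 F q)), ∀ x ∈ U, g • x ∈ U := fun g hg x hx w hw => by
    rw [← hx _ (hfix g⁻¹ (inv_mem hg) w hw), ← su_herm g x, smul_inv_smul]
  letI : MulAction T U :=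
    { smul := fun t x => ⟨(t : SU 3 F q) • (x : Fin 3 → F), hU _ (le_normalizer t.2) _ x.2⟩
      one_smul := fun x => Subtype.ext (one_smul (SU 3 F q) (x : Fin 3 → F))
      mul_smul := fun a b x => Subtype.ext (mul_smul (a : SU 3 F q) (b : SU 3 F q) (x : Fin 3 → F)) }
  obtain ⟨t, ht, ht1⟩ := (bot_or_exists_ne_one T).resolve_left hT1
  obtain ⟨x, hx⟩ : ∃ x : Fin 3 → F, t • x ≠ x := by
    by_contra h
    push Not at h
    exact ht1 (SU_ext fun x => (h x).trans (one_mulVec x).symm)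
  have hxU : t • x - x ∈ U := fun w hw => by
    rw [herm_sub_left, ← su_herm t x w, hw t ht, sub_self]
  obtain ⟨v, hv, hv0⟩ := hT.exists_fixed_point_of_prime_dvd_card_of_fixed_point U (a := 0) (by
      rw [← addOrderOf_eq_prime (p := p) (x := (⟨_, hxU⟩ : U)) (Subtype.ext (by
        change p • (t • x - x) = 0
        rw [← Nat.cast_smul_eq_nsmul F, CharP.cast_eq_zero, zero_smul]))
        (fun h => hx (sub_eq_zero.mp (congrArg Subtype.val h)))]
      exact addOrderOf_dvd_natCard _)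
    (fun t => Subtype.ext (mulVec_zero (t : SU 3 F q).1.1))
  have hvT : ∀ t ∈ T, t • (v : Fin 3 → F) = v := fun t ht => congrArg Subtype.val (hv ⟨t, ht⟩)
  have hv0' : (v : Fin 3 → F) ≠ 0 := fun h => hv0 (Subtype.ext h).symm
  exact ⟨v, hv0', v.2 _ hvT, fun g hg => iso_orth_smul (v.2 _ hvT) hv0'
    (by rw [su_herm]; exact v.2 _ hvT) (hU g hg _ v.2 _ hvT)⟩

theorem not_involves (hp2 : p ≠ 2) : ¬ Involves (qd p) (SU 3 F q) := by
  refine S1953.not_involves ?_
  rintro Q hQ ⟨H, K, _, h1, h2, h3, ⟨e⟩⟩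
  set ρ := e.toMonoidHom.comp (QuotientGroup.mk' (K.subgroupOf H)) with hρ
  have hρs : Function.Surjective ρ := e.surjective.comp (QuotientGroup.mk'_surjective _)
  apply H60.upperT_one_notMem_pCore hp2
  by_cases hQ1 : Q = ⊥
  · obtain ⟨x, hx⟩ := hρs (H21.upperT 1)
    have : QuotientGroup.mk' (K.subgroupOf H) x = 1 := (QuotientGroup.eq_one_iff _).mpr
      (h1 (by simp [hQ1, mem_centralizer_iff]))
    rw [← hx, hρ, MonoidHom.comp_apply, this, map_one]
    exact one_mem _
  obtain ⟨v, hv0, hv, h⟩ := exists_axis hQ hQ1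
  have hU : ∀ a : H, ∀ i : ℕ, a ^ p ^ i = 1 → UniV v (a : SU 3 F q) := fun a i hi => by
    obtain ⟨c, hc⟩ := h a (h3 a.2)
    exact uniV_of_elt hv hv0 hc (congrArg Subtype.val hi)
  let U : Subgroup H :=
    { carrier := {a | a ^ p = 1}
      one_mem' := one_pow p
      mul_mem' := fun {a b} ha hb => Subtype.ext (uniV_pow hp2
        ((hU a 1 (by rwa [pow_one])).mul (hU b 1 (by rwa [pow_one]))))
      inv_mem' := fun {a} ha => by
        change a⁻¹ ^ p = 1
        rw [inv_pow, show a ^ p = 1 from ha, inv_one] }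
  have hUn : U.Normal := ⟨fun a ha g => by
    change (g * a * g⁻¹) ^ p = 1
    rw [conj_pow, show a ^ p = 1 from ha]; simp⟩
  refine H22.le_pCore (hUn.map ρ hρs) (IsPGroup.map (fun a => ⟨1, Subtype.ext (by
    rw [pow_one]; exact a.2)⟩) ρ) ?_
  obtain ⟨P, -, hP, hPm⟩ := H22.exists_isPGroup_map_eq ρ (H := ⊤)
    (Q := zpowers (H21.upperT (1 : ZMod p))) (by
      rintro ⟨_, m, rfl⟩
      refine ⟨1, Subtype.ext ?_⟩
      change (_ ^ m) ^ p ^ 1 = 1
      rw [← zpow_natCast, ← _root_.zpow_mul, mul_comm, _root_.zpow_mul, zpow_natCast, pow_one,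
        H21.upperT_pow]
      simp [H21.upperT_zero])
    (by rw [← MonoidHom.range_eq_map, MonoidHom.range_eq_top.mpr hρs]; exact le_top)
  obtain ⟨a, ha, ha'⟩ := hPm.ge (mem_zpowers _)
  obtain ⟨i, hi⟩ := hP ⟨a, ha⟩
  exact ⟨a, Subtype.ext (uniV_pow hp2 (hU a i (congrArg Subtype.val hi))), ha'⟩

end

/-- Let p be an odd prime, q a power of p and K a finite field with q² elements. Then Qd(p) (the natural semidirect product of an elementary abelian group of order p² by SL₂(p)) is not involved in the projective special unitary group PSU₃(q) realised over K. -/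
theorem result {p : ℕ} [Fact p.Prime] (hp : p ≠ 2) {K : Type*} [Field K] [Fintype K] [CharP K p] (n : ℕ) (hn : 1 ≤ n) (hK : Fintype.card K = (p ^ n) ^ 2) : ¬ Cfsg.Involves ↥(Cfsg.qd p) (Cfsg.PSU 3 K (p ^ n)) := by
  haveI : Fact (Fintype.card K = (p ^ n) ^ 2) := ⟨hK⟩
  exact fun h => not_involves hp
    (H60.involves_of_surjective _ (QuotientGroup.mk'_surjective _) h)

end Cfsg.Agent.S2232
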