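import Cfsg.Statements.S2247
import Cfsg.Agent.H13.SzInst
import Cfsg.Agent.H13.SzSylow

set_option autoImplicit false
open Cfsg

namespace Cfsg.Agent.S2247

open Cfsg.Agent.H13
set_option linter.style.haveILetI false

/-- In the Suzuki group with q = 2^(2m+1), m ≥ 1 (realised as the stabiliser in SL₄ of the Suzuki–Tits ovoid), the normalizer of a Sylow 2-subgroup P is a maximal subgroup and is the only maximal subgroup containing P. -/
theorem result {F : Type*} [Field F] [Fintype F] {m : ℕ} (hm : 1 ≤ m) (hF : Fintype.card F = 2 ^ (2 * m + 1)) (P : Sylow 2 ↥(Cfsg.Sz F m)) :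
    IsCoatom (Subgroup.normalizer ((P : Subgroup ↥(Cfsg.Sz F m)) : Set ↥(Cfsg.Sz F m))) ∧
    ∀ M : Subgroup ↥(Cfsg.Sz F m), IsCoatom M → (P : Subgroup ↥(Cfsg.Sz F m)) ≤ M → M = Subgroup.normalizer ((P : Subgroup ↥(Cfsg.Sz F m)) : Set ↥(Cfsg.Sz F m)) := by
  letI := titsOfCard hF
  have hy := exists_sq_ne (two_lt_card hm hF)
  obtain ⟨k, hk⟩ := (ovoidModel (titsOfCard_θ hF) hy).exists_conj_U P
  set M := (ovoidModel (titsOfCard_θ hF) hy).conj k
  rw [hk, M.normalizer_U]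
  refine ⟨M.isCoatom_B hy, fun K hK hU => ?_⟩
  by_cases h : K ≤ M.B
  · exact (hK.le_iff_eq M.B_ne_top).1 h |>.symm
  · exact absurd (M.eq_top_of_U_le hy K hU h) hK.1

end Cfsg.Agent.S2247
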