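import Cfsg.Statements.S2257
import Cfsg.Agent.H93.L2Sol

set_option autoImplicit false
open Cfsg

namespace Cfsg.Agent.S2257

open Cfsg.Agent.H28 Cfsg.Agent.H93.L2

/-- Let G = PSL_2(F) with F a field of order q = 2^p, p prime, and for x ∈ G call the solubilizer of x the set of y ∈ G such that x and y generate a solvable subgroup. Then the solubilizer of an involution has 3q(q − 1) elements; that of a non-identity element of order dividing q − 1 has 2q(q − 1) elements; and that of a non-identity element of order dividing q + 1 has 2(q + 1) elements. -/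
theorem result (p : ℕ) (hp : p.Prime) {F : Type*} [Field F] [Fintype F]
    (hF : Fintype.card F = 2 ^ p) (x : Matrix.ProjectiveSpecialLinearGroup (Fin 2) F) :
    (orderOf x = 2 → Nat.card {y : Matrix.ProjectiveSpecialLinearGroup (Fin 2) F // Group.IsSolvable ↥(Subgroup.closure ({x, y} : Set (Matrix.ProjectiveSpecialLinearGroup (Fin 2) F)))} = 3 * 2 ^ p * (2 ^ p - 1)) ∧
    (x ≠ 1 → orderOf x ∣ 2 ^ p - 1 → Nat.card {y : Matrix.ProjectiveSpecialLinearGroup (Fin 2) F // Group.IsSolvable ↥(Subgroup.closure ({x, y} : Set (Matrix.ProjectiveSpecialLinearGroup (Fin 2) F)))} = 2 * 2 ^ p * (2 ^ p - 1)) ∧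
    (x ≠ 1 → orderOf x ∣ 2 ^ p + 1 → Nat.card {y : Matrix.ProjectiveSpecialLinearGroup (Fin 2) F // Group.IsSolvable ↥(Subgroup.closure ({x, y} : Set (Matrix.ProjectiveSpecialLinearGroup (Fin 2) F)))} = 2 * (2 ^ p + 1)) := by
  classical
  have : Fact (Nat.Prime 2) := ⟨Nat.prime_two⟩
  have : CharP F 2 := charP_of_card_eq_prime_pow hF
  rw [← Nat.card_eq_fintype_card] at hF
  have h4 : 4 ≤ Nat.card F := hF ▸ Nat.pow_le_pow_right (n := 2) two_pos hp.two_le
  have he : Nat.card F % 2 = 0 := Nat.mod_eq_zero_of_dvd (char_dvd_card (F := F) 2)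
  have hg : Nat.gcd 2 (Nat.card F - 1) = 1 := ((gcd_cases (by omega)).resolve_left (by omega)).2
  have hd := card_of_range_eq pslInc_injective (range_pslInc (F := F))
  change (_ → (Sol x).ncard = _) ∧ (_ → _ → (Sol x).ncard = _) ∧ (_ → _ → (Sol x).ncard = _)
  rw [← hF]
  have hodd : ∀ n, x ≠ 1 → orderOf x ∣ n → n % 2 = 1 → x ^ 2 ≠ 1 ∧ orderOf x % 2 = 1 ∧
      orderOf x ≠ 1 := fun n h1 h2 h3 => by
    have h5 : orderOf x % 2 = 1 := Nat.odd_iff.1 ((Nat.odd_iff.2 h3).of_dvd_nat h2)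
    refine ⟨fun e => ?_, h5, by simpa using h1⟩
    have := orderOf_eq_prime e h1
    omega
  have hco : ∀ m, m ∣ Nat.card F - 1 → m ∣ Nat.card F + 1 → m % 2 = 1 → m = 1 := fun m h1 h2 h3 => by
    have := Nat.dvd_sub h2 h1
    rw [show Nat.card F + 1 - (Nat.card F - 1) = 2 by omega] at this
    rcases (Nat.dvd_prime Nat.prime_two).1 this with h | h <;> omega
  refine ⟨fun h => ?_, fun h1 h => ?_, fun h1 h => ?_⟩
  · have h1 : x ≠ 1 := by rintro rfl; simp at h
    have h2 : x ^ 2 = 1 := orderOf_dvd_iff_pow_eq_one.1 h.dvd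
    have h2' : x * x = 1 := by rwa [← sq]
    obtain ⟨a, ha⟩ := exists_fix_of_pow_char 2 (g := pslInc F x) (by rw [← map_pow, h2, map_one])
    have hC : ∀ y, x * y = y * x → y ∈ stab (pslInc F) a := fun y hy =>
      torN_le_stab pslInc_injective 2 h2 h1 ha (mem_torN.2 (Or.inl (by rw [← hy]; simp)))
    have : Sol x = {y | y ∈ stab (pslInc F) a ∨ y * y = 1 ∨ (x * y) * (x * y) = 1} := by
      ext y
      constructor
      · intro hy
        rcases sol_cases 2 hp hF (Or.inl rfl) hy with ⟨z, h3, h4⟩ | ⟨T, n, ⟨e⟩, -, h3, h4⟩ | ⟨h3, -⟩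
        · obtain rfl : z = a := by
            by_contra hne
            exact h1 ((map_eq_one_iff _ pslInc_injective).1
              (pgl_uni 2 _ _ _ (by rw [← map_pow, h2, map_one]) hne h3 ha))
          exact Or.inl h4
        · exact (dih_cases e h3 h4).imp_left (hC y)
        · omega
      · rintro (hy | hy | hy)
        · exact mem_sol_of_le (solvable_stab pslInc_injective 2 a) ha hy
        · exact mem_sol_of_inv h2' hy
        · exact mem_sol_of_mul (mem_sol_of_inv h2' hy)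
    obtain ⟨t, rfl⟩ := exists_smul_infty a
    have h5 := ncard_pre (S := {g | g * g = 1 ∧ g • (OnePoint.infty : OnePoint F) ≠ OnePoint.infty ∧ True})
      (by rw [pslIn_eq_top he]; exact Set.subset_univ _) t
    rw [ncard_invo (fun _ => True) fun _ _ => Iff.rfl] at h5
    have h6 := card_stab range_pslInc.ge hd (t • OnePoint.infty)
    rw [hg, one_mul] at h6
    rw [this, ncard_union_inv h2' ha hC, h6]
    simp only [Set.mem_ofPred_eq, and_true, ← sq, conj_pow_eq_one, mul_smul, Ne, inv_smul_eq_iff,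
      Set.ofPred_true, Set.ncard_univ, Nat.card_prod, Nat.card_units] at h5
    simp only [mem_stab, ← sq, h5]
    ring
  · obtain ⟨h2, h3, h5⟩ := hodd _ h1 h (by omega)
    obtain ⟨n, h6, ⟨-, h7⟩ | ⟨h7, -⟩⟩ := ncard_sol_tame 2 hp hF (Or.inl rfl) (by rwa [← sq]) h2 <;>
      rw [hg, one_mul] at h7
    · rw [h7, mul_assoc]
    · exact absurd (hco _ h (h7 ▸ h6) h3) h5
  · obtain ⟨h2, h3, h5⟩ := hodd _ h1 h (by omega)
    obtain ⟨n, h6, ⟨h7, -⟩ | ⟨h7, h8⟩⟩ := ncard_sol_tame 2 hp hF (Or.inl rfl) (by rwa [← sq]) h2 <;>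
      rw [hg, one_mul] at h7
    · exact absurd (hco _ (by rwa [← h7, Nat.add_sub_cancel]) h h3) h5
    · rw [h8, h7]

end Cfsg.Agent.S2257
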