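import Cfsg.Statements.S2258
import Cfsg.Agent.H93.L2Sol

set_option autoImplicit false
open Cfsg

namespace Cfsg.Agent.S2258

open Cfsg.Agent.H28 Cfsg.Agent.H93.L2

/-- Let G = PSL_2(F) with F a field of order q = 3^p, p an odd prime, and for x ∈ G call the solubilizer of x the set of y ∈ G such that x and y generate a solvable subgroup. Then the solubilizer of an involution has q(q + 1) elements; that of an element of order 3 has q(q + 5)/2 elements; that of an element of order neither 1 nor 2 dividing q − 1 has q(q − 1) elements; and that of an element of order neither 1 nor 2 dividing q + 1 has q + 1 elements. -/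
theorem result (p : ℕ) (hp : p.Prime) (hodd : Odd p) {F : Type*} [Field F] [Fintype F]
    (hF : Fintype.card F = 3 ^ p) (x : Matrix.ProjectiveSpecialLinearGroup (Fin 2) F) :
    (orderOf x = 2 → Nat.card {y : Matrix.ProjectiveSpecialLinearGroup (Fin 2) F // Group.IsSolvable ↥(Subgroup.closure ({x, y} : Set (Matrix.ProjectiveSpecialLinearGroup (Fin 2) F)))} = 3 ^ p * (3 ^ p + 1)) ∧
    (orderOf x = 3 → 2 * Nat.card {y : Matrix.ProjectiveSpecialLinearGroup (Fin 2) F // Group.IsSolvable ↥(Subgroup.closure ({x, y} : Set (Matrix.ProjectiveSpecialLinearGroup (Fin 2) F)))} = 3 ^ p * (3 ^ p + 5)) ∧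
    (x ≠ 1 → orderOf x ≠ 2 → orderOf x ∣ 3 ^ p - 1 → Nat.card {y : Matrix.ProjectiveSpecialLinearGroup (Fin 2) F // Group.IsSolvable ↥(Subgroup.closure ({x, y} : Set (Matrix.ProjectiveSpecialLinearGroup (Fin 2) F)))} = 3 ^ p * (3 ^ p - 1)) ∧
    (x ≠ 1 → orderOf x ≠ 2 → orderOf x ∣ 3 ^ p + 1 → Nat.card {y : Matrix.ProjectiveSpecialLinearGroup (Fin 2) F // Group.IsSolvable ↥(Subgroup.closure ({x, y} : Set (Matrix.ProjectiveSpecialLinearGroup (Fin 2) F)))} = 3 ^ p + 1) := by
  classical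
  have : Fact (Nat.Prime 3) := ⟨Nat.prime_three⟩
  have : CharP F 3 := charP_of_card_eq_prime_pow hF
  rw [← Nat.card_eq_fintype_card] at hF
  have h8 : Nat.card F % 8 = 3 := by
    obtain ⟨k, rfl⟩ := hodd
    rw [hF, pow_succ, pow_mul, Nat.mul_mod, Nat.pow_mod]
    norm_num
  have h2F := two_ne_zero_of (F := F) (by omega)
  have hg : Nat.gcd 2 (Nat.card F - 1) = 2 := ((gcd_cases (by omega)).resolve_right (by omega)).2
  have hd := card_of_range_eq pslInc_injective (range_pslInc (F := F))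
  have h3q := char_dvd_card (F := F) 3
  change (_ → (Sol x).ncard = _) ∧ (_ → 2 * (Sol x).ncard = _) ∧ (_ → _ → _ → (Sol x).ncard = _) ∧
    (_ → _ → _ → (Sol x).ncard = _)
  rw [← hF]
  have htame : x ≠ 1 → orderOf x ≠ 2 → (orderOf x ∣ Nat.card F - 1 ∨ orderOf x ∣ Nat.card F + 1) →
      x * x ≠ 1 ∧ x ^ 3 ≠ 1 := fun h1 h2 h3 => by
    refine ⟨fun e => h2 (orderOf_eq_prime (by rwa [sq]) h1), fun e => ?_⟩
    rw [orderOf_eq_prime e h1] at h3
    omega
  have hco : x ≠ 1 → orderOf x ≠ 2 → orderOf x ∣ Nat.card F - 1 → orderOf x ∣ Nat.card F + 1 →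
      False := fun h0 h3 h1 h2 => by
    have := Nat.dvd_sub h2 h1
    rw [show Nat.card F + 1 - (Nat.card F - 1) = 2 by omega] at this
    exact ((Nat.dvd_prime Nat.prime_two).1 this).elim (by simpa using h0) h3
  have hinv : ∀ y : Matrix.ProjectiveSpecialLinearGroup (Fin 2) F, y * y = 1 → y ≠ 1 →
      (∀ z : OnePoint F, pslInc F y • z ≠ z) ∧ ∃ m, 4 * m = Nat.card F + 1 ∧
        Nonempty (torN y ≃* DihedralGroup (2 * m)) := fun y h2 h1 => by
    obtain ⟨n, e, h3, h4⟩ := torN_card pslInc_injective 3 range_pslInc.ge hd (c := y)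
      (by rwa [pow_succ, sq, h2, one_mul])
    rw [orderOf_eq_prime (by rwa [sq]) h1] at h3
    obtain ⟨m, rfl⟩ := h3
    rw [hg] at h4
    obtain ⟨h4, h5⟩ := h4.resolve_left (by omega)
    exact ⟨h4, m, by omega, e⟩
  refine ⟨fun h => ?_, fun h => ?_, fun h1 h2 h => ?_, fun h1 h2 h => ?_⟩
  · have h1 : x ≠ 1 := by rintro rfl; simp at h
    have h2 : x * x = 1 := by rw [← sq]; exact orderOf_dvd_iff_pow_eq_one.1 h.dvd
    obtain ⟨h3, m, hm, ⟨e⟩⟩ := hinv x h2 h1
    have hC : ∀ y, y ∈ torN x ↔ x * y = y * x := fun y => by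
      rw [mem_torN, inv_eq_of_mul_eq_one_left h2, or_self, mul_inv_eq_iff_eq_mul, eq_comm]
    have : Sol x = {y | y ∈ torN x ∨ y * y = 1 ∨ (x * y) * (x * y) = 1} ∪
        {y | y ^ 3 = 1 ∧ y ≠ 1 ∧ (y * x) ^ 3 = 1} := by
      ext y
      constructor
      · intro hy
        rcases sol_cases 3 hp hF (Or.inr ⟨rfl, hodd⟩) hy with
          ⟨z, h4, -⟩ | ⟨T, n, ⟨e⟩, -, h4, h5⟩ | ⟨-, H, ⟨e⟩, h4, h5⟩
        · exact absurd h4 (h3 z)
        · exact Or.inl ((dih_cases e h4 h5).imp_left (hC y).2)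
        by_cases h6 : y * y = 1
        · exact Or.inl (Or.inr (Or.inl h6))
        have := a4_cases_two (e ⟨x, h4⟩) (e ⟨y, h5⟩)
        simp only [← map_mul, ← map_pow, map_eq_one_iff e e.injective, Subtype.ext_iff] at this
        have := (this h2).resolve_left h6
        exact Or.inr ⟨this.1, fun e => h6 (by simp [e]), this.2⟩
      · rintro ((hy | hy | hy) | ⟨h4, -, h5⟩)
        · exact mem_sol_of_le (solvable_of_equiv e (dih_solvable _)) ((hC x).2 rfl) hy
        · exact mem_sol_of_inv h2 hy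
        · exact mem_sol_of_mul (mem_sol_of_inv h2 hy)
        · exact sol_symm (mem_sol_of_alt h4 h2 h5)
    have hi1 : invo (0 : F) 1 ≠ 1 := fun e => invo_smul_infty (0 : F) 1 (by rw [e, one_smul])
    obtain ⟨t, -, ht⟩ := exists_conj_of_pow_two h2F (invo_mem_pslIn.2 (by simp) : invo (0 : F) 1 ∈ _)
      (pslInc_mem x) (by rw [sq, invo_mul_self]) (by rw [sq, ← map_mul, h2, map_one]) hi1
      (by rwa [Ne, map_eq_one_iff _ pslInc_injective])
    have h5 := ncard_pre (S := {y | y ^ 3 = 1 ∧ y ≠ 1 ∧ (y * invo 0 1) ^ 3 = 1})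
      (fun y hy => mem_pslIn_of_pow_three hy.1) t
    have h6 : ∀ y, t⁻¹ * pslInc F y * t * invo 0 1 = t⁻¹ * pslInc F (y * x) * t := fun y => by
      rw [map_mul, ← ht]; group
    have h7 : ∀ y, t⁻¹ * pslInc F y * t = 1 ↔ y = 1 := fun y => by
      simpa using conj_pow_eq_one (t := t) (y := y) (n := 1)
    rw [ncard_tetra (by omega)] at h5
    simp only [Set.mem_ofPred_eq, h6, conj_pow_eq_one, Ne, h7] at h5
    have h9 := ncard_pre (S := {g | g * g = 1 ∧ g • (OnePoint.infty : OnePoint F) ≠ OnePoint.infty ∧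
      g ∈ pslIn F}) (fun y hy => hy.2.2) 1
    rw [ncard_invo (fun x => IsSquare (x.2 : F)) fun _ _ => invo_mem_pslIn] at h9
    have h10 : {x : F × Fˣ | IsSquare (x.2 : F)} =
        Set.univ ×ˢ ((powMonoidHom 2 : Fˣ →* Fˣ).range : Set Fˣ) := by
      ext ⟨a, u⟩
      simp only [Set.mem_ofPred_eq, Set.mem_prod, Set.mem_univ, true_and, SetLike.mem_coe,
        MonoidHom.mem_range, powMonoidHom_apply]
      refine ⟨fun ⟨r, hr⟩ => ?_, fun ⟨r, hr⟩ => ⟨r, by simp [← hr, sq]⟩⟩
      have : r ≠ 0 := by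
        rintro rfl
        exact u.ne_zero (by rw [hr, mul_zero])
      exact ⟨Units.mk0 r this, Units.ext (by simp [hr, sq])⟩
    rw [h10, Set.ncard_prod, Set.ncard_univ, ncard_subgroup, IsCyclic.card_powMonoidHom_range,
      Nat.card_units, Nat.gcd_comm, hg] at h9
    have h11 : {y : Matrix.ProjectiveSpecialLinearGroup (Fin 2) F | y * y = 1}.ncard =
        Nat.card F * ((Nat.card F - 1) / 2) + 1 := by
      rw [← h9, ← Set.ncard_insert_of_notMem (a := 1) (by simp)]
      congr 1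
      ext y
      simp only [Set.mem_ofPred_eq, Set.mem_insert_iff, inv_one, one_mul, mul_one, ← map_mul,
        map_eq_one_iff _ pslInc_injective, pslInc_mem, and_true]
      refine ⟨fun hy => ?_, fun hy => hy.elim (fun e => by simp [e]) And.left⟩
      by_cases e : y = 1
      · exact Or.inl e
      · exact Or.inr ⟨hy, (hinv y hy e).1 _⟩
    rw [← Set.ncard_inter_add_ncard_sdiff_eq_ncard _ (torN x : Set _)] at h11
    change {y | y * y = 1 ∧ y ∈ torN x}.ncard + {y | y * y = 1 ∧ y ∉ torN x}.ncard = _ at h11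
    rw [ncard_inv_of_dih (by omega) e] at h11
    rw [this, Set.ncard_union_eq, ncard_union_inv h2 ((hC x).2 rfl) fun y => (hC y).2, h5,
      card_of_dih e]
    · obtain ⟨k, hk⟩ : ∃ k, Nat.card F = 2 * k + 1 := ⟨Nat.card F / 2, by omega⟩
      rw [hk] at h11 hm ⊢
      rw [show (2 * k + 1 - 1) / 2 = k by omega] at h11
      nlinarith
    · rw [Set.disjoint_left]
      have hx3 : x ^ 3 = x := by rw [pow_succ, sq, h2, one_mul]
      have key : ∀ y : Matrix.ProjectiveSpecialLinearGroup (Fin 2) F, y * y = 1 → y ^ 3 = 1 →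
        y = 1 := fun y h1 h2 => by rwa [pow_succ, sq, h1, one_mul] at h2
      rintro y (hy | hy | hy) ⟨h4, h5, h6⟩
      · rw [Commute.mul_pow ((hC y).1 hy).symm, h4, one_mul, hx3] at h6
        exact h1 h6
      · exact h5 (key y hy h4)
      · have : y * x = 1 := key _ (by
          calc y * x * (y * x) = x⁻¹ * (x * y * (x * y)) * x := by group
            _ = 1 := by rw [hy]; group) h6
        rw [eq_inv_of_mul_eq_one_left this, inv_pow, hx3, inv_eq_one] at h4
        exact h1 h4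
  · have h1 : x ≠ 1 := by rintro rfl; simp at h
    have h2 : x ^ 3 = 1 := orderOf_dvd_iff_pow_eq_one.1 h.dvd
    have h2' : x * x ≠ 1 := fun e => h1 (by rwa [pow_succ, sq, e, one_mul] at h2)
    have h2'' : x * (x * x) = 1 := by rw [← h2, pow_succ', sq]
    obtain ⟨a, ha⟩ := exists_fix_of_pow_char 3 (g := pslInc F x) (by rw [← map_pow, h2, map_one])
    have hC := torN_le_stab pslInc_injective 3 h2 h1 ha
    set B := stab (pslInc F) a with hB
    have hx : x ∈ B := ha
    set T := {y | y * y = 1 ∧ y ∉ B ∧ (x * y) ^ 3 = 1} with hT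
    have : Sol x = (B : Set _) ∪ (T ∪ ({y | x * y ∈ T} ∪ {y | x * y ∈ {y | x * y ∈ T}})) := by
      ext y
      constructor
      · intro hy
        by_cases h0 : y ∈ B
        · exact Or.inl h0
        rcases sol_cases 3 hp hF (Or.inr ⟨rfl, hodd⟩) hy with
          ⟨z, h3, h4⟩ | ⟨T, n, ⟨e⟩, -, h3, h4⟩ | ⟨-, H, ⟨e⟩, h4, h5⟩
        · obtain rfl : z = a := by
            by_contra hne
            exact h1 ((map_eq_one_iff _ pslInc_injective).1
              (pgl_uni 3 _ _ _ (by rw [← map_pow, h2, map_one]) hne h3 ha))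
          exact Or.inl h4
        · exact Or.inl (hC (le_torN_of_dih e h3 h2' h4))
        have := a4_cases_three (e ⟨x, h4⟩) (e ⟨y, h5⟩)
        simp only [← map_mul, ← map_pow, map_eq_one_iff e e.injective, Subtype.ext_iff, Ne,
          e.injective.eq_iff] at this
        rcases this h2 h1 with h6 | h6 | h6 | h6
        · exact Or.inl (hC (mem_torN.2 (Or.inl (mul_inv_eq_iff_eq_mul.2 h6.symm))))
        · exact Or.inr (Or.inl ⟨h6.1, h0, h6.2⟩)
        · exact Or.inr (Or.inr (Or.inl ⟨h6.1, by rwa [mul_mem_cancel_left hx], h6.2⟩))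
        · exact Or.inr (Or.inr (Or.inr
            ⟨h6.1, by rwa [mul_mem_cancel_left hx, mul_mem_cancel_left hx], h6.2⟩))
      · rintro (hy | hy | hy | hy)
        · exact mem_sol_of_le (solvable_stab pslInc_injective 3 a) ha hy
        · exact mem_sol_of_alt h2 hy.1 hy.2.2
        · exact mem_sol_of_mul (mem_sol_of_alt h2 hy.1 hy.2.2)
        · exact mem_sol_of_mul (mem_sol_of_mul (mem_sol_of_alt h2 hy.1 hy.2.2))
    obtain ⟨t, rfl⟩ := exists_smul_infty a
    obtain ⟨u, c, hc⟩ := exists_aff (g := t⁻¹ * pslInc F x * t) (by simp [mul_smul, ha])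
    obtain rfl : u = 1 := by rw [← aff_pow_char 3 u c, ← hc, conj_pow_eq_one, h2]
    have hc0 : c ≠ 0 := by
      rintro rfl
      rw [aff_one_zero, ← pow_one (_ * t), conj_pow_eq_one, pow_one] at hc
      exact h1 hc
    have h5 := ncard_pre (S := {g | g * g = 1 ∧ g • (OnePoint.infty : OnePoint F) ≠ OnePoint.infty ∧
      (aff 1 c * g) ^ 3 = 1}) (fun y hy => (mul_mem_cancel_left (aff_one_mem_pslIn c)).1
        (mem_pslIn_of_pow_three hy.2.2)) t
    rw [ncard_invo (fun x => (x.2 : F) = c ^ 2) fun _ _ => aff_mul_invo_pow] at h5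
    have h6 : ∀ y, aff 1 c * (t⁻¹ * pslInc F y * t) = t⁻¹ * pslInc F (x * y) * t := fun y => by
      rw [map_mul, ← hc]; group
    have h7 : {x : F × Fˣ | (x.2 : F) = c ^ 2} = Set.univ ×ˢ {Units.mk0 c hc0 ^ 2} := by
      ext ⟨a, u⟩
      simp [Units.ext_iff]
    rw [h7, Set.ncard_prod, Set.ncard_univ, Set.ncard_singleton, mul_one] at h5
    simp only [Set.mem_ofPred_eq, h6, ← sq, conj_pow_eq_one, mul_smul, Ne, inv_smul_eq_iff] at h5
    have h9 : T.ncard = Nat.card F := by simp only [hT, hB, mem_stab, ← sq, h5]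
    have h10 := card_stab range_pslInc.ge hd (t • OnePoint.infty)
    rw [hg] at h10
    have key : ∀ y, y ∈ T → x * y ∉ T := fun y h3 h4 => by
      have := h3.2.2
      rw [pow_succ, sq, h4.1, one_mul] at this
      exact h4.2.1 (this ▸ one_mem B)
    rw [this, Set.ncard_union_eq, Set.ncard_union_eq, Set.ncard_union_eq, ncard_mul_left,
      ncard_mul_left, ncard_mul_left, h9, mul_add, ncard_subgroup, h10]
    · obtain ⟨k, hk⟩ : ∃ k, Nat.card F = k + 1 := ⟨Nat.card F - 1, by omega⟩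
      rw [hk, Nat.add_sub_cancel]
      ring
    · rw [Set.disjoint_left]
      exact fun y h3 h4 => key _ h3 h4
    · rw [Set.disjoint_left]
      rintro y h3 (h4 | h4)
      · exact key _ h3 h4
      · refine key _ h4 ?_
        rwa [← mul_assoc x x y, ← mul_assoc, h2'', one_mul]
    · rw [Set.disjoint_left]
      rintro y h3 (h4 | h4 | h4)
      · exact h4.2.1 h3
      · exact h4.2.1 (mul_mem hx h3)
      · exact h4.2.1 (mul_mem hx (mul_mem hx h3))
  · obtain ⟨h3, h4⟩ := htame h1 h2 (Or.inl h)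
    obtain ⟨n, h6, ⟨-, h7⟩ | ⟨h7, -⟩⟩ := ncard_sol_tame 3 hp hF (Or.inr ⟨rfl, hodd⟩) h3 h4 <;>
      rw [hg] at h7
    · omega
    · exact (hco h1 h2 h (h7 ▸ h6.mul_left 2)).elim
  · obtain ⟨h3, h4⟩ := htame h1 h2 (Or.inr h)
    obtain ⟨n, h6, ⟨h7, -⟩ | ⟨h7, h8⟩⟩ := ncard_sol_tame 3 hp hF (Or.inr ⟨rfl, hodd⟩) h3 h4 <;>
      rw [hg] at h7
    · exact (hco h1 h2 (by rw [← h7, Nat.add_sub_cancel]; exact h6.mul_left 2) h).elim
    · rw [h8, h7]

end Cfsg.Agent.S2258
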