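import Cfsg.Statements.S2271

set_option autoImplicit false
open Cfsg

namespace Cfsg.Agent.S2271

open Equiv Equiv.Perm Finset

variable {Ω : Type*} [Fintype Ω] [DecidableEq Ω]

/-- number of agreements -/
def N (b c h : Perm Ω) : ℕ := #{u | h (b u) = c (h u)}

theorem even_or (g : Perm Ω) {v w : Ω} (hvw : v ≠ w) :
    g ∈ alternatingGroup Ω ∨ g * swap v w ∈ alternatingGroup Ω := by
  rw [mem_alternatingGroup, mem_alternatingGroup, Perm.sign_mul, sign_swap hvw]
  rcases Int.units_eq_one_or (sign g) with h | h <;> simp [h]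

theorem exists_two_out (s : Finset Ω) (hs : #s + 2 ≤ Fintype.card Ω) :
    ∃ v w, v ≠ w ∧ v ∉ s ∧ w ∉ s := by
  have : 1 < #(sᶜ) := by rw [card_compl]; omega
  obtain ⟨v, hv, w, hw, h⟩ := one_lt_card.1 this
  exact ⟨v, w, h, mem_compl.1 hv, mem_compl.1 hw⟩

theorem exists_even_ext {ι : Type*} [Fintype ι] (f g : ι → Ω) (hf : Function.Injective f)
    (hg : Function.Injective g) (hc : Fintype.card ι + 2 ≤ Fintype.card Ω) :
    ∃ h ∈ alternatingGroup Ω, ∀ i, h (f i) = g i := by
  obtain ⟨σ, hσ⟩ := Equiv.Perm.exists_extending_pair _ _ hf hg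
  obtain ⟨v, w, hvw, hv, hw⟩ := exists_two_out (univ.image f) (by
    rw [card_image_of_injective _ hf, card_univ]; exact hc)
  rcases even_or σ hvw with h | h
  · exact ⟨σ, h, hσ⟩
  · refine ⟨_, h, fun i => ?_⟩
    rw [Perm.mul_apply, swap_apply_of_ne_of_ne, hσ]
    · rintro rfl; exact hv (mem_image_of_mem _ (mem_univ _))
    · rintro rfl; exact hw (mem_image_of_mem _ (mem_univ _))

/-- the even permutations -/
def A (Ω : Type*) [Fintype Ω] [DecidableEq Ω] : Finset (Perm Ω) := {g | sign g = 1}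

theorem mem_A {g : Perm Ω} : g ∈ A Ω ↔ g ∈ alternatingGroup Ω := by simp [A]

theorem exists_two (hn : 4 ≤ Fintype.card Ω) {x y u v : Ω} (hxy : x ≠ y) (huv : u ≠ v) :
    ∃ h ∈ alternatingGroup Ω, h x = u ∧ h y = v := by
  obtain ⟨h, hh, h2⟩ := exists_even_ext ![x, y] ![u, v]
    (by intro i j; fin_cases i <;> fin_cases j <;> simp [hxy, hxy.symm])
    (by intro i j; fin_cases i <;> fin_cases j <;> simp [huv, huv.symm]) (by simpa using hn)
  exact ⟨h, hh, h2 0, h2 1⟩

theorem count_two (hn : 4 ≤ Fintype.card Ω) : ∃ T : ℕ, 0 < T ∧ ∀ x y u v : Ω, x ≠ y → u ≠ v →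
    #{g ∈ A Ω | g x = u ∧ g y = v} = T := by
  obtain ⟨x₀, y₀, h₀⟩ := Fintype.one_lt_card_iff.1 (show 1 < Fintype.card Ω by omega)
  refine ⟨#{g ∈ A Ω | g x₀ = x₀ ∧ g y₀ = y₀}, card_pos.2 ⟨1, by simp [mem_A]⟩, ?_⟩
  intro x y u v hxy huv
  obtain ⟨h, hh, h1, h2⟩ := exists_two hn h₀ hxy
  obtain ⟨k, hk, k1, k2⟩ := exists_two hn h₀ huv
  refine card_bij' (fun g _ => k⁻¹ * g * h) (fun g _ => k * g * h⁻¹) ?_ ?_ ?_ ?_
  · intro g hg
    simp only [mem_filter, mem_A] at hg ⊢
    refine ⟨mul_mem (mul_mem (inv_mem hk) hg.1) hh, ?_, ?_⟩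
    · simp [h1, hg.2.1, ← k1]
    · simp [h2, hg.2.2, ← k2]
  · intro g hg
    simp only [mem_filter, mem_A] at hg ⊢
    refine ⟨mul_mem (mul_mem hk hg.1) (inv_mem hh), ?_, ?_⟩
    · simp [← h1, hg.2.1, k1]
    · simp [← h2, hg.2.2, k2]
  · intro g _; group
  · intro g _; group

theorem count_one {T : ℕ} (hn : 4 ≤ Fintype.card Ω) (hT : ∀ x y u v : Ω, x ≠ y → u ≠ v →
    #{g ∈ A Ω | g x = u ∧ g y = v} = T) (x u : Ω) :
    #{g ∈ A Ω | g x = u} = (Fintype.card Ω - 1) * T := by
  obtain ⟨y, hy⟩ := Fintype.exists_ne_of_one_lt_card (show 1 < Fintype.card Ω by omega) x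
  rw [card_eq_sum_card_fiberwise (f := fun g : Perm Ω => g y) (t := univ.erase u)]
  · rw [sum_congr rfl (g := fun _ => T)]
    · simp [card_erase_of_mem]
    · intro v hv
      rw [filter_filter, hT x y u v hy.symm (ne_of_mem_erase hv).symm]
  · intro g hg
    simp only [coe_filter, Set.mem_setOf_eq] at hg
    simp only [coe_erase, coe_univ, Set.mem_diff, Set.mem_univ, Set.mem_singleton_iff, true_and]
    rw [← hg.2]; exact fun h => hy (g.injective h)

theorem average (hn : 4 ≤ Fintype.card Ω) (b c : Perm Ω) (m : ℕ)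
    (hm : ∀ h ∈ alternatingGroup Ω, N b c h = m) :
    m * (Fintype.card Ω * (Fintype.card Ω - 1)) =
      (Fintype.card Ω - #b.support) * ((Fintype.card Ω - #c.support) * (Fintype.card Ω - 1)) +
        #b.support * #c.support := by
  obtain ⟨T, hT0, hT⟩ := count_two hn
  have h1 := count_one hn hT
  obtain ⟨x₀⟩ : Nonempty Ω := Fintype.card_pos_iff.1 (by omega)
  have hA : #(A Ω) = Fintype.card Ω * ((Fintype.card Ω - 1) * T) := by
    rw [card_eq_sum_card_fiberwise (f := fun g : Perm Ω => g x₀) (t := univ) (by simp)]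
    simp [h1]
  have hs : ∑ h ∈ A Ω, N b c h = ∑ u, #{h ∈ A Ω | h (b u) = c (h u)} := by
    simp only [N, card_filter]
    exact sum_comm
  rw [sum_congr rfl (g := fun _ => m) (fun h hh => hm h (mem_A.1 hh)), sum_const, hA,
    ← sum_add_sum_compl b.support] at hs
  have e1 : ∀ u ∈ b.support, #{h ∈ A Ω | h (b u) = c (h u)} = #c.support * T := by
    intro u hu
    rw [mem_support] at hu
    rw [card_eq_sum_card_fiberwise (f := fun g : Perm Ω => g u) (t := c.support)]
    · rw [sum_congr rfl (g := fun _ => T)]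
      · simp
      · intro y hy
        rw [filter_filter, ← hT u (b u) y (c y) hu.symm (mem_support.1 hy).symm]
        congr 1
        refine filter_congr fun g _ => ⟨fun h => ⟨h.2, h.2 ▸ h.1⟩, fun h => ⟨h.1 ▸ h.2, h.1⟩⟩
    · intro g hg
      simp only [coe_filter, Set.mem_setOf_eq] at hg
      simp only [mem_coe, mem_support]
      rw [← hg.2]; exact fun h => hu (g.injective h)
  have e2 : ∀ u ∈ b.supportᶜ, #{h ∈ A Ω | h (b u) = c (h u)} =
      (Fintype.card Ω - #c.support) * ((Fintype.card Ω - 1) * T) := by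
    intro u hu
    rw [mem_compl, notMem_support] at hu
    rw [card_eq_sum_card_fiberwise (f := fun g : Perm Ω => g u) (t := c.supportᶜ)]
    · rw [sum_congr rfl (g := fun _ => (Fintype.card Ω - 1) * T)]
      · simp [card_compl]
      · intro y hy
        rw [mem_compl, notMem_support] at hy
        rw [filter_filter, ← h1 u y]
        congr 1
        refine filter_congr fun g _ => ⟨fun h => h.2, fun h => ⟨?_, h⟩⟩
        rw [hu, h, hy]
    · intro g hg
      simp only [coe_filter, Set.mem_setOf_eq] at hg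
      simp only [mem_coe, mem_compl, notMem_support]
      rw [← hg.2, hu]
  rw [sum_congr rfl e1, sum_congr rfl e2, sum_const, sum_const, card_compl] at hs
  simp only [smul_eq_mul] at hs
  apply Nat.eq_of_mul_eq_mul_right hT0
  linarith

theorem N_symm (b c h : Perm Ω) : N c b h⁻¹ = N b c h := by
  refine card_bij' (fun y _ => h⁻¹ y) (fun u _ => h u) ?_ ?_ ?_ ?_
  · intro y hy
    simp only [mem_filter, mem_univ, true_and] at hy ⊢
    rw [← hy]; simp
  · intro u hu
    simp only [mem_filter, mem_univ, true_and] at hu ⊢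
    rw [← hu]; simp
  · intro y _; simp
  · intro y _; simp

theorem N_mul (b c h τ : Perm Ω) (hτ : τ * b = b * τ) : N b c (h * τ) = N b c h := by
  refine card_bij' (fun y _ => τ y) (fun u _ => τ⁻¹ u) ?_ ?_ ?_ ?_
  · intro y hy
    rw [mem_filter] at hy ⊢
    refine ⟨mem_univ _, ?_⟩
    have := hy.2
    simp only [Perm.mul_apply] at this
    rw [← this, ← Perm.mul_apply b, ← hτ, Perm.mul_apply]
  · intro u hu
    rw [mem_filter] at hu ⊢
    refine ⟨mem_univ _, ?_⟩
    simp only [Perm.mul_apply]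
    rw [← Perm.mul_apply τ b, hτ]; simpa using hu.2
  · intro y _; simp
  · intro y _; simp

theorem all_of_invol {b c : Perm Ω} {m : ℕ} (hm : ∀ h ∈ alternatingGroup Ω, N b c h = m) {u : Ω}
    (hu : b u ≠ u) (hu2 : b (b u) = u) (h : Perm Ω) : N b c h = m := by
  rcases even_or h hu.symm with hh | hh
  · exact hm h hh
  · rw [← N_mul b c h (swap u (b u)), hm _ hh]
    rw [mul_swap_eq_swap_mul, hu2, swap_comm]

theorem exists_four (d : Perm Ω) (hd : 4 ≤ #d.support) :
    ∃ x y, Function.Injective ![x, d x, y, d y] := by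
  obtain ⟨x, hx⟩ : d.support.Nonempty := card_pos.1 (by omega)
  have : #({x, d x, d⁻¹ x} : Finset Ω) < #d.support := lt_of_le_of_lt card_le_three (by omega)
  obtain ⟨y, hy, hy'⟩ := exists_mem_notMem_of_card_lt_card this
  simp only [mem_insert, mem_singleton, not_or] at hy'
  rw [mem_support] at hx hy
  obtain ⟨h1, h2, h3⟩ := hy'
  have h4 : d y ≠ x := fun h => h3 (by rw [← h]; simp)
  have h5 : d y ≠ d x := fun h => h1 (d.injective h)
  refine ⟨x, y, ?_⟩
  intro i j
  fin_cases i <;> fin_cases j <;> simp [hx, hy, h1, h2, h4, h5, hx.symm, hy.symm, Ne.symm h1,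
    Ne.symm h2, h4.symm, h5.symm]

theorem lower (hn : 5 ≤ Fintype.card Ω) {b c : Perm Ω} (hb : b ≠ 1) (hc : c ≠ 1)
    (hbc : #c.support ≤ #b.support) :
    ∃ h ∈ alternatingGroup Ω, Fintype.card Ω - #b.support + 1 ≤ N b c h := by
  obtain ⟨u, hu⟩ : b.support.Nonempty := by
    rw [nonempty_iff_ne_empty, Ne, support_eq_empty_iff]; exact hb
  obtain ⟨y, hy⟩ : c.support.Nonempty := by
    rw [nonempty_iff_ne_empty, Ne, support_eq_empty_iff]; exact hc
  have hbu : b u ∈ b.support := apply_mem_support.2 hu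
  have hcy : c y ∈ c.support := apply_mem_support.2 hy
  obtain ⟨e⟩ : Nonempty (↥(b.supportᶜ) ↪ ↥(c.supportᶜ)) := by
    apply Function.Embedding.nonempty_of_card_le
    simp only [Fintype.card_coe, card_compl]; omega
  have key : ∀ h : Perm Ω, (∀ x ∈ b.supportᶜ, h x ∈ c.supportᶜ) → h u = y → h (b u) = c y →
      Fintype.card Ω - #b.support + 1 ≤ N b c h := by
    intro h h1 h2 h3
    rw [← card_compl, ← card_insert_of_notMem (a := u) (by simpa using hu)]
    apply card_le_card
    intro x hx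
    simp only [mem_filter, mem_univ, true_and]
    rcases mem_insert.1 hx with rfl | hx
    · rw [h2, h3]
    · have := h1 x hx
      rw [mem_compl, notMem_support] at this hx
      rw [hx, this]
  have inj : ∀ (d : Perm Ω) (x : Ω) (hx : x ∈ d.support) (f : ↥(b.supportᶜ) → Ω)
      (hf : Function.Injective f) (hf2 : ∀ i, f i ∈ d.supportᶜ),
      Function.Injective (Sum.elim f ![x, d x]) := by
    intro d x hx f hf hf2
    have hdx : d x ∈ d.support := apply_mem_support.2 hx
    refine Function.Injective.sumElim hf ?_ ?_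
    · have := mem_support.1 hx
      intro i j; fin_cases i <;> fin_cases j <;> simp [this, this.symm]
    · intro i j h
      have := mem_compl.1 (hf2 i)
      rw [h] at this
      fin_cases j
      · exact this hx
      · exact this hdx
  obtain ⟨σ, hσ⟩ := Equiv.Perm.exists_extending_pair _ _
    (inj b u hu Subtype.val Subtype.val_injective (fun i => i.2))
    (inj c y hy (fun i => e i) (Subtype.val_injective.comp e.injective) (fun i => (e i).2))
  have s1 : ∀ x ∈ b.supportᶜ, σ x ∈ c.supportᶜ := fun x hx => by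
    have := hσ (Sum.inl ⟨x, hx⟩)
    simp only [Sum.elim_inl] at this
    rw [this]; exact (e _).2
  have s2 : σ u = y := hσ (Sum.inr 0)
  have s3 : σ (b u) = c y := hσ (Sum.inr 1)
  obtain ⟨v, w, hvw, hv, hw, hs⟩ : ∃ v w, v ≠ w ∧ v ∉ ({u, b u} : Finset Ω) ∧
      w ∉ ({u, b u} : Finset Ω) ∧ (v ∈ b.support ↔ w ∈ b.support) := by
    have : 2 < #(({u, b u} : Finset Ω)ᶜ) := by
      have := card_le_two (a := u) (b := b u)
      rw [card_compl]; omega
    obtain ⟨x, x', x'', hx, hx', hx'', n1, n2, n3⟩ := two_lt_card_iff.1 this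
    rw [mem_compl] at hx hx' hx''
    by_cases h1 : (x ∈ b.support ↔ x' ∈ b.support)
    · exact ⟨x, x', n1, hx, hx', h1⟩
    by_cases h2 : (x ∈ b.support ↔ x'' ∈ b.support)
    · exact ⟨x, x'', n2, hx, hx'', h2⟩
    exact ⟨x', x'', n3, hx', hx'', by tauto⟩
  simp only [mem_insert, mem_singleton, not_or] at hv hw
  rcases even_or σ hvw with h | h
  · exact ⟨σ, h, key σ s1 s2 s3⟩
  · refine ⟨_, h, key _ (fun x hx => s1 _ ?_) ?_ ?_⟩
    · rw [mem_compl] at hx ⊢
      rcases eq_or_ne x v with rfl | h1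
      · rw [swap_apply_left]; tauto
      rcases eq_or_ne x w with rfl | h2
      · rw [swap_apply_right]; tauto
      rwa [swap_apply_of_ne_of_ne h1 h2]
    · rw [Perm.mul_apply, swap_apply_of_ne_of_ne (Ne.symm hv.1) (Ne.symm hw.1), s2]
    · rw [Perm.mul_apply, swap_apply_of_ne_of_ne (Ne.symm hv.2) (Ne.symm hw.2), s3]

theorem two_le_N {b c h : Perm Ω} {u v : Ω} (huv : u ≠ v) (h1 : h (b u) = c (h u))
    (h2 : h (b v) = c (h v)) : 2 ≤ N b c h := by
  rw [← card_pair huv]
  apply card_le_card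
  intro x hx
  simp only [mem_insert, mem_singleton] at hx
  rcases hx with rfl | rfl <;> simp [h1, h2]

theorem core (hn : 5 ≤ Fintype.card Ω) {b c : Perm Ω} (hb : b ≠ 1) (hc : c ≠ 1)
    (hbc : #c.support ≤ #b.support) {m : ℕ} (hm : ∀ h ∈ alternatingGroup Ω, N b c h = m) :
    False := by
  have hav := average (by omega) b c m hm
  obtain ⟨h, hh, hl⟩ := lower hn hb hc hbc
  rw [hm h hh] at hl
  have ht : #b.support ≤ Fintype.card Ω := card_le_univ _
  obtain ⟨k, hk⟩ : ∃ k, Fintype.card Ω = k + 1 := ⟨Fintype.card Ω - 1, by omega⟩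
  obtain ⟨f, hf⟩ := Nat.exists_eq_add_of_le ht
  obtain ⟨e, he⟩ := Nat.exists_eq_add_of_le (hbc.trans ht)
  have e1 : Fintype.card Ω - 1 = k := by omega
  have e2 : Fintype.card Ω - #b.support = f := by omega
  have e3 : Fintype.card Ω - #c.support = e := by omega
  rw [e1, e2, e3] at hav
  rw [e2] at hl
  set s := #c.support with hs
  set t := #b.support with ht'
  set n := Fintype.card Ω with hn'
  have hk0 : 0 < k := by omega
  rcases Nat.eq_zero_or_pos f with rfl | hf0
  · have htn : t = n := by omega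
    rw [htn] at hav
    have h1 : m * k = s := by
      apply Nat.eq_of_mul_eq_mul_left (show 0 < n by omega); linarith
    have hm1 : m = 1 := by
      by_contra hne
      have : 2 * k ≤ m * k := Nat.mul_le_mul_right _ (by omega)
      omega
    subst hm1
    have hbs : ∀ u, b u ≠ u := by
      intro u
      have : b.support = univ := eq_univ_of_card _ htn
      rw [← mem_support, this]; exact mem_univ _
    -- four-point matching when the parity is free
    have four : (∀ h, N b c h = 1) → False := by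
      intro hall
      obtain ⟨x, y, hxy⟩ := exists_four b (by omega)
      obtain ⟨x', y', hxy'⟩ := exists_four c (by omega)
      obtain ⟨σ, hσ⟩ := Equiv.Perm.exists_extending_pair _ _ hxy hxy'
      have := two_le_N (b := b) (c := c) (h := σ) (u := x) (v := y)
        (fun h => absurd (hxy (a₁ := 0) (a₂ := 2) h) (by decide))
        (by rw [show σ x = x' from hσ 0]; exact hσ 1) (by rw [show σ y = y' from hσ 2]; exact hσ 3)
      rw [hall] at this; omega
    obtain ⟨y, hy⟩ : c.support.Nonempty := card_pos.1 (by omega)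
    rw [mem_support] at hy
    by_cases hb2 : b (b y) = y
    · exact four (all_of_invol hm (hbs y) hb2)
    by_cases hc2 : c (c y) = y
    · refine four fun h => ?_
      rw [← N_symm]
      refine all_of_invol (fun h hh => ?_) hy hc2 _
      rw [← inv_inv h, N_symm]; exact hm _ (inv_mem hh)
    have inj : ∀ d : Perm Ω, d y ≠ y → d (d y) ≠ y → Function.Injective ![y, d y, d (d y)] := by
      intro d h1 h2 i j
      have h3 : d (d y) ≠ d y := fun h => h1 (d.injective h)
      fin_cases i <;> fin_cases j <;> simp [h1, h2, h3, h1.symm, h2.symm, h3.symm]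
    obtain ⟨σ, hσA, hσ⟩ := exists_even_ext _ _ (inj b (hbs y) hb2) (inj c hy hc2) (by simpa using hn)
    have := two_le_N (b := b) (c := c) (h := σ) (u := y) (v := b y) (hbs y).symm
      (by rw [show σ y = y from hσ 0]; exact hσ 1)
      (by rw [show σ (b y) = c y from hσ 1]; exact hσ 2)
    rw [hm _ hσA] at this; omega
  · have h1 : t ≤ k := by omega
    have h2 : t * s ≤ k * (f * s) := Nat.mul_le_mul h1 (Nat.le_mul_of_pos_left _ hf0)
    have h3 : (f + 1) * (n * k) ≤ m * (n * k) := Nat.mul_le_mul_right _ hl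
    have h4 : f * (n * k) = f * (e * k) + k * (f * s) := by rw [he]; ring
    have h5 : 0 < n * k := Nat.mul_pos (by omega) hk0
    nlinarith

theorem card_fixed (a b h : Perm Ω) :
    Nat.card (Function.fixedPoints ⇑(1 * a * 1⁻¹ * (h * b * h⁻¹))) = N b a⁻¹ h := by
  rw [← N_symm, N, Nat.card_eq_fintype_card, Fintype.card_subtype]
  congr 1
  ext y
  simp only [mem_filter, mem_univ, true_and, Function.mem_fixedPoints_iff, one_mul, inv_one,
    mul_one, Perm.mul_apply]
  constructor
  · intro h1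
    have h2 : h (b (h⁻¹ y)) = a⁻¹ y := by rw [Perm.eq_inv_iff_eq]; exact h1
    rw [← h2]; simp
  · intro h1; rw [← h1]; simp


/-- Let n ≥ 5 and let a, b be non-identity permutations in the symmetric group S_n. Then the number of fixed points is not constant on the set of products a′b′ with a′ conjugate to a and b′ conjugate to b under the alternating group: there are even permutations g₁, h₁, g₂, h₂ such that (g₁ a g₁⁻¹)(h₁ b h₁⁻¹) and (g₂ a g₂⁻¹)(h₂ b h₂⁻¹) have different numbers of fixed points. -/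
theorem result (n : ℕ) (hn : 5 ≤ n) (a b : Equiv.Perm (Fin n)) (ha : a ≠ 1) (hb : b ≠ 1) :
    ∃ g₁ h₁ g₂ h₂ : Equiv.Perm (Fin n), g₁ ∈ alternatingGroup (Fin n) ∧ h₁ ∈ alternatingGroup (Fin n) ∧ g₂ ∈ alternatingGroup (Fin n) ∧ h₂ ∈ alternatingGroup (Fin n) ∧
      Nat.card (Function.fixedPoints ⇑(g₁ * a * g₁⁻¹ * (h₁ * b * h₁⁻¹))) ≠
        Nat.card (Function.fixedPoints ⇑(g₂ * a * g₂⁻¹ * (h₂ * b * h₂⁻¹))) := by
  by_contra hcon
  push Not at hcon
  have hm : ∀ h ∈ alternatingGroup (Fin n), N b a⁻¹ h = N b a⁻¹ 1 := by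
    intro h hh
    rw [← card_fixed, ← card_fixed]
    exact hcon 1 h 1 1 (one_mem _) hh (one_mem _) (one_mem _)
  have hn' : 5 ≤ Fintype.card (Fin n) := by simpa using hn
  rcases le_total (a⁻¹).support.card b.support.card with h | h
  · exact core hn' hb (inv_ne_one.2 ha) h hm
  · refine core hn' (inv_ne_one.2 ha) hb h (m := N b a⁻¹ 1) fun h hh => ?_
    rw [← inv_inv h, N_symm]; exact hm _ (inv_mem hh)

end Cfsg.Agent.S2271
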