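import Cfsg.Statements.S2272
import Cfsg.Agent.H65.SLa
import Cfsg.Agent.H29.PslTv

set_option autoImplicit false
open Cfsg

namespace Cfsg.Agent.S2272

open Matrix Module Submodule

variable {F : Type*} [Field F] {n : ℕ}

/-- the linear action -/
def L (g : Matrix.SpecialLinearGroup (Fin n) F) : (Fin n → F) ≃ₗ[F] (Fin n → F) :=
  Matrix.SpecialLinearGroup.toLin' g

theorem L_apply (g : Matrix.SpecialLinearGroup (Fin n) F) (x : Fin n → F) : L g x = g.1 *ᵥ x := rfl

theorem L_mul (g h : Matrix.SpecialLinearGroup (Fin n) F) (x : Fin n → F) : L (g * h) x = L g (L h x) :=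
  H65.sl_mul g h x

theorem L_inv (g : Matrix.SpecialLinearGroup (Fin n) F) (x : Fin n → F) : L g⁻¹ (L g x) = x :=
  H65.sl_inv_mul g x

theorem L_slT {u : Fin n → F} {φ : Dual F (Fin n → F)} (h : φ u = 0) (x : Fin n → F) :
    L (H65.slT u φ) x = x + φ x • u := H65.slT_mulVec h x

theorem dual_of {s : Set (Fin n → F)} {z : Fin n → F} (h : z ∉ span F s) :
    ∃ φ : Dual F (Fin n → F), (∀ x ∈ s, φ x = 0) ∧ φ z = 1 := by
  obtain ⟨f, h1, h2⟩ := exists_dual_map_eq_bot_of_notMem h inferInstance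
  refine ⟨(f z)⁻¹ • f, fun x hx => ?_, by simp [h1]⟩
  have : f x ∈ (span F s).map f := mem_map_of_mem (subset_span hx)
  rw [h2, mem_bot] at this
  simp [this]

theorem L_mem_pair (g : Matrix.SpecialLinearGroup (Fin n) F) (u w z : Fin n → F) :
    L g z ∈ span F {L g u, L g w} ↔ z ∈ span F {u, w} := by
  simp only [mem_span_pair, ← map_smul, ← map_add, EmbeddingLike.apply_eq_iff_eq]

/-- both zero and nonzero traces occur -/
def Both (A B : Matrix.SpecialLinearGroup (Fin n) F) : Prop :=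
  ∀ c : F, ∃ g h : Matrix.SpecialLinearGroup (Fin n) F, trace (g * A * g⁻¹ * (h * B * h⁻¹)).1 = c

theorem Both.symm {A B : Matrix.SpecialLinearGroup (Fin n) F} (h : Both A B) : Both B A := fun c => by
  obtain ⟨g, k, e⟩ := h c
  exact ⟨k, g, (trace_mul_comm _ _).trans e⟩

theorem both_of {A B : Matrix.SpecialLinearGroup (Fin n) F} (g : Matrix.SpecialLinearGroup (Fin n) F)
    (u1 u2 : Fin n → F) (h : L g u2 = L A (L g u1))
    (hT : L A (L g (L B u1)) - L g (L B u2) ∉ span F {L g u1, L g u2}) : Both A B := by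
  intro c
  obtain ⟨φ, h1, h2⟩ := dual_of hT
  set v := L g u1 with hv
  set w : Fin n → F := fun i => φ (Pi.single i 1) with hw
  have hφ : ∀ x, w ⬝ᵥ x = φ x := fun x => by
    conv_rhs => rw [← Finset.univ_sum_single x]
    simp only [map_sum, dotProduct, hw]
    refine Finset.sum_congr rfl fun i _ => ?_
    rw [← mul_one (x i), ← smul_eq_mul (x i) 1, Pi.single_smul, map_smul]; simp [mul_comm]
  have p1 : φ v = 0 := h1 _ (by simp)
  have p2 : φ (L A v) = 0 := h ▸ h1 _ (by simp)
  set B' := g * B * g⁻¹ with hB'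
  have q1 : L B' v = L g (L B u1) := by rw [hB', L_mul, hv, L_inv, L_mul]
  have q2 : L B' (L A v) = L g (L B u2) := by rw [← h, hB', L_mul, L_inv, L_mul]
  set t := trace (A * B').1 - c with ht
  have d1 : w ⬝ᵥ (t • v) = 0 := by rw [hφ, map_smul, p1, smul_zero]
  have d2 : w ⬝ᵥ (-(t • v)) = 0 := by rw [dotProduct_neg, d1, neg_zero]
  have hinv : (H29.tv (t • v) w)⁻¹ = H29.tv (-(t • v)) w := by
    rw [inv_eq_iff_mul_eq_one, ← H29.tv_add_left d1 d2, add_neg_cancel, H29.tv_zero_left]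
  refine ⟨1, H29.tv (t • v) w * g, ?_⟩
  have e : 1 * A * 1⁻¹ * (H29.tv (t • v) w * g * B * (H29.tv (t • v) w * g)⁻¹) =
      A * H29.tv (t • v) w * B' * H29.tv (-(t • v)) w := by rw [← hinv, hB']; group
  rw [e]
  show trace (A.1 * (H29.tv (t • v) w).1 * B'.1 * (H29.tv (-(t • v)) w).1) = c
  rw [H29.tv_coe d1, H29.tv_coe d2, mul_add, mul_one, mul_vecMulVec, trace_add, trace_vecMulVec,
    mul_add, mul_one, add_mul, trace_add, trace_mul_comm _ B'.1, trace_mul_comm _ B'.1, mul_vecMulVec,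
    mul_vecMulVec, trace_vecMulVec, dotProduct_comm _ w, dotProduct_comm _ w, hφ, hφ, add_mulVec,
    ← mulVec_mulVec, ← mulVec_mulVec, H29.vmv_mulVec, trace_mul_comm B'.1]
  simp only [← L_apply, map_neg, map_smul, map_add, p2, q1, q2, smul_eq_mul, mul_zero]
  rw [map_sub] at h2
  have e3 : trace (A.1 * B'.1) = t + c := by rw [ht]; exact (sub_add_cancel _ _).symm
  linear_combination e3 - t * h2

theorem indep {u w : Fin n → F} (hw : w ∉ span F {u}) (hu : u ≠ 0) : LinearIndependent F ![u, w] :=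
  H65.indep_of_not_mem hu hw

theorem exists_noneigen {A : Matrix.SpecialLinearGroup (Fin n) F}
    (hA : A ∉ Subgroup.center (Matrix.SpecialLinearGroup (Fin n) F)) :
    ∃ v, v ≠ 0 ∧ L A v ∉ span F {v} := by
  by_contra h
  push Not at h
  obtain ⟨c, hc⟩ := LinearMap.exists_eq_smul_id_of_forall_notLinearIndependent (f := (L A).toLinearMap) fun v hv => by
    have hv0 : v ≠ 0 := hv.ne_zero 0
    obtain ⟨a, ha⟩ := mem_span_singleton.1 (h v hv0)
    exact (LinearIndependent.pair_iff' hv0).1 hv a ha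
  apply hA
  rw [Subgroup.mem_center_iff]
  intro g
  refine H65.sl_ext fun x => ?_
  have hc' : ∀ y, L A y = c • y := fun y => LinearMap.congr_fun hc y
  simp only [← L_apply, L_mul, hc', map_smul]

theorem case1 (hn : 3 ≤ n) {A B : Matrix.SpecialLinearGroup (Fin n) F} {v u : Fin n → F} (hv0 : v ≠ 0)
    (hv : L A v ∉ span F {v}) (hu0 : u ≠ 0) (hu : L B u ∉ span F {u})
    (hu2 : L B (L B u) ∉ span F {u, L B u}) : Both A B := by
  have i1 : LinearIndependent F ![L B u, u] := LinearIndependent.pair_symm_iff.1 (indep hu hu0)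
  obtain ⟨g, h1, h2⟩ := H65.exists_sl_pair hn i1 (indep hv hv0)
  rw [← L_apply] at h1 h2
  have hz : L g (L B (L B u)) ∉ span F {v, L A v} := by
    rw [← h2, ← h1, L_mem_pair, Set.pair_comm]; exact hu2
  have fin : ∀ g : Matrix.SpecialLinearGroup (Fin n) F, L g (L B u) = v → L g u = L A v →
      L A (L g (L B (L B u))) ∉ span F {v, L A v} → Both A B := fun g h1 h2 h3 =>
    both_of g (L B u) u (by rw [h1, h2]) (by
      rw [h1, h2]
      intro h
      exact h3 (by simpa using add_mem h (subset_span (by simp : v ∈ ({v, L A v} : Set _)))))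
  by_cases h3 : L A (L g (L B (L B u))) ∈ span F {v, L A v}
  swap
  · exact fin g h1 h2 h3
  have h4 : L A (L A v) ∉ span F {v, L A v} := by
    intro h4
    obtain ⟨α, β, e⟩ := mem_span_pair.1 h4
    obtain ⟨a, b, e'⟩ := mem_span_pair.1 h3
    have hα : α ≠ 0 := by
      rintro rfl
      rw [zero_smul, zero_add, ← map_smul, EmbeddingLike.apply_eq_iff_eq] at e
      exact hv (mem_span_singleton.2 ⟨β, e⟩)
    refine hz (mem_span_pair.2 ⟨b - a / α * β, a / α, (L A).injective ?_⟩)
    rw [← e', map_add, map_smul, map_smul, ← e]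
    match_scalars <;> field_simp <;> ring
  obtain ⟨ψ, p1, p2⟩ := dual_of hz
  have p3 : ψ v = 0 := p1 _ (by simp)
  have p4 : ψ (L A v) = 0 := p1 _ (by simp)
  refine fin (H65.slT (L A v) ψ * g) (by simp [L_mul, L_slT p4, h1, p3]) (by simp [L_mul, L_slT p4, h2, p4]) ?_
  rw [L_mul, L_slT p4, p2, one_smul, map_add]
  exact fun h => h4 ((Submodule.add_mem_iff_right _ h3).1 h)

theorem case2 (hn : 3 ≤ n) {A B : Matrix.SpecialLinearGroup (Fin n) F} {v x : Fin n → F} (hv0 : v ≠ 0)
    (hv : L A v ∉ span F {v}) (hx0 : x ≠ 0) (hx : L B x ∉ span F {x})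
    (hv2 : L A (L A v) ∈ span F {v, L A v}) (hx2 : L B (L B x) ∈ span F {x, L B x}) : Both A B := by
  obtain ⟨y, α, a1, a2, a3⟩ := H65.exists_not_mem_span hn x (L B x)
  have inv : ∀ z ∈ span F {v, L A v}, L A z ∈ span F {v, L A v} := by
    intro z hz
    obtain ⟨a, b, rfl⟩ := mem_span_pair.1 hz
    rw [map_add, map_smul, map_smul]
    exact add_mem (smul_mem _ _ (subset_span (by simp))) (smul_mem _ _ hv2)
  have ind : ∀ y, α y = 1 → LinearIndependent F ![y, x] ∧ L B x ∉ span F {y, x} := by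
    intro y hy
    refine ⟨LinearIndependent.pair_symm_iff.1 (indep (fun h => ?_) hx0), fun h => ?_⟩
    · obtain ⟨c, rfl⟩ := mem_span_singleton.1 h
      simp [a1] at hy
    · obtain ⟨a, b, e⟩ := mem_span_pair.1 h
      have := congrArg α e
      simp only [map_add, map_smul, hy, a1, a2, smul_eq_mul, mul_one, mul_zero, add_zero] at this
      rw [this, zero_smul, zero_add] at e
      exact hx (mem_span_singleton.2 ⟨b, e⟩)
  by_cases hy : L B y ∈ span F {x, y, L B x}
  · obtain ⟨a, b, c, e⟩ := mem_span_triple.1 hy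
    obtain ⟨i1, i2⟩ := ind (y - c • x) (by simp [a1, a3])
    obtain ⟨g, h1, h2⟩ := H65.exists_sl_pair hn i1 (indep hv hv0)
    rw [← L_apply] at h1 h2
    refine both_of g (y - c • x) x (by rw [h1, h2]) fun h => i2 ?_
    have m : L g (L B (y - c • x)) ∈ span F {v, L A v} := by
      rw [← h2, ← h1, L_mem_pair]
      refine mem_span_pair.2 ⟨b, a + b * c, ?_⟩
      rw [map_sub, map_smul, ← e]; module
    rw [← L_mem_pair g]
    rw [h1, h2] at h ⊢
    simpa using sub_mem (inv _ m) h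
  obtain ⟨i1, i2⟩ := ind y a3
  obtain ⟨g, h1, h2⟩ := H65.exists_sl_pair hn i1 (indep hv hv0)
  rw [← L_apply] at h1 h2
  by_cases hT : L A (L g (L B y)) - L g (L B x) ∈ span F {L g y, L g x}
  swap
  · exact both_of g y x (by rw [h1, h2]) hT
  have hBx : L B x ∉ span F {x, y, L B y} := by
    intro h
    obtain ⟨a, b, c, e⟩ := mem_span_triple.1 h
    have hc : c ≠ 0 := by
      rintro rfl
      exact i2 (mem_span_pair.2 ⟨b, a, by rw [← e]; module⟩)
    refine hy (mem_span_triple.2 ⟨-a / c, -b / c, 1 / c, ?_⟩)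
    rw [← e]
    match_scalars <;> field_simp <;> ring
  obtain ⟨ψ, p1, p2⟩ := dual_of hBx
  have p3 : ψ x = 0 := p1 _ (by simp)
  have p4 : ψ y = 0 := p1 _ (by simp)
  have p5 : ψ (L B y) = 0 := p1 _ (by simp)
  refine both_of (g * H65.slT (L B y) ψ) y x (by simp [L_mul, L_slT p5, p3, p4, h1, h2]) ?_
  simp only [L_mul, L_slT p5, p2, p3, p4, p5, zero_smul, add_zero, one_smul, map_add]
  intro h
  have := sub_mem hT h
  rw [sub_sub_sub_cancel_left, add_sub_cancel_left, L_mem_pair] at this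
  exact hy (span_mono (by intro z; simp; tauto) this)

theorem both (hn : 3 ≤ n) {A B : Matrix.SpecialLinearGroup (Fin n) F}
    (hA : A ∉ Subgroup.center (Matrix.SpecialLinearGroup (Fin n) F))
    (hB : B ∉ Subgroup.center (Matrix.SpecialLinearGroup (Fin n) F)) : Both A B := by
  obtain ⟨v, hv0, hv⟩ := exists_noneigen hA
  obtain ⟨u, hu0, hu⟩ := exists_noneigen hB
  by_cases h1 : L B (L B u) ∈ span F {u, L B u}
  · by_cases h2 : L A (L A v) ∈ span F {v, L A v}
    · exact case2 hn hv0 hv hu0 hu h2 h1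
    · exact (case1 hn hu0 hu hv0 hv h2).symm
  · exact case1 hn hv0 hv hu0 hu h1


/-- Let F be a finite field and d ≥ 3, and let a, b be non-identity elements of PSL_d(F). Then the product of the conjugacy classes of a and b is not a single conjugacy class: there are conjugates a′ of a and b′ of b such that a′b′ is not conjugate to ab. -/
theorem result {F : Type*} [Field F] [Fintype F] (d : ℕ) (hd : 3 ≤ d)
    (a b : Matrix.ProjectiveSpecialLinearGroup (Fin d) F) (ha : a ≠ 1) (hb : b ≠ 1) :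
    ∃ g h : Matrix.ProjectiveSpecialLinearGroup (Fin d) F, ¬ IsConj (a * b) (g * a * g⁻¹ * (h * b * h⁻¹)) := by
  classical
  obtain ⟨A, rfl⟩ := QuotientGroup.mk_surjective a
  obtain ⟨B, rfl⟩ := QuotientGroup.mk_surjective b
  rw [Ne, QuotientGroup.eq_one_iff] at ha hb
  obtain ⟨g, h, e⟩ := both hd ha hb (if trace (A * B).1 = 0 then 1 else 0)
  refine ⟨QuotientGroup.mk g, QuotientGroup.mk h, fun hc => ?_⟩
  obtain ⟨c, hc⟩ := isConj_iff.1 hc
  obtain ⟨C, rfl⟩ := QuotientGroup.mk_surjective c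
  simp only [← QuotientGroup.mk_mul, ← QuotientGroup.mk_inv] at hc
  obtain ⟨r, hr⟩ := H29.psl_mk_eq_iff.1 hc
  obtain ⟨s, hs⟩ := H29.psl_mk_eq_iff.1 hc.symm
  have e2 : trace (C * (A * B) * C⁻¹).1 = trace (A * B).1 := by
    show trace (C.1 * (A * B).1 * (C⁻¹).1) = _
    rw [trace_mul_comm, ← mul_assoc, H29.sl_inv_mul, one_mul]
  have h1 := congrArg trace hr
  have h2 := congrArg trace hs
  rw [trace_smul, e, e2] at h1 h2
  split_ifs at h1 h2 with h0
  · rw [h0, smul_zero] at h1; exact one_ne_zero h1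
  · exact h0 (by simpa using h2)

end Cfsg.Agent.S2272
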