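import Cfsg.Statements.S2276
import Cfsg.Agent.H3.AltP3

set_option autoImplicit false
open Cfsg

namespace Cfsg.Agent.S2276

/-- Let n ≥ 5, p ≥ 3 a prime, and u, w non-identity elements of p-power order in the alternating group A_n. Then there is g ∈ A_n such that u·(g w g⁻¹) does not have p-power order and ⟨u, g w g⁻¹⟩ is not solvable. -/
theorem result (n : ℕ) (hn : 5 ≤ n) (p : ℕ) (hp : p.Prime) (hp3 : 3 ≤ p) (u w : alternatingGroup (Fin n)) (hu : u ≠ 1) (hw : w ≠ 1)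
    (hu' : ∃ k : ℕ, orderOf u = p ^ k) (hw' : ∃ k : ℕ, orderOf w = p ^ k) :
    ∃ g : alternatingGroup (Fin n), (¬ ∃ k : ℕ, orderOf (u * (g * w * g⁻¹)) = p ^ k) ∧
      ¬ Group.IsSolvable ↥(Subgroup.closure ({u, g * w * g⁻¹} : Set (alternatingGroup (Fin n)))) := by
  have k : ∀ {u : alternatingGroup (Fin n)}, (∃ k : ℕ, orderOf u = p ^ k) → ∃ k : ℕ, u.1 ^ p ^ k = 1 :=
    fun {u} h => h.imp fun k hk => by rw [← hk, ← Subgroup.coe_pow, pow_orderOf_eq_one, Subgroup.coe_one]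
  obtain ⟨τ, h1, h2⟩ := H3.AltP.main (by simpa using hn) hp hp3 (k hu') (fun h => hu (Subtype.ext h)) (k hw')
    (fun h => hw (Subtype.ext h)) 1
  have := H3.AltP.Good.of_map (alternatingGroup (Fin n)).subtype (a := u) (b := ⟨τ, h1⟩ * w * ⟨τ, h1⟩⁻¹) h2
  exact ⟨⟨τ, h1⟩, fun ⟨j, hj⟩ => this.1 ⟨j, hj ▸ pow_orderOf_eq_one _⟩, this.2⟩

end Cfsg.Agent.S2276
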