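import Cfsg.Statements.S2277
import Cfsg.Agent.H48.Coprime
import Cfsg.Agent.H49.Hall

set_option autoImplicit false
open Cfsg

namespace Cfsg.Agent.S2277

open Subgroup Cfsg.Agent.H49
open scoped commutatorElement

theorem exists_second_center {Q : Type*} [Group Q] [Finite Q] {p : ℕ} [Fact p.Prime]
    (hQ : IsPGroup p Q) (hn : center Q ≠ ⊤) : ∃ e : Q, e ∉ center Q ∧ ∀ g, ⁅e, g⁆ ∈ center Q := by
  have : Nontrivial (Q ⧸ center Q) := QuotientGroup.nontrivial_iff.2 hn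
  have := (hQ.to_quotient (center Q)).center_nontrivial
  obtain ⟨⟨x, hx⟩, h1⟩ := exists_ne (1 : center (Q ⧸ center Q))
  obtain ⟨e, rfl⟩ := QuotientGroup.mk_surjective x
  refine ⟨e, fun h => h1 (Subtype.ext ((QuotientGroup.eq_one_iff e).2 h)), fun g => ?_⟩
  rw [← QuotientGroup.eq_one_iff, ← QuotientGroup.mk'_apply, map_commutatorElement,
    commutatorElement_eq_one_iff_mul_comm]
  exact (mem_center_iff.1 hx _).symm

variable {G : Type*} [Group G] [Finite G] {p : ℕ} [hp : Fact p.Prime] {P M : Subgroup G}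

omit [Finite G] hp in
theorem comm_of_comm (hP : IsPGroup p P) (hc : (Nat.card M).Coprime p) {c x y : G} (hcP : c ∈ P)
    (hy : y ∈ M) (e : c * x * c⁻¹ = y * x) (h : c * y = y * c) : x * c = c * x := by
  have h1 : ∀ n : ℕ, c ^ n * x * (c ^ n)⁻¹ = y ^ n * x := fun n => by
    induction n with
    | zero => simp
    | succ n ih =>
      calc c ^ (n + 1) * x * (c ^ (n + 1))⁻¹ = c * (c ^ n * x * (c ^ n)⁻¹) * c⁻¹ := by group
        _ = c * y ^ n * c⁻¹ * (c * x * c⁻¹) := by rw [ih]; group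
        _ = y ^ (n + 1) * x := by
          rw [((Commute.pow_right h n).eq : c * y ^ n = y ^ n * c), e]; group
  obtain ⟨k, hk⟩ := hP ⟨c, hcP⟩
  have h2 := h1 (p ^ k)
  rw [show c ^ p ^ k = 1 from congrArg Subtype.val hk, one_mul, inv_one, mul_one, eq_comm,
    mul_eq_right, ← orderOf_dvd_iff_pow_eq_one] at h2
  have h3 : y = 1 := orderOf_eq_one_iff.1
    (Nat.eq_one_of_dvd_coprimes (hc.pow_right k) (M.orderOf_dvd_natCard hy) h2)
  rw [h3, one_mul, mul_inv_eq_iff_eq_mul] at e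
  exact e.symm

theorem exists_small (hp3 : 3 ≤ p) (hP : IsPGroup p P) (hM : P ≤ 𝒩(M))
    (hc : (Nat.card M).Coprime p) (hne : ¬ P ≤ 𝒞(M))
    (ih : ∀ Y < M, P ≤ 𝒩(Y) → Y ≤ 𝒞(P)) (hder : ⁅M, M⁆ ≤ 𝒞(P)) {C : Set G}
    (hC : closure C = P) : ∃ c ∈ C,
      Nat.card ↥(M ⊓ 𝒞[c]) ^ 3 ≤ Nat.card M * Nat.card ↥(M ⊓ 𝒞(P)) ^ 2 := by
  have hK : ((𝒞(M)).subgroupOf P).Normal := normal_subgroupOf (norm_cent hM)
  let f := QuotientGroup.mk' ((𝒞(M)).subgroupOf P)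
  have hf : ∀ u : P, f u = 1 ↔ (u : G) ∈ 𝒞(M) := fun u => QuotientGroup.eq_one_iff u
  have hCP : ∀ c ∈ C, c ∈ P := fun c h => hC ▸ subset_closure h
  have hgen : ∀ X : Subgroup (P ⧸ (𝒞(M)).subgroupOf P), (∀ c (h : c ∈ C), f ⟨c, hCP c h⟩ ∈ X) →
      X = ⊤ := fun X hX => by
    have h1 : P ≤ (X.comap f).map P.subtype := by
      conv_lhs => rw [← hC]
      exact (closure_le _).2 fun c h => ⟨⟨c, hCP c h⟩, hX c h, rfl⟩
    refine top_unique fun x _ => ?_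
    obtain ⟨u, rfl⟩ := QuotientGroup.mk'_surjective _ x
    obtain ⟨v, hv, e⟩ := h1 u.2
    exact (Subtype.ext e : v = u) ▸ hv
  have hnorm : ∀ u v : P, f u * f v = f v * f u → ∀ x ∈ M ⊓ 𝒞[(v : G)],
      u * x * (u : G)⁻¹ ∈ M ⊓ 𝒞[(v : G)] := fun u v e x hx => by
    refine ⟨conj_mem_of_norm hM u.2 hx.1, mem_cent1.2 ?_⟩
    have h1 : ((u * v)⁻¹ * (v * u) : P).1 ∈ 𝒞(M) := (hf _).1 (by
      rw [map_mul, map_inv, map_mul, map_mul, e, inv_mul_cancel])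
    have h2 : x * (((u : G) * v)⁻¹ * (v * u)) = ((u : G) * v)⁻¹ * (v * u) * x := h1 x hx.1
    have h3 : x * (v : G) = v * x := mem_cent1.1 hx.2
    have h4 : (v : G) * u * x * ((v : G) * u)⁻¹ = u * x * (u : G)⁻¹ :=
      calc (v : G) * u * x * ((v : G) * u)⁻¹
          = u * v * (((u : G) * v)⁻¹ * (v * u) * x) * ((v : G) * u)⁻¹ := by group
        _ = u * (v * x) * (v : G)⁻¹ * (u : G)⁻¹ := by rw [← h2]; group
        _ = _ := by rw [← h3]; group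
    conv_lhs => rw [← h4]
    group
  have hZ : ∀ u : P, f u ∈ center _ → f u ≠ 1 → M ⊓ 𝒞[(u : G)] ≤ 𝒞(P) := fun u hu h1 =>
    ih _ (lt_of_le_of_ne inf_le_left fun h => h1 ((hf u).2 (le_cent1_iff.1 (inf_eq_left.1 h))))
      (le_norm_iff.2 fun a ha => hnorm ⟨a, ha⟩ u (mem_center_iff.1 hu _))
  have hZle : ∀ u ∈ P, M ⊓ 𝒞(P) ≤ M ⊓ 𝒞[u] := fun u hu => inf_le_inf_left _ (cent_le_cent1 hu)
  by_cases hab : center (P ⧸ (𝒞(M)).subgroupOf P) = ⊤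
  · obtain ⟨c, hcC, h1⟩ : ∃ c, ∃ h : c ∈ C, f ⟨c, hCP c h⟩ ≠ 1 := by
      by_contra! h
      refine hne fun u hu => (hf ⟨u, hu⟩).1 (mem_bot.1 ?_)
      rw [hgen ⊥ h]
      trivial
    refine ⟨c, hcC, ?_⟩
    have h2 : M ⊓ 𝒞[c] ≤ M ⊓ 𝒞(P) := le_inf inf_le_left (hZ ⟨c, hCP c hcC⟩ (hab ▸ mem_top _) h1)
    rw [pow_succ']
    exact Nat.mul_le_mul (card_le_of_le inf_le_left) (Nat.pow_le_pow_left (card_le_of_le h2) 2)
  obtain ⟨e', he, hec⟩ := exists_second_center (hP.to_quotient ((𝒞(M)).subgroupOf P)) hab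
  obtain ⟨e, rfl⟩ := QuotientGroup.mk'_surjective _ e'
  obtain ⟨c', hcC, h1⟩ : ∃ c, ∃ h : c ∈ C, ⁅f e, f ⟨c, hCP c h⟩⁆ ≠ 1 := by
    by_contra! h
    refine he (mem_center_iff.2 fun g => mem_cent1.1 ?_)
    rw [hgen 𝒞[f e] fun c hc => mem_cent1.2 (commutatorElement_eq_one_iff_mul_comm.1 (h c hc)).symm]
    trivial
  refine ⟨c', hcC, ?_⟩
  set c : P := ⟨c', hCP c' hcC⟩
  set z := ⁅f e, f c⁆ with hz
  have zc : z ∈ center _ := hec (f c)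
  have zc' : ∀ g, g * z = z * g := mem_center_iff.1 zc
  have cz : Commute z (f c) := (zc' _).symm
  have zz : z * z ≠ 1 := fun h => by
    obtain ⟨k, hk⟩ := (hP.to_quotient ((𝒞(M)).subgroupOf P)) z
    have h2 : orderOf z ∣ 2 := orderOf_dvd_of_pow_eq_one (by rwa [pow_two])
    exact h1 (orderOf_eq_one_iff.1 (Nat.eq_one_of_dvd_coprimes
      (((Nat.coprime_primes Nat.prime_two hp.out).2 (by omega)).pow_right k) h2
      (orderOf_dvd_of_pow_eq_one hk)))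
  set c₁ := e * c * e⁻¹
  set c₂ := e * c₁ * e⁻¹
  have f1 : f c₁ = z * f c := by
    rw [map_mul, map_mul, map_inv, hz, commutatorElement_def, inv_mul_cancel_right]
  have f2 : f c₂ = z * z * f c := by
    rw [map_mul, map_mul, map_inv, f1, ← mul_assoc, zc', mul_assoc, mul_assoc, mul_assoc,
      ← mul_assoc (f e), ← map_inv, ← map_mul, ← map_mul, f1]
  have hI : ∀ u v : P, f u * (f v)⁻¹ ∈ center _ → f u * (f v)⁻¹ ≠ 1 →
      (M ⊓ 𝒞[(u : G)]) ⊓ (M ⊓ 𝒞[(v : G)]) = M ⊓ 𝒞(P) := fun u v h2 h3 => by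
    refine le_antisymm (fun x hx => ⟨hx.1.1, hZ (u * v⁻¹) (by rwa [map_mul, map_inv])
      (by rwa [map_mul, map_inv]) ⟨hx.1.1, mem_cent1_comm.1 ?_⟩⟩) (le_inf (hZle _ u.2) (hZle _ v.2))
    exact mul_mem (mem_cent1_comm.1 hx.1.2) (inv_mem (mem_cent1_comm.1 hx.2.2))
  have i10 := hI c₁ c (by rwa [f1, mul_inv_cancel_right]) (by rwa [f1, mul_inv_cancel_right])
  have i20 := hI c₂ c (by rw [f2, mul_inv_cancel_right]; exact mul_mem zc zc)
    (by rwa [f2, mul_inv_cancel_right])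
  have e21 : f c₂ * (f c₁)⁻¹ = z := by rw [f2, f1]; group
  have i21 := hI c₂ c₁ (by rwa [e21]) (by rwa [e21])
  have hn : ∀ Y : Subgroup G, M ⊓ 𝒞(P) ≤ Y → Y ≤ M → ∀ X ≤ M, X ≤ 𝒩(Y) := fun Y h2 h3 X hX =>
    hX.trans (norm_of_der_le ((le_inf der_le hder).trans h2) h3)
  have n1 := hn _ (hZle _ c₁.2) inf_le_left _ (inf_le_left : M ⊓ 𝒞[(c₂ : G)] ≤ M)
  have i3 : (M ⊓ 𝒞[(c : G)]) ⊓ ((M ⊓ 𝒞[(c₂ : G)]) ⊔ (M ⊓ 𝒞[(c₁ : G)])) = M ⊓ 𝒞(P) := by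
    refine le_antisymm (fun x hx => ?_) (le_inf (hZle _ c.2) ((hZle _ c₁.2).trans le_sup_right))
    obtain ⟨a, ha, b, hb, hab⟩ := (mem_sup_of_norm_left n1).1 (sup_comm (M ⊓ 𝒞[(c₂ : G)]) _ ▸ hx.2)
    have h2 : (c₂ : G) * x * (c₂ : G)⁻¹ * x⁻¹ ∈ M ⊓ 𝒞(P) := by
      rw [← i10]
      refine ⟨?_, Subgroup.mul_mem _ (hnorm c₂ c (by
        rw [f2]; exact ((cz.mul_left cz).mul_left (Commute.refl _)).eq) x hx.1) (Subgroup.inv_mem _ hx.1)⟩
      have h3 : (c₂ : G) * x * (c₂ : G)⁻¹ * x⁻¹ = (c₂ : G) * a * (c₂ : G)⁻¹ * a⁻¹ := by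
        rw [hab, ← mul_assoc, mul_assoc _ b, ((Commute.inv_right (mem_cent1.1 hb.2)).eq :
          b * (c₂ : G)⁻¹ = (c₂ : G)⁻¹ * b)]
        group
      rw [h3]
      refine Subgroup.mul_mem _ (hnorm c₂ c₁ ?_ a ha) (Subgroup.inv_mem _ ha)
      rw [f2, f1, mul_assoc z z]
      exact (Commute.mul_left (zc' _).symm (Commute.refl _)).eq
    rw [← i20]
    exact ⟨⟨hx.1.1, mem_cent1.2 (comm_of_comm hP hc c₂.2 h2.1 (inv_mul_cancel_right _ _).symm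
      (h2.2 _ c₂.2))⟩, hx.1⟩
  have k1 := card_sup_mul_card_inf (Or.inl n1)
  have k2 := card_sup_mul_card_inf (Or.inr (hn _ (hZle _ c.2) inf_le_left _
    (sup_le inf_le_left inf_le_left : (M ⊓ 𝒞[(c₂ : G)]) ⊔ (M ⊓ 𝒞[(c₁ : G)]) ≤ M)))
  have k3 : ∀ u : P, Nat.card ↥(M ⊓ 𝒞[((e * u * e⁻¹ : P) : G)]) = Nat.card ↥(M ⊓ 𝒞[(u : G)]) :=
    fun u => by
      rw [← card_cj (e : G) (M ⊓ 𝒞[(u : G)]), cj_inf, cj_cent1, cj_eq_of_mem_norm (hM e.2)]
      rfl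
  rw [i21, k3, k3] at k1
  rw [i3] at k2
  have k4 := card_le_of_le (sup_le inf_le_left (sup_le inf_le_left inf_le_left) :
    (M ⊓ 𝒞[(c : G)]) ⊔ ((M ⊓ 𝒞[(c₂ : G)]) ⊔ (M ⊓ 𝒞[(c₁ : G)])) ≤ M)
  calc Nat.card ↥(M ⊓ 𝒞[(c : G)]) ^ 3 = _ := by rw [pow_succ', pow_two, ← k1, ← mul_assoc, ← k2]
    _ ≤ _ := by rw [mul_assoc, ← pow_two]; exact Nat.mul_le_mul_right _ k4

theorem main (hp3 : 3 ≤ p) (hP : IsPGroup p P) {C D : Set G} (hC : closure C = P)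
    (hD : closure D = P) (M : Subgroup G) : P ≤ 𝒩(M) → (Nat.card M).Coprime p →
    (∀ x ∈ M, ∀ c ∈ C, ∀ d ∈ D, IsPGroup p ↥(closure ({x * c * x⁻¹, d} : Set G))) →
    P ≤ 𝒞(M) := by
  induction M using WellFoundedLT.induction with | ind M ih0 =>
  intro hM hc h
  by_contra hne
  have ih : ∀ Y < M, P ≤ 𝒩(Y) → Y ≤ 𝒞(P) := fun Y hY hn => cent_symm (ih0 Y hY hn
    (hc.coprime_dvd_left (card_dvd_of_le hY.le)) fun x hx => h x (hY.le hx))
  have cop : ∀ {A : Subgroup G}, IsPGroup p A → (Nat.card A).Coprime (Nat.card M) := fun hA => by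
    obtain ⟨n, hn⟩ := hA.exists_card_eq
    exact hn ▸ hc.symm.pow_left n
  have hs : ∀ {q : ℕ} [Fact q.Prime] {A : Subgroup G}, IsPGroup q A → Group.IsSolvable A :=
    fun hA => have := hA.isNilpotent; inferInstance
  have hder : ⁅M, M⁆ ≤ 𝒞(P) := by
    by_cases hsol : Group.IsSolvable M
    · exact ih _ (der_lt_of_solvable hsol fun h => hne (h ▸ le_cent_bot P)) (norm_commutator hM hM)
    · refine (hne (cent_symm (le_of_sylowOf_le fun q hq _ => ?_))).elim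
      have := Fact.mk hq
      obtain ⟨R, h1, h2⟩ := H48.exists_inv_sylIn hM (cop hP) (Or.inl (hs hP)) q
      exact ⟨R, (sylowOf_iff hq).2 ⟨h1.le, h1.pgroup, h1.not_dvd_relIndex⟩,
        ih R (lt_of_le_of_ne h1.le fun e => hsol (e ▸ hs h1.pgroup)) h2⟩
  obtain ⟨c, hcC, h1⟩ := exists_small hp3 hP hM hc hne ih hder hC
  obtain ⟨d, hdD, h2⟩ := exists_small hp3 hP hM hc hne ih hder hD
  have hcP : c ∈ P := hC ▸ subset_closure hcC
  have hdP : d ∈ P := hD ▸ subset_closure hdD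
  have hfix : ∀ n ∈ M, ∀ u ∈ P, n * u * n⁻¹ ∈ P → n ∈ 𝒞[u] := fun n hn u hu e => by
    have h3 : n * u * n⁻¹ * u⁻¹ ∈ P ⊓ M := ⟨P.mul_mem e (P.inv_mem hu), by
      rw [mul_assoc, mul_assoc, ← mul_assoc u]
      exact M.mul_mem hn (conj_mem_of_norm hM hu (M.inv_mem hn))⟩
    rw [H49.inf_eq_bot_of_coprime (cop hP), mem_bot, mul_inv_eq_one, mul_inv_eq_iff_eq_mul] at h3
    exact mem_cent1.2 h3
  have hprod : IsProd (M ⊓ 𝒞[d]) (M ⊓ 𝒞[c]) M := by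
    refine ⟨inf_le_left, inf_le_left, fun x hx => ?_⟩
    have hA : closure ({x * c * x⁻¹, d} : Set G) ≤ M ⊔ P := (closure_le _).2 (by
      rintro _ (rfl | rfl)
      · exact mul_mem (mul_mem (mem_sup_left hx) (mem_sup_right hcP)) (inv_mem (mem_sup_left hx))
      · exact mem_sup_right hdP)
    obtain ⟨n, hn, h3⟩ := sz_subJ (hA.trans (sup_le le_normalizer hM)) (cop (h x hx c hcC d hdD))
      (Or.inl (hs (h x hx c hcC d hdD))) hM hA
    refine ⟨n⁻¹, inv_mem ⟨hn, hfix n hn d hdP (h3 (conj_mem_cj.2 (subset_closure (by simp))))⟩,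
      n * x, ⟨M.mul_mem hn hx, hfix _ (M.mul_mem hn hx) c hcP ?_⟩, by group⟩
    have := h3 (conj_mem_cj.2 (subset_closure (Set.mem_insert _ _)))
    rwa [show n * (x * c * x⁻¹) * n⁻¹ = n * x * c * (n * x)⁻¹ by group] at this
  have h3 := hprod.card_mul
  have h4 := card_le_of_le (le_inf (inf_le_inf_left M (cent_le_cent1 hdP))
    (inf_le_inf_left M (cent_le_cent1 hcP)) : M ⊓ 𝒞(P) ≤ (M ⊓ 𝒞[d]) ⊓ (M ⊓ 𝒞[c]))
  have h5 := card_lt_of_lt (lt_of_le_of_ne (inf_le_left : M ⊓ 𝒞(P) ≤ M) fun e =>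
    hne (cent_symm (inf_eq_left.1 e)))
  have h6 := card_pos' (M ⊓ 𝒞(P))
  generalize Nat.card ↥(M ⊓ 𝒞(P)) = z at *
  generalize Nat.card M = m at *
  have h7 : (m * z) ^ 3 ≤ m * z ^ 2 * (m * z ^ 2) :=
    ((Nat.pow_le_pow_left ((Nat.mul_le_mul_left m h4).trans h3.le) 3).trans_eq (mul_pow _ _ _)).trans
      (Nat.mul_le_mul h2 h1)
  have h8 : m ^ 2 * z ^ 3 * m ≤ m ^ 2 * z ^ 3 * z := by
    calc m ^ 2 * z ^ 3 * m = (m * z) ^ 3 := by ring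
      _ ≤ _ := h7
      _ = _ := by ring
  have := Nat.le_of_mul_le_mul_left h8 (by have : 0 < m := h6.trans h5; positivity)
  omega

/-- Let p ≥ 3 be prime and G a finite group with a Sylow p-subgroup P and a normal p-complement N (N normal, of order prime to p, with NP = G). Suppose P is generated by a subset C and also by a subset D, and that ⟨x c x⁻¹, d⟩ is a p-group for all x ∈ N, c ∈ C, d ∈ D. Then P centralizes N, so that G = N × P. -/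
theorem result {G : Type*} [Group G] [Finite G] (p : ℕ) [Fact p.Prime] (hp3 : 3 ≤ p) (P : Sylow p G)
    (N : Subgroup G) [N.Normal] (hN : (Nat.card N).Coprime p) (hNP : N ⊔ (P : Subgroup G) = ⊤)
    (C D : Set G) (hC : Subgroup.closure C = (P : Subgroup G)) (hD : Subgroup.closure D = (P : Subgroup G))
    (h : ∀ x ∈ N, ∀ c ∈ C, ∀ d ∈ D, IsPGroup p ↥(Subgroup.closure ({x * c * x⁻¹, d} : Set G))) :
    ⁅(P : Subgroup G), N⁆ = ⊥ := by
  exact commutator_eq_bot_iff.2 (main hp3 P.isPGroup' hC hD N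
    (le_top.trans (normal_iff_top_le_norm.1 inferInstance)) hN h)

end Cfsg.Agent.S2277
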