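import Cfsg.Statements.S2281
import Cfsg.Agent.H84.CUSp4
import Cfsg.Agent.H84.CUSp62

set_option autoImplicit false
set_option linter.style.haveILetI false
open Cfsg

namespace Cfsg.Agent.S2281

/-- Let F be a finite field and n ≥ 2, excluding the case n = 2 with F of two elements (where the group is not quasisimple). Then the symplectic group Sp_2n(F) is generated by three conjugate regular unipotent elements: there are u ∈ Sp_2n(F) with u − 1 nilpotent and (u − 1)^(2n−1) ≠ 0, and g, h ∈ Sp_2n(F), such that u, g u g⁻¹ and h u h⁻¹ generate Sp_2n(F). -/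
theorem result {F : Type*} [Field F] [Fintype F] (n : ℕ) (hn : 2 ≤ n) (h22 : ¬ (n = 2 ∧ Fintype.card F = 2)) :
    ∃ u g h : Matrix.symplecticGroup (Fin n) F,
      IsNilpotent ((u : Matrix (Fin n ⊕ Fin n) (Fin n ⊕ Fin n) F) - 1) ∧
      ((u : Matrix (Fin n ⊕ Fin n) (Fin n ⊕ Fin n) F) - 1) ^ (2 * n - 1) ≠ 0 ∧
      Subgroup.closure ({u, g * u * g⁻¹, h * u * h⁻¹} : Set (Matrix.symplecticGroup (Fin n) F)) = ⊤ := by
  by_cases h32 : n = 3 ∧ Fintype.card F = 2
  · obtain ⟨rfl, hF⟩ := h32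
    exact H84.Sp62.gen hF
  have hl : Fintype.card F ≠ 2 → (2 : F) = 0 → ∃ l : F, l ≠ 0 ∧ l ^ 2 ≠ 1 := fun hF h2 => by
    by_contra hc
    push Not at hc
    refine hF (le_antisymm ?_ Fintype.one_lt_card)
    classical
    refine (Finset.card_le_card (t := {0, 1}) fun l _ => ?_).trans Finset.card_le_two
    by_cases h0 : l = 0
    · simp [h0]
    · have := hc l h0
      simp [show l = 1 by grind]
  refine H84.CU.G3.sp (n := 2 * n) ?_
  rcases hn.eq_or_lt with rfl | hn
  · exact H84.CU.sp_two (hl fun h => h22 ⟨rfl, h⟩)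
  · exact H84.CU.sp_three_le hn fun h3 => (em _).imp_left (hl fun h => h32 ⟨h3, h⟩)

end Cfsg.Agent.S2281
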