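import Cfsg.Statements.S2338
import Cfsg.Agent.H65.G2g
import Cfsg.Agent.H33.SubCh
import Cfsg.Agent.S1055
import Cfsg.Agent.S1059

set_option autoImplicit false
open Cfsg

namespace Cfsg.Agent.S2338

/-- Lower bounds for the degrees of non-linear irreducible complex representations of the Chevalley group of type G₂ over a finite field with q elements: the degree is at least q³ + 1 when q ≡ 1 (mod 3) and q > 4, at least q³ − 1 when q ≡ 2 (mod 3) and q > 2, and at least q⁴ + q² + 1 when q ≡ 0 (mod 3) and q > 3. -/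
theorem result {F : Type*} [Field F] [Fintype F] (k : ℕ) (ρ : Representation ℂ (Cfsg.Lie.chevG2.group F) (Fin k → ℂ)) (hρ : ρ.IsIrreducible) (hk : 2 ≤ k) :
    (Fintype.card F % 3 = 1 → 4 < Fintype.card F → Fintype.card F ^ 3 + 1 ≤ k) ∧
    (Fintype.card F % 3 = 2 → 2 < Fintype.card F → Fintype.card F ^ 3 - 1 ≤ k) ∧
    (Fintype.card F % 3 = 0 → 3 < Fintype.card F → Fintype.card F ^ 4 + Fintype.card F ^ 2 + 1 ≤ k) := by
  open H37 in
  have hD : IsChev Cfsg.Lie.chevG2 := by simp
  obtain ⟨inst⟩ := H37.nonempty_chev hD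
  obtain ⟨ψ, hψ⟩ := H65.exists_addChar (F := F) (K := ℂ)
    (Nat.cast_ne_zero.2 (CharP.char_is_prime F (ringChar F)).ne_zero)
  let R : H65.GD F _ _ := ⟨H33.ss F hD, ρ, ψ, hψ⟩
  have hx : ∀ r < 12, ∀ t, R.S.x r t = 1 → t = 0 := fun r hr t h =>
    H40.x_eq_one (H37.matRel_sep hD F) hr (congrArg Subtype.val h)
  have hf : 2 < Fintype.card F → Function.Injective ρ := fun h => by
    classical
    have := (S1055.result (F := F) (by
      by_contra! hc
      have := Finset.card_le_card (show Finset.univ ⊆ ({0, 1} : Finset F) from fun a _ => by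
        by_cases ha : a = 0 <;> simp [ha, hc a])
      have := Finset.card_le_two (a := (0 : F)) (b := 1)
      rw [Finset.card_univ] at *
      omega)).1
    refine (MonoidHom.ker_eq_bot_iff _).1 ((Subgroup.Normal.eq_bot_or_eq_top inferInstance).resolve_right fun e => ?_)
    let v : Fin k → ℂ := Pi.single ⟨0, by omega⟩ 1
    have hv : v ≠ 0 := fun h => by simpa [v] using congrFun h ⟨0, by omega⟩
    rcases eq_bot_or_eq_top (⟨ℂ ∙ v, fun g w hw => by
      rwa [show ρ g = 1 from (e.ge (Subgroup.mem_top g) :)]⟩ : Subrepresentation ρ) with h | h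
    · exact hv (Submodule.span_singleton_eq_bot.1 (congrArg Subrepresentation.toSubmodule h))
    · have := finrank_span_singleton (K := ℂ) hv
      rw [show (ℂ ∙ v) = ⊤ from congrArg Subrepresentation.toSubmodule h] at this
      simp at this
      omega
  have h1 : 2 < Fintype.card F → R.X 11 1 ≠ 1 := fun h e =>
    one_ne_zero (hx 11 (by decide) 1 (hf h (e.trans (map_one _).symm)))
  refine ⟨fun h3 h4 => by simpa using R.bound_one h3 h4 (hf (by omega)) hx,
    fun h3 h2 => by simpa using R.bound_two h3 h2 (h1 h2), fun h3 h2 => ?_⟩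
  have : Finite (Cfsg.Lie.chevG2.group F) := inferInstance
  simpa using R.bound_three h3 h2 (h1 (by omega)) (S1059.result (F := F) rfl ▸
    H5.degree_dvd_card ⟨k, ρ, hρ, rfl⟩ (by simp))

end Cfsg.Agent.S2338
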