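import Cfsg.Statements.S2356
import Cfsg.Agent.H11.SUInv
import Cfsg.Agent.H67.FinField

set_option autoImplicit false
open Cfsg

namespace Cfsg.Agent.S2356

/-- Let q be odd, F the field with q² elements, S = SU_3(F) (determinant-one isometries of the standard Hermitian form) and t an involution of S. Then: exactly q(q−1) involutions other than t commute with t; exactly q(q−2)(q²−1) involutions do not commute with t but commute with some involution commuting with t; exactly (q+1)(q²−1) involutions x do not commute with t and admit no involution commuting with both t and x; and every involution can be reached from t in at most three steps, each step going to an involution that commutes with the previous one (the commuting involution graph is connected of diameter 3). -/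
theorem result {F : Type*} [Field F] [Fintype F] {q : ℕ} (hq : Odd q)
    (hF : Fintype.card F = q ^ 2) (t : ↥(Cfsg.SU 3 F q)) (ht : t ≠ 1) (ht2 : t * t = 1) :
    Nat.card {x : ↥(Cfsg.SU 3 F q) // x ≠ 1 ∧ x * x = 1 ∧ x ≠ t ∧ Commute t x} = q * (q - 1) ∧
    Nat.card {x : ↥(Cfsg.SU 3 F q) // x ≠ 1 ∧ x * x = 1 ∧ ¬ Commute t x ∧
        ∃ y : ↥(Cfsg.SU 3 F q), y ≠ 1 ∧ y * y = 1 ∧ Commute t y ∧ Commute y x} = q * (q - 2) * (q ^ 2 - 1) ∧
    Nat.card {x : ↥(Cfsg.SU 3 F q) // x ≠ 1 ∧ x * x = 1 ∧ ¬ Commute t x ∧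
        ∀ y : ↥(Cfsg.SU 3 F q), y ≠ 1 → y * y = 1 → ¬ (Commute t y ∧ Commute y x)} = (q + 1) * (q ^ 2 - 1) ∧
    ∀ x : ↥(Cfsg.SU 3 F q), x ≠ 1 → x * x = 1 →
      ∃ y z : ↥(Cfsg.SU 3 F q), y ≠ 1 ∧ y * y = 1 ∧ z ≠ 1 ∧ z * z = 1 ∧
        Commute t y ∧ Commute y z ∧ Commute z x := by
  classical
  haveI : Fact (Fintype.card F = q ^ 2) := ⟨hF⟩
  have h2 : (2 : F) ≠ 0 := H67.two_ne_zero_of_odd (hF ▸ hq.pow)
  obtain ⟨v, hv⟩ := H11.exists_vec h2 ht ht2
  obtain ⟨r, hr⟩ := Nat.exists_eq_add_of_le' (H10.two_le_q F q)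
  have e1 : q ^ 2 - 1 = (q - 1) * (q + 1) := by
    rw [hr]; exact Nat.sub_eq_of_eq_add (by simp; ring)
  have key : ∀ (P : SU 3 F q → Prop) (R : F → Prop) (N : ℕ), (∀ x w, H11.Rf x w →
      (P x ↔ R (hermForm 3 F q w v) ∧ x ≠ t)) → (∀ a, R a → Nat.card {u : Fin 2 → F //
        hermForm 2 F q u u = 1 - a * H10.cj F q a ∧ u ≠ 0} = N) →
      Nat.card {x : SU 3 F q // x ≠ 1 ∧ x * x = 1 ∧ P x} * (q + 1) = Nat.card {a // R a} * N := by
    intro P R N h1 h3
    rw [H11.card_inv_mul h2 fun x w hw => (h1 x w hw).trans (and_congr_right fun _ =>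
      (hv.eq_iff h2 hw).not), H11.card_unit_herm hv.1 R, Finset.sum_congr rfl (g := fun a =>
        if R a then N else 0) fun a _ => by split_ifs with h; exacts [h3 a h, rfl]]
    simp [Finset.sum_ite, Fintype.card_subtype]
  have hfix : ∀ a : F, H10.cj F q (1 - a * H10.cj F q a) = 1 - a * H10.cj F q a := fun a => by
    rw [map_sub, map_one, H10.cj_norm]
  have hd : ∀ x w, H11.Rf x w → ¬ Commute t x → ((∃ y : SU 3 F q, y ≠ 1 ∧ y * y = 1 ∧
      Commute t y ∧ Commute y x) ↔ hermForm 3 F q w v * H10.cj F q (hermForm 3 F q w v) ≠ 1) := by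
    intro x w hw hc
    rw [← H11.exists_perp_iff hv.1 hw.1 (mt (hv.eq_iff h2 hw).2 fun e => hc (e ▸ Commute.refl _))]
    refine ⟨fun ⟨y, a1, a2, a3, a4⟩ => ?_, fun ⟨z, a1, a2, a3⟩ => ?_⟩
    · obtain ⟨z, hz⟩ := H11.exists_vec h2 a1 a2
      exact ⟨z, hz.1, ((hv.comm_iff h2 hz).1 a3).resolve_right fun e => hc (e ▸ a4),
        ((hw.comm_iff h2 hz).1 a4.symm).resolve_right fun e => hc (e ▸ a3)⟩
    · obtain ⟨y, hy⟩ := H11.exists_rf a1
      exact ⟨y, hy.ne_one h2, hy.mul_self, (hv.comm_iff h2 hy).2 (Or.inl a2),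
        ((hw.comm_iff h2 hy).2 (Or.inl a3)).symm⟩
  have h1 := H10.card_norm_eq_one (F := F) (q := q)
  refine ⟨Nat.eq_of_mul_eq_mul_right q.succ_pos ?_, Nat.eq_of_mul_eq_mul_right q.succ_pos ?_,
    Nat.eq_of_mul_eq_mul_right q.succ_pos ?_, fun x hx hx2 => ?_⟩
  · rw [key _ (· = 0) _ (fun x w hw => by rw [hv.comm_iff h2 hw]; tauto)
      fun a h => H11.card_two_ne (hfix a) (by simp [h]), e1]
    simp [mul_assoc]
  · rw [key _ (fun a => ¬ (a = 0 ∨ a * H10.cj F q a = 1)) _ (fun x w hw => by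
      rw [and_congr_right (hd x w hw), hv.comm_iff h2 hw]; tauto)
      fun a h => H11.card_two_ne (hfix a) (sub_ne_zero.2 fun e => h (Or.inr e.symm)),
      Nat.card_eq_fintype_card, Fintype.card_subtype_compl, Fintype.card_subtype_or_disjoint _ _
        (by simp [Pi.disjoint_iff, Prop.disjoint_iff]), ← Nat.card_eq_fintype_card (α := {a // _ = 1}),
      h1, hF, Fintype.card_subtype_eq, show q ^ 2 - (1 + (q + 1)) = (q - 2) * (q + 1) by
        rw [hr]; exact Nat.sub_eq_of_eq_add (by simp; ring), Nat.succ_eq_add_one]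
    ring
  · rw [key _ (fun a => a * H10.cj F q a = 1) _ (fun x w hw => by
      have h3 := hd x w hw
      have h4 := hv.comm_iff h2 hw
      refine ⟨fun h => ⟨by_contra fun e => ?_, fun e => h.1 (h4.2 (Or.inr e))⟩, fun h => ?_⟩
      · obtain ⟨y, a1, a2, a3⟩ := (h3 h.1).2 e
        exact h.2 y a1 a2 a3
      · have h5 : ¬ Commute t x := fun e => (h4.1 e).elim (fun e => by simp [e] at h) h.2
        exact ⟨h5, fun y a1 a2 a3 => (h3 h5).1 ⟨y, a1, a2, a3⟩ h.1⟩)
      fun a h => by rw [h, sub_self, H11.card_two_zero], h1, mul_assoc]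
  obtain ⟨w, hw⟩ := H11.exists_vec h2 hx hx2
  by_cases hc : Commute t x
  · exact ⟨t, t, ht, ht2, ht, ht2, Commute.refl _, Commute.refl _, hc⟩
  by_cases h3 : hermForm 3 F q w v * H10.cj F q (hermForm 3 F q w v) = 1
  swap
  · obtain ⟨y, a1, a2, a3, a4⟩ := (hd x w hw hc).2 h3
    exact ⟨t, y, ht, ht2, a1, a2, Commute.refl _, a3, a4⟩
  set a := hermForm 3 F q w v with ha
  have h4 : w ≠ a • v := mt (hv.eq_iff h2 hw).2 fun e => hc (e ▸ Commute.refl _)
  obtain ⟨y, a1, a2⟩ := H10.exists_herm_zero_one (q := q) (u := v) (v := w) fun c e => h4 (by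
    rw [ha, e, H10.herm_smul_left, hv.1, mul_one])
  obtain ⟨s, s1, s2, s3⟩ := H10.exists_fixed_ne F (q := q) (by rintro rfl; exact absurd hq (by decide))
  obtain ⟨c, hc'⟩ := H10.exists_trace_eq (q := q) (t := s - hermForm 3 F q y y) (by
    rw [map_sub, s1, H10.cj_herm])
  have hvw := H10.herm_swap ha.symm
  have b1 : hermForm 3 F q (y + c • (w - a • v)) v = 0 := by
    simp [H10.herm_add_left, H10.herm_smul_left, H10.herm_sub_left, a1, hv.1, ha]
  have b2 : hermForm 3 F q (y + c • (w - a • v)) w = 1 := by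
    simp [H10.herm_add_left, H10.herm_smul_left, H10.herm_sub_left, a2, hw.1, hvw, h3]
  have b3 : hermForm 3 F q (y + c • (w - a • v)) (y + c • (w - a • v)) = s := by
    rw [H10.herm_add_right, H10.herm_smul_right, H10.herm_sub_right, H10.herm_smul_right, b1, b2,
      H10.herm_add_left, H10.herm_smul_left, H10.herm_sub_left, H10.herm_smul_left,
      H10.herm_swap_zero a1, H10.herm_swap_one a2]
    linear_combination hc'
  obtain ⟨b, hb, hb'⟩ := H11.exists_unit_smul (b3 ▸ s2)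
  obtain ⟨y', hy'⟩ := H11.exists_rf hb'
  have b4 : b * H10.cj F q b ≠ 1 := by rw [hb, b3]; simpa using s3
  obtain ⟨z, c1, c2, c3⟩ := (H11.exists_perp_iff hw.1 hb' (fun e => b4 (by
    simpa only [H10.herm_smul_left, b2, mul_one] using H11.norm_eq_one_of_eq hw.1 hb' e))).2 (by
      simpa only [H10.herm_smul_left, b2, mul_one] using b4)
  obtain ⟨z', hz'⟩ := H11.exists_rf c1
  exact ⟨y', z', hy'.ne_one h2, hy'.mul_self, hz'.ne_one h2, hz'.mul_self,
    (hv.comm_iff h2 hy').2 (Or.inl (by rw [H10.herm_smul_left, b1, mul_zero])),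
    (hy'.comm_iff h2 hz').2 (Or.inl c3), ((hw.comm_iff h2 hz').2 (Or.inl c2)).symm⟩

end Cfsg.Agent.S2356
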