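import Cfsg.Statements.S2360
import Cfsg.Agent.H11.SUInv
import Cfsg.Agent.H36.Count
import Cfsg.Agent.H69.GenSU3
import Cfsg.Agent.H67.FinField

set_option autoImplicit false
open Cfsg

namespace Cfsg.Agent.S2360

/-- Let q be odd, F the field with q² elements and S = SU_3(F) (determinant-one isometries of the standard Hermitian form). Then all involutions of S are conjugate; there are exactly q²(q²−q+1) of them; the centralizer of an involution has order q(q+1)(q²−1), the order of the full unitary group of degree 2; and for two distinct commuting involutions t and x there is exactly one further involution commuting with both. -/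
theorem result {F : Type*} [Field F] [Fintype F] {q : ℕ} (hq : Odd q)
    (hF : Fintype.card F = q ^ 2) (t : ↥(Cfsg.SU 3 F q)) (ht : t ≠ 1) (ht2 : t * t = 1) :
    (∀ x : ↥(Cfsg.SU 3 F q), x ≠ 1 → x * x = 1 → ∃ g : ↥(Cfsg.SU 3 F q), g * t * g⁻¹ = x) ∧
    Nat.card {x : ↥(Cfsg.SU 3 F q) // x ≠ 1 ∧ x * x = 1} = q ^ 2 * (q ^ 2 - q + 1) ∧
    Nat.card ↥(Subgroup.centralizer ({t} : Set ↥(Cfsg.SU 3 F q))) = q * (q + 1) * (q ^ 2 - 1) ∧
    ∀ x : ↥(Cfsg.SU 3 F q), x ≠ 1 → x * x = 1 → x ≠ t → Commute t x →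
      Nat.card {y : ↥(Cfsg.SU 3 F q) // y ≠ 1 ∧ y * y = 1 ∧ y ≠ t ∧ y ≠ x ∧ Commute t y ∧ Commute x y} = 1 := by
  haveI : Fact (Fintype.card F = q ^ 2) := ⟨hF⟩
  have h2 : (2 : F) ≠ 0 := H67.two_ne_zero_of_odd (hF ▸ hq.pow)
  obtain ⟨v, hv⟩ := H11.exists_vec h2 ht ht2
  have h1 : ∀ x : SU 3 F q, x ≠ 1 → x * x = 1 → ∃ g, g * t * g⁻¹ = x := fun x h h' =>
    (H11.exists_vec h2 h h').elim fun w hw => hv.conj hw
  obtain ⟨r, hr⟩ := Nat.exists_eq_add_of_le' (H10.two_le_q F q)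
  have e1 : q ^ 2 - q + 1 = q * (r + 1) + 1 := by
    rw [Nat.add_right_cancel_iff, hr]; exact Nat.sub_eq_of_eq_add (by ring)
  have h3 : Nat.card {x : SU 3 F q // x ≠ 1 ∧ x * x = 1} = q ^ 2 * (q ^ 2 - q + 1) := by
    have h3 := H11.card_inv_mul (q := q) h2 (P := fun _ => True) (Q := fun _ => True) (by simp)
    simp only [and_true] at h3
    rw [H10.card_norm_ne_zero 3 (map_one _) one_ne_zero, if_neg (by decide)] at h3
    refine Nat.eq_of_mul_eq_mul_right q.succ_pos (h3.trans ?_)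
    rw [e1, hr, Nat.succ_eq_add_one]; ring
  refine ⟨h1, h3, ?_, fun x hx hx2 hxt hc => ?_⟩
  · have h4 := H36.card_isConj_mul_card_centralizer t
    rw [Nat.card_congr (Equiv.subtypeEquivRight (q := fun x => x ≠ 1 ∧ x * x = 1) fun x => ⟨fun h => by
      obtain ⟨g, rfl⟩ := isConj_iff.1 h
      exact ⟨by simpa using ht, by rw [conj_mul, ht2, mul_one, mul_inv_cancel]⟩,
      fun h => isConj_iff.2 (h1 x h.1 h.2)⟩), h3, H69.card_SU3] at h4
    refine Nat.eq_of_mul_eq_mul_left (by rw [hr]; positivity) (h4.trans ?_)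
    rw [e1]
    generalize q ^ 2 - 1 = a
    rw [hr]; ring
  · obtain ⟨w, hw⟩ := H11.exists_vec h2 hx hx2
    have h4 := ((hv.comm_iff h2 hw).1 hc).resolve_right hxt
    obtain ⟨h5, h6, h7⟩ := H11.herm_cross (q := q) v w
    rw [hv.1, hw.1, h4, zero_mul, sub_zero, one_mul] at h7
    obtain ⟨y, hy⟩ := H11.exists_rf h7
    refine Nat.card_eq_one_iff_exists.2 ⟨⟨y, hy.ne_one h2, hy.mul_self,
      fun e => hy.ne_zero (by simpa [h5] using (hv.eq_iff h2 hy).1 e),
      fun e => hy.ne_zero (by simpa [h6] using (hw.eq_iff h2 hy).1 e),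
      (hv.comm_iff h2 hy).2 (Or.inl h5), (hw.comm_iff h2 hy).2 (Or.inl h6)⟩,
      fun ⟨z, a1, a2, a3, a4, a5, a6⟩ => Subtype.ext ?_⟩
    obtain ⟨u, hu⟩ := H11.exists_vec h2 a1 a2
    have h8 := ((hv.comm_iff h2 hu).1 a5).resolve_right a3
    have h9 := ((hw.comm_iff h2 hu).1 a6).resolve_right a4
    rw [H10.herm_eq_dot] at h8 h9
    obtain ⟨c, rfl⟩ := H10.P3.exists_smul_of_cross hy.ne_zero (H10.P3.cross_eq_zero_of_dot h8 h9)
    exact (hy.eq_iff h2 hu).2 (by rw [H10.herm_smul_left, h7, mul_one])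

end Cfsg.Agent.S2360
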