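import Cfsg.Statements.S2375
import Cfsg.Agent.H37.Tori

set_option autoImplicit false
open Cfsg

namespace Cfsg.Agent.S2375

theorem h1 : H37.wordOK Cfsg.Lie.chevE8 [7, 1, 0, 3, 6, 4, 2, 5]
    [[0, 1, 1, 1, 0, 0, 0, 0], [0, 0, 0, 1, 0, 0, 0, 0], [-1, -1, -1, -1, 0, 0, 0, 0], [1, 1, 1, 1, 1, 0, 0, 0], [0, 0, 0, 0, 0, 1, 1, 1], [0, -1, 0, -1, -1, -1, -1, -1], [0, 1, 0, 1, 1, 1, 0, 0], [0, 0, 0, 0, 0, 0, 1, 0]] = true := by decide +kernel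

theorem h2 : H37.cycOK Cfsg.Lie.chevE8.rank
    [[0, 1, 1, 1, 0, 0, 0, 0], [0, 0, 0, 1, 0, 0, 0, 0], [-1, -1, -1, -1, 0, 0, 0, 0], [1, 1, 1, 1, 1, 0, 0, 0], [0, 0, 0, 0, 0, 1, 1, 1], [0, -1, 0, -1, -1, -1, -1, -1], [0, 1, 0, 1, 1, 1, 0, 0], [0, 0, 0, 0, 0, 0, 1, 0]]
    [[0, 0, 0, 0, 0, 0, 0, 1], [0, 0, 0, 0, 0, 0, 1, -1], [0, 0, 0, 0, 0, 1, -1, 0], [0, -1, 1, 0, 0, 0, 0, 0], [-1, 0, 1, -1, 1, 0, 0, 0], [0, -1, 0, 0, 0, 1, 0, 0], [0, 0, 1, -1, 0, 1, 0, -1], [-1, -1, 1, 0, 0, 1, -1, 0], [0, -1, 1, -1, 1, 0, 0, 0]]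
    [[0, 0, 1, 1, 0, 0, 0, -1], [1, 1, 1, 0, 0, -1, 0, 0], [1, 1, 1, 1, 0, -1, 0, 0], [1, 2, 2, 1, 0, -1, -1, 0], [0, 1, 2, 1, 1, 0, -1, -1], [1, 1, 1, 0, 0, 0, 0, 0], [1, 1, 0, 0, 0, 0, 0, 0], [1, 0, 0, 0, 0, 0, 0, 0]]
    [1, 1, 0, -1, -1, -1, 0, 1, 1] [0, -1, -1, -1, 0, -1, -1, -1] = true := by decide +kernel

theorem h3 : H37.Cov.regOK Cfsg.Lie.chevE8 1 2 2
    [[0, 0, 1, 1, 0, 0, 0, -1], [1, 1, 1, 0, 0, -1, 0, 0], [1, 1, 1, 1, 0, -1, 0, 0], [1, 2, 2, 1, 0, -1, -1, 0], [0, 1, 2, 1, 1, 0, -1, -1], [1, 1, 1, 0, 0, 0, 0, 0], [1, 1, 0, 0, 0, 0, 0, 0], [1, 0, 0, 0, 0, 0, 0, 0]]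
    [1, 1, 0, -1, -1, -1, 0, 1, 1] = true := by decide +kernel

/-- The group E₈(q) contains a cyclic subgroup of order q⁸ + q⁷ − q⁵ − q⁴ − q³ + q + 1 which is its own centralizer. -/
theorem result {F : Type*} [Field F] [Fintype F] (q : ℕ) (hF : Fintype.card F = q) :
    ∃ H : Subgroup ↥(Cfsg.Lie.chevE8.group F), IsCyclic ↥H ∧ Nat.card ↥H = q ^ 8 + q ^ 7 - q ^ 5 - q ^ 4 - q ^ 3 + q + 1 ∧
      Subgroup.centralizer (H : Set ↥(Cfsg.Lie.chevE8.group F)) = H := by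
  have hD : H37.IsChev Cfsg.Lie.chevE8 := by simp
  obtain ⟨_⟩ := H37.nonempty_chev hD
  obtain ⟨H, e1, e2, e3⟩ := H37.exists_selfcent_group hD F (H37.Cov.sc_of_centT _ H39.centT_E8)
    (H37.Cov.sc_of_centT _ H39.centT_E8) H64.hasInv_E8 h1 h2 h3
  refine ⟨H, e1, ?_, e3⟩
  rw [e2, H39.centT_E8, Subgroup.card_bot, Nat.div_one, Nat.card_eq_fintype_card, hF]
  have h : 2 ≤ q := hF ▸ Fintype.one_lt_card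
  have a1 : q ^ 5 + q ^ 4 + q ^ 3 ≤ q ^ 8 + q ^ 7 := by
    have b1 : q ^ 5 ≤ q ^ 7 := Nat.pow_le_pow_right (by omega) (by norm_num)
    have b2 : q ^ 4 ≤ q ^ 7 := Nat.pow_le_pow_right (by omega) (by norm_num)
    have b3 : q ^ 3 ≤ q ^ 7 := Nat.pow_le_pow_right (by omega) (by norm_num)
    have b4 : 2 * q ^ 7 ≤ q ^ 8 := by rw [pow_succ' q 7]; exact Nat.mul_le_mul_right _ h
    omega
  rw [Nat.sub_sub, Nat.sub_sub, ← add_assoc]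
  refine (congrArg Int.toNat ?_).trans (Int.toNat_natCast _)
  simp only [H37.ev_cons, H37.ev_nil]
  push_cast [a1]
  ring

end Cfsg.Agent.S2375
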