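import Cfsg.Statements.S2401
import Cfsg.Agent.H39.PresSL

set_option autoImplicit false
open Cfsg

namespace Cfsg.Agent.S2401

open H38 H38.ClA in
theorem key {K : Type*} [Field K] [Finite K] {n : ℕ} (hn : 2 ≤ n) (S : Set (FreeGroup (Rt n × K)))
    (h1 : ∀ a t u, FreeGroup.of (a, t) * FreeGroup.of (a, u) * (FreeGroup.of (a, t + u))⁻¹ ∈ S)
    (h2 : ∀ (a b : Rt n) t u, a.1.1 ≠ b.1.2 → a.1.2 ≠ b.1.1 →
      FreeGroup.of (a, t) * FreeGroup.of (b, u) * (FreeGroup.of (a, t))⁻¹ * (FreeGroup.of (b, u))⁻¹ ∈ S)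
    (h3 : ∀ i j k h1 h2 h3 t u, FreeGroup.of (rt i j h1, t) * FreeGroup.of (rt j k h2, u) *
      (FreeGroup.of (rt i j h1, t))⁻¹ * (FreeGroup.of (rt j k h2, u))⁻¹ * (FreeGroup.of (rt i k h3, t * u))⁻¹ ∈ S)
    (h : ∀ g ∈ S, FreeGroup.lift (fun p : Rt n × K => x K p.1 p.2) g = 1) :
    ∃ e : PresentedGroup S ≃* Matrix.SpecialLinearGroup (Fin (n + 1)) K,
      ∀ a t, e (PresentedGroup.of (a, t)) = x K a t := by
  let y : Rt n → K → PresentedGroup S := fun a t => PresentedGroup.of (a, t)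
  have a1 : ∀ a t u, y a (t + u) = y a t * y a u := fun a t u =>
    (mul_inv_eq_one.1 (PresentedGroup.one_of_mem (h1 a t u))).symm
  have a2 : ∀ (a b : Rt n) t u, a.1.1 ≠ b.1.2 → a.1.2 ≠ b.1.1 → y a t * y b u = y b u * y a t :=
    fun a b t u k1 k2 => mul_inv_eq_iff_eq_mul.1 (mul_inv_eq_one.1 (PresentedGroup.one_of_mem (h2 a b t u k1 k2)))
  have a3 : ∀ i j k h1 h2 h3 t u, y (rt i j h1) t * y (rt j k h2) u =
      y (rt j k h2) u * y (rt i j h1) t * y (rt i k h3) (t * u) := fun i j k k1 k2 k3 t u => by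
    have : y _ t * y _ u * (y _ t)⁻¹ * (y _ u)⁻¹ = y _ (t * u) :=
      mul_inv_eq_one.1 (PresentedGroup.one_of_mem (h3 i j k k1 k2 k3 t u))
    rw [mul_assoc, a2 _ (rt i k k3) _ _ k3 k1.symm, ← mul_assoc, a2 _ (rt i k k3) _ _ k2 k3.symm, ← this]
    group
  have a0 : ∀ a, y a 0 = 1 := fun a => (mul_eq_left (a := y a 0)).1 (by rw [← a1, add_zero])
  let X : RG0 (rs n) K (PresentedGroup S) := ⟨y, a1, by
    rintro ⟨⟨i, j⟩, h⟩ ⟨⟨k, l⟩, h'⟩ - h2 t u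
    by_cases a : j = k
    · subst a
      have h3 : i ≠ l := by rintro rfl; exact h2 rfl
      exact ⟨[(rt i l h3, -(t * u))], by simpa using comb_add i j l h h' h3,
        by simp [a3 i j l h h' h3, mul_assoc, ← a1, a0]⟩
    by_cases b : l = i
    · subst b
      exact ⟨[(rt k j (Ne.symm a), u * t)], by simpa using (comb_add k l j h' h (Ne.symm a)).symm,
        by simpa using a3 k l j h' h (Ne.symm a) u t⟩
    · exact ⟨[], by simp, by simpa using a2 _ _ u t (Ne.symm a) b⟩⟩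
  have hθ : ∀ r t, PresentedGroup.toGroup h (X.x r t) = (rg n K).x r t := fun r t => PresentedGroup.toGroup.of h
  refine ⟨MulEquiv.ofBijective _ (H39.bijective_sl (H39.liftRG X (rg n K) _ hθ faithful.sep fun r =>
    (gen hn r).of_hom _ hθ faithful.sep) ?_ hθ), hθ⟩
  rw [eq_top_iff, ← PresentedGroup.closure_range_of, Subgroup.closure_le]
  rintro _ ⟨⟨r, t⟩, rfl⟩
  exact RG.x_mem_grp _ r t


/-- The Steinberg presentation of `SL_n` over a finite field for `n ≥ 3`: the group generated by symbols `x_ij(t)` (`i ≠ j`, `t` in the field) subject to `x_ij(t) x_ij(u) = x_ij(t + u)` and, for `i ≠ l`, `x_ij(t) x_kl(u) x_ij(t)⁻¹ x_kl(u)⁻¹ = x_il(tu)` if `j = k` and `= 1` if `j ≠ k`, is isomorphic to `SL_n` by an isomorphism sending `x_ij(t)` to the elementary matrix `1 + t E_ij`. -/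
theorem result {K : Type*} [Field K] [Finite K] (n : ℕ) (hn : 3 ≤ n) :
    ∃ e : PresentedGroup
        ({g : FreeGroup ({ij : Fin n × Fin n // ij.1 ≠ ij.2} × K) | ∃ (a : {ij : Fin n × Fin n // ij.1 ≠ ij.2}) (t u : K),
            g = FreeGroup.of (a, t) * FreeGroup.of (a, u) * (FreeGroup.of (a, t + u))⁻¹} ∪
          {g | ∃ (a b : {ij : Fin n × Fin n // ij.1 ≠ ij.2}) (t u : K), a.1.1 ≠ b.1.2 ∧ a.1.2 ≠ b.1.1 ∧
            g = FreeGroup.of (a, t) * FreeGroup.of (b, u) * (FreeGroup.of (a, t))⁻¹ * (FreeGroup.of (b, u))⁻¹} ∪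
          {g | ∃ (a b : {ij : Fin n × Fin n // ij.1 ≠ ij.2}) (h : a.1.1 ≠ b.1.2) (t u : K), a.1.2 = b.1.1 ∧
            g = FreeGroup.of (a, t) * FreeGroup.of (b, u) * (FreeGroup.of (a, t))⁻¹ * (FreeGroup.of (b, u))⁻¹ *
              (FreeGroup.of (⟨(a.1.1, b.1.2), h⟩, t * u))⁻¹}) ≃* Matrix.SpecialLinearGroup (Fin n) K,
      ∀ (a : {ij : Fin n × Fin n // ij.1 ≠ ij.2}) (t : K), ((e (PresentedGroup.of (a, t)) : Matrix (Fin n) (Fin n) K)) = Matrix.transvection a.1.1 a.1.2 t := by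
  obtain ⟨n, rfl⟩ : ∃ m, n = m + 1 := ⟨n - 1, by omega⟩
  refine (key (by omega) _ (fun a t u => Or.inl (Or.inl ⟨a, t, u, rfl⟩))
    (fun a b t u h1 h2 => Or.inl (Or.inr ⟨a, b, t, u, h1, h2, rfl⟩))
    (fun i j k h1 h2 h3 t u => Or.inr ⟨⟨(i, j), h1⟩, ⟨(j, k), h2⟩, h3, t, u, rfl, rfl⟩) ?_).imp
    fun e he a t => congrArg Subtype.val (he a t)
  rintro _ ((⟨a, t, u, rfl⟩ | ⟨a, b, t, u, h1, h2, rfl⟩) | ⟨⟨⟨i, j⟩, h1⟩, ⟨⟨_, k⟩, h2⟩, h3, t, u, rfl, rfl⟩)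
  · simp [H38.ClA.x_add]
  · simp only [map_mul, map_inv, FreeGroup.lift_apply_of]
    rw [← H38.ClA.x_comm h2 h1.symm]; group
  · simp only [map_mul, map_inv, FreeGroup.lift_apply_of]
    rw [H38.ClA.x_comm_left h1 h2 h3, one_mul, mul_comm u t, mul_assoc (H38.ClA.x K _ u),
      H38.ClA.x_comm (s := ⟨(i, j), h1⟩) (r := ⟨(i, k), h3⟩) h3.symm h1.symm, ← mul_assoc,
      H38.ClA.x_comm (s := ⟨(j, k), h2⟩) (r := ⟨(i, k), h3⟩) h2.symm h3.symm]
    group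

end Cfsg.Agent.S2401
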