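import Cfsg.Statements.S2468
import Mathlib
import Cfsg.Agent.H67.PGraph

set_option autoImplicit false
open Cfsg

namespace Cfsg.Agent.S2468


/-- Adjacency of two odd primes in the prime graph of PSL(n,q): let F be a finite field of characteristic p with q elements, n ≥ 2 with PSL(n,F) simple, and let r ≠ s be odd primes different from p dividing the order of PSL(n,F). Let k and l be the multiplicative orders of q modulo r and modulo s, and suppose 2 ≤ k ≤ l. Then PSL(n,F) has NO element of order r·s if and only if k + l > n and k does not divide l. -/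
theorem result {F : Type*} [Field F] [Fintype F] (p : ℕ) [Fact p.Prime] [CharP F p] (n : ℕ) (hn : 2 ≤ n) (hsmall : n = 2 → 4 ≤ Fintype.card F)
    (r s : ℕ) (hr : r.Prime) (hs : s.Prime) (hr2 : r ≠ 2) (hs2 : s ≠ 2) (hrp : r ≠ p) (hsp : s ≠ p) (hrs : r ≠ s)
    (hrG : r ∣ Nat.card (Matrix.ProjectiveSpecialLinearGroup (Fin n) F)) (hsG : s ∣ Nat.card (Matrix.ProjectiveSpecialLinearGroup (Fin n) F))
    (k l : ℕ) (hk : k = orderOf ((Fintype.card F : ℕ) : ZMod r)) (hl : l = orderOf ((Fintype.card F : ℕ) : ZMod s))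
    (h2k : 2 ≤ k) (hkl : k ≤ l) :
    (r * s ∉ Set.range (orderOf : Matrix.ProjectiveSpecialLinearGroup (Fin n) F → ℕ)) ↔ (n < k + l ∧ ¬ k ∣ l) := by
  let Ω := AlgebraicClosure F
  have hp : p.Prime := Fact.out
  have hq := Fintype.card_pos (α := F)
  have hcop : ∀ {r k : ℕ}, r.Prime → k = orderOf ((Fintype.card F : ℕ) : ZMod r) → 2 ≤ k →
      r.Coprime (Fintype.card F - 1) := fun {r k} hr hk h => (hr.coprime_iff_not_dvd).2 fun hd => by
    rw [← ZMod.natCast_eq_zero_iff, Nat.cast_sub hq, Nat.cast_one, sub_eq_zero] at hd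
    simp [hk, hd] at h
  have hc : (r * s).Coprime (Fintype.card F - 1) :=
    Nat.Coprime.mul_left (hcop hr hk h2k) (hcop hs hl (h2k.trans hkl))
  have hN : ∀ {r : ℕ}, r.Prime → r ≠ p → (r : F) ≠ 0 := fun hr h =>
    H66.natCast_ne_zero_of_coprime p ((Nat.coprime_primes hr hp).2 h)
  have hN' : ∀ {r : ℕ}, r.Prime → r ≠ p → (r : Ω) ≠ 0 := fun hr h => by
    rw [← map_natCast (algebraMap F Ω)]; exact (map_ne_zero _).2 (hN hr h)
  have hrs' : ((r * s : ℕ) : F) ≠ 0 := by simp [hN hr hrp, hN hs hsp]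
  have hfr := H67.frob_injective (F := F) (Ω := Ω)
  rw [H67.mem_range_orderOf_mk_iff (H67.center_pow_card_sub_one (H67.slHom _ F)
    Subtype.val_injective H67.sl_mem_center_iff) hc, ← not_iff_not, not_not, not_and_or, not_lt,
    not_not]
  constructor
  · rintro ⟨g, hg⟩
    obtain ⟨h1, h2, h3⟩ := H67.pow_ne_one_of_orderOf hr hs hg
    replace h1 : g.1 ^ (r * s) = 1 := congrArg Subtype.val h1
    obtain ⟨x, hx, hx'⟩ := H67.exists_mem_ev_pow_ne Ω hrs' h1 (k := r) fun h => h2 (Subtype.ext h)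
    obtain ⟨y, hy, hy'⟩ := H67.exists_mem_ev_pow_ne Ω hrs' h1 (k := s) fun h => h3 (Subtype.ext h)
    have h4 : ∀ x ∈ H67.ev Ω g.1, ∀ d, x ^ Fintype.card F ^ d = x →
        (x ^ r ≠ 1 → l ∣ d) ∧ (x ^ s ≠ 1 → k ∣ d) := fun x hx d hd => by
      have := H67.pow_eq_one_of_mem_ev h1 hx
      exact ⟨fun h => hl ▸ (H67.frob_fix_iff hs (by rwa [← pow_mul]) h _ _).1
          (by rw [pow_right_comm, hd]),
        fun h => hk ▸ (H67.frob_fix_iff hr (by rwa [← pow_mul']) h _ _).1
          (by rw [pow_right_comm, hd])⟩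
    obtain ⟨d, t, h5, h6, -, h7, h8⟩ := H67.exists_fo hfr (H67.ev_map_frob _) hx
    have h9 := congrArg Multiset.card h7
    rw [H67.card_ev, Fintype.card_fin, Multiset.card_add, H67.card_fo] at h9
    have h10 := (h4 x hx d h6).1 hx'
    rcases Multiset.mem_add.1 (h7 ▸ hy) with h | h
    · obtain ⟨i, -, rfl⟩ := H67.mem_fo.1 h
      have h11 := (h4 x hx d h6).2 fun h => hy' (by rw [pow_right_comm, h, one_pow])
      obtain ⟨c, rfl⟩ := h10
      rcases c with _ | _ | c
      · simp at h5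
      · exact .inr (by simpa using h11)
      · left; nlinarith
    · obtain ⟨d', t', h11, h12, -, h13, -⟩ := H67.exists_fo hfr h8 h
      have := Nat.le_of_dvd h11 ((h4 y hy d' h12).2 hy')
      have := Nat.le_of_dvd h5 h10
      simp [h13] at h9
      omega
  · intro h
    obtain ⟨x, hx⟩ := H67.exists_root (hN' hs hsp)
    obtain ⟨y, hy⟩ := H67.exists_root (hN' hr hrp)
    have hx1 : x ^ s = 1 := hx ▸ pow_orderOf_eq_one x
    have hy1 : y ^ r = 1 := hy ▸ pow_orderOf_eq_one y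
    have hx2 : x ^ r ≠ 1 := fun h => hrs ((Nat.prime_dvd_prime_iff_eq hs hr).1
      (hx ▸ orderOf_dvd_of_pow_eq_one h)).symm
    have hy2 : y ^ s ≠ 1 := fun h => hrs ((Nat.prime_dvd_prime_iff_eq hr hs).1
      (hy ▸ orderOf_dvd_of_pow_eq_one h))
    have hx3 := (H67.frob_fix_iff hs hx1 (by rintro rfl; simp at hx2) (Fintype.card F) _).2 hl.symm.dvd
    have hy3 := fun d => (H67.frob_fix_iff hr hy1 (by rintro rfl; simp at hy2) (Fintype.card F) d).2
    suffices ∃ t : Multiset Ω, t.card ≤ n ∧ t.map (fun x => x ^ Fintype.card F) = t ∧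
        (∀ x ∈ t, x ^ (r * s) = 1) ∧ (∃ x ∈ t, x ^ r ≠ 1) ∧ ∃ x ∈ t, x ^ s ≠ 1 by
      obtain ⟨t, h1, h2, h3, ⟨a, ha, ha'⟩, b, hb, hb'⟩ := this
      obtain ⟨g, h4, h5⟩ := H67.exists_sl_ev_eq (ι := Fin n) (F := F)
        (s := t + Multiset.replicate (n - t.card) 1) (by simp [h2]) (by simp; omega)
        (by simp [H67.prod_eq_one_of_coprime hq (Nat.mul_pos hr.pos hs.pos) h2 h3 hc])
      refine ⟨g, H67.orderOf_eq_mul_iff hr hs (Subtype.ext (H67.IsSS_pow_eq_one (Ω := Ω) h4 ?_))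
        (fun h => ha' (H67.pow_eq_one_of_mem_ev (congrArg Subtype.val h) (by simp [h5, ha])))
        fun h => hb' (H67.pow_eq_one_of_mem_ev (congrArg Subtype.val h) (by simp [h5, hb]))⟩
      intro x hx
      rcases Multiset.mem_add.1 (h5 ▸ hx) with h | h
      exacts [h3 x h, by simp [Multiset.eq_of_mem_replicate h]]
    rcases h with h | h
    · refine ⟨H67.fo _ k y + H67.fo _ l x, by simpa using h, by
        rw [Multiset.map_add, H67.fo_map_frob hx3, H67.fo_map_frob (hy3 k hk.symm.dvd)], fun z hz => ?_,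
        ⟨x, by simp [H67.self_mem_fo (show 0 < l by omega)], hx2⟩,
        y, by simp [H67.self_mem_fo (show 0 < k by omega)], hy2⟩
      rcases Multiset.mem_add.1 hz with h | h <;> obtain ⟨i, -, rfl⟩ := H67.mem_fo.1 h
      · rw [pow_right_comm, pow_mul, hy1, one_pow, one_pow]
      · rw [pow_right_comm, pow_mul', hx1, one_pow, one_pow]
    · refine ⟨H67.fo _ l (x * y), ?_, H67.fo_map_frob (by rw [mul_pow, hx3, hy3 l (hk ▸ h)]),
        fun z hz => ?_, ⟨_, H67.self_mem_fo (by omega) _, by rwa [mul_pow, hy1, mul_one]⟩,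
        _, H67.self_mem_fo (by omega) _, by rwa [mul_pow, hx1, one_mul]⟩
      · obtain ⟨g, h1, h2⟩ := H67.exists_orderOf_of_dvd_card_quot _ hs hsG
        obtain ⟨z, hz, hz'⟩ := H67.exists_mem_ev_pow_ne Ω (hN hs hsp) (congrArg Subtype.val h1)
          (k := 1) fun h => h2 (Subtype.ext (by simpa using h))
        obtain ⟨d, t, h5, h6, -, h7, -⟩ := H67.exists_fo hfr (H67.ev_map_frob _) hz
        have h9 := congrArg Multiset.card h7
        rw [H67.card_ev, Fintype.card_fin, Multiset.card_add, H67.card_fo] at h9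
        have := Nat.le_of_dvd h5 ((H67.frob_fix_iff hs (H67.pow_eq_one_of_mem_ev
          (congrArg Subtype.val h1) hz) (by simpa using hz') _ _).1 h6)
        rw [H67.card_fo]
        omega
      · obtain ⟨i, -, rfl⟩ := H67.mem_fo.1 hz
        rw [pow_right_comm, mul_pow, pow_mul y, pow_mul' x, hx1, hy1]
        simp

end Cfsg.Agent.S2468
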