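import Cfsg.Statements.S2469
import Mathlib
import Cfsg.Agent.H67.PGraph

set_option autoImplicit false
open Cfsg

namespace Cfsg.Agent.S2469


/-- Adjacency of two odd primes in the prime graph of PSp(2n,q): let F be a finite field of characteristic p with q elements, n ≥ 2 with PSp(2n,F) simple, and let r ≠ s be odd primes different from p dividing the order of PSp(2n,F). Let k, l be the multiplicative orders of q modulo r and s, put η(m) = m for odd m and η(m) = m/2 for even m, and suppose η(k) ≤ η(l). Then PSp(2n,F) has NO element of order r·s if and only if η(k) + η(l) > n and l/k is not an odd integer. -/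
theorem result {F : Type*} [Field F] [Fintype F] (p : ℕ) [Fact p.Prime] [CharP F p] (n : ℕ) (hn : 2 ≤ n) (hsmall : n = 2 → 3 ≤ Fintype.card F)
    (r s : ℕ) (hr : r.Prime) (hs : s.Prime) (hr2 : r ≠ 2) (hs2 : s ≠ 2) (hrp : r ≠ p) (hsp : s ≠ p) (hrs : r ≠ s)
    (hrG : r ∣ Nat.card (Cfsg.PSp n F)) (hsG : s ∣ Nat.card (Cfsg.PSp n F))
    (k l ηk ηl : ℕ) (hk : k = orderOf ((Fintype.card F : ℕ) : ZMod r)) (hl : l = orderOf ((Fintype.card F : ℕ) : ZMod s))
    (hηk : (Odd k ∧ ηk = k) ∨ (Even k ∧ 2 * ηk = k)) (hηl : (Odd l ∧ ηl = l) ∨ (Even l ∧ 2 * ηl = l)) (hkl : ηk ≤ ηl) :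
    (r * s ∉ Set.range (orderOf : Cfsg.PSp n F → ℕ)) ↔ (n < ηk + ηl ∧ ¬ ∃ t : ℕ, Odd t ∧ l = k * t) := by
  let Ω := AlgebraicClosure F
  have hp : p.Prime := Fact.out
  have hcr := (Nat.coprime_primes hr hp).2 hrp
  have hcs := (Nat.coprime_primes hs hp).2 hsp
  have ho := (hr.odd_of_ne_two hr2).mul (hs.odd_of_ne_two hs2)
  have hrs' := H66.natCast_ne_zero_of_coprime (F := F) p (Nat.Coprime.mul_left hcr hcs)
  have hfr := H67.frob_injective (F := F) (Ω := Ω)
  have hk0 : 0 < k := hk ▸ H67.orderOf_card_pos p hr hrp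
  have hl0 : 0 < l := hl ▸ H67.orderOf_card_pos p hs hsp
  have hinv : ∀ {z : Ω} {N : ℕ}, Odd N → z ^ N = 1 → z ≠ 1 → ∀ {w}, w = z⁻¹ → w ≠ z :=
    fun h1 h2 h3 _ h4 h5 => H67.ne_inv_of_odd h1 h2 h3 (h5.symm.trans h4)
  rw [H67.mem_range_orderOf_psp_iff p (by omega) (.inr ho), ← not_iff_not, not_not, not_and_or,
    not_lt, not_not]
  constructor
  · rintro ⟨g, hg⟩
    obtain ⟨h1, h2, h3⟩ := H67.pow_ne_one_of_orderOf hr hs hg
    replace h1 : g.1 ^ (r * s) = 1 := congrArg Subtype.val h1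
    obtain ⟨x, hx, hx'⟩ := H67.exists_mem_ev_pow_ne Ω hrs' h1 (k := r) fun h => h2 (Subtype.ext h)
    obtain ⟨y, hy, hy'⟩ := H67.exists_mem_ev_pow_ne Ω hrs' h1 (k := s) fun h => h3 (Subtype.ext h)
    have hx0 := H67.pow_eq_one_of_mem_ev h1 hx
    have hy0 := H67.pow_eq_one_of_mem_ev h1 hy
    have h4 : ∀ (x : Ω) (a d : ℕ), (x ^ Fintype.card F ^ d = x ∨ x ^ Fintype.card F ^ d = x⁻¹) →
        (x ^ a) ^ Fintype.card F ^ d = x ^ a ∨ (x ^ a) ^ Fintype.card F ^ d = (x ^ a)⁻¹ :=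
      fun x a d h => h.imp (fun h => by rw [pow_right_comm, h]) fun h => by
        rw [pow_right_comm, h, inv_pow]
    obtain ⟨d, t, h5, h6, -, h7, h8, h8'⟩ := H67.exists_pm hfr (H67.ev_map_frob _)
      (H67.ev_map_inv_of_sp g) hx (H67.ne_inv_of_odd ho hx0 (by rintro rfl; simp at hx'))
    have h9 := congrArg Multiset.card h7
    rw [H67.card_ev, Multiset.card_add, H67.card_pm] at h9
    simp only [Fintype.card_sum, Fintype.card_fin] at h9
    have h10 := (H67.eta_dvd_iff hηl d).2 (hl ▸ (H67.frob_pm_iff hs (by rwa [← pow_mul]) hx' _ _).1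
      (h4 x r d h6))
    rcases Multiset.mem_add.1 (h7 ▸ hy) with h | h
    · have h11 := (H67.pow_eq_one_iff_of_mem_pm hfr h s).not.1 hy'
      have h12 := H67.frob_fix_iff hs (x := x ^ r) (by rwa [← pow_mul]) hx' (Fintype.card F) d
      have h13 := H67.frob_fix_iff hr (x := x ^ s) (by rwa [← pow_mul']) h11 (Fintype.card F) d
      have h14 := (H67.frob_pm_iff hr (x := x ^ s) (by rwa [← pow_mul']) h11 _ _).1 (h4 x s d h6)
      rw [← hl] at h12
      rw [← hk] at h13 h14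
      obtain ⟨c, rfl⟩ := h10
      rcases c with _ | _ | c
      · simp at h5
      · right
        rw [zero_add, mul_one] at *
        rcases h6 with h6 | h6
        · have h15 := Nat.le_of_dvd h5 (h12.1 (by rw [pow_right_comm, h6]))
          obtain ⟨h16, rfl⟩ := hηl.resolve_right (by omega)
          obtain ⟨t, rfl⟩ := h13.1 (by rw [pow_right_comm, h6])
          exact ⟨t, (Nat.odd_mul.1 h16).2, rfl⟩
        · have h15 := h12.not.1 (hinv (hs.odd_of_ne_two hs2) (by rwa [← pow_mul]) hx'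
            (by rw [pow_right_comm, h6, inv_pow]))
          have h16 := h13.not.1 (hinv (hr.odd_of_ne_two hr2) (by rwa [← pow_mul']) h11
            (by rw [pow_right_comm, h6, inv_pow]))
          obtain ⟨-, rfl⟩ := hηl.resolve_left fun h => h15 h.2.symm.dvd
          obtain ⟨t, ht⟩ := h14
          refine ⟨t, Nat.not_even_iff_odd.1 ?_, ht⟩
          rintro ⟨u, rfl⟩
          exact h16 ⟨u, by linarith⟩
      · left; nlinarith
    · obtain ⟨d', t', h11, h12, -, h13, -⟩ := H67.exists_pm hfr h8 h8' h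
        (H67.ne_inv_of_odd ho hy0 (by rintro rfl; simp at hy'))
      have := Nat.le_of_dvd h11 ((H67.eta_dvd_iff hηk d').2 (hk ▸ (H67.frob_pm_iff hr
        (by rwa [← pow_mul']) hy' _ _).1 (h4 y s d' h12)))
      have := Nat.le_of_dvd h5 h10
      simp [h13] at h9
      omega
  · intro h
    obtain ⟨x, hx⟩ := H67.exists_root' F Ω p hcs
    obtain ⟨y, hy⟩ := H67.exists_root' F Ω p hcr
    have hx1 := (hx s).2 dvd_rfl
    have hy1 := (hy r).2 dvd_rfl
    have hx2 : x ^ r ≠ 1 := fun h => hrs ((Nat.prime_dvd_prime_iff_eq hs hr).1 ((hx _).1 h)).symm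
    have hy2 : y ^ s ≠ 1 := fun h => hrs ((Nat.prime_dvd_prime_iff_eq hr hs).1 ((hy _).1 h))
    have hx0 : x ≠ 1 := by rintro rfl; simp at hx2
    have hy0 : y ≠ 1 := by rintro rfl; simp at hy2
    have hx3 := (H67.frob_pm_iff hs hx1 hx0 (Fintype.card F) ηl).2
      (hl ▸ (H67.eta_dvd_iff hηl _).1 dvd_rfl)
    suffices ∃ t : Multiset Ω, t.card ≤ 2 * n ∧ t.map (fun x => x ^ Fintype.card F) = t ∧
        t.map (fun x => x⁻¹) = t ∧
        (∀ x ∈ t, x ^ (r * s) = 1) ∧ (∃ x ∈ t, x ^ r ≠ 1) ∧ ∃ x ∈ t, x ^ s ≠ 1 by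
      obtain ⟨t, h1, h2, h2', h3, ⟨a, ha, ha'⟩, b, hb, hb'⟩ := this
      obtain ⟨g, h4, h5⟩ := H67.exists_sp_ev_eq (F := F) (m := n) ho
        (s := t + Multiset.replicate (2 * n - t.card) 1) (fun x hx => by
          rcases Multiset.mem_add.1 hx with h | h
          exacts [h3 x h, by simp [Multiset.eq_of_mem_replicate h]])
        (by simp [h2]) (by simp [h2']) (by simp; omega)
      exact ⟨g, H67.orderOf_eq_mul_iff hr hs h4
        (fun h => ha' (H67.pow_eq_one_of_mem_ev (congrArg Subtype.val h) (by simp [h5, ha])))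
        fun h => hb' (H67.pow_eq_one_of_mem_ev (congrArg Subtype.val h) (by simp [h5, hb]))⟩
    rcases h with h | ⟨t, ht, h⟩
    · refine ⟨H67.pm _ ηk y + H67.pm _ ηl x, by simp; omega, by
        rw [Multiset.map_add, H67.pm_map_frob hx3, H67.pm_map_frob ((H67.frob_pm_iff hr hy1 hy0 _ _).2
          (hk ▸ (H67.eta_dvd_iff hηk _).1 dvd_rfl))], by simp [H67.pm_map_inv], fun z hz => ?_,
        ⟨x, by simp [H67.self_mem_pm (show 0 < ηl by omega)], hx2⟩,
        y, by simp [H67.self_mem_pm (show 0 < ηk by omega)], hy2⟩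
      rcases Multiset.mem_add.1 hz with h | h <;> rw [H67.pow_eq_one_iff_of_mem_pm hfr h]
      · exact (hy _).2 (dvd_mul_right _ _)
      · exact (hx _).2 (dvd_mul_left _ _)
    · refine ⟨H67.pm _ ηl (x * y), ?_, H67.pm_map_frob ?_, H67.pm_map_inv _ _ _,
        fun z hz => ?_, ⟨_, H67.self_mem_pm (by omega) _, by rwa [mul_pow, hy1, mul_one]⟩,
        _, H67.self_mem_pm (by omega) _, by rwa [mul_pow, hx1, one_mul]⟩
      · obtain ⟨g, h1, h2⟩ := H67.exists_orderOf_of_dvd_card_quot _ hs hsG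
        obtain ⟨z, hz, hz'⟩ := H67.exists_mem_ev_pow_ne Ω (H66.natCast_ne_zero_of_coprime p hcs)
          (congrArg Subtype.val h1) (k := 1) fun h => h2 (Subtype.ext (by simpa using h))
        have hz0 := H67.pow_eq_one_of_mem_ev (congrArg Subtype.val h1) hz
        rw [pow_one] at hz'
        obtain ⟨d, t, h5, h6, -, h7, -⟩ := H67.exists_pm hfr (H67.ev_map_frob _)
          (H67.ev_map_inv_of_sp g) hz (H67.ne_inv_of_odd (hs.odd_of_ne_two hs2) hz0 hz')
        have h9 := congrArg Multiset.card h7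
        rw [H67.card_ev, Multiset.card_add, H67.card_pm] at h9
        have := Nat.le_of_dvd h5 ((H67.eta_dvd_iff hηl d).2
          (hl ▸ (H67.frob_pm_iff hs hz0 hz' _ _).1 h6))
        simp at h9 ⊢
        omega
      · have h1 := H67.frob_fix_iff hs hx1 hx0 (Fintype.card F) ηl
        have h2 := H67.frob_fix_iff hr hy1 hy0 (Fintype.card F) ηl
        have h3 := H67.frob_pm_iff hr hy1 hy0 (Fintype.card F) ηl
        rw [← hl] at h1
        rw [← hk] at h2 h3
        rw [mul_pow, mul_inv]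
        rcases hηl with ⟨-, rfl⟩ | ⟨-, h4⟩
        · exact .inl (by rw [h1.2 dvd_rfl, h2.2 ⟨t, h⟩])
        · right
          rw [hx3.resolve_left fun h5 => by have := Nat.le_of_dvd (by omega) (h1.1 h5); omega,
            (h3.2 ⟨t, h4.trans h⟩).resolve_left fun h5 => ?_]
          obtain ⟨u, rfl⟩ := h2.1 h5
          exact Nat.not_even_iff_odd.2 ht ⟨u, Nat.eq_of_mul_eq_mul_left hk0 (by linarith)⟩
      · rw [H67.pow_eq_one_iff_of_mem_pm hfr hz, mul_pow, pow_mul y, pow_mul' x, hx1, hy1]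
        simp

end Cfsg.Agent.S2469
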