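import Cfsg.Statements.S2476
import Mathlib
import Cfsg.Agent.H67.PGraph2
import Cfsg.Agent.H67.Transv

set_option autoImplicit false
open Cfsg

namespace Cfsg.Agent.S2476


/-- The set of element orders of PSL(3,q): let F be a finite field of characteristic p with q elements and d = gcd(3, q − 1). The orders of elements of PSL(3,F) are exactly the divisors of (q² + q + 1)/d, of (q² − 1)/d, of q − 1, of p(q − 1)/d, and, when p = 2, of 4. -/
theorem result {F : Type*} [Field F] [Fintype F] (p : ℕ) [Fact p.Prime] [CharP F p] :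
    Set.range (orderOf : Matrix.ProjectiveSpecialLinearGroup (Fin 3) F → ℕ) =
      {m : ℕ | m ∣ (Fintype.card F ^ 2 + Fintype.card F + 1) / Nat.gcd 3 (Fintype.card F - 1) ∨
        m ∣ (Fintype.card F ^ 2 - 1) / Nat.gcd 3 (Fintype.card F - 1) ∨ m ∣ Fintype.card F - 1 ∨
        m ∣ p * (Fintype.card F - 1) / Nat.gcd 3 (Fintype.card F - 1) ∨ (p = 2 ∧ m ∣ 4)} := by
  classical
  let Ω := AlgebraicClosure F
  have hp : p.Prime := Fact.out
  have hfr := H67.frob_injective (F := F) (Ω := Ω)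
  obtain ⟨q, hq⟩ : ∃ q, Fintype.card F = q + 1 := ⟨_, (Nat.succ_pred_eq_of_pos Fintype.card_pos).symm⟩
  have hq0 : 0 < q := by have := Fintype.one_lt_card (α := F); omega
  have hpq : p ∣ q + 1 := by
    obtain ⟨j, -, hj⟩ := FiniteField.card F p
    exact hq ▸ hj ▸ dvd_pow_self p j.ne_zero
  have hc : ∀ a, (a * (q + 1) + 1).Coprime p := fun a => Nat.Coprime.coprime_dvd_right hpq (by simp)
  have hc1 : q.Coprime p := Nat.Coprime.coprime_dvd_right hpq (by simp)
  obtain ⟨e, he⟩ := Nat.gcd_dvd_right 3 q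
  obtain ⟨u, hu⟩ := Nat.gcd_dvd_left 3 q
  have hd0 : 0 < Nat.gcd 3 q := Nat.gcd_pos_of_pos_left _ (by norm_num)
  have hgc : ∀ {N k : ℕ}, N ∣ k * q → N ∣ k * 3 → N ∣ Nat.gcd 3 q * k := fun h1 h2 => by
    rw [mul_comm, ← Nat.gcd_mul_left]; exact Nat.dvd_gcd h2 h1
  rw [hq, Nat.add_sub_cancel]
  set d := Nat.gcd 3 q
  have h1 : (q + 1) ^ 2 + (q + 1) + 1 = d * (e * q + 3 * e + u) := by
    linear_combination (q + 3) * he + hu
  have h2 : (q + 1) ^ 2 - 1 = d * ((q + 2) * e) :=
    Nat.sub_eq_of_eq_add (by linear_combination (q + 2) * he)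
  have h3 : p * q = d * (e * p) := by linear_combination p * he
  rw [h1, h2, h3, Nat.mul_div_cancel_left _ hd0, Nat.mul_div_cancel_left _ hd0,
    Nat.mul_div_cancel_left _ hd0]
  have hz : ∀ z : Ω, z ^ d = 1 → z ^ (q + 1) = z ∧ z ^ 2 * z = 1 ∧ ∃ c, algebraMap F Ω c = z :=
    fun z h => by
      have : z ^ (q + 1) = z := by rw [pow_succ, he, pow_mul, h, one_pow, one_mul]
      exact ⟨this, by rw [← pow_succ, show 2 + 1 = d * u from hu, pow_mul, h, one_pow],
        H67.exists_algebraMap_eq_of_pow_card (hq ▸ this)⟩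
  have hZ := H67.sl_mem_center_iff (F := F) (ι := Fin 3)
  rw [hq] at hfr
  apply Set.Subset.antisymm
  · rintro _ ⟨g, rfl⟩
    obtain ⟨g, rfl⟩ := QuotientGroup.mk_surjective g
    have key := fun k j c => H67.orderOf_mk_dvd_of_count (Ω := Ω) _ hZ p (g := g) (k := k) (j := j)
      (c := c)
    have hs := H67.ev_map_frob (Ω := Ω) (H67.slHom _ F g)
    have hs0 := fun x => H67.ne_zero_of_mem_ev (Ω := Ω) (x := x) ((Group.isUnit g).map (H67.slHom _ F))
    have hs1 : (H67.ev Ω (H67.slHom _ F g)).prod = 1 :=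
      (H67.prod_ev _).trans ((congrArg _ g.2).trans (map_one _))
    have hs2 := (H67.card_ev Ω (H67.slHom _ F g)).trans (Fintype.card_fin 3)
    rw [hq] at hs
    generalize H67.ev Ω (H67.slHom _ F g) = s at *
    by_cases h4 : ∀ x ∈ s, x ^ (q + 1) = x
    · have h5 : ∀ x ∈ s, x ^ q = 1 := fun x hx =>
        mul_right_cancel₀ (hs0 x hx) (by rw [← pow_succ, h4 x hx, one_mul])
      by_cases h6 : s.Nodup
      · exact .inr (.inr (.inl (by
          simpa using key q 0 1 (by simpa using h5) (Multiset.nodup_iff_count_le_one.1 h6))))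
      obtain ⟨a, ha⟩ : ∃ a, 2 ≤ s.count a := by
        simpa [Multiset.nodup_iff_count_le_one, Nat.succ_le_iff] using h6
      obtain ⟨t, rfl⟩ := Multiset.le_iff_exists_add.1 (Multiset.le_count_iff_replicate_le.1 ha)
      obtain ⟨b, rfl⟩ := Multiset.card_eq_one.1 (show t.card = 1 by simpa using hs2)
      have h7 : ∀ x, (Multiset.replicate 2 a + {b}).count x ≤ 3 := fun x =>
        (Multiset.count_le_card _ _).trans hs2.le
      by_cases h8 : p = 2 ∧ a = b
      · obtain ⟨rfl, rfl⟩ := h8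
        obtain ⟨c, hc⟩ := H67.exists_algebraMap_eq_of_pow_card (F := F) (hq ▸ h4 a (by simp))
        exact .inr (.inr (.inr (.inr ⟨rfl, key 1 2 c (by simp [hc]) fun x => (h7 x).trans (by simp)⟩)))
      obtain ⟨-, h9, c, hc⟩ := hz (a ^ e) (by rw [← pow_mul', ← he, h5 a (by simp)])
      refine .inr (.inr (.inr (.inl ((key e 1 c (fun x hx => ?_) fun x => ?_).trans (by simp)))))
      · rcases Multiset.mem_add.1 hx with h | h
        · rw [Multiset.eq_of_mem_replicate h, hc]
        · rw [Multiset.mem_singleton.1 h, hc]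
          refine mul_left_cancel₀ (pow_ne_zero 2 (pow_ne_zero e (hs0 a (by simp)))) ?_
          rw [h9, pow_right_comm, ← mul_pow, show a ^ 2 * b = 1 by simpa [sq, mul_assoc] using hs1, one_pow]
      · rcases hp.eq_two_or_odd' with rfl | h
        · have : a ≠ b := fun h => h8 ⟨rfl, h⟩
          simp only [Multiset.count_add, Multiset.count_replicate, Multiset.count_singleton]
          split_ifs <;> simp_all
        · exact (h7 x).trans (by
            have := hp.two_le
            obtain ⟨k, rfl⟩ := h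
            simp
            omega)
    push Not at h4
    obtain ⟨x, hx, h4⟩ := h4
    obtain ⟨k, t, h5, h6, h7, rfl, h8⟩ := H67.exists_fo hfr hs hx
    rw [Multiset.card_add, H67.card_fo] at hs2
    rcases (show k = 1 ∨ k = 2 ∨ k = 3 by omega) with rfl | rfl | rfl
    · exact (h4 (by simpa using h6)).elim
    · obtain ⟨y, rfl⟩ := Multiset.card_eq_one.1 (show t.card = 1 by omega)
      obtain ⟨h9, h10, c, hc⟩ := hz (x ^ ((q + 2) * e)) (mul_right_cancel₀ (hs0 x hx) (by
        rw [← pow_mul', ← h2, ← pow_succ, Nat.sub_add_cancel (Nat.one_le_pow _ _ q.succ_pos), h6,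
          one_mul]))
      refine .inr (.inl ((key ((q + 2) * e) 0 c (fun z hz => ?_) ?_).trans (by simp)))
      · rcases Multiset.mem_add.1 hz with h | h
        · obtain ⟨i, hi, rfl⟩ := H67.mem_fo.1 h
          interval_cases i <;> simp [hc, pow_right_comm x (q + 1), h9]
        · rw [Multiset.mem_singleton.1 h, hc]
          refine mul_left_cancel₀ (pow_ne_zero 2 (pow_ne_zero ((q + 2) * e) (hs0 x hx))) ?_
          rw [h10, sq]
          nth_rw 1 [← h9]
          rw [pow_right_comm, ← mul_pow, ← mul_pow, show x ^ (q + 1) * x * y = 1 by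
            simpa [H67.fo, Multiset.range_succ, mul_assoc] using hs1, one_pow]
      · rw [pow_zero, ← Multiset.nodup_iff_count_le_one, add_comm, Multiset.singleton_add,
          Multiset.nodup_cons]
        refine ⟨fun h => h4 ?_, h7⟩
        obtain ⟨i, -, rfl⟩ := H67.mem_fo.1 h
        exact H67.frob_iter_inj hfr i (by simpa [pow_right_comm x] using h8)
    · obtain rfl := Multiset.card_eq_zero.1 (show t.card = 0 by omega)
      obtain ⟨h9, -, c, hc⟩ := hz (x ^ (e * q + 3 * e + u)) (by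
        rw [← pow_mul', ← h1, ← hs1]
        simp [H67.fo, Multiset.range_succ, pow_succ x, pow_add x ((q + 1) ^ 2), mul_assoc])
      refine .inl ((key (e * q + 3 * e + u) 0 c (fun z hz => ?_) (by
        simpa [← Multiset.nodup_iff_count_le_one] using h7)).trans (by simp))
      obtain ⟨i, hi, rfl⟩ := H67.mem_fo.1 (by simpa using hz)
      rw [hc, pow_right_comm]
      interval_cases i <;> simp [h9, sq, pow_mul]
  have key : ∀ x y z : Ω, ({x, y, z} : Multiset Ω).map (fun x => x ^ (q + 1)) = {x, y, z} →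
      x * (y * z) = 1 → ∃ g : Matrix.ProjectiveSpecialLinearGroup (Fin 3) F,
        x ^ orderOf g = y ^ orderOf g ∧ x ^ orderOf g = z ^ orderOf g := fun x y z h4 h5 => by
    obtain ⟨g, -, hg⟩ := H67.exists_sl_ev_eq (F := F) (ι := Fin 3) (hq ▸ h4) (by simp)
      (by simpa using h5)
    exact ⟨g, H67.pow_orderOf_mk_eq _ hZ (Multiset.subset_of_le hg.ge (by simp)) (Multiset.subset_of_le hg.ge (by simp)),
      H67.pow_orderOf_mk_eq _ hZ (Multiset.subset_of_le hg.ge (by simp)) (Multiset.subset_of_le hg.ge (by simp))⟩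
  rintro m (h | h | h | h | ⟨rfl, h⟩)
  · obtain ⟨x, hx⟩ := H67.exists_root' F Ω p (hc (q + 2))
    have h4 := (hx _).2 dvd_rfl
    have h0 : x ≠ 0 := by rintro rfl; simp at h4
    obtain ⟨g, h5, h6⟩ := key x (x ^ (q + 1)) (x ^ (q + 1) ^ 2) (by
      have : (x ^ (q + 1) ^ 2) ^ (q + 1) = x := by
        rw [← pow_mul, show (q + 1) ^ 2 * (q + 1) = ((q + 2) * (q + 1) + 1) * q + 1 by ring,
          pow_succ, pow_mul, h4]; simp
      simp only [Multiset.insert_eq_cons, Multiset.map_cons, Multiset.map_singleton, this]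
      simp only [← Multiset.singleton_add, ← pow_mul, ← sq]
      abel) (by rw [← h4]; ring)
    refine H67.mem_range_orderOf_of_dvd g (h.trans (Nat.dvd_of_mul_dvd_mul_left hd0 ?_))
    have h7 : x ^ (orderOf g * q) = 1 := mul_left_cancel₀ (pow_ne_zero (orderOf g) h0) (by
      rw [mul_one]; exact Eq.trans (by ring) h5.symm)
    rw [← h1, show (q + 1) ^ 2 + (q + 1) + 1 = (q + 2) * (q + 1) + 1 by ring]
    refine hgc ((hx _).1 h7) ((hx _).1 ?_)
    calc x ^ (orderOf g * 3) = x ^ (orderOf g * 3) * (x ^ (orderOf g * q)) ^ (q + 3) := by simp [h7]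
      _ = (x ^ ((q + 2) * (q + 1) + 1)) ^ orderOf g := by ring
      _ = 1 := by simp [h4]
  · obtain ⟨x, hx⟩ := H67.exists_root' F Ω p (Nat.Coprime.mul_left (hc 1) hc1)
    have h4 := (hx _).2 dvd_rfl
    have h0 : x ≠ 0 := by rintro rfl; simp [hq0.ne'] at h4
    obtain ⟨g, h5, h6⟩ := key x (x ^ (q + 1)) (x ^ (q + 2))⁻¹ (by
      have h5 : (x ^ (q + 1)) ^ (q + 1) = x := by
        conv_rhs => rw [← mul_one x, ← h4]
        ring
      have h6 : (x ^ (q + 2)) ^ (q + 1) = x ^ (q + 2) := by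
        conv_rhs => rw [← mul_one (x ^ (q + 2)), ← h4]
        ring
      simp [h5, h6, Multiset.cons_swap]) (by
        rw [← mul_assoc, ← pow_succ', mul_inv_cancel₀ (pow_ne_zero _ h0)])
    refine H67.mem_range_orderOf_of_dvd g (h.trans (Nat.dvd_of_mul_dvd_mul_left hd0 ?_))
    have h7 : x ^ (orderOf g * q) = 1 := mul_left_cancel₀ (pow_ne_zero (orderOf g) h0) (by
      rw [mul_one]; exact Eq.trans (by ring) h5.symm)
    rw [show d * ((q + 2) * e) = (1 * (q + 1) + 1) * q by linear_combination (q + 2) * he.symm]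
    refine hgc ((hx _).1 h7) ((hx _).1 ?_)
    calc x ^ (orderOf g * 3) = x ^ (orderOf g * 3) * x ^ (orderOf g * q) := by simp [h7]
      _ = x ^ orderOf g * (x ^ (q + 2)) ^ orderOf g := by ring
      _ = 1 := by rw [h6, inv_pow, inv_mul_cancel₀ (by simp [h0])]
  · obtain ⟨x, hx⟩ := H67.exists_root' F Ω p hc1
    have h4 := (hx _).2 dvd_rfl
    have h0 : x ≠ 0 := by rintro rfl; simp [hq0.ne'] at h4
    obtain ⟨g, -, h6⟩ := key x x⁻¹ 1 (by simp [pow_succ, h4]) (by simp [h0])
    exact H67.mem_range_orderOf_of_dvd g (h.trans ((hx _).1 (by simpa using h6)))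
  · obtain ⟨a, ha⟩ := IsCyclic.exists_ofOrder_eq_natCard (α := Fˣ)
    rw [Nat.card_units, Nat.card_eq_fintype_card, hq, Nat.add_sub_cancel] at ha
    obtain ⟨g, hg⟩ := H67.exists_sl_block (F := F) p (n := 1) (((a : F) ^ 2)⁻¹ • 1) (a := a) (by simp)
    obtain ⟨c, hc⟩ := (H67.orderOf_mk_dvd_iff _ hZ g _).1 dvd_rfl
    obtain ⟨h4, rfl, h5⟩ := (hg _ _).1 hc
    refine H67.mem_range_orderOf_of_dvd (QuotientGroup.mk g) (h.trans
      (Nat.Coprime.mul_dvd_of_dvd_of_dvd (Nat.Coprime.coprime_dvd_left ⟨d, by rw [he]; ring⟩ hc1)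
        (Nat.dvd_of_mul_dvd_mul_left hd0 ?_) h5))
    rw [← he]
    refine hgc (dvd_mul_left _ _) (ha ▸ orderOf_dvd_of_pow_eq_one (Units.ext ?_))
    have h6 := congrFun (congrFun h4 0) 0
    simp only [smul_pow, one_pow, Matrix.smul_apply, Matrix.one_apply_eq, smul_eq_mul, mul_one,
      inv_pow] at h6
    rw [Units.val_pow_eq_pow_val, Units.val_one, ← inv_mul_cancel₀ (pow_ne_zero _ (pow_ne_zero 2
      a.ne_zero)), h6]
    ring
  · have hJ := (H67.jordanBlock_regular (F := F) 3).1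
    obtain ⟨j, hj1, hj2⟩ := H67.exists_pow_dvd_orderOf_mk _ hZ Subtype.val_injective 2
      (u := ⟨_, H67.det_eq_one_of_unipotent hJ⟩) hJ (H67.jordanBlock_pow_ne_zero 2)
    refine H67.mem_range_orderOf_of_dvd _ (h.trans ((pow_dvd_pow 2 (?_ : 2 ≤ j)).trans hj2))
    by_contra h
    interval_cases j <;> simp at hj1

end Cfsg.Agent.S2476
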