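import Cfsg.Statements.S2470
import Mathlib
import Cfsg.Agent.S2476
import Cfsg.Agent.H66.SL2Order

set_option autoImplicit false
open Cfsg

namespace Cfsg.Agent.S2470


/-- Adjacency of an odd prime and the characteristic in the prime graph of PSL(n,q): let F be a finite field of characteristic p with q elements, n ≥ 2 with PSL(n,F) simple, and let r ≠ p be an odd prime dividing the order of PSL(n,F), with k the multiplicative order of q modulo r. Then PSL(n,F) has NO element of order r·p if and only if either k > n − 2, or n = 3, r = 3 and 3 divides q − 1 exactly once. -/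
theorem result {F : Type*} [Field F] [Fintype F] (p : ℕ) [Fact p.Prime] [CharP F p] (n : ℕ) (hn : 2 ≤ n) (hsmall : n = 2 → 4 ≤ Fintype.card F)
    (r : ℕ) (hr : r.Prime) (hr2 : r ≠ 2) (hrp : r ≠ p) (hrG : r ∣ Nat.card (Matrix.ProjectiveSpecialLinearGroup (Fin n) F))
    (k : ℕ) (hk : k = orderOf ((Fintype.card F : ℕ) : ZMod r)) :
    (r * p ∉ Set.range (orderOf : Matrix.ProjectiveSpecialLinearGroup (Fin n) F → ℕ)) ↔
      (n - 2 < k ∨ (n = 3 ∧ r = 3 ∧ 3 ∣ Fintype.card F - 1 ∧ ¬ 9 ∣ Fintype.card F - 1)) := by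
  let Ω := AlgebraicClosure F
  have hp : p.Prime := Fact.out
  have hq := Fintype.card_pos (α := F)
  have hc := (Nat.coprime_primes hr hp).2 hrp
  have hk0 : 0 < k := hk ▸ H67.orderOf_card_pos p hr hrp
  have hk1 : k = 1 ↔ r ∣ Fintype.card F - 1 := by
    rw [← ZMod.natCast_eq_zero_iff, Nat.cast_sub hq, Nat.cast_one, sub_eq_zero, hk, orderOf_eq_one_iff]
  have hpq : p ∣ Fintype.card F := by
    obtain ⟨j, -, hj⟩ := FiniteField.card F p
    exact hj ▸ dvd_pow_self p j.ne_zero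
  have h1 : ∀ {a}, p ∣ a → 0 < a → ¬ r * p ∣ a - 1 ∧ ¬ r * p ∣ a + 1 := fun {a} h h0 =>
    ⟨fun h' => hp.not_dvd_one ((Nat.dvd_add_right ((dvd_mul_left p r).trans h')).1
      (by rwa [Nat.sub_add_cancel h0])),
    fun h' => hp.not_dvd_one ((Nat.dvd_add_right h).1 ((dvd_mul_left p r).trans h'))⟩
  have hfr := H67.frob_injective (F := F) (Ω := Ω)
  by_cases h2 : k = 1 ∧ n = 2
  · obtain ⟨rfl, rfl⟩ := h2
    refine iff_of_true ?_ (.inl one_pos)
    rintro ⟨g, hg⟩
    rcases hg ▸ H66.orderOf_psl2_dvd p g with h | h | h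
    · exact (lt_mul_of_one_lt_left hp.pos hr.one_lt).not_ge (Nat.le_of_dvd hp.pos h)
    · exact (h1 hpq hq).1 (h.trans (Nat.div_dvd_of_dvd (Nat.gcd_dvd_right _ _)))
    · refine (h1 hpq hq).2 (h.trans (Nat.div_dvd_of_dvd ?_))
      rw [show Fintype.card F + 1 = 2 + (Fintype.card F - 1) by omega]
      exact dvd_add (Nat.gcd_dvd_left _ _) (Nat.gcd_dvd_right _ _)
  by_cases h3 : k = 1 ∧ n = 3
  · obtain ⟨rfl, rfl⟩ := h3
    have h3 := hk1.1 rfl
    rw [S2476.result p, Set.mem_setOf_eq, or_iff_right, or_iff_right, or_iff_right (h1 hpq hq).1,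
      or_iff_left, Nat.mul_div_assoc _ (Nat.gcd_dvd_right _ _), mul_comm r,
      Nat.mul_dvd_mul_iff_left hp.pos, Nat.dvd_div_iff_mul_dvd (Nat.gcd_dvd_right _ _)]
    · by_cases h4 : 3 ∣ Fintype.card F - 1
      · rw [Nat.gcd_eq_left h4]
        by_cases h5 : r = 3
        · simp [h5, h4]
        · simp [h5, ((Nat.coprime_primes Nat.prime_three hr).2 (Ne.symm h5)).mul_dvd_of_dvd_of_dvd h4 h3]
      · simp [(Nat.prime_three.coprime_iff_not_dvd.2 h4).gcd_eq_one, h3, h4]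
    · rintro ⟨rfl, h⟩
      exact hr2 ((Nat.prime_dvd_prime_iff_eq hr hp).1 (Nat.dvd_of_mul_dvd_mul_right two_pos h))
    · exact fun h => (h1 (dvd_pow hpq two_ne_zero) (pow_pos hq 2)).1 (h.trans (Nat.div_dvd_of_dvd
        ((Nat.gcd_dvd_right _ _).trans (by simpa using Nat.sub_dvd_pow_sub_pow _ 1 2))))
    · refine fun h => (h1 (dvd_add (dvd_pow hpq two_ne_zero) hpq) (by omega)).2
        (h.trans (Nat.div_dvd_of_dvd ?_))
      obtain ⟨q, hq⟩ := Nat.exists_eq_add_of_le' hq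
      rw [hq, Nat.add_sub_cancel, show (q + 1) ^ 2 + (q + 1) + 1 = 3 + q * (q + 3) by ring]
      exact dvd_add (Nat.gcd_dvd_left _ _) ((Nat.gcd_dvd_right _ _).mul_right _)
  rw [or_iff_left (by rintro ⟨rfl, rfl, h, -⟩; exact h3 ⟨hk1.2 h, rfl⟩), ← not_iff_not, not_not, not_lt]
  constructor
  · intro h
    by_contra! h4
    have h5 : k ≠ 1 := by omega
    obtain ⟨g, hg⟩ := (H67.mem_range_orderOf_mk_iff (H67.center_pow_card_sub_one (H67.slHom _ F)
      Subtype.val_injective H67.sl_mem_center_iff) (Nat.Coprime.mul_left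
        (hr.coprime_iff_not_dvd.2 (hk1.not.1 h5)) (hp.coprime_iff_not_dvd.2 fun h => hp.not_dvd_one
          ((Nat.dvd_add_right h).1 (by rwa [Nat.sub_add_cancel hq]))))).1 h
    obtain ⟨h6, h7, h8⟩ := H67.pow_ne_one_of_orderOf hr hp hg
    obtain ⟨h9, x, h10, h11, h12⟩ := H67.ev_of_order_mul_char Ω p hc (congrArg Subtype.val h6)
      (fun h => h7 (Subtype.ext h)) fun h => h8 (Subtype.ext h)
    obtain ⟨d, t, h13, h14, h15, h16, h17⟩ := H67.exists_fo hfr (H67.ev_map_frob _) h10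
    have h18 := congrArg Multiset.card h16
    rw [H67.card_ev, Fintype.card_fin, Multiset.card_add, H67.card_fo] at h18
    have := Nat.le_of_dvd h13 (hk ▸ (H67.frob_fix_iff hr h11 h12 _ _).1 h14)
    refine h9 (h16 ▸ ?_)
    rcases (show t.card = 0 ∨ t.card = 1 by omega) with h19 | h19
    · rwa [Multiset.card_eq_zero.1 h19, add_zero]
    · obtain ⟨y, rfl⟩ := Multiset.card_eq_one.1 h19
      rw [add_comm, Multiset.singleton_add, Multiset.nodup_cons]
      refine ⟨fun h => h5 (Nat.dvd_one.1 (hk ▸ (H67.frob_fix_iff hr h11 h12 _ 1).1 ?_)), h15⟩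
      obtain ⟨i, -, rfl⟩ := H67.mem_fo.1 h
      exact H67.frob_iter_inj hfr i (by simpa [pow_right_comm x] using h17)
  · intro h
    obtain ⟨x, hx⟩ := H67.exists_root' F Ω p hc
    have hx1 := (hx r).2 dvd_rfl
    have hx2 : x ^ p ≠ 1 := fun h => hrp ((Nat.prime_dvd_prime_iff_eq hr hp).1 ((hx _).1 h))
    have hx3 := (H67.frob_fix_iff hr hx1 (by rintro rfl; simp at hx2) (Fintype.card F) k).2 hk.symm.dvd
    obtain ⟨n, rfl⟩ := Nat.exists_eq_add_of_le' hn
    obtain ⟨t, h4, h5, h6, h7, h8⟩ : ∃ t : Multiset Ω, t.card ≤ n ∧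
        t.map (fun x => x ^ Fintype.card F) = t ∧ t.prod = 1 ∧ (∀ x ∈ t, x ^ r = 1) ∧ x ∈ t := by
      by_cases h4 : k = 1
      · subst h4
        exact ⟨H67.pm _ 1 x, by simp; omega, H67.pm_map_frob (.inl hx3),
          H67.prod_pm (by rintro rfl; simp [hr.ne_zero] at hx1),
          fun y hy => (H67.pow_eq_one_iff_of_mem_pm hfr hy r).2 hx1, H67.self_mem_pm one_pos x⟩
      · have h5 : ∀ y ∈ H67.fo (Fintype.card F) k x, y ^ r = 1 := fun y hy => by
          obtain ⟨i, -, rfl⟩ := H67.mem_fo.1 hy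
          rw [pow_right_comm, hx1, one_pow]
        exact ⟨_, by simpa using h, H67.fo_map_frob hx3, H67.prod_eq_one_of_coprime hq hr.pos
          (H67.fo_map_frob hx3) h5 (hr.coprime_iff_not_dvd.2 (hk1.not.1 h4)), h5,
          H67.self_mem_fo hk0 x⟩
    obtain ⟨A, h9, h10⟩ := H67.exists_sl_ev_eq (ι := Fin n) (F := F)
      (s := t + Multiset.replicate (n - t.card) 1) (by simp [h5]) (by simp; omega) (by simp [h6])
    obtain ⟨g, hg⟩ := H67.exists_sl_block p A.1 (a := 1) (by simp)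
    replace hg : ∀ M, (QuotientGroup.mk g : Matrix.ProjectiveSpecialLinearGroup _ F) ^ M = 1 ↔
        A.1 ^ M = 1 ∧ p ∣ M := fun M => by
      rw [← orderOf_dvd_iff_pow_eq_one, H67.orderOf_mk_dvd_iff _ H67.sl_mem_center_iff]
      exact (exists_congr (hg M)).trans (by simp)
    refine ⟨g, H67.orderOf_eq_mul_iff hr hp ((hg _).2 ⟨?_, dvd_mul_left _ _⟩)
      (fun h => hrp ((Nat.prime_dvd_prime_iff_eq hp hr).1 ((hg _).1 h).2).symm)
      fun h => hx2 (H67.pow_eq_one_of_mem_ev ((hg _).1 h).1 (by simp [h10, h8]))⟩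
    rw [pow_mul, H67.IsSS_pow_eq_one (Ω := Ω) h9 fun y hy => ?_, one_pow]
    rcases Multiset.mem_add.1 (h10 ▸ hy) with h | h
    exacts [h7 y h, by simp [Multiset.eq_of_mem_replicate h]]

end Cfsg.Agent.S2470
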