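import Cfsg.Statements.S2472
import Mathlib
import Cfsg.Agent.H67.PGraph

set_option autoImplicit false
open Cfsg

namespace Cfsg.Agent.S2472


/-- Adjacency of a prime and the characteristic in the prime graph of PSp(2n,q): let F be a finite field of characteristic p with q elements, n ≥ 2 with PSp(2n,F) simple, and let r ≠ p be an odd prime dividing the order of PSp(2n,F), with k the multiplicative order of q modulo r and η(k) = k for odd k, k/2 for even k. Then PSp(2n,F) has NO element of order r·p if and only if η(k) > n − 1. -/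
theorem result {F : Type*} [Field F] [Fintype F] (p : ℕ) [Fact p.Prime] [CharP F p] (n : ℕ) (hn : 2 ≤ n) (hsmall : n = 2 → 3 ≤ Fintype.card F)
    (r : ℕ) (hr : r.Prime) (hr2 : r ≠ 2) (hrp : r ≠ p) (hrG : r ∣ Nat.card (Cfsg.PSp n F))
    (k ηk : ℕ) (hk : k = orderOf ((Fintype.card F : ℕ) : ZMod r)) (hηk : (Odd k ∧ ηk = k) ∨ (Even k ∧ 2 * ηk = k)) :
    (r * p ∉ Set.range (orderOf : Cfsg.PSp n F → ℕ)) ↔ n - 1 < ηk := by
  let Ω := AlgebraicClosure F
  have hp : p.Prime := Fact.out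
  have hc := (Nat.coprime_primes hr hp).2 hrp
  have hro := hr.odd_of_ne_two hr2
  rw [H67.mem_range_orderOf_psp_iff p (by omega) (hp.eq_two_or_odd'.imp_right hro.mul),
    ← not_iff_not, not_not, not_lt]
  constructor
  · rintro ⟨g, hg⟩
    obtain ⟨h1, h2, h3⟩ := H67.pow_ne_one_of_orderOf hr hp hg
    obtain ⟨x, d, h4, h5, h6, h7, h8⟩ := H67.exists_pm_of_order_mul_char (Ω := Ω) p (n := n)
      (by simp; omega) hro (H67.ev_map_inv_of_sp g) hc (congrArg Subtype.val h1)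
      (fun h => h2 (Subtype.ext h)) fun h => h3 (Subtype.ext h)
    have := Nat.le_of_dvd h6 ((H67.eta_dvd_iff hηk d).2 (hk ▸ (H67.frob_pm_iff hr h4 h5 _ _).1 h8))
    omega
  · intro h
    obtain ⟨x, hx⟩ := H67.exists_root' F Ω p hc
    have hx1 : x ^ r = 1 := (hx r).2 dvd_rfl
    have hx2 : ∀ {s : ℕ}, s.Prime → r ≠ s → x ^ s ≠ 1 := fun hs hrs h =>
      hrs ((Nat.prime_dvd_prime_iff_eq hr hs).1 ((hx _).1 h))
    have hk0 : 0 < k := hk ▸ H67.orderOf_card_pos p hr hrp
    obtain ⟨A, h1, h2⟩ := H67.exists_pres_pm (F := F) true (d := ηk)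
      (by rintro rfl; simp [hr.ne_zero] at hx1) (hx2 Nat.prime_two hr2)
      ((H67.frob_pm_iff hr hx1 (by rintro rfl; simpa using hx2 hp hrp) _ _).2
        (hk ▸ (H67.eta_dvd_iff hηk _).1 dvd_rfl)) (by omega)
    obtain ⟨T, h3, h4, h5⟩ := H67.exists_unip_alt (F := F) p
    obtain ⟨g, hg⟩ := ((h1.prod h3).prod (H67.pres_one_true (n - 1 - ηk))).exists_sp_pow (m := n)
      (by simp; omega)
    replace hg : ∀ M, g ^ M = 1 ↔ x ^ M = 1 ∧ T ^ M = 1 := fun M => by
      simpa [H67.prodMap_pow_eq_one_iff, H67.toLin'_pow_eq_one_iff, h2, Subtype.ext_iff]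
        using hg M 1
    refine ⟨g, H67.orderOf_eq_mul_iff hr hp ((hg _).2 ⟨by rw [pow_mul, hx1, one_pow],
      by rw [pow_mul', h4, one_pow]⟩) (fun h => hrp ?_) fun h => hx2 hp hrp ((hg _).1 h).1⟩
    exact ((Nat.prime_dvd_prime_iff_eq hp hr).1 (h5 r 1 (by simp [((hg _).1 h).2])).2).symm

end Cfsg.Agent.S2472
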