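import Cfsg.Statements.S2493
import Cfsg.Agent.AN.Cov
import Cfsg.Agent.H67.AltCov2

set_option autoImplicit false
open Cfsg

namespace Cfsg.Agent.S2493

open Equiv Equiv.Perm Subgroup H3 H67 AN

section
variable {α : Type} [DecidableEq α] [Fintype α]

/-- every permutation is a product of two involutions of (almost) the same type -/
theorem two_inv (n : ℕ) : ∀ (σ : Perm α) (p : α), σ.support.card ≤ n → ∃ r s : Perm α, σ = r * s ∧
    r ^ 2 = 1 ∧ s ^ 2 = 1 ∧ s p = p ∧ r.support ⊆ σ.support ∧ s.support ⊆ σ.support ∧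
    r.support.card = s.support.card + (if sign σ = 1 then 0 else 2) := by
  induction n with
  | zero =>
    intro σ p h
    obtain rfl : σ = 1 := card_support_eq_zero.1 (by omega)
    exact ⟨1, 1, by simp, by simp, by simp, rfl, by simp, by simp, by simp⟩
  | succ n ih =>
    have key : ∀ (σ : Perm α) (p : α), σ.support.card ≤ n + 1 → σ p ≠ p → ∃ r s : Perm α, σ = r * s ∧
        r ^ 2 = 1 ∧ s ^ 2 = 1 ∧ s p = p ∧ r.support ⊆ σ.support ∧ s.support ⊆ σ.support ∧
        r.support.card = s.support.card + (if sign σ = 1 then 0 else 2) := by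
      intro σ p h hp
      have h1 := card_support_swap_mul hp
      have h2 : (swap p (σ p) * σ).support ⊆ σ.support := fun x hx => (mem_support_swap_mul_imp_mem_support_ne hx).1
      have h3 : p ∉ (swap p (σ p) * σ).support := fun hx => (mem_support_swap_mul_imp_mem_support_ne hx).2 rfl
      obtain ⟨r, s, e1, e2, e3, e4, e5, e6, e7⟩ := ih (swap p (σ p) * σ)⁻¹ (σ p) (by rw [support_inv]; omega)
      rw [support_inv] at e5 e6
      have hs : s p = p := notMem_support.1 fun hx => h3 (e6 hx)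
      have hr : r p = p := notMem_support.1 fun hx => h3 (e5 hx)
      have hd : Perm.Disjoint (swap p (σ p)) s := fun x => by
        by_cases hx : s x = x
        · exact .inr hx
        · exact .inl (swap_apply_of_ne_of_ne (fun e => hx (e ▸ hs)) fun e => hx (e ▸ e4))
      have hr' : r⁻¹ = r := inv_eq_of_mul_eq_one_right (by rw [← sq, e2])
      have hs' : s⁻¹ = s := inv_eq_of_mul_eq_one_right (by rw [← sq, e3])
      refine ⟨swap p (σ p) * s, r, ?_, ?_, e2, hr, ?_, e5.trans h2, ?_⟩
      · rw [mul_assoc, ← hs', ← hr', ← mul_inv_rev, ← e1, inv_inv, swap_mul_self_mul]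
      · rw [hd.commute.mul_pow, e3, mul_one, sq, swap_mul_self]
      · rw [hd.support_mul, support_swap hp.symm]
        intro x hx
        simp only [Finset.mem_union, Finset.mem_insert, Finset.mem_singleton] at hx
        rcases hx with (rfl | rfl) | hx
        · exact mem_support.2 hp
        · exact apply_mem_support.2 (mem_support.2 hp)
        · exact h2 (e6 hx)
      · rw [hd.card_support_mul, card_support_swap hp.symm, e7, sign_inv, Perm.sign_mul, sign_swap hp.symm]
        rcases Int.units_eq_one_or (sign σ) with e | e <;> simp [e] <;> omega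
    intro σ p h
    by_cases hp : σ p = p
    · by_cases h0 : σ = 1
      · subst h0
        exact ⟨1, 1, by simp, by simp, by simp, rfl, by simp, by simp, by simp⟩
      obtain ⟨q, hq⟩ : ∃ q, σ q ≠ q := by simpa [Perm.ext_iff] using h0
      obtain ⟨r, s, e1, e2, e3, -, e5, e6, e7⟩ := key σ q h hq
      exact ⟨r, s, e1, e2, e3, notMem_support.1 fun hx => mem_support.1 (e6 hx) hp, e5, e6, e7⟩
    · exact key σ p h hp

theorem conj_inv {r s : Perm α} (hr : r ^ 2 = 1) (hs : s ^ 2 = 1) (h : r.support.card = s.support.card) :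
    IsConj r s := by
  have : Fact (Nat.Prime 2) := ⟨Nat.prime_two⟩
  have h1 := cycleType_of_pow_prime_eq_one hr
  have h2 := cycleType_of_pow_prime_eq_one hs
  have h3 := r.sum_cycleType
  have h4 := s.sum_cycleType
  rw [h1, Multiset.sum_replicate, smul_eq_mul] at h3
  rw [h2, Multiset.sum_replicate, smul_eq_mul] at h4
  rw [isConj_iff_cycleType_eq, h1, h2]
  congr 1
  omega

theorem three_mul {r : Perm α} (hr : r ^ 2 = 1) {a b : α} (ha : r a = a) (hb : r b ≠ b) :
    ∃ τ ρ : Perm α, r * swap a b = τ * ρ ∧ τ.IsThreeCycle ∧ ρ ^ 2 = 1 ∧ Perm.Disjoint τ ρ ∧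
      r.support.card = ρ.support.card + 2 ∧ sign ρ = -sign r := by
  have h2 := H84.swap_mul_invol hr b
  have h3 := (H84.pow_eq_one_of_disjoint h2 (n := 2) (by rwa [swap_mul_self_mul])).2
  have hab : a ≠ b := fun e => hb (e ▸ ha)
  have hab' : a ≠ r b := fun e => hab (r.injective (ha.trans e))
  have h5 : (swap b (r b) * r) b = b := by simp
  have h6 : (swap b (r b) * r) (r b) = r b := (h2 _).resolve_left (by simpa using hb.symm)
  have h7 : (swap b (r b) * r) a = a := by rw [Perm.mul_apply, ha, swap_apply_of_ne_of_ne hab hab']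
  have hd : Perm.Disjoint (swap a b) (swap b (r b) * r) := fun x => by
    by_cases hx : (swap b (r b) * r) x = x
    · exact .inr hx
    · exact .inl (swap_apply_of_ne_of_ne (fun e => hx (e ▸ h7)) fun e => hx (e ▸ h5))
  refine ⟨swap b (r b) * swap a b, swap b (r b) * r, ?_, ?_, h3, h2.mul_left hd, ?_, ?_⟩
  · rw [mul_assoc, hd.commute.eq, ← mul_assoc, swap_mul_self_mul]
  · rw [swap_comm a b]
    exact isThreeCycle_swap_mul_swap_same hb.symm hab.symm hab'.symm
  · conv_lhs => rw [← swap_mul_self_mul b (r b) r]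
    rw [h2.card_support_mul, card_support_swap hb.symm, add_comm]
  · rw [Perm.sign_mul, sign_swap hb.symm, neg_one_mul]

variable {H : Type*} [Group H] {π : H →* Perm α} {z : H}

/-- a product `x y` with `y ~ x⁻¹` and `x` containing a double transposition lifts to commutators -/
theorem key (h : DC π z) {a b c d : α} (e1 : [a, b, c, d].Nodup) {ρ y : Perm α} (e3 : ρ a = a)
    (e4 : ρ b = b) (e5 : ρ c = c) (e6 : ρ d = d) (hρ : sign ρ = 1)
    (hy : IsConj (swap a b * swap c d * ρ) y⁻¹) {g : H} (hg : π g = swap a b * swap c d * ρ * y) :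
    ∃ u v : H, u * v * u⁻¹ * v⁻¹ = g := by
  have e0 := e1
  simp only [List.nodup_cons, List.mem_cons, List.not_mem_nil, or_false, not_or] at e0
  obtain ⟨u, e2⟩ := h.surj (swap a b * swap c d) (by simp [e0.1.1, e0.2.2.1])
  obtain ⟨r, hr⟩ := h.surj ρ hρ
  obtain ⟨k, hk⟩ := h.surj (swap a c * swap b d) (by simp [e0.1.2.1, e0.2.1.2])
  have hc : Commute k r := h.comm_disj (by rw [hk, hr]; exact H84.dt_disjoint e3 e5 e4 e6)
  have h2 := h.dt k a c b d (by simp; grind) hk
  have h3 := h.dt u a b c d e1 e2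
  have h4 := h.dt (k * u) a d b c (by simp; grind) (by
    rw [map_mul, hk, e2]; ext p; simp only [Perm.mul_apply, swap_apply_def]; grind)
  have h5 : k * u * k⁻¹ = u * z := by
    have a1 : k⁻¹ = k * z := by
      rw [inv_eq_iff_mul_eq_one, ← mul_assoc, ← sq, h2, h.z_sq]
    have a2 : k * u * k * u = z := by rw [← h4, sq]; group
    have a3 : u⁻¹ = u * z := by
      rw [inv_eq_iff_mul_eq_one, ← mul_assoc, ← sq, h3, h.z_sq]
    rw [a1, ← mul_assoc, eq_mul_inv_of_mul_eq a2, ← h.comm_z, mul_assoc, h.z_sq, mul_one, a3]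
  have h6 : k * (u * r) * k⁻¹ = u * r * z := calc
    k * (u * r) * k⁻¹ = k * u * k⁻¹ * (k * r * k⁻¹) := by group
    _ = u * r * z := by rw [h5, hc.eq, mul_inv_cancel_right, mul_assoc, ← h.comm_z, mul_assoc]
  have h7 : Commute (swap a b) (swap a b * swap c d * ρ) := by
    refine ((Commute.refl _).mul_right (Perm.Disjoint.commute fun x => ?_)).mul_right
      (Perm.Disjoint.commute fun x => ?_)
    · simp only [swap_apply_def]
      grind
    · by_cases hx : ρ x = x
      · exact .inr hx
      · exact .inl (swap_apply_of_ne_of_ne (fun e => hx (e ▸ e3)) fun e => hx (e ▸ e4))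
  obtain ⟨p, hp, hp'⟩ : ∃ p : Perm α, sign p = 1 ∧ p * (swap a b * swap c d * ρ) * p⁻¹ = y⁻¹ := by
    obtain ⟨p, hp⟩ := isConj_iff.1 hy
    rcases Int.units_eq_one_or (sign p) with e | e
    · exact ⟨p, e, hp⟩
    · refine ⟨p * swap a b, by simp [e, e0.1.1], ?_⟩
      rw [← hp, mul_assoc p, h7.eq, mul_inv_rev, swap_inv]
      simp only [mul_assoc, swap_mul_self_mul]
  obtain ⟨q, rfl⟩ := h.surj p hp
  have h8 : π g = π (u * r * q * (u * r)⁻¹ * q⁻¹) := by
    simp only [map_mul, map_inv, e2, hr]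
    rw [hg, ← inv_inv y, ← hp']
    group
  rcases h.eq_or h8 with e | e
  · exact ⟨_, _, e.symm⟩
  · refine ⟨u * r, q * k, ?_⟩
    have h9 : z⁻¹ = z := inv_eq_of_mul_eq_one_right h.z_sq
    calc u * r * (q * k) * (u * r)⁻¹ * (q * k)⁻¹ = u * r * q * (k * (u * r) * k⁻¹)⁻¹ * q⁻¹ := by group
      _ = g := by
        rw [h6, e, mul_inv_rev, h9, ← h.comm_z, ← mul_assoc, mul_assoc _ z, ← h.comm_z, ← mul_assoc]

theorem key_inv (h : DC π z) {r s : Perm α} (hr : r ^ 2 = 1) (hs : s ^ 2 = 1)
    (hc : r.support.card = s.support.card) (h1 : r ≠ 1) (h2 : sign r = 1) {g : H} (hg : π g = r * s) :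
    ∃ u v : H, u * v * u⁻¹ * v⁻¹ = g := by
  obtain ⟨a, b, c, d, ρ, e1, e2, e3, e4, e5, e6, -⟩ := H84.exists_dt hr h1 h2
  have e0 := e1
  simp only [List.nodup_cons, List.mem_cons, List.not_mem_nil, or_false, not_or] at e0
  refine key h e1 e3 e4 e5 e6 (by simpa [e2, e0.1.1, e0.2.2.1] using h2) (y := s) ?_ (e2 ▸ hg)
  rw [← e2, inv_eq_of_mul_eq_one_right (show s * s = 1 by rw [← sq, hs])]
  exact conj_inv hr hs hc

theorem dt_sq {a b c d : α} (e1 : [a, b, c, d].Nodup) :
    (swap a b * swap c d) ^ 2 = 1 ∧ (swap a b * swap c d).support.card = 4 ∧ swap a b * swap c d ≠ 1 ∧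
      sign (swap a b * swap c d) = 1 := by
  simp only [List.nodup_cons, List.mem_cons, List.not_mem_nil, or_false, not_or] at e1
  have hd : Perm.Disjoint (swap a b) (swap c d) := fun x => by
    simp only [swap_apply_def]
    grind
  have h1 : (swap a b * swap c d).support.card = 4 := by
    rw [hd.card_support_mul, card_support_swap e1.1.1, card_support_swap e1.2.2.1]
  refine ⟨by rw [hd.commute.mul_pow, sq, sq, swap_mul_self, swap_mul_self, one_mul], h1, fun e => ?_,
    by simp [e1.1.1, e1.2.2.1]⟩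
  simp [e] at h1

theorem main (h : DC π z) (h5 : 5 ≤ Fintype.card α) (g : H) : ∃ u v : H, u * v * u⁻¹ * v⁻¹ = g := by
  obtain ⟨p⟩ : Nonempty α := Fintype.card_pos_iff.1 (by omega)
  obtain ⟨r, s, e1, e2, e3, e4, -, -, e7⟩ := two_inv _ (π g) p le_rfl
  rw [if_pos (h.even g), add_zero] at e7
  rcases Int.units_eq_one_or (sign r) with hr | hr
  · by_cases h1 : r = 1
    · obtain rfl : s = 1 := card_support_eq_zero.1 (by rw [← e7, h1, support_one, Finset.card_empty])
      obtain ⟨a, b, c, d, f1, f2, f3, f4, f5, f6⟩ := exists_four (α := α) (by omega)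
      obtain ⟨g1, -, g3, g4⟩ := dt_sq (a := a) (b := b) (c := c) (d := d) (by simp; grind)
      exact key_inv h g1 g1 rfl g3 g4 (by rw [e1, h1, mul_one, ← sq, g1])
    · exact key_inv h e2 e3 e7 h1 hr e1
  have hr1 : r ≠ 1 := fun e => by simp [e] at hr
  obtain ⟨a, b, ha, hb, hab⟩ : ∃ a b, r a = a ∧ r b ≠ b ∧ (s a = a ∧ s b ≠ b ∨ s b = b ∧ s a ≠ a) := by
    by_cases hs : r.support = s.support
    · obtain ⟨q, hq⟩ : ∃ q, r q ≠ q := by simpa [Perm.ext_iff] using hr1
      exact ⟨p, q, notMem_support.1 (hs ▸ notMem_support.2 e4), hq,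
        .inl ⟨e4, mem_support.1 (hs ▸ mem_support.2 hq)⟩⟩
    · obtain ⟨b, hb, hb'⟩ := Finset.not_subset.1 fun e => hs (Finset.eq_of_subset_of_card_le e e7.ge)
      obtain ⟨a, ha, ha'⟩ := Finset.not_subset.1 fun e => hs (Finset.eq_of_subset_of_card_le e e7.le).symm
      exact ⟨a, b, notMem_support.1 ha', mem_support.1 hb, .inr ⟨notMem_support.1 hb', mem_support.1 ha⟩⟩
  obtain ⟨τ, ρ, f1, f2, f3, f4, f5, f6⟩ := three_mul e2 ha hb
  obtain ⟨τ', ρ', f1', f2', f3', f4', f5', -⟩ : ∃ τ ρ : Perm α, s * swap a b = τ * ρ ∧ τ.IsThreeCycle ∧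
      ρ ^ 2 = 1 ∧ Perm.Disjoint τ ρ ∧ s.support.card = ρ.support.card + 2 ∧ sign ρ = -sign s := by
    rcases hab with ⟨h1, h2⟩ | ⟨h1, h2⟩
    · exact three_mul e3 h1 h2
    · exact swap_comm b a ▸ three_mul e3 h1 h2
  rw [hr, neg_neg] at f6
  by_cases h1 : ρ = 1
  · rw [h1, support_one, Finset.card_empty] at f5
    obtain ⟨x, y, hxy, rfl⟩ := card_support_eq_two.1 f5
    obtain ⟨u, v, huv, rfl⟩ := card_support_eq_two.1 (e7.symm.trans f5)
    by_cases h2 : [x, y, u, v].Nodup
    · obtain ⟨g1, g2, g3, g4⟩ := dt_sq (a := x) (b := u) (c := y) (d := v) (by simp at h2 ⊢; grind)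
      obtain ⟨g5, g6, -⟩ := dt_sq (a := x) (b := v) (c := y) (d := u) (by simp at h2 ⊢; grind)
      refine key_inv h g1 g5 (g2.trans g6.symm) g3 g4 (e1.trans ?_)
      simp only [List.nodup_cons, List.mem_cons, List.not_mem_nil, or_false, not_or] at h2
      ext p
      simp only [Perm.mul_apply, swap_apply_def]
      grind
    · obtain ⟨c, -, d, -, hc, hd, hcd⟩ := exists_two (S := Finset.univ) (T := {x, y, u, v}) (by
        have : ({x, y, u, v} : Finset α).card ≤ 3 := by
          have h3 : x = u ∨ x = v ∨ y = u ∨ y = v := by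
            simp only [List.nodup_cons, List.mem_cons, List.not_mem_nil, or_false, not_or] at h2
            grind
          rcases h3 with rfl | rfl | rfl | rfl
          · exact (Finset.card_le_card (t := {x, y, v}) (by grind)).trans Finset.card_le_three
          · exact (Finset.card_le_card (t := {x, y, u}) (by grind)).trans Finset.card_le_three
          · exact (Finset.card_le_card (t := {x, y, v}) (by grind)).trans Finset.card_le_three
          · exact (Finset.card_le_card (t := {x, y, u}) (by grind)).trans Finset.card_le_three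
        rw [Finset.card_univ]
        omega)
      simp only [Finset.mem_insert, Finset.mem_singleton, not_or] at hc hd
      obtain ⟨g1, g2, g3, g4⟩ := dt_sq (a := x) (b := y) (c := c) (d := d) (by simp; grind)
      obtain ⟨g5, g6, -⟩ := dt_sq (a := c) (b := d) (c := u) (d := v) (by simp; grind)
      exact key_inv h g1 g5 (g2.trans g6.symm) g3 g4 (by rw [e1, mul_assoc, swap_mul_self_mul])
  obtain ⟨a', b', c', d', ρ1, g1, g2, g3, g4, g5, g6, -⟩ := H84.exists_dt f3 h1 f6
  have g0 := g1
  simp only [List.nodup_cons, List.mem_cons, List.not_mem_nil, or_false, not_or] at g0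
  have g7 : ∀ t ∈ [a', b', c', d'], (τ * ρ1) t = t := by
    intro t ht
    have k1 : ρ1 t = t := by
      simp only [List.mem_cons, List.not_mem_nil, or_false] at ht
      rcases ht with rfl | rfl | rfl | rfl <;> assumption
    rw [Perm.mul_apply, k1]
    refine (f4 t).resolve_right ?_
    rw [g2, Perm.mul_apply, k1]
    simp only [List.mem_cons, List.not_mem_nil, or_false] at ht
    simp only [Perm.mul_apply, swap_apply_def]
    grind
  have g8 : τ * ρ = swap a' b' * swap c' d' * (τ * ρ1) := by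
    have k1 : Commute (swap a' b' * swap c' d') (τ * ρ1) :=
      (H84.dt_disjoint (g7 _ (by simp)) (g7 _ (by simp)) (g7 _ (by simp)) (g7 _ (by simp))).commute
    rw [k1.eq, g2, (H84.dt_disjoint g3 g4 g5 g6).commute.eq, mul_assoc]
  refine key h g1 (g7 _ (by simp)) (g7 _ (by simp)) (g7 _ (by simp)) (g7 _ (by simp)) ?_
    (y := swap a b * s) ?_ ?_
  · have := congrArg sign g8
    simpa [f2.sign, f6, g0.1.1, g0.2.2.1] using this.symm
  · rw [← g8, mul_inv_rev, swap_inv, inv_eq_of_mul_eq_one_right (show s * s = 1 by rw [← sq, e3]), f1']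
    exact Perm.Disjoint.isConj_mul (isConj_iff_cycleType_eq.2 (f2.cycleType.trans f2'.cycleType.symm))
      (conj_inv f3 f3' (by omega)) f4 f4'
  · rw [← g8, ← f1, e1, mul_assoc, swap_mul_self_mul]

end

/-- Let n ≥ 5 and let G be a finite perfect group whose centre has order 2 with G/Z(G) isomorphic to the alternating group of degree n (the double cover of the alternating group). Then every element of G is a commutator. -/
theorem result {G : Type*} [Group G] [Finite G] (hperf : commutator G = ⊤) {n : ℕ} (hn : 5 ≤ n)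
    (hZ : Nat.card (Subgroup.center G) = 2) (e : G ⧸ Subgroup.center G ≃* alternatingGroup (Fin n))
    (g : G) :
    ∃ a b : G, a * b * a⁻¹ * b⁻¹ = g := by
  obtain ⟨π, h, h3⟩ := H67.cen_of_equiv le_rfl e
  have h4 : H67.Cov π := ⟨h, fun w hw => congrArg Subtype.val
    (hZ ▸ pow_card_eq_one' (x := (⟨w, (h3 w).1 hw⟩ : Subgroup.center G)))⟩
  obtain ⟨w, hne, hw⟩ := (Nat.card_eq_two_iff' (1 : Subgroup.center G)).1 hZ
  have hk : ∀ g, π g = 1 ↔ g = 1 ∨ g = w := fun g => by
    refine ⟨fun hg => ?_, fun hg => hg.elim (fun e => e ▸ map_one π) fun e => e ▸ (h3 _).2 w.2⟩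
    by_cases h5 : g = 1
    · exact .inl h5
    exact .inr (congrArg Subtype.val (hw ⟨g, (h3 g).1 hg⟩ fun e => h5 (congrArg Subtype.val e)))
  have hne' : (w : G) ≠ 1 := fun e => hne (Subtype.ext e)
  refine main (π := π) (z := w) ⟨h4, hne', hk, fun u a b c d h5 h6 => ((hk _).1 ?_).resolve_left
    (S0447.sq_ne h4 (fun L hL => ⟨w, h.commutator_le hL (hperf ▸ Subgroup.mem_top _),
      (h3 _).2 w.2, hne'⟩) h5 h6)⟩ (by simpa using hn) g
  rw [map_pow, h6, (dt_sq h5).1]

end Cfsg.Agent.S2493
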