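import Cfsg.Statements.S2509
import Cfsg.Agent.PN.Main
-- import your own Cfsg.Agent.* helpers here

set_option autoImplicit false
open Cfsg

namespace Cfsg.Agent.S2509

/-- Let G be a finite direct product of groups PSp_{2m_i}(F_i) (the symplectic group on a 2m_i-dimensional space modulo its centre), where each m_i is a power of 2 (m_i = 1, giving PSL₂, is allowed), each F_i is a finite field of odd order, and each factor PSp_{2m_i}(F_i) is a simple group. Then every subgroup H of G of odd index is pronormal in G: for every g ∈ G the subgroups H and gHg⁻¹ are conjugate by an element of the subgroup they generate. -/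
theorem result {t : ℕ}
    (m : Fin t → ℕ) (F : Fin t → Type*) [∀ i, Field (F i)] [∀ i, Fintype (F i)]
    (hm : ∀ i, ∃ k : ℕ, m i = 2 ^ k) (hodd : ∀ i, Odd (Fintype.card (F i)))
    (hs : ∀ i, IsSimpleGroup (Cfsg.PSp (m i) (F i)))
    (H : Subgroup (Π i, Cfsg.PSp (m i) (F i))) (hH : Odd H.index) : Cfsg.IsPronormal H := by
  classical
  choose k hk using hm
  have h' : ∀ i, (∃ S : Sylow 2 (PN.UG (F i) (Fin (m i))), PN.PP (S : Subgroup (PN.UG (F i) (Fin (m i))))) ∧
      Nonempty (PN.UG (F i) (Fin (m i)) ≃* Matrix.symplecticGroup (Fin (m i)) (F i)) := fun i => by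
    rw [hk i]; exact PN.exists_pp (hodd i) (k i)
  choose S hS using fun i => (h' i).1
  let f : ∀ i, PN.UG (F i) (Fin (m i)) →* Cfsg.PSp (m i) (F i) := fun i =>
    (QuotientGroup.mk' _).comp (h' i).2.some.toMonoidHom
  have hf : ∀ i, Function.Surjective (f i) := fun i =>
    (QuotientGroup.mk'_surjective _).comp (h' i).2.some.surjective
  refine (PN.pn_pi S hS).of_surj (MonoidHom.pi fun i => (f i).comp (Pi.evalMonoidHom _ i))
    (fun x => ?_) H hH
  choose g hg using fun i => hf i (x i)
  exact ⟨g, funext hg⟩

end Cfsg.Agent.S2509
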