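import Cfsg.Statements.S2518
import Cfsg.Agent.H56.Mod.G23
import Cfsg.Agent.H56.Mod.L213

set_option autoImplicit false
open Cfsg

namespace Cfsg.Agent.S2518

open H14 H56

set_option maxRecDepth 100000

theorem six : ∃ g : G23.K, G23.E.pk g = nat_lit 0xaab8226074b254cc73a35114900544ec68710faae355874239ca8477ad4d011338de6b1612c18752f552eab42baf8a44c5822314eb4a97144ba405ea02ceb27b04278c299a94f6886bb8525652347a230b30991aaaf7a97960cb301d1c6b7602d09cf402bc8e4d18a42572d6035858eff20d1ed4ea0546dced4912b4d7201c10a0a3638525bd26142993e6e0ece59563549da9cc895ca9fcae4cafa3a860931250d08a95dcd689b1e2187c67ce11a87293c0be4c8455e646a3b89d235d64924367f6c505383b020f10752aa53dc8a74a14c7cd91aab044b86fcc5342d0b9e80648a8891182f22a7902089bcd2b2b1963cca8620ac49b8f16622e20825b25c1b409f13d9b5b1734ab9012db38b33d824a5f4473607ac11969d88961c851428a13a13b6c950ab005bb1c4c1f4f2161fc3e7f4c7c240128a631bebd66759a4040f7cb6cc6f719d2dd25690c9c460c518c9c4a18186144317ed22a6309845c011f4ec8dd9696d2ed2702928b1794d5041c943d2d5ac289b8c4b5828f1c82df84d2e0aa86bf871b486893f4e986ee07215662010c91f70d2a868ca19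 ∧ orderOf g = 6 :=
  exists_orderOf G23.chain (by decide +kernel)

theorem spec : Set.range (orderOf : L213.K → ℕ) = {o | o ∈ [1, 2, 3, 6, 7, 13]} :=
  range_orderOf L213.classes 20 (by decide +kernel)

theorem mem_of_dvd {r : ℕ} (hr : r.Prime) (h : r ∣ 4245696) : r = 2 ∨ r = 3 ∨ r = 7 ∨ r = 13 := by
  have h1 : r ∈ Nat.primeFactors 4245696 := Nat.mem_primeFactors.2 ⟨hr, h, by norm_num⟩
  have h2 : Nat.primeFactors 4245696 = {2, 3, 7, 13} := by decide +kernel
  simpa [h2] using h1

/-- Let F₃ be the field with 3 elements and F₁₃ the field with 13 elements. The Chevalley group G₂(F₃) and PSL(2, F₁₃) have the same prime graph: the same prime divisors of their orders, and for distinct primes r, s an element of order rs in one iff in the other. -/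
theorem result {F : Type*} [Field F] [Fintype F] (hF : Fintype.card F = 3) {E : Type*} [Field E] [Fintype E] (hE : Fintype.card E = 13) :
    ((∀ r : ℕ, r.Prime → (r ∣ Nat.card ↥(Cfsg.Lie.chevG2.group F) ↔ r ∣ Nat.card (Matrix.ProjectiveSpecialLinearGroup (Fin 2) E))) ∧
      (∀ r s : ℕ, r.Prime → s.Prime → r ≠ s → ((∃ x : ↥(Cfsg.Lie.chevG2.group F), orderOf x = r * s) ↔ (∃ y : (Matrix.ProjectiveSpecialLinearGroup (Fin 2) E), orderOf y = r * s)))) := by
  obtain ⟨e⟩ := G23.equiv hF
  obtain ⟨f⟩ := L213.equiv hE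
  refine ⟨fun r hr => ?_, fun r s hr hs hrs => ?_⟩
  · rw [Nat.card_congr e.toEquiv, Nat.card_congr f.toEquiv, G23.card, L213.card]
    refine ⟨fun h => ?_, fun h => h.trans (by norm_num)⟩
    rcases mem_of_dvd hr h with rfl | rfl | rfl | rfl <;> norm_num
  · rw [exists_orderOf_iff e, exists_orderOf_iff f, ← Set.mem_range, ← Set.mem_range, spec]
    constructor
    · rintro ⟨g, hg⟩
      have h0 : r * s ∣ 4245696 := by rw [← hg, ← G23.card]; exact orderOf_dvd_natCard g
      obtain ⟨d, h1, h2, h3⟩ := G23.ord7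
      obtain ⟨d', h4, h5, h6⟩ := G23.ord13
      have h7 := fun h => Nat.le_of_dvd h2 (h3 g h)
      have h8 := fun h => Nat.le_of_dvd h5 (h6 g h)
      rw [hg] at h7 h8
      rcases mem_of_dvd hr ((dvd_mul_right r s).trans h0) with rfl | rfl | rfl | rfl <;>
        rcases mem_of_dvd hs ((dvd_mul_left s _).trans h0) with rfl | rfl | rfl | rfl <;>
        first | decide | omega
    · intro h
      obtain ⟨g, -, hg⟩ := six
      refine ⟨g, hg.trans ?_⟩
      have h0 : r * s ∣ 4245696 := by
        simp only [Set.mem_ofPred_eq, List.mem_cons, List.not_mem_nil, or_false] at h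
        rcases h with h | h | h | h | h | h <;> rw [h] <;> norm_num
      revert h
      rcases mem_of_dvd hr ((dvd_mul_right r s).trans h0) with rfl | rfl | rfl | rfl <;>
        rcases mem_of_dvd hs ((dvd_mul_left s _).trans h0) with rfl | rfl | rfl | rfl <;>
        first | omega | simp

end Cfsg.Agent.S2518
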