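import Cfsg.Statements.S2530
import Cfsg.Agent.H95.CoxeterA
import Cfsg.Agent.H95.TT

set_option autoImplicit false
open Cfsg

namespace Cfsg.Agent.S2530

open Equiv

theorem A_eq {n : ℕ} (i j : Fin n) : CoxeterMatrix.A n i j =
    if i = j then 1 else (if (j : ℕ) + 1 = i ∨ (i : ℕ) + 1 = j then 3 else 2) := rfl

theorem liftable (n : ℕ) :
    (CoxeterMatrix.A n).IsLiftable fun i : Fin n => swap i.castSucc i.succ := by
  intro i j
  rw [A_eq]
  have key : ∀ i j : Fin n, (i : ℕ) + 1 = j →
      swap i.castSucc i.succ * swap j.castSucc j.succ * swap i.castSucc i.succ =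
        swap j.castSucc j.succ * swap i.castSucc i.succ * swap j.castSucc j.succ := by
    intro i j h
    have : j.castSucc = i.succ := Fin.ext (by simp [h])
    rw [this]
    exact H95.swap_braid (by simp [Fin.ext_iff]) (by simp [Fin.ext_iff]; omega)
      (by simp [Fin.ext_iff]; omega)
  split_ifs with h1 h2
  · subst h1; simp
  · rcases h2 with h2 | h2
    · exact H95.cube_of_braid (swap_mul_self _ _) (swap_mul_self _ _) (key j i h2).symm
    · exact H95.cube_of_braid (swap_mul_self _ _) (swap_mul_self _ _) (key i j h2)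
  · refine (H95.commute_iff_sq (swap_mul_self _ _) (swap_mul_self _ _)).1 ?_
    refine Perm.Disjoint.commute (Perm.disjoint_swap_swap ?_)
    rw [Fin.ext_iff] at h1
    simp [Fin.ext_iff]; omega

/-- The Coxeter presentation of the symmetric group: for every n, the symmetric group on n+1 letters is the Coxeter group of type A_n with the adjacent transpositions (i, i+1) as simple reflections; that is, it is presented by generators r_1, …, r_n subject to r_i² = 1, (r_i r_j)² = 1 for |i − j| > 1 and (r_i r_{i+1})³ = 1, with r_i mapping to (i, i+1). -/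
theorem result (n : ℕ) :
    ∃ cs : CoxeterSystem (CoxeterMatrix.A n) (Equiv.Perm (Fin (n + 1))), ∀ i : Fin n, cs.simple i = Equiv.swap i.castSucc i.succ := by
  let cs := (CoxeterMatrix.A n).toCoxeterSystem
  let s : ℕ → (CoxeterMatrix.A n).Group := fun i => if h : i < n then cs.simple ⟨i, h⟩ else 1
  have hs : ∀ (i : ℕ) (h : i < n), s i = cs.simple ⟨i, h⟩ := fun i h => dif_pos h
  obtain ⟨φ, hφ⟩ := H95.exists_hom_perm_of_coxeter n s
    (fun i hi => by rw [hs i hi]; exact cs.simple_mul_simple_self _)
    (fun i hi => by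
      rw [hs i (by omega), hs _ hi]
      refine H95.braid_of_cube (cs.simple_mul_simple_self _) (cs.simple_mul_simple_self _) ?_
      have := cs.simple_mul_simple_pow ⟨i, by omega⟩ ⟨i + 1, hi⟩
      rwa [A_eq, if_neg (by simp), if_pos (by simp)] at this)
    (fun i j hij hj => by
      rw [hs i (by omega), hs _ hj]
      refine (H95.commute_iff_sq (cs.simple_mul_simple_self _) (cs.simple_mul_simple_self _)).2 ?_
      have := cs.simple_mul_simple_pow ⟨i, by omega⟩ ⟨j, hj⟩
      rwa [A_eq, if_neg (by simp; omega), if_neg (by simp; omega)] at this)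
  let ψ : (CoxeterMatrix.A n).Group →* Perm (Fin (n + 1)) := cs.lift ⟨_, liftable n⟩
  have hψ : ∀ i : Fin n, ψ (cs.simple i) = swap i.castSucc i.succ :=
    fun i => cs.lift_apply_simple (liftable n) i
  have hφ' : ∀ i : Fin n, φ (swap i.castSucc i.succ) = cs.simple i := fun i => by
    rw [← hs i i.2]; exact hφ i i.2
  have h1 : φ.comp ψ = MonoidHom.id _ := cs.ext_simple fun i => by simp [hψ, hφ']
  have h2 : ψ.comp φ = MonoidHom.id _ :=
    MonoidHom.eq_of_eqOn_dense (H95.closure_adjSwap n) (by
      rintro _ ⟨i, hi, rfl⟩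
      rw [H95.adjSwap_of_lt hi]
      exact (congrArg ψ (hφ' ⟨i, hi⟩)).trans (hψ ⟨i, hi⟩))
  exact ⟨cs.map (MonoidHom.toMulEquiv ψ φ h1 h2), fun i => hψ i⟩

end Cfsg.Agent.S2530
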