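import Cfsg.Statements.S2553
import Cfsg.Agent.SR4.IA
import Cfsg.Agent.H2.MinNormal

set_option autoImplicit false
open Cfsg

namespace Cfsg.Agent.S2553

/-- Let H be a nontrivial subgroup of GL(4,2) (a group isomorphic to the alternating group of degree 8) whose largest normal 2-subgroup and largest normal subgroup of odd order are both trivial. Then H is isomorphic to an alternating group of degree n for some 5 ≤ n ≤ 8, to the symmetric group of degree 5 or 6, or to GL(3,2). -/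
theorem result (H : Subgroup (GL (Fin 4) (ZMod 2))) (hH : H ≠ ⊥) (hO : Cfsg.pPrimeCore 2 ↥H = ⊥) (hO2 : Cfsg.pCore 2 ↥H = ⊥) :
    (∃ n : ℕ, 5 ≤ n ∧ n ≤ 8 ∧ Nonempty (↥H ≃* alternatingGroup (Fin n))) ∨
    Nonempty (↥H ≃* Equiv.Perm (Fin 5)) ∨ Nonempty (↥H ≃* Equiv.Perm (Fin 6)) ∨ Nonempty (↥H ≃* GL (Fin 3) (ZMod 2)) := by
  obtain ⟨e⟩ := H19.A8.gl4_equiv (F := ZMod 2) (ZMod.card 2)
  haveI : Nontrivial H := (Subgroup.nontrivial_iff_ne_bot H).2 hH
  have hns : ¬ Group.IsSolvable H := by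
    intro hs
    obtain ⟨M, p, hp, h1, h2, -, h3, -⟩ := H2.exists_minimal_normal_of_solvable (G := H)
    haveI := Fact.mk hp
    by_cases h : p = 2
    · subst h
      exact h2 (eq_bot_iff.2 (hO2 ▸ H44.le_pCore h1 h3))
    · obtain ⟨k, hk⟩ := h3.exists_card_eq
      exact h2 (eq_bot_iff.2 (hO ▸ le_sSup ⟨h1, by
        rw [hk]; exact Nat.Coprime.pow_left _ ((Nat.coprime_primes hp Nat.prime_two).2 h)⟩))
  rcases SR4.a8List (e.toMonoidHom.comp H.subtype) (e.injective.comp Subtype.val_injective) hns hO2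
    with h | h | h | h | ⟨h, -⟩
  · exact Or.inr (Or.inr (Or.inr h))
  · exact Or.inl h
  · exact Or.inr (Or.inl h)
  · exact Or.inr (Or.inr (Or.inl h))
  · have h1 : Cfsg.pCore 3 H ≤ Cfsg.pPrimeCore 2 H := le_sSup ⟨inferInstance, by rw [h]; norm_num⟩
    rw [hO, le_bot_iff] at h1
    rw [h1, Subgroup.card_bot] at h
    omega

end Cfsg.Agent.S2553
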