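import Cfsg.Statements.S2650
import Cfsg.Agent.H14.Co23Data
import Cfsg.Agent.H14.ExCert

set_option autoImplicit false
open Cfsg

namespace Cfsg.Agent.S2650

open H14 H14.Co23 H56 Equiv

/-- the 253 sixteen-sets not containing the extra point, with signs -/
abbrev B : Type := Fin 253 × ZMod 2

def FE : Enc B 506 9 512 where
  ix b := b.1 + 253 * b.2.val
  pt i := (Fin.ofNat 253 i, ((i / 253 : ℕ) : ZMod 2))
  M_eq := rfl
  n_le := by decide
  ix_lt := by decide +kernel
  pt_ix := by decide +kernel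
  ix_pt := by decide +kernel

abbrev SE : Enc (B ⊕ GolayPt) 530 10 1024 := sumEnc FE GE 530 10 1024 rfl rfl (by decide)

/-- the `j`-th sixteen-set -/
def dd (j : ℕ) : ℕ := app 24 16777216 DT j

/-- the sign change given by a word -/
def th (w : GolayPt → ZMod 2) : Perm B :=
  Equiv.prodCongrRight fun j => Equiv.addRight (bv (w ∘ GE.pt) (nat_lit 24) (dd j))

theorem th_apply (w : GolayPt → ZMod 2) (j : Fin 253) (e : ZMod 2) :
    th w (j, e) = (j, e + bv (w ∘ GE.pt) (nat_lit 24) (dd j)) := rfl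

theorem th_add (v w : GolayPt → ZMod 2) : th (v + w) = th v * th w := Equiv.ext fun ⟨j, e⟩ => by
  rw [Perm.mul_apply, th_apply, th_apply, th_apply, add_assoc, add_comm (bv (w ∘ _) _ _), ← bv_add]
  rfl

theorem th_zero : th 0 = 1 := mul_left_cancel (a := th 0) (by rw [← th_add, add_zero, mul_one])

theorem th_eq_one {w : GolayPt → ZMod 2} :
    th w = 1 ↔ ∀ m ∈ m23CocodeChk, bv (w ∘ GE.pt) (nat_lit 24) m = 0 := by
  constructor
  · intro h m hm
    have k : ∀ m ∈ m23CocodeChk, ∃ c ∈ cb, selN 253 c dd = m := by decide +kernel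
    obtain ⟨c, -, rfl⟩ := k m hm
    rw [bv_selN]
    refine Finset.sum_eq_zero fun j hj => ?_
    have := th_apply w ⟨j, Finset.mem_range.1 hj⟩ 0
    rw [h, zero_add, Perm.one_apply, Prod.mk.injEq] at this
    simp only [← this.2, ite_self]
  · intro h
    have k : ∀ j < 253, selN 11 (dd j / 2) (nthD m23CocodeChk 0) = dd j := by decide +kernel
    refine Equiv.ext fun ⟨j, e⟩ => ?_
    rw [th_apply, Perm.one_apply, Prod.mk.injEq, ← k j j.2, bv_selN, add_eq_left]
    refine ⟨rfl, Finset.sum_eq_zero fun b _ => ?_⟩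
    rcases nthD_mem_or m23CocodeChk 0 b with e | e
    · simp only [h _ e, ite_self]
    · simp only [e, bv_zero, ite_self]

/-- the packed sign change -/
noncomputable def sgn (m : ℕ) : ℕ := pack 9 506 fun i =>
  Nat.mod (Nat.add i (Nat.mul 253 (Nat.mod (pc (Nat.land (dd (Nat.mod i 253)) m)) 2))) 506

theorem pk_th (m : ℕ) : FE.pk (th (word m)) = sgn m := pack_congr fun i hi => by
  show i % 253 + 253 * (((i / 253 : ℕ) : ZMod 2) + bv _ _ (dd (i % 253))).val =
    (i + 253 * (pc (dd (i % 253) &&& m) % 2)) % 506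
  rw [bv_word, ← Nat.cast_add, ZMod.val_natCast]
  omega

theorem word_induction {p : (GolayPt → ZMod 2) → Prop} (h0 : p 0)
    (ha : ∀ v w, p v → p w → p (v + w)) (h1 : ∀ q < 24, p (word (2 ^ q))) (w : GolayPt → ZMod 2) :
    p w := Pi.single_induction p w h0 ha fun i s => by
  have : ∀ (i : GolayPt) (s : ZMod 2), Pi.single i s = (0 : GolayPt → ZMod 2) ∨
    Pi.single i s = word (2 ^ idx i) := by decide +kernel
  rcases this i s with e | e <;> rw [e]
  exacts [h0, h1 _ (idx_lt i)]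

theorem word_comp (g : Perm GolayPt) {q : ℕ} (hq : q < 24) :
    word (2 ^ q) ∘ ⇑g⁻¹ = word (2 ^ app 5 32 (GE.pk g) q) := by
  funext a
  have : app 5 32 (GE.pk g) q = idx (g (pt q)) := GE.app_pk_of_lt g hq
  simp only [Function.comp, word, Nat.testBit_two_pow, this, decide_eq_true_eq, idx_inj]
  exact if_congr (by rw [← Perm.eq_inv_iff_eq, ← idx_inj, idx_pt hq]) rfl rfl

theorem valid_Cs : allL Cs (valid 10 1024 530) = true := by decide +kernel

theorem chain : SE.IsChain eCL (SE.grp Cs) :=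
  Enc.isChain_of_ssOK (cs := eC) (fun P hP => SE.exists_pk_of_valid (allL_iff.1 valid_Cs P hP)) ss

/-- the extension -/
def E : Subgroup (Perm B × Perm GolayPt) := (SE.grp Cs).comap (Perm.sumCongrHom B GolayPt)

theorem pk_SE (a : Perm B) (g : Perm GolayPt) : SE.pk (Perm.sumCongrHom B GolayPt (a, g)) =
    pairPk 506 9 512 (nat_lit 5) (nat_lit 32) 530 10 (FE.pk a) (GE.pk g) := pk_sumCongr _ _ _ a g

theorem mem_E {a : Perm B} {g : Perm GolayPt}
    (h : sift 10 1024 530 eCL (pairPk 506 9 512 (nat_lit 5) (nat_lit 32) 530 10 (FE.pk a) (GE.pk g)) =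
      true) : (a, g) ∈ E := chain.mem_iff_sift.2 (by rwa [pk_SE])

/-- the pairs compatible with the sign changes -/
def C : Subgroup (Perm B × Perm GolayPt) where
  carrier := {x | x.2 ∈ Spor.M23 ∧ ∀ w, th (w ∘ ⇑x.2⁻¹) = x.1 * th w * x.1⁻¹}
  one_mem' := ⟨one_mem _, fun w => by simp⟩
  mul_mem' {x y} hx hy := ⟨mul_mem hx.1 hy.1, fun w => by
    have := hx.2 (w ∘ ⇑y.2⁻¹)
    rw [hy.2] at this
    exact this.trans (by simp [mul_assoc])⟩
  inv_mem' {x} hx := ⟨inv_mem hx.1, fun w => by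
    have := hx.2 (w ∘ ⇑x.2)
    rw [show (w ∘ ⇑x.2) ∘ ⇑x.2⁻¹ = w from funext fun a => by simp] at this
    simp [this, mul_assoc]⟩

theorem gens_ok : ∀ i < 2, valid 9 512 506 (nth Bs i) = true ∧ nth As i ∈ m23Gens ∧
    nth Cs i = pairPk 506 9 512 (nat_lit 5) (nat_lit 32) 530 10 (nth Bs i) (nth As i) ∧
    ∀ q < 24, sgn (2 ^ app 5 32 (nth As i) q) =
      comp3 9 512 506 (nth Bs i) (sgn (2 ^ q)) (inv 9 512 506 (nth Bs i)) := by decide +kernel

theorem grp_le : SE.grp Cs ≤ C.map (Perm.sumCongrHom B GolayPt) := Enc.grp_le fun P hP => by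
  obtain ⟨i, hi, rfl⟩ : ∃ i < 2, nth Cs i = P := by revert P; decide +kernel
  obtain ⟨h1, h2, h3, h4⟩ := gens_ok i hi
  obtain ⟨b, hb⟩ := FE.exists_pk_of_valid h1
  obtain ⟨a, ha, ea⟩ := inG_m23Gens _ h2
  refine ⟨_, ⟨(b, a), ⟨ha, word_induction ?_ (fun v w hv hw => ?_) fun q hq => ?_⟩, rfl⟩,
    (pk_SE b a).trans (by rw [h3, hb, ea])⟩
  · show th 0 = _
    simp [th_zero]
  · show th (v ∘ ⇑a⁻¹ + w ∘ ⇑a⁻¹) = _
    rw [th_add, th_add, hv, hw, conj_mul]
  · rw [word_comp a hq]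
    exact FE.pk_injective (by rw [FE.pk_mul3, FE.pk_inv, pk_th, pk_th, hb, ea, h4 q hq])

theorem E_le : E ≤ C := fun _ hx => by
  obtain ⟨y, hy, e⟩ := grp_le hx
  exact Perm.sumCongrHom_injective e ▸ hy

theorem th_mem (w : GolayPt → ZMod 2) : (th w, 1) ∈ E := by
  refine word_induction (p := fun w => (th w, 1) ∈ E) (th_zero ▸ one_mem E)
    (fun v w hv hw => by simpa [th_add] using mul_mem hv hw) (fun q hq => mem_E ?_) w
  rw [pk_th, GE.pk_one]
  revert q
  decide +kernel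

/-- the map onto `M23` -/
def p : E →* Perm GolayPt := (MonoidHom.snd _ _).comp E.subtype

theorem p_range : p.range = Spor.M23 := by
  refine le_antisymm (fun _ ⟨x, e⟩ => e ▸ (E_le x.2).1) (M23_eq_grp ▸ Enc.grp_le fun P hP => ?_)
  obtain ⟨i, hi, rfl⟩ : ∃ i < 2, nth As i = P := by revert P; decide +kernel
  obtain ⟨h1, h2, h3, -⟩ := gens_ok i hi
  obtain ⟨b, hb⟩ := FE.exists_pk_of_valid h1
  obtain ⟨a, -, ea⟩ := inG_m23Gens _ h2
  refine ⟨a, ⟨⟨(b, a), Subgroup.subset_closure ?_⟩, rfl⟩, ea⟩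
  show SE.pk _ ∈ Cs
  rw [pk_SE, hb, ea, ← h3]
  exact (show ∀ i < 2, nth Cs i ∈ Cs by decide +kernel) i hi

theorem card_E : Nat.card E = 2048 * 10200960 := by
  rw [E, Nat.card_congr (comapEquiv Perm.sumCongrHom_injective
    (grp_le.trans (Subgroup.map_le_range _ _))).toEquiv, chain.card]
  decide +kernel

/-- the sign changes -/
def T : Subgroup (Perm B) where
  carrier := Set.range th
  one_mem' := ⟨0, th_zero⟩
  mul_mem' := fun ⟨v, a⟩ ⟨w, b⟩ => ⟨v + w, by rw [th_add, a, b]⟩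
  inv_mem' := fun ⟨v, a⟩ => ⟨v, a ▸ eq_inv_of_mul_eq_one_left (by
    rw [← th_add, CharTwo.add_self_eq_zero, th_zero])⟩

theorem card_T : 2048 ≤ Nat.card T := by
  have : tG = tW.map sgn := by decide +kernel
  refine le_trans (by decide +kernel) (Enc.preChain_of_preOK (E := FE) (cs := tC) (gens := tG)
    (fun P hP => ?_) (by decide +kernel)).le_card
  obtain ⟨m, -, rfl⟩ := List.mem_map.1 (this ▸ hP)
  exact ⟨_, ⟨_, rfl⟩, pk_th m⟩

theorem coExt : CoExt p fun w => ⟨(th w, 1), th_mem w⟩ where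
  add v w := Subtype.ext (Prod.ext (th_add v w) (mul_one _).symm)
  conj g w := Subtype.ext (Prod.ext ((E_le g.2).2 w) (by simp))
  ker x := by
    refine ⟨fun hx => ?_, fun ⟨_, e⟩ => e ▸ rfl⟩
    have h1 := p.ker.card_mul_index
    rw [Subgroup.index_ker, p_range, card_M23, card_E] at h1
    let f : T → p.ker := fun t => ⟨⟨(t, 1), let ⟨w, e⟩ := t.2; e ▸ th_mem w⟩, rfl⟩
    have hf : Function.Injective f := fun s t e => Subtype.ext (congrArg (fun z => z.1.1.1) e)
    obtain ⟨⟨_, w, rfl⟩, e⟩ := ((Nat.bijective_iff_injective_and_card f).2 ⟨hf, le_antisymm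
      (Nat.card_le_card_of_injective f hf) (by have := card_T; omega)⟩).2 ⟨x, hx⟩
    exact ⟨w, congrArg Subtype.val e⟩
  eq_one w := ⟨fun h => th_eq_one.1 (congrArg (fun z => z.1.1) h),
    fun h => Subtype.ext (Prod.ext (th_eq_one.2 h) rfl)⟩
  range := p_range

theorem nthD_of_le {l : List ℕ} {d i : ℕ} (h : l.length ≤ i) : nthD l d i = d := by
  induction l generalizing i with
  | nil => rfl
  | cons a l ih =>
    cases i with
    | zero => simp at h
    | succ i => exact ih (Nat.le_of_succ_le_succ h)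

theorem nonsplit (H : Subgroup E) (h : H ⊓ p.ker = ⊥) : H ⊔ p.ker ≠ ⊤ := by
  let r : E →* Perm B := (MonoidHom.fst _ _).comp E.subtype
  have : ∀ c, ∃ x : E, GE.pk (p x) = nthD XA (idP (nat_lit 5) (nat_lit 24)) c ∧
      FE.pk (r x) = nthD XB (idP 9 506) c ∧ (c = 0 → x = 1) := fun c => by
    have k : ∀ c < 7, valid (nat_lit 5) (nat_lit 32) (nat_lit 24) (nth XA (c + 1)) = true ∧
      valid 9 512 506 (nth XB (c + 1)) = true ∧ sift 10 1024 530 eCL (pairPk 506 9 512 (nat_lit 5)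
        (nat_lit 32) 530 10 (nth XB (c + 1)) (nth XA (c + 1))) = true ∧
      nth XA (c + 1) = nthD XA (idP (nat_lit 5) (nat_lit 24)) (c + 1) ∧
      nth XB (c + 1) = nthD XB (idP 9 506) (c + 1) := by decide +kernel
    by_cases h0 : c = 0
    · exact ⟨1, by rw [map_one, GE.pk_one, h0]; decide +kernel,
        by rw [map_one, FE.pk_one, h0]; decide +kernel, fun _ => rfl⟩
    by_cases h8 : c < 8
    · obtain ⟨c, rfl⟩ := Nat.exists_eq_succ_of_ne_zero h0
      obtain ⟨h1, h2, h3, h4, h5⟩ := k c (by omega)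
      obtain ⟨a, ha⟩ := GE.exists_pk_of_valid h1
      obtain ⟨b, hb⟩ := FE.exists_pk_of_valid h2
      exact ⟨⟨(b, a), mem_E (by rw [ha, hb, h3])⟩, ha.trans h4, hb.trans h5, fun h => absurd h h0⟩
    · exact ⟨1, by rw [map_one, GE.pk_one, nthD_of_le (Nat.le_of_not_lt h8)],
        by rw [map_one, FE.pk_one, nthD_of_le (Nat.le_of_not_lt h8)], fun _ => rfl⟩
  choose x h1 h2 h3 using this
  have hl : Lift GE p X x := ⟨h3 0 rfl, h1, by decide +kernel⟩
  refine Mod.nonsplit (X := X) coExt.mod hl (by decide) (e := 7) (CC := CC) (c := cmb) (js := js)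
    (by decide +kernel) (fun j hj => ?_) H h
  have k : ∀ j ∈ js, j.1 < X.NR ∧ sgn j.2 = comp 9 512 506
      (pev 9 512 506 XB (idP 9 506) (X.slen j.1 0) (X.side j.1 0) (idP 9 506)) (inv 9 512 506
      (pev 9 512 506 XB (idP 9 506) (X.slen j.1 1) (X.side j.1 1) (idP 9 506))) := by decide +kernel
  have e : ∀ s < 2, pev 9 512 506 XB (idP 9 506) (X.slen j.1 s) (X.side j.1 s) (idP 9 506) =
      FE.pk (r (evW x (X.side j.1 s))) := fun s hs => by
    have := pev_spec (h3 0 rfl) h2 (X.slen j.1 s) (X.side j.1 s) 1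
    rwa [map_one, FE.pk_one, one_mul, Nat.mod_eq_of_lt ((hl.spec.2.2 _ (k j hj).1).1 s hs)] at this
  refine Subtype.ext (Prod.ext (FE.pk_injective ((pk_th j.2).trans ?_)) (hl.tail_ker (k j hj).1).symm)
  rw [(k j hj).2, e 0 (by decide), e 1 (by decide), ← FE.pk_inv, ← FE.pk_mul, ← map_inv, ← map_mul]
  rfl


/-- A non-split extension of the Mathieu group M₂₃ by its cocode module exists. There is a finite group E with a normal subgroup N, an isomorphism φ from E/N onto M₂₃ = `Spor.M23` (the stabiliser of the extra point `none` in M₂₄ acting on the 24 points `GolayPt`), and a surjective additive homomorphism θ from the binary words on `GolayPt` onto N whose kernel consists of the words of the Golay code `golayCode` and their translates by the unit vector at `none` (so N is elementary abelian of order 2¹¹), such that θ carries the coordinate permutation w ↦ w ∘ σ⁻¹, σ = φ(gN), to conjugation by g on N — and such that N has no complement in E. -/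
theorem result :
    ∃ (E : Type) (_ : Group E) (_ : Finite E) (N : Subgroup E) (_ : N.Normal)
      (φ : E ⧸ N ≃* ↥Cfsg.Spor.M23) (θ : (Cfsg.GolayPt → ZMod 2) →+ Additive ↥N),
      Function.Surjective θ ∧
      (∀ w : Cfsg.GolayPt → ZMod 2, θ w = 0 ↔ (w ∈ Cfsg.golayCode ∨ w + Pi.single none 1 ∈ Cfsg.golayCode)) ∧
      (∀ (g : E) (w : Cfsg.GolayPt → ZMod 2),
        ((θ (w ∘ ⇑(((φ (QuotientGroup.mk g) : ↥Cfsg.Spor.M23) : Equiv.Perm Cfsg.GolayPt)⁻¹))).toMul : E)
          = g * ((θ w).toMul : E) * g⁻¹) ∧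
      ∀ H : Subgroup E, H ⊓ N = ⊥ → H ⊔ N ≠ ⊤ := by
  refine ⟨E, inferInstance, inferInstance, p.ker, inferInstance,
    (QuotientGroup.quotientKerEquivRange p).trans (MulEquiv.subgroupCongr p_range),
    AddMonoidHom.mk' (fun w => Additive.ofMul ⟨⟨(th w, 1), th_mem w⟩, rfl⟩)
      (fun v w => Subtype.ext (coExt.add v w)), fun x => ?_, fun w => ?_, coExt.conj, nonsplit⟩
  · obtain ⟨w, e⟩ := (coExt.ker x.toMul).1 x.toMul.2
    exact ⟨w, Subtype.ext e⟩
  · exact Subtype.ext_iff.trans ((coExt.eq_one w).trans cocode_chk.symm)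

end Cfsg.Agent.S2650
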