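import Cfsg.Statements.S2651
import Cfsg.Agent.H14.ExtM23
import Cfsg.Agent.H14.Classes

set_option autoImplicit false
open Cfsg

namespace Cfsg.Agent.S2651

open H14

theorem coExt {E : Type*} [Group E] (N : Subgroup E) [N.Normal]
    (φ : E ⧸ N ≃* Spor.M23) (θ : (GolayPt → ZMod 2) →+ Additive N) (hsurj : Function.Surjective θ)
    (hker : ∀ w : GolayPt → ZMod 2, θ w = 0 ↔ (w ∈ golayCode ∨ w + Pi.single none 1 ∈ golayCode))
    (hθ : ∀ (g : E) (w : GolayPt → ZMod 2),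
      ((θ (w ∘ ⇑(((φ (QuotientGroup.mk g) : Spor.M23) : Equiv.Perm GolayPt)⁻¹))).toMul : E)
        = g * ((θ w).toMul : E) * g⁻¹) : CoExt (extHom N φ) fun w => ((θ w).toMul : E) where
  add v w := by simp
  conj := hθ
  ker x := extHom_eq_one.trans ⟨fun h => let ⟨w, e⟩ := hsurj (Additive.ofMul ⟨x, h⟩); ⟨w, by simp [e]⟩,
    fun ⟨_, h⟩ => h ▸ Subtype.prop _⟩
  eq_one w := by rw [← cocode_chk, ← hker]; simp
  range := extHom_range

section

variable {G G' : Type*} [Group G] [Group G'] {π : G →* Equiv.Perm GolayPt}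
  {π' : G' →* Equiv.Perm GolayPt} {θ : (GolayPt → ZMod 2) → G} {θ' : (GolayPt → ZMod 2) → G'}

theorem zero (h : CoExt π θ) : θ 0 = 1 := h.mod.zero

theorem sq (h : CoExt π θ) (w : GolayPt → ZMod 2) : θ w * θ w = 1 := h.mod.mul_self (w := w) rfl

theorem inv (h : CoExt π θ) (w : GolayPt → ZMod 2) : (θ w)⁻¹ = θ w :=
  inv_eq_of_mul_eq_one_right (sq h w)

theorem ker (h : CoExt π θ) (w : GolayPt → ZMod 2) : π (θ w) = 1 := (h.ker _).2 ⟨w, rfl⟩

variable (π π') in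
/-- the fibre product -/
abbrev Y : Subgroup (G × G') := (π.comp (MonoidHom.fst G G')).eqLocus (π'.comp (MonoidHom.snd G G'))

/-- the diagonal copy of the module -/
def D (h : CoExt π θ) (h' : CoExt π' θ') : Subgroup (Y π π') where
  carrier := {y | ∃ w, y.1 = (θ w, θ' w)}
  one_mem' := ⟨0, by rw [zero h, zero h']; rfl⟩
  mul_mem' := fun ⟨v, a⟩ ⟨w, b⟩ => ⟨v + w, by rw [Subgroup.coe_mul, a, b, h.add, h'.add]; rfl⟩
  inv_mem' := fun ⟨v, a⟩ => ⟨v, by rw [Subgroup.coe_inv, a, Prod.inv_mk, inv h, inv h']⟩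

instance (h : CoExt π θ) (h' : CoExt π' θ') : (D h h').Normal := ⟨fun _ ⟨w, a⟩ g =>
  ⟨w ∘ ⇑(π g.1.1)⁻¹, by
    rw [h.conj, show π g.1.1 = π' g.1.2 from g.2, h'.conj, Subgroup.coe_mul, Subgroup.coe_mul, a]
    rfl⟩⟩

/-- the map of the Baer difference to the permutation group -/
def P (h : CoExt π θ) (h' : CoExt π' θ') : Y π π' ⧸ D h h' →* Equiv.Perm GolayPt :=
  QuotientGroup.lift _ ((π.comp (MonoidHom.fst G G')).comp (Y π π').subtype) fun y ⟨w, a⟩ => by
    show π y.1.1 = 1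
    rw [a]; exact ker h w

/-- the module in the Baer difference -/
def T (h : CoExt π θ) (h' : CoExt π' θ') (w : GolayPt → ZMod 2) : Y π π' ⧸ D h h' :=
  QuotientGroup.mk ⟨(θ w, 1), (ker h w).trans (map_one π').symm⟩

theorem T_eq (h : CoExt π θ) (h' : CoExt π' θ') {v w : GolayPt → ZMod 2} {y : Y π π'}
    (e : y.1 = (θ v, θ' w)) : T h h' (v + w) = QuotientGroup.mk y :=
  QuotientGroup.eq.2 ⟨w, by
    rw [Subgroup.coe_mul, Subgroup.coe_inv, e, Prod.inv_mk, inv h, Prod.mk_mul_mk, ← h.add,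
      add_right_comm, CharTwo.add_self_eq_zero, zero_add, inv_one, one_mul]⟩

theorem coExt_T (h : CoExt π θ) (h' : CoExt π' θ') : CoExt (P h h') (T h h') where
  add v w := congrArg QuotientGroup.mk (Subtype.ext (Prod.ext (h.add v w) (mul_one 1).symm))
  conj g w := by
    obtain ⟨g, rfl⟩ := QuotientGroup.mk_surjective g
    exact congrArg QuotientGroup.mk (Subtype.ext (Prod.ext (h.conj g.1.1 w) (by simp)))
  ker x := by
    obtain ⟨y, rfl⟩ := QuotientGroup.mk_surjective x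
    refine ⟨fun hy => ?_, fun ⟨w, e⟩ => e ▸ ker h w⟩
    obtain ⟨v, a⟩ := (h.ker y.1.1).1 hy
    obtain ⟨w, b⟩ := (h'.ker y.1.2).1 (y.2.symm.trans hy)
    exact ⟨_, T_eq h h' (Prod.ext a.symm b.symm)⟩
  eq_one w := by
    refine (QuotientGroup.eq_one_iff _).trans (Iff.trans ⟨fun ⟨v, e⟩ => ?_, fun e =>
      ⟨0, Prod.ext (e.trans (zero h).symm) (zero h').symm⟩⟩ (h.eq_one w))
    exact (congrArg Prod.fst e).trans ((h.eq_one v).2 ((h'.eq_one v).1 (congrArg Prod.snd e).symm))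
  range := by
    rw [← h.range]
    ext g
    refine ⟨fun ⟨x, e⟩ => ?_, fun ⟨x, e⟩ => ?_⟩
    · obtain ⟨y, rfl⟩ := QuotientGroup.mk_surjective x
      exact ⟨_, e⟩
    · obtain ⟨x', e'⟩ : g ∈ π'.range := by rw [h'.range, ← h.range]; exact ⟨x, e⟩
      exact ⟨QuotientGroup.mk ⟨(x, x'), e.trans e'.symm⟩, e⟩

theorem bij {A : Type*} [Group A] (h : CoExt π θ) (h' : CoExt π' θ') (f : A →* G) (f' : A →* G')
    (inj : ∀ a, f a = 1 → f' a = 1 → a = 1)
    (h1 : ∀ a, π (f a) = 1 → ∃ w, f a = θ w ∧ f' a = θ' w) (h2 : ∀ w, ∃ a, f a = θ w)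
    (h3 : ∀ g ∈ Spor.M23, ∃ a, π (f a) = g) : Function.Bijective f := by
  refine ⟨(injective_iff_map_eq_one f).2 fun a ha => ?_, fun g => ?_⟩
  · obtain ⟨w, e, e'⟩ := h1 a (by rw [ha, map_one])
    exact inj a ha (e'.trans ((h'.eq_one w).2 ((h.eq_one w).1 (e.symm.trans ha))))
  · obtain ⟨a, ha⟩ := h3 (π g) (h.range ▸ ⟨g, rfl⟩)
    obtain ⟨w, e⟩ := (h.ker (g * (f a)⁻¹)).1 (by rw [map_mul, map_inv, ha, mul_inv_cancel])
    obtain ⟨b, hb⟩ := h2 w
    exact ⟨b * a, by rw [map_mul, hb, e, inv_mul_cancel_right]⟩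

theorem equiv_of_split (h : CoExt π θ) (h' : CoExt π' θ') {H : Subgroup (Y π π' ⧸ D h h')}
    (h1 : H ⊓ (P h h').ker = ⊥) (h2 : H ⊔ (P h h').ker = ⊤) : Nonempty (G ≃* G') := by
  let A := H.comap (QuotientGroup.mk' (D h h'))
  let f : A →* G := (MonoidHom.fst G G').comp ((Y π π').subtype.comp A.subtype)
  let f' : A →* G' := (MonoidHom.snd G G').comp ((Y π π').subtype.comp A.subtype)
  have inj : ∀ a, f a = 1 → f' a = 1 → a = 1 := fun a e e' =>
    Subtype.ext (Subtype.ext (Prod.ext e e'))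
  have hp : ∀ a, π (f a) = π' (f' a) := fun a => a.1.2
  have k1 : ∀ a, π (f a) = 1 → ∃ w, f a = θ w ∧ f' a = θ' w := fun a ha => by
    obtain ⟨w, e⟩ := (QuotientGroup.eq_one_iff a.1).1 ((Subgroup.eq_bot_iff_forall _).1 h1 _ ⟨a.2, ha⟩)
    exact ⟨w, congrArg Prod.fst e, congrArg Prod.snd e⟩
  have k2 : ∀ w, ∃ a, f a = θ w ∧ f' a = θ' w := fun w =>
    ⟨⟨⟨(θ w, θ' w), (ker h w).trans (ker h' w).symm⟩, by
      show QuotientGroup.mk _ ∈ H
      rw [(QuotientGroup.eq_one_iff (N := D h h') _).2 ⟨w, rfl⟩]; exact one_mem _⟩, rfl, rfl⟩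
  have k3 : ∀ g ∈ Spor.M23, ∃ a, π (f a) = g := fun g hg => by
    obtain ⟨x, rfl⟩ : g ∈ (P h h').range := (coExt_T h h').range ▸ hg
    have : x ∈ ((H ⊔ (P h h').ker : Subgroup _) : Set _) := by rw [h2]; trivial
    rw [Subgroup.mul_normal] at this
    obtain ⟨a, ha, b, hb, rfl⟩ := this
    obtain ⟨y, rfl⟩ := QuotientGroup.mk_surjective a
    exact ⟨⟨y, ha⟩, by rw [map_mul, show P h h' b = 1 from hb, mul_one]; rfl⟩
  exact ⟨(MulEquiv.ofBijective f (bij h h' f f' inj k1 (fun w => (k2 w).imp fun _ e => e.1)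
    k3)).symm.trans (MulEquiv.ofBijective f' (bij h' h f' f (fun a e e' => inj a e' e)
      (fun a ha => (k1 a ((hp a).trans ha)).imp fun _ e => e.symm)
      (fun w => (k2 w).imp fun _ e => e.2) fun g hg => (k3 g hg).imp fun a e => (hp a).symm.trans e))⟩

theorem tail_map {H : Type*} [Group H] (f : G →* H) (X : XD) (x : ℕ → G) (j : ℕ) :
    f (X.tail x j) = X.tail (f ∘ x) j := by simp [XD.tail, map_evW]

theorem unique [Finite G] [Finite G'] (h : CoExt π θ) (h' : CoExt π' θ')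
    (ns : ∀ H : Subgroup G, H ⊓ π.ker = ⊥ → H ⊔ π.ker ≠ ⊤)
    (ns' : ∀ H : Subgroup G', H ⊓ π'.ker = ⊥ → H ⊔ π'.ker ≠ ⊤) : Nonempty (G ≃* G') := by
  obtain ⟨x, hx⟩ := h.exists_lift
  obtain ⟨x', hx'⟩ := h'.exists_lift
  obtain ⟨u, hu⟩ := exists_tails (X := m23Cocode) h.mod hx (by decide)
  obtain ⟨u', hu'⟩ := exists_tails (X := m23Cocode) h'.mod hx' (by decide)
  have a : bv u m23Cocode.U (nthD m23CocodeLam 0 0) ≠ 0 := fun e =>
    let ⟨H, h1, h2⟩ := h.split hx hu e; ns H h1 h2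
  have a' : bv u' m23Cocode.U (nthD m23CocodeLam 0 0) ≠ 0 := fun e =>
    let ⟨H, h1, h2⟩ := h'.split hx' hu' e; ns' H h1 h2
  let y : ℕ → Y π π' := fun c => ⟨(x c, x' c), GE.pk_injective ((hx.pk c).trans (hx'.pk c).symm)⟩
  have hy : Lift GE (P h h') m23Cocode (QuotientGroup.mk' (D h h') ∘ y) :=
    ⟨congrArg QuotientGroup.mk (Subtype.ext (Prod.ext hx.zero hx'.zero)), hx.pk, hx.ok⟩
  obtain ⟨H, h1, h2⟩ := (coExt_T h h').split hy (u := u + u') (fun j hj => by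
    rw [← tail_map]
    refine Eq.trans (congrArg _ (funext fun a => bv_add _ _ _ _)) (T_eq h h' (Prod.ext ?_ ?_))
    · exact (tail_map ((MonoidHom.fst G G').comp (Y π π').subtype) _ y j).trans (hu j hj).symm
    · exact (tail_map ((MonoidHom.snd G G').comp (Y π π').subtype) _ y j).trans (hu' j hj).symm)
    (by
      rw [bv_add]
      generalize bv u _ _ = s at a
      generalize bv u' _ _ = t at a'
      revert s t; decide)
  exact equiv_of_split h h' h1 h2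

end


/-- The non-split extension of the Mathieu group M₂₃ by its cocode module is unique. Suppose E and E' are finite groups, each with a normal subgroup (N, N'), an isomorphism of the quotient onto M₂₃ = `Spor.M23`, and a surjective additive homomorphism from the binary words on the 24 points `GolayPt` onto the normal subgroup with kernel the Golay code `golayCode` together with its translate by the unit vector at the extra point `none`, intertwining the coordinate permutation w ↦ w ∘ σ⁻¹ (σ the image of gN) with conjugation by g; and suppose that in each group the normal subgroup has no complement. Then E and E' are isomorphic. -/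
theorem result
    {E : Type*} [Group E] [Finite E] (N : Subgroup E) [hN : N.Normal]
    (φ : E ⧸ N ≃* ↥Cfsg.Spor.M23) (θ : (Cfsg.GolayPt → ZMod 2) →+ Additive ↥N)
    (hsurj : Function.Surjective θ)
    (hker : ∀ w : Cfsg.GolayPt → ZMod 2, θ w = 0 ↔ (w ∈ Cfsg.golayCode ∨ w + Pi.single none 1 ∈ Cfsg.golayCode))
    (hθ : ∀ (g : E) (w : Cfsg.GolayPt → ZMod 2),
      ((θ (w ∘ ⇑(((φ (QuotientGroup.mk g) : ↥Cfsg.Spor.M23) : Equiv.Perm Cfsg.GolayPt)⁻¹))).toMul : E)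
        = g * ((θ w).toMul : E) * g⁻¹)
    (hns : ∀ H : Subgroup E, H ⊓ N = ⊥ → H ⊔ N ≠ ⊤)
    {E' : Type*} [Group E'] [Finite E'] (N' : Subgroup E') [hN' : N'.Normal]
    (φ' : E' ⧸ N' ≃* ↥Cfsg.Spor.M23) (θ' : (Cfsg.GolayPt → ZMod 2) →+ Additive ↥N')
    (hsurj' : Function.Surjective θ')
    (hker' : ∀ w : Cfsg.GolayPt → ZMod 2, θ' w = 0 ↔ (w ∈ Cfsg.golayCode ∨ w + Pi.single none 1 ∈ Cfsg.golayCode))
    (hθ' : ∀ (g : E') (w : Cfsg.GolayPt → ZMod 2),
      ((θ' (w ∘ ⇑(((φ' (QuotientGroup.mk g) : ↥Cfsg.Spor.M23) : Equiv.Perm Cfsg.GolayPt)⁻¹))).toMul : E')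
        = g * ((θ' w).toMul : E') * g⁻¹)
    (hns' : ∀ H : Subgroup E', H ⊓ N' = ⊥ → H ⊔ N' ≠ ⊤) :
    Nonempty (E ≃* E') := by
  exact unique (coExt N φ θ hsurj hker hθ) (coExt N' φ' θ' hsurj' hker' hθ')
    (by rwa [extHom_ker]) (by rwa [extHom_ker])

end Cfsg.Agent.S2651
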