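import Cfsg.Statements.S2652
import Cfsg.Agent.H22.F22Th

set_option autoImplicit false
open Cfsg

namespace Cfsg.Agent.S2652

/-- Let T be a Sylow 2-subgroup of the Fischer group Fi₂₃ (the finitely presented group `Spor.Fi23`; T has order 2¹⁸). Then every elementary abelian subgroup of Fi₂₃ contained in T and normal in T has order at most 2¹¹, and there is exactly one such subgroup of order 2¹¹. -/
theorem result
    (T : Sylow 2 Cfsg.Spor.Fi23) :
    (∀ A : Subgroup Cfsg.Spor.Fi23, A ≤ T → (A.subgroupOf T).Normal → Cfsg.IsElementaryAbelian 2 A →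
        Nat.card A ≤ 2 ^ 11) ∧
    ∃! A : Subgroup Cfsg.Spor.Fi23, A ≤ T ∧ (A.subgroupOf T).Normal ∧ Cfsg.IsElementaryAbelian 2 A ∧
        Nat.card A = 2 ^ 11 := by
  have := H58.Fi23P.card_le.1
  obtain ⟨P, B, k1, k2⟩ := H22.th23
  obtain ⟨k, hk⟩ := k1.eq_comap T
  have t := k2.comap (MulAut.conj k)
  rw [← hk] at t
  refine ⟨fun A h1 _ h2 => ?_, _, ⟨t.le, ⟨fun x hx g => ?_⟩, H22.U6.isEA_iff.2 t.sq, t.card⟩,
    fun A h => t.uniq A h.1 (H22.U6.isEA_iff.1 h.2.2.1) h.2.2.2.ge⟩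
  · by_contra hn
    rw [t.uniq A h1 (H22.U6.isEA_iff.1 h2) (by omega), t.card] at hn
    exact hn le_rfl
  · exact t.cj_mem (g := g) (fun y hy => mul_mem (mul_mem g.2 (t.le hy)) (inv_mem g.2)) hx

end Cfsg.Agent.S2652
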