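import Cfsg.Statements.S2718
import Cfsg.Agent.H68.GSplit

set_option autoImplicit false
open Cfsg

namespace Cfsg.Agent.S2718

/-- Let T = PΩ⁺_{2m}(F) with m ≥ 4 and |F| = q odd, G = Inndiag(T), and γ an involutory graph automorphism of T induced by a similarity (one interchanging the two classes of maximal totally singular subspaces). Then the G-class of γ is either a single T-class or the union of exactly two T-classes, and it is the union of two unless m is odd and q ≡ 3 (mod 4). -/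
theorem result {F : Type*} [Field F] [Fintype F] (hodd : Odd (Fintype.card F)) {m : ℕ} (hm : 4 ≤ m) (γ : MulAut (Cfsg.POmega F (Cfsg.quadFormPlus m F))) (hγ : Cfsg.IsSimilarityGraphAutPOmegaPlus m γ) (hγ2 : orderOf γ = 2) :
    (Cfsg.splitClassCount (Cfsg.inndiagPOmegaPlus m F) (Cfsg.Inn (Cfsg.POmega F (Cfsg.quadFormPlus m F))) γ = 1 ∨ Cfsg.splitClassCount (Cfsg.inndiagPOmegaPlus m F) (Cfsg.Inn (Cfsg.POmega F (Cfsg.quadFormPlus m F))) γ = 2) ∧ (¬ (Odd m ∧ Fintype.card F % 4 = 3) → Cfsg.splitClassCount (Cfsg.inndiagPOmegaPlus m F) (Cfsg.Inn (Cfsg.POmega F (Cfsg.quadFormPlus m F))) γ = 2) := by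
  have hm3 : 3 ≤ m := by omega
  have h2 := H27.two_ne_zero_of_odd_card hodd
  have hQ := H28.qPlus_nondeg (F := F) m
  have h5 := H68.five_plus hm3
  obtain ⟨g, h1, h3, h4⟩ := hγ
  obtain rfl : γ = (H68.dSim hQ h5).πD ⟨g, h1⟩ := ((H68.dSim hQ h5).eq_π_iff _ γ).mpr h4
  rw [H68.inndiagPlus_eq hm3]
  obtain ⟨h6, h7⟩ := H68.split_graph hQ h5 (H68.even_plus m) h2
    (fun h => h3 ((H68.preservesPlus_iff hm3 ⟨g, h1⟩).mpr h)) (hγ2 ▸ pow_orderOf_eq_one _)
    (H29.exists_delta_plus h2 hm3)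
  exact ⟨h6, fun h => h7 (Or.inl ((H29.negO_plus_iff hodd (by omega)).mpr h))⟩

end Cfsg.Agent.S2718
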