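import Cfsg.Statements.S2719
import Cfsg.Agent.H68.GSplit

set_option autoImplicit false
open Cfsg

namespace Cfsg.Agent.S2719

/-- Let T = PΩ⁻_{2m+2}(F) with m ≥ 3 and |F| = q odd (form with anisotropic binary part z₁² + a z₁ z₂ + b z₂²), G = Inndiag(T), and γ an involutory graph automorphism of T (an automorphism in the image of the semisimilarity group, not inner-diagonal, of order 2). Then the G-class of γ is either a single T-class or the union of exactly two T-classes, and it is the union of two unless m is even and q ≡ 1 (mod 4). -/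
theorem result {F : Type*} [Field F] [Fintype F] (hodd : Odd (Fintype.card F)) {m : ℕ} (hm : 3 ≤ m) (a b : F) (hab : (∀ z₁ z₂ : F, z₁ ^ 2 + a * z₁ * z₂ + b * z₂ ^ 2 = 0 → z₁ = 0 ∧ z₂ = 0)) (γ : MulAut (Cfsg.POmega F (Cfsg.quadFormMinus m F a b))) (hγ : Cfsg.IsGraphAutClassPOmegaMinus m a b γ) (hγ2 : orderOf γ = 2) :
    (Cfsg.splitClassCount (Cfsg.inndiagPOmegaMinus m F a b) (Cfsg.Inn (Cfsg.POmega F (Cfsg.quadFormMinus m F a b))) γ = 1 ∨ Cfsg.splitClassCount (Cfsg.inndiagPOmegaMinus m F a b) (Cfsg.Inn (Cfsg.POmega F (Cfsg.quadFormMinus m F a b))) γ = 2) ∧ (¬ (Even m ∧ Fintype.card F % 4 = 1) → Cfsg.splitClassCount (Cfsg.inndiagPOmegaMinus m F a b) (Cfsg.Inn (Cfsg.POmega F (Cfsg.quadFormMinus m F a b))) γ = 2) := by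
  have hm2 : 2 ≤ m := by omega
  have h2 := H27.two_ne_zero_of_odd_card hodd
  have hQ := H28.qMinus_nondeg m hab
  have h5 := H68.five_minus hm2
  have hn := H68.even_minus m
  obtain ⟨h1, h3, -⟩ := hγ
  obtain ⟨y, rfl⟩ : γ ∈ (H29.poAut (H28.qMinus m F a b)).range := by rwa [H29.range_poAut]
  rw [H68.inndiagMinus_eq hm2 hab] at h3 ⊢
  have hr : y.1.right = 1 := by
    by_contra hr
    have ho := (H68.dSim hQ h5).orderOf_right Nat.prime_two y hγ2 hr
    obtain ⟨b₀, h₀⟩ := H27.exists_anisotropic_binary (H68.fixF y.1.right)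
    obtain ⟨φ, c, -, E⟩ := H68.desc_minus hm2 hab y (H68.fixEmb_fixF _) (hγ2.trans ho.symm) h₀
    obtain ⟨z, hz⟩ := (H68.fixEmb_fixF y.1.right).exists_root ho 1 b₀
    obtain ⟨U, hU⟩ := H68.maxTS_qMinus m hz
    exact H68.not_maxTS_qMinus m hab _ (H68.maxTS_map φ (E.eq_of (H68.qExt_minus m _ 1 b₀)) hU)
  have h4 : y.1 = SemidirectProduct.inl y.1.left := SemidirectProduct.ext rfl hr
  have h6 : y.1.left ∈ H68.Sim (H28.qMinus m F a b) := H68.inl_mem_gamO.mp (h4 ▸ y.2)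
  have e : H29.poAut _ y = (H68.dSim hQ h5).πD ⟨_, h6⟩ := congrArg _ (Subtype.ext h4)
  have h7 : H68.cls hQ h5 hn ⟨_, h6⟩ ≠ 1 := fun h =>
    h3 ((H68.dP hQ h5 hn).mem_range_of_right y ((H68.mem_simP _ _ _).mpr ⟨h6, h⟩) hr)
  obtain ⟨h8, h9⟩ := H68.split_graph hQ h5 hn h2 h7 (orderOf_dvd_iff_pow_eq_one.mp
    ((congrArg orderOf e).symm.trans hγ2).dvd) (H29.exists_delta_minus hab h2 hm2)
  rw [← e] at h8 h9
  refine ⟨h8, fun h => h9 ?_⟩
  rcases Nat.even_or_odd m with he | ho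
  · refine Or.inl ((H29.negO_minus_iff hodd m hab).mpr ⟨he, ?_⟩)
    have := Nat.odd_iff.mp hodd
    have : ¬ Fintype.card F % 4 = 1 := fun h' => h ⟨he, h'⟩
    omega
  · exact Or.inr ⟨m + 1, by simp; ring, ho.add_one⟩

end Cfsg.Agent.S2719
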