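import Cfsg.Statements.S2752
import Cfsg.Agent.H92.SW19

set_option autoImplicit false
universe u
open Cfsg

namespace Cfsg.Agent.S2752

/-- Let M be an elementary abelian 2-subgroup of a finite group L and G a subgroup of L acting faithfully on M by conjugation (G normalizes M and meets C(M) trivially). Assume O₂(G) = 1, the symmetric group of degree 3 is not involved in G, and every non-abelian composition factor of G is a Suzuki group Sz(2^(2n+1)) or a group PSL₂(3^(2n+1)). Then every elementary abelian 2-subgroup A of G satisfies |M / C_M(A)| ≥ |A|² and |[M, A]| ≥ |A|². -/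
theorem result {L : Type u} [Group L] [Finite L] (M G : Subgroup L) (hM : Cfsg.IsElementaryAbelian 2 M) (hGM : G ≤ Subgroup.normalizer (M : Set L)) (hf : G ⊓ Subgroup.centralizer (M : Set L) = ⊥) (ha : Cfsg.pCore 2 ↥G = ⊥) (hb : ¬ Cfsg.Involves (Equiv.Perm (Fin 3)) ↥G) (hc : Cfsg.IsCompositionKGroupWith Cfsg.IsSuzukiOrPSL2OddPowerThree ↥G) (A : Subgroup L) (hA : A ≤ G) (hAe : Cfsg.IsElementaryAbelian 2 A) : Nat.card A ^ 2 * Nat.card ↥(M ⊓ Subgroup.centralizer (A : Set L)) ≤ Nat.card M ∧ Nat.card A ^ 2 ≤ Nat.card ↥⁅M, A⁆ := by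
  have h1 : ∀ a ∈ G, a ∈ Subgroup.centralizer (M : Set L) → a = 1 := fun a h h' => hf.le ⟨h, h'⟩
  have h2 : ∀ a ∈ A, a * a = 1 := fun a h => by rw [← sq, hAe.2 a h]
  have hA' := Subgroup.le_centralizer_iff_isMulCommutative.2 hAe.1
  have := H92.SW.bound_amb hGM (Subgroup.le_centralizer_iff_isMulCommutative.2 hM.1)
    (fun m h => by rw [← sq, hM.2 m h]) (H92.SW.ks_of_comp hb hc)
    (fun D d1 d2 d3 => (H72.le_pCoreOf (p := 2) (fun d => (d3 d d.2).imp fun n hn =>
      Subtype.ext (h1 _ (pow_mem (d1 d.2) _) hn)) d1 d2).trans (by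
        rw [Cfsg.pCoreOf, ha, Subgroup.map_bot]; exact bot_le)) hA
    ((Subgroup.commutator_eq_bot_iff_le_centralizer.2 hA').le.trans bot_le)
    fun a h => by rw [h2 a h]; exact one_mem _
  have e := H92.SW.rel_mul (Subgroup.centralizer (M : Set L)) A
  rw [eq_bot_iff.2 ((inf_le_inf_right _ hA).trans hf.le), Subgroup.card_bot, mul_one] at e
  rw [e] at this
  refine ⟨?_, this.2⟩
  rw [← H92.SW.rel_mul (Subgroup.centralizer (A : Set L)) M]
  exact Nat.mul_le_mul_right _ this.1

end Cfsg.Agent.S2752
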