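import Cfsg.Statements.S2793
import Cfsg.Agent.H61.ZJFail

set_option autoImplicit false
open Cfsg

namespace Cfsg.Agent.S2793

/-- Let p be an odd prime, S a Sylow p-subgroup of the finite group G, J(S) the subgroup generated by the abelian subgroups of S of largest order, and suppose Z(J(S)) does not control strong fusion in G. Put H = N_G(Z(J(S))). Then the group F(p) of upper triangular 3 × 3 matrices (a b c; 0 a⁻¹ d; 0 0 1) over the field with p elements is involved in H, and Z(J(S)) contains a subgroup C of order p with |N_H(C) : C_H(C)| = p − 1. -/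
theorem result {G : Type*} [Group G] [Finite G] {p : ℕ} [Fact p.Prime] (hp : p ≠ 2) (S : Sylow p G) (h : ¬ Cfsg.ControlsStrongFusion p (Cfsg.centerThompsonAOf (S : Subgroup G))) (H : Subgroup G) (hH : H = Subgroup.normalizer ((Cfsg.centerThompsonAOf (S : Subgroup G)) : Set G)) : Cfsg.Involves ↥(Cfsg.fOver (ZMod p)) ↥H ∧ ∃ C : Subgroup G, C ≤ (Cfsg.centerThompsonAOf (S : Subgroup G)) ∧ Nat.card C = p ∧ (H ⊓ Subgroup.centralizer (C : Set G)).relIndex (H ⊓ Subgroup.normalizer (C : Set G)) = p - 1 := by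
  rw [H23.centerThompsonAOf_eq] at *
  subst hH
  obtain ⟨l, hl⟩ := IsCyclic.exists_generator (α := (ZMod p)ˣ)
  have h1 : ¬ ∀ A : Set G, A ⊆ (S : Subgroup G) → ControlsStrongFusionOf
      (Subgroup.normalizer (H23.zj 0 (S : Subgroup G) : Set G)) (S : Subgroup G) A :=
    fun h1 => h ⟨S, H23.zj_le 0 _, h1⟩
  push Not at h1
  obtain ⟨A, hA, h2⟩ := h1
  have h3 := not_and.1 h2 hA
  push Not at h3
  obtain ⟨g, hg, h4⟩ := h3
  obtain ⟨B, φ, a, t, z, b1, b2, b3, b4, b5⟩ := H61.hasWit_of_not_control hp (H72.isSylowIn_top S)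
    (A := Subgroup.closure A) ((Subgroup.closure_le _).2 hA) (g := g) (by
      rw [H72.cj, MonoidHom.map_closure, Subgroup.closure_le]
      exact hg) (fun y hy h5 => by
      obtain ⟨a, ha, h6⟩ := h4 y hy
      exact h6 (h5 a (Subgroup.subset_closure ha)).symm) l
  refine ⟨b5.involves hp hl b1 b2 b3, ?_⟩
  obtain ⟨c, hc, c1, c2⟩ := b5.exists_eigen (S.isPGroup'.to_le (H23.zj_le 0 _)) (H23.zj_comm 0 _)
    b3 b4
  exact ⟨Subgroup.zpowers c, Subgroup.zpowers_le.2 hc, by rw [Nat.card_zpowers, c1],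
    H61.relIndex_eq_of_eigen hl c1 b3 c2⟩

end Cfsg.Agent.S2793
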