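import Cfsg.Statements.S2756
import Cfsg.Agent.S2793
import Cfsg.Agent.S2758
import Cfsg.Agent.H81.Misc

set_option autoImplicit false
open Cfsg

namespace Cfsg.Agent.S2756

open Subgroup H72

theorem exists_inverted {G : Type*} [Group G] [Finite G] (P : Sylow 2 G)
    (hP : ¬ (P : Subgroup G).Normal) : ∃ q : ℕ, q.Prime ∧ q ≠ 2 ∧ ∃ x y : G,
      (∃ k : ℕ, orderOf y = q ^ k) ∧ y ≠ 1 ∧ x * y * x⁻¹ = y⁻¹ := by
  have : Fact (Nat.Prime 2) := ⟨Nat.prime_two⟩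
  have h1 : ¬ (P : Subgroup G) ≤ pCore 2 G := fun h =>
    hP (le_antisymm h (pCore_le_sylow P) ▸ inferInstance)
  obtain ⟨t, -, ht1, ht2⟩ := H61.exists_pow_prime_mem P.isPGroup' h1
  have h2 : (t : G ⧸ pCore 2 G) ≠ 1 := fun h => ht1 ((QuotientGroup.eq_one_iff t).1 h)
  have h3 : orderOf (t : G ⧸ pCore 2 G) = 2 :=
    orderOf_eq_prime ((QuotientGroup.eq_one_iff (t ^ 2)).2 ht2) h2
  obtain ⟨y, q, hq, hq2, hy, hi⟩ := H81.exists_inverted_of_not_mem_pCore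
    (t := (t : G ⧸ pCore 2 G)) (by rw [← pow_two]; exact (QuotientGroup.eq_one_iff (t ^ 2)).2 ht2)
    (by rw [H22.pCore_quotient_pCore]; exact h2)
  have : Fact q.Prime := ⟨hq⟩
  have h4 := (S2758.result (G := G ⧸ pCore 2 G) hq2).2.2 ⟨t, y, ⟨1, by rw [h3, pow_one]⟩,
    ⟨1, by rw [hy, pow_one]⟩, fun h => hq.one_lt.ne' (by rw [← hy, h, orderOf_one]), hi⟩
  obtain ⟨x, y', -, h5, h6, h7⟩ := (S2758.result (G := G) hq2).2.1 (H62.inv_trans h4 (H62.inv_quot _))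
  exact ⟨q, hq, hq2, x, y', h5, h6, h7⟩

theorem not_inverted {G : Type*} [Group G] [Finite G] {q : ℕ} [hq : Fact q.Prime] (hq2 : q ≠ 2)
    (h : ∀ P : Sylow 2 G, (P : Subgroup G).Normal) {x g : G} (hx : ∃ k : ℕ, orderOf x = q ^ k)
    (hx1 : x ≠ 1) : g * x * g⁻¹ ≠ x⁻¹ := by
  have : Fact (Nat.Prime 2) := ⟨Nat.prime_two⟩
  intro hg
  obtain ⟨P⟩ : Nonempty (Sylow 2 G) := inferInstance
  have := h P
  have h1 : Odd (Nat.card (G ⧸ (P : Subgroup G))) := by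
    rw [← index_eq_card, ← Nat.not_even_iff_odd, even_iff_two_dvd]
    exact P.not_dvd_index
  obtain ⟨m, hm⟩ := h1
  have h2 : ∀ n : ℕ, g ^ (2 * n + 1) * x * (g ^ (2 * n + 1))⁻¹ = x⁻¹ := fun n => by
    induction n with
    | zero => simpa using hg
    | succ n ih =>
      have h3 : g * x⁻¹ * g⁻¹ = x := by rw [← conj_inv, hg, inv_inv]
      calc g ^ (2 * (n + 1) + 1) * x * (g ^ (2 * (n + 1) + 1))⁻¹
          = g * (g * (g ^ (2 * n + 1) * x * (g ^ (2 * n + 1))⁻¹) * g⁻¹) * g⁻¹ := by group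
        _ = x⁻¹ := by rw [ih, h3, hg]
  have h3 : g ^ (2 * m + 1) ∈ (P : Subgroup G) := by
    rw [← QuotientGroup.eq_one_iff, QuotientGroup.mk_pow, ← hm, pow_card_eq_one']
  have h4 : x ^ 2 ∈ (P : Subgroup G) := by
    have h5 := mul_mem (this.conj_mem _ h3 x) (inv_mem h3)
    have h6 : x * g ^ (2 * m + 1) * x⁻¹ * (g ^ (2 * m + 1))⁻¹ = x ^ 2 := by
      rw [mul_assoc, mul_assoc, ← mul_assoc _ x⁻¹, ← conj_inv, h2, inv_inv, pow_two]
    rwa [h6] at h5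
  obtain ⟨k, hk⟩ := hx
  obtain ⟨j, hj⟩ := P.isPGroup' ⟨_, h4⟩
  have h5 : x ^ 2 ^ (j + 1) = 1 := by
    rw [pow_succ', pow_mul]; exact congrArg Subtype.val hj
  refine hx1 ((pow_eq_one_iff_of_coprime (Nat.Coprime.pow k (j + 1)
    ((Nat.coprime_primes hq.out Nat.prime_two).2 hq2))).1 ⟨?_, h5⟩)
  rw [← hk, pow_orderOf_eq_one]

theorem normal_sub {G : Type*} [Group G] [Finite G]
    (h : ∀ P : Sylow 2 G, (P : Subgroup G).Normal) (H : Subgroup G) (P : Sylow 2 H) :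
    (P : Subgroup H).Normal := by
  obtain ⟨Q, hQ⟩ := P.exists_comap_subtype_eq
  have := h Q
  rw [← hQ]
  infer_instance

/-- For a finite group G the following are equivalent: (a) G has a normal Sylow 2-subgroup; (b) for every odd prime q dividing the order of G and every Sylow q-subgroup T, the normalizer of Z(J(T)) has a normal Sylow 2-subgroup; (c) for every odd prime q and every Sylow q-subgroup T, no nonidentity element of T is inverted by an element of the normalizer of Z(J(T)). Here J(T) is the Thompson subgroup generated by the abelian subgroups of T of largest order. Stated as the two equivalences (a) ⇔ (b) and (a) ⇔ (c). -/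
theorem result {G : Type*} [Group G] [Finite G] : ((∀ P : Sylow 2 G, (P : Subgroup G).Normal) ↔ ∀ (q : ℕ) [Fact q.Prime], q ≠ 2 → q ∣ Nat.card G → ∀ T : Sylow q G, ∀ P : Sylow 2 ↥(Subgroup.normalizer (Cfsg.centerThompsonAOf (T : Subgroup G) : Set G)), (P : Subgroup ↥(Subgroup.normalizer (Cfsg.centerThompsonAOf (T : Subgroup G) : Set G))).Normal) ∧ ((∀ P : Sylow 2 G, (P : Subgroup G).Normal) ↔ ∀ (q : ℕ) [Fact q.Prime], q ≠ 2 → ∀ T : Sylow q G, ∀ x ∈ (T : Subgroup G), x ≠ 1 → ∀ g ∈ Subgroup.normalizer (Cfsg.centerThompsonAOf (T : Subgroup G) : Set G), g * x * g⁻¹ ≠ x⁻¹) := by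
  have hca : (∀ (q : ℕ) [Fact q.Prime], q ≠ 2 → ∀ T : Sylow q G, ∀ x ∈ (T : Subgroup G), x ≠ 1 →
      ∀ g ∈ Subgroup.normalizer (Cfsg.centerThompsonAOf (T : Subgroup G) : Set G),
        g * x * g⁻¹ ≠ x⁻¹) → ∀ P : Sylow 2 G, (P : Subgroup G).Normal := by
    intro h P
    by_contra hP
    obtain ⟨q, hq, hq2, x, y, hy, hy1, hi⟩ := exists_inverted P hP
    have : Fact q.Prime := ⟨hq⟩
    obtain ⟨k, hk⟩ := hy
    obtain ⟨T, hT⟩ := (H61.isPGroup_zpowers_of_pow (p := q) (x := y) (k := k)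
      (by rw [← hk, pow_orderOf_eq_one])).exists_le_sylow
    have hyT : y ∈ (T : Subgroup G) := hT (mem_zpowers y)
    obtain ⟨l, hl⟩ := IsCyclic.exists_generator (α := (ZMod q)ˣ)
    by_cases hc : ∃ g ∈ normalizer (H23.zj 0 (T : Subgroup G) : Set G), H61.Same (zpowers y) g x
    · obtain ⟨g, hg, h1⟩ := hc
      exact h q hq2 T y hyT hy1 g (by rwa [H23.centerThompsonAOf_eq])
        ((h1 y (mem_zpowers y)).trans hi)
    push Not at hc
    obtain ⟨B, φ, a, t, z, -, -, b3, b4, b5⟩ := H61.hasWit_of_not_control hq2 (isSylowIn_top T)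
      hT (g := x) (by rw [cj_zpowers, hi]; exact zpowers_le.2 (inv_mem hyT)) hc (-1)
    obtain ⟨c, hc, c1, c2⟩ := b5.exists_eigen (T.isPGroup'.to_le (H23.zj_le 0 _)) (H23.zj_comm 0 _)
      b3 b4
    refine h q hq2 T c (H23.zj_le 0 _ hc) (fun h1 => hq.one_lt.ne' (by rw [← c1, h1, orderOf_one]))
      t (by rwa [H23.centerThompsonAOf_eq]) ?_
    rw [c2, eq_inv_iff_mul_eq_one, ← pow_succ, ← orderOf_dvd_iff_pow_eq_one, c1,
      ← ZMod.natCast_eq_zero_iff]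
    simp
  have hbc : ∀ (q : ℕ) [Fact q.Prime], q ≠ 2 → ∀ T : Sylow q G,
      (∀ P : Sylow 2 ↥(Subgroup.normalizer (Cfsg.centerThompsonAOf (T : Subgroup G) : Set G)),
        (P : Subgroup ↥(Subgroup.normalizer
          (Cfsg.centerThompsonAOf (T : Subgroup G) : Set G))).Normal) →
      ∀ x ∈ (T : Subgroup G), x ≠ 1 →
      ∀ g ∈ Subgroup.normalizer (Cfsg.centerThompsonAOf (T : Subgroup G) : Set G),
        g * x * g⁻¹ ≠ x⁻¹ := by
    intro q _ hq2 T h x hx hx1 g hg hi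
    have hxN : x ∈ Subgroup.normalizer (Cfsg.centerThompsonAOf (T : Subgroup G) : Set G) := by
      rw [H23.centerThompsonAOf_eq]
      exact H23.normalizer_le_normalizer_zj 0 _ (le_normalizer hx)
    obtain ⟨k, hk⟩ := IsPGroup.iff_orderOf.1 T.isPGroup' ⟨x, hx⟩
    refine not_inverted hq2 h (x := ⟨x, hxN⟩) (g := ⟨g, hg⟩) ⟨k, ?_⟩
      (fun h1 => hx1 (congrArg Subtype.val h1)) (Subtype.ext hi)
    rw [← hk, orderOf_mk, orderOf_mk]
  refine ⟨⟨fun h q _ _ _ T P => normal_sub h _ P, fun h => hca fun q _ hq2 T x hx hx1 =>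
    hbc q hq2 T (h q hq2 ?_ T) x hx hx1⟩,
    fun h q _ hq2 T => hbc q hq2 T (normal_sub h _), hca⟩
  obtain ⟨k, hk⟩ := IsPGroup.iff_orderOf.1 T.isPGroup' ⟨x, hx⟩
  rw [orderOf_mk] at hk
  refine (dvd_pow_self q fun h0 => hx1 ?_).trans (hk ▸ orderOf_dvd_natCard x)
  rw [h0, pow_zero] at hk
  exact orderOf_eq_one_iff.1 hk

end Cfsg.Agent.S2756
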