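import Cfsg.Statements.S2759
import Cfsg.Agent.S1953
import Cfsg.Agent.H51.GoldD
import Cfsg.Agent.H92.QdSec
import Cfsg.Agent.H21.PStab2
-- import your own Cfsg.Agent.* helpers here

set_option autoImplicit false
open Cfsg

namespace Cfsg.Agent.S2759

open Subgroup

theorem exists_fixed {V : Type*} [CommGroup V] (h2 : ∀ v : V, v * v = 1) (W : Subgroup V) (i : ℕ) :
    ∀ α : MulAut V, (∀ v ∈ W, α v ∈ W) → α ^ 2 ^ i = 1 → W ≠ ⊥ → ∃ u ∈ W, u ≠ 1 ∧ α u = u := by
  induction i with
  | zero =>
    intro α _ h hW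
    obtain ⟨u, hu, h1⟩ := (bot_or_exists_ne_one W).resolve_left hW
    rw [pow_zero, pow_one] at h
    exact ⟨u, hu, h1, by rw [h]; rfl⟩
  | succ i ih =>
    intro α hα h hW
    obtain ⟨u, hu, h1, h3⟩ := ih (α * α) (fun v hv => hα _ (hα v hv))
      (by rw [← pow_two, ← pow_mul, ← pow_succ', h]) hW
    by_cases h4 : α u = u
    · exact ⟨u, hu, h1, h4⟩
    · refine ⟨u * α u, mul_mem hu (hα u hu), fun h5 => h4 ?_, ?_⟩
      · rw [← h2 u] at h5; exact mul_left_cancel h5
      · rw [map_mul, show α (α u) = u from h3, mul_comm]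

theorem sl2 : Involves (Equiv.Perm (Fin 3)) (Matrix.SpecialLinearGroup (Fin 2) (ZMod 2)) :=
  H51.involves_s3 (x := ⟨!![0, 1; 1, 1], by decide⟩) (y := ⟨!![0, 1; 1, 0], by decide⟩)
    (by decide) (fun h => by simpa using congrFun (congrFun (congrArg Subtype.val h) 0) 0)
    (by decide) (by decide)

theorem key {Y : Type*} [Group Y] [Finite Y] (V : Subgroup Y) [V.Normal]
    (hV : IsElementaryAbelian 2 V) {a b : Y} {i : ℕ} (ha : a ^ 2 ^ i ∈ centralizer (V : Set Y))
    (hb : b ^ 3 ∈ centralizer (V : Set Y)) (hab : a * b * a⁻¹ * b ∈ centralizer (V : Set Y))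
    (hb' : b ∉ centralizer (V : Set Y)) : Involves (Equiv.Perm (Fin 4)) Y := by
  letI : CommGroup V := { (inferInstance : Group V) with mul_comm := hV.1.1.comm }
  have h2 : ∀ v : V, v * v = 1 := fun v => Subtype.ext (by simpa [pow_two] using hV.2 v v.2)
  have hc : ∀ g : Y, g ∈ centralizer (V : Set Y) ↔ (MulAut.conjNormal g : MulAut V) = 1 := fun g => by
    rw [mem_centralizer_iff, MulEquiv.ext_iff]
    refine ⟨fun h v => Subtype.ext ?_, fun h v hv => ?_⟩
    · rw [MulAut.conjNormal_apply, ← h v v.2, mul_inv_cancel_right]; rfl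
    · have := congrArg Subtype.val (h ⟨v, hv⟩)
      rw [MulAut.conjNormal_apply, mul_inv_eq_iff_eq_mul] at this
      exact this.symm
  rw [hc] at ha hb hab hb'
  simp only [map_pow, map_mul, map_inv] at ha hb hab
  set α : MulAut V := MulAut.conjNormal a with hα
  set β : MulAut V := MulAut.conjNormal b with hβ
  have e1 : ∀ v, β (β (β v)) = v := fun v => by
    have := DFunLike.congr_fun hb v
    rwa [pow_three] at this
  have e2 : ∀ v, α (β v) = β (β (α v)) := fun v => by
    have h1 : α * β = β * β * α := by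
      rw [mul_eq_one_iff_eq_inv, mul_inv_eq_iff_eq_mul] at hab
      rw [hab, ← mul_one β⁻¹, ← hb, pow_three]; group
    exact DFunLike.congr_fun h1 v
  let W : Subgroup V := (MonoidHom.id V * β.toMonoidHom * (β * β).toMonoidHom).ker
  have hW : ∀ v, v ∈ W ↔ v * β v * β (β v) = 1 := fun v => Iff.rfl
  obtain ⟨u, hu, hu1, hαu⟩ := exists_fixed h2 W i α (fun v hv => by
      rw [hW] at hv ⊢
      have := congrArg α hv
      rw [map_mul, map_mul, map_one, e2, e2, e2, e1] at this
      rw [← this, mul_right_comm]) ha (by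
      rw [MulEquiv.ext_iff, not_forall] at hb'
      obtain ⟨v, hv⟩ := hb'
      refine (nontrivial_iff_ne_bot W).mp ((nontrivial_iff_exists_ne_one W).mpr ⟨v * β v, ?_, fun h => hv ?_⟩)
      · rw [hW]
        simp only [map_mul, e1]
        rw [← h2 (v * β v * β (β v))]
        ac_rfl
      · rw [← h2 v] at h; exact mul_left_cancel h)
  rw [hW] at hu
  have e3 : β (β u) = u * β u := by
    rw [← h2 (u * β u)] at hu; exact mul_left_cancel hu
  have e4 : β.symm (β u) = u := β.symm_apply_apply u
  have e5 : β.symm u = β (β u) := by rw [MulEquiv.symm_apply_eq, e1]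
  have hcoe : ∀ (g : Y) (v : V), g * v * g⁻¹ = ((MulAut.conjNormal g : MulAut V) v : Y) :=
    fun g v => rfl
  refine H60.involves_perm_four (u : Y) (β u : V) a (b * a * b⁻¹) (congrArg Subtype.val (h2 u))
    (congrArg Subtype.val (h2 _)) (congrArg Subtype.val (mul_comm u _))
    (fun h => hu1 (Subtype.ext h)) (fun h => hu1 (β.injective (by rw [map_one]; exact Subtype.ext h)))
    (fun h => hu1 ?_) (congrArg Subtype.val hαu) ?_ ?_ ?_
  · have h3 : β u = u := (Subtype.ext h).symm
    rwa [h3, h3, h2, one_mul] at hu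
  · rw [hcoe, ← hα, e2, hαu, e3]; rfl
  · rw [hcoe, map_mul, map_mul, map_inv, ← hα, ← hβ]
    change ((β (α (β.symm (β u))) : V) : Y) = _
    rw [e4, hαu]
  · rw [hcoe, map_mul, map_mul, map_inv, ← hα, ← hβ]
    change ((β (α (β.symm u)) : V) : Y) = _
    rw [e5, e2, e2, e1, hαu, e3]; rfl

/-- For a finite group G, the symmetric group of degree 4 is involved in G if and only if there is a 2-subgroup T of G such that the symmetric group of degree 3 is involved in N(T)/C(T). -/
theorem result {G : Type*} [Group G] [Finite G] : Cfsg.Involves (Equiv.Perm (Fin 4)) G ↔ ∃ T : Subgroup G, IsPGroup 2 ↥T ∧ Cfsg.Involves (Equiv.Perm (Fin 3)) (↥(Subgroup.normalizer (T : Set G)) ⧸ (Subgroup.centralizer (T : Set G)).subgroupOf (Subgroup.normalizer (T : Set G))) := by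
  haveI : Fact (Nat.Prime 2) := ⟨Nat.prime_two⟩
  constructor
  · intro h
    by_contra hcon
    refine S1953.not_involves (p := 2) ?_ (H92.involves_qd_two_iff.mpr h)
    rintro Q hQ ⟨H, K, _, h1, h2, h3, ⟨e⟩⟩
    refine hcon ⟨Q, hQ, ?_⟩
    let σ := (QuotientGroup.mk' ((centralizer (Q : Set G)).subgroupOf
      (normalizer (Q : Set G)))).comp (inclusion h3)
    let ρ := e.toMonoidHom.comp (QuotientGroup.mk' (K.subgroupOf H))
    have hk : σ.ker ≤ ρ.ker := fun x hx => by
      have h4 : (x : G) ∈ centralizer (Q : Set G) :=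
        mem_subgroupOf.mp ((QuotientGroup.eq_one_iff (inclusion h3 x)).mp hx)
      have h5 : QuotientGroup.mk' (K.subgroupOf H) x = 1 := (QuotientGroup.eq_one_iff _).mpr (h1 h4)
      rw [MonoidHom.mem_ker, MonoidHom.comp_apply, h5, map_one]
    refine H94.involves_of_injective _ (QuotientGroup.kerLift_injective σ)
      (H60.involves_of_surjective (QuotientGroup.lift σ.ker ρ hk)
        (QuotientGroup.lift_surjective_of_surjective _ _
          (e.surjective.comp (QuotientGroup.mk'_surjective _)) hk) ?_)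
    exact sl2
  · rintro ⟨T, hT, h⟩
    set N := normalizer (T : Set G) with hN
    obtain ⟨y, x, i, h1, h2, h3, h4⟩ := H51.exists_inverted_of_involves h
    obtain ⟨x, rfl⟩ := QuotientGroup.mk'_surjective _ x
    obtain ⟨y, rfl⟩ := QuotientGroup.mk'_surjective _ y
    haveI : (T.subgroupOf N).Normal := normal_in_normalizer
    have hT' : IsPGroup 2 (T.subgroupOf N) := hT.comap_subtype
    have hc : ∀ g : N, QuotientGroup.mk' ((centralizer (T : Set G)).subgroupOf N) g = 1 ↔
        g ∈ centralizer ((T.subgroupOf N : Subgroup N) : Set N) := fun g => by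
      rw [QuotientGroup.mk'_apply, QuotientGroup.eq_one_iff, mem_subgroupOf]
      simp only [mem_centralizer_iff]
      exact ⟨fun h u hu => Subtype.ext (h u hu),
        fun h u hu => congrArg Subtype.val (h ⟨u, le_normalizer hu⟩ hu)⟩
    rw [← mul_inv_eq_one, inv_inv, ← map_inv, ← map_mul, ← map_mul, ← map_mul, hc] at h4
    rw [← map_pow, hc] at h1 h3
    rw [Ne, hc] at h2
    set π := QuotientGroup.mk' ((frattini (T.subgroupOf N)).map (T.subgroupOf N).subtype) with hπ
    have hπs : Function.Surjective π := QuotientGroup.mk'_surjective _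
    haveI : ((T.subgroupOf N).map π).Normal := Normal.map inferInstance π hπs
    have hm : ∀ g ∈ centralizer ((T.subgroupOf N : Subgroup N) : Set N), π g ∈ centralizer _ :=
      fun g hg => H22.map_centralizer_le π _ (mem_map_of_mem π hg)
    refine H60.involves_of_subgroup N (H60.involves_of_surjective π hπs
      (key _ (H21.isElementaryAbelian_map_mk_frattini hT') (a := π x) (b := π y) (i := i)
        (by rw [← map_pow]; exact hm _ h3) (by rw [← map_pow]; exact hm _ h1)
        (by rw [← map_inv, ← map_mul, ← map_mul, ← map_mul]; exact hm _ h4) fun h5 => h2 ?_))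
    obtain ⟨n, hn⟩ := H21.exists_pow_mem_centralizer_of_mem_sectionKernel hT' h5
    have h6 : 2 ^ n * 2 ^ n = 3 * (2 ^ n * 2 ^ n / 3) + 1 := by
      have : 2 ^ n * 2 ^ n % 3 = 1 := by rw [← mul_pow, Nat.pow_mod]; simp
      omega
    have h7 := pow_mem hn (2 ^ n)
    rw [← pow_mul, h6, pow_succ, pow_mul] at h7
    exact (mul_mem_cancel_left (pow_mem h1 _)).mp h7

end Cfsg.Agent.S2759
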