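import Cfsg.Statements.S2772
import Cfsg.Agent.H69.PushMax
import Cfsg.Agent.H92.QdSec

set_option autoImplicit false
open Cfsg

namespace Cfsg.Agent.S2772

open Subgroup

theorem qd_two : Nonempty (↥(Cfsg.qd 2) ≃* Equiv.Perm (Fin 4)) := by
  obtain ⟨K, f, hf⟩ := H94.involves_iff.1 H92.involves_perm_qd
  have h1 : Nat.card (qd 2) = 24 := by
    have h2 := (H60.qdLin 2).ker.card_mul_index
    rw [Subgroup.index_ker, MonoidHom.range_eq_top.2 fun A => ⟨_, H92.qdLin_qdEmb A⟩,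
      Subgroup.card_top, H60.card_ker_qdLin, H9.card_sl_two, ZMod.card] at h2
    rw [← h2]; rfl
  have h2 : Nat.card (Equiv.Perm (Fin 4)) = 24 := by
    rw [Nat.card_eq_fintype_card, Fintype.card_perm]; rfl
  have h3 := Nat.card_le_card_of_surjective f hf
  have h4 := K.card_le_card_group
  have h5 : K = ⊤ := Subgroup.eq_top_of_card_eq K (by omega)
  subst h5
  have h6 : Function.Bijective f := (Nat.bijective_iff_surjective_and_card f).2 ⟨hf, by omega⟩
  exact ⟨Subgroup.topEquiv.symm.trans (MulEquiv.ofBijective f h6)⟩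

theorem prod_equiv {G : Type*} [Group G] {A B : Subgroup G} (h : IsInternalDirectProduct A B ⊤) :
    Nonempty (A × B ≃* G) := by
  obtain ⟨-, -, h1, h2, h3⟩ := h
  refine ⟨MulEquiv.ofBijective (A.subtype.noncommCoprod B.subtype fun a b => h1 a a.2 b b.2)
    ⟨(injective_iff_map_eq_one _).2 fun x hx => ?_, fun x => ?_⟩⟩
  · have e : (x.1 : G) = (x.2 : G)⁻¹ := eq_inv_of_mul_eq_one_left hx
    have e1 : (x.1 : G) = 1 := mem_bot.1 (h2.le ⟨x.1.2, e ▸ B.inv_mem x.2.2⟩)
    rw [e1, eq_comm, inv_eq_one] at e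
    exact Prod.ext (Subtype.ext e1) (Subtype.ext e)
  · obtain ⟨a, ha, b, hb, rfl⟩ := (H69.mem_sup_of_le_normalizer (H69.le_normalizer_of_le_centralizer
      fun b hb a ha => h1 a ha b hb)).1 (h3.ge (mem_top x))
    exact ⟨(⟨a, ha⟩, ⟨b, hb⟩), rfl⟩

/-- An element of order three. -/
def D : H69.SL2 (ZMod 2) := ⟨!![0, 1; 1, 1], by decide⟩

theorem D_conj : ∀ g : H69.SL2 (ZMod 2), g * D = D * g ∨ g * D = D * D * g := by decide

theorem D_pow : D ^ 3 = 1 := by decide

theorem D_fix : ∀ x : Fin 2 → ZMod 2, D.1.mulVec x = x → x = 0 := by decide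

/-- Sims' Theorem in local form: let H be a finite non-abelian simple group and G a maximal subgroup of H with C_G(O₂(G)) ≤ O₂(G), such that N_H(S) is not contained in G for a Sylow 2-subgroup S of G and G/O₂(G) is dihedral of order 2q for a prime q. Then G is isomorphic to the symmetric group of degree 4 or to its direct product with a group of order 2. -/
theorem result {H : Type*} [Group H] [Finite H] [IsSimpleGroup H] (hna : ¬ IsMulCommutative H) (G : Subgroup H) (hG : IsCoatom G) (hchar : Subgroup.centralizer (Cfsg.pCore 2 ↥G : Set ↥G) ≤ Cfsg.pCore 2 ↥G) (S : Sylow 2 ↥G) (hN : ¬ Subgroup.normalizer (((S : Subgroup ↥G).map G.subtype : Subgroup H) : Set H) ≤ G) (q : ℕ) (hq : q.Prime) (hD : Nonempty (↥G ⧸ Cfsg.pCore 2 ↥G ≃* DihedralGroup q)) : Nonempty (↥G ≃* Equiv.Perm (Fin 4)) ∨ Nonempty (↥G ≃* Equiv.Perm (Fin 4) × Multiplicative (ZMod 2)) := by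
  have hi : (Cfsg.pCore 2 ↥G).index = 2 * q := by
    obtain ⟨e⟩ := hD
    rw [Subgroup.index, Nat.card_congr e.toEquiv, DihedralGroup.nat_card]
  have q2 : q ≠ 2 := by
    rintro rfl
    have h1 : IsPGroup 2 (↥G ⧸ Cfsg.pCore 2 ↥G) := IsPGroup.of_card (n := 2) hi
    have h2 := (h1.to_subgroup ⊤).comap_of_ker_isPGroup (QuotientGroup.mk' _)
      (by rw [QuotientGroup.ker_mk']; exact H69.isPGroup_pCore 2 G)
    rw [comap_top] at h2
    rw [top_le_iff.1 (H69.le_pCore inferInstance h2), index_top] at hi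
    omega
  have r := H69.rankOne_of_prime S hq q2 hi
  rw [← H69.pCoreOf_top] at r
  obtain ⟨⟨T, C, h⟩, ab, ⟨B, b1, b2⟩, hz⟩ := H69.push_max (F := ZMod 2) (by omega) r
    (H69.charPOf_top.2 hchar) (fun R h0 _ h2 h3 => ((hG.le_iff.1 h3).resolve_left fun e =>
      hG.1 (top_le_iff.1 (((normalizer_eq_top_iff.1 e).eq_bot_or_eq_top.resolve_left h2).ge.trans
        h0))).le) hN
  obtain ⟨N⟩ := h.natSec
  obtain ⟨G₀, d, ⟨e⟩⟩ := H69.exists_qd_split r N (h.K_eq N) ab b1 b2 D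
    ⟨fun x hx g => by
      obtain ⟨k, rfl⟩ := Subgroup.mem_zpowers_iff.1 hx
      rw [← conj_zpow]
      refine zpow_mem ?_ k
      rcases D_conj g with e | e <;> rw [e, mul_inv_cancel_right]
      exacts [mem_zpowers _, mul_mem (mem_zpowers _) (mem_zpowers _)]⟩
    (Nat.Coprime.coprime_dvd_left (orderOf_dvd_of_pow_eq_one D_pow) (by norm_num)) D_fix
  obtain ⟨e1⟩ := prod_equiv d
  obtain ⟨e2⟩ := qd_two
  have e3 : G₀ ≃* Equiv.Perm (Fin 4) := e.trans e2
  have h0 : 0 < Nat.card (H69.zOf (⊤ : Subgroup G)) := Nat.card_pos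
  rw [ZMod.card] at hz
  obtain h1 | h1 : Nat.card (H69.zOf (⊤ : Subgroup G)) = 1 ∨
    Nat.card (H69.zOf (⊤ : Subgroup G)) = 2 := by omega
  · have := (Nat.card_eq_one_iff_unique.1 h1).1
    have := uniqueOfSubsingleton (1 : H69.zOf (⊤ : Subgroup G))
    exact Or.inl ⟨e1.symm.trans (MulEquiv.prodUnique.trans e3)⟩
  · exact Or.inr ⟨e1.symm.trans (e3.prodCongr (mulEquivOfPrimeCardEq h1 (by simp)))⟩

end Cfsg.Agent.S2772
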