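import Cfsg.Statements.S2762
import Cfsg.Agent.H69.QdOver

set_option autoImplicit false
open Cfsg

namespace Cfsg.Agent.S2762

open Subgroup Matrix Cfsg.Agent.H69

theorem mem_core {F : Type*} [Field F] [Fintype F] {p : ℕ} [hp : Fact p.Prime] [CharP F p]
    (A : SL2 F) (c : Fin 2 → F) : qdo A c ∈ pCore p (qdOver F) ↔ A = 1 := by
  let V : Subgroup (qdOver F) :=
    { carrier := {x | ∃ c, x = qdo 1 c}
      one_mem' := ⟨0, qdo_one.symm⟩
      mul_mem' := by
        rintro _ _ ⟨c, rfl⟩ ⟨d, rfl⟩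
        exact ⟨_, by rw [qdo_mul, mul_one]⟩
      inv_mem' := by
        rintro _ ⟨c, rfl⟩
        exact ⟨-c, inv_eq_of_mul_eq_one_right (by
          rw [qdo_mul, mul_one, sl2_one_mulVec, add_neg_cancel, qdo_one])⟩ }
  have cj : ∀ (B : SL2 F) (d e : Fin 2 → F), qdo B d * qdo 1 e * (qdo B d)⁻¹ = qdo 1 (B.1 *ᵥ e) :=
    fun B d e => by
      rw [mul_inv_eq_iff_eq_mul, qdo_mul, qdo_mul, mul_one, one_mul, sl2_one_mulVec, add_comm]
  have hV : V.Normal := ⟨by
    rintro _ ⟨e, rfl⟩ g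
    obtain ⟨B, d, rfl⟩ := exists_qdo g
    exact ⟨_, cj B d e⟩⟩
  have pw : ∀ (e : Fin 2 → F) (n : ℕ), qdo 1 e ^ n = qdo 1 (n • e) := fun e n => by
    induction n with
    | zero => rw [pow_zero, zero_smul, qdo_one]
    | succ n ih => rw [pow_succ, ih, qdo_mul, mul_one, sl2_one_mulVec, succ_nsmul]
  have pV : IsPGroup p V := isPGroup_iff_mem.2 (by
    rintro _ ⟨e, rfl⟩
    exact ⟨1, by rw [pow_one, pw, ← Nat.cast_smul_eq_nsmul F, CharP.cast_eq_zero, zero_smul, qdo_one]⟩)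
  refine ⟨fun h => ?_, fun h => le_pCore hV pV ⟨c, by rw [h]⟩⟩
  obtain ⟨⟨_, ⟨e, rfl⟩, h1⟩, h2⟩ := ne_bot_iff_exists_ne_one.1 (inf_centralizer_ne_bot
    (isPGroup_pCore p (qdOver F)) pV le_normalizer_of_normal fun e => by
      have : qdo (1 : SL2 F) 1 = 1 := mem_bot.1 (e.le ⟨1, rfl⟩)
      rw [← qdo_one, qdo_inj] at this
      exact one_ne_zero this.2)
  let D : AddSubgroup (Fin 2 → F) :=
    { carrier := {c | qdo 1 c ∈ centralizer (pCore p (qdOver F) : Set (qdOver F))}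
      zero_mem' := by
        change _ ∈ centralizer _
        rw [qdo_one]; exact one_mem _
      add_mem' := fun {a b} ha hb => by
        have := (centralizer _).mul_mem ha hb
        rwa [qdo_mul, mul_one, sl2_one_mulVec] at this
      neg_mem' := fun {a} ha => by
        have := (centralizer _).inv_mem ha
        rwa [inv_eq_of_mul_eq_one_right (a := qdo 1 a) (b := qdo 1 (-a)) (by
          rw [qdo_mul, mul_one, sl2_one_mulVec, add_neg_cancel, qdo_one])] at this }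
  have hD := natural_irreducible D (fun B x hx => by
    have := (inferInstance : (centralizer (pCore p (qdOver F) : Set (qdOver F))).Normal).conj_mem
      _ hx (qdo B 0)
    rwa [cj] at this) (x := e) h1 fun e' => h2 (Subtype.ext (by
      change qdo 1 e = 1
      rw [e', qdo_one]))
  refine sl2_eq_of_mulVec fun x => ?_
  have := (hD.ge (AddSubgroup.mem_top x) : _ ∈ centralizer _) _ h
  rw [qdo_mul, qdo_mul, qdo_inj, sl2_one_mulVec, add_comm x] at this
  rw [sl2_one_mulVec]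
  exact add_left_cancel this.2

/-- Structure of Qd over a finite field F of characteristic p (the affine subgroup of SL₃(F)): its largest normal p-subgroup is the group of translations (matrices with upper-left block the identity), the block-diagonal matrices form a complement isomorphic to SL₂(F), and the translation subgroup is a natural SL₂(F)-module for that complement. -/
theorem result {F : Type*} [Field F] [Fintype F] {p : ℕ} [Fact p.Prime] [CharP F p] : (∀ M : ↥(Cfsg.qdOver F), M ∈ Cfsg.pCore p ↥(Cfsg.qdOver F) ↔ ((M : Matrix.SpecialLinearGroup (Fin 3) F) : Matrix (Fin 3) (Fin 3) F) 0 0 = 1 ∧ ((M : Matrix.SpecialLinearGroup (Fin 3) F) : Matrix (Fin 3) (Fin 3) F) 0 1 = 0 ∧ ((M : Matrix.SpecialLinearGroup (Fin 3) F) : Matrix (Fin 3) (Fin 3) F) 1 0 = 0 ∧ ((M : Matrix.SpecialLinearGroup (Fin 3) F) : Matrix (Fin 3) (Fin 3) F) 1 1 = 1) ∧ ∃ K : Subgroup ↥(Cfsg.qdOver F), (∀ M : ↥(Cfsg.qdOver F), M ∈ K ↔ ((M : Matrix.SpecialLinearGroup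 (Fin 3) F) : Matrix (Fin 3) (Fin 3) F) 0 2 = 0 ∧ ((M : Matrix.SpecialLinearGroup (Fin 3) F) : Matrix (Fin 3) (Fin 3) F) 1 2 = 0) ∧ K ⊓ Cfsg.pCore p ↥(Cfsg.qdOver F) = ⊥ ∧ K ⊔ Cfsg.pCore p ↥(Cfsg.qdOver F) = ⊤ ∧ Nonempty (↥K ≃* Matrix.SpecialLinearGroup (Fin 2) F) ∧ Cfsg.IsNaturalSL2Module F (Cfsg.pCore p ↥(Cfsg.qdOver F)) K := by
  let emb : SL2 F →* qdOver F := MonoidHom.mk' (fun A => qdo A 0) fun A B => by
    rw [qdo_mul, mulVec_zero, add_zero]
  have einj : Function.Injective emb := fun A B e => (qdo_inj.1 e).1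
  refine ⟨fun M => ?_, emb.range, fun M => ?_, eq_bot_iff.2 ?_, top_le_iff.1 fun M _ => ?_,
    ⟨(MonoidHom.ofInjective einj).symm⟩, le_normalizer_of_normal,
    (MonoidHom.ofInjective einj).symm.toMonoidHom, (AddEquiv.ofBijective (AddMonoidHom.mk'
      (fun c : Fin 2 → F => Additive.ofMul (⟨qdo 1 c, (mem_core 1 c).2 rfl⟩ : pCore p (qdOver F)))
        fun a b => congrArg Additive.ofMul (Subtype.ext (by
          change _ = qdo 1 a * qdo 1 b
          rw [qdo_mul, mul_one, sl2_one_mulVec])))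
      ⟨fun a b e => (qdo_inj.1 (congrArg (fun x => (Additive.toMul x).1) e)).2, fun x => ?_⟩).symm,
    (MonoidHom.ofInjective einj).symm.surjective, ?_, fun l v => ?_⟩
  · obtain ⟨A, c, rfl⟩ := exists_qdo M
    exact (mem_core A c).trans ⟨fun e => e ▸ ⟨rfl, rfl, rfl, rfl⟩,
      fun e => sl2_ext e.1 e.2.1 e.2.2.1 e.2.2.2⟩
  · obtain ⟨A, c, rfl⟩ := exists_qdo M
    refine ⟨fun ⟨B, e⟩ => e ▸ ⟨rfl, rfl⟩, fun e => ⟨A, qdo_inj.2 ⟨rfl, ?_⟩⟩⟩
    ext i
    fin_cases i
    exacts [e.1.symm, e.2.symm]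
  · rintro _ ⟨⟨A, rfl⟩, h⟩
    rw [(mem_core A 0).1 h, map_one]; exact one_mem _
  · obtain ⟨A, c, rfl⟩ := exists_qdo M
    have := mul_mem (mem_sup_right ((mem_core (p := p) 1 c).2 rfl))
      (mem_sup_left (S := emb.range) ⟨A, rfl⟩)
    change qdo 1 c * qdo A 0 ∈ _ at this
    rwa [qdo_mul, one_mul, mulVec_zero, add_zero] at this
  · obtain ⟨A, c, e⟩ := exists_qdo (Additive.toMul x).1
    have := (Additive.toMul x).2
    rw [e, mem_core] at this
    exact ⟨c, Additive.toMul.injective (Subtype.ext (by rw [e, this]; rfl))⟩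
  · ext l
    obtain ⟨A, rfl⟩ := (MonoidHom.ofInjective einj).surjective l
    rw [MonoidHom.mem_ker, MulEquiv.coe_toMonoidHom, MulEquiv.symm_apply_apply]
    refine ⟨fun e => by rw [e, map_one]; exact one_mem _, fun e => sl2_eq_of_mulVec fun x => ?_⟩
    have : qdo 1 x * qdo A 0 = qdo A 0 * qdo 1 x := e _ ((mem_core 1 x).2 rfl)
    rw [qdo_mul, qdo_mul, qdo_inj, mulVec_zero, add_zero, zero_add] at this
    rw [sl2_one_mulVec, ← this.2]
  · obtain ⟨A, rfl⟩ := (MonoidHom.ofInjective einj).surjective l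
    obtain ⟨B, c, e⟩ := exists_qdo v.1
    have hv := v.2
    rw [e, mem_core] at hv
    subst hv
    obtain rfl : v = ⟨qdo 1 c, (mem_core 1 c).2 rfl⟩ := Subtype.ext e
    refine ⟨⟨qdo 1 (A.1 *ᵥ c), (mem_core 1 _).2 rfl⟩, ?_, ?_⟩
    · change _ = qdo A 0 * qdo 1 c * (qdo A 0)⁻¹
      rw [eq_mul_inv_iff_mul_eq, qdo_mul, qdo_mul, mul_one, one_mul, mulVec_zero, add_comm]
    · rw [MulEquiv.coe_toMonoidHom, MulEquiv.symm_apply_apply, AddEquiv.symm_apply_eq]
      exact congrArg (fun y => Additive.ofMul (⟨qdo 1 (A.1 *ᵥ y), (mem_core 1 _).2 rfl⟩ :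
        pCore p (qdOver F))) (AddEquiv.symm_apply_apply _ c).symm

end Cfsg.Agent.S2762
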