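import Cfsg.Statements.S2765
import Cfsg.Agent.H69.PushChief

set_option autoImplicit false
open Cfsg

namespace Cfsg.Agent.S2765

/-- In the same pushing-up situation (G finite, C_G(O_p(G)) ≤ O_p(G), G/K ≅ PSL₂(p^n) with n ≥ 1, a Sylow p-subgroup S in exactly one maximal subgroup, no nontrivial characteristic subgroup of S normal in G), one of the following holds: (I) S has nilpotency class 2, exponent 4 if p = 2 and exponent p otherwise, and G has exactly one noncentral chief factor inside O_p(G); or (II) p = 3, S has class 3 and exponent 9, and G has exactly two noncentral chief factors inside O_p(G). 'Exactly one' is phrased as: some noncentral chief factor U/W inside O_p(G) with G acting hypercentrally on W and on O_p(G)/U; 'exactly two' analogously with a chain. -/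
theorem result {G : Type*} [Group G] [Finite G] {p : ℕ} [Fact p.Prime] (S : Sylow p G) (hE₁ : Subgroup.centralizer (Cfsg.pCore p G : Set G) ≤ Cfsg.pCore p G) (hE₂ : ∃! M : Subgroup G, IsCoatom M ∧ (S : Subgroup G) ≤ M) (K : Subgroup G) [K.Normal] (F : Type) [Field F] [Fintype F] (n : ℕ) (hn : 1 ≤ n) (hF : Fintype.card F = p ^ n) (hE₃ : Nonempty (G ⧸ K ≃* Matrix.ProjectiveSpecialLinearGroup (Fin 2) F)) (hd : ∀ T : Subgroup ↥(S : Subgroup G), T ≠ ⊥ → T.Characteristic → ¬ (T.map (S : Subgroup G).subtype).Normal) : ((S : Subgroup G).lowerCentralSeries 2 = ⊥ ∧ (S : Subgroup G).lowerCentralSeries 1 ≠ ⊥ ∧ (p = 2 → Monoid.exponent ↥(S : Subgroup G) = 4) ∧ (p ≠ 2 → Monoid.exponent ↥(S : Subgroup G) = p) ∧ (∃ U W : Subgroup G, W ≤ U ∧ U ≤ (Cfsg.pCore p G) ∧ Cfsg.IsChiefFactor U W ∧ ¬ ⁅U, (⊤ : Subgroup G)⁆ ≤ W ∧ (∃ k : ℕ, Cfsg.iterCommutator W ⊤ k = ⊥) ∧ (∃ k : ℕ, Cfsg.iterCommutator (Cfsg.pCore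 p G) ⊤ k ≤ U))) ∨ (p = 3 ∧ (S : Subgroup G).lowerCentralSeries 3 = ⊥ ∧ (S : Subgroup G).lowerCentralSeries 2 ≠ ⊥ ∧ Monoid.exponent ↥(S : Subgroup G) = 9 ∧ (∃ U₁ W₁ U₂ W₂ : Subgroup G, W₁ ≤ U₁ ∧ U₁ ≤ W₂ ∧ W₂ ≤ U₂ ∧ U₂ ≤ (Cfsg.pCore p G) ∧ Cfsg.IsChiefFactor U₁ W₁ ∧ Cfsg.IsChiefFactor U₂ W₂ ∧ ¬ ⁅U₁, (⊤ : Subgroup G)⁆ ≤ W₁ ∧ ¬ ⁅U₂, (⊤ : Subgroup G)⁆ ≤ W₂ ∧ (∃ k : ℕ, Cfsg.iterCommutator W₁ ⊤ k = ⊥) ∧ (∃ k : ℕ, Cfsg.iterCommutator W₂ ⊤ k ≤ U₁) ∧ (∃ k : ℕ, Cfsg.iterCommutator (Cfsg.pCore p G) ⊤ k ≤ U₂))) := by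
  obtain ⟨M, r⟩ := H69.rankOne_of_psl' S hE₂ K hn hF hE₃
  rw [← H69.pCoreOf_top] at r ⊢
  obtain ⟨T, C, h⟩ := H69.exists_pug r (H69.charPOf_top.2 hE₁) hd
  have hp : p.Prime := Fact.out
  have nrm : ∀ N : Subgroup G, ⊤ ≤ Subgroup.normalizer (N : Set G) ↔ N.Normal := fun N =>
    top_le_iff.trans Subgroup.normalizer_eq_top_iff
  obtain ⟨z1, z2⟩ := h.chief_Z
  have z0 : H69.zOf (⊤ : Subgroup G) ≤ H69.Zv p ⊤ := (r.zOf_G_le h.hc).trans (r.zOf_le h.hc)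
  have z3 : Cfsg.IsChiefFactor (H69.Zv p ⊤) (H69.zOf (⊤ : Subgroup G)) :=
    ⟨lt_of_le_of_ne z0 fun e => z1 (by
      rw [← e]; exact Subgroup.commutator_le.2 fun g hg v hv =>
        H69.commutator_mem_of_normalizer (H69.norm_zOf _ hg) hv),
      (nrm _).1 (H69.PU.norm_Zv _), (nrm _).1 (H69.norm_zOf _), fun N hN => z2 N ((nrm _).2 hN)⟩
  have z4 : ∃ k, Cfsg.iterCommutator (H69.zOf (⊤ : Subgroup G)) ⊤ k = ⊥ := ⟨1, by
    rw [Cfsg.iterCommutator, Cfsg.iterCommutator]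
    exact Subgroup.commutator_eq_bot_iff_le_centralizer.2 inf_le_right⟩
  rw [Subgroup.commutator_comm] at z1
  have ex : ∀ k : ℕ, Monoid.exponent ↥(S : Subgroup G) ∣ k ↔ ∀ x ∈ (S : Subgroup G), x ^ k = 1 :=
    fun k => Monoid.exponent_dvd_iff_forall_pow_eq_one.trans
      ⟨fun e x hx => congrArg Subtype.val (e ⟨x, hx⟩), fun e x => Subtype.ext (e x x.2)⟩
  rcases h.out.cases with ⟨b1, b2, b3, b4⟩ | ⟨b1, b2, b3, b4, ⟨x, hx, b5⟩, b6, b7⟩
  · refine Or.inl ⟨b2, b3, fun e => ?_, fun e => ?_, _, _, z0, inf_le_left, z3, z1, z4,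
      b1 ▸ h.exists_iter⟩
    · subst e
      have h1 := (ex (2 ^ 2)).2 (b4 _ (by norm_num) (by decide))
      have h2 : ¬ Monoid.exponent ↥(S : Subgroup G) ∣ 2 ^ 1 := fun e => b3 (by
        refine Subgroup.commutator_eq_bot_iff_le_centralizer.2 fun a ha b hb => ?_
        have sq : ∀ x ∈ (S : Subgroup G), x⁻¹ = x := fun x hx =>
          inv_eq_of_mul_eq_one_right (by simpa [sq] using (ex _).1 e x hx)
        rw [← sq _ ((S : Subgroup G).mul_mem hb ha), mul_inv_rev, sq a ha, sq b hb])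
      exact Nat.eq_prime_pow_of_dvd_least_prime_pow hp h2 h1
    · refine ((Nat.dvd_prime hp).1 ((ex p).2 (b4 p dvd_rfl (hp.dvd_choose_self two_ne_zero
        (lt_of_le_of_ne hp.two_le (Ne.symm e)))))).resolve_left fun e' => r.ne fun x hx => ?_
      rw [← pow_one x, (ex 1).1 e'.dvd x hx]; exact one_mem _
  · rw [Subgroup.commutator_comm] at b6
    refine Or.inr ⟨b1, b2, b3, ?_, _, _, _, T, z0, h.out.ZT, h.out.TQ, le_rfl, z3,
      ⟨lt_of_le_of_ne h.out.TQ fun e => b6 (by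
        rw [e, Subgroup.commutator_comm]; exact Subgroup.commutator_le.2 fun g hg v hv =>
          H69.commutator_mem_of_normalizer (r.Qn hg) hv), (nrm _).1 r.Qn, (nrm _).1 h.out.nT,
        fun N hN => b7 N ((nrm _).2 hN)⟩, z1, b6, z4, h.exists_iter, 0, by
          rw [Cfsg.iterCommutator]⟩
    exact Nat.eq_prime_pow_of_dvd_least_prime_pow Nat.prime_three (k := 1)
      (fun e => b5 ((ex _).1 e x hx)) ((ex _).2 b4)

end Cfsg.Agent.S2765
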