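import Cfsg.Statements.S2766
import Cfsg.Agent.H69.PushMax

set_option autoImplicit false
open Cfsg

namespace Cfsg.Agent.S2766

/-- Let p ≥ 5 be prime and G a maximal p-local subgroup of a finite group H (G is the normalizer of a nontrivial p-subgroup and lies in no other such normalizer). Suppose C_G(O_p(G)) ≤ O_p(G), G/K ≅ PSL₂(p^n) for some normal K and n ≥ 1, a Sylow p-subgroup S of G lies in exactly one maximal subgroup of G, and N_H(S) is not contained in G. Then G = G₀ × E for subgroups G₀ ≅ Qd(p^n) (the natural semidirect product of the plane over the field with p^n elements by SL₂) and E an elementary abelian p-group. -/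
theorem result {H : Type*} [Group H] [Finite H] {p : ℕ} [Fact p.Prime] (hp : 5 ≤ p) (G : Subgroup H) (hloc : ∃ R : Subgroup H, IsPGroup p ↥R ∧ R ≠ ⊥ ∧ G = Subgroup.normalizer (R : Set H)) (hmax : ∀ R : Subgroup H, IsPGroup p ↥R → R ≠ ⊥ → G ≤ Subgroup.normalizer (R : Set H) → Subgroup.normalizer (R : Set H) = G) (S : Sylow p ↥G) (hE₁ : Subgroup.centralizer (Cfsg.pCore p ↥G : Set ↥G) ≤ Cfsg.pCore p ↥G) (hE₂ : ∃! M : Subgroup ↥G, IsCoatom M ∧ (S : Subgroup ↥G) ≤ M) (K : Subgroup ↥G) [K.Normal] (F : Type) [Field F] [Fintype F] (n : ℕ) (hn : 1 ≤ n) (hF : Fintype.card F = p ^ n) (hE₃ : Nonempty (↥G ⧸ K ≃* Matrix.ProjectiveSpecialLinearGroup (Fin 2) F)) (hN : ¬ Subgroup.normalizer (((S : Subgroup ↥G).map G.subtype : Subgroup H) : Set H) ≤ G) : ∃ G₀ E : Subgroup H, Cfsg.IsInternalDirectProduct G₀ E G ∧ Cfsg.IsElementaryAbelian p E ∧ Nonempty (↥G₀ ≃* ↥(Cfsg.qdOver F)) := by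
  obtain ⟨M, r⟩ := H69.rankOne_of_psl' S hE₂ K hn hF hE₃
  rw [← H69.pCoreOf_top] at r
  obtain ⟨⟨T, C, h⟩, ab, ⟨B, b1, b2⟩, -⟩ := H69.push_max (by omega) r (H69.charPOf_top.2 hE₁)
    (fun R _ h1 h2 h3 => (hmax R h1 h2 h3).le) hN
  obtain ⟨N⟩ := h.natSec
  have h2 : (2 : F) ≠ 0 := Ring.two_ne_zero fun e => by
    have h3 := FiniteField.even_card_iff_char_two.1 e
    rw [hF] at h3
    have := (Nat.prime_dvd_prime_iff_eq Nat.prime_two Fact.out).1
      (Nat.prime_two.dvd_of_dvd_pow (Nat.dvd_of_mod_eq_zero h3))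
    omega
  obtain ⟨G₀, ⟨-, -, d1, d2, d3⟩, ⟨e⟩⟩ := H69.exists_qd_split r N (h.K_eq N) ab b1 b2 (-1)
    ⟨fun x hx g => by
      obtain ⟨k, rfl⟩ := Subgroup.mem_zpowers_iff.1 hx
      rw [← conj_zpow]
      simp⟩
    (Nat.Coprime.coprime_dvd_left (orderOf_dvd_of_pow_eq_one (n := 2) (by simp))
      ((Nat.coprime_primes Nat.prime_two Fact.out).2 (by omega)))
    fun x hx => by
      rw [H69.sl2_neg_one_mulVec, neg_eq_iff_add_eq_zero, ← two_smul F] at hx
      exact (smul_eq_zero.1 hx).resolve_left h2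
  refine ⟨G₀.map G.subtype, (H69.zOf ⊤).map G.subtype, ⟨Subgroup.map_subtype_le _,
    Subgroup.map_subtype_le _, ?_, ?_, ?_⟩, H69.isElementaryAbelian_iff.2 ⟨?_, ?_⟩,
    ⟨(G₀.equivMapOfInjective _ G.subtype_injective).symm.trans e⟩⟩
  · rintro _ ⟨a, ha, rfl⟩ _ ⟨b, hb, rfl⟩
    rw [← map_mul, d1 a ha b hb, map_mul]
  · rw [← Subgroup.map_inf _ _ _ G.subtype_injective, d2, Subgroup.map_bot]
  · rw [← Subgroup.map_sup, d3, ← MonoidHom.range_eq_map, Subgroup.range_subtype]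
  · rintro _ ⟨a, ha, rfl⟩ _ ⟨b, hb, rfl⟩
    rw [← map_mul, H69.zOf_comm a ha b hb, map_mul]
  · rintro _ ⟨a, ha, rfl⟩
    rw [← map_pow, h.el a ((r.zOf_G_le h.hc).trans (r.zOf_le h.hc) ha), map_one]

end Cfsg.Agent.S2766
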