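import Cfsg.Statements.S2768
import Cfsg.Agent.H69.Baumann

set_option autoImplicit false
open Cfsg

namespace Cfsg.Agent.S2768

/-- Let G be a finite group and p a prime with C_G(O_p(G)) ≤ O_p(G), such that a Sylow p-subgroup S lies in exactly one maximal subgroup of G and G/K ≅ PSL₂(p^n) for some normal K and n ≥ 1. Put J̃(S) = C_S(Z(J(S))), where J(S) is generated by the abelian subgroups of S of largest order. If Z(S) is not normal in G, then J̃(S) is a Sylow p-subgroup of its normal closure ⟨J̃(S)^G⟩. -/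
theorem result {G : Type*} [Group G] [Finite G] {p : ℕ} [Fact p.Prime] (S : Sylow p G) (hE₁ : Subgroup.centralizer (Cfsg.pCore p G : Set G) ≤ Cfsg.pCore p G) (hE₂ : ∃! M : Subgroup G, IsCoatom M ∧ (S : Subgroup G) ≤ M) (K : Subgroup G) [K.Normal] (F : Type) [Field F] [Fintype F] (n : ℕ) (hn : 1 ≤ n) (hF : Fintype.card F = p ^ n) (hE₃ : Nonempty (G ⧸ K ≃* Matrix.ProjectiveSpecialLinearGroup (Fin 2) F)) (hZ : ¬ ((S : Subgroup G) ⊓ Subgroup.centralizer ((S : Subgroup G) : Set G)).Normal) : ∃ P : Sylow p ↥(Subgroup.normalClosure (((S : Subgroup G) ⊓ Subgroup.centralizer (Cfsg.centerThompsonAOf (S : Subgroup G) : Set G)) : Set G)), (P : Subgroup ↥(Subgroup.normalClosure (((S : Subgroup G) ⊓ Subgroup.centralizer (Cfsg.centerThompsonAOf (S : Subgroup G) : Set G)) : Set G))) = (((S : Subgroup G) ⊓ Subgroup.centralizer (Cfsg.centerThompsonAOf (S : Subgroup G) : Set G))).subgroupOf (Subgroup.normalClosure (((S : Subgroup G) ⊓ Subgroup.centralizer (Cfsg.centerThompsonAOf (S : Subgroup G) : Set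 G)) : Set G)) := by
  open Cfsg.Agent.H69 Subgroup in
  obtain ⟨M, h⟩ := rankOne_of_psl' S hE₂ K hn hF hE₃
  have hc : ⊤ ⊓ Subgroup.centralizer (pCore p G : Set G) ≤ pCore p G := inf_le_right.trans hE₁
  have hn' : ¬ H69.zOf (S : Subgroup G) ≤ Subgroup.centralizer ((⊤ : Subgroup G) : Set G) :=
    fun e => hZ (H69.normal_of_le_centralizer_top e)
  rw [H23.centerThompsonAOf_eq]
  set B := (S : Subgroup G) ⊓ Subgroup.centralizer (H23.zj 0 (S : Subgroup G) : Set G) with hB
  have key : (S : Subgroup G) ⊓ Subgroup.normalClosure (B : Set G) = B := by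
    refine le_antisymm ?_ (le_inf inf_le_left Subgroup.le_normalClosure)
    by_cases hA : ∀ A ∈ H23.maxAb 0 (S : Subgroup G), A ≤ pCore p G
    · have := h.baumann_normal hc hn' hA
      exact inf_le_right.trans (Subgroup.normalClosure_le_normal (N := B) fun _ hx => hx)
    · push Not at hA
      obtain ⟨A, hA, hAQ⟩ := hA
      obtain ⟨N⟩ := h.natSec_of_maxAb hc hn' hA hAQ F rfl
      obtain ⟨Y₀, h1, -, -, h2, -⟩ := N.baumann h rfl hc hA hAQ
      refine le_inf inf_le_left (Subgroup.le_centralizer_iff.1 (h1.trans (sup_le ?_ ?_)))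
      · exact Subgroup.le_centralizer_iff.1 (inf_le_right.trans h2)
      · exact inf_le_right.trans (Subgroup.centralizer_le (inf_le_left : _ ≤ (S : Subgroup G)))
  have := (H69.sylOf_top S).inf_normal (N := Subgroup.normalClosure (B : Set G)) le_top
    Subgroup.le_normalizer_of_normal
  rw [key] at this
  exact ⟨this.toSylow, rfl⟩

end Cfsg.Agent.S2768
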