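import Cfsg.Statements.S2773
import Cfsg.Agent.H69.TR4

set_option autoImplicit false
universe u
open Cfsg

namespace Cfsg.Agent.S2773

open Subgroup Cfsg.Agent.H69

/-- For every nontrivial finite 3-group S there is a nontrivial characteristic subgroup K of S such that, in every finite group G containing S as a Sylow 3-subgroup, S ∩ G' is the product of S ∩ (C_G(Z(S)))' and S ∩ (N_G(K))' (derived subgroups; product taken elementwise). -/
theorem result {S : Type u} [Group S] [Finite S] [Nontrivial S] (hS : IsPGroup 3 S) : ∃ K : Subgroup S, K ≠ ⊥ ∧ K.Characteristic ∧ ∀ (G : Type u) [Group G] [Finite G] (τ : S →* G), Function.Injective τ → (∃ P : Sylow 3 G, (P : Subgroup G) = τ.range) → ∀ g : G, g ∈ τ.range ⊓ commutator G ↔ ∃ a ∈ τ.range ⊓ ⁅Subgroup.centralizer ((τ.range ⊓ Subgroup.centralizer (τ.range : Set G) : Subgroup G) : Set G), Subgroup.centralizer ((τ.range ⊓ Subgroup.centralizer (τ.range : Set G) : Subgroup G) : Set G)⁆, ∃ b ∈ τ.range ⊓ ⁅Subgroup.normalizer ((K.map τ : Subgroup G) : Set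 G), Subgroup.normalizer ((K.map τ : Subgroup G) : Set G)⁆, g = a * b := by
  have : Fact (Nat.Prime 3) := ⟨Nat.prime_three⟩
  refine ⟨KTwo 3 S, kTwo_char.1 S hS inferInstance, char_of_functor kTwo_char hS,
    fun G _ _ τ hτ ⟨P, hP⟩ g => ⟨fun hg => ?_, ?_⟩⟩
  · have h := sylOf_top P
    rw [hP] at h
    have e : inducedFunctor (KTwo 3) τ.range = (KTwo 3 S).map τ := by
      rw [inducedFunctor, ← kTwo_char.2 S _ hS (MonoidHom.ofInjective hτ), map_map]
      rfl
    have h1 := inf_der_le_pair (by norm_num) h hg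
    rw [e] at h1
    obtain ⟨a, ha, b, hb, rfl⟩ := (mem_sup_of_le_normalizer' (inf_le_left.trans
      (le_normalizer_inf le_normalizer (le_normalizer_commutator
        ((le_centralizer_zOf _).trans le_normalizer)
        ((le_centralizer_zOf _).trans le_normalizer))))).1 h1
    exact ⟨a, ha, b, hb, rfl⟩
  · rintro ⟨a, ha, b, hb, rfl⟩
    exact mul_mem ⟨ha.1, commutator_mono le_top le_top ha.2⟩
      ⟨hb.1, commutator_mono le_top le_top hb.2⟩

end Cfsg.Agent.S2773
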