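import Cfsg.Statements.S2794
import Cfsg.Agent.H60.ZJFusion
import Cfsg.Agent.H60.QdSylow

set_option autoImplicit false
open Cfsg

namespace Cfsg.Agent.S2794

/-- For an odd prime p and a finite group G, the group Qd(p) is not involved in G if and only if in every section K/R of G, for every Sylow p-subgroup S* of K/R, the centre of J(S*) (J generated by the abelian subgroups of largest order) controls strong fusion in K/R. -/
theorem result {G : Type*} [Group G] [Finite G] {p : ℕ} [Fact p.Prime] (hp : p ≠ 2) : ¬ Cfsg.Involves ↥(Cfsg.qd p) G ↔ ∀ (K R : Subgroup G) [hR : (R.subgroupOf K).Normal], ∀ T : Sylow p (K ⧸ R.subgroupOf K), Cfsg.ControlsStrongFusion p (Cfsg.centerThompsonAOf (T : Subgroup (K ⧸ R.subgroupOf K))) := by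
  constructor
  · intro h K R _ T
    refine ⟨T, ?_, H60.zj_controls_of_not_involves hp
      (fun h' => h (H62.inv_trans h' (H62.inv_sec K R))) T⟩
    rw [H23.centerThompsonAOf_eq]
    exact H23.zj_le 0 _
  · rintro h ⟨K, R, hR, ⟨e⟩⟩
    obtain ⟨T⟩ := (inferInstance : Nonempty (Sylow p (K ⧸ R.subgroupOf K)))
    have h1 := h K R T
    rw [← H60.inducedFunctor_zjF] at h1
    haveI := H60.characteristic_of_isCharPFunctor (H60.isCharPFunctor_zjF p) T.isPGroup'
    refine H60.not_controlsStrongFusion_of_qd e T _ ((H60.isCharPFunctor_zjF p).1 _ T.isPGroup' ?_) h1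
    obtain ⟨ψ, hψ⟩ := H60.exists_equiv_map_eq_qdS e T
    rw [Subgroup.nontrivial_iff_ne_bot]
    intro hT
    rw [hT, Subgroup.map_bot] at hψ
    have h2 : H60.heis (1 : ZMod p) 0 0 ∈ (⊥ : Subgroup (qd p)) := hψ ▸ H60.heis_mem 1 0 0
    rw [Subgroup.mem_bot, ← H60.heis_zero, H60.heis_inj] at h2
    exact one_ne_zero h2.1

end Cfsg.Agent.S2794
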