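import Cfsg.Statements.S2804
import Cfsg.Agent.H70.YL

set_option autoImplicit false
open Cfsg

namespace Cfsg.Agent.S2804

open Subgroup Cfsg.Agent.H70 Cfsg.Agent.H92
open scoped commutatorElement

/-- Let L be a finite group and p a prime with C_L(O_p(L)) ≤ O_p(L), V a p-reduced normal subgroup of L and K a subnormal subgroup of L. Then [V, O^p(K)] is contained in K and is a p-reduced normal subgroup of K, where O^p(K) is the subgroup of K generated by its elements of order prime to p. -/
theorem result {L : Type*} [Group L] [Finite L] {p : ℕ} [Fact p.Prime] (hchar : Subgroup.centralizer (Cfsg.pCore p L : Set L) ≤ Cfsg.pCore p L) (V : Subgroup L) (hV : Cfsg.IsPReducedNormal p V) (K : Subgroup L) (hK : K.IsSubnormal) : ⁅V, (Cfsg.pResidual p ↥K).map K.subtype⁆ ≤ K ∧ Cfsg.IsPReducedNormal p ((⁅V, (Cfsg.pResidual p ↥K).map K.subtype⁆).subgroupOf K) := by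
  rw [pRes_def]
  have hV' := pRed_top_iff.2 hV
  have hs := subn_top_iff.2 hK
  have h1 : ⁅V, pResidualOf p K⁆ ≤ K :=
    (commutator_le_right_of_norm (hV'.le_pCoreOf.trans hs.pCoreOf_le_norm_pRes)).trans (pRes_le K)
  have h2 : ⁅V, pResidualOf p K⁆ ≤ V := commutator_le_left_of_norm (le_top.trans hV'.norm)
  refine ⟨h1, (pRed_iff h1).1 ⟨h1, norm_commutator (le_top.trans hV'.norm) (le_norm_pRes K),
    IsElem_of_le hV'.elem h2, fun E hE hn hr => ?_⟩⟩
  refine (hV'.red.subn (norm_centralizer hV'.norm) (.step hE hn hs) ?_).trans (cent_anti h2)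
  rw [← pRes_pRes]
  exact pRes_le_cent_of_step (hV'.isPGroup.to_le h2) (commutator_mono le_rfl (pRes_mono hE)) hr

end Cfsg.Agent.S2804
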