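import Cfsg.Statements.S2806
import Cfsg.Agent.H70.Wielandt

set_option autoImplicit false
open Cfsg

namespace Cfsg.Agent.S2806

open Subgroup Cfsg.Agent.H70 Cfsg.Agent.H92
open scoped commutatorElement

/-- Let H be a finite group of local characteristic p, T a Sylow p-subgroup, and L₁, L₂ subnormal subgroups of H generating the subgroup L. Then the point stabilizer of L with respect to T ∩ L is generated by the point stabilizers of L₁ and L₂ with respect to T ∩ L₁ and T ∩ L₂ (point stabilizer of X w.r.t. R: the subgroup generated by the p-elements of X centralizing Ω₁(Z(R))). -/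
theorem result {H : Type*} [Group H] [Finite H] {p : ℕ} [Fact p.Prime] (hH : Cfsg.IsOfLocalCharacteristic p H) (T : Sylow p H) (L₁ L₂ : Subgroup H) (h₁ : L₁.IsSubnormal) (h₂ : L₂.IsSubnormal) : Cfsg.pointStabilizer p (L₁ ⊔ L₂) ((T : Subgroup H) ⊓ (L₁ ⊔ L₂)) = Cfsg.pointStabilizer p L₁ ((T : Subgroup H) ⊓ L₁) ⊔ Cfsg.pointStabilizer p L₂ ((T : Subgroup H) ⊓ L₂) := by
  have key : ∀ L : Subgroup H, Subn L ⊤ → pointStabilizer p L ((T : Subgroup H) ⊓ L) =
      pElementClosure p (L ⊓ centralizer (omegaOneCenter p (T : Subgroup H) : Set H)) := by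
    intro L hL
    rw [pointStab_eq]
    by_cases h : (T : Subgroup H) ⊓ L = ⊥
    · have h1 : pElementClosure p L = ⊥ := by
        rw [pCl_eq_ncl (sylIn_inf_subn (sylIn_top T) hL), h, ncl_eq_self norm_of_normal]
      rw [le_bot_iff.1 ((pCl_mono inf_le_left).trans h1.le),
        le_bot_iff.1 ((pCl_mono inf_le_left).trans h1.le)]
    · rw [kieler_local (fun R _ hR hne => by
        rw [top_inf_eq]; exact isChar_iff.2 (hH.2 R hR hne)) (sylIn_top T) hL h]
  have hs₁ := subn_top_iff.2 h₁
  have hs₂ := subn_top_iff.2 h₂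
  have hs := hs₁.sup hs₂
  rw [key _ hs, key _ hs₁, key _ hs₂]
  refine le_antisymm ?_ (sup_le (pCl_mono (inf_le_inf_right _ le_sup_left))
    (pCl_mono (inf_le_inf_right _ le_sup_right)))
  have hT := sylIn_inf_subn (sylIn_top T) hs
  rw [pCl_eq_ncl (hT.mono (le_inf inf_le_right (inf_le_left.trans (le_cent_oz _))) inf_le_left)]
  refine ncl_le_iff.2 fun g hg => ?_
  have h1 : cj g (T : Subgroup H) ≤ centralizer (omegaOneCenter p (T : Subgroup H) : Set H) :=
    cj_le_of_mem hg.2 (le_cent_oz _)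
  have h2 := sylIn_cj_of_mem (sylIn_top T) (mem_top g)
  rw [cj_inf, cj_eq_self_of_mem hg.1, wielandt hs₁ hs₂ h2]
  exact sup_le_sup (le_pCl (le_inf inf_le_right (inf_le_left.trans h1)) h2.pgroup.to_inf_left)
    (le_pCl (le_inf inf_le_right (inf_le_left.trans h1)) h2.pgroup.to_inf_left)

end Cfsg.Agent.S2806
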