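import Cfsg.Statements.S2808
import Cfsg.Agent.H69.GN6

set_option autoImplicit false
universe u
open Cfsg

namespace Cfsg.Agent.S2808

open Subgroup Cfsg.Agent.H69


/-- Let p be a prime and S a finite p-group with J(S) generated by the abelian subgroups of largest order, Z(J(S)) its centre and J̃(S) = C_S(Z(J(S))). Put S₀ = [Φ(S), S]·Φ(Φ(S)) if p = 2, S₀ = [[Φ(S), S], S]·Φ(Φ(S)) if p = 3, and S₀ = [Φ(S), S]·℧¹(S) if p > 3. If [Z(J(S)), S] ≠ 1 or S₀ ≠ 1, then S has nontrivial characteristic subgroups S₁ ≤ Z(S) and S₂ ≤ J̃(S), with S₂ characteristic in J̃(S), such that in every finite group G containing S as a Sylow p-subgroup with C_G(O_p(G)) ≤ O_p(G), S in exactly one maximal subgroup of G, and G/K ≅ PSL₂(p^n) for some normal K and n ≥ 1, at least one of S₁, S₂ is normal. -/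
theorem result {S : Type u} [Group S] [Finite S] {p : ℕ} [Fact p.Prime] (hS : IsPGroup p S) (S₀ : Subgroup S) (hS₀ : S₀ = if p = 2 then ⁅frattini S, (⊤ : Subgroup S)⁆ ⊔ (frattini ↥(frattini S)).map (frattini S).subtype else if p = 3 then ⁅⁅frattini S, (⊤ : Subgroup S)⁆, (⊤ : Subgroup S)⁆ ⊔ (frattini ↥(frattini S)).map (frattini S).subtype else ⁅frattini S, (⊤ : Subgroup S)⁆ ⊔ Cfsg.powerClosure p 1 (⊤ : Subgroup S)) (h : ⁅Cfsg.thompsonSubgroupA S ⊓ Subgroup.centralizer (Cfsg.thompsonSubgroupA S : Set S), (⊤ : Subgroup S)⁆ ≠ ⊥ ∨ S₀ ≠ ⊥) : ∃ S₁ S₂ : Subgroup S, S₁ ≠ ⊥ ∧ S₂ ≠ ⊥ ∧ S₁.Characteristic ∧ S₂.Characteristic ∧ S₁ ≤ Subgroup.center S ∧ S₂ ≤ Subgroup.centralizer ((Cfsg.thompsonSubgroupA S ⊓ Subgroup.centralizer (Cfsg.thompsonSubgroupA S : Set S) : Subgroup S) : Set S) ∧ (S₂.subgroupOf (Subgroup.centralizer ((Cfsg.thompsonSubgroupA S ⊓ Subgroup.centralizer (Cfsg.thompsonSubgroupA S : Set S) : Subgroup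 S) : Set S))).Characteristic ∧ ∀ (G : Type u) [Group G] [Finite G] (τ : S →* G), Function.Injective τ → (∃ P : Sylow p G, (P : Subgroup G) = τ.range) → Subgroup.centralizer (Cfsg.pCore p G : Set G) ≤ Cfsg.pCore p G → (∃! M : Subgroup G, IsCoatom M ∧ τ.range ≤ M) → (∃ (K : Subgroup G) (_ : K.Normal) (F : Type) (_ : Field F) (_ : Fintype F) (n : ℕ), 1 ≤ n ∧ Fintype.card F = p ^ n ∧ Nonempty (G ⧸ K ≃* Matrix.ProjectiveSpecialLinearGroup (Fin 2) F)) → (S₁.map τ).Normal ∨ (S₂.map τ).Normal := by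
  have key : ∀ S₁ S₂ : Subgroup S, GNPair p S₁ S₂ → _ := fun S₁ S₂ ⟨a1, a2, a3, a4, a5, a6, a7, a8⟩ =>
    And.intro a1 (And.intro a2 (And.intro a3 (And.intro a4 (And.intro a5 (And.intro a6 (And.intro a7
      fun (G : Type u) [Group G] [Finite G] (τ : S →* G) (hτ : Function.Injective τ)
        (h1 : ∃ P : Sylow p G, (P : Subgroup G) = τ.range)
        (h2 : Subgroup.centralizer (Cfsg.pCore p G : Set G) ≤ Cfsg.pCore p G)
        (h3 : ∃! M : Subgroup G, IsCoatom M ∧ τ.range ≤ M)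
        (h4 : ∃ (K : Subgroup G) (_ : K.Normal) (F : Type) (_ : Field F) (_ : Fintype F) (n : ℕ),
          1 ≤ n ∧ Fintype.card F = p ^ n ∧
            Nonempty (G ⧸ K ≃* Matrix.ProjectiveSpecialLinearGroup (Fin 2) F)) =>
      a8 G τ (pe_of_situation hτ ⟨fun e => let ⟨M, hM, _⟩ := h3; hM.1.1 (top_le_iff.1 (e.le.trans bot_le)),
        h1, h2, h3, let ⟨K, a, F, b, c, n, _, d⟩ := h4; ⟨K, a, F, b, c, n, d⟩⟩)))))))
  have : Nontrivial S := by
    rcases h with h | h <;> exact (nontrivial_iff (G := S)).1 ⟨_, _, h⟩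
  rcases gn_master hS with ⟨hJ, -, -, -, -, s1, s2, s3, s4⟩ | ⟨S₁, S₂, h1, -⟩
  · exfalso
    rcases h with h | h
    · exact h (commutator_eq_bot_iff_le_centralizer.2 (le_centralizer_iff.1 hJ.ge))
    refine h (le_bot_iff.1 ?_)
    rw [hS₀, map_frattini_eq (hS.to_subgroup _), frattini_eq_Phi hS]
    split_ifs with h2 h3
    · exact sup_le (s3 (by omega)) s1
    · exact sup_le s2 s1
    · have h4 := (Fact.out : p.Prime).two_le
      refine sup_le (s3 h3) ((closure_le _).2 ?_)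
      rintro _ ⟨x, hx, rfl⟩
      rw [pow_one]
      exact pows_le_iff.1 (s4 (by omega)) x hx
  · exact ⟨S₁, S₂, key S₁ S₂ h1⟩

end Cfsg.Agent.S2808
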