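import Cfsg.Statements.S2810
import Cfsg.Agent.H70.CharP

set_option autoImplicit false
open Cfsg

namespace Cfsg.Agent.S2810

open Subgroup Cfsg.Agent.H70 Cfsg.Agent.H92
open scoped commutatorElement

/-- Let H be a finite group of characteristic p and L a subgroup of H centralizing every factor of some H-invariant chain 1 = A₀ ≤ A₁ ≤ … ≤ Aₙ = O_p(H) of normal subgroups (that is, [A_{i+1}, L] ≤ Aᵢ for each i). Then L ≤ O_p(H). -/
theorem result {H : Type*} [Group H] [Finite H] {p : ℕ} [Fact p.Prime] (hchar : Subgroup.centralizer (Cfsg.pCore p H : Set H) ≤ Cfsg.pCore p H) (L : Subgroup H) (n : ℕ) (A : Fin (n + 1) → Subgroup H) (h0 : A 0 = ⊥) (hn : A (Fin.last n) = Cfsg.pCore p H) (hmono : Monotone A) (hnorm : ∀ i, (A i).Normal) (hcent : ∀ i : Fin n, ⁅A i.succ, L⁆ ≤ A i.castSucc) : L ≤ Cfsg.pCore p H := by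
  have hL : IsChar p (⊤ : Subgroup H) := isChar_top_iff.2 hchar
  have hAp : ∀ i, IsPGroup p (A i) := fun i =>
    pCore_isPGroup.to_le ((hmono (Fin.le_last i)).trans hn.le)
  have key : ∀ K : Subgroup H, (∀ i : Fin n, ⁅A i.succ, K⁆ ≤ A i.castSucc) → IsPGroup p K := by
    intro K hK
    refine hL.isPGroup_of_pRes_le_cent le_top ?_
    have h1 : ∀ i, pResidualOf p K ≤ centralizer (A i : Set H) := by
      intro i
      induction i using Fin.induction with
      | zero => rw [h0, ← cent_comm]; exact bot_le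
      | succ i ih =>
        rw [← pRes_pRes]
        exact pRes_le_cent_of_step (hAp _) ((commutator_mono le_rfl (pRes_le K)).trans (hK i)) ih
    rw [pCoreOf_top, ← hn]; exact h1 _
  refine (le_ncl L ⊤).trans (le_pCore (normal_of_top_le_norm (le_norm_ncl L ⊤)) (key _ fun i => ?_))
  have := hnorm i.succ
  have := hnorm i.castSucc
  rw [commutator_comm]
  exact comm_ncl_le norm_of_normal norm_of_normal norm_of_normal
    (by rw [commutator_comm]; exact hcent i)

end Cfsg.Agent.S2810
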