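import Cfsg.Statements.S2813
import Cfsg.Agent.H70.CharP

set_option autoImplicit false
open Cfsg

namespace Cfsg.Agent.S2813

open Subgroup Cfsg.Agent.H70 Cfsg.Agent.H92
open scoped commutatorElement

/-- Let K be a subgroup of the finite group H with O_p(K) = 1 and Y a p-subgroup of N_H(K) with [K, Y, Y] = 1. Then [K, Y] = 1. -/
theorem result {H : Type*} [Group H] [Finite H] {p : ℕ} [Fact p.Prime] (K : Subgroup H) (hO : Cfsg.pCore p ↥K = ⊥) (Y : Subgroup H) (hY : IsPGroup p ↥Y) (hYK : Y ≤ Subgroup.normalizer (K : Set H)) (hq : ⁅⁅K, Y⁆, Y⁆ = ⊥) : ⁅K, Y⁆ = ⊥ := by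
  have h1 : ⁅K, Y⁆ ≤ K := commutator_le_left_of_norm hYK
  have h2 : K ≤ normalizer ((⁅K, Y⁆ : Subgroup H) : Set H) := normalizer_commutator_ge_left _ _
  have h3 : ⁅K, Y⁆ ≤ centralizer (Y : Set H) := comm_eq_bot_iff.1 hq
  have h4 : Y ≤ pCoreOf p (ncl Y K) := by
    refine le_pCoreOf (le_ncl Y K) ?_ hY
    rw [ncl_eq_sup_comm, commutator_comm]
    exact sup_le le_normalizer (norm_of_cent h3)
  have h5 : ⁅K, Y⁆ ≤ pCoreOf p (ncl Y K) :=
    (commutator_mono le_rfl h4).trans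
      (commutator_le_right_of_norm (norm_pCoreOf (le_norm_ncl Y K)))
  have h6 := le_pCoreOf h1 h2 ((pCoreOf_isPGroup _).to_le h5)
  rwa [pCoreOf_eq_bot_iff.2 hO, le_bot_iff] at h6

end Cfsg.Agent.S2813
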