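import Cfsg.Statements.S2814
import Cfsg.Agent.H70.YL2

set_option autoImplicit false
open Cfsg

namespace Cfsg.Agent.S2814

open Subgroup Cfsg.Agent.H70 Cfsg.Agent.H92
open scoped commutatorElement

/-- Let A be a subgroup of the finite group H and K the subnormal closure of A (intersection of the subnormal subgroups containing A). Then K is the normal closure of A inside K and N_H(A) ≤ N_H(K); K = A·O^p(K), O^p(K) being generated by the elements of K of order prime to p; and if A is a p-group, O^p(K) = [O^p(K), A]. -/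
theorem result {H : Type*} [Group H] [Finite H] {p : ℕ} [Fact p.Prime] (A : Subgroup H) (K : Subgroup H) (hK : K = Cfsg.subnormalClosure A) : (Subgroup.normalClosure ((A.subgroupOf K : Subgroup ↥K) : Set ↥K)).map K.subtype = K ∧ Subgroup.normalizer (A : Set H) ≤ Subgroup.normalizer (K : Set H) ∧ A ⊔ (Cfsg.pResidual p ↥K).map K.subtype = K ∧ (IsPGroup p ↥A → ⁅(Cfsg.pResidual p ↥K).map K.subtype, A⁆ = (Cfsg.pResidual p ↥K).map K.subtype) := by
  obtain ⟨K₀, ⟨h1, h2⟩, hmin⟩ := Finite.to_wellFoundedLT.wf.has_min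
    {K : Subgroup H | A ≤ K ∧ Subn K ⊤} ⟨⊤, le_top, .refl _⟩
  have h3 : ∀ X, A ≤ X → Subn X ⊤ → K₀ ≤ X := fun X hX hs => by
    by_contra hne
    exact hmin _ ⟨le_inf h1 hX, h2.inf hs⟩ (inf_lt_left.2 hne)
  have e : K = K₀ := hK.trans (le_antisymm (sInf_le ⟨h1, subn_top_iff.1 h2⟩)
    (le_sInf fun X hX => h3 X hX.1 (subn_top_iff.2 hX.2)))
  subst e
  rw [map_normalClosure_subgroupOf h1, pRes_def]
  have h4 : ncl A K = K := le_antisymm (ncl_le_of_le h1)
    (h3 _ (le_ncl A K) (.step (ncl_le_of_le h1) (le_norm_ncl A K) h2))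
  have h5 : A ⊔ pResidualOf p K = K := le_antisymm (sup_le h1 (pRes_le K))
    (h3 _ le_sup_left ((subn_of_pRes_le le_sup_right (sup_le h1 (pRes_le K))).trans h2))
  refine ⟨h4, fun g hg => ?_, h5, fun hA => ?_⟩
  · refine inv_mem_iff.1 (mem_normalizer_of_cj_le (le_cj_iff.1 (h3 _ ?_ ?_)))
    · rw [← cj_eq_self hg]; exact cj_mono g h1
    · simpa using h2.cj g
  · refine le_antisymm (commutator_le_left_of_norm (h1.trans (le_norm_pRes K))) ?_
    have h6 : ncl A K = ncl A (pResidualOf p K) :=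
      ncl_eq_of_factor (pRes_le K) le_normalizer fun g hg =>
        (mem_sup_of_norm' (h1.trans (le_norm_pRes K))).1 ((sup_comm _ _).trans h5 |>.ge hg)
    rw [h4, ncl_eq_sup_comm, sup_comm, commutator_comm] at h6
    exact (pRes_mono h6.le).trans (pRes_sup_le_of_isPGroup hA (normalizer_commutator_ge_right _ _))

end Cfsg.Agent.S2814
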