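import Cfsg.Statements.S2815
import Cfsg.Agent.H70.FStar
import Cfsg.Agent.H70.MinOver

set_option autoImplicit false
open Cfsg

namespace Cfsg.Agent.S2815

open Subgroup Cfsg.Agent.H70 Cfsg.Agent.H92
open scoped commutatorElement

/-- Let H be a finite group and p a prime dividing its order with O_p(H) = 1, and suppose K = O^p(H) (generated by the elements of order prime to p) is quasisimple. Then K = F*(H); for every nontrivial p-subgroup Y of H, K = [K, Y] and K lies in the subgroup generated by the K-conjugates of Y; every normal subgroup of H not containing K has order prime to p; and H is p-irreducible. -/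
theorem result {H : Type*} [Group H] [Finite H] {p : ℕ} [Fact p.Prime] (hp : p ∣ Nat.card H) (hO : Cfsg.pCore p H = ⊥) (hq : Cfsg.IsQuasisimple ↥(Cfsg.pResidual p H)) : Cfsg.pResidual p H = Cfsg.generalizedFittingSubgroup H ∧ (∀ Y : Subgroup H, IsPGroup p ↥Y → Y ≠ ⊥ → ⁅Cfsg.pResidual p H, Y⁆ = Cfsg.pResidual p H ∧ Cfsg.pResidual p H ≤ ⨆ k : ↥(Cfsg.pResidual p H), Y.map (MulAut.conj (k : H)).toMonoidHom) ∧ (∀ C : Subgroup H, C.Normal → ¬ Cfsg.pResidual p H ≤ C → (Nat.card ↥C).Coprime p) ∧ Cfsg.IsPIrreducible p H := by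
  have hO' : pCoreOf p (⊤ : Subgroup H) = ⊥ := pCoreOf_top.trans hO
  have hK : H44.Comp ⊤ (pResidual p H) := ⟨.of_normal le_top, H44.qs_iff.2 hq⟩
  have h1 : pResidual p H = H44.FSof ⊤ := le_antisymm (hK.le_Eof.trans (H44.Eof_le_FSof _)) (by
    rw [← pRes_eq_of_le_FSof hO' le_rfl (subn_FSof ⊤), ← pRes_top]; exact pRes_mono le_top)
  have h2 : ∀ C : Subgroup H, C.Normal → ¬ pResidual p H ≤ C → (Nat.card C).Coprime p := by
    intro C hC h
    refine coprime_of_forall fun P hP hPp => eq_bot_of_cent_FSof hO' hPp le_top (hP.trans ?_)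
    rw [← h1]
    exact comm_eq_bot_iff'.1 ((hK.le_or_commutator_eq_bot (.of_normal le_top)).resolve_left h)
  refine ⟨h1.trans H44.FSof_top, fun Y hY hne => ?_, h2, fun hc => ?_, fun N hN hc => ?_⟩
  · have h3 := (hK.qs.commutator_eq_or (norm_of_normal (L := Y))).resolve_right fun h =>
      hne (eq_bot_of_cent_FSof hO' hY le_top (h1 ▸ comm_eq_bot_iff'.1 h))
    refine ⟨h3, h3.ge.trans ?_⟩
    rw [commutator_comm]
    exact comm_le_ncl Y _
  · have h3 := coprime_of_sylIn_bot (hO' ▸ isPClosed_iff_sylIn.1 (isPClosed_top_iff.2 hc))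
    rw [card_top] at h3
    exact H44.coprime_iff_not_dvd.1 h3 hp
  · by_contra h
    exact hc (isPClosed_iff.2 fun R hR hRp => (eq_bot_of_le_coprime (h2 N hN h) hRp hR).le.trans
      bot_le)

end Cfsg.Agent.S2815
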