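import Cfsg.Statements.S2816
import Cfsg.Agent.H70.FStar

set_option autoImplicit false
open Cfsg

namespace Cfsg.Agent.S2816

open Subgroup Cfsg.Agent.H70 Cfsg.Agent.H92
open scoped commutatorElement

/-- Let H be a finite group and p a prime with O_p(H) = 1, and Y a p-subgroup of H. Then for every subnormal subgroup K of H containing Y, [F*(H), Y] = [F*(K), Y] = [F*(K), Y, Y]; and if Y₀ ≤ Y with [F*(H), Y, Y₀] = 1 then Y₀ = 1 (in particular [F*(H), Y] = 1 forces Y = 1). -/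
theorem result {H : Type*} [Group H] [Finite H] {p : ℕ} [Fact p.Prime] (hO : Cfsg.pCore p H = ⊥) (Y : Subgroup H) (hY : IsPGroup p ↥Y) : (∀ K : Subgroup H, K.IsSubnormal → Y ≤ K → ⁅Cfsg.generalizedFittingSubgroup H, Y⁆ = ⁅(Cfsg.generalizedFittingSubgroup ↥K).map K.subtype, Y⁆ ∧ ⁅(Cfsg.generalizedFittingSubgroup ↥K).map K.subtype, Y⁆ = ⁅⁅(Cfsg.generalizedFittingSubgroup ↥K).map K.subtype, Y⁆, Y⁆) ∧ (∀ Y₀ : Subgroup H, Y₀ ≤ Y → ⁅⁅Cfsg.generalizedFittingSubgroup H, Y⁆, Y₀⁆ = ⊥ → Y₀ = ⊥) := by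
  have hO' : pCoreOf p (⊤ : Subgroup H) = ⊥ := pCoreOf_top.trans hO
  rw [← H44.FSof_top]
  refine ⟨fun K hK hYK => ?_, fun Y₀ h0 h => eq_bot_of_comm_comm_FSof hO' hY le_top h0 h⟩
  have hs := subn_top_iff.2 hK
  have h1 := comm_comm_of_le_FSof hO' le_rfl (subn_FSof ⊤) hY
    (le_top.trans (H44.le_normalizer_FSof ⊤))
  have h2 : ⁅H44.FSof (⊤ : Subgroup H), Y⁆ ≤ H44.FSof K := by
    rw [H44.FSof_eq_inf_of_sn hs.sn]
    exact le_inf (commutator_le_left_of_norm (le_top.trans (H44.le_normalizer_FSof ⊤)))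
      (hs.le_of_le_comm le_top hYK h1.ge)
  have h3 : ⁅H44.FSof (⊤ : Subgroup H), Y⁆ = ⁅H44.FSof K, Y⁆ :=
    le_antisymm (h1.ge.trans (commutator_mono h2 le_rfl))
      (commutator_mono (H44.FSof_le_FSof_of_sn hs.sn) le_rfl)
  exact ⟨h3, by rw [← h3, h1]⟩

end Cfsg.Agent.S2816
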