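import Cfsg.Statements.S2818
import Cfsg.Agent.H70.CharP
import Cfsg.Agent.H3.PGroup

set_option autoImplicit false
open Cfsg

namespace Cfsg.Agent.S2818

open Subgroup Cfsg.Agent.H70 Cfsg.Agent.H92
open scoped commutatorElement

/-- Let P be a finite p-subgroup of a group G and H a subgroup of N_G(P) with [P, H] ≤ Ω₁(Z(P)) (the elements of order dividing p in the centre of P). Then H centralizes the Frattini subgroup of P. -/
theorem result {G : Type*} [Group G] [Finite G] {p : ℕ} [Fact p.Prime] (P : Subgroup G) (hP : IsPGroup p ↥P) (H : Subgroup G) (hH : H ≤ Subgroup.normalizer (P : Set G)) (h : ⁅P, H⁆ ≤ Cfsg.omegaOne p (P ⊓ Subgroup.centralizer (P : Set G))) : ⁅(frattini ↥P).map P.subtype, H⁆ = ⊥ := by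
  rw [oz_def] at h
  have h1 : ⁅⁅P, H⁆, P⁆ = ⊥ := comm_eq_bot_iff.2 (h.trans (oz_le_cent P))
  rw [comm_eq_bot_iff, H3.map_frattini_le_iff hP]
  refine ⟨comm_le_bot_iff.1 (three_subgroups norm_of_normal norm_of_normal norm_of_normal h1.le
    (by rw [commutator_comm H]; exact h1.le)), fun x hx => mem_centralizer_iff.2 fun y hy => ?_⟩
  have h2 := h (commutator_mem_commutator hx hy)
  have h3 : ⁅x, y⁆ ^ p = 1 := pow_eq_one_of_mem_omegaOne (inf_cent_le_cent P) h2
  have h4 : Commute ⁅x, y⁆ (y * x * y⁻¹) :=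
    (mem_centralizer_iff.1 (oz_le_cent P h2) _ (conj_mem_of_le_norm hH hy hx)).symm
  have h5 : x = ⁅x, y⁆ * (y * x * y⁻¹) := by rw [commutatorElement_def]; group
  have h6 : x ^ p = y * x ^ p * y⁻¹ := by
    conv_lhs => rw [h5, h4.mul_pow, h3, one_mul, conj_pow]
  conv_rhs => rw [h6]
  group

end Cfsg.Agent.S2818
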