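import Cfsg.Statements.S2819
import Cfsg.Agent.H70.YL2
import Cfsg.Agent.H3.PGroup

set_option autoImplicit false
open Cfsg

namespace Cfsg.Agent.S2819

open Subgroup Cfsg.Agent.H70 Cfsg.Agent.H92
open scoped commutatorElement

/-- Let P be a finite p-subgroup of a group G, H a subgroup of N_G(P), and Y a subgroup of H centralizing the derived subgroup P' such that [P, Y] is elementary abelian. Then O^p(⟨Y^H⟩), the subgroup of the normal closure of Y in H generated by its elements of order prime to p, centralizes the Frattini subgroup of P. -/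
theorem result {G : Type*} [Group G] [Finite G] {p : ℕ} [Fact p.Prime] (P : Subgroup G) (hP : IsPGroup p ↥P) (H : Subgroup G) (hH : H ≤ Subgroup.normalizer (P : Set G)) (Y : Subgroup G) (hYH : Y ≤ H) (hYc : Y ≤ Subgroup.centralizer ((⁅P, P⁆ : Subgroup G) : Set G)) (hel : Cfsg.IsElementaryAbelian p ⁅P, Y⁆) (NY : Subgroup G) (hNY : NY = (Subgroup.normalClosure ((Y.subgroupOf H : Subgroup ↥H) : Set ↥H)).map H.subtype) : (Cfsg.pResidual p ↥NY).map NY.subtype ≤ Subgroup.centralizer (((frattini ↥P).map P.subtype : Subgroup G) : Set G) := by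
  rw [map_normalClosure_subgroupOf hYH] at hNY
  rw [pRes_def, hNY]
  have hP' : H ≤ normalizer ((⁅P, P⁆ : Subgroup G) : Set G) := norm_commutator hH hH
  have hPP : P ≤ normalizer ((⁅P, P⁆ : Subgroup G) : Set G) := normalizer_commutator_ge_left _ _
  have hle : ⁅P, P⁆ ≤ P := commutator_le_left_of_norm le_normalizer
  refine pRes_le_cent_of_step (hP.to_le hle) ?_ (le_cent_ncl hP' (cent_comm.1 hYc) |> cent_comm.1)
  have h1 : ∀ g ∈ H, ⁅(frattini P).map P.subtype, cj g Y⁆ ≤ ⁅P, P⁆ := by
    intro g hg
    refine (le_relCent.1 ((H3.map_frattini_le_iff hP).2 ⟨le_relCent.2 ⟨le_normalizer,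
      commutator_le_left_of_norm ((cj_le_of_mem hg hYH).trans hP')⟩, fun x hx => ?_⟩)).2
    refine mem_relCent.2 ⟨hPP (pow_mem hx p), fun y hy => ?_⟩
    have h2 : ⁅x, y⁆ ^ p = 1 := by
      have h3 := IsElem_map (MulAut.conj g).toMonoidHom hel
      change IsElementaryAbelian p (cj g _) at h3
      rw [cj_commutator, cj_eq_self (hH hg)] at h3
      exact pow_eq_one_of_mem_omegaOne (IsElem_le_cent h3)
        (le_omegaOne h3 le_rfl (commutator_mem_commutator hx hy))
    have h4 := mul_pow_mod_comm hx
      (conj_mem_of_le_norm hH (cj_le_of_mem hg hYH hy) (inv_mem hx)) p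
    have h5 : x * (y * x⁻¹ * y⁻¹) = ⁅x, y⁆ := by rw [commutatorElement_def]; group
    rw [h5, h2, inv_one, mul_one, conj_pow] at h4
    convert h4 using 1
    rw [commutatorElement_def]; group
  rw [commutator_comm]
  exact comm_iSup_le (fun g => (cj_le_of_mem g.2 hYH).trans hP')
    fun g => by rw [commutator_comm]; exact h1 g g.2

end Cfsg.Agent.S2819
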