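import Cfsg.Statements.S2823
import Cfsg.Agent.H70.Kieler

set_option autoImplicit false
open Cfsg

namespace Cfsg.Agent.S2823

open Subgroup Cfsg.Agent.H70 Cfsg.Agent.H92
open scoped commutatorElement

/-- Let H be a finite group, p a prime, T a Sylow p-subgroup and L a subgroup of characteristic p containing T; let Z_L be the subgroup generated by the Ω₁(Z(S)) over the Sylow p-subgroups S of L and O^p(L) the subgroup generated by the elements of L of order prime to p. Then Z_L = Ω₁(Z(L))·[Z_L, O^p(L)] and [Z_L, L] = [Z_L, O^p(L)]. -/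
theorem result {H : Type*} [Group H] [Finite H] {p : ℕ} [Fact p.Prime] (T : Sylow p H) (L : Subgroup H) (hTL : (T : Subgroup H) ≤ L) (hL : Subgroup.centralizer (Cfsg.pCore p ↥L : Set ↥L) ≤ Cfsg.pCore p ↥L) : Cfsg.sylowCenterClosure p L = (Cfsg.omegaOne p (L ⊓ Subgroup.centralizer ((L : Subgroup H) : Set H))) ⊔ ⁅Cfsg.sylowCenterClosure p L, (Cfsg.pResidual p ↥L).map L.subtype⁆ ∧ ⁅Cfsg.sylowCenterClosure p L, L⁆ = ⁅Cfsg.sylowCenterClosure p L, (Cfsg.pResidual p ↥L).map L.subtype⁆ := by
  rw [pRes_def, oz_def]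
  have hT := sylIn_of_le T hTL
  have hc := isChar_iff.2 hL
  have hZ : sylowCenterClosure p L ≤ omegaOneCenter p (pCoreOf p L) :=
    ZL_le_iff.2 fun T' hT' => hc.oz_le_oz hT'
  have hV := IsElem_of_le (oz_isElem _) hZ
  have hn : L ≤ normalizer (sylowCenterClosure p L : Set H) := by
    rw [ZL_eq_ncl hT]; exact le_norm_ncl _ _
  have h1 := inf_cent_sylIn_le (IsElem_le_cent hV) (IsElementaryAbelian_isPGroup hV) hn hT
  have hZL : sylowCenterClosure p L ≤ L := hZ.trans ((oz_le _).trans (pCoreOf_le L))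
  have hW : L ≤ normalizer ((⁅sylowCenterClosure p L, pResidualOf p L⁆ : Subgroup H) : Set H) :=
    norm_commutator hn (le_norm_pRes L)
  constructor
  · refine le_antisymm ?_ (sup_le ?_ (commutator_le_left_of_norm ((pRes_le L).trans hn)))
    · refine (ZL_eq_ncl hT).le.trans (ncl_le ?_ (norm_sup (norm_oz le_normalizer) hW))
      refine le_trans (le_inf (oz_le_ZL hT) (oz_le_cent _)) (h1.trans (sup_le_sup ?_ inf_le_left))
      exact le_oz (IsElem_of_le hV inf_le_left) (inf_le_left.trans hZL) inf_le_right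
    · have h2 : omegaOneCenter p L ≤ (T : Subgroup H) :=
        le_sylIn_of_norm hT (oz_le L) (IsElementaryAbelian_isPGroup (oz_isElem L))
          (hTL.trans (norm_oz le_normalizer))
      exact (le_oz (oz_isElem L) h2 ((oz_le_cent L).trans (cent_anti hTL))).trans (oz_le_ZL hT)
  · refine le_antisymm ?_ (commutator_mono le_rfl (pRes_le L))
    refine (commutator_mono (ZL_eq_ncl hT).le le_rfl).trans (comm_ncl_le le_normalizer hW
      ((oz_le_ZL hT).trans (hZL.trans hW)) ?_)
    refine (commutator_mono le_rfl (pRes_sup_sylIn hT).ge).trans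
      (comm_sup_le' ((pRes_le L).trans hW) (hTL.trans hW) (commutator_mono (oz_le_ZL hT) le_rfl) ?_)
    rw [comm_eq_bot_iff.2 (oz_le_cent _)]
    exact bot_le

end Cfsg.Agent.S2823
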