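import Cfsg.Statements.S2824
import Cfsg.Agent.H70.YL

set_option autoImplicit false
open Cfsg

namespace Cfsg.Agent.S2824

open Subgroup Cfsg.Agent.H70 Cfsg.Agent.H92
open scoped commutatorElement

/-- Let H be a finite group, p a prime, T a Sylow p-subgroup, L and M subgroups of characteristic p containing T, Y_L the largest p-reduced normal subgroup of L and T₀ = C_T(Y_L). If M·C_H(Y_L) = L·C_H(Y_L), then L* := N_M(T₀) has Y_{L*} = Y_L and L·C_H(Y_L) = L*·C_H(Y_L). -/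
theorem result {H : Type*} [Group H] [Finite H] {p : ℕ} [Fact p.Prime] (T : Sylow p H) (L M : Subgroup H) (hTL : (T : Subgroup H) ≤ L) (hTM : (T : Subgroup H) ≤ M) (hL : Subgroup.centralizer (Cfsg.pCore p ↥L : Set ↥L) ≤ Cfsg.pCore p ↥L) (hM : Subgroup.centralizer (Cfsg.pCore p ↥M : Set ↥M) ≤ Cfsg.pCore p ↥M) (T₀ : Subgroup H) (hT₀ : T₀ = (T : Subgroup H) ⊓ Subgroup.centralizer (((Cfsg.largestPReducedOf p L) : Subgroup H) : Set H)) (hfac : M ⊔ Subgroup.centralizer (((Cfsg.largestPReducedOf p L) : Subgroup H) : Set H) = L ⊔ Subgroup.centralizer (((Cfsg.largestPReducedOf p L) : Subgroup H) : Set H)) (Ls : Subgroup H) (hLs : Ls = M ⊓ Subgroup.normalizer ((T₀ : Subgroup H) : Set H)) : (Cfsg.largestPReducedOf p Ls) = (Cfsg.largestPReducedOf p L) ∧ L ⊔ Subgroup.centralizer (((Cfsg.largestPReducedOf p L) : Subgroup H) : Set H) = Ls ⊔ Subgroup.centralizer (((Cfsg.largestPReducedOf p L) : Subgroup H) : Set H) := by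
  have hY := YL_pRed (p := p) L
  have hYM := hY.of_sup_eq (hY.le_pCoreOf.trans ((pCoreOf_le_sylIn (sylIn_of_le T hTL)).trans hTM))
    hfac
  obtain ⟨-, h2, -, h4, h5⟩ := hYM.frattini (sylIn_of_le T hTM)
  rw [← hT₀, ← hLs] at h2 h4 h5
  refine ⟨le_antisymm ?_ h4.le_YL, ?_⟩
  · rw [YL_eq_oz (isChar_iff.2 hL) (sylIn_of_le T hTL), ← hT₀, ← h5]
    exact (YL_pRed Ls).le_oz
  · rw [← hfac]
    refine le_antisymm (sup_le ?_ le_sup_right) (sup_le_sup_right (hLs ▸ inf_le_left) _)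
    exact h2.ge.trans (sup_le (inf_le_right.trans le_sup_right) le_sup_left)

end Cfsg.Agent.S2824
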