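import Cfsg.Statements.S2825
import Cfsg.Agent.H70.YL2

set_option autoImplicit false
open Cfsg

namespace Cfsg.Agent.S2825

open Subgroup Cfsg.Agent.H70 Cfsg.Agent.H92
open scoped commutatorElement

/-- Let L be a subnormal subgroup of the finite group H, p a prime, Y_H and Y_L the largest p-reduced normal subgroups. Then Y_H ∩ L = Y_H ∩ Y_L and this subgroup is a p-reduced normal subgroup of L; C_L(Y_L) = C_L(Y_H) = C_L(Y_H ∩ L); and if O^p(H) ≤ L, then [Y_L, L] = 1 if and only if [Y_H, H] = 1. -/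
theorem result {H : Type*} [Group H] [Finite H] {p : ℕ} [Fact p.Prime] (L : Subgroup H) (hL : L.IsSubnormal) : Cfsg.largestPReduced p H ⊓ L = Cfsg.largestPReduced p H ⊓ (Cfsg.largestPReducedOf p L) ∧ Cfsg.IsPReducedNormal p ((Cfsg.largestPReduced p H ⊓ L).subgroupOf L) ∧ L ⊓ Subgroup.centralizer ((Cfsg.largestPReducedOf p L : Subgroup H) : Set H) = L ⊓ Subgroup.centralizer (Cfsg.largestPReduced p H : Set H) ∧ L ⊓ Subgroup.centralizer (Cfsg.largestPReduced p H : Set H) = L ⊓ Subgroup.centralizer ((Cfsg.largestPReduced p H ⊓ L : Subgroup H) : Set H) ∧ (Cfsg.pResidual p H ≤ L → (⁅(Cfsg.largestPReducedOf p L), L⁆ = ⊥ ↔ ⁅Cfsg.largestPReduced p H, (⊤ : Subgroup H)⁆ = ⊥)) := by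
  have hs := subn_top_iff.2 hL
  have hY := YL_pRed (p := p) (⊤ : Subgroup H)
  have h1 := cent_YL_subn (p := p) hs
  rw [← YL_top]
  refine ⟨le_antisymm (le_inf inf_le_left (hY.inf_subn hs).le_YL)
    (inf_le_inf_left _ (YL_pRed L).le), (pRed_iff inf_le_right).1 (hY.inf_subn hs), h1,
    hY.cent_inf_subn hs, fun h => ?_⟩
  rw [comm_eq_bot_iff', comm_eq_bot_iff']
  refine ⟨fun h2 => hY.red _ le_rfl le_normalizer ?_,
    fun h2 => (le_inf le_rfl (le_top.trans h2)).trans (h1.ge.trans inf_le_right)⟩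
  rw [pRes_top]
  exact h.trans ((le_inf le_rfl h2).trans (h1.le.trans inf_le_right))

end Cfsg.Agent.S2825
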