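import Cfsg.Statements.S2826
import Cfsg.Agent.H70.Trace

set_option autoImplicit false
open Cfsg

namespace Cfsg.Agent.S2826

open Subgroup Cfsg.Agent.H70 Cfsg.Agent.H92
open scoped commutatorElement

/-- Let H be a finite group of characteristic p, T a Sylow p-subgroup, and V a normal elementary abelian p-subgroup of H containing Ω₁(Z(T)). Then C_H(Ω₁(Z(T))) = C_H([V, O^p(H)] ∩ Ω₁(Z(T))), O^p(H) being generated by the elements of order prime to p. -/
theorem result {H : Type*} [Group H] [Finite H] {p : ℕ} [Fact p.Prime] (hH : Subgroup.centralizer (Cfsg.pCore p H : Set H) ≤ Cfsg.pCore p H) (T : Sylow p H) (V : Subgroup H) [V.Normal] (hV : Cfsg.IsElementaryAbelian p V) (hZV : (Cfsg.omegaOne p ((T : Subgroup H) ⊓ Subgroup.centralizer (((T : Subgroup H) : Subgroup H) : Set H))) ≤ V) : Subgroup.centralizer ((Cfsg.omegaOne p ((T : Subgroup H) ⊓ Subgroup.centralizer (((T : Subgroup H) : Subgroup H) : Set H))) : Set H) = Subgroup.centralizer (((⁅V, Cfsg.pResidual p H⁆ ⊓ (Cfsg.omegaOne p ((T : Subgroup H) ⊓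 Subgroup.centralizer (((T : Subgroup H) : Subgroup H) : Set H)))) : Subgroup H) : Set H) := by
  rw [oz_def] at *
  refine le_antisymm (cent_anti inf_le_right) (cent_comm.1 ?_)
  have h1 := inf_cent_sylIn_le (IsElem_le_cent hV) (IsElementaryAbelian_isPGroup hV)
    (norm_of_normal (L := ⊤)) (sylIn_top T)
  rw [pRes_top] at h1
  refine (le_inf hZV (oz_le_cent _)).trans (h1.trans (sup_le ?_ ?_))
  · exact inf_le_right.trans (cent_anti le_top)
  · refine le_trans (le_inf inf_le_left ?_) (cent_comm.1 le_rfl)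
    have h2 : ⁅V, pResidual p H⁆ ≤ V := commutator_le_left _ _
    exact le_oz (IsElem_of_le hV (inf_le_left.trans h2))
      ((inf_le_left.trans h2).trans
        ((IsElementaryAbelian_isPGroup hV).le_sylow_of_normal T)) inf_le_right

end Cfsg.Agent.S2826
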