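import Cfsg.Statements.S2828
import Cfsg.Agent.H70.MinOver

set_option autoImplicit false
open Cfsg

namespace Cfsg.Agent.S2828

open Subgroup Cfsg.Agent.H70 Cfsg.Agent.H92
open scoped commutatorElement

theorem aux {H H' : Type*} [Group H] [Finite H] [Group H'] {p : ℕ} [Fact p.Prime] (f : H →* H')
    (hs : Function.Surjective f) (hk : IsPGroup p f.ker) :
    (IsPIrreducible p H ↔ IsPIrreducible p H') ∧
      (IsStronglyPIrreducible p H ↔ IsStronglyPIrreducible p H') := by
  have hmt : (⊤ : Subgroup H).map f = ⊤ := map_top_of_surjective f hs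
  refine ⟨by rw [← pIrr_top_iff, ← pIrr_top_iff, ← hmt, pIrr_map_iff f hk le_top], ?_⟩
  have c2 : IsPClosed p H' ↔ IsPClosed p H := by
    rw [← isPClosed_top_iff, ← hmt, isPClosed_map_iff f hk, isPClosed_top_iff]
  have c3 : ∀ N : Subgroup H, N.Normal → (pResidual p H' ≤ N.map f ↔ pResidual p H ≤ N) :=
    fun N hN => by rw [← pRes_top, ← pRes_top, ← hmt, pRes_map_le_map_iff f hk norm_of_normal]
  have c4 : ∀ N : Subgroup H, ⁅N.map f, (⊤ : Subgroup H')⁆ ≤ pCore p H' ↔
      ⁅N, (⊤ : Subgroup H)⁆ ≤ pCore p H := fun N => by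
    rw [← pCoreOf_top, ← pCoreOf_top, ← hmt, ← Subgroup.map_commutator,
      map_le_pCoreOf_map_iff f hk le_top]
  have c5 : ∀ N : Subgroup H', (N.comap f).map f = N := map_comap_eq_self_of_surjective hs
  refine ⟨fun h => ⟨fun h' => h.1 (c2.1 h'), fun N hN hc => ?_⟩,
    fun h => ⟨fun h' => h.1 (c2.2 h'), fun N hN hc => ?_⟩⟩
  · rw [← c5 N] at hc ⊢
    exact (c3 _ (hN.comap f)).2 (h.2 _ (hN.comap f) fun h' => hc ((c4 _).2 h'))
  · exact (c3 _ hN).1 (h.2 _ (hN.map f hs) fun h' => hc ((c4 _).1 h'))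

/-- Let H be a finite group, p a prime and D a normal p-subgroup of H. Then H is p-irreducible if and only if H/D is p-irreducible, and H is strongly p-irreducible if and only if H/D is strongly p-irreducible. -/
theorem result {H : Type*} [Group H] [Finite H] {p : ℕ} [Fact p.Prime] (D : Subgroup H) [D.Normal] (hD : IsPGroup p ↥D) : (Cfsg.IsPIrreducible p H ↔ Cfsg.IsPIrreducible p (H ⧸ D)) ∧ (Cfsg.IsStronglyPIrreducible p H ↔ Cfsg.IsStronglyPIrreducible p (H ⧸ D)) := by
  exact aux (QuotientGroup.mk' D) (QuotientGroup.mk'_surjective _)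
    (by rw [QuotientGroup.ker_mk']; exact hD)

end Cfsg.Agent.S2828
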