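import Cfsg.Statements.S2829
import Cfsg.Agent.H70.MinOver

set_option autoImplicit false
open Cfsg

namespace Cfsg.Agent.S2829

open Subgroup Cfsg.Agent.H70 Cfsg.Agent.H92
open scoped commutatorElement

/-- Every strongly p-irreducible finite group is p-irreducible. -/
theorem result {H : Type*} [Group H] [Finite H] {p : ℕ} [Fact p.Prime] (hH : Cfsg.IsStronglyPIrreducible p H) : Cfsg.IsPIrreducible p H := by
  refine ⟨hH.1, fun N hN hc => hH.2 N hN fun h => hc ?_⟩
  obtain ⟨T, hT⟩ := exists_sylIn p N
  refine isPClosed_of_sylIn_norm hT (norm_of_commutator_le (le_trans ?_ (pCoreOf_le_sylIn hT)))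
  rw [pCoreOf_eq_inf_of_norm (L := ⊤) le_top norm_of_normal, pCoreOf_top]
  exact le_inf ((commutator_mono hT.le le_top).trans h) (commutator_le_right _ _)

end Cfsg.Agent.S2829
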