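import Cfsg.Statements.S2832
import Cfsg.Agent.H70.MinOver

set_option autoImplicit false
open Cfsg

namespace Cfsg.Agent.S2832

open Subgroup Cfsg.Agent.H70 Cfsg.Agent.H92
open scoped commutatorElement

/-- Let H be a finite group with Sylow p-subgroup T such that H is T-minimal (generated by the conjugates of T, with T in exactly one maximal subgroup), and let N be a normal subgroup of H. Then either H/N is a p-group or H/N is minimal over the image of T in the same sense. -/
theorem result {H : Type*} [Group H] [Finite H] {p : ℕ} [Fact p.Prime] (T : Sylow p H) (hmin : Cfsg.IsMinimalOver (T : Subgroup H)) (N : Subgroup H) [N.Normal] : IsPGroup p (H ⧸ N) ∨ Cfsg.IsMinimalOver ((T : Subgroup H).map (QuotientGroup.mk' N)) := by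
  obtain ⟨M, hM⟩ := exists_minOver_top hmin
  refine (hM.pRes_le_or T.isPGroup' le_top (norm_of_normal (A := N))).imp
    (fun h => isPGroup_quotient_iff.2 (pRes_top.ge.trans h)) fun h => ?_
  set f := QuotientGroup.mk' N with hf
  have hs : Function.Surjective f := QuotientGroup.mk'_surjective _
  have hk : f.ker = N := QuotientGroup.ker_mk' _
  refine MinOver.isMinimalOver (L₀ := M.map f) ⟨map_mono hM.le, ?_, ?_, fun X h1 h2 => ?_⟩
  · refine lt_top_iff_ne_top.2 fun e => hM.lt.ne ?_
    rw [← comap_map_eq_self (hk.le.trans h), e, comap_top]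
  · rw [← map_top_of_surjective f hs, ← map_ncl, hM.gen]
  · rw [← map_comap_eq_self_of_surjective hs X]
    refine map_mono (hM.uniq _ (map_le_iff_le_comap.1 h1) (lt_top_iff_ne_top.2 fun e => h2.ne ?_))
    rw [← map_comap_eq_self_of_surjective hs X, e, map_top_of_surjective f hs]

end Cfsg.Agent.S2832
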