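import Cfsg.Statements.S2833
import Cfsg.Agent.H70.CharP

set_option autoImplicit false
open Cfsg

namespace Cfsg.Agent.S2833

open Subgroup Cfsg.Agent.H70 Cfsg.Agent.H92
open scoped commutatorElement

/-- Let V be a subgroup of a finite group G normalized by the subgroup L, let X ≤ L and g ∈ L with [V, X, X] = 1 and L generated by X and gXg⁻¹. Put W = [V, L]. Then W = [V, X]·[V, gXg⁻¹], C_W(X) = [V, X], and C_W(L) = [V, X] ∩ [V, gXg⁻¹]. -/
theorem result {G : Type*} [Group G] [Finite G] (V L : Subgroup G) (hLV : L ≤ Subgroup.normalizer (V : Set G)) (X : Subgroup G) (hX : X ≤ L) (g : G) (hg : g ∈ L) (hq : ⁅⁅V, X⁆, X⁆ = ⊥) (hgen : X ⊔ X.map (MulAut.conj g).toMonoidHom = L) (W : Subgroup G) (hW : W = ⁅V, L⁆) : ⁅V, X⁆ ⊔ ⁅V, X.map (MulAut.conj g).toMonoidHom⁆ = W ∧ W ⊓ Subgroup.centralizer (X : Set G) = ⁅V, X⁆ ∧ W ⊓ Subgroup.centralizer (L : Set G) = ⁅V, X⁆ ⊓ ⁅V, X.map (MulAut.conj g).toMonoidHom⁆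 := by
  change X ⊔ cj g X = L at hgen
  change ⁅V, X⁆ ⊔ ⁅V, cj g X⁆ = W ∧ W ⊓ _ = ⁅V, X⁆ ∧ W ⊓ _ = ⁅V, X⁆ ⊓ ⁅V, cj g X⁆
  have hX' : cj g X ≤ L := cj_le_of_mem hg hX
  have e : cj g ⁅V, X⁆ = ⁅V, cj g X⁆ := by rw [cj_commutator, cj_eq_self (hLV hg)]
  have hU : ⁅V, X⁆ ≤ V := commutator_le_left_of_norm (hX.trans hLV)
  have hU' : ⁅V, cj g X⁆ ≤ V := commutator_le_left_of_norm (hX'.trans hLV)
  have hc : ⁅V, X⁆ ≤ centralizer (X : Set G) := comm_eq_bot_iff.1 hq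
  have hc' : ⁅V, cj g X⁆ ≤ centralizer (cj g X : Set G) := by
    rw [← e, ← cj_centralizer]; exact cj_mono g hc
  have hUU : ⁅V, X⁆ ⊔ ⁅V, cj g X⁆ ≤ V := sup_le hU hU'
  have h1 : ⁅V, X⁆ ⊔ ⁅V, cj g X⁆ = W := by
    rw [hW]
    refine le_antisymm (sup_le (commutator_mono le_rfl hX) (commutator_mono le_rfl hX')) ?_
    rw [← hgen]
    exact comm_sup_le' (norm_of_between hUU le_sup_left) (norm_of_between hUU le_sup_right)
      le_sup_left le_sup_right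
  have h2 : W ⊓ centralizer (X : Set G) = ⁅V, X⁆ := by
    rw [← h1, sup_inf_of_norm (hU.trans (normalizer_commutator_ge_left _ _)) hc, sup_eq_left]
    have h3 : ⁅V, cj g X⁆ ⊓ centralizer (X : Set G) ≤ centralizer (L : Set G) := by
      rw [← hgen, cent_sup, inf_comm]; exact inf_le_inf_left _ hc'
    have h4 := norm_of_cent (cent_comm.1 h3) (inv_mem hg)
    rw [← cj_eq_self h4, ← le_cj_iff, e]
    exact inf_le_left
  refine ⟨h1, h2, ?_⟩
  have h3 : W ⊓ centralizer (cj g X : Set G) = ⁅V, cj g X⁆ := by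
    rw [← e, ← h2, cj_inf, cj_centralizer, hW, cj_eq_self (norm_commutator hLV le_normalizer hg)]
  rw [← h2, ← h3, ← inf_inf_distrib_left, ← cent_sup, hgen]

end Cfsg.Agent.S2833
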