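import Cfsg.Statements.S2836
import Cfsg.Agent.H70.MinOver

set_option autoImplicit false
open Cfsg

namespace Cfsg.Agent.S2836

open Subgroup Cfsg.Agent.H70 Cfsg.Agent.H92
open scoped commutatorElement

/-- Let L be a finite group, L₀ a maximal subgroup, T a Sylow p-subgroup of L₀, Y ≤ T, and suppose L is Y-minimal. Let D be the intersection of the conjugates of L₀ (the core of L₀). Then D contains O_p(L) and D/O_p(L) is the Frattini subgroup of L/O_p(L), so D is p-closed; and every normal subgroup N of L contained in L₀ is p-closed with N/O_p(N) a nilpotent group of order prime to p. -/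
theorem result {L : Type*} [Group L] [Finite L] {p : ℕ} [Fact p.Prime] (L₀ : Subgroup L) (hL₀ : IsCoatom L₀) (T : Sylow p ↥L₀) (Y : Subgroup L) (hYT : Y ≤ (T : Subgroup ↥L₀).map L₀.subtype) (hmin : Cfsg.IsMinimalOver Y) : (Cfsg.pCore p L ≤ L₀.normalCore ∧ (L₀.normalCore).map (QuotientGroup.mk' (Cfsg.pCore p L)) = frattini (L ⧸ Cfsg.pCore p L) ∧ Cfsg.IsPClosed p ↥(L₀.normalCore)) ∧ ∀ (N : Subgroup L) [N.Normal], N ≤ L₀ → Cfsg.IsPClosed p ↥N ∧ Group.IsNilpotent (↥N ⧸ Cfsg.pCore p ↥N) ∧ (Nat.card (↥N ⧸ Cfsg.pCore p ↥N)).Coprime p := by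
  have hT := sylIn_of_sylow T
  have h := minOver_top hmin hL₀ (hYT.trans hT.le)
  have hY := hT.pgroup.to_le hYT
  have hO : pCore p L ≤ L₀ := pCoreOf_top.ge.trans (h.pCoreOf_le hY)
  set f := QuotientGroup.mk' (pCore p L) with hf
  have hs : Function.Surjective f := QuotientGroup.mk'_surjective _
  have hk : f.ker = pCore p L := QuotientGroup.ker_mk' _
  have h1 : ∀ N : Subgroup L, N.Normal → N ≤ L₀ → N.map f ≤ frattini (L ⧸ pCore p L) := by
    intro N hN hNL
    refine le_iInf₂ fun X hX => map_le_iff_le_comap.2 ?_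
    have h2 := isCoatom_comap_of_surjective hs hX
    have h3 := h.sup_ne hY hNL norm_of_normal
      (pCoreOf_top.le.trans (hk.ge.trans (ker_le_comap f X))) h2.lt_top
    exact le_sup_right.trans ((h2.le_iff.1 le_sup_left).resolve_left h3).le
  have hD : pCore p L ≤ L₀.normalCore := normal_le_normalCore.2 hO
  refine ⟨⟨hD, le_antisymm (h1 _ inferInstance L₀.normalCore_le) ?_,
    h.isPClosed hY L₀.normalCore_le norm_of_normal⟩, fun N _ hN => ?_⟩
  · rw [← map_comap_eq_self_of_surjective hs (frattini _)]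
    refine map_mono (normal_le_normalCore.2 ?_)
    rw [← comap_map_eq_self (hk.le.trans hO)]
    refine comap_mono (frattini_le_coatom ?_)
    refine ⟨fun e => hL₀.1 ?_, fun X hX => ?_⟩
    · rw [← comap_map_eq_self (hk.le.trans hO), e, comap_top]
    · rw [← map_comap_eq_self_of_surjective hs X, ← map_top_of_surjective f hs]
      congr 1
      refine hL₀.2 _ (lt_of_le_of_ne (map_le_iff_le_comap.1 hX.le) fun e => hX.ne ?_)
      rw [e, map_comap_eq_self_of_surjective hs]
  have hc := h.isPClosed hY hN norm_of_normal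
  refine ⟨hc, ?_, ?_⟩
  · have := frattini_nilpotent (G := L ⧸ pCore p L)
    have h2 : Group.IsNilpotent (N.map f) :=
      Group.nilpotent_of_mulEquiv (subgroupOfEquivOfLe (h1 N inferInstance hN))
    have h3 : ((f.subgroupMap N)).ker = pCore p N := by
      rw [← subgroupOf_pCoreOf, pCoreOf_eq_inf_of_norm (L := ⊤) le_top norm_of_normal,
        pCoreOf_top, inf_subgroupOf_right]
      ext x
      rw [mem_subgroupOf, ← SetLike.ext_iff.1 hk]
      simp [MonoidHom.mem_ker, Subtype.ext_iff]
    exact Group.nilpotent_of_mulEquiv ((QuotientGroup.quotientMulEquivOfEq h3.symm).trans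
      (QuotientGroup.quotientKerEquivOfSurjective _ (f.subgroupMap_surjective N))).symm
  · have h2 := (isPClosed_iff_sylIn.1 hc).not_dvd_relIndex
    rw [relIndex, subgroupOf_pCoreOf] at h2
    exact ((Nat.Prime.coprime_iff_not_dvd Fact.out).2 h2).symm

end Cfsg.Agent.S2836
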