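import Cfsg.Statements.S2837
import Cfsg.Agent.H70.MinOver
import Cfsg.Agent.H70.YL2
import Cfsg.Agent.H3.PGroup

set_option autoImplicit false
open Cfsg

namespace Cfsg.Agent.S2837

open Subgroup Cfsg.Agent.H70 Cfsg.Agent.H92
open scoped commutatorElement

/-- Let L be a finite group of characteristic p, L₀ a maximal subgroup, Y an elementary abelian p-subgroup of L₀ with L Y-minimal and O_p(L) ≤ N_L(Y). Put A = the normal closure of O_p(L) ∩ Y in L. Then for every g ∈ L outside L₀: Φ(A) = A' = [A ∩ Y, A] = [A ∩ Y, A ∩ gYg⁻¹] ≤ C_Y(L), and Y ∩ gYg⁻¹ = (A ∩ Y) ∩ (A ∩ gYg⁻¹) = C_Y(L) = C_A(L). -/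
theorem result {L : Type*} [Group L] [Finite L] {p : ℕ} [Fact p.Prime] (hchar : Subgroup.centralizer (Cfsg.pCore p L : Set L) ≤ Cfsg.pCore p L) (L₀ : Subgroup L) (hL₀ : IsCoatom L₀) (Y : Subgroup L) (hYL₀ : Y ≤ L₀) (hYel : Cfsg.IsElementaryAbelian p Y) (hmin : Cfsg.IsMinimalOver Y) (hOY : Cfsg.pCore p L ≤ Subgroup.normalizer (Y : Set L)) (A : Subgroup L) (hA : A = Subgroup.normalClosure (((Cfsg.pCore p L ⊓ Y : Subgroup L)) : Set L)) (g : L) (hg : g ∉ L₀) : (frattini ↥A).map A.subtype = ⁅A, A⁆ ∧ ⁅A, A⁆ = ⁅A ⊓ Y, A⁆ ∧ ⁅A ⊓ Y, A⁆ = ⁅A ⊓ Y, A ⊓ Y.map (MulAut.conj g).toMonoidHom⁆ ∧ ⁅A ⊓ Y, A⁆ ≤ Y ⊓ Subgroup.center L ∧ Y ⊓ Y.map (MulAut.conj g).toMonoidHom = Y ⊓ Subgroup.center L ∧ (A ⊓ Y) ⊓ (A ⊓ Y.map (MulAut.conj g).toMonoidHom) = Y ⊓ Subgroup.center L ∧ A ⊓ Subgroup.center L = Y ⊓ Subgroup.center L := by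
  have h := minOver_top hmin hL₀ hYL₀
  rw [← ncl_top, ← pCoreOf_top] at hA
  rw [← pCoreOf_top] at hOY
  rw [← cent_top]
  change _ ∧ _ ∧ _ = ⁅A ⊓ Y, A ⊓ cj g Y⁆ ∧ _ ∧ Y ⊓ cj g Y = _ ∧ (A ⊓ Y) ⊓ (A ⊓ cj g Y) = _ ∧ _
  set Q := pCoreOf p (⊤ : Subgroup L) with hQ
  have hQn : ∀ X : Subgroup L, X ≤ normalizer (Q : Set L) := fun X =>
    le_top.trans (le_norm_pCoreOf ⊤)
  have hQg : cj g Q = Q := cj_eq_self (hQn ⊤ (mem_top g))
  have hY := IsElem_le_cent hYel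
  have hY' : cj g Y ≤ centralizer (cj g Y : Set L) := by
    rw [← cj_centralizer]; exact cj_mono g hY
  have hOY' : Q ≤ normalizer (cj g Y : Set L) := by
    rw [← cj_normalizer, ← hQg]; exact cj_mono g hOY
  have hgen := h.sup_cj (mem_top g) hg
  have hZ := h.inf_cj (mem_top g) hg hY
  have hAQ : A ≤ Q := hA ▸ ncl_le inf_le_left (hQn _)
  have hB : A ⊓ Y = Q ⊓ Y :=
    le_antisymm (inf_le_inf_right _ hAQ) (le_inf (hA ▸ le_ncl _ _) inf_le_right)
  have hB' : A ⊓ cj g Y = Q ⊓ cj g Y := by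
    refine le_antisymm (inf_le_inf_right _ hAQ) (le_inf ?_ inf_le_right)
    rw [hA, ← hQg, ← cj_inf, hQg]
    exact cj_le_ncl _ (mem_top g)
  have hc : ⁅Q, Y⁆ ≤ Q ⊓ Y :=
    le_inf (commutator_le_left_of_norm (hQn _)) (commutator_le_right_of_norm hOY)
  have hc' : ⁅Q, cj g Y⁆ ≤ Q ⊓ cj g Y :=
    le_inf (commutator_le_left_of_norm (hQn _)) (commutator_le_right_of_norm hOY')
  have hAe : A = (Q ⊓ Y) ⊔ (Q ⊓ cj g Y) := by
    refine le_antisymm (hA ▸ ncl_le le_sup_left ?_)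
      (sup_le (hB ▸ inf_le_left) (hB' ▸ inf_le_left))
    have h1 : (Q ⊓ Y) ⊔ (Q ⊓ cj g Y) ≤ Q := sup_le inf_le_left inf_le_left
    rw [← hgen]
    exact sup_le (norm_of_between h1 (hc.trans le_sup_left))
      (norm_of_between h1 (hc'.trans le_sup_right))
  rw [hB, hB']
  set B := Q ⊓ Y with hBd
  set B' := Q ⊓ cj g Y with hBd'
  have hBB : ⁅B, B'⁆ ≤ Y ⊓ centralizer ((⊤ : Subgroup L) : Set L) := by
    rw [← hZ]
    refine le_inf ?_ ((commutator_mono inf_le_left inf_le_right).trans (hc'.trans inf_le_right))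
    rw [commutator_comm]
    exact (commutator_mono inf_le_left inf_le_right).trans (hc.trans inf_le_right)
  have hn : ∀ X : Subgroup L, X ≤ normalizer ((⁅B, B'⁆ : Subgroup L) : Set L) := fun X =>
    norm_of_cent (le_top.trans (cent_comm.1 (hBB.trans inf_le_right)))
  have h1 : ⁅B, A⁆ = ⁅B, B'⁆ := by
    refine le_antisymm ?_ (commutator_mono le_rfl (hAe ▸ le_sup_right))
    rw [hAe]
    refine comm_sup_le' (hn _) (hn _) ?_ le_rfl
    rw [comm_eq_bot_iff.2 (inf_le_right.trans (hY.trans (cent_anti inf_le_right)))]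
    exact bot_le
  have h1' : ⁅B', A⁆ ≤ ⁅B, B'⁆ := by
    rw [hAe]
    refine comm_sup_le' (hn _) (hn _) (commutator_comm _ _).le ?_
    rw [comm_eq_bot_iff.2 (inf_le_right.trans (hY'.trans (cent_anti inf_le_right)))]
    exact bot_le
  have h2 : ⁅A, A⁆ = ⁅B, A⁆ := by
    refine le_antisymm ?_ (commutator_mono (hAe ▸ le_sup_left) le_rfl)
    rw [h1]
    conv_lhs => enter [1]; rw [hAe]
    exact comm_sup_le (hn _) (hn _) h1.le h1'
  have hAp : IsPGroup p A := (pCoreOf_isPGroup _).to_le hAQ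
  have hZQ : Y ⊓ centralizer ((⊤ : Subgroup L) : Set L) ≤ Q :=
    le_pCoreOf le_top (norm_of_cent (cent_comm.1 inf_le_right))
      (IsElementaryAbelian_isPGroup hYel).to_inf_left
  refine ⟨le_antisymm ((H3.map_frattini_le_iff hAp).2 ⟨le_rfl, fun x hx => ?_⟩)
    ((H3.map_frattini_le_iff hAp).1 le_rfl).1, h2, h1, h1.le.trans hBB, hZ, ?_, ?_⟩
  · have hx' := hx
    rw [hAe] at hx'
    obtain ⟨a, ha, b, hb, rfl⟩ := (mem_sup_of_norm (inf_le_left.trans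
      (norm_inf le_normalizer hOY'))).1 hx'
    have h3 := mul_pow_mod_comm (hAe.ge (mem_sup_left ha)) (hAe.ge (mem_sup_right hb)) p
    rwa [pow_eq_one_of_mem_omegaOne hY (le_omegaOne hYel le_rfl ha.2),
      pow_eq_one_of_mem_omegaOne hY' (le_omegaOne (IsElem_map _ hYel) le_rfl hb.2), one_mul,
      one_mul, inv_mem_iff] at h3
  · rw [hBd, hBd', ← inf_inf_distrib_left, hZ, inf_eq_right.2 hZQ]
  · refine le_antisymm (le_inf ?_ inf_le_right) (le_inf ?_ inf_le_right)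
    · refine (inf_le_inf_left _ (cent_anti (le_top : Y ≤ ⊤))).trans ?_
      rw [hAe, sup_inf_of_norm (inf_le_left.trans (norm_inf le_normalizer hOY'))
        (inf_le_right.trans hY)]
      refine sup_le inf_le_right ?_
      have h3 : B' ⊓ centralizer (Y : Set L) ≤ centralizer ((⊤ : Subgroup L) : Set L) := by
        rw [← hgen, cent_sup, inf_comm]
        exact inf_le_inf_left _ (inf_le_right.trans hY')
      have h4 := norm_of_cent (cent_comm.1 h3) (mem_top g⁻¹)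
      rw [← cj_eq_self h4, ← le_cj_iff]
      exact inf_le_left.trans inf_le_right
    · exact (le_inf hZQ inf_le_left).trans (hAe ▸ le_sup_left)

end Cfsg.Agent.S2837
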