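import Cfsg.Statements.S2839
import Cfsg.Agent.H70.WeakCl

set_option autoImplicit false
open Cfsg

namespace Cfsg.Agent.S2839

open Subgroup Cfsg.Agent.H70 Cfsg.Agent.H92
open scoped commutatorElement

/-- Let Q be a nontrivial p-subgroup of the finite group H that is a weakly closed subgroup, K a subgroup containing Q and N a normal subgroup of H. Then Q is a weakly closed subgroup of K; every H-conjugate of Q contained in K is a K-conjugate of Q; N_K(Q) contains a Sylow p-subgroup of K; N = N_N(Q)·O^p(N); and QN/N is a weakly closed subgroup of H/N. -/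
theorem result {H : Type*} [Group H] [Finite H] {p : ℕ} [Fact p.Prime] (Q : Subgroup H) (hQp : IsPGroup p ↥Q) (hQ1 : Q ≠ ⊥) (hwc : Cfsg.IsWeaklyClosedSubgroup p Q) (K : Subgroup H) (hQK : Q ≤ K) (N' : Subgroup H) [N'.Normal] : Cfsg.IsWeaklyClosedSubgroup p (Q.subgroupOf K) ∧ (∀ g : H, ((Q : Subgroup H).map (MulAut.conj (g : H)).toMonoidHom) ≤ K → ∃ k ∈ K, ((Q : Subgroup H).map (MulAut.conj (g : H)).toMonoidHom) = ((Q : Subgroup H).map (MulAut.conj (k : H)).toMonoidHom)) ∧ Cfsg.IsParabolic p ((Subgroup.normalizer ((Q : Subgroup H) : Set H)).subgroupOf K) ∧ (N' ⊓ Subgroup.normalizer ((Q : Subgroup H) : Set H)) ⊔ (Cfsg.pResidual p ↥N').map N'.subtype = N' ∧ Cfsg.IsWeaklyClosedSubgroup p (Q.map (QuotientGroup.mk' N')) := by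
  have h := wc_of_isWeaklyClosedSubgroup hwc
  refine ⟨(h.subgroupOf hQK).isWeaklyClosedSubgroup (H70.isPGroup_subgroupOf hQp),
    fun g hg => h.exists_cj_eq hQp hQK hg, ?_, ?_, ?_⟩
  · obtain ⟨T, hT, h1⟩ := exists_sylIn_ge hQK hQp
    exact ⟨hT.toSylow, comap_mono (h.le_norm hT.pgroup h1)⟩
  · obtain ⟨T, hT, h1⟩ := exists_sylIn_ge le_top hQp
    rw [pRes_def]
    refine le_antisymm (sup_le inf_le_left (pRes_le _)) ?_
    refine (pRes_sup_sylIn (hT.inf_normal' le_top norm_of_normal)).ge.trans (sup_le le_sup_right ?_)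
    exact (le_inf inf_le_right (inf_le_left.trans (h.le_norm hT.pgroup h1))).trans le_sup_left
  · obtain ⟨T, hT, h1⟩ := exists_sylIn_ge le_top hQp
    set f := QuotientGroup.mk' N' with hf
    have hs : Function.Surjective f := QuotientGroup.mk'_surjective _
    have hk : f.ker = N' := QuotientGroup.ker_mk' _
    have hT' := hT.map f
    rw [map_top_of_surjective f hs] at hT'
    refine ⟨hT'.toSylowTop, map_mono h1, fun g hg => ?_⟩
    obtain ⟨g, rfl⟩ := hs g
    change cj (f g) (Q.map f) ≤ T.map f at hg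
    change cj (f g) (Q.map f) = _
    rw [← map_cj] at hg ⊢
    rw [map_le_iff_le_comap, comap_map_eq, hk] at hg
    obtain ⟨k, hk', e⟩ := h.exists_cj_eq hQp (h1.trans le_sup_left) hg
    rw [sup_comm] at hk'
    obtain ⟨n, hn, t, ht, rfl⟩ := mem_sup_of_normal_left.1 hk'
    rw [e, cj_mul, cj_eq_self (h.le_norm hT.pgroup h1 ht), map_cj,
      (show f n = 1 from hk.ge hn), cj_one]

end Cfsg.Agent.S2839
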