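import Cfsg.Statements.S2840
import Cfsg.Agent.H70.WeakCl

set_option autoImplicit false
open Cfsg

namespace Cfsg.Agent.S2840

open Subgroup Cfsg.Agent.H70 Cfsg.Agent.H92
open scoped commutatorElement

/-- Let Q be a nontrivial p-subgroup of the finite group H that is a weakly closed subgroup and K a subgroup containing Q; let K° be the weak closure of Q in K (generated by the H-conjugates of Q inside K). Then K° is generated by the K-conjugates of Q, and K° is the subnormal closure of Q in K. -/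
theorem result {H : Type*} [Group H] [Finite H] {p : ℕ} [Fact p.Prime] (Q : Subgroup H) (hQp : IsPGroup p ↥Q) (hQ1 : Q ≠ ⊥) (hwc : Cfsg.IsWeaklyClosedSubgroup p Q) (K : Subgroup H) (hQK : Q ≤ K) (Kc : Subgroup H) (hKc : Kc = Cfsg.weakClosure Q K) : Kc = ⨆ k : ↥K, ((Q : Subgroup H).map (MulAut.conj ((k : H) : H)).toMonoidHom) ∧ Kc = (Cfsg.subnormalClosure (Q.subgroupOf K)).map K.subtype := by
  have h := wc_of_isWeaklyClosedSubgroup hwc
  refine ⟨hKc.trans (h.wcl_eq hQp hQK), ?_⟩
  rw [hKc]
  refine le_antisymm ((subgroupOf_le_iff (wcl_le Q K)).1 (le_sInf fun X hX => ?_))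
    (map_subtype_le_iff.2 (sInf_le ⟨comap_mono (le_wcl hQK), ?_⟩))
  · refine (subgroupOf_le_iff (wcl_le Q K)).2 (h.wcl_le_of_subn hQp ?_
      ((subgroupOf_le_iff hQK).1 hX.1))
    have := (subn_top_iff.2 hX.2).map K.subtype
    rwa [map_subtype_top] at this
  · exact (subn_iff (wcl_le Q K)).1 (.of_norm (wcl_le Q K) (norm_wcl Q le_normalizer))

end Cfsg.Agent.S2840
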