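import Cfsg.Statements.S2841
import Cfsg.Agent.H70.WeakCl

set_option autoImplicit false
open Cfsg

namespace Cfsg.Agent.S2841

open Subgroup Cfsg.Agent.H70 Cfsg.Agent.H92
open scoped commutatorElement

/-- Let Q be a nontrivial p-subgroup of the finite group H that is a weakly closed subgroup and N a normal subgroup of H. Then N = N_N(Q)·[N, Q] and [N, Q] = (Q ∩ [N, Q])·[N, Q, Q]. -/
theorem result {H : Type*} [Group H] [Finite H] {p : ℕ} [Fact p.Prime] (Q : Subgroup H) (hQp : IsPGroup p ↥Q) (hQ1 : Q ≠ ⊥) (hwc : Cfsg.IsWeaklyClosedSubgroup p Q) (N' : Subgroup H) [N'.Normal] : (∀ n : H, n ∈ N' → ∃ a ∈ N' ⊓ Subgroup.normalizer ((Q : Subgroup H) : Set H), ∃ b ∈ ⁅N', Q⁆, n = a * b) ∧ (∀ c : H, c ∈ ⁅N', Q⁆ → ∃ a ∈ Q ⊓ ⁅N', Q⁆, ∃ b ∈ ⁅⁅N', Q⁆, Q⁆, c = a * b) := by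
  have h := wc_of_isWeaklyClosedSubgroup hwc
  refine ⟨fun n hn => ?_, fun c hc => ?_⟩
  · obtain ⟨c, hc, a, ha, e⟩ := h.exists_comm_mul hQp norm_of_normal (inv_mem hn)
    exact ⟨a⁻¹, inv_mem ha, c⁻¹, inv_mem hc, by rw [← mul_inv_rev, e, inv_inv]⟩
  · have h1 : ncl Q N' = ncl Q ⁅N', Q⁆ :=
      ncl_eq_of_factor (commutator_le_left _ _) inf_le_right
        fun g hg => h.exists_comm_mul hQp norm_of_normal hg
    have h2 : ⁅N', Q⁆ ≤ Q ⊔ ⁅⁅N', Q⁆, Q⁆ := by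
      rw [commutator_comm ⁅N', Q⁆, ← ncl_eq_sup_comm, ← h1, commutator_comm]
      exact comm_le_ncl Q N'
    obtain ⟨a, ha, b, hb, e⟩ := (mem_sup_of_norm (normalizer_commutator_ge_right _ _)).1 (h2 hc)
    refine ⟨a, ⟨ha, ?_⟩, b, hb, e.symm⟩
    have := mul_mem hc (inv_mem
      (commutator_le_left_of_norm (normalizer_commutator_ge_right _ _) hb))
    rwa [← e, mul_inv_cancel_right] at this

end Cfsg.Agent.S2841
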