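import Cfsg.Statements.S2842
import Cfsg.Agent.H70.WeakCl

set_option autoImplicit false
open Cfsg

namespace Cfsg.Agent.S2842

open Subgroup Cfsg.Agent.H70 Cfsg.Agent.H92
open scoped commutatorElement

/-- Let Q be a nontrivial p-subgroup of the finite group H that is a weakly closed subgroup with C_H(Q) ≤ Q, and Q ≤ L ≤ H. Suppose H has characteristic p, or more generally that C_H(y) has characteristic p for some nonidentity y ∈ C_{O_p(L)}(Q). Then [Q, C_H(O_p(L))] ≤ Q ∩ O_p(L), C_H(O_p(L)) is a p-group, and L has characteristic p. -/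
theorem result {H : Type*} [Group H] [Finite H] {p : ℕ} [Fact p.Prime] (Q : Subgroup H) (hQp : IsPGroup p ↥Q) (hQ1 : Q ≠ ⊥) (hwc : Cfsg.IsWeaklyClosedSubgroup p Q) (hCQ : Subgroup.centralizer ((Q : Subgroup H) : Set H) ≤ Q) (L : Subgroup H) (hQL : Q ≤ L) (hyp : Subgroup.centralizer (Cfsg.pCore p H : Set H) ≤ Cfsg.pCore p H ∨ ∃ y : H, y ≠ 1 ∧ y ∈ (Cfsg.pCoreOf p L) ⊓ Subgroup.centralizer ((Q : Subgroup H) : Set H) ∧ Subgroup.centralizer (Cfsg.pCore p ↥(Subgroup.centralizer ({y} : Set H)) : Set ↥(Subgroup.centralizer ({y} : Set H))) ≤ Cfsg.pCore p ↥(Subgroup.centralizer ({y} : Set H))) : ⁅Q, Subgroup.centralizer (((Cfsg.pCoreOf p L) : Subgroup H) : Set H)⁆ ≤ Q ⊓ (Cfsg.pCoreOf p L) ∧ IsPGroup p ↥(Subgroup.centralizer (((Cfsg.pCoreOf p L) : Subgroup H) : Set H)) ∧ Subgroup.centralizer (Cfsg.pCore p ↥L : Set ↥L) ≤ Cfsg.pCore p ↥L := by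
  have h := wc_of_isWeaklyClosedSubgroup hwc
  have key : ⁅ncl Q L, centralizer (pCoreOf p L : Set H)⁆ ≤ pCoreOf p L ∧
      centralizer (pCoreOf p L : Set H) ≤ normalizer (Q : Set H) ∧
      IsPGroup p (centralizer (pCoreOf p L : Set H) : Subgroup H) ∧ IsChar p L := by
    rcases hyp with hyp | ⟨y, -, hy, hyp⟩
    · have := h.cent_pCoreOf hQp (isChar_top_iff.2 hyp) (inf_le_right.trans hCQ) hQL le_top
      rwa [top_inf_eq] at this
    · refine h.cent_pCoreOf' hQp hCQ hQL (R := zpowers y) (zpowers_le.2 hy.1) (zpowers_le.2 hy.2) ?_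
      rw [zpowers_eq_closure, centralizer_closure]
      exact isChar_iff.2 hyp
  exact ⟨le_inf (commutator_le_left_of_norm key.2.1)
    ((commutator_mono (le_ncl Q L) le_rfl).trans key.1), key.2.2.1, isChar_iff.1 key.2.2.2⟩

end Cfsg.Agent.S2842
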