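import Cfsg.Statements.S2844
import Cfsg.Agent.H70.WeakCl

set_option autoImplicit false
open Cfsg

namespace Cfsg.Agent.S2844

open Subgroup Cfsg.Agent.H70 Cfsg.Agent.H92
open scoped commutatorElement

/-- Let Q be a nontrivial large p-subgroup of the finite group H and Q• = O_p(N_H(Q)). Then for every g ∈ H outside N_H(Q): C_H(Q) ∩ C_H(gQg⁻¹) = 1, C_H(Q•) ∩ C_H(gQ•g⁻¹) = 1, Z(Q) ∩ Z(gQg⁻¹) = 1 and Z(Q•) ∩ Z(gQ•g⁻¹) = 1; moreover N_H(Q) = N_H(Q•) and Q• is large in H. -/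
theorem result {H : Type*} [Group H] [Finite H] {p : ℕ} [Fact p.Prime] (Q : Subgroup H) (hQp : IsPGroup p ↥Q) (hQ1 : Q ≠ ⊥) (hL : Cfsg.IsLarge Q) (Qb : Subgroup H) (hQb : Qb = Cfsg.largeBullet p Q) : (∀ g : H, g ∉ Subgroup.normalizer ((Q : Subgroup H) : Set H) → Subgroup.centralizer ((Q : Subgroup H) : Set H) ⊓ Subgroup.centralizer ((((Q : Subgroup H).map (MulAut.conj (g : H)).toMonoidHom) : Subgroup H) : Set H) = ⊥ ∧ Subgroup.centralizer ((Qb : Subgroup H) : Set H) ⊓ Subgroup.centralizer ((((Qb : Subgroup H).map (MulAut.conj (g : H)).toMonoidHom) : Subgroup H) : Set H) = ⊥ ∧ (Q ⊓ Subgroup.centralizer ((Q : Subgroup H) : Set H)) ⊓ (((Q : Subgroup H).map (MulAut.conj (g : H)).toMonoidHom) ⊓ Subgroup.centralizer ((((Q : Subgroup H).map (MulAut.conj (g : H)).toMonoidHom) : Subgroup H) : Set H)) = ⊥ ∧ (Qb ⊓ Subgroup.centralizer ((Qb : Subgroup H) : Set H)) ⊓ (((Qb : Subgroup H).map (MulAut.conj (g : H)).toMonoidHom)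 ⊓ Subgroup.centralizer ((((Qb : Subgroup H).map (MulAut.conj (g : H)).toMonoidHom) : Subgroup H) : Set H)) = ⊥) ∧ Subgroup.normalizer ((Q : Subgroup H) : Set H) = Subgroup.normalizer ((Qb : Subgroup H) : Set H) ∧ Cfsg.IsLarge Qb := by
  have hQb' : Qb = pCoreOf p (normalizer (Q : Set H)) := hQb
  have h1 : Q ≤ Qb := hQb' ▸ le_pCoreOf le_normalizer le_rfl hQp
  have h2 : normalizer (Q : Set H) = normalizer (Qb : Set H) := by
    refine le_antisymm (hQb' ▸ le_norm_pCoreOf _) ?_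
    exact (IsLarge_wc hL hQ1).norm_le (hQb' ▸ pCoreOf_isPGroup _) h1
  refine ⟨fun g hg => ?_, h2, (cent_anti h1).trans (hL.1.trans h1),
    fun U hU hne => h2 ▸ hL.2 U (hU.trans (cent_anti h1)) hne⟩
  have h3 : centralizer (Q : Set H) ⊓ centralizer (cj g Q : Set H) = ⊥ := by
    by_contra h
    exact hg (IsLarge_mem_norm hL hQp hQ1 h)
  have h4 : centralizer (Qb : Set H) ⊓ centralizer (cj g Qb : Set H) = ⊥ :=
    le_bot_iff.1 ((inf_le_inf (cent_anti h1) (cent_anti (cj_mono g h1))).trans h3.le)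
  exact ⟨h3, h4, le_bot_iff.1 ((inf_le_inf inf_le_right inf_le_right).trans h3.le),
    le_bot_iff.1 ((inf_le_inf inf_le_right inf_le_right).trans h4.le)⟩

end Cfsg.Agent.S2844
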