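import Cfsg.Statements.S2850
import Cfsg.Agent.H70.FrakM

set_option autoImplicit false
open Cfsg

namespace Cfsg.Agent.S2850

open Subgroup Cfsg.Agent.H70 Cfsg.Agent.H92
open scoped commutatorElement

/-- Standing hypotheses: G a finite group, S a Sylow p-subgroup, Q a nontrivial large p-subgroup of G contained in S (C_G(Q) ≤ Q and N_G(U) ≤ N_G(Q) for all nontrivial U ≤ C_G(Q)), and M a subgroup containing S with the basic property (M ∈ 𝔐_G(S)); Y_M denotes the largest p-reduced normal subgroup of M and M† = M·C_G(Y_M). Suppose Y_M is asymmetric in G. Then N_G(L) ≤ N_G(O_p(M)) ≤ M† for every p-subgroup L containing O_p(M); O_p(M) is a weakly closed subgroup of G; for every subgroup L containing O_p(M), L ∩ M† contains a Sylow p-subgroup of L; and two elements of Y_M conjugate in G are conjugate in M. -/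
theorem result {G : Type*} [Group G] [Finite G] {p : ℕ} [Fact p.Prime] (S : Sylow p G) (Q : Subgroup G) (hQp : IsPGroup p ↥Q) (hQ1 : Q ≠ ⊥) (hQS : Q ≤ (S : Subgroup G)) (hQ : Cfsg.IsLarge Q) (M : Subgroup G) (hSM : (S : Subgroup G) ≤ M) (hM : Cfsg.IsInFrakM p M) (hasym : ¬ Cfsg.IsSymmetricIn (Cfsg.largestPReducedOf p M)) : (∀ L : Subgroup G, IsPGroup p ↥L → (Cfsg.pCoreOf p M) ≤ L → Subgroup.normalizer ((L : Subgroup G) : Set G) ≤ Subgroup.normalizer (((Cfsg.pCoreOf p M) : Subgroup G) : Set G) ∧ Subgroup.normalizer (((Cfsg.pCoreOf p M) : Subgroup G) : Set G) ≤ (M ⊔ Subgroup.centralizer (((Cfsg.largestPReducedOf p M) : Subgroup G) : Set G))) ∧ Cfsg.IsWeaklyClosedSubgroup p (Cfsg.pCoreOf p M) ∧ (∀ L : Subgroup G, (Cfsg.pCoreOf p M) ≤ L → Cfsg.IsParabolic p ((L ⊓ (M ⊔ Subgroup.centralizer (((Cfsg.largestPReducedOf p M) : Subgroup G) : Set G))).subgroupOf L)) ∧ (∀ x ∈ (Cfsg.largestPReducedOf p M), ∀ g : G, g * x * g⁻¹ ∈ (Cfsg.largestPReducedOf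 p M) → ∃ m ∈ M, m * x * m⁻¹ = g * x * g⁻¹) := by
  have h := fm_of hQp hQ1 hQ hSM hM
  have hw := h.wc hasym
  have hA := pCoreOf_isPGroup (p := p) M
  have h1 : normalizer (pCoreOf p M : Set G) ≤ dag p M := h.norm_core_le.trans h.norm_Y.le
  refine ⟨fun L hL hAL => ⟨hw.norm_le hL hAL, h1⟩, hw.isWeaklyClosedSubgroup hA,
    fun L hAL => ?_, fun x hx g hg => ?_⟩
  · obtain ⟨T, hT, h2⟩ := exists_sylIn_ge hAL hA
    exact ⟨hT.toSylow, comap_mono (le_inf hT.le ((hw.le_norm hT.pgroup h2).trans h1))⟩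
  · have h2 := h.core_sylIn.le
    obtain ⟨k, hk, e⟩ := hw.exists_cj_eq hA (K := centralizer (zpowers (g * x * g⁻¹) : Set G))
      (h2.trans (cent_anti (zpowers_le.2 hg))) (g := g) (by
        refine (cj_mono g (h2.trans (cent_anti (zpowers_le.2 hx)))).trans ?_
        rw [cj_centralizer, cj, MonoidHom.map_zpowers]
        exact le_rfl)
    rw [cj_eq_cj_iff] at e
    obtain ⟨m, hm, c, hc, e'⟩ := (mem_sup_of_norm (norm_centralizer (YL_pRed M).norm)).1 (h1 e)
    refine ⟨m, hm, ?_⟩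
    have e1 := mem_centralizer_iff.1 hc x hx
    have e2 := mem_centralizer_iff.1 hk _ (mem_zpowers _)
    have e3 : g = k * (m * c) := by rw [e']; group
    calc m * x * m⁻¹ = m * (x * c) * c⁻¹ * m⁻¹ := by group
      _ = k⁻¹ * (g * x * g⁻¹ * k) := by rw [e1, e3]; group
      _ = g * x * g⁻¹ := by rw [e2]; group

end Cfsg.Agent.S2850
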