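import Cfsg.Statements.S2851
import Cfsg.Agent.H70.FrakM
import Cfsg.Agent.H70.FStar

set_option autoImplicit false
open Cfsg

namespace Cfsg.Agent.S2851

open Subgroup Cfsg.Agent.H70 Cfsg.Agent.H92
open scoped commutatorElement

theorem aux {X X' : Type*} [Group X] [Group X'] [Finite X] [Finite X'] {p : ℕ} [Fact p.Prime]
    (f : X →* X') (hO : pCore p X' = ⊥) {R : Subgroup X}
    (hR : (generalizedFittingSubgroup X').comap f ≤ R) (hs : Function.Surjective f) :
    Red p f.ker R := by
  intro K hK hn hr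
  have hO' : pCoreOf p (⊤ : Subgroup X') = ⊥ := pCoreOf_top.trans hO
  have h1 : IsPGroup p (K.map f) := (isPGroup_map_iff f K).2 hr
  have h2 : H44.FSof (⊤ : Subgroup X') ≤ normalizer (K.map f : Set X') := by
    rw [H44.FSof_top, ← map_comap_eq_self_of_surjective hs (generalizedFittingSubgroup X')]
    exact (map_mono hR).trans (norm_map f hn)
  rw [← Subgroup.map_eq_bot_iff]
  refine eq_bot_of_cent_FSof hO' h1 le_top (comm_eq_bot_iff.1 (le_bot_iff.1 ?_))
  refine le_trans (le_pCoreOf (commutator_le_right_of_norm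
    (le_top.trans (H44.le_normalizer_FSof ⊤))) (normalizer_commutator_ge_right _ _)
    (h1.to_le (commutator_le_left_of_norm h2))) ((subn_FSof ⊤).pCoreOf_le.trans hO'.le)

/-- Standing hypotheses: G a finite group, S a Sylow p-subgroup, Q a nontrivial large p-subgroup of G contained in S, M a subgroup containing S with the basic property (M ∈ 𝔐_G(S)); Y_M the largest p-reduced normal subgroup of M and M† = M·C_G(Y_M). Let F be the preimage in M† of the generalized Fitting subgroup of M†/C_{M†}(Y_M). If Y_M is asymmetric in G and H is a subgroup of characteristic p containing F, then Y_M ≤ Y_H. -/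
theorem result {G : Type*} [Group G] [Finite G] {p : ℕ} [Fact p.Prime] (S : Sylow p G) (Q : Subgroup G) (hQp : IsPGroup p ↥Q) (hQ1 : Q ≠ ⊥) (hQS : Q ≤ (S : Subgroup G)) (hQ : Cfsg.IsLarge Q) (M : Subgroup G) (hSM : (S : Subgroup G) ≤ M) (hM : Cfsg.IsInFrakM p M) (hasym : ¬ Cfsg.IsSymmetricIn (Cfsg.largestPReducedOf p M)) [hn : ((Subgroup.centralizer (((Cfsg.largestPReducedOf p M) : Subgroup G) : Set G)).subgroupOf (M ⊔ Subgroup.centralizer (((Cfsg.largestPReducedOf p M) : Subgroup G) : Set G))).Normal] (F : Subgroup G) (hF : F = ((Cfsg.generalizedFittingSubgroup (↥(M ⊔ Subgroup.centralizer (((Cfsg.largestPReducedOf p M) : Subgroup G) : Set G)) ⧸ (Subgroup.centralizer (((Cfsg.largestPReducedOf p M) : Subgroup G) : Set G)).subgroupOf (M ⊔ Subgroup.centralizer (((Cfsg.largestPReducedOf p M) : Subgroup G) : Set G)))).comap (QuotientGroup.mk' ((Subgroup.centralizer (((Cfsg.largestPReducedOf p M) : Subgroup G) : Set G)).subgroupOf (M ⊔ Subgroup.centralizer (((Cfsg.largestPReducedOf p M) :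 Subgroup G) : Set G))))).map ((M ⊔ Subgroup.centralizer (((Cfsg.largestPReducedOf p M) : Subgroup G) : Set G))).subtype) (H : Subgroup G) (hFH : F ≤ H) (hH : Subgroup.centralizer (Cfsg.pCore p ↥H : Set ↥H) ≤ Cfsg.pCore p ↥H) : (Cfsg.largestPReducedOf p M) ≤ Cfsg.largestPReducedOf p H := by
  have h := fm_of hQp hQ1 hQ hSM hM
  have hw := h.wc hasym
  have hY : PRed p (largestPReducedOf p M) (dag p M) := h.frak.2.2.2.1 ▸ YL_pRed (dag p M)
  have hCF : centralizer (largestPReducedOf p M : Set G) ≤ F := by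
    rw [hF, ← subgroupOf_le_iff le_sup_right]
    exact (QuotientGroup.ker_mk' _).ge.trans (ker_le_comap _ _)
  have hAH : pCoreOf p M ≤ H := h.core_sylIn.le.trans (hCF.trans hFH)
  obtain ⟨T, hT, h2⟩ := exists_sylIn_ge hAH (pCoreOf_isPGroup M)
  have h3 : T ≤ H ⊓ dag p M :=
    le_inf hT.le ((hw.le_norm hT.pgroup h2).trans (h.norm_core_le.trans h.norm_Y.le))
  refine le_trans (PRed.le_YL ⟨(YL_pRed M).le_pCoreOf.trans (h2.trans h3),
    inf_le_right.trans hY.norm, hY.elem, ?_⟩) (YL_mono (isChar_iff.2 hH) hT h3 inf_le_left)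
  have h4 := aux (p := p) (QuotientGroup.mk' _) (red_iff.1 hY.red)
    (R := (H ⊓ dag p M).subgroupOf (dag p M))
    (map_subtype_le_iff.1 (hF ▸ le_inf hFH (hF ▸ map_subtype_le _)))
    (QuotientGroup.mk'_surjective _)
  rw [QuotientGroup.ker_mk'] at h4
  have h5 := h4.map_of_injective (dag p M).subtype (dag p M).subtype_injective
    (N' := centralizer (largestPReducedOf p M : Set G)) rfl
  rwa [map_subtype_subgroupOf inf_le_right] at h5

end Cfsg.Agent.S2851
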