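import Cfsg.Statements.S2852
import Cfsg.Agent.H70.FrakM

set_option autoImplicit false
open Cfsg

namespace Cfsg.Agent.S2852

open Subgroup Cfsg.Agent.H70 Cfsg.Agent.H92
open scoped commutatorElement

/-- Standing hypotheses: G a finite group, S a Sylow p-subgroup, Q a nontrivial large p-subgroup of G contained in S, M a subgroup containing S with the basic property (M ∈ 𝔐_G(S)); Y_M the largest p-reduced normal subgroup of M. If Y_M is char-p-tall and asymmetric in G, then some subgroup H of G lies in ℌ_G(O_p(M)): H has characteristic p, O_p(M) ≤ H, Y_M ≰ O_p(H), and Y_M ≤ O_p(P) for every proper subgroup P of H containing O_p(M). -/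
theorem result {G : Type*} [Group G] [Finite G] {p : ℕ} [Fact p.Prime] (S : Sylow p G) (Q : Subgroup G) (hQp : IsPGroup p ↥Q) (hQ1 : Q ≠ ⊥) (hQS : Q ≤ (S : Subgroup G)) (hQ : Cfsg.IsLarge Q) (M : Subgroup G) (hSM : (S : Subgroup G) ≤ M) (hM : Cfsg.IsInFrakM p M) (htall : Cfsg.IsCharPTall p (Cfsg.largestPReducedOf p M)) (hasym : ¬ Cfsg.IsSymmetricIn (Cfsg.largestPReducedOf p M)) : ∃ H : Subgroup G, Cfsg.IsInFrakH p M H := by
  have h := fm_of hQp hQ1 hQ hSM hM
  obtain ⟨T, L, h1, h2, h3⟩ := htall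
  obtain ⟨c, hc, e⟩ := sylIn_exists_cj_eq (sylIn_of_sylow T) h.core_sylIn
  have h4 : ¬ largestPReducedOf p M ≤ pCoreOf p (cj c L) := by
    rw [← cj_pCoreOf, le_cj_iff, cj_eq_self (centralizer_le_normalizer _ (inv_mem hc))]
    exact h3
  obtain ⟨H, ⟨h5, h6, h7⟩, hmin⟩ := Finite.to_wellFoundedLT.wf.has_min
    {H | pCoreOf p M ≤ H ∧ H ≤ cj c L ∧ ¬ largestPReducedOf p M ≤ pCoreOf p H}
    ⟨_, e ▸ cj_mono c h1, le_rfl, h4⟩
  refine ⟨H, isChar_iff.1 ((h.wc hasym).cent_pCoreOf (pCoreOf_isPGroup M) ((isChar_iff.2 h2).cj c)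
    (inf_le_right.trans h.cent_core) h5 h6).2.2.2, h5, h7, fun P hP hPH => ?_⟩
  by_contra h8
  exact hmin P ⟨hP, hPH.le.trans h6, h8⟩ hPH

end Cfsg.Agent.S2852
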