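import Cfsg.Statements.S2855
import Cfsg.Agent.H70.QSmod

set_option autoImplicit false
open Cfsg

namespace Cfsg.Agent.S2855

open Subgroup Cfsg.Agent.H70 Cfsg.Agent.H92
open scoped commutatorElement

theorem auxB {X : Type*} [Group X] [Finite X] {p : ℕ} [Fact p.Prime] (𝒦 : Set (Subgroup X))
    (hne : 𝒦.Nonempty) (hinv : ∀ h : X, ∀ E ∈ 𝒦, cj h E ∈ 𝒦)
    (htr : ∀ E ∈ 𝒦, ∀ K ∈ 𝒦, ∃ h : X, K = cj h E) (hres : pResidualOf p ⊤ ≤ sSup 𝒦)
    (hnorm : ∀ E ∈ 𝒦, sSup 𝒦 ≤ normalizer (E : Set X)) (hO : pCoreOf p (⊤ : Subgroup X) = ⊥)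
    (h : ∀ E ∈ 𝒦, SIrr p E) : PIrr p (⊤ : Subgroup X) ∧
      ∀ E ∈ 𝒦, ∀ K ∈ 𝒦, pResidualOf p E = pResidualOf p K ∨ ⁅E, K⁆ = ⊥ := by
  have hR : (sSup 𝒦).Normal := normal_of_top_le_norm (le_norm_iff_cj.2 fun g _ =>
    cj_le_iff_le_cj_inv.2 (sSup_le fun E hE => cj_le_iff_le_cj_inv.1 (le_sSup (hinv g E hE))))
  have hs : ∀ E ∈ 𝒦, Subn E ⊤ := fun E hE =>
    .step (le_sSup hE) (hnorm E hE) (.of_norm le_top norm_of_normal)
  have hO' : ∀ E, Subn E (⊤ : Subgroup X) → pCoreOf p E = ⊥ := fun E hE =>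
    le_bot_iff.1 (hE.pCoreOf_le.trans hO.le)
  have k1 : ∀ E ∈ 𝒦, ∀ R N : Subgroup X, E ≤ R → E ≤ normalizer (N : Set X) → pCoreOf p R = ⊥ →
      ⁅E, N⁆ ≤ R ⊓ centralizer (R : Set X) → ⁅E, N⁆ = ⊥ := fun E hE R N h1 h2 h3 h4 => by
    obtain ⟨T, hT⟩ := exists_sylIn p E
    rw [← (h E hE).pIrr.ncl_sylIn hT, comm_eq_bot_iff']
    exact le_cent_ncl h2 (comm_eq_bot_iff'.1 (comm_eq_bot_of_central h3 hT.pgroup (hT.le.trans h1)
      ((commutator_mono hT.le le_rfl).trans h4)))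
  have k2 : ∀ E ∈ 𝒦, ∀ N : Subgroup X, N ≤ sSup 𝒦 → E ≤ normalizer (N : Set X) →
      pResidualOf p E ≤ N ∨ ⁅E, N⁆ = ⊥ := fun E hE N h1 h2 => by
    by_cases h3 : ⁅E ⊓ N, E⁆ ≤ pCoreOf p E
    · right
      rw [hO' E (hs E hE), comm_le_bot_iff] at h3
      have h4 : ⁅E, N⁆ ≤ E := commutator_le_left_of_norm (h1.trans (hnorm E hE))
      exact k1 E hE E N le_rfl h2 (hO' E (hs E hE))
        (le_inf h4 ((le_inf h4 (commutator_le_right_of_norm h2)).trans h3))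
    · exact Or.inl (((h E hE).res _ inf_le_left (norm_inf le_normalizer h2) h3).trans inf_le_right)
  refine ⟨⟨fun hc => ?_, fun N _ hn hc => ?_⟩, fun E hE K hK => ?_⟩
  · obtain ⟨E, hE⟩ := hne
    exact (h E hE).ncl (IsPClosed_mono hc le_top)
  · have hN := normal_of_top_le_norm hn
    by_cases h1 : ∃ E ∈ 𝒦, pResidualOf p E ≤ N
    · obtain ⟨E, hE, h1⟩ := h1
      obtain ⟨Q, _, _, f, hs', hk⟩ := exists_quot N
      refine pRes_le_trans hres (hk ▸ (isPGroup_map_iff f _).1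
        ((pCoreOf_isPGroup ⊤).to_le (map_le_iff_le_comap.2 (sSup_le fun K hK =>
          map_le_iff_le_comap.1 ?_))))
      obtain ⟨g, rfl⟩ := htr E hE K hK
      have h2 := (hs _ hK).map f
      rw [map_top_of_surjective f hs'] at h2
      refine h2.le_pCoreOf ((isPGroup_map_iff f _).2 ?_)
      rw [hk, ← cj_pRes]
      exact cj_le_of_mem_norm (hn (mem_top g)) h1
    · push Not at h1
      have h2 : N ⊓ sSup 𝒦 ≤ centralizer ((sSup 𝒦 : Subgroup X) : Set X) :=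
        cent_comm.1 (sSup_le fun E hE => comm_eq_bot_iff.1 ((k2 E hE _ inf_le_right
          norm_of_normal).resolve_left fun h3 => h1 E hE (h3.trans inf_le_left)))
      have h3 : sSup 𝒦 ≤ centralizer (N : Set X) := sSup_le fun E hE => by
        have h4 : ⁅E, N⁆ ≤ N ⊓ sSup 𝒦 := le_inf (commutator_le_right _ _)
          ((commutator_mono (le_sSup hE) le_rfl).trans (commutator_le_left _ _))
        exact comm_eq_bot_iff.1 (k1 E hE _ N (le_sSup hE) norm_of_normal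
          (hO' _ (.of_norm le_top norm_of_normal)) (le_inf (h4.trans inf_le_right) (h4.trans h2)))
      obtain ⟨T, hT⟩ := exists_sylIn p N
      exact absurd (isPClosed_of_sylIn_norm hT ((pRes_sup_sylIn hT).ge.trans (sup_le
        (norm_of_cent (((pRes_mono le_top).trans (hres.trans h3)).trans (cent_anti hT.le)))
        le_normalizer))) hc
  · refine (k2 E hE K (le_sSup hK) ((le_sSup hE).trans (hnorm K hK))).imp_left fun h1 => ?_
    obtain ⟨g, rfl⟩ := htr E hE K hK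
    have h2 := pRes_le_pRes_of_le h1
    rw [← cj_pRes] at h2 ⊢
    have h3 : g⁻¹ ∈ normalizer ((pResidualOf p E : Subgroup X) : Set X) :=
      mem_normalizer_of_cj_le (cj_le_iff_le_cj_inv.2 (by rwa [inv_inv]))
    exact (cj_eq_self ((normalizer _).inv_mem_iff.1 h3)).symm

/-- Let H be a finite group, p a prime, and 𝒦 a nonempty set of subgroups of H permuted transitively by conjugation, with R the subgroup generated by the members of 𝒦. Suppose O^p(H) ≤ R, each E ∈ 𝒦 has E·O_p(H) normal in R·O_p(H), and each E ∈ 𝒦 is p-minimal (generated by the conjugates of a Sylow p-subgroup T_E of E, with T_E in exactly one maximal subgroup of E). Then H is p-minimal in the same sense. If instead each E ∈ 𝒦 is strongly p-irreducible, then H is p-irreducible and, for E, K ∈ 𝒦, either O^p(E·O_p(H)) = O^p(K·O_p(H)) or [E, K] ≤ O_p(H). -/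
theorem result {H : Type*} [Group H] [Finite H] {p : ℕ} [Fact p.Prime] (𝒦 : Set (Subgroup H)) (hne : 𝒦.Nonempty) (hinv : ∀ h : H, ∀ E ∈ 𝒦, E.map (MulAut.conj h).toMonoidHom ∈ 𝒦) (htr : ∀ E ∈ 𝒦, ∀ K ∈ 𝒦, ∃ h : H, K = E.map (MulAut.conj h).toMonoidHom) (hres : Cfsg.pResidual p H ≤ sSup 𝒦) (hnorm : ∀ E ∈ 𝒦, sSup 𝒦 ⊔ Cfsg.pCore p H ≤ Subgroup.normalizer ((E ⊔ Cfsg.pCore p H : Subgroup H) : Set H)) : ((∀ E ∈ 𝒦, ∀ T : Sylow p ↥E, Cfsg.IsMinimalOver (T : Subgroup ↥E)) → ∀ T : Sylow p H, Cfsg.IsMinimalOver (T : Subgroup H)) ∧ ((∀ E ∈ 𝒦, Cfsg.IsStronglyPIrreducible p ↥E) → Cfsg.IsPIrreducible p H ∧ ∀ E ∈ 𝒦, ∀ K ∈ 𝒦, (Cfsg.pResidual p ↥(E ⊔ Cfsg.pCore p H)).map (E ⊔ Cfsg.pCore p H).subtype = (Cfsg.pResidual p ↥(K ⊔ Cfsg.pCore p H)).map (K ⊔ Cfsg.pCore p H).subtype ∨ ⁅E, K⁆ ≤ Cfsg.pCore p H) := by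
  rw [← pRes_top] at hres
  rw [← pCoreOf_top] at hnorm ⊢
  set O := pCoreOf p (⊤ : Subgroup H) with hO
  have hOp : IsPGroup p O := pCoreOf_isPGroup _
  have hOn : O.Normal := normal_of_top_le_norm (le_norm_pCoreOf ⊤)
  have hR : (sSup 𝒦).Normal := normal_of_top_le_norm (le_norm_iff_cj.2 fun g _ =>
    cj_le_iff_le_cj_inv.2 (sSup_le fun E hE => cj_le_iff_le_cj_inv.1 (le_sSup (hinv g E hE))))
  have hcj : ∀ (g : H) (E : Subgroup H), cj g (E ⊔ O) = cj g E ⊔ O := fun g E => by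
    rw [cj_sup, cj_eq_self (le_norm_pCoreOf ⊤ (mem_top g))]
  constructor
  · intro h T
    have hT := sylIn_top T
    have hs : ∀ E ∈ 𝒦, SylIn p ((T : Subgroup H) ⊓ (E ⊔ O)) (E ⊔ O) := fun E hE =>
      sylIn_inf_subn hT (.step (sup_le_sup_right (le_sSup hE) _) (hnorm E hE)
        (.of_norm le_top norm_of_normal))
    have hm : ∀ E ∈ 𝒦, ∃ L₀, MinOver ((T : Subgroup H) ⊓ (E ⊔ O)) (E ⊔ O) L₀ := fun E hE => by
      obtain ⟨T', hT'⟩ := exists_sylIn p E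
      obtain ⟨L₀, h1⟩ := exists_minOver hT'.le (h E hE hT'.toSylow)
      exact (h1.sup_of_isPGroup hT'.pgroup hOp norm_of_normal).exists_of_sylIn
        (isPGroup_sup_of_norm hT'.pgroup hOp norm_of_normal) (hs E hE)
    have htop : sSup 𝒦 ⊔ (T : Subgroup H) = ⊤ := eq_top_iff.2 (sup_sylIn_of_pRes_le hT hres)
    set D : Subgroup H := (sSup 𝒦 ⊔ O) ⊓ ⨅ E ∈ 𝒦, ⨅ L₀ : Subgroup H,
      ⨅ _ : MinOver ((T : Subgroup H) ⊓ (E ⊔ O)) (E ⊔ O) L₀, normalizer (L₀ : Set H) with hD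
    have hDm : ∀ x, x ∈ D ↔ x ∈ sSup 𝒦 ⊔ O ∧ ∀ E ∈ 𝒦, ∀ L₀,
        MinOver ((T : Subgroup H) ⊓ (E ⊔ O)) (E ⊔ O) L₀ → x ∈ normalizer (L₀ : Set H) := by
      intro x; simp only [hD, mem_inf, mem_iInf]
    have hTD : (T : Subgroup H) ≤ normalizer (D : Set H) := by
      refine le_norm_iff_cj.2 fun t ht => cj_le_iff.2 fun x hx => (hDm _).2
        ⟨Normal.conj_mem inferInstance _ ((hDm _).1 hx).1 t, fun E hE L₀ h1 => ?_⟩
      have h2 := h1.cj t⁻¹
      rw [cj_inf, cj_eq_self_of_mem (inv_mem ht), hcj] at h2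
      have h3 := ((hDm _).1 hx).2 _ (hinv t⁻¹ E hE) _ h2
      rw [← cj_normalizer, mem_cj] at h3
      simpa using h3
    refine MinOver.isMinimalOver (L₀ := D ⊔ T) ⟨le_sup_right, lt_top_iff_ne_top.2 fun e => ?_,
      eq_top_iff.2 (htop.ge.trans (sup_le (sSup_le fun E hE => ?_) (le_ncl _ _))),
      fun M h1 h2 => ?_⟩
    · obtain ⟨E, hE⟩ := hne
      obtain ⟨L₀, h1⟩ := hm E hE
      refine h1.lt.not_ge ((pRes_sup_sylIn (hs E hE)).ge.trans (sup_le ?_ h1.le))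
      refine le_trans (le_inf (pRes_le _) fun x hx => ((hDm x).1 ((pRes_mono (le_top.trans e.ge)).trans
        (pRes_sup_le_of_isPGroup hT.pgroup hTD) hx)).2 E hE L₀ h1) (h1.inf_norm_le h1.le le_rfl)
    · obtain ⟨L₀, h1⟩ := hm E hE
      exact le_sup_left.trans (h1.gen.ge.trans (ncl_mono inf_le_left le_top))
    · have h3 : ∀ E ∈ 𝒦, ¬ E ⊔ O ≤ M := fun E hE h3 => by
        refine h2.not_ge (htop.ge.trans (sup_le (sSup_le fun K hK => ?_) h1))
        obtain ⟨g, rfl⟩ := htr E hE K hK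
        obtain ⟨t, ht, r, hr, rfl⟩ := mem_sup_of_normal_right.1
          (((sup_comm _ _).trans htop).ge (mem_top g))
        refine (cj_mono _ (le_sup_left : E ≤ E ⊔ O)).trans ?_
        rw [cj_mul, cj_eq_self (hnorm E hE (mem_sup_left hr))]
        exact cj_le_of_mem (h1 ht) h3
      have h4 : M = (T : Subgroup H) ⊔ ((sSup 𝒦 ⊔ O) ⊓ M) := by
        rw [← sup_inf_of_norm norm_of_normal h1, ← sup_assoc, sup_comm _ (sSup 𝒦), htop,
          top_sup_eq, top_inf_eq]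
      rw [h4]
      refine sup_le le_sup_right (le_trans (fun x hx => (hDm x).2 ⟨hx.1, fun E hE L₀ h5 => ?_⟩)
        le_sup_left)
      have h6 := h5.cj x
      rw [cj_eq_self (hnorm E hE hx.1)] at h6
      have h7 : M ⊓ (E ⊔ O) ≤ L₀ := h5.uniq _ (inf_le_inf_right _ h1) (inf_lt_right.2 (h3 E hE))
      refine inv_mem_iff.1 (mem_normalizer_of_cj_le (le_cj_iff.1 (h6.uniq _ (le_trans ?_ h7) h5.lt)))
      exact le_inf (cj_le_of_mem hx.2 (inf_le_left.trans h1)) h6.le'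
  · intro h
    obtain ⟨Q, _, _, f, hs, hk⟩ := exists_quot O
    have hkp : IsPGroup p f.ker := hk ▸ hOp
    have e1 : sSup (map f '' 𝒦) = (sSup 𝒦).map f := by
      rw [sSup_image, (gc_map_comap f).l_sSup]
    have e2 : ∀ E : Subgroup H, (E ⊔ O).map f = E.map f := fun E => by
      rw [Subgroup.map_sup, (Subgroup.map_eq_bot_iff O).2 hk.ge, sup_bot_eq]
    have hmt := map_top_of_surjective f hs
    obtain ⟨h1, h2⟩ := auxB (p := p) (map f '' 𝒦) (hne.image _) (by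
        rintro g _ ⟨E, hE, rfl⟩
        obtain ⟨g, rfl⟩ := hs g
        exact ⟨_, hinv g E hE, map_cj f g E⟩) (by
        rintro _ ⟨E, hE, rfl⟩ _ ⟨K, hK, rfl⟩
        obtain ⟨g, rfl⟩ := htr E hE K hK
        exact ⟨f g, map_cj f g E⟩) (by rw [e1, ← hmt, ← map_pRes]; exact map_mono hres) (by
        rintro _ ⟨E, hE, rfl⟩
        rw [e1, ← e2, ← e2 E]
        exact norm_map f (hnorm E hE)) (by
        rw [← hmt, ← map_pCoreOf_of_ker f ⊤ hkp.to_inf_left, Subgroup.map_eq_bot_iff, hk]) (by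
        rintro _ ⟨E, hE, rfl⟩
        exact (sIrr_of (h E hE)).map f hkp)
    rw [← hmt, pIrr_map_iff f hkp le_top] at h1
    refine ⟨pIrr_top_iff.1 h1, fun E hE K hK => (h2 _ ⟨E, hE, rfl⟩ _ ⟨K, hK, rfl⟩).imp
      (fun h3 => ?_) fun h3 => ?_⟩
    · rw [pRes_def, pRes_def]
      rw [← e2 E, ← e2 K] at h3
      have k : ∀ E K : Subgroup H, pResidualOf p ((E ⊔ O).map f) = pResidualOf p ((K ⊔ O).map f) →
          pResidualOf p (E ⊔ O) ≤ pResidualOf p (K ⊔ O) := fun E K h4 =>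
        (pRes_map_le_map_iff f hkp (hk.le.trans (le_sup_right.trans (le_norm_pRes _)))).1
          (by rw [map_pRes, h4])
      exact le_antisymm (k E K h3) (k K E h3.symm)
    · rwa [← Subgroup.map_commutator, Subgroup.map_eq_bot_iff, hk] at h3

end Cfsg.Agent.S2855
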