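import Cfsg.Statements.S2859
import Cfsg.Agent.H70.QSmod

set_option autoImplicit false
open Cfsg

namespace Cfsg.Agent.S2859

open Subgroup Cfsg.Agent.H70 Cfsg.Agent.H92
open scoped commutatorElement

theorem auxA {X : Type*} [Group X] [Finite X] {p : ℕ} [Fact p.Prime] {Q R H₁ H₂ : Subgroup X}
    (hQ : IsPGroup p Q) (hQR : Q ≤ R) (hgen : ncl Q R = R) (hO : pCoreOf p R = ⊥)
    (h₁ : R ≤ normalizer (H₁ : Set X)) (h₂ : R ≤ normalizer (H₂ : Set X)) (e : H₁ ⊔ H₂ = R)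
    (hc : ⁅H₁, H₂⁆ ≤ centralizer (R : Set X)) : ⁅H₁, H₂⁆ = ⊥ := by
  have l₁ : H₁ ≤ R := le_sup_left.trans e.le
  have l₂ : H₂ ≤ R := le_sup_right.trans e.le
  have hc' : ⁅H₁, H₂⁆ ≤ R ⊓ centralizer (R : Set X) :=
    le_inf ((commutator_le_left_of_norm (l₂.trans h₁)).trans l₁) hc
  obtain ⟨T, hT, hQT⟩ := exists_sylIn_ge hQR hQ
  have h3 := inf_sup_eq_of_sylIn (l₁.trans h₂) hT.pgroup (hT.inf_normal' l₁ h₁)
  rw [e, inf_eq_left.2 hT.le] at h3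
  have h4 : R ≤ (H₁ ⊓ centralizer (H₂ : Set X)) ⊔ (H₂ ⊓ centralizer (H₁ : Set X)) := by
    refine hgen.ge.trans (ncl_le (hQT.trans (h3.le.trans (sup_le_sup (le_inf inf_le_right ?_)
      (le_inf inf_le_right ?_)))) (norm_sup (norm_inf h₁ (norm_centralizer h₂))
        (norm_inf h₂ (norm_centralizer h₁))))
    · exact comm_eq_bot_iff.1 (comm_eq_bot_of_central hO hT.pgroup.to_inf_left
        (inf_le_left.trans hT.le) ((commutator_mono inf_le_right le_rfl).trans hc'))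
    · exact comm_eq_bot_iff.1 (comm_eq_bot_of_central hO hT.pgroup.to_inf_left
        (inf_le_left.trans hT.le) ((commutator_mono inf_le_right le_rfl).trans
          ((commutator_comm _ _).le.trans hc')))
  rw [comm_eq_bot_iff]
  refine le_trans (le_inf (l₁.trans h4) le_rfl) ?_
  rw [sup_inf_of_norm ((inf_le_left.trans l₁).trans (norm_inf h₂ (norm_centralizer h₁)))
    inf_le_left]
  refine sup_le inf_le_right (le_trans ?_ (cent_anti (l₂.trans h4)))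
  rw [cent_sup]
  exact le_inf ((inf_le_left.trans inf_le_left).trans (cent_comm.1 inf_le_right))
    (inf_le_right.trans (cent_comm.1 inf_le_right))

theorem auxB {G : Type*} [Group G] [Finite G] {p : ℕ} [Fact p.Prime] {Q R H₁ H₂ : Subgroup G}
    (hQ : IsPGroup p Q) (hw : WC p Q) (hQR : Q ≤ R)
    (h₁ : R ≤ normalizer (H₁ : Set G)) (e : H₁ ⊔ H₂ = R) (hc : ⁅H₁, H₂⁆ ≤ pCoreOf p R)
    {K : Subgroup G} (hK : K = pResidualOf p (weakClosure Q (H₁ ⊔ Q))) :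
    (⁅K, Q⁆ = K ∧ ⁅K, H₁⁆ = K ∧ K ≤ ⁅H₁, H₁⁆ ∧ R ≤ normalizer (K : Set G)) ∧ K ≤ H₁ ∧
      H₁ ≤ normalizer ((K ⊔ Q : Subgroup G) : Set G) := by
  have l₁ : H₁ ≤ R := le_sup_left.trans e.le
  obtain ⟨h3, h4⟩ := hw.pRes_wcl hQ (le_sup_right : Q ≤ H₁ ⊔ Q)
  rw [← hK] at h3 h4
  have h5 : K ≤ H₁ := hK ▸ (pRes_mono (wcl_le _ _)).trans
    (pRes_sup_le_of_isPGroup hQ (hQR.trans h₁))
  have hO := pCoreOf_isPGroup (p := p) R
  have h6 : pCoreOf p R ≤ normalizer (K : Set G) := hK ▸ norm_pRes (norm_wcl Q (norm_sup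
    ((pCoreOf_le R).trans h₁) (hw.le_norm_of_norm hQ hO (hQR.trans (le_norm_pCoreOf R)))))
  have h7 : H₁ ≤ normalizer (K : Set G) := hK ▸ norm_pRes (norm_wcl Q (norm_of_le le_sup_left))
  have hKK : pResidualOf p K = K := by rw [hK, pRes_pRes]
  have h8 : R ≤ normalizer (K : Set G) := by
    refine e.ge.trans (sup_le h7 ?_)
    rw [← hKK, ← pRes_sup_eq_of_isPGroup hO h6]
    refine norm_pRes (norm_of_commutator_le (le_trans (comm_sup_le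
      ((h5.trans l₁).trans (le_norm_pCoreOf R)) le_normalizer
      ((commutator_mono h5 le_rfl).trans hc) (commutator_le_left_of_norm
        ((le_sup_right.trans e.le).trans (le_norm_pCoreOf R)))) le_sup_right))
  have h9 : ⁅K, H₁⁆ = K := by
    refine le_antisymm (commutator_le_left_of_norm h7) ?_
    have hn : R ≤ normalizer ((⁅K, H₁⁆ ⊔ pCoreOf p R : Subgroup G) : Set G) :=
      norm_sup (norm_commutator h8 h₁) (le_norm_pCoreOf R)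
    have h10 : K ≤ ⁅K, H₁⁆ ⊔ pCoreOf p R :=
      h3.ge.trans ((commutator_mono le_rfl (hQR.trans e.ge)).trans (comm_sup_le' (l₁.trans hn)
        ((le_sup_right.trans e.le).trans hn) le_sup_left
        (((commutator_mono h5 le_rfl).trans hc).trans le_sup_right)))
    exact hKK.ge.trans ((pRes_mono h10).trans (pRes_sup_le_of_isPGroup hO
      ((pCoreOf_le R).trans (norm_commutator h8 h₁))))
  exact ⟨⟨h3, h9, h9.ge.trans (commutator_mono h5 le_rfl), h8⟩, h5,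
    h4 ▸ norm_wcl Q (norm_of_le le_sup_left)⟩

/-- Let Q be a nontrivial p-subgroup of the finite group H that is a weakly closed subgroup, H° the weak closure of Q in H (generated by the conjugates of Q) and H_∘ = O^p(H°). Suppose H₁, H₂ are normal subgroups of H° with H° = H₁H₂ and [H₁, H₂] ≤ N_H(Q), and put Kᵢ = O^p of the weak closure of Q in HᵢQ. Then for i = 1, 2: Kᵢ = [Kᵢ, Q] = [Kᵢ, Hᵢ] ≤ Hᵢ′ and Kᵢ is normal in H°; H_∘ = K₁K₂; and [K₁, K₂] ≤ O_p(H°). -/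
theorem result {G : Type*} [Group G] [Finite G] {p : ℕ} [Fact p.Prime] (Q : Subgroup G) (hQp : IsPGroup p ↥Q) (hQ1 : Q ≠ ⊥) (hwc : Cfsg.IsWeaklyClosedSubgroup p Q) (Hc : Subgroup G) (hHc : Hc = Cfsg.weakClosure Q ⊤) (H₁ H₂ : Subgroup G) (hn₁ : H₁ ≤ Hc ∧ Hc ≤ Subgroup.normalizer ((H₁ : Subgroup G) : Set G)) (hn₂ : H₂ ≤ Hc ∧ Hc ≤ Subgroup.normalizer ((H₂ : Subgroup G) : Set G)) (hprod : H₁ ⊔ H₂ = Hc) (hcomm : ⁅H₁, H₂⁆ ≤ Subgroup.normalizer ((Q : Subgroup G) : Set G)) (K₁ K₂ : Subgroup G) (hK₁ : K₁ = ((Cfsg.pResidual p ↥(Cfsg.weakClosure Q (H₁ ⊔ Q))).map ((Cfsg.weakClosure Q (H₁ ⊔ Q))).subtype)) (hK₂ : K₂ = ((Cfsg.pResidual p ↥(Cfsg.weakClosure Q (H₂ ⊔ Q))).map ((Cfsg.weakClosure Q (H₂ ⊔ Q))).subtype)) : (⁅K₁, Q⁆ = K₁ ∧ ⁅K₁, H₁⁆ = K₁ ∧ K₁ ≤ ⁅H₁, H₁⁆ ∧ Hc ≤ Subgroup.normalizer ((K₁ : Subgroup G) : Set G)) ∧ (⁅K₂, Q⁆ = K₂ ∧ ⁅K₂, H₂⁆ = K₂ ∧ K₂ ≤ ⁅H₂, H₂⁆ ∧ Hc ≤ Subgroup.normalizer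 ((K₂ : Subgroup G) : Set G)) ∧ K₁ ⊔ K₂ = ((Cfsg.pResidual p ↥Hc).map (Hc).subtype) ∧ ⁅K₁, K₂⁆ ≤ (Cfsg.pCoreOf p Hc) := by
  have hw := wc_of_isWeaklyClosedSubgroup hwc
  have hQR : Q ≤ Hc := hHc ▸ le_wcl le_top
  have hgen : ncl Q Hc = Hc := hHc ▸ hw.wcl_wcl hQp le_top
  have hn : (pCoreOf p Hc).Normal :=
    normal_of_top_le_norm (norm_pCoreOf (hHc ▸ norm_wcl Q le_normalizer))
  have hD : Hc ≤ normalizer ((⁅H₁, H₂⁆ : Subgroup G) : Set G) := norm_commutator hn₁.2 hn₂.2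
  have hDl : ⁅H₁, H₂⁆ ≤ Hc := (commutator_le_left_of_norm (hn₂.1.trans hn₁.2)).trans hn₁.1
  have h1 : ⁅Hc, ⁅H₁, H₂⁆⁆ ≤ pCoreOf p Hc := by
    conv_lhs => rw [← hgen]
    refine comm_ncl_le hD norm_of_normal norm_of_normal (le_trans (le_pCoreOf
      (commutator_le_right_of_norm (hQR.trans hD)) (normalizer_commutator_ge_right _ _)
      (hQp.to_le (commutator_le_left_of_norm hcomm))) (pCoreOf_le_pCoreOf_of_norm hDl hD))
  have hc : ⁅H₁, H₂⁆ ≤ pCoreOf p Hc := by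
    obtain ⟨X, _, _, f, -, hk⟩ := exists_quot (pCoreOf p Hc)
    rw [← hk, ← Subgroup.map_eq_bot_iff, Subgroup.map_commutator]
    refine auxA (hQp.map f) (map_mono hQR) (by rw [← map_ncl, hgen]) ?_ (norm_map f hn₁.2)
      (norm_map f hn₂.2) (by rw [← Subgroup.map_sup, hprod]) ?_
    · rw [← map_pCoreOf_of_ker f Hc (hk ▸ (pCoreOf_isPGroup Hc).to_inf_left),
        Subgroup.map_eq_bot_iff, hk]
    · rw [← comm_eq_bot_iff', ← Subgroup.map_commutator, ← Subgroup.map_commutator,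
        Subgroup.map_eq_bot_iff, hk]
      exact h1
  rw [pRes_def] at hK₁ hK₂ ⊢
  obtain ⟨a1, a2, a3⟩ := auxB hQp hw hQR hn₁.2 hprod hc hK₁
  obtain ⟨b1, b2, b3⟩ := auxB hQp hw hQR hn₂.2 ((sup_comm _ _).trans hprod)
    ((commutator_comm _ _).le.trans hc) hK₂
  refine ⟨a1, b1, le_antisymm (sup_le (hK₁ ▸ pRes_mono ((wcl_le _ _).trans (sup_le hn₁.1 hQR)))
    (hK₂ ▸ pRes_mono ((wcl_le _ _).trans (sup_le hn₂.1 hQR)))) ?_,
    (commutator_mono a2 b2).trans hc⟩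
  refine le_trans (pRes_mono (hgen.ge.trans (ncl_le le_sup_right ?_)))
    (pRes_sup_le_of_isPGroup hQp (hQR.trans (norm_sup a1.2.2.2 b1.2.2.2)))
  refine hprod.ge.trans (sup_le ?_ ?_)
  · rw [sup_right_comm]
    exact norm_sup a3 (hn₁.1.trans b1.2.2.2)
  · rw [sup_assoc]
    exact norm_sup (hn₂.1.trans a1.2.2.2) b3

end Cfsg.Agent.S2859
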