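import Cfsg.Statements.S2860
import Cfsg.Agent.H70.QSmod

set_option autoImplicit false
open Cfsg

namespace Cfsg.Agent.S2860

open Subgroup Cfsg.Agent.H70 Cfsg.Agent.H92
open scoped commutatorElement

/-- Let Q be a nontrivial large p-subgroup of the finite group H, U a nontrivial elementary abelian p-subgroup of H, and Q ≤ E ≤ N_H(U) with Q not normal in E. Suppose O_p(E/C_E(U)) = 1 and O^p(E)·C_E(U)/C_E(U) is quasisimple. Let E° be the weak closure of Q in E (generated by the conjugates of Q inside E) and E_∘ = O^p(E°). Then O^p(E)·C_E(U) = E_∘·C_E(U); E_∘ is perfect and equals O^p(E_∘); E_∘/C_{E_∘}(U) and E_∘/O_p(E_∘) are quasisimple; and E_∘ = [E_∘, Y] for every p-subgroup Y of E not centralizing U. -/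
theorem result {G : Type*} [Group G] [Finite G] {p : ℕ} [Fact p.Prime] (Q : Subgroup G) (hQp : IsPGroup p ↥Q) (hQ1 : Q ≠ ⊥) (hQ : Cfsg.IsLarge Q) (U : Subgroup G) (hU : Cfsg.IsElementaryAbelian p U) (hU1 : U ≠ ⊥) (E : Subgroup G) (hQE : Q ≤ E) (hEU : E ≤ Subgroup.normalizer ((U : Subgroup G) : Set G)) (hQn : ¬ E ≤ Subgroup.normalizer ((Q : Subgroup G) : Set G)) [hn : ((Subgroup.centralizer ((U : Subgroup G) : Set G)).subgroupOf E).Normal] (hred : Cfsg.pCore p (↥E ⧸ (Subgroup.centralizer ((U : Subgroup G) : Set G)).subgroupOf E) = ⊥) (hqs : Cfsg.IsQuasisimple ↥(((Cfsg.pResidual p ↥E) ⊔ (Subgroup.centralizer ((U : Subgroup G) : Set G)).subgroupOf E).map (QuotientGroup.mk' ((Subgroup.centralizer ((U : Subgroup G) : Set G)).subgroupOf E)))) (Er : Subgroup G) (hEr : Er = ((Cfsg.pResidual p ↥(Cfsg.weakClosure Q E)).map ((Cfsg.weakClosure Q E)).subtype)) [hn2 : ((Subgroup.centralizer ((U : Subgroup G) : Set G)).subgroupOf Er).Normal] : ((Cfsg.pResidual p ↥E).map (E).subtype)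 ⊔ (E ⊓ Subgroup.centralizer ((U : Subgroup G) : Set G)) = Er ⊔ (E ⊓ Subgroup.centralizer ((U : Subgroup G) : Set G)) ∧ ⁅Er, Er⁆ = Er ∧ ((Cfsg.pResidual p ↥Er).map (Er).subtype) = Er ∧ Cfsg.IsQuasisimple (↥Er ⧸ (Subgroup.centralizer ((U : Subgroup G) : Set G)).subgroupOf Er) ∧ Cfsg.IsQuasisimple (↥Er ⧸ Cfsg.pCore p ↥Er) ∧ ∀ Y : Subgroup G, Y ≤ E → IsPGroup p ↥Y → ¬ Y ≤ Subgroup.centralizer ((U : Subgroup G) : Set G) → ⁅Er, Y⁆ = Er := by
  have hw := IsLarge_wc (p := p) hQ hQ1
  have hUp := IsElementaryAbelian_isPGroup hU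
  rw [pRes_def] at hEr
  rw [pRes_def, pRes_def]
  set C := centralizer (U : Set G) with hC
  set K := pResidualOf p E with hK
  have hEC : E ≤ normalizer (C : Set G) := norm_centralizer hEU
  have hEC' : E ≤ normalizer ((E ⊓ C : Subgroup G) : Set G) := norm_inf le_normalizer hEC
  have hEK : E ≤ normalizer (K : Set G) := le_norm_pRes E
  have hKE : K ≤ E := pRes_le E
  have hred' : Red p C E := red_iff.2 hred
  have hq : QSmod K C := by
    rw [← H44.qs_iff, Subgroup.map_sup, (Subgroup.map_eq_bot_iff (C.subgroupOf E)).2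
      (QuotientGroup.ker_mk' _).ge, sup_bot_eq, qs_map_iff, QuotientGroup.ker_mk', subgroupOf,
      ← qsmod_map_iff _ E.subtype_injective] at hqs
    exact hqs
  have s1 : ∀ Y, Y ≤ E → IsPGroup p Y → ¬ Y ≤ C → K ≤ ⁅K, Y⁆ ⊔ (K ⊓ C) := by
    intro Y hYE hY hYC
    refine (hq.normal _ (commutator_le_left_of_norm (hYE.trans hEK))
      (normalizer_commutator_ge_left _ _)).resolve_right fun h => hYC ?_
    have h1 : ⁅K, Y⁆ ≤ C := (commutator_mono hq.perf le_rfl).trans (comm_sup_le
      (((commutator_le_left_of_norm le_normalizer).trans hKE).trans hEC)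
      ((inf_le_left.trans hKE).trans hEC)
      (three_subgroups (hKE.trans hEC) (hKE.trans hEC) (hYE.trans hEC) h
        (by rwa [commutator_comm Y]))
      ((commutator_mono inf_le_right le_rfl).trans (commutator_le_left_of_norm (hYE.trans hEC))))
    obtain ⟨T, hT, hYT⟩ := exists_sylIn_ge hYE hY
    have h2 : ncl Y T ≤ T := ncl_le_of_le hYT
    have h3 : ⁅ncl Y T, K⁆ ≤ E ⊓ C := le_inf ((commutator_le_right_of_norm
      ((h2.trans hT.le).trans hEK)).trans hKE) (comm_ncl_le (hT.le.trans hEK) (hT.le.trans hEC)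
        (hYE.trans hEC) (by rwa [commutator_comm]))
    refine ((le_ncl Y T).trans le_sup_right).trans (hred' (E ⊓ C ⊔ ncl Y T)
      (sup_le inf_le_left (h2.trans hT.le)) ?_ ((pRes_sup_le_of_isPGroup (hT.pgroup.to_le h2)
        ((h2.trans hT.le).trans hEC')).trans inf_le_right))
    refine (pRes_sup_sylIn hT).ge.trans (sup_le (norm_of_commutator_le (le_trans (comm_sup_le
      le_normalizer ((h2.trans hT.le).trans hEC') (commutator_le_left_of_norm (hKE.trans hEC')) h3)
      le_sup_left)) (norm_sup (hT.le.trans hEC') (le_norm_ncl Y T)))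
  have hQC : ¬ Q ≤ C := fun h => hQn (hEU.trans (hQ.2 U (cent_comm.1 h) hU1))
  obtain ⟨-, w2, w3⟩ := IsLarge_wcl_sup_cent hQ hQp hQ1 hQE hUp hU1 hEU
  obtain ⟨w4, -⟩ := hw.pRes_wcl hQp hQE
  rw [← hEr] at w4
  set W := weakClosure Q E with hW
  have hWE : W ≤ E := wcl_le Q E
  have hEW : E ≤ normalizer (W : Set G) := norm_wcl Q le_normalizer
  have hErW : Er ≤ W := hEr ▸ pRes_le W
  have hErK : Er ≤ K := hEr ▸ pRes_mono hWE
  have hErE : Er ≤ E := hErK.trans hKE
  have hEEr : E ≤ normalizer (Er : Set G) := hEr ▸ norm_pRes hEW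
  have hrr : pResidualOf p Er = Er := by rw [hEr, pRes_pRes]
  have s2 : K ≤ Er ⊔ (E ⊓ C) := by
    have h1 : K ≤ (E ⊓ C) ⊔ W := (s1 Q hQE hQp hQC).trans (sup_le (le_trans
      ((commutator_mono le_rfl (le_wcl hQE)).trans (commutator_le_right_of_norm (hKE.trans hEW)))
      le_sup_right) ((inf_le_inf_right _ hKE).trans le_sup_left))
    exact pRes_le_trans h1 (pRes_sup_le (hWE.trans hEC') (norm_of_le le_sup_right)
      ((pRes_le _).trans le_sup_right) (hEr.ge.trans le_sup_left))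
  have s3 : ⁅Er, Er⁆ = Er := by
    have h0 : ⁅Er, Er⁆ ≤ Er := commutator_le_left_of_norm le_normalizer
    have hn1 : E ≤ normalizer ((⁅Er, Er⁆ : Subgroup G) : Set G) := norm_commutator hEEr hEEr
    have hn2 : E ≤ normalizer ((⁅Er, Er⁆ ⊔ (E ⊓ C) : Subgroup G) : Set G) := norm_sup hn1 hEC'
    have h1 : Er ≤ ⁅Er, Er⁆ ⊔ (E ⊓ C) := by
      refine hErK.trans (hq.perf.trans (sup_le ((commutator_mono s2 s2).trans ?_)
        ((inf_le_inf_right _ hKE).trans le_sup_right)))
      refine comm_sup_le (hErE.trans hn2) (inf_le_left.trans hn2) (comm_sup_le' (hErE.trans hn2)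
        (inf_le_left.trans hn2) le_sup_left ((commutator_le_right_of_norm (hErE.trans hEC')).trans
          le_sup_right)) ((commutator_le_left_of_norm ((sup_le hErE inf_le_left).trans hEC')).trans
            le_sup_right)
    have hn3 : E ≤ normalizer ((⁅Er, Er⁆ ⊔ pCoreOf p W : Subgroup G) : Set G) :=
      norm_sup hn1 (norm_pCoreOf hEW)
    refine le_antisymm h0 (hrr.ge.trans (le_trans (pRes_mono (w4.ge.trans
      ((commutator_mono h1 le_rfl).trans (comm_sup_le ((h0.trans hErE).trans hn3)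
        (inf_le_left.trans hn3) ((commutator_le_left_of_norm (hQE.trans hn1)).trans le_sup_left)
        ?_)))) (pRes_sup_le_of_isPGroup (pCoreOf_isPGroup W)
          (((pCoreOf_le W).trans hWE).trans hn1))))
    rw [commutator_comm]
    exact ((commutator_mono (le_wcl hQE) inf_le_right).trans w2).trans le_sup_right
  have s4 : ⁅Er ⊓ C, Er⁆ ≤ pCoreOf p Er := by
    refine le_trans (le_inf ?_ ((commutator_mono inf_le_left le_rfl).trans s3.le))
      (pCoreOf_inf_le hErW)
    rw [commutator_comm]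
    exact (commutator_mono hErW inf_le_right).trans w2
  have s5 : ∀ X, X ≤ Er → Er ≤ normalizer (X : Set G) → Er ≤ X ⊔ (Er ⊓ C) → X = Er := by
    intro X h1 h2 h3
    have hn1 : Er ≤ normalizer ((X ⊔ pCoreOf p Er : Subgroup G) : Set G) :=
      norm_sup h2 (le_norm_pCoreOf Er)
    refine le_antisymm h1 (hrr.ge.trans (le_trans (pRes_mono (s3.ge.trans
      ((commutator_mono h3 le_rfl).trans (comm_sup_le (h1.trans hn1) (inf_le_left.trans hn1)
        ((commutator_le_left_of_norm h2).trans le_sup_left) (s4.trans le_sup_right)))))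
      (pRes_sup_le_of_isPGroup (pCoreOf_isPGroup Er) ((pCoreOf_le Er).trans h2))))
  have s6 : ∀ X, X ≤ Er → K ≤ X ⊔ (E ⊓ C) → Er ≤ X ⊔ (Er ⊓ C) := fun X h1 h2 => by
    refine le_trans (le_inf (hErK.trans h2) le_rfl) ?_
    rw [sup_inf_of_norm ((h1.trans hErE).trans hEC') h1]
    exact sup_le_sup_left (le_inf inf_le_right (inf_le_left.trans inf_le_right)) _
  have s7 : QSmod Er C := by
    refine ⟨fun h => hq.nle (s2.trans (sup_le h inf_le_right)), s3.ge.trans le_sup_left,
      fun N h1 h2 => (hq.normal ((N ⊔ (E ⊓ C)) ⊓ K) inf_le_right (norm_inf (s2.trans (sup_le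
        (norm_sup h2 (hErE.trans hEC')) (norm_of_le le_sup_right))) le_normalizer)).imp
        (fun h => s6 N h1 (h.trans (sup_le inf_le_left
          ((inf_le_inf_right _ hKE).trans le_sup_right)))) fun h => ?_⟩
    exact (commutator_mono (le_inf le_sup_left (h1.trans hErK)) hErK).trans h
  have s8 : QSmod Er (pCoreOf p Er) := by
    refine ⟨fun h => s7.nle (hrr.ge.trans (pRes_le_of_isPGroup ((pCoreOf_isPGroup Er).to_le h))),
      s3.ge.trans le_sup_left, fun N h1 h2 => (s7.normal N h1 h2).imp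
        (fun h => (s5 N h1 h2 h).ge.trans le_sup_left) fun h => ?_⟩
    have h3 : ⁅⁅N, Er⁆, Er⁆ ≤ pCoreOf p Er := (commutator_mono (le_inf
      ((commutator_le_left_of_norm h2).trans h1) h) le_rfl).trans s4
    have hn1 := le_norm_pCoreOf (p := p) Er
    rw [commutator_comm]
    exact (commutator_mono s3.ge le_rfl).trans (three_subgroups hn1 hn1 (h1.trans hn1)
      (by rwa [commutator_comm Er N]) h3)
  refine ⟨le_antisymm (sup_le s2 le_sup_right) (sup_le_sup_right hErK _), s3, hrr,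
    s7.isQuasisimple _ rfl, s8.isQuasisimple _ (subgroupOf_pCoreOf Er).symm,
    fun Y hYE hY hYC => ?_⟩
  have h1 : ⁅Er, Y⁆ ≤ Er := commutator_le_left_of_norm (hYE.trans hEEr)
  refine s5 _ h1 (normalizer_commutator_ge_left _ _) (s6 _ h1 ((s1 Y hYE hY hYC).trans
    (sup_le ((commutator_mono s2 le_rfl).trans (comm_sup_le (norm_sup
      (normalizer_commutator_ge_left _ _) (hErE.trans hEC')) (norm_of_le le_sup_right) le_sup_left
      ((commutator_le_left_of_norm (hYE.trans hEC')).trans le_sup_right)))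
      ((inf_le_inf_right _ hKE).trans le_sup_right))))

end Cfsg.Agent.S2860
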