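import Cfsg.Statements.S2861
import Cfsg.Agent.H59.FrakL2
import Cfsg.Agent.H49.Pi
import Cfsg.Agent.H69.PSLRankOne
-- import your own Cfsg.Agent.* helpers here

set_option autoImplicit false
open Cfsg

namespace Cfsg.Agent.S2861
open Subgroup Cfsg.Agent.H49 Cfsg.Agent.H59

variable {Γ : Type*} [Group Γ] {p : ℕ}

/-- `S` is the only non-trivial elementary abelian normal `p`-subgroup of its normalizer -/
def UN (p : ℕ) (S : Subgroup Γ) : Prop :=
  ∀ W : Subgroup Γ, W ≠ ⊥ → IsElementaryAbelian p W → W ≤ 𝒩(S) → 𝒩(S) ≤ 𝒩(W) → W = S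

theorem pg {W : Subgroup Γ} (h : IsElementaryAbelian p W) : IsPGroup p W :=
  fun g => ⟨1, Subtype.ext (by simpa using h.2 g g.2)⟩

theorem UN.of_cj {S : Subgroup Γ} {g : Γ} (h : UN p (cj g S)) : UN p S := fun W h1 h2 h3 h4 =>
  cj_injective g (h (cj g W) (by simpa using h1) ⟨isMulCommutative_cj.2 h2.1, fun x hx => by
    obtain ⟨y, hy, rfl⟩ := mem_cj'.1 hx
    rw [conj_pow, h2.2 y hy, mul_one, mul_inv_cancel]⟩
    (by rw [← cj_normalizer]; exact cj_mono g h3)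
    (by rw [← cj_normalizer, ← cj_normalizer]; exact cj_mono g h4))

theorem un_sl {F : Type*} [Field F] [Fintype F] [Fact p.Prime] [CharP F p] : UN p (H72.upS F) := by
  intro W h1 h2 h3 h4
  have hS : IsPGroup p (H72.upS F) := by
    rintro ⟨_, c, rfl⟩
    exact ⟨1, Subtype.ext (by simp [H69.up_pow, H69.up_zero])⟩
  obtain ⟨g, hg⟩ := exists_cj_le_upS (IsPGroup.to_sup_of_normal_right' (pg h2) hS h3)
  have e : H72.upS F = W ⊔ H72.upS F := eq_of_le_of_card_ge le_sup_right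
    ((card_cj g _).ge.trans (card_le_of_le hg))
  refine le_antisymm (le_sup_left.trans e.ge) ?_
  obtain ⟨x, hx, x1⟩ := ne_bot_iff_exists.1 h1
  obtain ⟨w, rfl⟩ := H72.mem_upS.1 (e.ge (mem_sup_left hx))
  have w0 : w ≠ 0 := fun e => x1 (H69.up_eq_one.2 e)
  have sq : ∀ a : F, H69.up (a ^ 2 * w) ∈ W := fun a => by
    by_cases ha : a = 0
    · simp [ha, H69.up_zero]
    rw [← H69.dg_conj_up a ha]
    refine conj_mem_of_norm le_rfl (h4 (zpowers_le.1 (le_norm_iff.2 ?_))) hx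
    intro y hy
    obtain ⟨k, rfl⟩ := mem_powers_iff_mem_zpowers.2 hy
    rintro _ ⟨c, rfl⟩
    induction k with
    | zero => simpa using H72.mem_upS.2 ⟨_, rfl⟩
    | succ k ih =>
      obtain ⟨d, hd⟩ := H72.mem_upS.1 (ih (pow_mem (mem_zpowers _) k))
      refine H72.mem_upS.2 ⟨a ^ 2 * d, ?_⟩
      rw [← H69.dg_conj_up a ha, hd]; group
  rintro _ ⟨c, rfl⟩
  change H69.up c.toAdd ∈ W
  generalize c.toAdd = c
  by_cases h : ringChar F = 2
  · obtain ⟨a, ha⟩ := FiniteField.isSquare_of_char_two h (c / w)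
    convert sq a using 2
    rw [pow_two, ← ha, div_mul_cancel₀ _ w0]
  · have h2 : (2 : F) ≠ 0 := Ring.two_ne_zero h
    have := mul_mem (sq ((c / w + 1) / 2)) (inv_mem (sq ((c / w - 1) / 2)))
    rw [← H69.up_neg, ← H69.up_add] at this
    convert this using 2
    field_simp; ring

theorem un_sz {F : Type*} [Field F] [Finite F] [H13.Tits F] (M : H13.Model Γ F) {S : Subgroup Γ}
    (hS : IsElementaryAbelian 2 S) (hc : Nat.card S = Nat.card F) : UN 2 S := by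
  intro W h1 h2 h3 h4
  haveI := M.finite
  obtain ⟨g, hg⟩ := M.exists_le_conj_U (IsPGroup.to_sup_of_normal_right' (pg h2) (pg hS) h3)
  set N := M.conj g
  have e : S = N.Z := eq_of_le_of_card_ge (fun x hx => N.mem_Z_of_sq (hg (mem_sup_right hx))
    (hS.2 x hx)) (by rw [hc, N.card_Z])
  subst e
  have hW : W ≤ N.Z := fun x hx => N.mem_Z_of_sq (hg (mem_sup_left hx)) (h2.2 x hx)
  refine le_antisymm hW ?_
  obtain ⟨x, hx, x1⟩ := ne_bot_iff_exists.1 h1
  obtain ⟨b, rfl⟩ := N.mem_Z.1 (hW hx)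
  have b0 : b ≠ 0 := fun e => x1 (N.u_eq_one.2 ⟨rfl, e⟩)
  intro y hy
  obtain ⟨c, rfl⟩ := N.mem_Z.1 hy
  by_cases c0 : c = 0
  · rw [c0, N.u_zero]; exact one_mem _
  obtain ⟨s, hs⟩ := H13.sq_mul_θ_surj (c / b)
  have s0 : s ≠ 0 := by rintro rfl; simp [eq_comm, b0, c0] at hs
  have := conj_mem_of_norm le_rfl (h4 (N.normalizer_Z.ge (N.h_mem_B (Units.mk0 s s0)))) hx
  rwa [N.h_u_conj, Units.val_mk0, hs, mul_zero, div_mul_cancel₀ _ b0] at this

theorem un_dih {r : ℕ} (hr : r.Prime) (h2 : r ≠ 2) {S : Subgroup (DihedralGroup r)}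
    (hS : IsElementaryAbelian 2 S) (h0 : S ≠ ⊥) : UN 2 S := by
  intro W h1 h3 h4 _
  haveI := Fact.mk hr
  haveI := Fact.mk Nat.prime_two
  have key : ∀ K : Subgroup (DihedralGroup r), IsPGroup 2 K → K ≠ ⊥ → Nat.card K = 2 := fun K a b => by
    have h5 := (isPi_of_isPGroup Nat.prime_two a)
    refine Nat.dvd_antisymm (IsPiNat.dvd_of_dvd_mul_right h5 ((isPiNat_prime (π := {2}ᶜ) hr).2 h2)
      (DihedralGroup.nat_card (n := r) ▸ card_subgroup_dvd_card K)) (h5.dvd_card b)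
  have e := key _ (IsPGroup.to_sup_of_normal_right' (pg h3) (pg hS) h4) (ne_bot_mono le_sup_left h1)
  exact (eq_of_le_of_card_eq le_sup_left ((key W (pg h3) h1).trans e.symm)).trans
    (eq_of_le_of_card_eq le_sup_right ((key S (pg hS) h0).trans e.symm)).symm

theorem main {G : Type*} [Group G] [Finite G] [Fact p.Prime] {Y L : Subgroup G} (hY : Y ≤ L)
    (hf : FLG p (Y.subgroupOf L)) {π : L →* Γ} (hπ : Function.Surjective π)
    (hk : π.ker = pCore p L) (h : UN p ((Y.subgroupOf L).map π))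
    [((pCoreOf p L).subgroupOf (L ⊓ 𝒩(Y))).Normal]
    (V : Subgroup (↥(L ⊓ 𝒩(Y)) ⧸ (pCoreOf p L).subgroupOf (L ⊓ 𝒩(Y)))) (h1 : V.Normal)
    (h2 : IsElementaryAbelian p V) (h3 : V ≠ ⊥) :
    V = (Y.subgroupOf (L ⊓ 𝒩(Y))).map (QuotientGroup.mk' _) := by
  let ι : ↥(L ⊓ 𝒩(Y)) →* Γ := π.comp (inclusion inf_le_left)
  have hι : (pCoreOf p L).subgroupOf (L ⊓ 𝒩(Y)) = ι.ker := by
    ext x
    rw [← MonoidHom.comap_ker, hk, ← H70.subgroupOf_pCoreOf]; rfl
  let ψ := QuotientGroup.lift _ ι hι.le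
  have hψ : Function.Injective ψ := (QuotientGroup.injective_lift_iff _ ι hι.le).2 hι
  have e1 : ((Y.subgroupOf (L ⊓ 𝒩(Y))).map (QuotientGroup.mk' _)).map ψ =
      (Y.subgroupOf L).map π := by
    rw [map_map]
    refine le_antisymm ?_ ?_
    · rintro _ ⟨x, hx, rfl⟩; exact ⟨_, hx, rfl⟩
    · rintro _ ⟨x, hx, rfl⟩; exact ⟨⟨x, x.2, le_normalizer hx⟩, hx, rfl⟩
  have e2 : ψ.range = 𝒩((Y.subgroupOf L).map π) := by
    refine le_antisymm ?_ fun z hz => ?_
    · rintro _ ⟨x, rfl⟩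
      obtain ⟨x, rfl⟩ := QuotientGroup.mk_surjective x
      exact le_normalizer_map π ⟨inclusion inf_le_left x,
        by rw [← subgroupOf_normalizer_eq hY]; exact x.2.2, rfl⟩
    · obtain ⟨g, rfl⟩ := hπ z
      have := hf.mem_norm_of_map hk (g := g) (cj_eq_of_mem_norm hz)
      rw [← subgroupOf_normalizer_eq hY] at this
      exact ⟨QuotientGroup.mk ⟨g, g.2, this⟩, rfl⟩
  refine map_injective hψ (e1 ▸ h _ (by rwa [Ne, map_eq_bot_iff_of_injective _ hψ])
    (H70.IsElem_map ψ h2) (e2 ▸ map_le_range _ _) ?_)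
  rw [← e2, MonoidHom.range_eq_map, ← normalizer_eq_top V]
  exact le_normalizer_map ψ

/-- Standing hypotheses: G a finite group, S a Sylow p-subgroup, Q a nontrivial large p-subgroup of G contained in S, M a subgroup containing S with the basic property (M ∈ 𝔐_G(S)); Y_M the largest p-reduced normal subgroup of M and M† = M·C_G(Y_M). Let L ∈ 𝔏_G(Y_M) (L ∈ 𝔏_G(Y_M): Y_M ≤ L; O_p(L) is the normal closure in L of Y_M ∩ O_p(L) and normalizes Y_M; L is Y_M-minimal of characteristic p with N_L(Y_M) its unique maximal subgroup over Y_M; and L/O_p(L) ≅ SL₂(q) with q = |Y_M : Y_M ∩ O_p(L)|, or p = 2 and L/O_p(L) is a Suzuki group Sz(q) or dihedral of order 2r, r an odd prime) and A = O_p(L). Then Y_M·A/A is the unique nontrivial elementary abelian normal p-subgroup of N_L(Y_M)/A. -/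
theorem result {G : Type*} [Group G] [Finite G] {p : ℕ} [Fact p.Prime] (S : Sylow p G) (Q : Subgroup G) (hQp : IsPGroup p ↥Q) (hQ1 : Q ≠ ⊥) (hQS : Q ≤ (S : Subgroup G)) (hQ : Cfsg.IsLarge Q) (M : Subgroup G) (hSM : (S : Subgroup G) ≤ M) (hM : Cfsg.IsInFrakM p M) (L : Subgroup G) (hL : Cfsg.IsInFrakL p M L) (NL : Subgroup G) (hNL : NL = L ⊓ Subgroup.normalizer (((Cfsg.largestPReducedOf p M) : Subgroup G) : Set G)) [hn : (((Cfsg.pCoreOf p L)).subgroupOf NL).Normal] : let Ybar : Subgroup (↥NL ⧸ ((Cfsg.pCoreOf p L)).subgroupOf NL) := (((Cfsg.largestPReducedOf p M)).subgroupOf NL).map (QuotientGroup.mk' (((Cfsg.pCoreOf p L)).subgroupOf NL)); Ybar ≠ ⊥ ∧ Ybar.Normal ∧ Cfsg.IsElementaryAbelian p Ybar ∧ ∀ (V : Subgroup (↥NL ⧸ ((Cfsg.pCoreOf p L)).subgroupOf NL)), V.Normal → Cfsg.IsElementaryAbelian p V → V ≠ ⊥ → V = Ybar := by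
  subst hNL
  have hf := flg_of hL
  have hY := hL.1
  have he := (H70.YL_pRed (p := p) M).elem
  have h0 : ∀ {Γ : Type} [Group Γ] {π : L →* Γ}, π.ker = pCore p L →
      ((largestPReducedOf p M).subgroupOf L).map π ≠ ⊥ := fun hk e =>
    hf.not_le (by rwa [Subgroup.map_eq_bot_iff, hk] at e)
  refine ⟨fun e => hf.not_le fun x hx => ?_, Normal.map (normal_subgroupOf inf_le_right) _
    (QuotientGroup.mk'_surjective _), H70.IsElem_map _ (H70.IsElem_comap_of_injective _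
      (subtype_injective _) he), ?_⟩
  · rw [Subgroup.map_eq_bot_iff, QuotientGroup.ker_mk'] at e
    rw [← H70.subgroupOf_pCoreOf]
    exact e (x := ⟨x, x.2, le_normalizer hx⟩) hx
  rcases hL.2.2.2.2.2.2 with ⟨F, _, _, hc, ⟨e⟩⟩ | ⟨rfl, F, _, _, m, hF, hc, ⟨e⟩⟩ |
    ⟨rfl, r, hr, h2, ⟨e⟩⟩ <;> obtain ⟨π, hπ, hk⟩ := exists_pi e <;> refine main hY hf hπ hk ?_
  · rw [← card_map_frakL hY hk] at hc
    haveI := charP_of_card_eq (hf.pgroup.map π) hc
    obtain ⟨g, hg⟩ := exists_cj_eq_upS (hf.pgroup.map π) (by rw [← hc, Nat.card_eq_fintype_card])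
    exact UN.of_cj (g := g) (hg.symm ▸ un_sl :)
  · letI := H13.titsOfCard hF
    exact un_sz (H13.lieModel (H13.titsOfCard_θ hF)) (H70.IsElem_map π hf.elem)
      (by rw [card_map_frakL hY hk, ← hc, Nat.card_eq_fintype_card])
  · exact un_dih hr h2 (H70.IsElem_map π hf.elem) (h0 hk)


end Cfsg.Agent.S2861
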