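import Cfsg.Statements.S2862
import Cfsg.Agent.H70.AsymL

set_option autoImplicit false
open Cfsg

namespace Cfsg.Agent.S2862

open Subgroup Cfsg.Agent.H70 Cfsg.Agent.H92
open scoped commutatorElement

/-- Standing hypotheses: G a finite group, S a Sylow p-subgroup, Q a nontrivial large p-subgroup of G contained in S, M a subgroup containing S with the basic property (M ∈ 𝔐_G(S)); Y_M the largest p-reduced normal subgroup of M and M† = M·C_G(Y_M). Suppose Y_M is char-p-tall and asymmetric in G, H ∈ ℌ_G(O_p(M)), and L is minimal among the subgroups of H containing Y_M with Y_M ≰ O_p(L). Then H = ⟨L, O_p(M)⟩ = ⟨hY_Mh⁻¹, O_p(M)⟩ for every h ∈ L outside N_L(Y_M); L is Y_M-minimal and of characteristic p, with N_L(Y_M) the unique maximal subgroup of L containing Y_M; [V, O^p(L)] ≠ 1 for every noncentral chief factor V/W of H inside O_p(H) (that is, O^p(L) does not act trivially on V/W); and the normal closure of O_p(L) ∩ Y_M in L lies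 in O_p(H). -/
theorem result {G : Type*} [Group G] [Finite G] {p : ℕ} [Fact p.Prime] (S : Sylow p G) (Q : Subgroup G) (hQp : IsPGroup p ↥Q) (hQ1 : Q ≠ ⊥) (hQS : Q ≤ (S : Subgroup G)) (hQ : Cfsg.IsLarge Q) (M : Subgroup G) (hSM : (S : Subgroup G) ≤ M) (hM : Cfsg.IsInFrakM p M) (htall : Cfsg.IsCharPTall p (Cfsg.largestPReducedOf p M)) (hasym : ¬ Cfsg.IsSymmetricIn (Cfsg.largestPReducedOf p M)) (H : Subgroup G) (hH : Cfsg.IsInFrakH p M H) (L : Subgroup G) (hLH : L ≤ H) (hYL : (Cfsg.largestPReducedOf p M) ≤ L) (hYO : ¬ (Cfsg.largestPReducedOf p M) ≤ (Cfsg.pCoreOf p L)) (hmin : ∀ L' : Subgroup G, L' ≤ L → (Cfsg.largestPReducedOf p M) ≤ L' → ¬ (Cfsg.largestPReducedOf p M) ≤ (Cfsg.pCoreOf p L') → L' = L) : (L ⊔ (Cfsg.pCoreOf p M) = H ∧ ∀ h ∈ L, h ∉ Subgroup.normalizer (((Cfsg.largestPReducedOf p M) : Subgroup G) : Set G) → (((Cfsg.largestPReducedOf p M) : Subgroup G).map (MulAut.conj (h : G)).toMonoidHom) ⊔ (Cfsg.pCoreOf p M) = H) ∧ (Cfsg.IsMinimalOver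 (((Cfsg.largestPReducedOf p M)).subgroupOf L) ∧ Subgroup.centralizer (Cfsg.pCore p ↥L : Set ↥L) ≤ Cfsg.pCore p ↥L ∧ L ⊓ Subgroup.normalizer (((Cfsg.largestPReducedOf p M) : Subgroup G) : Set G) < L ∧ ∀ X : Subgroup G, (Cfsg.largestPReducedOf p M) ≤ X → X < L → X ≤ L ⊓ Subgroup.normalizer (((Cfsg.largestPReducedOf p M) : Subgroup G) : Set G)) ∧ (∀ V W' : Subgroup G, V ≤ (Cfsg.pCoreOf p H) → H ≤ Subgroup.normalizer ((V : Subgroup G) : Set G) → H ≤ Subgroup.normalizer ((W' : Subgroup G) : Set G) → W' < V → (∀ Z' : Subgroup G, H ≤ Subgroup.normalizer ((Z' : Subgroup G) : Set G) → W' ≤ Z' → Z' ≤ V → Z' = W' ∨ Z' = V) → ¬ ⁅V, H⁆ ≤ W' → ¬ ⁅V, ((Cfsg.pResidual p ↥L).map (L).subtype)⁆ ≤ W') ∧ (Subgroup.normalClosure (((((Cfsg.pCoreOf p L) ⊓ (Cfsg.largestPReducedOf p M)).subgroupOf L : Subgroup ↥L)) : Set ↥L)).map L.subtype ≤ (Cfsg.pCoreOf p H) := by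
  have h := fm_of hQp hQ1 hQ hSM hM
  have hh := h.fh hH
  obtain ⟨h1, h2, h3, h4, h5⟩ := hh.minimal (h.wc hasym) (IsElem_le_cent (YL_pRed M).elem)
    h.core_sylIn.le (fun P hP hPH => IsElem_le_cent (h.isElem_ncl hasym hP (hh.min P hP hPH)))
    hLH hYL hYO hmin
  rw [map_normalClosure_subgroupOf (inf_le_right.trans hYL), pRes_def]
  refine ⟨⟨h1, fun x hx hx' => ?_⟩, ⟨h2.subgroupOf.isMinimalOver, isChar_iff.1 h3, h2.lt, h2.uniq⟩,
    fun V W hV hVn hWn hlt hmin' hnc hc => ?_, ncl_le h4 (hLH.trans (le_norm_pCoreOf H))⟩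
  · refine le_antisymm (sup_le (cj_le_of_mem (hLH hx) (hYL.trans hLH)) hh.le) ?_
    rw [← h1, ← h2.sup_cj hx fun h' => hx' h'.2]
    exact sup_le (sup_le (hh.YA.trans le_sup_right) le_sup_left) le_sup_right
  · have h6 := h5 (H ⊓ relCent (V : Set G) W) inf_le_left
      (norm_inf le_normalizer (norm_relCent hVn hWn)) (le_inf ((pRes_le L).trans hLH)
        (le_relCent.2 ⟨(pRes_le L).trans (hLH.trans hWn), by rwa [commutator_comm]⟩))
    have h7 := (le_relCent.1 (h6.trans inf_le_right)).2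
    rw [commutator_comm] at h7
    have hVH := hV.trans (pCoreOf_le H)
    rcases hmin' (⁅V, H⁆ ⊔ W) (norm_sup (norm_commutator hVn le_normalizer) hWn) le_sup_right
      (sup_le (commutator_le_left_of_norm hVn) hlt.le) with e | e
    · exact hnc (le_sup_left.trans e.le)
    · refine hlt.not_ge (le_of_le_comm_sup ((pCoreOf_isPGroup H).to_le hV) hh.pA (hh.le.trans hVn)
        (hVH.trans hWn) (hh.le.trans hWn) (e.ge.trans (sup_le ?_ le_sup_right)))
      have hn : H ≤ normalizer ((⁅V, pCoreOf p M⁆ ⊔ W : Subgroup G) : Set G) := by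
        refine hh.pRes_sup.ge.trans (sup_le (norm_of_between (sup_le
          (commutator_le_left_of_norm (hh.le.trans hVn)) hlt.le) (h7.trans le_sup_right))
          (norm_sup (normalizer_commutator_ge_right _ _) (hh.le.trans hWn)))
      refine (commutator_mono le_rfl hh.pRes_sup.ge).trans (comm_sup_le' ((pRes_le H).trans hn)
        (hh.le.trans hn) (h7.trans le_sup_right) le_sup_left)

end Cfsg.Agent.S2862
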