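import Cfsg.Statements.S2863
import Cfsg.Agent.H59.FrakL2
-- import your own Cfsg.Agent.* helpers here

set_option autoImplicit false
open Cfsg

namespace Cfsg.Agent.S2863
open Subgroup Cfsg.Agent.H70 Cfsg.Agent.H59
open scoped commutatorElement

variable {H : Type*} [Group H] [Finite H] {p : ℕ} [hp : Fact p.Prime] {Y : Subgroup H}
  {Γ : Type*} [Group Γ] {π : H →* Γ}

theorem exists_pow {x : H} (hx : ¬ ∃ k : ℕ, orderOf x = p ^ k) (hk : π.ker = pCore p H) :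
    ∃ r n : ℕ, r.Prime ∧ r ≠ p ∧ orderOf (π x ^ n) = r := by
  obtain ⟨r, hr, hrp, hd⟩ : ∃ r : ℕ, r.Prime ∧ r ≠ p ∧ r ∣ orderOf x := by
    by_contra e
    exact hx ⟨_, Nat.eq_prime_pow_of_unique_prime_dvd (orderOf_pos x).ne' fun {d} h1 h2 =>
      by_contra fun h3 => e ⟨d, h1, h3, h2⟩⟩
  have ho : orderOf (x ^ (orderOf x / r)) = r := orderOf_pow_orderOf_div (orderOf_pos x).ne' hd
  refine ⟨r, orderOf x / r, hr, hrp, ?_⟩
  rw [← map_pow]
  have h0 := orderOf_map_dvd π (x ^ (orderOf x / r))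
  rw [ho] at h0
  refine ((Nat.dvd_prime hr).1 h0).resolve_left fun e => hrp ?_
  have h1 : x ^ (orderOf x / r) ∈ pCore p H := by rw [← hk]; exact orderOf_eq_one_iff.1 e
  obtain ⟨k, hk⟩ := pCore_isPGroup ⟨_, h1⟩
  have h2 := orderOf_dvd_of_pow_eq_one (show (x ^ (orderOf x / r)) ^ p ^ k = 1 from
    congrArg Subtype.val hk)
  rw [ho] at h2
  exact (Nat.prime_dvd_prime_iff_eq hr hp.out).1 (hr.dvd_of_dvd_pow h2)

theorem caseSL (h : FLG p Y) {F : Type*} [Field F] [Fintype F] {π : H →* H69.SL2 F}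
    (hπ : Function.Surjective π) (hk : π.ker = pCore p H)
    (hc : Fintype.card F = Nat.card (Y.map π)) {x : H} (hx : ¬ ∃ k : ℕ, orderOf x = p ^ k) :
    ∀ a ∈ pCore p H, ⁅x, a⁆ ∈ Y ⊓ center H → a ∈ Y ⊓ center H := by
  obtain ⟨V, _, _, _, hV, hm⟩ := h.exists_mod hπ hk
  refine hm x fun v hv => by_contra fun h0 => ?_
  obtain ⟨r, n, hr, hrp, ho⟩ := exists_pow hx hk
  haveI := charP_of_card_eq (h.pgroup.map π) hc
  obtain ⟨g, hg⟩ := exists_cj_eq_upS (h.pgroup.map π) (by rw [← hc, Nat.card_eq_fintype_card])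
  have hV' := hV.cj g
  rw [hg] at hV'
  have := orderOf_dvd_of_pow_eq_one
    (hV'.sl2 (x := π x ^ n) (pow_mem (MulAction.mem_stabilizer_iff.2 hv) n) h0)
  rw [ho] at this
  exact hrp ((Nat.prime_dvd_prime_iff_eq hr hp.out).1 this)

theorem caseTwo [Fact (Nat.Prime 2)] (h : FLG 2 Y) (hπ : Function.Surjective π)
    (hk : π.ker = pCore 2 H)
    (hΓ : InvReal Γ) {x : H} (hx : ¬ ∃ k : ℕ, orderOf x = 2 ^ k) :
    ∀ a ∈ pCore 2 H, ⁅x, a⁆ ∈ Y ⊓ center H → a ∈ Y ⊓ center H := by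
  obtain ⟨V, _, _, _, hV, hm⟩ := h.exists_mod hπ hk
  refine hm x fun v hv => ?_
  obtain ⟨r, n, hr, hrp, ho⟩ := exists_pow hx hk
  refine hV.invReal (IsElem_map π h.elem).2 (fun e => h.not_le ?_) hΓ hr hrp ho
    (pow_mem (MulAction.mem_stabilizer_iff.2 hv) n)
  rwa [Subgroup.map_eq_bot_iff, hk] at e


/-- Standing hypotheses: G a finite group, S a Sylow p-subgroup, Q a nontrivial large p-subgroup of G contained in S, M a subgroup containing S with the basic property (M ∈ 𝔐_G(S)); Y_M the largest p-reduced normal subgroup of M and M† = M·C_G(Y_M). Let L ∈ 𝔏_G(Y_M) (L ∈ 𝔏_G(Y_M): Y_M ≤ L; O_p(L) is the normal closure in L of Y_M ∩ O_p(L) and normalizes Y_M; L is Y_M-minimal of characteristic p with N_L(Y_M) its unique maximal subgroup over Y_M; and L/O_p(L) ≅ SL₂(q) with q = |Y_M : Y_M ∩ O_p(L)|, or p = 2 and L/O_p(L) is a Suzuki group Sz(q) or dihedral of order 2r, r an odd prime), A = O_p(L),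 and C = C_{Y_M}(L). Then every element h of L whose order is not a power of p acts without nontrivial fixed points on A/C: for a ∈ A, hah⁻¹a⁻¹ ∈ C implies a ∈ C. -/
theorem result {G : Type*} [Group G] [Finite G] {p : ℕ} [Fact p.Prime] (S : Sylow p G) (Q : Subgroup G) (hQp : IsPGroup p ↥Q) (hQ1 : Q ≠ ⊥) (hQS : Q ≤ (S : Subgroup G)) (hQ : Cfsg.IsLarge Q) (M : Subgroup G) (hSM : (S : Subgroup G) ≤ M) (hM : Cfsg.IsInFrakM p M) (L : Subgroup G) (hL : Cfsg.IsInFrakL p M L) (h : G) (hh : h ∈ L) (hnp : ¬ ∃ k : ℕ, orderOf h = p ^ k) : ∀ a ∈ (Cfsg.pCoreOf p L), h * a * h⁻¹ * a⁻¹ ∈ (Cfsg.largestPReducedOf p M) ⊓ Subgroup.centralizer ((L : Subgroup G) : Set G) → a ∈ (Cfsg.largestPReducedOf p M) ⊓ Subgroup.centralizer ((L : Subgroup G) : Set G) := by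
  have hf := flg_of hL
  have hY := hL.1
  have hx : ¬ ∃ k : ℕ, orderOf (⟨h, hh⟩ : L) = p ^ k := by rwa [← orderOf_coe]
  have hC : ∀ z : L, z ∈ (largestPReducedOf p M).subgroupOf L ⊓ center L ↔
      (z : G) ∈ largestPReducedOf p M ⊓ centralizer (L : Set G) := fun z =>
    and_congr Iff.rfl ⟨fun e g hg => congrArg Subtype.val (mem_center_iff.1 e ⟨g, hg⟩),
      fun e => mem_center_iff.2 fun g => Subtype.ext (e g g.2)⟩
  have key : ∀ a ∈ pCore p L, ⁅(⟨h, hh⟩ : L), a⁆ ∈ (largestPReducedOf p M).subgroupOf L ⊓ center L →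
      a ∈ (largestPReducedOf p M).subgroupOf L ⊓ center L := by
    rcases hL.2.2.2.2.2.2 with ⟨F, _, _, hc, ⟨e⟩⟩ | ⟨rfl, F, _, _, m, hF, -, ⟨e⟩⟩ |
      ⟨rfl, r, hr, h2, ⟨e⟩⟩
    · obtain ⟨π, hπ, hk⟩ := exists_pi e
      exact caseSL hf hπ hk (by rw [card_map_frakL hY hk, hc]) hx
    · obtain ⟨π, hπ, hk⟩ := exists_pi e
      exact caseTwo hf hπ hk (invReal_sz hF) hx
    · obtain ⟨π, hπ, hk⟩ := exists_pi e
      exact caseTwo hf hπ hk (invReal_dihedral hr h2) hx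
  rintro _ ⟨a, ha, rfl⟩ hc
  exact (hC a).1 (key a ha ((hC _).2 hc))

end Cfsg.Agent.S2863
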