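import Cfsg.Statements.S2864
import Cfsg.Agent.H70.FrakM

set_option autoImplicit false
open Cfsg

namespace Cfsg.Agent.S2864

open Subgroup Cfsg.Agent.H70 Cfsg.Agent.H92
open scoped commutatorElement

/-- Standing hypotheses: G a finite group, S a Sylow p-subgroup, Q a nontrivial large p-subgroup of G contained in S, M a subgroup containing S with the basic property (M ∈ 𝔐_G(S)); Y_M the largest p-reduced normal subgroup of M and M† = M·C_G(Y_M). Let I be a nontrivial normal p-subgroup of M and Y ≤ O_p(M†); let L be a subgroup of G containing Y and A a normal p-subgroup of L with I ≤ A ≤ M. If [Y, A] ≤ [I, A], then Y ≤ O_p(L). -/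
theorem result {G : Type*} [Group G] [Finite G] {p : ℕ} [Fact p.Prime] (S : Sylow p G) (Q : Subgroup G) (hQp : IsPGroup p ↥Q) (hQ1 : Q ≠ ⊥) (hQS : Q ≤ (S : Subgroup G)) (hQ : Cfsg.IsLarge Q) (M : Subgroup G) (hSM : (S : Subgroup G) ≤ M) (hM : Cfsg.IsInFrakM p M) (I : Subgroup G) (hI1 : I ≠ ⊥) (hIp : IsPGroup p ↥I) (hIM : I ≤ M ∧ M ≤ Subgroup.normalizer ((I : Subgroup G) : Set G)) (Y : Subgroup G) (hY : Y ≤ (Cfsg.pCoreOf p (M ⊔ Subgroup.centralizer (((Cfsg.largestPReducedOf p M) : Subgroup G) : Set G)))) (L : Subgroup G) (hYL : Y ≤ L) (A : Subgroup G) (hAp : IsPGroup p ↥A) (hAL : A ≤ L ∧ L ≤ Subgroup.normalizer ((A : Subgroup G) : Set G)) (hIA : I ≤ A) (hAM : A ≤ M) (hc : ⁅Y, A⁆ ≤ ⁅I, A⁆) : Y ≤ (Cfsg.pCoreOf p L) := by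
  have h := fm_of hQp hQ1 hQ hSM hM
  have h1 : centralizer (A : Set G) ≤ dag p M :=
    (cent_anti hIA).trans ((centralizer_le_normalizer _).trans (h.norm_le_dag hIp hI1 hIM.2))
  have hKL : ncl Y L ≤ L := ncl_le_of_le hYL
  have h2 : ⁅ncl Y L, A⁆ ≤ ⁅A, A⁆ :=
    comm_ncl_le hAL.2 (norm_commutator hAL.2 hAL.2) (hYL.trans (norm_commutator hAL.2 hAL.2))
      (hc.trans (commutator_mono hIA le_rfl))
  set R := pResidualOf p (ncl Y L) with hR
  have hRA : R ≤ normalizer (A : Set G) := (pRes_le _).trans (hKL.trans hAL.2)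
  have h3 : ⁅A, R⁆ = ⊥ := by
    have h4 : ⁅A, R⁆ ≤ A := commutator_le_left_of_norm hRA
    refine eq_bot_of_le_comm (hAp.to_le h4) hAp (normalizer_commutator_ge_left _ _) ?_
    refine (comm_pRes_pRes hAp (hKL.trans hAL.2)).ge.trans ((commutator_mono
      ((commutator_comm _ _).le.trans ((commutator_mono (pRes_le _) le_rfl).trans h2)) le_rfl).trans ?_)
    have hn : A ≤ normalizer ((⁅⁅A, R⁆, A⁆ : Subgroup G) : Set G) :=
      normalizer_commutator_ge_right _ _
    exact three_subgroups hn hn (norm_commutator (normalizer_commutator_ge_right _ _) hRA) le_rfl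
      (by rw [commutator_comm R])
  have h4 : R ⊔ Y ≤ dag p M := sup_le ((comm_eq_bot_iff'.1 h3).trans h1) (hY.trans (pCoreOf_le _))
  refine le_trans (le_inf hY le_sup_right) ((pCoreOf_inf_le h4).trans (Subn.pCoreOf_le ?_))
  exact (subn_of_pRes_le le_sup_left (sup_le (pRes_le _) (le_ncl Y L))).trans
    (.of_norm hKL (le_norm_ncl Y L))

end Cfsg.Agent.S2864
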