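import Cfsg.Statements.S2872
import Cfsg.Agent.H59.ExtTransfer
import Cfsg.Agent.H3.PGroup
-- import your own Cfsg.Agent.* helpers here

set_option autoImplicit false
open Cfsg

namespace Cfsg.Agent.S2872

open Subgroup H69

/-- Let S be a Sylow 2-subgroup of the finite group G. Then G has a proper normal subgroup of 2-power index (O²(G) ≠ G), or Ω₁(Z(S)) is contained in the Frattini subgroup of S, or N_G(S) acts nontrivially on Ω₁(Z(S)) by conjugation. -/
theorem result {G : Type*} [Group G] [Finite G] (S : Sylow 2 G) : Cfsg.pResidual 2 G ≠ ⊤ ∨ Cfsg.omegaOne 2 ((S : Subgroup G) ⊓ Subgroup.centralizer ((S : Subgroup G) : Set G)) ≤ (frattini ↥(S : Subgroup G)).map (S : Subgroup G).subtype ∨ ∃ g ∈ Subgroup.normalizer ((S : Subgroup G) : Set G), ∃ z ∈ Cfsg.omegaOne 2 ((S : Subgroup G) ⊓ Subgroup.centralizer ((S : Subgroup G) : Set G)), g * z * g⁻¹ ≠ z := by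
  haveI : Fact (Nat.Prime 2) := ⟨Nat.prime_two⟩
  by_contra hc
  push Not at hc
  obtain ⟨hO, hF, hN⟩ := hc
  refine hF ((closure_le _).2 fun z hz => ?_)
  have hzO : z ∈ omegaOne 2 ((S : Subgroup G) ⊓ centralizer ((S : Subgroup G) : Set G)) :=
    subset_closure hz
  obtain ⟨⟨hzS, hzC⟩, hz2⟩ := hz
  refine ⟨⟨z, hzS⟩, H3.mem_frattini_iff.2 fun M0 hM0 => ?_, rfl⟩
  by_contra hzM
  have h0 := H3.index_eq_of_isCoatom S.isPGroup' hM0
  set M := M0.map (S : Subgroup G).subtype with hM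
  have hMS : M ≤ S := map_subtype_le _
  have h1 : M.subgroupOf S = M0 := comap_map_eq_self_of_injective (subtype_injective _) _
  have h2 : M.relIndex S = 2 := by rw [relIndex, h1, h0]
  have h3 : M.index % 4 = 2 := by
    have := S.not_dvd_index
    rw [← relIndex_mul_index hMS, h2]
    omega
  obtain ⟨g, hg, h4⟩ := H59.ext_transfer M S (by rw [← pow_two, hz2]) (hO ▸ mem_top z) h3
    S.isPGroup' hzC
  have h5 : cj g M ≤ S := by
    have e1 := card_mul_index (M.subgroupOf S)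
    have e2 := card_mul_index ((cj g M).subgroupOf S)
    rw [Nat.card_congr (subgroupOfEquivOfLe hMS).toEquiv, ← relIndex, h2] at e1
    rw [← inf_subgroupOf_right, Nat.card_congr (subgroupOfEquivOfLe inf_le_right).toEquiv,
      inf_subgroupOf_right, ← relIndex] at e2
    have h6 := Nat.le_of_dvd two_pos h4
    have h7 : cj g M ⊓ S = cj g M := eq_of_le_of_card_ge inf_le_left (by
      rw [card_cj]; nlinarith)
    exact inf_eq_left.1 h7
  have hw : g⁻¹ * z * g ∈ M := mem_cj.1 hg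
  have h6 : ∀ m ∈ M, m * (g⁻¹ * z * g) = g⁻¹ * z * g * m := fun m hm => by
    have := hzC _ (h5 (conj_mem_cj.2 hm))
    calc m * (g⁻¹ * z * g) = g⁻¹ * (g * m * g⁻¹ * z) * g := by group
      _ = _ := by rw [this]; group
  obtain ⟨n, hn, e⟩ := S.conj_eq_normalizer_conj_of_mem_centralizer z g hzC fun s hs => by
    by_cases hsM : s ∈ M
    · exact h6 s hsM
    have h7 : s * z ∈ M := by
      have := (mul_mem_iff_of_index_two h0 (a := ⟨s, hs⟩) (b := ⟨z, hzS⟩)).2
        (iff_of_false (fun h => hsM ⟨_, h, rfl⟩) hzM)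
      exact ⟨_, this, rfl⟩
    have h8 := h6 _ h7
    rw [mul_assoc, ← hzC _ (hMS hw), ← mul_assoc s, ← mul_assoc _ s] at h8
    exact mul_right_cancel h8
  have h9 := hN n⁻¹ (inv_mem hn) z hzO
  rw [inv_inv, ← e] at h9
  rw [h9] at hw
  exact hzM (h1 ▸ hw)

end Cfsg.Agent.S2872
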