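import Cfsg.Statements.S2873
import Cfsg.Agent.H59.FrakL2
import Cfsg.Agent.H49.Hall
import Cfsg.Agent.H75.Invol
-- import your own Cfsg.Agent.* helpers here

set_option autoImplicit false
open Cfsg

namespace Cfsg.Agent.S2873
open Subgroup Cfsg.Agent.H49 Cfsg.Agent.H59 DihedralGroup

theorem card_le_of_fac {α β γ : Type*} [Finite β] (f : α → β) {g : α → γ}
    (hg : Function.Surjective g) (h : ∀ x y, f x = f y → g x = g y) : Nat.card γ ≤ Nat.card β :=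
  Nat.card_le_card_of_injective (f ∘ Function.surjInv hg) fun x y e => by
    rw [← Function.surjInv_eq hg x, ← Function.surjInv_eq hg y]; exact h _ _ e

section
variable {G : Type*} [Group G] [Finite G] {r : ℕ} [hp : Fact r.Prime] {Q R : Subgroup G}
  {π : G →* DihedralGroup r}

theorem key (hk : π.ker = Q) (hR : IsSylowOf r R ⊤) (hc : Nat.card R = r)
    (hC : Q ⊓ 𝒞(R) = ⊥) {y : G} {i : ZMod r} (hi : i ≠ 0) (hy : π y = DihedralGroup.r i) :
    Q ⊓ 𝒞[y] = ⊥ ∧ y ^ r = 1 := by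
  obtain ⟨u, hu, v, hv, e, h1, h2⟩ := exists_pi_decomp {r} y
  have hv' : π v = 1 := by
    have a1 : orderOf (π v) ∣ r := by
      obtain ⟨k, rfl⟩ := hv
      rw [orderOf_dvd_iff_pow_eq_one, map_zpow, hy, r_zpow, r_pow]; simp
    exact orderOf_eq_one_iff.1 (((isPiNat_prime (π := {r}) hp.out).2 rfl).of_dvd a1 |>.eq_one
      (IsPiNat.of_dvd h2 (orderOf_map_dvd π v)))
  have u1 : u ≠ 1 := fun e' => hi (DihedralGroup.r.inj (by rw [← hy, e, e', one_mul, hv']; rfl))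
  obtain ⟨g, -, hg⟩ := sylowOf_subJ hR le_top (isPi_zpowers.2 h1)
  have e1 : cj g (zpowers u) = R := (eq_bot_or_eq_of_prime_card (hc.symm ▸ hp.out) hg).resolve_left
    (by rwa [cj_eq_bot_iff, zpowers_eq_bot])
  have hQn : g ∈ 𝒩(Q) := by rw [← hk, normalizer_eq_top]; trivial
  have e2 : Q ⊓ 𝒞[u] = ⊥ := by
    rw [← cj_eq_bot_iff (g := g), cj_inf, ← cent_zpowers, cj_centralizer, e1, cj_eq_of_mem_norm hQn, hC]
  have e3 : 𝒞[y] ≤ 𝒞[u] := by rw [← cent_zpowers y]; exact cent_le_cent1 hu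
  have e4 : v = 1 := mem_bot.1 (e2 ▸ ⟨hk ▸ hv', e3 (zpowers_le.2 (self_mem_cent1 y) hv)⟩)
  refine ⟨le_bot_iff.1 (e2 ▸ inf_le_inf_left _ e3), ?_⟩
  rw [e, e4, mul_one, ← orderOf_dvd_iff_pow_eq_one, ← Nat.card_zpowers, ← card_cj g, e1, hc]

theorem count (hk : π.ker = Q) {a a' : G} (ha : a * a = 1) (ha' : a' * a' = 1)
    (h : ∀ y, π y = π (a * a') → Q ⊓ 𝒞[y] = ⊥) :
    𝒞[a].relIndex Q * 𝒞[a'].relIndex Q ≤ Nat.card Q := by
  have hq : ∀ (x : Q) (b : G), π (x * b * x⁻¹) = π b := fun x b => by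
    have : π x = 1 := by rw [← MonoidHom.mem_ker, hk]; exact x.2
    simp [this]
  rw [relIndex, relIndex, index, index, ← Nat.card_prod]
  refine card_le_of_fac (α := Q × Q) (fun x => (⟨(x.1 * a * x.1⁻¹) * (x.2 * a' * x.2⁻¹) * (a * a')⁻¹,
    hk.le (by rw [MonoidHom.mem_ker, map_mul, map_mul, hq, hq, ← map_mul, ← map_mul, mul_inv_cancel,
      map_one])⟩ : Q)) (QuotientGroup.mk_surjective.prodMap QuotientGroup.mk_surjective)
    fun ⟨x, x'⟩ ⟨z, z'⟩ e => ?_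
  have e1 := mul_right_cancel (congrArg Subtype.val e)
  have sq : ∀ (x : Q) {b : G}, b * b = 1 → (x * b * x⁻¹)⁻¹ = x * b * x⁻¹ := fun x b hb => by
    rw [coe_inv, conj_inv, inv_eq_of_mul_eq_one_right hb]
  have e2 : (x : G) * a * x⁻¹ = z * a * z⁻¹ := by
    have h1 := h ((x * a * x⁻¹) * (x' * a' * x'⁻¹)) (by rw [map_mul, hq, hq, map_mul])
    have s1 := sq x ha
    have s2 := sq x' ha'
    have s3 := sq z ha
    have s4 := sq z' ha'
    have h2 : π (((x : G) * a * x⁻¹)⁻¹ * (z * a * z⁻¹)) = 1 := by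
      rw [map_mul, map_inv, hq, hq, inv_mul_cancel]
    dsimp only at e1
    clear e
    generalize (x : G) * a * x⁻¹ = b at *
    generalize (x' : G) * a' * x'⁻¹ = b' at *
    generalize (z : G) * a * z⁻¹ = d at *
    generalize (z' : G) * a' * z'⁻¹ = d' at *
    refine inv_mul_eq_one.1 (mem_bot.1 (h1 ▸ ⟨hk ▸ h2, mem_cent1.2 ?_⟩))
    have e3 : b' * b = d' * d := by rw [← s1, ← s2, ← mul_inv_rev, e1, mul_inv_rev, s3, s4]
    calc b⁻¹ * d * (b * b') = b⁻¹ * d * (d⁻¹ * d') := by rw [e1, s3]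
      _ = b⁻¹ * (d' * d) * d⁻¹ := by group
      _ = b * b' * (b⁻¹ * d) := by rw [← e3, s1, s3]; group
  have e3 : (x' : G) * a' * x'⁻¹ = z' * a' * z'⁻¹ := mul_left_cancel (e2 ▸ e1)
  have fin : ∀ (x z : Q) (b : G), (x : G) * b * x⁻¹ = z * b * z⁻¹ →
      (x : Q ⧸ 𝒞[b].subgroupOf Q) = z := fun x z b e => QuotientGroup.eq.2 (mem_cent1.2 (by
    calc ((x : G)⁻¹ * z) * b = x⁻¹ * (z * b * z⁻¹) * z := by simp [mul_assoc]
      _ = b * ((x : G)⁻¹ * z) := by rw [← e]; simp [mul_assoc]))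
  exact Prod.ext (fin x z a e2) (fin x' z' a' e3)

end

/-- Let G be a finite group and r an odd prime such that G ⧸ O₂(G) is dihedral of order 2r, and let R be a Sylow r-subgroup of G with C_{O₂(G)}(R) = 1. Then N_G(R) is dihedral of order 2r; for any involution a of N_G(R), every involution of G outside O₂(G) is conjugate to a; and |C_{O₂(G)}(a)|² = |O₂(G)|. -/
theorem result {G : Type*} [Group G] [Finite G] {r : ℕ} [Fact r.Prime] (hr : r ≠ 2) [hN : (Cfsg.pCore 2 G).Normal] (hquot : Nonempty (G ⧸ Cfsg.pCore 2 G ≃* DihedralGroup r)) (R : Sylow r G) (hC : Cfsg.pCore 2 G ⊓ Subgroup.centralizer ((R : Subgroup G) : Set G) = ⊥) : Nonempty (↥(Subgroup.normalizer ((R : Subgroup G) : Set G)) ≃* DihedralGroup r) ∧ ∀ a : G, a ∈ Subgroup.normalizer ((R : Subgroup G) : Set G) → orderOf a = 2 → (∀ b : G, orderOf b = 2 → b ∉ Cfsg.pCore 2 G → ∃ g : G, g * a * g⁻¹ = b) ∧ Nat.card ↥(Cfsg.pCore 2 G ⊓ Subgroup.centralizer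 ({a} : Set G)) ^ 2 = Nat.card ↥(Cfsg.pCore 2 G) := by
  have hp : r.Prime := Fact.out
  obtain ⟨π, hs, hk⟩ := exists_pi hquot.some
  set Q := pCore 2 G
  have hQ : IsPi {r}ᶜ Q := (by rw [show Q = _ from pCore_eq_piCoreOf_top Nat.prime_two]
                               exact piCoreOf_pi _ _ : IsPi {2} Q).compl_singleton_of_ne hr.symm
  have hR := sylowOf_top hp R
  have hd : Q ⊓ R = ⊥ := hQ.inf_eq_bot' hR.pi
  have sq : ∀ b : G, orderOf b = 2 → b ∉ Q → ∃ i, π b = sr i := fun b h1 h2 =>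
    dihedral_sq hp hr (by rw [← map_pow, ← h1, pow_orderOf_eq_one, map_one]) fun e => h2 (hk.le e)
  let T : Subgroup (DihedralGroup r) := zpowers (DihedralGroup.r 1)
  have hT : ∀ i, DihedralGroup.r i ∈ T := fun i => ⟨i.val, by simp⟩
  have hT' : ∀ i, sr i ∉ T := by rintro i ⟨k, e⟩; simp at e
  haveI : T.Normal := ⟨by
    rintro (i | i) h (j | j)
    · simpa using hT _
    · simpa using hT _
    all_goals exact absurd h (hT' i)⟩
  have h1 : (R : Subgroup G).map π ≤ T := by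
    rintro (i | i) ⟨x, hx, e⟩
    · exact hT i
    · have := hR.pi.elt hx 2 Nat.prime_two (by rw [← orderOf_sr i, ← e]; exact orderOf_map_dvd π x)
      exact absurd this.symm hr
  have cT : Nat.card T = r := by rw [Nat.card_zpowers, orderOf_r_one]
  have h2 : (R : Subgroup G).map π = T := by
    refine (eq_bot_or_eq_of_prime_card (cT.symm ▸ hp) h1).resolve_left fun e => hR.ne_bot hp rfl ?_
      (le_bot_iff.1 (hd ▸ le_inf (hk ▸ (Subgroup.map_eq_bot_iff _).1 e) le_rfl))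
    rw [card_top]
    exact (Dvd.intro_left 2 nat_card.symm).trans (card_dvd_of_surjective π hs)
  have inj : ∀ K : Subgroup G, Q ⊓ K = ⊥ → Function.Injective (π.comp K.subtype) := fun K hK =>
    (injective_iff_map_eq_one _).2 fun x hx => Subtype.ext (mem_bot.1 (hK ▸ ⟨hk ▸ hx, x.2⟩))
  have cR : Nat.card R = r := by
    rw [Nat.card_congr (MonoidHom.ofInjective (inj _ hd)).toEquiv,
      MonoidHom.range_comp, range_subtype, h2, cT]
  have hN0 : Q ⊓ 𝒩((R : Subgroup G)) = ⊥ := le_bot_iff.1 (hC ▸ le_inf inf_le_left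
    (cent_of_norm_of_disjoint inf_le_right (norm_inf (by rw [normalizer_eq_top]; exact le_top)
      (norm_of_le le_normalizer)) (le_bot_iff.1 (hd ▸ inf_le_inf_right _ inf_le_left))))
  have ky := fun y i => key (y := y) (i := i) hk hR cR hC
  refine ⟨⟨MulEquiv.ofBijective (π.comp 𝒩((R : Subgroup G)).subtype) ⟨inj _ hN0, fun d => ?_⟩⟩,
    fun a ha a2 => ?_⟩
  · obtain ⟨g, rfl⟩ := hs d
    obtain ⟨m, hm, n, hn, rfl⟩ := (frattini_arg (N := T.comap π) le_top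
      (by rw [normalizer_eq_top]) (hR.sub (map_le_iff_le_comap.1 h1) le_top)).2.2 g trivial
    obtain ⟨x, hx, e⟩ : π m ∈ (R : Subgroup G).map π := h2 ▸ hm
    exact ⟨⟨x * n, mul_mem (le_normalizer hx) hn.2⟩, by simp [e]⟩
  have aQ : a ∉ Q := fun e => H75.ne_one_of_orderOf_two a2 (mem_bot.1 (hN0 ▸ ⟨e, ha⟩))
  obtain ⟨i, hi⟩ := sq a a2 aQ
  obtain ⟨ρ, -, hρ⟩ : DihedralGroup.r 1 ∈ (R : Subgroup G).map π := h2 ▸ hT 1
  have hi' : π (ρ * a * ρ⁻¹) = sr (i - 2) := by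
    rw [map_mul, map_mul, map_inv, hρ, hi]; simp; ring
  have two : (2 : ZMod r) ≠ 0 := fun e => hr ((Nat.prime_dvd_prime_iff_eq hp Nat.prime_two).1
    ((ZMod.natCast_eq_zero_iff 2 r).1 e))
  have s1 := H75.mul_self_of_orderOf_two a2
  have s2 : ρ * a * ρ⁻¹ * (ρ * a * ρ⁻¹) = 1 := by rw [conj_mul, s1]; simp
  have odd : ∀ y : G, y ^ r = 1 → Odd (orderOf y) := fun y hy =>
    (hp.odd_of_ne_two hr).of_dvd_nat (orderOf_dvd_of_pow_eq_one hy)
  have e0 : π (a * (ρ * a * ρ⁻¹)) = DihedralGroup.r (-2) := by rw [map_mul, hi, hi']; simp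
  refine ⟨fun b b2 bQ => isConj_iff.1 ?_, le_antisymm ?_ ?_⟩
  · obtain ⟨j, hj⟩ := sq b b2 bQ
    have s3 := H75.mul_self_of_orderOf_two b2
    by_cases e : j = i
    · exact (isConj_iff.2 ⟨ρ, rfl⟩).trans (H75.isConj_of_odd s2 s3
        (odd _ (ky _ 2 two (by rw [map_mul, hi', hj, e]; simp)).2))
    · exact H75.isConj_of_odd s1 s3 (odd _ (ky _ _ (sub_ne_zero.2 e) (by rw [map_mul, hi, hj]; rfl)).2)
  all_goals
    have c1 : Nat.card ↥(Q ⊓ 𝒞[ρ * a * ρ⁻¹]) = Nat.card ↥(Q ⊓ 𝒞[a]) := by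
      rw [← card_cj ρ (Q ⊓ 𝒞[a]), cj_inf, cj_cent1,
        cj_eq_of_mem_norm (show ρ ∈ 𝒩(Q) by rw [normalizer_eq_top]; trivial)]
  · have := card_mul_le (H := Q ⊓ 𝒞[a]) (K := Q ⊓ 𝒞[ρ * a * ρ⁻¹]) inf_le_left inf_le_left
    have e : Q ⊓ 𝒞[a] ⊓ (Q ⊓ 𝒞[ρ * a * ρ⁻¹]) = ⊥ := le_bot_iff.1 ((ky _ _ (neg_ne_zero.2 two) e0).1 ▸
      fun x hx => ⟨hx.1.1, mem_cent1_comm.1 (mul_mem (mem_cent1_comm.1 hx.1.2)
        (mem_cent1_comm.1 hx.2.2))⟩)
    rwa [e, card_bot, mul_one, c1, ← pow_two] at this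
  · have := count hk s1 s2 fun y hy => (ky y _ (neg_ne_zero.2 two) (hy.trans e0)).1
    have d1 := card_inf_mul_relIndex 𝒞[a] Q
    have d2 := card_inf_mul_relIndex 𝒞[ρ * a * ρ⁻¹] Q
    rw [inf_comm] at d1 d2
    rw [c1] at d2
    refine Nat.le_of_mul_le_mul_right ?_ (card_pos' Q)
    calc Nat.card Q * Nat.card Q = Nat.card ↥(Q ⊓ 𝒞[a]) ^ 2 *
          (𝒞[a].relIndex Q * 𝒞[ρ * a * ρ⁻¹].relIndex Q) := by
          conv_lhs => congr; rw [← d1]; rfl; rw [← d2]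
          ring
      _ ≤ _ := Nat.mul_le_mul_left _ this


end Cfsg.Agent.S2873
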