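import Cfsg.Statements.S2874
import Mathlib

set_option autoImplicit false
open Cfsg

namespace Cfsg.Agent.S2874

open Matrix Equiv

/-- a three-cycle -/
def r0 : alternatingGroup (Fin 4) := ⟨Equiv.swap 0 1 * Equiv.swap 1 2, Perm.mem_alternatingGroup.2 (by decide)⟩
/-- a double transposition -/
def a0 : alternatingGroup (Fin 4) := ⟨Equiv.swap 0 1 * Equiv.swap 2 3, Perm.mem_alternatingGroup.2 (by decide)⟩

theorem gen0 : Subgroup.closure {r0, a0} = ⊤ := by
  have h : ∀ x : alternatingGroup (Fin 4), ∃ i ∈ List.range 3, ∃ j ∈ List.range 3, ∃ l ∈ List.range 2,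
      x = r0 ^ i * a0 ^ l * r0 ^ j := by decide +kernel
  rw [eq_top_iff]
  intro x _
  obtain ⟨i, -, j, -, l, -, rfl⟩ := h x
  have h1 : r0 ∈ Subgroup.closure {r0, a0} := Subgroup.subset_closure (by simp)
  have h2 : a0 ∈ Subgroup.closure {r0, a0} := Subgroup.subset_closure (by simp)
  exact mul_mem (mul_mem (pow_mem h1 _) (pow_mem h2 _)) (pow_mem h1 _)

theorem exists_gen {G : Type*} [Group G] (H : Subgroup G) (e : H ≃* alternatingGroup (Fin 4)) :
    ∃ r a : G, r ^ 3 = 1 ∧ r ≠ 1 ∧ a * a = 1 ∧ a ≠ 1 ∧ a * (r * a * r⁻¹) = r * (r * a * r⁻¹) * r⁻¹ ∧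
      H = Subgroup.closure {r, a} := by
  let φ : alternatingGroup (Fin 4) →* G := H.subtype.comp e.symm.toMonoidHom
  have hφ : Function.Injective φ := Subtype.val_injective.comp e.symm.injective
  refine ⟨φ r0, φ a0, ?_, ?_, ?_, ?_, ?_, ?_⟩
  · rw [← map_pow, map_eq_one_iff φ hφ]; decide
  · rw [Ne, map_eq_one_iff φ hφ]; decide
  · rw [← map_mul, map_eq_one_iff φ hφ]; decide
  · rw [Ne, map_eq_one_iff φ hφ]; decide
  · have : a0 * (r0 * a0 * r0⁻¹) = r0 * (r0 * a0 * r0⁻¹) * r0⁻¹ := by decide +kernel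
    simpa only [map_mul, map_inv] using congrArg φ this
  · rw [← Set.image_pair, ← MonoidHom.map_closure, gen0, ← MonoidHom.range_eq_map, MonoidHom.range_comp,
      MonoidHom.range_eq_top.2 e.symm.surjective, ← MonoidHom.range_eq_map, Subgroup.range_subtype]

variable {k : ℕ}

/-- reduction mod two -/
def red (k : ℕ) : ZMod (2 ^ (k + 2)) →+* ZMod 2 := ZMod.castHom (dvd_pow_self 2 (by omega)) _

theorem red_eq_zero {x : ZMod (2 ^ (k + 2))} (h : red k x = 0) : ∃ y, x = 2 * y := by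
  rw [← ZMod.natCast_zmod_val x, map_natCast, ZMod.natCast_eq_zero_iff] at h
  obtain ⟨y, hy⟩ := h
  exact ⟨y, by rw [← ZMod.natCast_zmod_val x, hy]; simp⟩

theorem isUnit_of_red {x : ZMod (2 ^ (k + 2))} (h : red k x ≠ 0) : IsUnit x := by
  have h1 : red k (x - 1) = 0 := by
    rw [map_sub, map_one]; revert h; generalize red k x = t; revert t; decide
  obtain ⟨y, hy⟩ := red_eq_zero h1
  have : IsNilpotent (x - 1) := ⟨k + 2, by
    rw [hy, mul_pow]
    have : ((2 ^ (k + 2) : ℕ) : ZMod (2 ^ (k + 2))) = 0 := ZMod.natCast_self _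
    push_cast at this
    rw [this, zero_mul]⟩
  simpa using this.isUnit_add_one

theorem ann {y : ZMod (2 ^ (k + 2))} (h : 2 * y = 0) : y = 0 ∨ y = 2 ^ (k + 1) := by
  have h1 : ((2 * y.val : ℕ) : ZMod (2 ^ (k + 2))) = 0 := by push_cast; rw [ZMod.natCast_zmod_val, h]
  rw [ZMod.natCast_eq_zero_iff] at h1
  obtain ⟨c, hc⟩ : 2 ^ (k + 1) ∣ y.val :=
    Nat.dvd_of_mul_dvd_mul_left (by norm_num : 0 < 2) (by rwa [← pow_succ'])
  have h2 : 2 ^ (k + 1) * c < 2 ^ (k + 1) * 2 := by rw [← hc, ← pow_succ]; exact ZMod.val_lt y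
  rw [Nat.mul_lt_mul_left (by positivity)] at h2
  rw [← ZMod.natCast_zmod_val y, hc]
  interval_cases c <;> simp

theorem two_eps : (2 : ZMod (2 ^ (k + 2))) * 2 ^ (k + 1) = 0 := by
  have : ((2 ^ (k + 2) : ℕ) : ZMod (2 ^ (k + 2))) = 0 := ZMod.natCast_self _
  push_cast at this
  rw [← this]; ring

/-- the standard element of order three -/
def om (k : ℕ) : GL (Fin 2) (ZMod (2 ^ (k + 2))) :=
  ⟨!![0, -1; 1, -1], !![-1, 1; -1, 0], by ext i j; fin_cases i <;> fin_cases j <;> simp,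
    by ext i j; fin_cases i <;> fin_cases j <;> simp⟩

theorem m2 : ∀ M : Matrix (Fin 2) (Fin 2) (ZMod 2), M ^ 3 = 1 →
    (M ^ 2 + M + 1).det ≠ 0 ∨ ((M - 1).det ≠ 0 ∧ M 1 0 ≠ 0) := by decide

theorem conj_om (r : GL (Fin 2) (ZMod (2 ^ (k + 2)))) (h3 : r ^ 3 = 1) (h1 : r ≠ 1) :
    ∃ g : GL (Fin 2) (ZMod (2 ^ (k + 2))), g * r * g⁻¹ = om k := by
  set M : Matrix (Fin 2) (Fin 2) (ZMod (2 ^ (k + 2))) := r.1 with hM
  have h3' : M ^ 3 = 1 := by rw [hM, ← Units.val_pow_eq_pow_val, h3, Units.val_one]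
  have hf : (M - 1) * (M ^ 2 + M + 1) = 0 := by
    have : (M - 1) * (M ^ 2 + M + 1) = M ^ 3 - 1 := by noncomm_ring
    rw [this, h3', sub_self]
  have hu : ∀ N : Matrix (Fin 2) (Fin 2) (ZMod (2 ^ (k + 2))), ((red k).mapMatrix N).det ≠ 0 → IsUnit N :=
    fun N hN => (Matrix.isUnit_iff_isUnit_det _).2 (isUnit_of_red (by rwa [RingHom.map_det]))
  rcases m2 ((red k).mapMatrix M) (by rw [← map_pow, h3', map_one]) with h | ⟨h, h'⟩
  · have := (hu (M ^ 2 + M + 1) (by simpa only [map_add, map_pow, map_one] using h)).mul_left_eq_zero.1 hf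
    exact absurd (Units.ext (sub_eq_zero.1 this)) h1
  · have h0 := (hu (M - 1) (by simpa only [map_sub, map_one] using h)).mul_right_eq_zero.1 hf
    have hg : IsUnit (!![1, M 0 0; 0, M 1 0] : Matrix (Fin 2) (Fin 2) (ZMod (2 ^ (k + 2)))) := by
      rw [Matrix.isUnit_iff_isUnit_det, det_fin_two_of]
      simpa using isUnit_of_red h'
    refine ⟨hg.unit⁻¹, ?_⟩
    rw [inv_inv, mul_assoc, inv_mul_eq_iff_eq_mul]
    apply Units.ext
    have e0 := congrFun (congrFun h0 0) 0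
    have e1 := congrFun (congrFun h0 1) 0
    simp [sq, Matrix.mul_apply] at e0 e1
    show M * _ = _ * !![0, -1; 1, -1]
    rw [IsUnit.unit_spec]
    ext i j
    fin_cases i <;> fin_cases j <;> simp [Matrix.mul_apply]
    · linear_combination e0
    · linear_combination e1

theorem m3 : ∀ A : Matrix (Fin 2) (Fin 2) (ZMod 2), A * A = 1 →
    A * (!![0, -1; 1, -1] * A * !![-1, 1; -1, 0]) =
      !![0, -1; 1, -1] * (!![0, -1; 1, -1] * A * !![-1, 1; -1, 0]) * !![-1, 1; -1, 0] → A 0 1 = 0 ∧ A 1 0 = 0 := by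
  decide

theorem shape (a : GL (Fin 2) (ZMod (2 ^ (k + 2)))) (h2 : a * a = 1)
    (h : a * (om k * a * (om k)⁻¹) = om k * (om k * a * (om k)⁻¹) * (om k)⁻¹) :
    ∃ y z : ZMod (2 ^ (k + 2)), 2 * y = 0 ∧ 2 * z = 0 ∧ a.1 = !![1 + y + z, y; z, 1 + y + z] := by
  have hd : a.1.det = 1 := by
    have := congrArg Matrix.GeneralLinearGroup.det h
    simp only [map_mul, map_inv, mul_inv_cancel_comm, mul_eq_right] at this
    exact congrArg Units.val this
  have h2' : a.1 * a.1 = 1 := congrArg Units.val h2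
  have h' : a.1 * (!![0, -1; 1, -1] * a.1 * !![-1, 1; -1, 0]) =
      !![0, -1; 1, -1] * (!![0, -1; 1, -1] * a.1 * !![-1, 1; -1, 0]) * !![-1, 1; -1, 0] := congrArg Units.val h
  have hr := m3 ((red k).mapMatrix a.1) (by rw [← map_mul, h2', map_one]) (by
    have := congrArg (red k).mapMatrix h'
    have c1 : (red k).mapMatrix !![0, -1; 1, -1] = !![0, -1; 1, -1] := by
      ext i j; fin_cases i <;> fin_cases j <;> simp
    have c2 : (red k).mapMatrix !![-1, 1; -1, 0] = !![-1, 1; -1, 0] := by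
      ext i j; fin_cases i <;> fin_cases j <;> simp
    simpa only [map_mul, c1, c2] using this)
  obtain ⟨y', hy'⟩ := red_eq_zero (x := a.1 0 1) hr.1
  obtain ⟨z', hz'⟩ := red_eq_zero (x := a.1 1 0) hr.2
  have hadj : a.1 = adjugate a.1 := by
    calc a.1 = a.1 * (a.1 * adjugate a.1) := by rw [mul_adjugate, hd]; simp
      _ = _ := by rw [← mul_assoc, h2', one_mul]
  rw [adjugate_fin_two] at hadj
  have a00 := congrFun (congrFun hadj 0) 0
  have a01 := congrFun (congrFun hadj 0) 1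
  have a10 := congrFun (congrFun hadj 1) 0
  simp at a00 a01 a10
  rw [det_fin_two] at hd
  have e00 := congrFun (congrFun h' 0) 0
  simp only [Matrix.mul_apply, Fin.sum_univ_two, Matrix.of_apply, Matrix.cons_val', Matrix.cons_val_zero,
    Matrix.cons_val_one, Matrix.cons_val_fin_one] at e00
  rw [Matrix.eta_fin_two a.1]
  clear h' hadj hr h2'
  generalize a.1 0 0 = x at *
  generalize a.1 0 1 = y at *
  generalize a.1 1 0 = z at *
  generalize a.1 1 1 = w at *
  subst a00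
  have hy2 : 2 * y = 0 := by linear_combination a01
  have hz2 : 2 * z = 0 := by linear_combination a10
  have hyz : y * z = 0 := by linear_combination y' * hz2 + z * hy'
  have hyy : y * y = 0 := by linear_combination y' * hy2 + y * hy'
  have hxx : x * x = 1 := by linear_combination hd + hyz
  obtain ⟨x', hx'⟩ := red_eq_zero (x := x - 1) (by
    have := congrArg (red k) hxx
    rw [map_mul, map_one] at this
    rw [map_sub, map_one]; revert this; generalize red k x = t; revert t; decide)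
  have hxz : x * z = z := by linear_combination x' * hz2 + z * hx'
  refine ⟨y, z, hy2, hz2, ?_⟩
  have hx1 : x = 1 + y + z := by
    linear_combination (-1 : ZMod (2 ^ (k + 2))) * e00 + hxx + hxz + hyz - hyy
  rw [hx1]

theorem std (H : Subgroup (GL (Fin 2) (ZMod (2 ^ (k + 2))))) (e : H ≃* alternatingGroup (Fin 4)) :
    ∃ g a : GL (Fin 2) (ZMod (2 ^ (k + 2))), a.1 = !![1, 2 ^ (k + 1); 2 ^ (k + 1), 1] ∧
      H.map (MulAut.conj g).toMonoidHom = Subgroup.closure {om k, a} := by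
  obtain ⟨r, a, h1, h2, h3, h4, h5, rfl⟩ := exists_gen H e
  obtain ⟨g, hg⟩ := conj_om r h1 h2
  simp only [MonoidHom.map_closure, Set.image_pair]
  obtain ⟨y, z, hy, hz, ha⟩ := shape (g * a * g⁻¹)
    (by rw [show g * a * g⁻¹ * (g * a * g⁻¹) = g * (a * a) * g⁻¹ by group, h3]; group)
    (by rw [← hg]
        calc _ = g * (a * (r * a * r⁻¹)) * g⁻¹ := by group
          _ = _ := by rw [h5]; group)
  have hne : g * a * g⁻¹ ≠ 1 := by simpa using h4
  have key : ∀ (b u : GL (Fin 2) (ZMod (2 ^ (k + 2)))), u ∈ Subgroup.zpowers (om k) →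
      Subgroup.closure {om k, b} = Subgroup.closure {om k, u * b * u⁻¹} := by
    have : ∀ (b u : GL (Fin 2) (ZMod (2 ^ (k + 2)))), u ∈ Subgroup.zpowers (om k) →
        Subgroup.closure {om k, u * b * u⁻¹} ≤ Subgroup.closure {om k, b} := by
      intro b u hu
      have m1 : om k ∈ Subgroup.closure {om k, b} := Subgroup.subset_closure (by simp)
      have m2 : u ∈ Subgroup.closure {om k, b} := Subgroup.zpowers_le.2 m1 hu
      rw [Subgroup.closure_le, Set.insert_subset_iff, Set.singleton_subset_iff]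
      exact ⟨m1, mul_mem (mul_mem m2 (Subgroup.subset_closure (by simp))) (inv_mem m2)⟩
    intro b u hu
    refine le_antisymm ?_ (this b u hu)
    have := this (u * b * u⁻¹) u⁻¹ (inv_mem hu)
    simpa [mul_assoc] using this
  have e2 := two_eps (k := k)
  show ∃ g' b : GL (Fin 2) (ZMod (2 ^ (k + 2))), _ ∧
    Subgroup.closure {g' * r * g'⁻¹, g' * a * g'⁻¹} = _
  rcases ann hy with rfl | rfl <;> rcases ann hz with rfl | rfl
  · exact absurd (Units.ext (by rw [ha]; ext i j; fin_cases i <;> fin_cases j <;> simp)) hne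
  · refine ⟨g, om k * (g * a * g⁻¹) * (om k)⁻¹, ?_, by rw [hg]; exact key _ _ (Subgroup.mem_zpowers _)⟩
    show !![0, -1; 1, -1] * (g * a * g⁻¹).1 * !![-1, 1; -1, 0] = _
    rw [ha]; ext i j; fin_cases i <;> fin_cases j <;> simp
    all_goals first | linear_combination e2 | linear_combination -e2
  · refine ⟨g, (om k)⁻¹ * (g * a * g⁻¹) * (om k)⁻¹⁻¹, ?_,
      by rw [hg]; exact key _ _ (inv_mem (Subgroup.mem_zpowers _))⟩
    rw [inv_inv]
    show !![-1, 1; -1, 0] * (g * a * g⁻¹).1 * !![0, -1; 1, -1] = _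
    rw [ha]; ext i j; fin_cases i <;> fin_cases j <;> simp
    all_goals first | linear_combination e2 | linear_combination -e2
  · refine ⟨g, g * a * g⁻¹, ?_, by rw [hg]⟩
    rw [ha]; ext i j; fin_cases i <;> fin_cases j <;> simp
    all_goals first | linear_combination e2 | linear_combination -e2


/-- For k ≥ 2, any two subgroups of GL₂(ℤ/2ᵏℤ) (the automorphism group of the homocyclic group ℤ/2ᵏ × ℤ/2ᵏ) that are isomorphic to the alternating group of degree 4 are conjugate. -/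
theorem result (k : ℕ) (hk : 2 ≤ k) (H₁ H₂ : Subgroup (GL (Fin 2) (ZMod (2 ^ k)))) (h₁ : Nonempty (↥H₁ ≃* ↥(alternatingGroup (Fin 4)))) (h₂ : Nonempty (↥H₂ ≃* ↥(alternatingGroup (Fin 4)))) : ∃ g : GL (Fin 2) (ZMod (2 ^ k)), H₂ = H₁.map (MulAut.conj g).toMonoidHom := by
  obtain ⟨k, rfl⟩ : ∃ m, k = m + 2 := ⟨k - 2, by omega⟩
  obtain ⟨g1, a1, e1, f1⟩ := std H₁ h₁.some
  obtain ⟨g2, a2, e2, f2⟩ := std H₂ h₂.some
  obtain rfl : a1 = a2 := Units.ext (e1.trans e2.symm)
  refine ⟨g2⁻¹ * g1, ?_⟩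
  have := congrArg (Subgroup.map (MulAut.conj g2⁻¹).toMonoidHom) (f2.trans f1.symm)
  rw [Subgroup.map_map, Subgroup.map_map] at this
  convert this using 2
  · conv_lhs => rw [← Subgroup.map_id H₂]
    congr 1
    ext x; simp [mul_assoc]
  · ext x; simp [mul_assoc]

end Cfsg.Agent.S2874
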