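import Cfsg.Statements.S2879
import Cfsg.Agent.H76.SDStruct
import Cfsg.Agent.H43.Dih

set_option autoImplicit false
open Cfsg

namespace Cfsg.Agent.S2879

open Subgroup

/-- Let G be a finite solvable group with O(G) = 1 whose Sylow 2-subgroup T is dihedral of order at least 8 or semidihedral, with G ≠ T and Z(T) normal in G. Then G has a normal subgroup isomorphic to SL₂(3). -/
theorem result {G : Type*} [Group G] [Finite G] (hsol : IsSolvable G) (hO : Cfsg.oddCore G = ⊥) (T : Sylow 2 G) (hT : (∃ n : ℕ, 4 ≤ n ∧ Nonempty (↥(T : Subgroup G) ≃* DihedralGroup n)) ∨ Cfsg.IsQuasiDihedral ↥(T : Subgroup G)) (hne : (T : Subgroup G) ≠ ⊤) (hZ : ((T : Subgroup G) ⊓ Subgroup.centralizer ((T : Subgroup G) : Set G)).Normal) : ∃ U : Subgroup G, U.Normal ∧ Nonempty (↥U ≃* Matrix.SpecialLinearGroup (Fin 2) (ZMod 3)) := by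
  haveI : Fact (Nat.Prime 2) := ⟨Nat.prime_two⟩
  haveI : Group.IsSolvable G := hsol
  have hs : IsPSolvable 2 G := H22.isPSolvable_of_isSolvable
  rcases hT with ⟨n, hn, ⟨e⟩⟩ | hT
  · exfalso
    obtain ⟨x, y, h, hx⟩ := H43.Dih.of_equiv e
    have hC := H22.IsPSolvable.centralizer_pCore_le hs hO
    have hR := H22.pCore_le_sylow T
    have hN : normalizer (pCore 2 G : Set G) = ⊤ := normalizer_eq_top _
    refine hne (H76.sylow_eq_top_of_isPGroup T fun g => ?_)
    obtain ⟨j, m, hm, hg⟩ := Nat.exists_eq_two_pow_mul_odd (orderOf_pos g).ne'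
    refine ⟨j, ?_⟩
    have ho : Odd (orderOf (g ^ 2 ^ j)) := Odd.of_dvd_nat hm
      (orderOf_dvd_of_pow_eq_one (by rw [← pow_mul, ← hg, pow_orderOf_eq_one]))
    generalize g ^ 2 ^ j = a at ho
    have ha : a ∈ pCore 2 G := by
      refine hC fun r hr => Eq.symm ?_
      by_cases hK : IsKleinFour (pCore 2 G)
      · obtain ⟨z, hz, hzz, hz1⟩ := h.exists_inv T.isPGroup' (by rintro rfl; simp at hx; omega)
        refine H43.klein_comm_of_odd hK (hN ▸ mem_top a) ho (h.klein_mem hK hR hz hzz) hz1 ?_ hr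
        obtain ⟨h1, h2⟩ := hZ.conj_mem z ⟨h.A_le hz, fun s hs => h.comm_of_inv hz hzz hs⟩ a
        refine mul_inv_eq_iff_eq_mul.1 (H43.eq_of_inv_of_mem_zpowers (by_contra fun h3 => ?_) hz
          (by rw [conj_mul, hzz]; simp) hzz (by simpa using hz1) hz1)
        have h4 := h.inverts h1 h3 (mem_zpowers x)
        rw [← h2 x h.hx, mul_inv_cancel_right] at h4
        have h5 : orderOf x ∣ 2 :=
          orderOf_dvd_of_pow_eq_one (by rw [pow_two]; exact mul_eq_one_iff_eq_inv.2 h4)
        have := Nat.le_of_dvd two_pos h5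
        omega
      · exact h.comm_of_odd T.isPGroup' hR hK (hN ▸ mem_top a) ho hr
    obtain ⟨i, hi⟩ := IsPGroup.iff_orderOf.1 (H22.isPGroup_pCore (p := 2) (G := G)) ⟨a, ha⟩
    rw [orderOf_mk] at hi
    rcases i with _ | i
    · exact orderOf_eq_one_iff.1 hi
    · exact absurd (hi ▸ ho) (by simp [Nat.even_pow])
  · obtain ⟨k, x, y, h⟩ := H42.QD.of_isQuasiDihedral hT
    obtain ⟨e⟩ := H76.gl23_of_QD hs hO h hne
    let f := e.symm.toMonoidHom.comp (Matrix.SpecialLinearGroup.toGL (n := Fin 2) (R := ZMod 3))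
    have hf : Function.Injective f := e.symm.injective.comp Matrix.SpecialLinearGroup.toGL_injective
    refine ⟨f.range, ?_, ⟨(MonoidHom.ofInjective hf).symm⟩⟩
    have : f.range = (Matrix.GeneralLinearGroup.det.comp e.toMonoidHom).ker := by
      ext g
      rw [MonoidHom.mem_ker]
      constructor
      · rintro ⟨a, rfl⟩
        simp [f]
      · intro hg
        exact ⟨⟨(e g : GL (Fin 2) (ZMod 3)), congrArg Units.val hg⟩,
          e.symm_apply_eq.2 (Units.ext rfl)⟩
    rw [this]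
    infer_instance

end Cfsg.Agent.S2879
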