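import Cfsg.Statements.S2880
import Cfsg.Agent.S4416

set_option autoImplicit false
open Cfsg

namespace Cfsg.Agent.S2880

open S4416 in
theorem gs_gt {V : Type*} [AddCommGroup V] [Module (ZMod 2) V] [Fintype V]
    (Q : QuadraticForm (ZMod 2) V) (hQ : (QuadraticMap.polarBilin Q).Nondegenerate)
    (W : Submodule (ZMod 2) V) (hW : ∀ w ∈ W, Q w = 0) :
    - (Fintype.card V : ℤ) < Nat.card W * gs Q := by
  classical
  haveI := Fintype.ofFinite W
  set B := QuadraticMap.polarBilin Q with hB
  -- the inner sums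
  let T : V → ℤ := fun x => ∑ w : W, sg (B w x)
  have hT : ∀ x, 0 ≤ T x := fun x => by
    by_cases h : (B.flip x).comp W.subtype = 0
    · refine Finset.sum_nonneg fun w _ => ?_
      have : B w x = 0 := LinearMap.congr_fun h w
      rw [this, sg_zero]
      exact zero_le_one
    · exact (sum_sg_lin _ h).ge
  have h1 : ∑ x, T x = Fintype.card V := by
    simp only [T]
    rw [Finset.sum_comm, Finset.sum_eq_single 0]
    · simp [sg_zero]
    · intro z _ hz
      exact sum_sg_lin _ (fun h => hz (Subtype.ext (hQ.1 z fun y => by rw [h]; rfl)))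
    · simp
  have h2 : (Nat.card W : ℤ) * gs Q = ∑ x, sg (Q x) * T x := by
    simp only [T, Finset.mul_sum]
    rw [Finset.sum_comm, Nat.card_eq_fintype_card, ← Finset.card_univ, ← nsmul_eq_mul,
      ← Finset.sum_const]
    refine Finset.sum_congr rfl fun w _ => ?_
    unfold gs
    rw [← Equiv.sum_comp (Equiv.addLeft (w : V)) (fun x => sg (Q x))]
    refine Finset.sum_congr rfl fun x _ => ?_
    rw [Equiv.coe_addLeft, H3.quad_add, hW w w.2, zero_add, sg_add]
  have h0 : 0 < T 0 := by
    simp only [T, map_zero, sg_zero, Finset.sum_const, Finset.card_univ, nsmul_eq_mul, mul_one]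
    exact_mod_cast Fintype.card_pos
  rw [h2, ← h1, ← Finset.sum_neg_distrib]
  refine Finset.sum_lt_sum (fun x _ => ?_) ⟨0, Finset.mem_univ _, ?_⟩
  · have := hT x
    unfold sg
    split_ifs <;> omega
  · rw [map_zero, sg_zero]
    omega

/-- Let E be an extraspecial 2-group of order 2^(2m+1) of plus type, that is, containing an elementary abelian subgroup of order 2^(m+1) (equivalently, a central product of m dihedral groups of order 8). Then E has exactly 2^(2m) − 2^m elements of order 4. -/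
theorem result {E : Type*} [Group E] [Finite E] (m : ℕ) (hm : 1 ≤ m) (hE : Cfsg.IsExtraspecial 2 E) (hcard : Nat.card E = 2 ^ (2 * m + 1)) (hplus : ∃ A : Subgroup E, Cfsg.IsElementaryAbelian 2 A ∧ Nat.card A = 2 ^ (m + 1)) : Nat.card {x : E // orderOf x = 4} = 2 ^ (2 * m) - 2 ^ m := by
  obtain ⟨V, _, _, _, _, D, hD, hZ⟩ := H3.exists_esData_of_isExtraspecial hE
  haveI := Fintype.ofFinite V
  have hQ : (QuadraticMap.polarBilin D.quad).Nondegenerate := D.polarBilin_quad ▸ hD
  have hV : Nat.card V = 2 ^ (2 * m) := by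
    have := D.card_eq
    rw [hcard, pow_succ] at this
    omega
  obtain ⟨A, hA, hAc⟩ := hplus
  have h1 := S4416.card_sq D
  have h2 := S4416.gs_sq D.quad hQ
  have h4 := gs_gt D.quad hQ (D.im A) (by
    intro w hw
    obtain ⟨a, ha, rfl⟩ := D.mem_im.mp hw
    rw [D.quad_apply, ← D.pow_eq_one_iff]
    exact hA.2 a ha)
  rw [← Nat.card_eq_fintype_card, hV] at h1 h2 h4
  have h5 : 2 ^ (m + 1) ≤ Nat.card (D.im A) * 2 := by
    rw [← D.card_preim, ← hAc]
    exact Subgroup.card_le_of_le fun a ha => ⟨a, ha, rfl⟩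
  have h3 : S4416.gs D.quad = 2 ^ m := by
    have h3 : S4416.gs D.quad = 2 ^ m ∨ S4416.gs D.quad = - 2 ^ m := by
      rw [← sq_eq_sq_iff_eq_or_eq_neg, sq, h2]
      push_cast
      ring
    refine h3.resolve_right fun h => ?_
    rw [h] at h4
    have h6 : (2 : ℤ) ^ m ≤ Nat.card (D.im A) := by
      have : 2 ^ m ≤ Nat.card (D.im A) := by
        rw [pow_succ] at h5
        omega
      exact_mod_cast this
    have h7 : (0 : ℤ) < 2 ^ m := by positivity
    push_cast at h4
    have h8 : (2 : ℤ) ^ (2 * m) = 2 ^ m * 2 ^ m := by ring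
    nlinarith
  have h6 : ∀ x : E, orderOf x = 4 ↔ ¬ x ^ 2 = 1 := fun x => by
    have hx : x ^ 2 ^ (1 + 1) = 1 := by
      rw [show 2 ^ (1 + 1) = 2 * 2 from rfl, pow_mul, D.pow_eq x, D.ζ_pow_p]
    constructor
    · intro h h'
      have := orderOf_dvd_of_pow_eq_one h'
      rw [h] at this
      omega
    · intro h
      exact orderOf_eq_prime_pow (p := 2) (n := 1) (by simpa using h) hx
  classical
  haveI := Fintype.ofFinite E
  rw [Nat.card_congr (Equiv.subtypeEquivRight h6), Nat.card_eq_fintype_card,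
    Fintype.card_subtype_compl, ← Nat.card_eq_fintype_card, ← Nat.card_eq_fintype_card, hcard]
  rw [h3] at h1
  have h7 : Nat.card {x : E // x ^ 2 = 1} = 2 ^ (2 * m) + 2 ^ m := by exact_mod_cast h1
  rw [h7, pow_succ]
  omega

end Cfsg.Agent.S2880
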