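import Cfsg.Statements.S2881
import Cfsg.Agent.S2880

set_option autoImplicit false
open Cfsg

namespace Cfsg.Agent.S2881

/-- Let E be an extraspecial 2-group of order 2^(2m+1) of plus type (containing an elementary abelian subgroup of order 2^(m+1)), and let ω be an automorphism of E of order 5 whose fixed points are exactly the centre of E. Then m is divisible by 4. -/
theorem result {E : Type*} [Group E] [Finite E] (m : ℕ) (hm : 1 ≤ m) (hE : Cfsg.IsExtraspecial 2 E) (hcard : Nat.card E = 2 ^ (2 * m + 1)) (hplus : ∃ A : Subgroup E, Cfsg.IsElementaryAbelian 2 A ∧ Nat.card A = 2 ^ (m + 1)) (ω : E ≃* E) (hω : orderOf ω = 5) (hfix : ∀ x : E, ω x = x ↔ x ∈ Subgroup.center E) : 4 ∣ m := by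
  classical
  have hc := Cfsg.Agent.S2880.result m hm hE hcard hplus
  haveI : Fact (Nat.Prime 5) := ⟨by norm_num⟩
  haveI : Fintype {x : E // orderOf x = 4} := Fintype.ofFinite _
  let σ : Equiv.Perm {x : E // orderOf x = 4} :=
    Equiv.Perm.subtypePerm ω.toEquiv (fun x => by
      change orderOf (ω x) = 4 ↔ _
      rw [MulEquiv.orderOf_eq])
  have hω5 : (ω : MulAut E) ^ 5 = 1 := by
    have := pow_orderOf_eq_one (ω : MulAut E)
    rwa [hω] at this
  have hσ : σ ^ 5 ^ 1 = 1 := by
    ext x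
    have h := congrArg (fun f : MulAut E => f x.1) hω5
    simp only [pow_succ, pow_zero, one_mul, MulAut.mul_apply, MulAut.one_apply] at h
    simp only [pow_one, σ, Equiv.Perm.subtypePerm_pow]
    simp only [Equiv.Perm.subtypePerm_apply, Equiv.Perm.one_apply, pow_succ, pow_zero, one_mul,
      Equiv.Perm.mul_apply]
    exact h
  have hdvd : 5 ∣ 2 ^ (2 * m) - 2 ^ m := by
    by_contra hnd
    rw [← hc, Nat.card_eq_fintype_card] at hnd
    obtain ⟨a, ha⟩ := Equiv.Perm.exists_fixed_point_of_prime hnd hσ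
    have h1 : ω a.1 = a.1 := congrArg Subtype.val ha
    have h2 := (hfix _).1 h1
    have h3 : orderOf a.1 ∣ 2 := by
      rw [← hE.2, ← Subgroup.orderOf_mk _ h2]
      exact orderOf_dvd_natCard _
    rw [a.2] at h3
    omega
  have hle : 2 ^ m ≤ 2 ^ (2 * m) := Nat.pow_le_pow_right (by norm_num) (by omega)
  have hmod : 2 ^ m ≡ 2 ^ (2 * m) [MOD 5] := (Nat.modEq_iff_dvd' hle).2 hdvd
  have hper : ∀ k r : ℕ, 2 ^ (4 * k + r) ≡ 2 ^ r [MOD 5] := by
    intro k r
    rw [pow_add, pow_mul]
    have : (2 ^ 4) ^ k ≡ 1 ^ k [MOD 5] := Nat.ModEq.pow k (by decide)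
    simpa using this.mul_right (2 ^ r)
  obtain ⟨k, r, hr, rfl⟩ : ∃ k r, r < 4 ∧ m = 4 * k + r :=
    ⟨m / 4, m % 4, Nat.mod_lt _ (by norm_num), by omega⟩
  have e : 2 * (4 * k + r) = 4 * (2 * k) + 2 * r := by ring
  rw [e] at hmod
  have h := ((hper k r).symm.trans hmod).trans (hper _ _)
  interval_cases r
  · simp
  · exact absurd h (by decide)
  · exact absurd h (by decide)
  · exact absurd h (by decide)

end Cfsg.Agent.S2881
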