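import Cfsg.Statements.S2906
import Cfsg.Agent.H72.PMin
import Cfsg.Agent.H72.Card
import Cfsg.Agent.S2836

set_option autoImplicit false
open Cfsg

namespace Cfsg.Agent.S2906

open Subgroup Cfsg.Agent.H92 Cfsg.Agent.H70 Cfsg.Agent.H72

/-- Let P be a finite p-minimal group with O_p(P) = 1, S a Sylow p-subgroup of P and K a component of P. Then O^p(P) = F*(P) = E(P) is generated by the S-conjugates of K, and the subgroup K·N_S(K) is again p-minimal. -/
theorem result {P : Type*} [Group P] [Finite P] {p : ℕ} [Fact p.Prime] (hP : Cfsg.IsPMinimal p P) (hOp : Cfsg.pCore p P = ⊥) (S : Sylow p P) (K : Subgroup P) (hK : Cfsg.IsComponent K) : Cfsg.pResidual p P = Cfsg.generalizedFittingSubgroup P ∧ Cfsg.generalizedFittingSubgroup P = Cfsg.layer P ∧ Cfsg.layer P = ⨆ s : ↥(S : Subgroup P), K.map (MulAut.conj (s : P)).toMonoidHom ∧ Cfsg.IsPMinimal p ↥(K ⊔ ((S : Subgroup P) ⊓ Subgroup.normalizer (K : Set P))) := by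
  obtain ⟨M, h⟩ := exists_minOver_of_isPMinimal hP S
  have hK' := H44.comp_top_iff.2 hK
  have hO : pCoreOf p (⊤ : Subgroup P) = ⊥ := H70.pCoreOf_top.trans hOp
  have hsub := subn_top_iff.2 hK.1
  have hKR : K ≤ pResidual p P :=
    (pRes_eq_of_perfect hK'.perfect).ge.trans ((pRes_mono le_top).trans pRes_top.le)
  have hns : ∀ N : Subgroup P, K ≤ N → N ≤ M → ¬ ⊤ ≤ normalizer (N : Set P) := fun N h1 h2 h3 => by
    have hN := normal_of_top_le_norm h3
    have hTM := (sylIn_top S).mono h.le le_top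
    have h4 := ((S2836.result M h.isCoatom hTM.toSylow S (by
      rw [SylIn.coe_toSylow, map_subtype_subgroupOf h.le]) h.isMinimalOver).2 N h2).2.1
    have h5 : pCore p N = ⊥ := pCoreOf_eq_bot_iff.1 (le_bot_iff.1
      (hO ▸ pCoreOf_le_pCoreOf_of_norm le_top h3))
    have h6 : Group.IsNilpotent N := Group.nilpotent_of_mulEquiv
      ((QuotientGroup.quotientMulEquivOfEq h5).trans QuotientGroup.quotientBot)
    exact hK'.qs.not_le_solvable inferInstance h1
  have hKM : ¬ K ≤ M := fun e => by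
    obtain ⟨N, h1, h2, h3⟩ := MinOver_exists_normal h hsub e
    exact hns N h1 h2 h3
  have hres : ∀ N : Subgroup P, K ≤ N → ⊤ ≤ normalizer (N : Set P) → pResidual p P ≤ N :=
    fun N h1 h2 => pRes_top.ge.trans ((h.pRes_le_or S.isPGroup' le_top h2).resolve_right
      fun e => hKM (h1.trans e))
  have hE : layer P = pResidual p P := by
    refine le_antisymm (sSup_le fun L hL => ?_)
      (hres _ (hK'.le_Eof.trans H44.Eof_top.le) norm_of_normal)
    exact (pRes_eq_of_perfect (H44.comp_top_iff.2 hL).perfect).ge.trans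
      ((pRes_mono le_top).trans pRes_top.le)
  have hF : generalizedFittingSubgroup P = layer P := by
    refine sup_eq_left.2 ?_
    rw [hE, ← H44.Fof_top]
    exact (pRes_eq_of_coprime (Fof_coprime hO)).ge.trans ((pRes_mono le_top).trans pRes_top.le)
  have hcomp : ∀ g : P, H44.Comp ⊤ (H70.cj g K) := fun g => hK'.conj (le_normalizer (mem_top g))
  have hL : layer P = ncl K S := by
    refine le_antisymm (hE.le.trans (hres _ (le_ncl _ _) ?_))
      (ncl_le_iff.2 fun g _ => (hcomp g).le_Eof.trans H44.Eof_top.le)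
    rw [← pRes_sup_sylIn (sylIn_top S), pRes_top, ← hE, ← H44.Eof_top]
    refine sup_le (le_norm_iff_cj.2 fun x hx => ?_) (le_norm_ncl _ _)
    refine (H72.cj_iSup x _).le.trans ?_
    exact iSup_le fun s => (cj_eq_self ((hcomp s).Eof_le_normalizer hx)).le.trans (cj_le_ncl _ s.2)
  have hpK : (S : Subgroup P) ⊓ K ≠ ⊥ := fun e => by
    have h1 := sylIn_inf_subn (sylIn_top S) hsub
    rw [e] at h1
    have h2 := H44.le_pPrimeCore_of_subnormal hK.1 (coprime_of_sylIn_bot h1)
    have := H44.pPrimeCore_characteristic (p := p) (G := P)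
    have h3 := H44.coprime_of_le_pPrimeCore (hres _ h2 norm_of_normal)
    obtain ⟨t, ht, h4⟩ := MinOver_two_primes (sylIn_top S) h (by
      rw [pRes_top]
      exact isPClosed_iff.2 fun R hR hp => (eq_bot_of_le_coprime h3 hp hR).le.trans bot_le)
    have : Fact t.Prime := ⟨ht⟩
    have h5 : IsPGroup t K := by
      rw [IsPGroup.iff_card]
      refine ⟨_, Nat.eq_prime_pow_of_unique_prime_dvd Nat.card_pos.ne' fun {d} hd hdK => ?_⟩
      refine (h4 d hd (hdK.trans (card_subgroup_dvd_card K))).resolve_left fun e' => ?_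
      subst e'
      exact (H44.coprime_iff_not_dvd.1 (coprime_of_sylIn_bot h1)) hdK
    have := h5.isNilpotent
    exact hK'.qs.not_solvable inferInstance
  refine ⟨hE.symm.trans hF.symm, hF, hL, ?_⟩
  set S₀ := (S : Subgroup P) ⊓ normalizer (K : Set P) with hS₀
  have hSK : (S : Subgroup P) ⊓ K ≤ S₀ := inf_le_inf_left _ le_normalizer
  have hS0p : IsPGroup p S₀ := S.isPGroup'.to_le inf_le_left
  have hsyl : SylIn p S₀ (K ⊔ S₀) := by
    have h1 := sylIn_inf_subn (sylIn_top S) hsub
    have h2 : S₀ ⊓ K = (S : Subgroup P) ⊓ K := le_antisymm (inf_le_inf_right _ inf_le_left) (le_inf hSK inf_le_right)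
    have h3 := isSylowIn_inf_of_le_sup (P := S₀) (N := K) (K := K ⊔ S₀) hS0p
      (by rw [h2]; exact ⟨h1.le, h1.pgroup, fun Q a b c => h1.max Q c a b⟩) inf_le_right le_sup_left
      (sup_comm _ _).le
    rw [inf_eq_left.2 le_sup_right] at h3
    exact ⟨h3.1, h3.2, fun Q a b c => h3.3 Q b c a⟩
  refine isPMinimal_of_minOver (L₀ := M ⊓ (K ⊔ S₀)) hsyl (minOver_of_uniq hsyl
    (le_inf (inf_le_left.trans h.le) le_sup_right)
    (inf_lt_right.2 fun e => hKM (le_sup_left.trans e)) (fun U hU hU' => ?_) fun e => hpK ?_)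
  · refine le_inf ?_ hU'.le
    have h1 : U = S₀ ⊔ (K ⊓ U) := by
      rw [← sup_inf_of_norm inf_le_right hU, sup_comm, inf_eq_right.2 hU'.le]
    have h2 : ¬ K ≤ ncl (K ⊓ U) S := fun e => by
      have h3 : ncl (K ⊓ U) S ≤ (K ⊓ U) ⊔ centralizer (K : Set P) := ncl_le_iff.2 fun s hs => by
        rcases (hcomp s).eq_or_commutator_eq_bot hK' with e' | e'
        · exact le_sup_of_le_left (cj_eq_self (norm_inf (inf_le_right : S₀ ≤ _) (norm_of_le hU)
            ⟨hs, cj_eq_self_iff.1 e'⟩)).le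
        · exact le_sup_of_le_right ((H70.cj_mono s inf_le_left).trans (comm_eq_bot_iff.1 e'))
      have h4 : K = (K ⊓ U) ⊔ (centralizer (K : Set P) ⊓ K) := by
        rw [← sup_inf_of_norm (norm_centralizer (norm_of_le inf_le_left)) inf_le_left,
          inf_eq_right.2 (e.trans h3)]
      have h5 := hK'.perfect
      rw [h4, H44.commutator_sup_of_centralizes
        (comm_eq_bot_iff.2 (inf_le_left.trans (cent_anti inf_le_left)))
        (comm_eq_bot_iff.2 (inf_le_left.trans (cent_anti inf_le_right))), ← h4] at h5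
      have h6 : K ≤ U := h5.ge.trans ((commutator_le_left_of_norm le_normalizer).trans inf_le_right)
      exact hU'.not_ge (sup_le h6 hU)
    have h3 := h.uniq (ncl (K ⊓ U) S ⊔ S) le_sup_right (lt_top_iff_ne_top.2 fun e => h2 (by
      have := pRes_sup_le_of_isPGroup S.isPGroup' (le_norm_ncl (K ⊓ U) S)
      rw [e, pRes_top] at this
      exact hKR.trans this))
    rw [h1]
    exact sup_le (inf_le_left.trans h.le) ((le_ncl _ _).trans (le_sup_left.trans h3))
  · have h1 : Subn (S₀ ⊓ K) ⊤ := (Subn.of_norm inf_le_right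
      (norm_inf (le_sup_left.trans e) le_normalizer)).trans hsub
    have h2 := h1.le_pCoreOf (hS0p.to_le inf_le_left)
    rw [hO] at h2
    exact le_bot_iff.1 ((le_inf hSK inf_le_right).trans h2)

end Cfsg.Agent.S2906
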