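import Cfsg.Statements.S2911
import Cfsg.Agent.H72.Fixed
import Cfsg.Agent.S0111
import Cfsg.Agent.H3.PResidual

set_option autoImplicit false
open Cfsg

namespace Cfsg.Agent.S2911

open Cfsg.Agent.H72 DihedralGroup

abbrev K := Multiplicative (ZMod 2) × DihedralGroup 4

def chi (e d : ZMod 2) : DihedralGroup 4 → ZMod 2
  | r i => (e + d) * (i.val : ZMod 2)
  | sr i => e + (e + d) * (i.val : ZMod 2)

def M (e d : ZMod 2) : Subgroup K where
  carrier := {x | Multiplicative.toAdd x.1 = chi e d x.2}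
  mul_mem' := by
    simp only [Set.mem_ofPred_eq]
    revert e d; decide +kernel
  one_mem' := by
    simp only [Set.mem_ofPred_eq]
    revert e d; decide +kernel
  inv_mem' := by
    simp only [Set.mem_ofPred_eq]
    revert e d; decide +kernel

theorem mem_M {e d : ZMod 2} {x : K} : x ∈ M e d ↔ Multiplicative.toAdd x.1 = chi e d x.2 := Iff.rfl

def zz : K := (Multiplicative.ofAdd 1, r 0)
def tt : K := (1, r 2)
def aa (c : ZMod 2) : K := (Multiplicative.ofAdd c, sr 0)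
def bb (c : ZMod 2) : K := (Multiplicative.ofAdd c, sr 1)

theorem index_M (e d : ZMod 2) : (M e d).index = 2 := by
  rw [Subgroup.index_eq_two_iff]
  refine ⟨zz, ?_⟩
  simp only [mem_M]
  revert e d; decide +kernel

theorem f1 : ∀ e d : ZMod 2, ∀ v : K, Multiplicative.toAdd v.1 = chi e d v.2 → v * v = 1 →
    v = 1 ∨ v = tt ∨ (∃ k, k * aa e * k⁻¹ = v) ∨ (∃ k, k * bb d * k⁻¹ = v) := by decide +kernel

set_option synthInstance.maxSize 2000 in
theorem f2 : ∀ w : K, (w = zz ∨ w = zz * tt) → ∀ v : K, v * v = 1 →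
    v = 1 ∨ v = tt ∨ v = w ∨ v = w * tt ∨ (∃ c k, k * aa c * k⁻¹ = v) ∨
      ((∃ c k, k * bb c * k⁻¹ = v) ∧ ∃ c k, k * bb c * k⁻¹ = v * tt) := by decide +kernel

theorem f3 : ∀ w : K, (w = zz ∨ w = zz * tt) → (∀ k, k * w = w * k) ∧ w * w = 1 ∧ w ≠ 1 ∧ w ≠ tt ∧
    w * tt ≠ w ∧ w * tt * tt = w ∧ w ≠ aa 0 ∧ w * tt ≠ 1 ∧ w * tt ≠ tt ∧
    ∀ e d, ¬ Multiplicative.toAdd w.1 = chi e d w.2 := by decide +kernel

set_option synthInstance.maxSize 2000 in
theorem f4 : (∀ k, k * tt = tt * k) ∧ tt ≠ 1 ∧ tt * tt = 1 ∧ (∀ k : K, k * k = 1 ∨ k * k = tt) ∧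
    (∃ k : K, k * k = tt) ∧ ∀ x y : K, (∀ k, k * x = x * k) → (∀ k, k * y = y * k) → x ≠ 1 →
      x ≠ tt → y ≠ 1 → y ≠ tt → x = y ∨ x = y * tt := by decide +kernel

variable {G : Type*} [Group G] [Finite G]

theorem extremal (S : Sylow 2 G) (ι : K →* G) (hr : ι.range = S) {x z : K}
    (hz : ∀ k, k * z = z * k) (h : IsConj (ι x) (ι z)) :
    ∃ g : G, g * ι x * g⁻¹ = ι z ∧ ∃ ψ : K → K, ∀ u, u * x = x * u → ι (ψ u) = g * ι u * g⁻¹ := by
  obtain ⟨g, hg⟩ := isConj_iff.1 h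
  have hS : (S : Subgroup G) ≤ Subgroup.centralizer {ι z} := by
    rw [← hr]
    rintro _ ⟨k, rfl⟩
    rw [Subgroup.mem_centralizer_singleton_iff, ← map_mul, ← map_mul, hz]
  have h1 : cj g ((S : Subgroup G) ⊓ Subgroup.centralizer {ι x}) ≤ Subgroup.centralizer {ι z} := by
    rw [← hg, ← cj_centralizer_singleton]
    exact cj_mono g inf_le_right
  obtain ⟨c, hc, hle⟩ := (isSylowIn_sylow S hS).exists_cj_le
    (IsPGroup_cj g S.isPGroup'.to_inf_left) h1
  rw [← cj_mul, ← hr] at hle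
  refine ⟨c * g, ?_, ?_⟩
  · calc c * g * ι x * (c * g)⁻¹ = c * (g * ι x * g⁻¹) * c⁻¹ := by group
      _ = ι z := by rw [hg, Subgroup.mem_centralizer_singleton_iff.1 hc]; group
  · have : ∀ u : K, ∃ v : K, u * x = x * u → ι v = c * g * ι u * (c * g)⁻¹ := by
      intro u
      by_cases hu : u * x = x * u
      · obtain ⟨v, hv⟩ := hle (conj_mem_cj (x := ι u) (Subgroup.mem_inf.2 ⟨⟨u, rfl⟩, by
          rw [Subgroup.mem_centralizer_singleton_iff, ← map_mul, ← map_mul, hu]⟩))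
        exact ⟨v, fun _ => hv⟩
      · exact ⟨1, fun h => absurd h hu⟩
    choose ψ hψ using this
    exact ⟨ψ, hψ⟩

theorem central_eq (S : Sylow 2 G) (ι : K →* G) (hι : Function.Injective ι) (hr : ι.range = S)
    {x z : K} (hx : ∀ k, k * x = x * k) (hz : ∀ k, k * z = z * k) (h : IsConj (ι x) (ι z)) :
    x = z := by
  obtain ⟨g, hg, ψ, hψ⟩ := extremal S ι hr hz h
  obtain ⟨ht, ht1, ht2, hsq, ⟨k₀, hk₀⟩, hcen⟩ := f4
  have hψ' := fun u => hψ u (hx u)
  have hψx : ψ x = z := hι (by rw [hψ', hg])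
  have hmul : ∀ u v, ψ (u * v) = ψ u * ψ v := fun u v => hι (by
    rw [map_mul, hψ', hψ', hψ', map_mul]; group)
  have hinj : Function.Injective ψ := fun u v e => hι (by
    have := congrArg ι e
    rw [hψ', hψ'] at this
    simpa using this)
  have h1 : ψ 1 = 1 := hι (by rw [hψ']; simp)
  have htt : ψ tt = tt := by
    rcases hsq (ψ k₀) with h | h
    · rw [← hmul, hk₀, ← h1] at h
      exact absurd (hinj h) ht1
    · rw [← hmul, hk₀] at h; exact h
  by_contra hne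
  have hx1 : x ≠ 1 := fun e => hne (by rw [← hψx, e, h1])
  have hxt : x ≠ tt := fun e => hne (by rw [← hψx, e, htt])
  have hz1 : z ≠ 1 := fun e => hx1 (hinj (by rw [hψx, e, h1]))
  have hzt : z ≠ tt := fun e => hxt (hinj (by rw [hψx, e, htt]))
  have hxz : x = z * tt := (hcen x z hx hz hx1 hxt hz1 hzt).resolve_left hne
  have hzx : z = x * tt := by rw [hxz, mul_assoc, ht2, mul_one]
  have hψz : ψ z = x := by rw [hzx, hmul, hψx, htt, ← hxz]
  have h2 : g ^ 2 ∈ Subgroup.centralizer {ι x} := by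
    rw [Subgroup.mem_centralizer_singleton_iff, ← mul_inv_eq_iff_eq_mul]
    calc g ^ 2 * ι x * (g ^ 2)⁻¹ = g * (g * ι x * g⁻¹) * g⁻¹ := by rw [sq]; group
      _ = ι x := by rw [hg, ← hψ', hψz]
  have hgN : g ∈ Subgroup.normalizer ((S : Subgroup G) : Set G) := by
    apply mem_normalizer_of_conj_mem
    rw [← hr]
    rintro _ ⟨u, rfl⟩
    exact ⟨ψ u, hψ' u⟩
  obtain ⟨a, b, ha, hb, ⟨n, hn⟩, hb2, he⟩ := H3.exists_p_part (p := 2) g
  have haS : a ∈ (S : Subgroup G) := by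
    refine (isSylowIn_top S).le_of_normalizes' (Q := Subgroup.zpowers a) ?_ le_top
      (Subgroup.zpowers_le.2 (Subgroup.zpowers_le.2 hgN ha)) (Subgroup.mem_zpowers a)
    obtain ⟨k, -, hk⟩ := (Nat.dvd_prime_pow Nat.prime_two).1 (orderOf_dvd_of_pow_eq_one hn)
    exact isPGroup_zpowers ⟨k, hk⟩
  have haC : a ∈ Subgroup.centralizer {ι x} := by
    rw [← hr] at haS
    obtain ⟨k, rfl⟩ := haS
    rw [Subgroup.mem_centralizer_singleton_iff, ← map_mul, ← map_mul, hx]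
  have hbC : b ∈ Subgroup.centralizer {ι x} := by
    obtain ⟨m, rfl⟩ := hb
    have h3 : (g ^ m) ^ 2 ∈ Subgroup.centralizer {ι x} := by
      rw [← zpow_natCast, ← zpow_mul, mul_comm, zpow_mul, zpow_natCast]
      exact Subgroup.zpow_mem _ h2 m
    obtain ⟨j, hj⟩ := exists_pow_eq_self_of_coprime hb2.symm
    have h4 := Subgroup.pow_mem _ h3 j
    rw [hj] at h4
    exact h4
  have hgC := Subgroup.mul_mem _ haC hbC
  rw [← he, Subgroup.mem_centralizer_singleton_iff] at hgC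
  rw [hgC, mul_inv_cancel_right] at hg
  exact hne (hι hg)

theorem final (S : Sylow 2 G) (ι : K →* G) (hι : Function.Injective ι) (hr : ι.range = S)
    {w : K} (hw : w = zz ∨ w = zz * tt) (hA : ∀ c, IsConj (ι w) (ι (aa c)))
    (hB : ∀ c, IsConj (ι (w * tt)) (ι (bb c))) : False := by
  obtain ⟨ht, ht1, ht2, -⟩ := f4
  obtain ⟨hc, hw2, hw1, hwt, hwtw, hwtt, hwa, hwt1, hwtt', -⟩ := f3 w hw
  have hc' : ∀ k, k * (w * tt) = (w * tt) * k := fun k => by
    rw [← mul_assoc, hc, mul_assoc, ht, mul_assoc]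
  have cj' : ∀ {x v : K}, (∃ k, k * x * k⁻¹ = v) → IsConj (ι x) (ι v) := fun ⟨k, hk⟩ =>
    ι.map_isConj (isConj_iff.2 ⟨k, hk⟩)
  obtain ⟨g, hg, ψ, hψ⟩ := extremal S ι hr hc (hA 0).symm
  have e1 := hψ tt (ht _).symm
  have e2 := hψ (w * tt) (hc' _).symm
  have e3 := hψ w (hc _).symm
  have c1 : IsConj (ι tt) (ι (ψ tt)) := isConj_iff.2 ⟨g, e1.symm⟩
  have c2 : IsConj (ι (w * tt)) (ι (ψ (w * tt))) := isConj_iff.2 ⟨g, e2.symm⟩
  have c3 : IsConj (ι w) (ι (ψ w)) := isConj_iff.2 ⟨g, e3.symm⟩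
  have sq : ∀ u, u * aa 0 = aa 0 * u → u * u = 1 → ψ u * ψ u = 1 := fun u hu h => hι (by
    rw [map_mul, hψ u hu, map_one]
    calc g * ι u * g⁻¹ * (g * ι u * g⁻¹) = g * ι (u * u) * g⁻¹ := by rw [map_mul]; group
      _ = 1 := by rw [h]; simp)
  have n1 : ∀ k : K, k * 1 = 1 * k := fun k => by simp
  have p1 : ψ tt = tt := by
    rcases f2 w hw _ (sq tt (ht _).symm ht2) with h | h | h | h | ⟨c, h⟩ | ⟨⟨c, h⟩, -⟩
    · exact absurd (central_eq S ι hι hr ht n1 (h ▸ c1)) ht1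
    · exact h
    · exact absurd (central_eq S ι hι hr ht hc (h ▸ c1)).symm hwt
    · exact absurd (central_eq S ι hι hr ht hc' (h ▸ c1)).symm hwtt'
    · exact absurd (central_eq S ι hι hr hc ht (((hA c).trans (cj' h)).trans c1.symm)) hwt
    · exact absurd (central_eq S ι hι hr hc' ht (((hB c).trans (cj' h)).trans c1.symm)) hwtt'
  have p2 : ψ w = ψ (w * tt) * tt := hι (by
    rw [map_mul, e2, e3]
    conv_rhs => rw [← p1, e1, p1]
    conv_lhs => rw [← hwtt, map_mul]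
    group)
  have hsq : w * tt * (w * tt) = 1 := by
    rw [← mul_assoc, mul_assoc w tt, hc tt, ← mul_assoc, hw2, one_mul, ht2]
  rcases f2 w hw _ (sq _ (hc' _).symm hsq) with h | h | h | h | ⟨c, h⟩ | ⟨-, ⟨c, h⟩⟩
  · exact hwt1 (central_eq S ι hι hr hc' n1 (h ▸ c2))
  · rw [h] at c2; exact hwtt' (central_eq S ι hι hr hc' ht c2)
  · rw [h] at c2; exact hwtw (central_eq S ι hι hr hc' hc c2)
  · rw [h, hwtt] at p2
    rw [p2] at e3
    exact hwa (hι (mul_left_cancel (mul_right_cancel (e3.symm.trans hg.symm))))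
  · exact hwtw (central_eq S ι hι hr hc hc' (((hA c).trans (cj' h)).trans c2.symm)).symm
  · rw [← p2] at h
    exact hwtw (central_eq S ι hι hr hc' hc (((hB c).trans (cj' h)).trans c3.symm))

/-- A finite group whose Sylow 2-subgroups are isomorphic to the direct product of a group of order 2 and a dihedral group of order 8 has a subgroup of index two. -/
theorem result {G : Type*} [Group G] [Finite G] (S : Sylow 2 G) (hS : Nonempty (↥(S : Subgroup G) ≃* Multiplicative (ZMod 2) × DihedralGroup 4)) : ∃ H : Subgroup G, H.index = 2 := by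
  obtain ⟨φ⟩ := hS
  by_contra hno
  let ι : K →* G := (S : Subgroup G).subtype.comp φ.symm.toMonoidHom
  have hι : Function.Injective ι := (S : Subgroup G).subtype_injective.comp φ.symm.injective
  have hr : ι.range = S := by
    rw [MonoidHom.range_comp, MonoidHom.range_eq_top.2 φ.symm.surjective,
      ← MonoidHom.range_eq_map, Subgroup.range_subtype]
  have thom : ∀ w : K, (w = zz ∨ w = zz * tt) → ∀ e d,
      IsConj (ι w) (ι (aa e)) ∨ IsConj (ι w) (ι (bb d)) := by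
    intro w hw e d
    obtain ⟨hc, hw2, hw1, hwt, -, -, -, -, -, hM⟩ := f3 w hw
    have ho : orderOf (ι w) = 2 := by
      rw [orderOf_injective ι hι]
      exact orderOf_eq_prime (by rw [sq, hw2]) hw1
    rcases S0111.result S ((M e d).map ι) (hr ▸ Subgroup.map_le_range _ _) (by
      rw [← hr, MonoidHom.range_eq_map, Subgroup.relIndex_map_map_of_injective _ _ hι,
        Subgroup.relIndex_top_right, index_M]) (ι w) ho (hr ▸ ⟨w, rfl⟩) (by
      rw [Subgroup.mem_map_iff_mem hι]; exact hM e d) with ⟨N, -, h, -⟩ | ⟨g, v, hv, hg⟩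
    · exact absurd ⟨N, h⟩ hno
    have c : IsConj (ι w) (ι v) := isConj_iff.2 ⟨g, hg.symm⟩
    have hv2 : v * v = 1 := hι (by
      rw [map_mul, hg, map_one]
      calc g * ι w * g⁻¹ * (g * ι w * g⁻¹) = g * ι (w * w) * g⁻¹ := by rw [map_mul]; group
        _ = 1 := by rw [hw2]; simp)
    rcases f1 e d v hv hv2 with h | h | h | h
    · exact absurd (central_eq S ι hι hr hc (fun k => by simp) (h ▸ c)) hw1
    · exact absurd (central_eq S ι hι hr hc f4.1 (h ▸ c)) hwt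
    · exact Or.inl (c.trans (ι.map_isConj (isConj_iff.2 h)).symm)
    · exact Or.inr (c.trans (ι.map_isConj (isConj_iff.2 h)).symm)
  have dich : ∀ w : K, (w = zz ∨ w = zz * tt) →
      (∀ e, IsConj (ι w) (ι (aa e))) ∨ ∀ d, IsConj (ι w) (ι (bb d)) := by
    intro w hw
    by_contra hc
    push Not at hc
    obtain ⟨⟨e, he⟩, d, hd⟩ := hc
    exact (thom w hw e d).elim he hd
  have hne : ¬ IsConj (ι zz) (ι (zz * tt)) := fun h =>
    (f3 zz (Or.inl rfl)).2.2.2.2.1 (central_eq S ι hι hr (f3 zz (Or.inl rfl)).1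
      (f3 _ (Or.inr rfl)).1 h).symm
  rcases dich zz (Or.inl rfl) with h1 | h1 <;> rcases dich _ (Or.inr rfl) with h2 | h2
  · exact hne ((h1 0).trans (h2 0).symm)
  · exact final S ι hι hr (Or.inl rfl) h1 h2
  · exact final S ι hι hr (Or.inr rfl) h2 (by rwa [(f3 zz (Or.inl rfl)).2.2.2.2.2.1])
  · exact hne ((h1 0).trans (h2 0).symm)

end Cfsg.Agent.S2911
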