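import Cfsg.Statements.S2917
import Cfsg.Agent.OR.G2D
import Cfsg.Agent.H9.SLBasic

set_option autoImplicit false
open Cfsg

namespace Cfsg.Agent.S2917

open Subgroup

/-- Let G be a finite group with subgroups H and M such that: H has normal subgroups H₁, H₂ both isomorphic to SL₂(3) with H₁ ∩ H₂ = Z(H₁) = Z(H₂), the product H₁H₂ has index 2 in H, and H = C_G(H₁ ∩ H₂); and M ⧸ O₂(M) ≅ SL₃(2) with O₂(M) elementary abelian of order 8 containing Z(H₁). Then G is isomorphic to the Chevalley group G₂(3). -/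
theorem result {G : Type*} [Group G] [Finite G] (H H₁ H₂ M : Subgroup G) (h1 : H₁ ≤ H) (h2 : H₂ ≤ H) (hn1 : (H₁.subgroupOf H).Normal) (hn2 : (H₂.subgroupOf H).Normal) (hiso1 : Nonempty (↥H₁ ≃* Matrix.SpecialLinearGroup (Fin 2) (ZMod 3))) (hiso2 : Nonempty (↥H₂ ≃* Matrix.SpecialLinearGroup (Fin 2) (ZMod 3))) (hidx : (H₁ ⊔ H₂).relIndex H = 2) (hint1 : H₁ ⊓ H₂ = H₁ ⊓ Subgroup.centralizer (H₁ : Set G)) (hint2 : H₁ ⊓ H₂ = H₂ ⊓ Subgroup.centralizer (H₂ : Set G)) (hHC : H = Subgroup.centralizer ((H₁ ⊓ H₂ : Subgroup G) : Set G)) [hOM : (Cfsg.pCore 2 ↥M).Normal] (hM : Nonempty ((↥M ⧸ Cfsg.pCore 2 ↥M) ≃* Matrix.SpecialLinearGroup (Fin 3) (ZMod 2))) (hOel : Cfsg.IsElementaryAbelian 2 (Cfsg.pCore 2 ↥M)) (hOcard : Nat.card ↥(Cfsg.pCore 2 ↥M) = 8) (hZin : H₁ ⊓ H₂ ≤ (Cfsg.pCore 2 ↥M).map M.subtype) : ∃ (F : Type) (_ : Field F) (_ : Fintype F), Fintype.card F = 3 ∧ Nonempty (G ≃*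 ↥(Cfsg.Lie.chevG2.group F)) := by
  obtain ⟨e1⟩ := hiso1
  obtain ⟨e2⟩ := hiso2
  obtain ⟨eM⟩ := hM
  have n1 : ∀ h ∈ H, ∀ x ∈ H₁, h * x * h⁻¹ ∈ H₁ := fun h hh x hx => hn1.conj_mem ⟨x, h1 hx⟩ hx ⟨h, hh⟩
  have n2 : ∀ h ∈ H, ∀ x ∈ H₂, h * x * h⁻¹ ∈ H₂ := fun h hh x hx => hn2.conj_mem ⟨x, h2 hx⟩ hx ⟨h, hh⟩
  obtain ⟨a, b, c, d, j, t, X, k1, k2, hz⟩ := OR.G2.exists_yrel h1 h2 n1 n2 e1 e2 hint1 hint2
  have hH : H = centralizer {j} := by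
    rw [hHC]
    ext x
    rw [mem_centralizer_singleton_iff, mem_centralizer_iff]
    refine ⟨fun h => (h j ((hz j).2 (Or.inr rfl))).symm, fun h z hz' => ?_⟩
    rcases (hz z).1 hz' with rfl | rfl
    · simp
    · exact h.symm
  have hY : H₁ ⊔ H₂ = Subgroup.closure {a, b, c, d} := by
    rw [k1, k2, ← Subgroup.closure_union]; congr 1; ext x; simp only [Set.mem_union, Set.mem_insert_iff, Set.mem_singleton_iff]; tauto
  rw [hY, hH] at hidx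
  have cM : Nat.card M = 1344 := by
    have h3 := H9.card_sl_fin (F := ZMod 2) 3 (by norm_num)
    rw [ZMod.card, ← Nat.card_congr eM.toEquiv] at h3
    rw [card_eq_card_quotient_mul_card_subgroup (Cfsg.pCore 2 ↥M), hOcard]
    generalize Nat.card (↥M ⧸ Cfsg.pCore 2 ↥M) = A at *
    norm_num [Fin.prod_univ_succ] at h3
    omega
  have hj := hZin ((hz j).2 (Or.inr rfl))
  obtain ⟨g, g1, g2⟩ := X.exists_swap (M := M) (V := (Cfsg.pCore 2 ↥M).map M.subtype) (by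
      rintro m hm _ ⟨x, hx, rfl⟩
      exact ⟨_, hOM.conj_mem x hx ⟨m, hm⟩, rfl⟩) hj
    ((Nat.card_congr (equivMapOfInjective _ _ M.subtype_injective).toEquiv).symm.trans hOcard) (by
      rintro _ ⟨x, hx, rfl⟩
      exact (pow_two _).symm.trans (congrArg Subtype.val (hOel.2 x hx))) (by
      rintro _ ⟨x, hx, rfl⟩
      obtain ⟨z, hz', rfl⟩ := hj
      exact mem_centralizer_singleton_iff.2
        (congrArg (fun u : Cfsg.pCore 2 ↥M => (u.1 : G)) (hOel.1.is_comm.comm ⟨x, hx⟩ ⟨z, hz'⟩))) cM hidx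
  have m : ∀ h, h * j = j * h → h ∈ H := fun h hh => hH ▸ mem_centralizer_singleton_iff.2 hh
  obtain ⟨y, S, hc⟩ := X.exists_st (fun h hh => k1 ▸ n1 h (m h hh)) (fun h hh => k2 ▸ n2 h (m h hh))
    (fun x z hx hz => mul_mem_iff_of_index_two (H := (Subgroup.closure {a, b, c, d}).subgroupOf (centralizer {j})) hidx
      (a := ⟨x, mem_centralizer_singleton_iff.2 hx⟩) (b := ⟨z, mem_centralizer_singleton_iff.2 hz⟩)) g1 g2
  obtain ⟨f⟩ := S.main hc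
  obtain ⟨e⟩ := H56.G23.equiv (F := ZMod 3) (ZMod.card 3)
  exact ⟨ZMod 3, inferInstance, inferInstance, ZMod.card 3, ⟨f.trans e.symm⟩⟩

end Cfsg.Agent.S2917
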