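import Cfsg.Statements.S2930
import Cfsg.Agent.H62.HallSym2
import Cfsg.Agent.H62.NilSym1
import Cfsg.Agent.S2271
import Cfsg.Agent.S4231
import Cfsg.Agent.S1265
import Cfsg.Agent.H44.Components

set_option autoImplicit false
open Cfsg

namespace Cfsg.Agent.S2930

open Equiv Equiv.Perm Finset MulAction Cfsg.Agent.H62.HallSym
open scoped Pointwise

section
variable {α : Type*} [Fintype α] [DecidableEq α]

theorem swap2_even {a b c d : α} (h1 : a ≠ b) (h2 : c ≠ d) :
    swap a b * swap c d ∈ alternatingGroup α := by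
  rw [mem_alternatingGroup, Perm.sign_mul, sign_swap h1, sign_swap h2]; simp

theorem move {Δ : Finset α} {x b y : α} (hΔ : 4 ≤ #Δ) (hb : b ∈ Δ) (hy : y ∈ Δ) (hbx : b ≠ x)
    (hyx : y ≠ x) : ∃ g ∈ Sy Δ ⊓ alternatingGroup α, g x = x ∧ g b = y := by
  by_cases hby : b = y
  · exact ⟨1, one_mem _, rfl, hby⟩
  obtain ⟨w, hw, hw'⟩ := exists_mem_notMem_of_card_lt_card
    (show #({x, b, y} : Finset α) < #Δ from lt_of_le_of_lt card_le_three hΔ)
  simp only [mem_insert, mem_singleton, not_or] at hw'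
  refine ⟨swap b w * swap b y, ⟨fun z hz => ?_, swap2_even (Ne.symm hw'.2.1) hby⟩, ?_, ?_⟩
  · have h1 : z ≠ b := by rintro rfl; exact hz hb
    have h2 : z ≠ y := by rintro rfl; exact hz hy
    have h3 : z ≠ w := by rintro rfl; exact hz hw
    rw [Perm.mul_apply, swap_apply_of_ne_of_ne h1 h2, swap_apply_of_ne_of_ne h1 h3]
  · rw [Perm.mul_apply, swap_apply_of_ne_of_ne hbx.symm hyx.symm,
      swap_apply_of_ne_of_ne hbx.symm (Ne.symm hw'.1)]
  · rw [Perm.mul_apply, swap_apply_left, swap_apply_of_ne_of_ne (Ne.symm hby) (Ne.symm hw'.2.2)]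

theorem jordan {M : Subgroup (Perm α)} {Δ : Finset α} (hΔ : 4 ≤ #Δ)
    (h : Sy Δ ⊓ alternatingGroup α ≤ M) {x : α} (ht : ∀ a, ∃ g ∈ M, g a = x)
    (hs : ∀ b ≠ x, ∃ g ∈ M, g x = x ∧ g b ∈ Δ) : alternatingGroup α ≤ M := by
  obtain ⟨y, y', y'', hy, hy', hy'', n1, n2, n3⟩ := two_lt_card_iff.1
    (show 2 < #(Δ.erase x) by have := pred_card_le_card_erase (s := Δ) (a := x); omega)
  rw [mem_erase] at hy hy' hy''
  have key : ∀ a b, a ≠ b → ∃ g ∈ M, g a = x ∧ g b = y := by
    intro a b hab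
    obtain ⟨g, hg, g1⟩ := ht a
    have : g b ≠ x := fun h => hab (g.injective (g1.trans h.symm))
    obtain ⟨k, hk, k1, k2⟩ := hs _ this
    obtain ⟨l, hl, l1, l2⟩ := move (x := x) hΔ k2 hy.2
      (fun h => this (k.injective (h.trans k1.symm))) hy.1
    exact ⟨l * k * g, mul_mem (mul_mem (h hl) hk) hg, by simp [g1, k1, l1], by simp [l2]⟩
  have h2 : IsMultiplyPretransitive M α 2 := by
    rw [is_two_pretransitive_iff]
    intro a b c d hab hcd
    obtain ⟨g, hg, g1, g2⟩ := key a b hab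
    obtain ⟨k, hk, k1, k2⟩ := key c d hcd
    refine ⟨⟨k⁻¹ * g, mul_mem (inv_mem hk) hg⟩, ?_, ?_⟩
    · show (k⁻¹ * g) a = c
      simp [g1, ← k1]
    · show (k⁻¹ * g) b = d
      simp [g2, ← k2]
  refine alternatingGroup_le_of_isPreprimitive_of_isThreeCycle_mem
    (isPreprimitive_of_is_two_pretransitive h2) (isThreeCycle_swap_mul_swap_same n1 n2 n3) (h ⟨?_,
      swap2_even n1 n2⟩)
  intro z hz
  have h1 : z ≠ y := by rintro rfl; exact hz hy.2
  have h2 : z ≠ y' := by rintro rfl; exact hz hy'.2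
  have h3 : z ≠ y'' := by rintro rfl; exact hz hy''.2
  rw [Perm.mul_apply, swap_apply_of_ne_of_ne h1 h3, swap_apply_of_ne_of_ne h1 h2]

theorem not_le_T (hn : 4 ≤ Fintype.card α) {s : Setoid α} {x x' y : α} (h1 : x ≠ x') (h2 : s x x')
    (h3 : ¬ s x y) : ¬ alternatingGroup α ≤ T s := by
  intro h
  obtain ⟨g, hg, g1, g2⟩ := S2271.exists_two hn h1
    (show y ≠ x' from fun h => h3 (h ▸ h2))
  have := (h hg x x').1 h2
  rw [g1, g2] at this
  exact h3 (s.trans' h2 (s.symm' this))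

theorem sy_le_T {s : Setoid α} (x : α) : Sy (cls s x) ≤ T s := by
  intro g hg
  have key : ∀ z, s z (g z) := by
    intro z
    by_cases hz : z ∈ cls s x
    · exact s.trans' (s.symm' (mem_cls.1 hz)) (mem_cls.1 (mem_of_fix hg hz))
    · rw [hg z hz]
  intro a b
  exact ⟨fun hab => s.trans' (s.symm' (key a)) (s.trans' hab (key b)),
    fun hab => s.trans' (key a) (s.trans' hab (s.symm' (key b)))⟩

theorem block_move {s : Setoid α} (h3 : ∀ x, #(cls s x) = 3) (p q : α) :
    ∃ g ∈ T s ⊓ alternatingGroup α, g p = q ∧ ∀ r, ¬ s p r → ¬ s q r → g r = r := by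
  classical
  have hf : ∀ b : Quotient s, Nonempty ({x // Quotient.mk s x = b} ≃ Fin 3) := by
    intro b
    induction b using Quotient.inductionOn with
    | h y =>
      refine ⟨Fintype.equivFinOfCardEq ?_⟩
      rw [Fintype.card_subtype, ← h3 y]
      congr 1
      ext z
      simp only [mem_filter, mem_univ, true_and, mem_cls, Quotient.eq]
      exact ⟨s.symm', s.symm'⟩
  let e : α ≃ Quotient s × Fin 3 := (Equiv.sigmaFiberEquiv (Quotient.mk s)).symm.trans
    ((Equiv.sigmaCongrRight fun b => (hf b).some).trans (Equiv.sigmaEquivProd _ _))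
  have he : ∀ x, (e x).1 = Quotient.mk s x := fun _ => rfl
  have hs : ∀ x y, s x y ↔ (e x).1 = (e y).1 := fun x y => by rw [he, he, Quotient.eq]
  let ρ : Perm (Quotient s × Fin 3) := Equiv.prodShear (swap (e p).1 (e q).1)
    (fun c => if c = (e p).1 then swap (e p).2 (e q).2 else 1)
  let σ : Perm α := e.symm.permCongr ρ
  have hσ : ∀ x, e (σ x) = ρ (e x) := fun x => by simp [σ]
  have h1 : σ ∈ T s := fun x y => by
    rw [hs, hs, hσ, hσ]
    exact (swap (e p).1 (e q).1).injective.eq_iff.symm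
  have h2 : σ p = q := e.injective (by rw [hσ]; simp [ρ])
  have h4 : ∀ r, ¬ s p r → ¬ s q r → σ r = r := fun r hp hq => e.injective (by
    rw [hs] at hp hq
    rw [hσ]
    simp [ρ, Ne.symm hp, swap_apply_of_ne_of_ne (Ne.symm hp) (Ne.symm hq)])
  obtain ⟨u, hu, v, hv, huv⟩ := one_lt_card.1
    (show 1 < #((cls s p).erase p) by rw [card_erase_of_mem (self_mem_cls s p), h3]; norm_num)
  rw [mem_erase, mem_cls] at hu hv
  rcases S2271.even_or σ huv with h | h
  · exact ⟨σ, ⟨h1, h⟩, h2, h4⟩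
  · refine ⟨_, ⟨mul_mem h1 (swap_mem_T (s.trans' (s.symm' hu.2) hv.2)), h⟩, ?_, fun r hp hq => ?_⟩
    · rw [Perm.mul_apply, swap_apply_of_ne_of_ne hu.1.symm hv.1.symm, h2]
    · rw [Perm.mul_apply, swap_apply_of_ne_of_ne, h4 r hp hq]
      · rintro rfl; exact hp hu.2
      · rintro rfl; exact hp hv.2

theorem orbit_pow {S : Subgroup (Perm α)} (hS : IsPGroup 3 S) (x : α) :
    ∃ k, (orbit S x).ncard = 3 ^ k := by
  haveI : Fact (Nat.Prime 3) := ⟨by norm_num⟩
  exact hS.card_orbit x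

theorem core (hn : 5 ≤ Fintype.card α) {S M : Subgroup (Perm α)} (hS : IsPGroup 3 S)
    (hi : ¬ 3 ∣ S.relIndex (alternatingGroup α)) (hM0 : ¬ alternatingGroup α ≤ M)
    (hM : ∀ H, S ≤ H → ¬ alternatingGroup α ≤ H → H ⊓ alternatingGroup α ≤ M) :
    Fintype.card α = 6 ∨ Fintype.card α = 9 ∨ ∃ a : ℕ, 2 ≤ a ∧ Fintype.card α = 3 ^ a + 1 := by
  classical
  haveI : Fact (Nat.Prime 3) := ⟨by norm_num⟩
  have two : ∀ O : Set α, (∀ g ∈ S, ∀ x, g x ∈ O ↔ x ∈ O) → ∀ x y, x ∈ O → y ∉ O →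
      stabilizer (Perm α) O ⊓ alternatingGroup α ≤ M := by
    intro O hO x y hx hy
    refine hM _ (fun g hg => mem_stabilizer_set.2 (hO g hg)) fun h => ?_
    obtain ⟨x', hx'⟩ := Fintype.exists_ne_of_one_lt_card (show 1 < Fintype.card α by omega) x
    obtain ⟨y', hy'⟩ := Fintype.exists_ne_of_one_lt_card (show 1 < Fintype.card α by omega) y
    obtain ⟨g, hg, g1, -⟩ := S2271.exists_two (by omega) hx'.symm hy'.symm
    have := mem_stabilizer_set.1 (h hg) x
    exact hy (g1 ▸ this.2 hx)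
  have horb : ∀ y, ∀ g ∈ S, ∀ x, g x ∈ orbit S y ↔ x ∈ orbit S y := fun y g hg x =>
    mem_stabilizer_set.1 (mem_stabilizer_iff.2 (smul_orbit (⟨g, hg⟩ : S) y)) x
  have hmod := hS.card_modEq_card_fixedPoints α
  rw [Nat.card_eq_fintype_card] at hmod
  by_cases h3 : 3 ∣ Fintype.card α
  swap
  · obtain ⟨x, hx⟩ := hS.nonempty_fixed_point_of_prime_not_dvd_card α (by
      rwa [Nat.card_eq_fintype_card])
    have hx' : ∀ g ∈ S, g x = x := fun g hg => hx ⟨g, hg⟩
    obtain ⟨y, hy⟩ := Fintype.exists_ne_of_one_lt_card (show 1 < Fintype.card α by omega) x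
    have hxO : x ∉ orbit S y := by
      rintro ⟨g, hg⟩
      exact hy ((g : Perm α).injective (hg.trans (hx' g g.2).symm))
    have hst : M.subgroupOf (alternatingGroup α) = stabilizer (alternatingGroup α) x := by
      haveI := alternatingGroup.isPreprimitive_of_three_le_card α
        (by rw [Nat.card_eq_fintype_card]; omega)
      haveI : Nontrivial α := ⟨⟨y, x, hy⟩⟩
      refine ((IsPreprimitive.isCoatom_stabilizer_of_isPreprimitive
        (G := alternatingGroup α) x).le_iff_eq ?_).1 fun g hg => ?_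
      · rwa [Ne, Subgroup.subgroupOf_eq_top]
      · refine two {x} (fun g hg z => ?_) x y rfl hy ⟨?_, g.2⟩
        · simp only [Set.mem_singleton_iff]
          conv_lhs => rw [← hx' g hg]
          exact g.injective.eq_iff
        · rw [stabilizer_singleton]; exact hg
    have hO : orbit S y = {x}ᶜ := by
      refine Set.Subset.antisymm (fun z hz h => hxO (h ▸ hz)) fun w hw => ?_
      by_contra hwO
      obtain ⟨u, v, huv, hu, hv, hs⟩ : ∃ u v, u ≠ v ∧ u ∉ ({x, w} : Finset α) ∧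
          v ∉ ({x, w} : Finset α) ∧ (u ∈ orbit S y ↔ v ∈ orbit S y) := by
        have : 2 < #(({x, w} : Finset α)ᶜ) := by
          have := card_le_two (a := x) (b := w)
          rw [card_compl]; omega
        obtain ⟨a, a', a'', ha, ha', ha'', n1, n2, n3⟩ := two_lt_card_iff.1 this
        rw [mem_compl] at ha ha' ha''
        by_cases h1 : (a ∈ orbit S y ↔ a' ∈ orbit S y)
        · exact ⟨a, a', n1, ha, ha', h1⟩
        by_cases h2 : (a ∈ orbit S y ↔ a'' ∈ orbit S y)
        · exact ⟨a, a'', n2, ha, ha'', h2⟩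
        exact ⟨a', a'', n3, ha', ha'', by tauto⟩
      simp only [mem_insert, mem_singleton, not_or] at hu hv
      have sw : ∀ a b, (a ∈ orbit S y ↔ b ∈ orbit S y) →
          swap a b ∈ stabilizer (Perm α) (orbit S y) := by
        intro a b hab
        rw [mem_stabilizer_set]
        intro z
        rw [Perm.smul_def, swap_apply_def]
        split_ifs with h1 h2
        · rw [h1, hab]
        · rw [h2, hab]
        · rfl
      have hA := swap2_even (Ne.symm hw) huv
      have h1 : (⟨_, hA⟩ : alternatingGroup α) ∈ M.subgroupOf (alternatingGroup α) :=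
        two _ (horb y) y x (mem_orbit_self y) hxO ⟨mul_mem (sw _ _ (by tauto)) (sw _ _ hs), hA⟩
      rw [hst] at h1
      have h2 : (swap x w * swap u v) x = x := h1
      rw [Perm.mul_apply, swap_apply_of_ne_of_ne (Ne.symm hu.1) (Ne.symm hv.1), swap_apply_left] at h2
      exact hw h2
    obtain ⟨k, hk⟩ := orbit_pow hS y
    rw [hO, Set.ncard_compl, Set.ncard_singleton, Nat.card_eq_fintype_card] at hk
    refine Or.inr (Or.inr ⟨k, ?_, by omega⟩)
    by_contra hk2
    have : k ≤ 1 := by omega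
    have := Nat.pow_le_pow_right (show 0 < 3 by norm_num) this
    omega
  by_contra hcon
  have hn12 : 12 ≤ Fintype.card α := by omega
  obtain ⟨F, hF, hcov⟩ := cov (p := 3) (by norm_num) (by norm_num) hi
  have nofix : ∀ x, x ∉ fixedPoints S α := by
    intro x hx
    have h1 : 3 ∣ Nat.card (fixedPoints S α) := (Nat.ModEq.dvd_iff hmod dvd_rfl).1 h3
    have h2 : 0 < Nat.card (fixedPoints S α) := Nat.card_pos_iff.2 ⟨⟨⟨x, hx⟩⟩, inferInstance⟩
    have h4 := Nat.le_of_dvd h2 h1
    obtain ⟨y, hy, hyF⟩ : ∃ y ∈ fixedPoints S α, y ∉ F := by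
      by_contra hh
      push Not at hh
      have := Set.ncard_le_ncard (s := fixedPoints S α) (t := F) hh
      rw [Set.ncard_coe_finset, ← Nat.card_coe_set_eq] at this
      omega
    obtain ⟨c, hc, -, h5⟩ := hcov y hyF
    exact h5 (hy ⟨c, hc⟩)
  have hall : ∀ x, ∃ c ∈ S, PC 3 c ∧ c x ≠ x := by
    intro x
    by_contra hx
    have h1 : orbit S x ⊆ F := by
      rintro _ ⟨g, rfl⟩
      by_contra hF'
      obtain ⟨c, hc, h1, h2⟩ := hcov _ hF'
      refine hx ⟨(g : Perm α)⁻¹ * c * (g : Perm α)⁻¹⁻¹, S.mul_mem (S.mul_mem (S.inv_mem g.2) hc)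
        (S.inv_mem (S.inv_mem g.2)), h1.conj _, fun h => h2 ?_⟩
      rw [inv_inv, Perm.mul_apply, Perm.mul_apply, Perm.inv_eq_iff_eq] at h
      exact h
    have h2 := Set.ncard_le_ncard h1
    obtain ⟨k, hk⟩ := orbit_pow hS x
    rw [Set.ncard_coe_finset, hk] at h2
    have hk0 : k = 0 := by
      by_contra h0
      have := Nat.pow_le_pow_right (show 0 < 3 by norm_num) (show 1 ≤ k by omega)
      omega
    rw [hk0, pow_zero, Set.ncard_eq_one] at hk
    obtain ⟨y, hy⟩ := hk
    refine nofix x fun g => ?_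
    have h3 : g • x ∈ orbit S x := mem_orbit x g
    have h4 := mem_orbit_self (M := S) x
    rw [hy] at h3 h4
    exact h3.trans h4.symm
  choose c hcS hc hcx using hall
  have hodd : ¬ 2 ∣ Nat.card S := by
    obtain ⟨k, hk⟩ := IsPGroup.iff_card.1 hS
    rw [hk]; intro h
    have := Nat.prime_two.dvd_of_dvd_pow h
    omega
  have meet : ∀ x, ∀ d ∈ S, PC 3 d → d x ≠ x → d.support = (c x).support := fun x d hd h1 h2 =>
    odd_meet hodd (by norm_num) (by norm_num) _ d hd _ (hcS x) h1 (hc x) rfl x (mem_support.2 h2)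
      (mem_support.2 (hcx x))
  let s : Setoid α := Setoid.ker fun x => (c x).support
  have hcls : ∀ x, cls s x = (c x).support := by
    intro x
    ext y
    rw [mem_cls, Setoid.ker_def]
    exact ⟨fun h => h ▸ mem_support.2 (hcx y), fun h => meet y _ (hcS x) (hc x) (mem_support.1 h)⟩
  have hs3 : ∀ x, #(cls s x) = 3 := fun x => by rw [hcls, (hc x).2]
  have hST : S ≤ T s := by
    have key : ∀ g ∈ S, ∀ x y, s x y → s (g x) (g y) := by
      intro g hg x y h
      have e : ∀ z, (c (g z)).support = (c z).support.map g.toEmbedding := fun z => by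
        rw [← meet (g z) _ (S.mul_mem (S.mul_mem hg (hcS z)) (S.inv_mem hg)) ((hc z).conj g)
          (by simpa using hcx z), support_conj]
      rw [Setoid.ker_def] at h ⊢
      rw [e, e, h]
    intro g hg x y
    exact ⟨key g hg x y, fun h => by simpa using key _ (S.inv_mem hg) _ _ h⟩
  have out : ∀ (Δ : Finset α) x, 4 ≤ #Δ → ∃ y ∈ Δ, ¬ s x y := fun Δ x h => by
    obtain ⟨y, hy, hy'⟩ := exists_mem_notMem_of_card_lt_card (s := cls s x) (t := Δ)
      (by rw [hs3]; omega)
    exact ⟨y, hy, by rwa [mem_cls] at hy'⟩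
  obtain ⟨x₀⟩ : Nonempty α := Fintype.card_pos_iff.1 (by omega)
  have hTM : T s ⊓ alternatingGroup α ≤ M := by
    obtain ⟨y, -, hy⟩ := out univ x₀ (by rw [card_univ]; omega)
    refine hM _ hST (not_le_T (by omega) (hcx x₀).symm ?_ hy)
    rw [← mem_cls, hcls, apply_mem_support, mem_support]; exact hcx x₀
  have fin : ∀ Δ : Finset α, 4 ≤ #Δ → Sy Δ ⊓ alternatingGroup α ≤ M → ∀ x, cls s x ⊆ Δ → False := by
    intro Δ h4 hΔ x hx
    refine hM0 (jordan h4 hΔ (x := x) (fun a => ?_) fun b hb => ?_)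
    · obtain ⟨g, hg, g1, -⟩ := block_move hs3 a x
      exact ⟨g, hTM hg, g1⟩
    · by_cases h : s x b
      · exact ⟨1, one_mem _, rfl, hx (mem_cls.2 h)⟩
      · obtain ⟨y, hy, hy'⟩ := out Δ x h4
        obtain ⟨g, hg, g1, g2⟩ := block_move hs3 b y
        exact ⟨g, hTM hg, g2 x (fun h' => h (s.symm' h')) (fun h' => hy' (s.symm' h')), g1 ▸ hy⟩
  have supp_le : ∀ (Δ : Finset α) x, x ∈ Δ → (∀ y ∈ Δ, c x y ∈ Δ) → cls s x ⊆ Δ := fun Δ x hx h => by
    rw [hcls]; exact supp_sub (hc x).1 h hx (hcx x)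
  have inv : ∀ O : Set α, (∀ g ∈ S, ∀ x, g x ∈ O ↔ x ∈ O) → ∀ x y, x ∈ O → y ∉ O →
      4 ≤ O.ncard → False := by
    intro O hO x y hx hy h4
    refine fin O.toFinset (by rwa [← Set.ncard_eq_toFinset_card']) ?_ x
      (supp_le _ x (by simpa using hx) fun z hz => by simpa [hO _ (hcS x)] using hz)
    refine le_trans (inf_le_inf_right _ fun g hg => ?_) (two O hO x y hx hy)
    rw [mem_stabilizer_set]
    intro z
    by_cases hz : z ∈ O
    · simpa [hz] using mem_of_fix hg (x := z) (by simpa using hz)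
    · rw [Perm.smul_def, hg z (by simpa using hz)]
  by_cases htr : ∀ y, y ∈ orbit S x₀
  swap
  · push Not at htr
    obtain ⟨y, hy⟩ := htr
    have := Set.ncard_add_ncard_compl (orbit S x₀)
    rw [Nat.card_eq_fintype_card] at this
    by_cases h4 : 4 ≤ (orbit S x₀).ncard
    · exact inv _ (horb x₀) x₀ y (mem_orbit_self _) hy h4
    · exact inv (orbit S x₀)ᶜ (fun g hg x => by simp [horb x₀ g hg]) y x₀ hy (by simp) (by omega)
  -- transitive case
  haveI := hS.isNilpotent
  obtain ⟨S₀, hS₀, hle⟩ := (eq_top_or_exists_le_coatom (stabilizer S x₀)).resolve_left (fun h =>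
    nofix x₀ fun g => (h ▸ Subgroup.mem_top g : g ∈ stabilizer S x₀))
  haveI hn₀ := Subgroup.NormalizerCondition.normal_of_coatom S₀ normalizerCondition_of_isNilpotent hS₀
  have hi3 : S₀.index = 3 := by
    have h1 := H62.NilSym.index_prime_of_coatom hS₀
    obtain ⟨k, hk⟩ := hS.index S₀
    rw [hk] at h1 ⊢
    rw [h1.eq_one_of_pow, pow_one]
  let s' : Setoid α := orbitRel S₀ α
  have hc' : ((cls s' x₀ : Finset α) : Set α) = orbit S₀ x₀ := by
    ext y; rw [mem_coe, mem_cls]; exact ⟨fun h => s'.symm' h, fun h => s'.symm' h⟩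
  have hsize : #(cls s' x₀) * 3 = Fintype.card α := by
    rw [← Set.ncard_coe_finset, hc', ← index_stabilizer, ← hi3,
      show stabilizer S₀ x₀ = (stabilizer S x₀).subgroupOf S₀ from rfl]
    rw [← Subgroup.relIndex, Subgroup.relIndex_mul_index hle, index_stabilizer,
      Set.eq_univ_of_forall htr, Set.ncard_univ, Nat.card_eq_fintype_card]
  have hST' : S ≤ T s' := by
    have key : ∀ g ∈ S, ∀ x y, s' x y → s' (g x) (g y) := by
      rintro g hg x y ⟨k, hk⟩
      refine ⟨⟨⟨g, hg⟩ * k * ⟨g, hg⟩⁻¹, hn₀.conj_mem _ k.2 _⟩, ?_⟩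
      rw [← hk]
      show (g * ((k : S) : Perm α) * g⁻¹) (g y) = g (((k : S) : Perm α) y)
      simp
    intro g hg x y
    exact ⟨key g hg x y, fun h => by simpa using key _ (S.inv_mem hg) _ _ h⟩
  obtain ⟨y, hy, hy'⟩ := out (cls s' x₀) x₀ (by omega)
  obtain ⟨w, -, hw⟩ := exists_mem_notMem_of_card_lt_card (s := cls s' x₀) (t := univ)
    (by rw [card_univ]; omega)
  refine fin (cls s' x₀) (by omega) (le_trans (inf_le_inf_right _ (sy_le_T x₀)) (hM _ hST'
    (not_le_T (x' := y) (by omega) (fun h => hy' (h ▸ s.refl' _)) (mem_cls.1 hy)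
      (by rwa [mem_cls] at hw)))) x₀ (supp_le _ _ (self_mem_cls _ _) fun z hz => ?_)
  have hfix : c x₀ y = y := by rwa [← mem_cls, hcls, notMem_support] at hy'
  have := (hST' (hcS x₀) y z).1 (s'.trans' (s'.symm' (mem_cls.1 hy)) (mem_cls.1 hz))
  rw [hfix] at this
  exact mem_cls.2 (s'.trans' (mem_cls.1 hy) this)

end


/-- Let X be a finite 3-minimal group (a Sylow 3-subgroup is not normal and lies in a unique maximal subgroup) whose generalized Fitting subgroup is isomorphic to an alternating group of degree n ≥ 5. Then X = F*(X), and n = 6, n = 9, or n = 3ᵃ + 1 for some a ≥ 2. -/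
theorem result {X : Type*} [Group X] [Finite X] (hX : Cfsg.IsPMinimal 3 X) (n : ℕ) (hn : 5 ≤ n) (hF : Nonempty (↥(Cfsg.generalizedFittingSubgroup X) ≃* ↥(alternatingGroup (Fin n)))) : Cfsg.generalizedFittingSubgroup X = ⊤ ∧ (n = 6 ∨ n = 9 ∨ ∃ a : ℕ, 2 ≤ a ∧ n = 3 ^ a + 1) := by
  haveI : Fact (Nat.Prime 3) := ⟨by norm_num⟩
  obtain ⟨e⟩ := hF
  set F := Cfsg.generalizedFittingSubgroup X with hFd
  haveI : F.Normal := H44.gfitting_normal
  have hFt : F = ⊤ := by
    obtain ⟨S⟩ : Nonempty (Sylow 3 X) := inferInstance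
    have hSF : (S : Subgroup X) ≤ F := by
      intro s hs
      let Φ : X →* MulAut (alternatingGroup (Fin n)) :=
        (MulAut.congr e).toMonoidHom.comp MulAut.conjNormal
      obtain ⟨k, hk⟩ := IsPGroup.iff_orderOf.1 S.isPGroup' ⟨s, hs⟩
      rw [← Subgroup.orderOf_coe] at hk
      have ho : Odd (orderOf s) := hk ▸ (by decide : Odd 3).pow
      obtain ⟨σ, hσ⟩ := S4231.mem_range hn (Φ s) (ho.of_dvd_nat (orderOf_map_dvd Φ s))
      obtain ⟨j, hj⟩ := ho
      have h1 : s ^ (2 * (j + 1)) = s := by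
        rw [show 2 * (j + 1) = orderOf s + 1 by omega, pow_succ, pow_orderOf_eq_one, one_mul]
      let a : alternatingGroup (Fin n) := ⟨σ ^ (2 * (j + 1)), by
        rw [mem_alternatingGroup, map_pow, pow_mul, Int.units_sq, one_pow]⟩
      have h2 : ∀ g, Φ s g = a * g * a⁻¹ := fun g => by
        rw [← h1, map_pow, ← hσ, ← map_pow]; rfl
      have h3 : ((e.symm a : F) : X)⁻¹ * s ∈ Subgroup.centralizer (F : Set X) := by
        intro f hf
        have h4 := congrArg (fun x => ((e.symm x : F) : X)) (h2 (e ⟨f, hf⟩))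
        simp only [Φ, map_mul, map_inv, MulEquiv.symm_apply_apply, MulEquiv.toMonoidHom_eq_coe,
          MonoidHom.coe_comp, MonoidHom.coe_coe, Function.comp_apply, MulAut.congr_apply,
          MulEquiv.trans_apply, MulAut.conjNormal_apply, Subgroup.coe_mul, Subgroup.coe_inv] at h4
        calc f * (((e.symm a : F) : X)⁻¹ * s)
            = ((e.symm a : F) : X)⁻¹ * (((e.symm a : F) : X) * f * ((e.symm a : F) : X)⁻¹) * s := by
              group
          _ = _ := by rw [← h4]; group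
      have := F.mul_mem (e.symm a).2 (S1265.result h3)
      simpa using this
    by_contra hne
    obtain ⟨hS, M, -, hM⟩ := hX S
    obtain ⟨M₁, h1, h2⟩ := (eq_top_or_exists_le_coatom F).resolve_left hne
    obtain ⟨M₂, h3, h4⟩ := (eq_top_or_exists_le_coatom (Subgroup.normalizer (S : Set X))).resolve_left
      (fun h => hS (Subgroup.normalizer_eq_top_iff.1 h))
    have h5 := (hM M₁ ⟨h1, hSF.trans h2⟩).trans (hM M₂ ⟨h3, Subgroup.le_normalizer.trans h4⟩).symm
    subst h5
    exact h1.1 (top_le_iff.1 ((S.normalizer_sup_eq_top' hSF).ge.trans (sup_le h4 h2)))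
  refine ⟨hFt, ?_⟩
  let e' : X ≃* alternatingGroup (Fin n) :=
    Subgroup.topEquiv.symm.trans ((MulEquiv.subgroupCongr hFt.symm).trans e)
  let f : X →* Perm (Fin n) := (alternatingGroup (Fin n)).subtype.comp e'.toMonoidHom
  have hfi : Function.Injective f := Subtype.val_injective.comp e'.injective
  have hfr : f.range = alternatingGroup (Fin n) := by
    rw [MonoidHom.range_comp, MonoidHom.range_eq_top.2 e'.surjective, ← MonoidHom.range_eq_map,
      Subgroup.range_subtype]
  obtain ⟨S⟩ : Nonempty (Sylow 3 X) := inferInstance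
  obtain ⟨-, M, ⟨hM1, -⟩, hM⟩ := hX S
  have := core (α := Fin n) (by simpa using hn) (S := (S : Subgroup X).map f) (M := M.map f)
    (S.isPGroup'.map f) (by
      rw [← hfr, MonoidHom.range_eq_map, Subgroup.relIndex_map_map_of_injective _ _ hfi,
        Subgroup.relIndex_top_right]
      exact S.not_dvd_index) (fun h => hM1.1 (by
      rw [← hfr, MonoidHom.range_eq_map, Subgroup.map_le_map_iff_of_injective hfi] at h
      exact top_le_iff.1 h)) (fun H h1 h2 => by
      obtain ⟨M₁, h3, h4⟩ := (eq_top_or_exists_le_coatom (H.comap f)).resolve_left (fun h => h2 (by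
        rw [← hfr]; rintro _ ⟨x, rfl⟩; exact (h ▸ Subgroup.mem_top x : x ∈ H.comap f)))
      rw [← hM M₁ ⟨h3, (Subgroup.map_le_iff_le_comap.1 h1).trans h4⟩, ← hfr]
      rintro _ ⟨hx, x, rfl⟩
      exact ⟨x, h4 hx, rfl⟩)
  simpa using this

end Cfsg.Agent.S2930
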