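import Cfsg.Statements.S2931
import Cfsg.Agent.H56.GrpTools
import Cfsg.Agent.H56.Mod.S43
import Cfsg.Agent.H56.Mod.Alt
import Cfsg.Agent.H15.LF.O6

set_option autoImplicit false
open Cfsg

namespace Cfsg.Agent.S2931

open H14 H56

set_option maxRecDepth 100000

def uPG : List ℕ := [nat_lit 0x7f0a62, nat_lit 0xbbc681, nat_lit 0x73047d]
def uPCL0 : Lev := ⟨nat_lit 0, nat_lit 255, (.node (nat_lit 4) (.node (nat_lit 2) (.node (nat_lit 1) (.leaf (nat_lit 0xfac688)) (.leaf (nat_lit 0xbbc681))) (.node (nat_lit 3) (.leaf (nat_lit 0x771e22)) (.leaf (nat_lit 0xe6a11e)))) (.node (nat_lit 6) (.node (nat_lit 5) (.leaf (nat_lit 0x7f0a62)) (.leaf (nat_lit 0x346ed4))) (.node (nat_lit 7) (.leaf (nat_lit 0xa3a31e)) (.leaf (nat_lit 0x14eee2)))))⟩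
def uPCC0 : LevCert := ⟨uPCL0,
    [(nat_lit 4, nat_lit 0), (nat_lit 1, nat_lit 1), (nat_lit 6, nat_lit 2), (nat_lit 2, nat_lit 0), (nat_lit 5, nat_lit 0), (nat_lit 3, nat_lit 2), (nat_lit 7, nat_lit 1)],
    [[nat_lit 0, nat_lit 4, nat_lit 2, nat_lit 0, nat_lit 4], [nat_lit 2, nat_lit 2, nat_lit 4, nat_lit 6, nat_lit 6, nat_lit 2, nat_lit 6, nat_lit 4, nat_lit 4]],
    [nat_lit 0xafcc88, nat_lit 0x4e7d48]⟩
def uPCL1 : Lev := ⟨nat_lit 2, nat_lit 180, (.node (nat_lit 5) (.node (nat_lit 4) (.leaf (nat_lit 0xfac688)) (.leaf (nat_lit 0xbba708))) (.node (nat_lit 7) (.leaf (nat_lit 0x997748)) (.leaf (nat_lit 0x4e7d48))))⟩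
def uPCC1 : LevCert := ⟨uPCL1,
    [(nat_lit 7, nat_lit 1), (nat_lit 5, nat_lit 0), (nat_lit 4, nat_lit 1)],
    [[nat_lit 0]],
    [nat_lit 0xafcc88]⟩
def uPCL2 : Lev := ⟨nat_lit 3, nat_lit 72, (.node (nat_lit 6) (.leaf (nat_lit 0xfac688)) (.leaf (nat_lit 0xafcc88)))⟩
def uPCC2 : LevCert := ⟨uPCL2,
    [(nat_lit 6, nat_lit 0)],
    [],
    []⟩
def uPC : List LevCert := [uPCC0, uPCC1, uPCC2]
def uPCL : List Lev := [uPCL0, uPCL1, uPCL2]
theorem uP_chain : Alt.a8E.IsChain uPCL (Alt.a8E.grp uPG) := chain_grp (cert := uPC) (by decide +kernel)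
theorem uP_card : Nat.card (Alt.a8E.grp uPG) = 64 := uP_chain.card.trans (by decide +kernel)
def uQG : List ℕ := [nat_lit 0x9ce3d75867447c591089e05b8603191d36880a695571448b2584630cd280, nat_lit 0xd520a25165301850269b85e04799d80488f40c2ce3648e55851929dc5df, nat_lit 0x3a719e88f45854591059794d84a02371369250305f1c220b24475999b80c]
def uQCL0 : Lev := ⟨nat_lit 1, nat_lit 0x3f7fdfaff6, (.node (nat_lit 20) (.node (nat_lit 10) (.node (nat_lit 6) (.node (nat_lit 4) (.node (nat_lit 2) (.leaf (nat_lit 0x9e69648e28607de75c6da6585d65544d24503ce34c2ca2481c61440c2040)) (.leaf (nat_lit 0x38352128491955d7923c58164587e525c5cb6e71804234c720d6a298108c))) (.node (nat_lit 5) (.leaf (nat_lit 0x9a760518269b3115c88213e575401640779364329f24d2dc4a39013a2115)) (.leaf (nat_lit 0x3036a278b61199b64d4947102a17d39631965e774010808f80706454524e)))) (.node (nat_lit 8) (.node (nat_lit 7) (.leaf (nat_lit 0xe68d10997a502415351d60a68d54621084758e10c4a27092c15cf9e06df))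 (.leaf (nat_lit 0x38020f41134b54211892315e5879dd19494a25f4c365a6e206181299c5cc))) (.node (nat_lit 9) (.leaf (nat_lit 0x99f4a025d8d330409468d85795c0d12985864002e76e46418853c8387795)) (.leaf (nat_lit 0x39f4c44a45875633597a57613d00da51b81820072789704a19108b98914c))))) (.node (nat_lit 16) (.node (nat_lit 13) (.node (nat_lit 11) (.leaf (nat_lit 0x9ce35d11b5d67da84b61150692330a48915c9660952011d04e27a00cf640)) (.leaf (nat_lit 0x9802c221a95c30d8db5d64458099e46193d449f1c305e88629d113390855))) (.node (nat_lit 15) (.leaf (nat_lit 0x3a719e88f45854591059794d84a02371369250305f1c220b24475999b80c)) (.leaf (nat_lit 0x3a76d160d7a255a84b11d08f91902020914704351f4a57104d65ca9868cc)))) (.node (nat_lit 18) (.node (nat_lit 17) (.leaf (nat_lit 0x98042570508830f80674479a8d39e188a3411df48351161b65758938b915)) (.leaf (nat_lit 0x3277599122a19946044064c789e0088c204d68315f3c981694b6d155770e))) (.node (nat_lit 19) (.leaf (nat_lit 0x38070d2de3d05655a28606911129d76c10994df2432851985248c798874c))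 (.leaf (nat_lit 0x39f2561e11125603ca4425e434b0c50468e270022761d5196de95099368c)))))) (.node (nat_lit 29) (.node (nat_lit 25) (.node (nat_lit 23) (.node (nat_lit 22) (.leaf (nat_lit 0x9e60a18189237d15c81852a274454124778b34e3cc4194dc49b6960e5500)) (.leaf (nat_lit 0x9a789a6e514631e75c8e43425c10042d244928365f4cf4081e0854398595))) (.node (nat_lit 24) (.leaf (nat_lit 0xd520a25165301850269b85e04799d80488f40c2ce3648e55851929dc5df)) (.leaf (nat_lit 0xce1053d468d01d7922a118144232241c5d38e681525b2c72199259d661f)))) (.node (nat_lit 27) (.node (nat_lit 26) (.leaf (nat_lit 0x9ce3d75867447c591089e05b8603191d36880a695571448b2584630cd280)) (.leaf (nat_lit 0x30315845089e98628f1c120b6647c90a06c47675c059c94d8d252155a4ce))) (.node (nat_lit 28) (.leaf (nat_lit 0x55f35c95b20238b25a0478864e30ca7a141d1005a75d84459144a030f666)) (.leaf (nat_lit 0x99f1e34d780931694114f91d0880de66211b2c04271a129461a35c392455))))) (.node (nat_lit 34) (.node (nat_lit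 32) (.node (nat_lit 30) (.leaf (nat_lit 0xd57194de2890220651469115129978d660d2cc40e3e180211a6c79c875f)) (.leaf (nat_lit 0x9cc1db2d71907c189684a69d60839e3655234d52668053c40a465c0d2440))) (.node (nat_lit 33) (.leaf (nat_lit 0x98365d5235c132415309112069b7cf49085c8a76002161c92e578638a355)) (.leaf (nat_lit 0xcc2d449a04701b64d7a27452893a412318221572695758f8116139d085f)))) (.node (nat_lit 36) (.node (nat_lit 35) (.leaf (nat_lit 0xce59a34114f0174476646d47a53182c87498268d54c641270a8429c489f)) (.leaf (nat_lit 0x98329706075432168995e5a31467cd1cb90862788070449340245b3993d5))) (.node (nat_lit 37) (.leaf (nat_lit 0xcc4011c551200628f4585da6533a15a06e571522609d10d8de8899cb91f)) (.leaf (nat_lit 0x38306465684a55744735a8c47a27c24c87501a76c02e025270f15899494c)))))))⟩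
def uQCC0 : LevCert := ⟨uQCL0,
    [(nat_lit 25, nat_lit 0), (nat_lit 23, nat_lit 1), (nat_lit 13, nat_lit 2), (nat_lit 20, nat_lit 0), (nat_lit 33, nat_lit 1), (nat_lit 4, nat_lit 2), (nat_lit 36, nat_lit 0), (nat_lit 26, nat_lit 2), (nat_lit 2, nat_lit 0), (nat_lit 11, nat_lit 1), (nat_lit 24, nat_lit 2), (nat_lit 10, nat_lit 0), (nat_lit 29, nat_lit 1), (nat_lit 15, nat_lit 2), (nat_lit 32, nat_lit 0), (nat_lit 18, nat_lit 1), (nat_lit 6, nat_lit 2), (nat_lit 17, nat_lit 0), (nat_lit 27, nat_lit 1), (nat_lit 28, nat_lit 1), (nat_lit 8, nat_lit 0), (nat_lit 30, nat_lit 1), (nat_lit 22, nat_lit 2), (nat_lit 5, nat_lit 2), (nat_lit 37, nat_lit 0), (nat_lit 16, nat_lit 1), (nat_lit 34, nat_lit 2), (nat_lit 19, nat_lit 1), (nat_lit 9, nat_lit 0), (nat_lit 35, nat_lit 0), (nat_lit 7, nat_lit 1)],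
    [[nat_lit 4, nat_lit 4, nat_lit 2, nat_lit 4, nat_lit 2, nat_lit 0]],
    [nat_lit 0x31f9503e22cd99c49e2891981d60d415d2248c082785b6915d94c454204e]⟩
def uQCL1 : Lev := ⟨nat_lit 0, nat_lit 0x4001, (.node (nat_lit 14) (.leaf (nat_lit 0x9e69648e28607de75c6da6585d65544d24503ce34c2ca2481c61440c2040)) (.leaf (nat_lit 0x31f9503e22cd99c49e2891981d60d415d2248c082785b6915d94c454204e)))⟩
def uQCC1 : LevCert := ⟨uQCL1,
    [(nat_lit 14, nat_lit 0)],
    [],
    []⟩
def uQC : List LevCert := [uQCC0, uQCC1]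
def uQCL : List Lev := [uQCL0, uQCL1]
theorem uQ_chain : S43.E.IsChain uQCL (S43.E.grp uQG) := chain_grp (cert := uQC) (by decide +kernel)
theorem uQ_card : Nat.card (S43.E.grp uQG) = 64 := uQ_chain.card.trans (by decide +kernel)
def uA : List ℕ := [nat_lit 0x9ce3d75867447c591089e05b8603191d36880a695571448b2584630cd280, nat_lit 0xd520a25165301850269b85e04799d80488f40c2ce3648e55851929dc5df, nat_lit 0x3a719e88f45854591059794d84a02371369250305f1c220b24475999b80c]
def uB : List ℕ := [nat_lit 0x7f0a62, nat_lit 0xbbc681, nat_lit 0x73047d]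
def uS : List ℕ := [nat_lit 0xaefba8b69b2a9ce3d75867447c591089e05b8603191d36880a695571448b2584630cd280, nat_lit 0xb6ebecaeaa290d520a25165301850269b85e04799d80488f40c2ce3648e55851929dc5df, nat_lit 0xaecba8aa9bed3a719e88f45854591059794d84a02371369250305f1c220b24475999b80c]
def uCertL0 : Lev := ⟨nat_lit 40, nat_lit 0xff0000000000, (.node (nat_lit 44) (.node (nat_lit 42) (.node (nat_lit 41) (.leaf (nat_lit 0xbeeb6caeaa689e69648e28607de75c6da6585d65544d24503ce34c2ca2481c61440c2040)) (.leaf (nat_lit 0xb6ebecaeaa290d520a25165301850269b85e04799d80488f40c2ce3648e55851929dc5df))) (.node (nat_lit 43) (.leaf (nat_lit 0xaedba9be8b2a0cc4011c551200628f4585da6533a15a06e571522609d10d8de8899cb91f)) (.leaf (nat_lit 0xbe9b6aa2caee54378615c6da3a20654d940851d7c73d66208679008cb3421092973114a6)))) (.node (nat_lit 46) (.node (nat_lit 45) (.leaf (nat_lit 0xaefba8b69b2a9ce3d75867447c591089e05b8603191d36880a695571448b2584630cd280)) (.leaf (nat_lit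 0xa6da2ebebaac98365d5235c132415309112069b7cf49085c8a76002161c92e578638a355))) (.node (nat_lit 47) (.leaf (nat_lit 0xb68beaa6caee9a760518269b3115c88213e575401640779364329f24d2dc4a39013a2115)) (.leaf (nat_lit 0xa2da6ebebb2a39f2561e11125603ca4425e434b0c50468e270022761d5196de95099368c)))))⟩
def uCertC0 : LevCert := ⟨uCertL0,
    [(nat_lit 44, nat_lit 0), (nat_lit 41, nat_lit 1), (nat_lit 46, nat_lit 2), (nat_lit 42, nat_lit 0), (nat_lit 45, nat_lit 0), (nat_lit 43, nat_lit 2), (nat_lit 47, nat_lit 1)],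
    [[nat_lit 2, nat_lit 2, nat_lit 4, nat_lit 0, nat_lit 0, nat_lit 0, nat_lit 0, nat_lit 0, nat_lit 2], [nat_lit 4, nat_lit 2, nat_lit 6, nat_lit 2, nat_lit 2, nat_lit 2, nat_lit 6, nat_lit 6, nat_lit 2, nat_lit 4]],
    [nat_lit 0xb2baadbafa6899f1e34d780931694114f91d0880de66211b2c04271a129461a35c392455, nat_lit 0xaaeb2daefa685401138d426039271d6cb6412029e291e1c53df34368a857446425316626]⟩
def uCertL1 : Lev := ⟨nat_lit 42, nat_lit 0xb40000000000, (.node (nat_lit 45) (.node (nat_lit 44) (.leaf (nat_lit 0xbeeb6caeaa689e69648e28607de75c6da6585d65544d24503ce34c2ca2481c61440c2040)) (.leaf (nat_lit 0xb6ebeaaeca687cc61364224a9c81d134b8e54943969177051956e66a085e74f401022103))) (.node (nat_lit 47) (.leaf (nat_lit 0xb2baadbafa6899f1e34d780931694114f91d0880de66211b2c04271a129461a35c392455)) (.leaf (nat_lit 0xaaeb2daefa685401138d426039271d6cb6412029e291e1c53df34368a857446425316626))))⟩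
def uCertC1 : LevCert := ⟨uCertL1,
    [(nat_lit 45, nat_lit 0), (nat_lit 47, nat_lit 1), (nat_lit 44, nat_lit 0)],
    [[nat_lit 0, nat_lit 0, nat_lit 2, nat_lit 0, nat_lit 0, nat_lit 0]],
    [nat_lit 0xb6bbecbaaa6800e4639088210c211840f4dc59731265495b6a61551892a204b35d7de1e7]⟩
def uCertL2 : Lev := ⟨nat_lit 43, nat_lit 0x480000000000, (.node (nat_lit 46) (.leaf (nat_lit 0xbeeb6caeaa689e69648e28607de75c6da6585d65544d24503ce34c2ca2481c61440c2040)) (.leaf (nat_lit 0xb6bbecbaaa6800e4639088210c211840f4dc59731265495b6a61551892a204b35d7de1e7)))⟩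
def uCertC2 : LevCert := ⟨uCertL2,
    [(nat_lit 46, nat_lit 0)],
    [],
    []⟩
def uCert : List LevCert := [uCertC0, uCertC1, uCertC2]
def uCertL : List Lev := [uCertL0, uCertL1, uCertL2]
def uCertAL0 : Lev := ⟨nat_lit 1, nat_lit 0x3f7fdfaff6, (.node (nat_lit 20) (.node (nat_lit 10) (.node (nat_lit 6) (.node (nat_lit 4) (.node (nat_lit 2) (.leaf (nat_lit 0x9e69648e28607de75c6da6585d65544d24503ce34c2ca2481c61440c2040)) (.leaf (nat_lit 0x38352128491955d7923c58164587e525c5cb6e71804234c720d6a298108c))) (.node (nat_lit 5) (.leaf (nat_lit 0x9a760518269b3115c88213e575401640779364329f24d2dc4a39013a2115)) (.leaf (nat_lit 0x3036a278b61199b64d4947102a17d39631965e774010808f80706454524e)))) (.node (nat_lit 8) (.node (nat_lit 7) (.leaf (nat_lit 0xe68d10997a502415351d60a68d54621084758e10c4a27092c15cf9e06df)) (.leaf (nat_lit 0x38020f41134b54211892315e5879dd19494a25f4c365a6e206181299c5cc))) (.node (nat_lit 9) (.leaf (nat_lit 0x99f4a025d8d330409468d85795c0d12985864002e76e46418853c8387795))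 (.leaf (nat_lit 0x39f4c44a45875633597a57613d00da51b81820072789704a19108b98914c))))) (.node (nat_lit 16) (.node (nat_lit 13) (.node (nat_lit 11) (.leaf (nat_lit 0x9ce35d11b5d67da84b61150692330a48915c9660952011d04e27a00cf640)) (.leaf (nat_lit 0x9802c221a95c30d8db5d64458099e46193d449f1c305e88629d113390855))) (.node (nat_lit 15) (.leaf (nat_lit 0x3a719e88f45854591059794d84a02371369250305f1c220b24475999b80c)) (.leaf (nat_lit 0x3a76d160d7a255a84b11d08f91902020914704351f4a57104d65ca9868cc)))) (.node (nat_lit 18) (.node (nat_lit 17) (.leaf (nat_lit 0x98042570508830f80674479a8d39e188a3411df48351161b65758938b915)) (.leaf (nat_lit 0x3277599122a19946044064c789e0088c204d68315f3c981694b6d155770e))) (.node (nat_lit 19) (.leaf (nat_lit 0x38070d2de3d05655a28606911129d76c10994df2432851985248c798874c)) (.leaf (nat_lit 0x39f2561e11125603ca4425e434b0c50468e270022761d5196de95099368c)))))) (.node (nat_lit 29) (.node (nat_lit 25) (.node (nat_lit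 23) (.node (nat_lit 22) (.leaf (nat_lit 0x9e60a18189237d15c81852a274454124778b34e3cc4194dc49b6960e5500)) (.leaf (nat_lit 0x9a789a6e514631e75c8e43425c10042d244928365f4cf4081e0854398595))) (.node (nat_lit 24) (.leaf (nat_lit 0xd520a25165301850269b85e04799d80488f40c2ce3648e55851929dc5df)) (.leaf (nat_lit 0xce1053d468d01d7922a118144232241c5d38e681525b2c72199259d661f)))) (.node (nat_lit 27) (.node (nat_lit 26) (.leaf (nat_lit 0x9ce3d75867447c591089e05b8603191d36880a695571448b2584630cd280)) (.leaf (nat_lit 0x30315845089e98628f1c120b6647c90a06c47675c059c94d8d252155a4ce))) (.node (nat_lit 28) (.leaf (nat_lit 0x55f35c95b20238b25a0478864e30ca7a141d1005a75d84459144a030f666)) (.leaf (nat_lit 0x99f1e34d780931694114f91d0880de66211b2c04271a129461a35c392455))))) (.node (nat_lit 34) (.node (nat_lit 32) (.node (nat_lit 30) (.leaf (nat_lit 0xd57194de2890220651469115129978d660d2cc40e3e180211a6c79c875f)) (.leaf (nat_lit 0x9cc1db2d71907c189684a69d60839e3655234d52668053c40a465c0d2440)))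 (.node (nat_lit 33) (.leaf (nat_lit 0x98365d5235c132415309112069b7cf49085c8a76002161c92e578638a355)) (.leaf (nat_lit 0xcc2d449a04701b64d7a27452893a412318221572695758f8116139d085f)))) (.node (nat_lit 36) (.node (nat_lit 35) (.leaf (nat_lit 0xce59a34114f0174476646d47a53182c87498268d54c641270a8429c489f)) (.leaf (nat_lit 0x98329706075432168995e5a31467cd1cb90862788070449340245b3993d5))) (.node (nat_lit 37) (.leaf (nat_lit 0xcc4011c551200628f4585da6533a15a06e571522609d10d8de8899cb91f)) (.leaf (nat_lit 0x38306465684a55744735a8c47a27c24c87501a76c02e025270f15899494c)))))))⟩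
def uCertAC0 : LevCert := ⟨uCertAL0,
    [(nat_lit 25, nat_lit 0), (nat_lit 23, nat_lit 1), (nat_lit 13, nat_lit 2), (nat_lit 20, nat_lit 0), (nat_lit 33, nat_lit 1), (nat_lit 4, nat_lit 2), (nat_lit 36, nat_lit 0), (nat_lit 26, nat_lit 2), (nat_lit 2, nat_lit 0), (nat_lit 11, nat_lit 1), (nat_lit 24, nat_lit 2), (nat_lit 10, nat_lit 0), (nat_lit 29, nat_lit 1), (nat_lit 15, nat_lit 2), (nat_lit 32, nat_lit 0), (nat_lit 18, nat_lit 1), (nat_lit 6, nat_lit 2), (nat_lit 17, nat_lit 0), (nat_lit 27, nat_lit 1), (nat_lit 28, nat_lit 1), (nat_lit 8, nat_lit 0), (nat_lit 30, nat_lit 1), (nat_lit 22, nat_lit 2), (nat_lit 5, nat_lit 2), (nat_lit 37, nat_lit 0), (nat_lit 16, nat_lit 1), (nat_lit 34, nat_lit 2), (nat_lit 19, nat_lit 1), (nat_lit 9, nat_lit 0), (nat_lit 35, nat_lit 0), (nat_lit 7, nat_lit 1)],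
    [[nat_lit 2, nat_lit 4, nat_lit 2, nat_lit 0, nat_lit 4, nat_lit 4]],
    [nat_lit 0x31f9503e22cd99c49e2891981d60d415d2248c082785b6915d94c454204e]⟩
def uCertAL1 : Lev := ⟨nat_lit 0, nat_lit 0x4001, (.node (nat_lit 14) (.leaf (nat_lit 0x9e69648e28607de75c6da6585d65544d24503ce34c2ca2481c61440c2040)) (.leaf (nat_lit 0x31f9503e22cd99c49e2891981d60d415d2248c082785b6915d94c454204e)))⟩
def uCertAC1 : LevCert := ⟨uCertAL1,
    [(nat_lit 14, nat_lit 0)],
    [],
    []⟩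
def uCertA : List LevCert := [uCertAC0, uCertAC1]
def uCertAL : List Lev := [uCertAL0, uCertAL1]
theorem u_ok : isoOK 40 6 64 8 3 8 48 6 uQCL uPCL uA uB uS uCert uCertA = true := by
  decide +kernel
theorem u_ss : ssOK 6 64 48 uCert uS = true := by
  decide +kernel
theorem u_equiv : Nonempty (Alt.a8E.grp uPG ≃* S43.E.grp uQG) :=
  equiv_of_isoOK uP_chain uQ_chain 48 6 64 rfl rfl (by decide) u_ok u_ss (by decide +kernel)

def vPG : List ℕ := [nat_lit 0x8caf46, nat_lit 0x3a30bd, nat_lit 0x8d7d41]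
def vPCL0 : Lev := ⟨nat_lit 0, nat_lit 255, (.node (nat_lit 4) (.node (nat_lit 2) (.node (nat_lit 1) (.leaf (nat_lit 0xfac688)) (.leaf (nat_lit 0x8caf46))) (.node (nat_lit 3) (.leaf (nat_lit 0xb3141f)) (.leaf (nat_lit 0x3a30bd)))) (.node (nat_lit 6) (.node (nat_lit 5) (.leaf (nat_lit 0xf98a8c)) (.leaf (nat_lit 0x5c5873))) (.node (nat_lit 7) (.leaf (nat_lit 0x63a32e)) (.leaf (nat_lit 0xd7d61)))))⟩
def vPCC0 : LevCert := ⟨vPCL0,
    [(nat_lit 1, nat_lit 0), (nat_lit 3, nat_lit 1), (nat_lit 5, nat_lit 0), (nat_lit 7, nat_lit 1), (nat_lit 6, nat_lit 0), (nat_lit 4, nat_lit 1), (nat_lit 2, nat_lit 0)],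
    [[nat_lit 2, nat_lit 0, nat_lit 4, nat_lit 4, nat_lit 0], [nat_lit 4, nat_lit 4, nat_lit 4, nat_lit 4, nat_lit 4, nat_lit 6, nat_lit 4, nat_lit 4, nat_lit 4, nat_lit 2], [nat_lit 4, nat_lit 4, nat_lit 8, nat_lit 8, nat_lit 6, nat_lit 4, nat_lit 4, nat_lit 4, nat_lit 8, nat_lit 6, nat_lit 8, nat_lit 8, nat_lit 8, nat_lit 8]],
    [nat_lit 0x46c7f0, nat_lit 0x45cbf0, nat_lit 0xc6c7d0]⟩
def vPCL1 : Lev := ⟨nat_lit 1, nat_lit 198, (.node (nat_lit 6) (.node (nat_lit 2) (.leaf (nat_lit 0xfac688)) (.leaf (nat_lit 0x5ec670))) (.node (nat_lit 7) (.leaf (nat_lit 0x46c7f0)) (.leaf (nat_lit 0x3ac6b8))))⟩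
def vPCC1 : LevCert := ⟨vPCL1,
    [(nat_lit 6, nat_lit 0), (nat_lit 7, nat_lit 2), (nat_lit 2, nat_lit 0)],
    [[nat_lit 0, nat_lit 4, nat_lit 4, nat_lit 0, nat_lit 4, nat_lit 4, nat_lit 0, nat_lit 2], [nat_lit 2, nat_lit 6, nat_lit 6, nat_lit 6, nat_lit 2, nat_lit 2]],
    [nat_lit 0xf9ca88, nat_lit 0xeac788]⟩
def vPCL2 : Lev := ⟨nat_lit 2, nat_lit 68, (.node (nat_lit 6) (.leaf (nat_lit 0xfac688)) (.leaf (nat_lit 0xeac788)))⟩
def vPCC2 : LevCert := ⟨vPCL2,
    [(nat_lit 6, nat_lit 1)],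
    [[nat_lit 2, nat_lit 2, nat_lit 0]],
    [nat_lit 0xf9ca88]⟩
def vPCL3 : Lev := ⟨nat_lit 3, nat_lit 40, (.node (nat_lit 5) (.leaf (nat_lit 0xfac688)) (.leaf (nat_lit 0xf9ca88)))⟩
def vPCC3 : LevCert := ⟨vPCL3,
    [(nat_lit 5, nat_lit 0)],
    [],
    []⟩
def vPC : List LevCert := [vPCC0, vPCC1, vPCC2, vPCC3]
def vPCL : List Lev := [vPCL0, vPCL1, vPCL2, vPCL3]
theorem vP_chain : Alt.s8E.IsChain vPCL (Alt.s8E.grp vPG) := chain_grp (cert := vPC) (by decide +kernel)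
theorem vP_card : Nat.card (Alt.s8E.grp vPG) = 128 := vP_chain.card.trans (by decide +kernel)
def vQG : List ℕ := [nat_lit 0x491733c53d1c2e6460d5928a28c18cd6c9, nat_lit 0x47191d2ba936c72cdd05a82401937409ec, nat_lit 0x3117c52b62a4077b9ba5925980e6a30831]
def vQCL0 : Lev := ⟨nat_lit 0, nat_lit 0x45ff2a3, (.node (nat_lit 15) (.node (nat_lit 9) (.node (nat_lit 5) (.node (nat_lit 1) (.leaf (nat_lit 0x6b38bdab49ca307b9ac5a928398a418820)) (.leaf (nat_lit 0x3d175484184669a1f455918668ed9c540e))) (.node (nat_lit 7) (.leaf (nat_lit 0x491733c53d1c2e6460d5928a28c18cd6c9)) (.leaf (nat_lit 0x47191d2ba936c72cdd05a82401937409ec)))) (.node (nat_lit 13) (.node (nat_lit 12) (.leaf (nat_lit 0x39461c84566829858ed5e4049e2374568f)) (.leaf (nat_lit 0x5319246b674f4c0b6405a8a3819e8b8927))) (.node (nat_lit 14) (.leaf (nat_lit 0x3ae83244db30b23d01358e2a09218cd74f)) (.leaf (nat_lit 0x27381bc456402ed00ed5aac499a3745692))))) (.node (nat_lit 19) (.node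 (nat_lit 17) (.node (nat_lit 16) (.leaf (nat_lit 0x6e8ccc523c1e506a2e592d848e865558d)) (.leaf (nat_lit 0x5b3846ab16ba804ca675a9f761823208b0))) (.node (nat_lit 18) (.leaf (nat_lit 0x3117c52b62a4077b9ba5925980e6a30831)) (.leaf (nat_lit 0x348331452881f3858ee5df4a4a199c5681)))) (.node (nat_lit 22) (.node (nat_lit 20) (.leaf (nat_lit 0x3546bcc4f05125646125e0e8767441d6c1)) (.leaf (nat_lit 0x5117cb2a06bad1924b0591f8d0c2650a67))) (.node (nat_lit 26) (.leaf (nat_lit 0x4319182a70a59a73cb159a44a29a8b8a76)) (.leaf (nat_lit 0x2e835aac4b690995c75902a88e58c89fa))))))⟩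
def vQCC0 : LevCert := ⟨vQCL0,
    [(nat_lit 5, nat_lit 0), (nat_lit 7, nat_lit 1), (nat_lit 17, nat_lit 2), (nat_lit 15, nat_lit 1), (nat_lit 19, nat_lit 2), (nat_lit 18, nat_lit 0), (nat_lit 16, nat_lit 1), (nat_lit 14, nat_lit 0), (nat_lit 26, nat_lit 1), (nat_lit 22, nat_lit 0), (nat_lit 1, nat_lit 1), (nat_lit 20, nat_lit 0), (nat_lit 9, nat_lit 2), (nat_lit 13, nat_lit 0), (nat_lit 12, nat_lit 1)],
    [[nat_lit 0, nat_lit 4, nat_lit 4, nat_lit 4, nat_lit 2, nat_lit 0, nat_lit 2, nat_lit 2], [nat_lit 2, nat_lit 4, nat_lit 2, nat_lit 2, nat_lit 2, nat_lit 2, nat_lit 6, nat_lit 6, nat_lit 4, nat_lit 2, nat_lit 4]],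
    [nat_lit 0x6883c42ac74e96685275dcb98a1e650a40, nat_lit 0x68cabdaac0c8f07b8b45e1288e5a418a60]⟩
def vQCL1 : Lev := ⟨nat_lit 1, nat_lit 0xc4002, (.node (nat_lit 18) (.node (nat_lit 14) (.leaf (nat_lit 0x6b38bdab49ca307b9ac5a928398a418820)) (.leaf (nat_lit 0x6883c42ac74e96685275dcb98a1e650a40))) (.node (nat_lit 19) (.leaf (nat_lit 0x6883542b4705962cd315dda63a1f9c0a40)) (.leaf (nat_lit 0x68cabdaac0c8f07b8b45e1288e5a418a60))))⟩
def vQCC1 : LevCert := ⟨vQCL1,
    [(nat_lit 14, nat_lit 0), (nat_lit 19, nat_lit 1), (nat_lit 18, nat_lit 0)],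
    [[nat_lit 2, nat_lit 0, nat_lit 2, nat_lit 2, nat_lit 0]],
    [nat_lit 0x6b381dab19ba904c9a75a9e4618a8b8820]⟩
def vQCL2 : Lev := ⟨nat_lit 3, nat_lit 0x800008, (.node (nat_lit 23) (.leaf (nat_lit 0x6b38bdab49ca307b9ac5a928398a418820)) (.leaf (nat_lit 0x6b381dab19ba904c9a75a9e4618a8b8820)))⟩
def vQCC2 : LevCert := ⟨vQCL2,
    [(nat_lit 23, nat_lit 0)],
    [],
    []⟩
def vQC : List LevCert := [vQCC0, vQCC1, vQCC2]
def vQCL : List Lev := [vQCL0, vQCL1, vQCL2]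
theorem vQ_chain : H15.LF.O6.E.IsChain vQCL (H15.LF.O6.E.grp vQG) := chain_grp (cert := vQC) (by decide +kernel)
theorem vQ_card : Nat.card (H15.LF.O6.E.grp vQG) = 128 := vQ_chain.card.trans (by decide +kernel)
def vA : List ℕ := [nat_lit 0x491733c53d1c2e6460d5928a28c18cd6c9, nat_lit 0x47191d2ba936c72cdd05a82401937409ec, nat_lit 0x3117c52b62a4077b9ba5925980e6a30831]
def vB : List ℕ := [nat_lit 0x8caf46, nat_lit 0x3a30bd, nat_lit 0x8d7d41]
def vS : List ℕ := [nat_lit 0x1f79c76281b85221718f09368704e31140d2c450a143018655589, nat_lit 0x1c85f79b7628116190d455a48d5871533902ca0440062572023cc, nat_lit 0x1f79d8a181b70c2176145561490073ce35a2c44994034ca182051]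
def vCertL0 : Lev := ⟨nat_lit 27, nat_lit 0x7f8000000, (.node (nat_lit 31) (.node (nat_lit 29) (.node (nat_lit 28) (.leaf (nat_lit 0x228607de75c6da6585d65544d24503ce34c2ca2481c61440c2040)) (.leaf (nat_lit 0x1f79c76281b85221718f09368704e31140d2c450a143018655589))) (.node (nat_lit 30) (.leaf (nat_lit 0x207e171d6de88510364d0921c03c141644e2d7698248506295313)) (.leaf (nat_lit 0x1c85f79b7628116190d455a48d5871533902ca0440062572023cc)))) (.node (nat_lit 33) (.node (nat_lit 32) (.leaf (nat_lit 0x2285e6e075c7d665821a55134e5002524c72ca3d7306043102150)) (.leaf (nat_lit 0x1d89b81f7217872860cc55a4855913413902d84c40192572023d4))) (.node (nat_lit 34) (.leaf (nat_lit 0x1e6e275c7e084d1031850924403d34161ce2d768a248319615501)) (.leaf (nat_lit 0x1b79d8a181f7015c86530921d03c501a44e2c459824350629530d)))))⟩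
def vCertC0 : LevCert := ⟨vCertL0,
    [(nat_lit 28, nat_lit 0), (nat_lit 30, nat_lit 1), (nat_lit 32, nat_lit 0), (nat_lit 34, nat_lit 1), (nat_lit 33, nat_lit 0), (nat_lit 31, nat_lit 1), (nat_lit 29, nat_lit 0)],
    [[nat_lit 2, nat_lit 2, nat_lit 2, nat_lit 2, nat_lit 0, nat_lit 4, nat_lit 2, nat_lit 4, nat_lit 2, nat_lit 2, nat_lit 0], [nat_lit 4, nat_lit 2, nat_lit 4, nat_lit 2, nat_lit 4, nat_lit 2, nat_lit 6, nat_lit 6, nat_lit 2], [nat_lit 6, nat_lit 6, nat_lit 8, nat_lit 8, nat_lit 4, nat_lit 6, nat_lit 8, nat_lit 4, nat_lit 6, nat_lit 8, nat_lit 6, nat_lit 4, nat_lit 8, nat_lit 6]],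
    [nat_lit 0x1d7207de8a16c028621055134951638f4c72d949731804310215a, nat_lit 0x1d89e7e07216d418a5d155024d00c1533da2d9048598483102387, nat_lit 0x217207de89d6c518a5c109258c38d50768f2d94482584040d5013]⟩
def vCertL1 : Lev := ⟨nat_lit 28, nat_lit 0x630000000, (.node (nat_lit 33) (.node (nat_lit 29) (.leaf (nat_lit 0x228607de75c6da6585d65544d24503ce34c2ca2481c61440c2040)) (.leaf (nat_lit 0x1d89e7e07216d418a5d155024d00c1533da2d9048598483102387))) (.node (nat_lit 34) (.leaf (nat_lit 0x1d7207de8a16c028621055134951638f4c72d949731804310215a)) (.leaf (nat_lit 0x1c8607de7626c16192050894073d344c00e2ca51748658311568d))))⟩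
def vCertC1 : LevCert := ⟨vCertL1,
    [(nat_lit 33, nat_lit 0), (nat_lit 29, nat_lit 1), (nat_lit 34, nat_lit 2)],
    [[nat_lit 2, nat_lit 4, nat_lit 2, nat_lit 4, nat_lit 0, nat_lit 2], [nat_lit 2, nat_lit 2, nat_lit 6, nat_lit 2]],
    [nat_lit 0x2275e7e085c6d161921455649368704d3802ca1574062440c23cc, nat_lit 0x227607de85c6d365820d08e6914811d45892c63173ca003115405]⟩
def vCertL2 : Lev := ⟨nat_lit 29, nat_lit 0x220000000, (.node (nat_lit 33) (.leaf (nat_lit 0x228607de75c6da6585d65544d24503ce34c2ca2481c61440c2040)) (.leaf (nat_lit 0x2275e7e085c6d161921455649368704d3802ca1574062440c23cc)))⟩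
def vCertC2 : LevCert := ⟨vCertL2,
    [(nat_lit 33, nat_lit 0)],
    [[nat_lit 0, nat_lit 2, nat_lit 2, nat_lit 2, nat_lit 0, nat_lit 0]],
    [nat_lit 0x2285e7e075c6d26195ce08d45a4cf4165052c600804a3031151c9]⟩
def vCertL3 : Lev := ⟨nat_lit 30, nat_lit 0x140000000, (.node (nat_lit 32) (.leaf (nat_lit 0x228607de75c6da6585d65544d24503ce34c2ca2481c61440c2040)) (.leaf (nat_lit 0x2285e7e075c6d26195ce08d45a4cf4165052c600804a3031151c9)))⟩
def vCertC3 : LevCert := ⟨vCertL3,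
    [(nat_lit 32, nat_lit 0)],
    [],
    []⟩
def vCert : List LevCert := [vCertC0, vCertC1, vCertC2, vCertC3]
def vCertL : List Lev := [vCertL0, vCertL1, vCertL2, vCertL3]
def vCertAL0 : Lev := ⟨nat_lit 0, nat_lit 0x45ff2a3, (.node (nat_lit 15) (.node (nat_lit 9) (.node (nat_lit 5) (.node (nat_lit 1) (.leaf (nat_lit 0x6b38bdab49ca307b9ac5a928398a418820)) (.leaf (nat_lit 0x3d175484184669a1f455918668ed9c540e))) (.node (nat_lit 7) (.leaf (nat_lit 0x491733c53d1c2e6460d5928a28c18cd6c9)) (.leaf (nat_lit 0x47191d2ba936c72cdd05a82401937409ec)))) (.node (nat_lit 13) (.node (nat_lit 12) (.leaf (nat_lit 0x39461c84566829858ed5e4049e2374568f)) (.leaf (nat_lit 0x5319246b674f4c0b6405a8a3819e8b8927))) (.node (nat_lit 14) (.leaf (nat_lit 0x3ae83244db30b23d01358e2a09218cd74f)) (.leaf (nat_lit 0x27381bc456402ed00ed5aac499a3745692))))) (.node (nat_lit 19) (.node (nat_lit 17) (.node (nat_lit 16) (.leaf (nat_lit 0x6e8ccc523c1e506a2e592d848e865558d))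 (.leaf (nat_lit 0x5b3846ab16ba804ca675a9f761823208b0))) (.node (nat_lit 18) (.leaf (nat_lit 0x3117c52b62a4077b9ba5925980e6a30831)) (.leaf (nat_lit 0x348331452881f3858ee5df4a4a199c5681)))) (.node (nat_lit 22) (.node (nat_lit 20) (.leaf (nat_lit 0x3546bcc4f05125646125e0e8767441d6c1)) (.leaf (nat_lit 0x5117cb2a06bad1924b0591f8d0c2650a67))) (.node (nat_lit 26) (.leaf (nat_lit 0x4319182a70a59a73cb159a44a29a8b8a76)) (.leaf (nat_lit 0x2e835aac4b690995c75902a88e58c89fa))))))⟩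
def vCertAC0 : LevCert := ⟨vCertAL0,
    [(nat_lit 5, nat_lit 0), (nat_lit 7, nat_lit 1), (nat_lit 17, nat_lit 2), (nat_lit 15, nat_lit 1), (nat_lit 19, nat_lit 2), (nat_lit 18, nat_lit 0), (nat_lit 16, nat_lit 1), (nat_lit 14, nat_lit 0), (nat_lit 26, nat_lit 1), (nat_lit 22, nat_lit 0), (nat_lit 1, nat_lit 1), (nat_lit 20, nat_lit 0), (nat_lit 9, nat_lit 2), (nat_lit 13, nat_lit 0), (nat_lit 12, nat_lit 1)],
    [[nat_lit 0, nat_lit 2, nat_lit 2, nat_lit 2, nat_lit 0, nat_lit 4, nat_lit 4], [nat_lit 2, nat_lit 4, nat_lit 2, nat_lit 4, nat_lit 6, nat_lit 6, nat_lit 6, nat_lit 6, nat_lit 6]],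
    [nat_lit 0x6b381dab19ba904c9a75a9e4618a8b8820, nat_lit 0x6917c42a794e36685ec58cb9a1126509c0]⟩
def vCertAL1 : Lev := ⟨nat_lit 1, nat_lit 0xc4002, (.node (nat_lit 18) (.node (nat_lit 14) (.leaf (nat_lit 0x6b38bdab49ca307b9ac5a928398a418820)) (.leaf (nat_lit 0x6917c42a794e36685ec58cb9a1126509c0))) (.node (nat_lit 19) (.leaf (nat_lit 0x6917542b1904f62cdf458da661139c09c0)) (.leaf (nat_lit 0x68cabdaac0c8f07b8b45e1288e5a418a60))))⟩
def vCertAC1 : LevCert := ⟨vCertAL1,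
    [(nat_lit 14, nat_lit 1), (nat_lit 18, nat_lit 0), (nat_lit 19, nat_lit 1)],
    [[nat_lit 0, nat_lit 0, nat_lit 0, nat_lit 2, nat_lit 2]],
    [nat_lit 0x6b381dab19ba904c9a75a9e4618a8b8820]⟩
def vCertAL2 : Lev := ⟨nat_lit 3, nat_lit 0x800008, (.node (nat_lit 23) (.leaf (nat_lit 0x6b38bdab49ca307b9ac5a928398a418820)) (.leaf (nat_lit 0x6b381dab19ba904c9a75a9e4618a8b8820)))⟩
def vCertAC2 : LevCert := ⟨vCertAL2,
    [(nat_lit 23, nat_lit 0)],
    [],
    []⟩
def vCertA : List LevCert := [vCertAC0, vCertAC1, vCertAC2]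
def vCertAL : List Lev := [vCertAL0, vCertAL1, vCertAL2]
theorem v_ok : isoOK 27 5 32 8 3 8 35 6 vQCL vPCL vA vB vS vCert vCertA = true := by
  decide +kernel
theorem v_ss : ssOK 6 64 35 vCert vS = true := by
  decide +kernel
theorem v_equiv : Nonempty (Alt.s8E.grp vPG ≃* H15.LF.O6.E.grp vQG) :=
  equiv_of_isoOK vP_chain vQ_chain 35 6 64 rfl rfl (by decide) v_ok v_ss (by decide +kernel)

theorem eq_one {K : Type} [Field K] [Fintype K] (hK : Fintype.card K = 2) {a : K} (h : a ≠ 0) :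
    a = 1 := by
  have := FiniteField.pow_card_sub_one_eq_one a h
  rwa [hK, pow_one] at this

/-- The Sylow 2-subgroups of the alternating group of degree 8 and of PSp₄(3) are isomorphic, and so are the Sylow 2-subgroups of the symmetric group of degree 8 and of the full isometry group of a non-degenerate quadratic form of minus type in dimension 6 over the field with 2 elements. -/
theorem result (F : Type) [Field F] [Fintype F] (hF : Fintype.card F = 3) (K : Type) [Field K] [Fintype K] (hK : Fintype.card K = 2) (a b : K) (hab : ∀ z₁ z₂ : K, z₁ ^ 2 + a * z₁ * z₂ + b * z₂ ^ 2 = 0 → z₁ = 0 ∧ z₂ = 0) (P : Sylow 2 ↥(alternatingGroup (Fin 8))) (Q : Sylow 2 (Cfsg.PSp 2 F)) (P' : Sylow 2 (Equiv.Perm (Fin 8))) (Q' : Sylow 2 ↥(Cfsg.isometryGroup K (Cfsg.quadFormMinus 2 K a b))) : Nonempty (↥(P : Subgroup ↥(alternatingGroup (Fin 8))) ≃* ↥(Q : Subgroup (Cfsg.PSp 2 F))) ∧ Nonempty (↥(P' : Subgroup (Equiv.Perm (Fin 8))) ≃* ↥(Q'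 : Subgroup ↥(Cfsg.isometryGroup K (Cfsg.quadFormMinus 2 K a b)))) := by
  have h2 : (1 : K) + 1 = 0 := by
    by_contra h
    exact one_ne_zero (add_eq_left.1 (eq_one hK h))
  obtain rfl : b = 1 := eq_one hK fun h => one_ne_zero (hab 0 1 (by simp [h])).2
  obtain rfl : a = 1 := eq_one hK fun h => one_ne_zero (hab 1 1 (by simp [h, h2])).2
  obtain ⟨ι, -⟩ := exists_hom F2 hK
  obtain ⟨φ, h⟩ := model_iso ι (eMinus 2) H15.LF.O6.E (Q := quadFormMinus 2 K 1 1) (U := uMinus F2 2 1 1)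
    (fun v => by simpa only [dec_one] using quadFormMinus_eq ι 2 (a := 1) (b := 1) (by decide) (by decide) v)
    (m := 17) H15.LF.O6.ok (by decide +kernel) (by
      rw [card_isoMinus hab, Nat.card_eq_fintype_card, hK]; decide +kernel)
  obtain ⟨e1⟩ := S43.equiv hF
  obtain ⟨e2⟩ := h.equiv
  obtain ⟨f1⟩ := u_equiv
  obtain ⟨f2⟩ := v_equiv
  obtain ⟨g1⟩ := sylow_equiv_of_le (MulEquiv.refl _) (grp_le_of_memOK Alt.a8_chain (l := uPG)
    (by decide +kernel)) (a := 6) (m := 315) uP_card Alt.a8_card (by norm_num) P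
  obtain ⟨g2⟩ := sylow_equiv_of_le e1 (grp_le_of_memOK S43.chain (l := uQG)
    (by decide +kernel)) (a := 6) (m := 405) uQ_card S43.card (by norm_num) Q
  obtain ⟨g3⟩ := sylow_equiv_of_le Subgroup.topEquiv.symm (L := Alt.s8E.grp vPG) le_top (a := 7)
    (m := 315) vP_card Alt.s8_card (by norm_num) P'
  obtain ⟨g4⟩ := sylow_equiv_of_le (p := 2) e2 (grp_le_of_memOK h.chain (l := vQG)
    (by decide +kernel)) (a := 7) (m := 405) vQ_card (H15.LF.O6.model.1.card.trans (modelOK_card H15.LF.O6.ok))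
    (by norm_num) Q'
  exact ⟨⟨(g1.trans f1).trans g2.symm⟩, ⟨(g3.trans f2).trans g4.symm⟩⟩

end Cfsg.Agent.S2931
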