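import Cfsg.Statements.S2932
import Cfsg.Agent.H41.NatN4

set_option autoImplicit false
open Cfsg

namespace Cfsg.Agent.S2932

open Cfsg.Agent.H41.NatN Cfsg.Agent.H69


/-- Let p be a prime. Inside a finite ambient group let V be an elementary abelian p-subgroup and G a subgroup normalizing V and acting faithfully on it (G ∩ C(V) = 1), and let L ≤ G act on V as SL₂(F) on its natural module, F a finite field of characteristic p, with L ≅ SL₂(F). If every Sylow p-subgroup of N_G(L) is a Sylow p-subgroup of G, then either L is normal in G, or F has 4 elements and G is isomorphic to the alternating group of degree 7. -/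
theorem result {X : Type*} [Group X] [Finite X] {p : ℕ} [Fact p.Prime] (F : Type) [Field F] [Fintype F] [CharP F p] (V G L : Subgroup X) (hV : Cfsg.IsElementaryAbelian p V) (hGV : G ≤ Subgroup.normalizer (V : Set X)) (hfaith : G ⊓ Subgroup.centralizer (V : Set X) = ⊥) (hLG : L ≤ G) (hnat : Cfsg.IsNaturalSL2Module F V L) (hLiso : Nonempty (↥L ≃* Matrix.SpecialLinearGroup (Fin 2) F)) (hSyl : ∀ S : Sylow p ↥(G ⊓ Subgroup.normalizer (L : Set X)), ∀ P : Sylow p ↥G, Nat.card S = Nat.card P) : (L.subgroupOf G).Normal ∨ (Fintype.card F = 4 ∧ Nonempty (↥G ≃* ↥(alternatingGroup (Fin 7)))) := by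
  classical
  obtain ⟨-, ρ, ψ, hρ, hker, hact⟩ := hnat
  have hmem : ∀ (g : G) (v : V), (g : X) * v * (g : X)⁻¹ ∈ V := fun g v =>
    (Subgroup.mem_normalizer_iff.1 (hGV g.2) v).1 v.2
  let cj : G → V → V := fun g v => ⟨_, hmem g v⟩
  letI : DistribMulAction G (Fin 2 → F) :=
    { smul := fun g w => ψ (Additive.ofMul (cj g (Additive.toMul (ψ.symm w))))
      one_smul := fun w => by
        show ψ (Additive.ofMul (cj 1 (Additive.toMul (ψ.symm w)))) = w
        have : cj 1 (Additive.toMul (ψ.symm w)) = Additive.toMul (ψ.symm w) :=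
          Subtype.ext (by simp [cj])
        rw [this]; simp
      mul_smul := fun g h w => by
        show ψ (Additive.ofMul (cj (g * h) (Additive.toMul (ψ.symm w)))) =
          ψ (Additive.ofMul (cj g (Additive.toMul (ψ.symm
            (ψ (Additive.ofMul (cj h (Additive.toMul (ψ.symm w)))))))))
        congr 2
        exact Subtype.ext (by simp [cj, mul_assoc])
      smul_zero := fun g => by
        show ψ (Additive.ofMul (cj g (Additive.toMul (ψ.symm 0)))) = 0
        have : cj g (Additive.toMul (ψ.symm 0)) = 1 := Subtype.ext (by simp [cj])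
        rw [this]; simp
      smul_add := fun g x y => by
        show ψ (Additive.ofMul (cj g (Additive.toMul (ψ.symm (x + y))))) =
          ψ (Additive.ofMul (cj g (Additive.toMul (ψ.symm x)))) +
            ψ (Additive.ofMul (cj g (Additive.toMul (ψ.symm y))))
        rw [← map_add, ← ofMul_mul]
        congr 2
        exact Subtype.ext (by simp [cj, mul_assoc]) }
  have hsm : ∀ (g : G) (v : V), g • ψ (Additive.ofMul v) = ψ (Additive.ofMul (cj g v)) := by
    intro g v
    show ψ (Additive.ofMul (cj g (Additive.toMul (ψ.symm (ψ (Additive.ofMul v)))))) = _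
    simp
  have hinj : Function.Injective ρ := by
    rw [← MonoidHom.ker_eq_bot_iff, hker, eq_bot_iff]
    intro l hl
    have : (l : X) ∈ G ⊓ Subgroup.centralizer (V : Set X) := ⟨hLG l.2, hl⟩
    rw [hfaith, Subgroup.mem_bot] at this
    exact Subtype.ext this
  let e := MulEquiv.ofBijective ρ ⟨hinj, hρ⟩
  let ι : SL2 F →* G := (Subgroup.inclusion hLG).comp e.symm.toMonoidHom
  have hrange : ι.range = L.subgroupOf G := by
    ext g
    constructor
    · rintro ⟨A, rfl⟩; exact (e.symm A).2
    · intro hg
      exact ⟨e ⟨g, hg⟩, Subtype.ext (by simp [ι])⟩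
  have hSu : Su ι := by
    refine ⟨fun h hh => ?_, fun A w => ?_⟩
    · have : (h : X) ∈ G ⊓ Subgroup.centralizer (V : Set X) := by
        refine ⟨h.2, fun v hv => ?_⟩
        have h1 := hh (ψ (Additive.ofMul ⟨v, hv⟩))
        rw [hsm] at h1
        have h2 : (h : X) * v * (h : X)⁻¹ = v :=
          congrArg Subtype.val (Additive.ofMul.injective (ψ.injective h1))
        exact (mul_inv_eq_iff_eq_mul.1 h2).symm
      rw [hfaith, Subgroup.mem_bot] at this
      exact Subtype.ext this
    · obtain ⟨v, rfl⟩ : ∃ v : V, w = ψ (Additive.ofMul v) :=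
        ⟨Additive.toMul (ψ.symm w), by simp⟩
      obtain ⟨w', h1, h2⟩ := hact (e.symm A) v
      have h3 : ρ (e.symm A) = A := e.apply_symm_apply A
      rw [h3] at h2
      rw [hsm, ← h2]
      congr 2
      exact Subtype.ext h1.symm
  set K := G ⊓ Subgroup.normalizer (L : Set X) with hK
  let j : K →* G := Subgroup.inclusion inf_le_left
  have hj : Function.Injective j := Subgroup.inclusion_injective _
  have hP : IsPGroup p ((R F G).comap j) := (hSu.isPGroup_R p).comap_of_injective j hj
  obtain ⟨S, hS⟩ := hP.exists_le_sylow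
  have hc : Nat.card ((S : Subgroup K).map j) = p ^ (Nat.card G).factorization p := by
    rw [Subgroup.card_map_of_injective hj, ← Sylow.card_eq_multiplicity (default : Sylow p G)]
    exact hSyl S default
  have hSy : Sy ι p (Sylow.ofCard _ hc) := by
    refine { hSu with norm := ?_, up_mem := fun c => ?_ }
    · rintro _ ⟨x, -, rfl⟩
      rw [hrange, Subgroup.mem_normalizer_iff]
      intro h
      exact Subgroup.mem_normalizer_iff.1 x.2.2 (h : X)
    · have hL : ((ι (up c) : G) : X) ∈ L := (e.symm (up c)).2
      exact ⟨⟨_, (ι (up c)).2, Subgroup.le_normalizer hL⟩, hS (hSu.up_mem_R c), rfl⟩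
  rw [← hrange]
  exact hSy.main

end Cfsg.Agent.S2932
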