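import Cfsg.Statements.S2934
import Cfsg.Agent.H46.Generation
import Cfsg.Agent.H24.FpfPerfect
import Cfsg.Agent.H8.Q8Main
import Cfsg.Agent.H1.UniqueSub
import Cfsg.Agent.H3.PGroup
import Cfsg.Agent.H21.Basic

set_option autoImplicit false
open Cfsg

namespace Cfsg.Agent.S2934

open Subgroup
open scoped commutatorElement

section
variable {W : Type*} [Group W] [Finite W]

/-- Fixed points of an automorphism. -/
def Fx (a : MulAut W) : Subgroup W where
  carrier := {x | a x = x}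
  one_mem' := map_one a
  mul_mem' := fun {x y} hx hy => by
    have h1 : a x = x := hx
    have h2 : a y = y := hy
    show a (x * y) = x * y
    rw [map_mul, h1, h2]
  inv_mem' := fun {x} hx => by
    have h1 : a x = x := hx
    show a x⁻¹ = x⁻¹
    rw [map_inv, h1]

omit [Finite W] in
theorem mem_Fx {a : MulAut W} {x : W} : x ∈ Fx a ↔ a x = x := Iff.rfl

theorem inv_zpowers {a : MulAut W} {D : Subgroup W} (hD : ∀ x ∈ D, a x ∈ D) {c : MulAut W}
    (hc : c ∈ zpowers a) : ∀ x ∈ D, c x ∈ D := by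
  obtain ⟨k, rfl⟩ := mem_powers_iff_mem_zpowers.2 hc
  induction k with
  | zero => simp
  | succ k ih =>
    intro x hx
    simp only [pow_succ', MulAut.mul_apply]
    exact hD _ (ih (pow_mem (mem_zpowers a) k) x hx)

theorem card_modEq_fix {p : ℕ} [Fact p.Prime] (a : MulAut W) (ha : IsPGroup p (zpowers a))
    (D : Subgroup W) (hD : ∀ x ∈ D, a x ∈ D) :
    Nat.card D ≡ Nat.card ↥(D ⊓ Fx a) [MOD p] := by
  let S : SubMulAction (zpowers a) W :=
    { carrier := D
      smul_mem' := fun c x hx => inv_zpowers hD c.2 x hx }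
  have h1 := ha.card_modEq_card_fixedPoints S
  have h2 : Nat.card (MulAction.fixedPoints (zpowers a) S) = Nat.card ↥(D ⊓ Fx a) := by
    refine Nat.card_congr ⟨fun x => ⟨x.1.1, x.1.2, congrArg Subtype.val (x.2 ⟨a, mem_zpowers a⟩)⟩,
      fun x => ⟨⟨x.1, x.2.1⟩, fun c => Subtype.ext ?_⟩, fun _ => rfl, fun _ => rfl⟩
    have : zpowers a ≤ MulAction.stabilizer (MulAut W) x.1 := zpowers_le.2 x.2.2
    exact this c.2
  rw [← h2]; exact h1

/-- Generation by fixed point subgroups. -/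
theorem gen {p : ℕ} [Fact p.Prime] (hW : IsPGroup 2 W) (hp : p ≠ 2) {E : Subgroup (MulAut W)}
    (hE : IsPGroup p E) (hab : IsMulCommutative E) (hnc : ¬ IsCyclic E) {V Y : Subgroup W}
    (hV : ∀ e ∈ E, ∀ x ∈ V, e x ∈ V) (hY : ∀ e ∈ E, e ≠ 1 → V ⊓ Fx e ≤ Y) : V ≤ Y := by
  let G := W ⋊[MonoidHom.id (MulAut W)] MulAut W
  haveI : Finite G := Finite.of_equiv _ SemidirectProduct.equivProd.symm
  let i : W →* G := SemidirectProduct.inl
  let j : MulAut W →* G := SemidirectProduct.inr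
  have hi : Function.Injective i := SemidirectProduct.inl_injective
  have hj : Function.Injective j := SemidirectProduct.inr_injective
  have hc : ∀ (e : MulAut W) (x : W), j e * i x * (j e)⁻¹ = i (e x) := by
    intro e x
    rw [← map_inv]
    exact (SemidirectProduct.inl_aut (φ := MonoidHom.id (MulAut W)) e x).symm
  have e1 := E.equivMapOfInjective j hj
  have h := H46.le_of_forall_element (A := E.map j) (X := V.map i) (Y := Y.map i) (hE.map j)
    ⟨⟨fun a b => e1.symm.injective (by rw [map_mul, map_mul, hab.is_comm.comm])⟩⟩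
    (fun h => hnc (isCyclic_of_surjective e1.symm e1.symm.surjective)) ?_ ?_ ?_
  · exact (map_le_map_iff_of_injective hi).1 h
  · rw [card_map_of_injective hi]
    obtain ⟨k, hk⟩ := IsPGroup.iff_card.1 (hW.to_subgroup V)
    rw [hk]
    intro h
    exact hp ((Nat.prime_dvd_prime_iff_eq Fact.out Nat.prime_two).1 ((Fact.out : p.Prime).dvd_of_dvd_pow h))
  · rintro _ ⟨e, he, rfl⟩
    rw [mem_normalizer_iff]
    intro x
    constructor
    · rintro ⟨x, hx, rfl⟩
      exact ⟨_, hV e he x hx, (hc e x).symm⟩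
    · rintro ⟨y, hy, h⟩
      refine ⟨e⁻¹ y, hV _ (inv_mem he) y hy, ?_⟩
      rw [← hc, h, map_inv]; simp [mul_assoc]
  · rintro _ ⟨e, he, rfl⟩ h1 _ ⟨⟨x, hx, rfl⟩, h2⟩
    refine ⟨x, hY e he (fun h => h1 (by rw [h, map_one])) ⟨hx, ?_⟩, rfl⟩
    have h3 : j e * i x = i x * j e := h2 _ rfl
    apply hi
    rw [← hc, h3]; exact mul_inv_cancel_right _ _

/-- Restriction of automorphisms to an invariant subgroup. -/
noncomputable def res (E : Subgroup (MulAut W)) (Q : Subgroup W) (hQ : ∀ e ∈ E, ∀ x ∈ Q, e x ∈ Q) :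
    E →* MulAut Q where
  toFun e :=
    { toFun := fun x => ⟨e.1 x, hQ _ e.2 _ x.2⟩
      invFun := fun x => ⟨e.1⁻¹ x, hQ _ (inv_mem e.2) _ x.2⟩
      left_inv := fun x => Subtype.ext (by simp)
      right_inv := fun x => Subtype.ext (by simp)
      map_mul' := fun x y => Subtype.ext (by simp) }
  map_one' := by ext; rfl
  map_mul' a b := by ext; rfl

theorem local_q8 {p : ℕ} [Fact p.Prime] (hW : IsPGroup 2 W) (hp : p ≠ 2) {E : Subgroup (MulAut W)}
    (hE : IsPGroup p E) {Q : Subgroup W} (hQ : ∀ e ∈ E, ∀ x ∈ Q, e x ∈ Q)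
    (hu : ∀ x ∈ Q, ∀ y ∈ Q, orderOf x = 2 → orderOf y = 2 → x = y)
    (hnt : ∃ a ∈ E, ∃ x ∈ Q, a x ≠ x) :
    p = 3 ∧ (∃ t, H8.Q8Data Q t) ∧ (res E Q hQ).ker.index = 3 := by
  obtain ⟨a, ha, x, hx, hax⟩ := hnt
  have hne : res E Q hQ ⟨a, ha⟩ ≠ 1 := fun h =>
    hax (congrArg Subtype.val (DFunLike.congr_fun h (⟨x, hx⟩ : Q)))
  have hcop : (orderOf (res E Q hQ ⟨a, ha⟩)).Coprime 2 := by
    obtain ⟨k, hk⟩ := hE.exists_orderOf_eq_pow ⟨a, ha⟩
    refine Nat.Coprime.coprime_dvd_left (orderOf_map_dvd _ _) ?_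
    rw [hk]
    exact Nat.Coprime.pow_left _ ((Nat.coprime_primes Fact.out Nat.prime_two).2 hp)
  rcases H1.cyclic_or_quaternion (hW.to_subgroup Q) (fun x y h1 h2 => Subtype.ext
    (hu x x.2 y y.2 (by rwa [Subgroup.orderOf_coe]) (by rwa [Subgroup.orderOf_coe]))) with hc | ⟨n, ⟨e⟩⟩
  · exact absurd (H24.mulAut_eq_one_of_isCyclic (hW.to_subgroup Q) _ hcop) hne
  rcases n with _ | n
  · obtain ⟨f⟩ := S3742.result
    have h24 : Nat.card (MulAut Q) = 24 := by
      rw [Nat.card_congr ((MulAut.congr e).trans f).toEquiv, Nat.card_perm, Nat.card_fin]; rfl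
    have h1 : (res E Q hQ).ker.index ∣ 24 := by
      rw [index_ker, ← h24]; exact card_subgroup_dvd_card _
    obtain ⟨k, hk⟩ := hE.index (res E Q hQ).ker
    have hk0 : k ≠ 0 := by
      rintro rfl
      rw [pow_zero, index_eq_one] at hk
      exact hne (by rw [← MonoidHom.mem_ker, hk]; trivial)
    have hp3 : p = 3 := by
      have h2 : p ∣ 2 ^ 3 * 3 := (dvd_pow_self p hk0).trans (hk ▸ h1)
      rcases (Nat.Prime.dvd_mul Fact.out).1 h2 with h | h
      · exact absurd ((Nat.prime_dvd_prime_iff_eq Fact.out Nat.prime_two).1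
          ((Fact.out : p.Prime).dvd_of_dvd_pow h)) hp
      · exact (Nat.prime_dvd_prime_iff_eq Fact.out Nat.prime_three).1 h
    refine ⟨hp3, H8.exists_q8Data e, ?_⟩
    rw [hk, hp3] at h1 ⊢
    have : k < 2 := by
      by_contra h
      exact absurd ((pow_dvd_pow 3 (by omega : 2 ≤ k)).trans h1) (by decide)
    interval_cases k
    · exact absurd rfl hk0
    · rfl
  · exfalso
    apply hne
    have h1 := H24.mulAut_quaternion_eq_one (n := n) (MulAut.congr e (res E Q hQ ⟨a, ha⟩))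
      (by rwa [MulEquiv.orderOf_eq])
    exact (MulAut.congr e).injective (h1.trans (map_one _).symm)

theorem three_le_card {D : Subgroup W} {x y : W} (hx : x ∈ D) (hy : y ∈ D) (h1 : x ≠ 1) (h2 : y ≠ 1)
    (h3 : x ≠ y) : 3 ≤ Nat.card D := by
  classical
  have h4 : (({1, x, y} : Finset W) : Set W) ⊆ D := by
    intro w hw
    simp only [Finset.coe_insert, Finset.coe_singleton, Set.mem_insert_iff, Set.mem_singleton_iff] at hw
    rcases hw with rfl | rfl | rfl
    · exact D.one_mem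
    · exact hx
    · exact hy
  have h5 := Set.ncard_le_ncard h4
  rw [Set.ncard_coe_finset, Finset.card_eq_three.2 ⟨1, x, y, h1.symm, h2.symm, h3, rfl⟩] at h5
  exact h5

theorem card_lt' {A B : Subgroup W} (h : A < B) : Nat.card A < Nat.card B :=
  lt_of_le_of_ne (card_le_of_le h.le) (fun e => h.ne (eq_of_le_of_card_ge h.le e.ge))

theorem pow3 {k : ℕ} (h1 : 3 ^ k ≤ 3 * 3) (h2 : 3 ^ k ≠ 1 ∧ 3 ^ k ≠ 3) : 3 ^ k = 9 := by
  have : k < 3 := by
    by_contra h
    have := Nat.pow_le_pow_right (n := 3) (by norm_num) (not_lt.1 h)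
    omega
  interval_cases k <;> simp_all

theorem Fx_inv (e : MulAut W) : Fx e⁻¹ = Fx e := by
  ext x
  rw [mem_Fx, mem_Fx]
  exact ⟨fun h => by conv_lhs => rw [← h]; simp, fun h => by conv_lhs => rw [← h]; simp⟩

section Q8
variable {Q : Subgroup W} {z : W} (h : H8.Q8Data Q z) {a : MulAut W} (ha : IsPGroup 3 (zpowers a))
  (hQ : ∀ x ∈ Q, a x ∈ Q) (hnt : ∃ x ∈ Q, a x ≠ x)
include h ha hQ hnt

theorem q8_fix {x : W} (hx : x ∈ Q) (hax : a x = x) : x = 1 ∨ x = z := by
  haveI : Fact (Nat.Prime 3) := ⟨Nat.prime_three⟩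
  by_contra hcon
  push Not at hcon
  have hz1 : z ≠ 1 := fun e => by have := h.ord; rw [e, orderOf_one] at this; omega
  have hxz : x * x = z := (h.sq_or x hx).resolve_left (fun e => (h.sq_one x hx e).elim hcon.1 hcon.2)
  have hz : a z = z := by rw [← hxz, map_mul, hax]
  have h1 := card_modEq_fix a ha Q hQ
  have h2 := three_le_card (D := Q ⊓ Fx a) ⟨hx, hax⟩ ⟨h.mem, hz⟩ hcon.1 hz1 hcon.2
  have h3 : Nat.card ↥(Q ⊓ Fx a) ∣ 8 := h.card ▸ card_dvd_of_le inf_le_left
  rw [h.card] at h1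
  have h4 : Nat.card ↥(Q ⊓ Fx a) = 8 := by
    have h5 := Nat.le_of_dvd (by norm_num) h3
    unfold Nat.ModEq at h1
    generalize Nat.card ↥(Q ⊓ Fx a) = m at *
    interval_cases m <;> simp_all
  have h5 : Q ⊓ Fx a = Q := eq_of_le_of_card_ge inf_le_left (by rw [h4, h.card])
  obtain ⟨y, hy, hay⟩ := hnt
  exact hay (h5.ge hy).2

theorem q8_inv {D : Subgroup W} (hDQ : D ≤ Q) (hD : ∀ x ∈ D, a x ∈ D) {x : W} (hx : x ∈ D)
    (h1 : x ≠ 1) (h2 : x ≠ z) : D = Q := by
  haveI : Fact (Nat.Prime 3) := ⟨Nat.prime_three⟩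
  have hz1 : z ≠ 1 := fun e => by have := h.ord; rw [e, orderOf_one] at this; omega
  have hxz : x * x = z := (h.sq_or x (hDQ hx)).resolve_left
    (fun e => (h.sq_one x (hDQ hx) e).elim h1 h2)
  have hzD : z ∈ D := hxz ▸ mul_mem hx hx
  have hz : a z = z := by
    have h3 : a z * a z = 1 := by rw [← map_mul, ← pow_two, ← h.ord, pow_orderOf_eq_one, map_one]
    exact (h.sq_one _ (hQ z h.mem) h3).resolve_left (fun e => hz1 (a.injective (e.trans (map_one a).symm)))
  have h3 : D ⊓ Fx a = zpowers z := by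
    apply le_antisymm
    · intro y hy
      rcases q8_fix h ha hQ hnt (hDQ hy.1) hy.2 with rfl | rfl
      · exact one_mem _
      · exact mem_zpowers _
    · exact zpowers_le.2 ⟨hzD, hz⟩
  have h4 := card_modEq_fix a ha D hD
  rw [h3, Nat.card_zpowers, h.ord] at h4
  have h5 := three_le_card hx hzD h1 hz1 h2
  have h6 : Nat.card D ∣ 8 := h.card ▸ card_dvd_of_le hDQ
  have h7 : Nat.card D = 8 := by
    have h5 := Nat.le_of_dvd (by norm_num) h6
    unfold Nat.ModEq at h4
    generalize Nat.card D = m at *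
    interval_cases m <;> simp_all
  exact eq_of_le_of_card_ge hDQ (by rw [h7, h.card])

/-- An element fixed by `a` and centralizing `Q` modulo `z` centralizes `Q`. -/
theorem q8_cent (hzc : ∀ w : W, w * z = z * w) {y : W} (hy : a y = y)
    (hc : ∀ x ∈ Q, x * y = y * x ∨ x * y = y * x * z) : ∀ x ∈ Q, x * y = y * x := by
  have hz1 : z ≠ 1 := fun e => by have := h.ord; rw [e, orderOf_one] at this; omega
  have hzz : z * z = 1 := by rw [← pow_two, ← h.ord, pow_orderOf_eq_one]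
  have hz : a z = z := by
    have h3 : a z * a z = 1 := by rw [← map_mul, hzz, map_one]
    exact (h.sq_one _ (hQ z h.mem) h3).resolve_left (fun e => hz1 (a.injective (e.trans (map_one a).symm)))
  obtain ⟨x, hx, hax⟩ := id hnt
  have hm : x⁻¹ * a x ∈ Q ⊓ centralizer {y} := by
    refine mem_inf.2 ⟨mul_mem (inv_mem hx) (hQ x hx), mem_centralizer_singleton_iff.2 ?_⟩
    rcases hc x hx with h1 | h1
    · have h2 : a x * y = y * a x := by simpa [hy] using congrArg a h1
      calc x⁻¹ * a x * y = x⁻¹ * (y * x) * x⁻¹ * a x := by rw [mul_assoc, h2]; group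
        _ = y * (x⁻¹ * a x) := by rw [← h1]; group
    · have h2 : a x * y = y * a x * z := by simpa [hy, hz] using congrArg a h1
      have h3 : y * x = x * y * z := by rw [h1, mul_assoc, hzz, mul_one]
      calc x⁻¹ * a x * y = x⁻¹ * (y * x) * x⁻¹ * (a x * z) := by rw [mul_assoc, h2]; group
        _ = y * (z * x⁻¹ * (a x * z)) := by rw [h3]; group
        _ = y * (x⁻¹ * a x) := by rw [hzc (a x), ← hzc x⁻¹, mul_assoc x⁻¹, ← mul_assoc z, hzz, one_mul]
  have hD := q8_inv h ha hQ hnt (D := Q ⊓ centralizer {y}) inf_le_left (fun w hw =>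
    ⟨hQ w hw.1, mem_centralizer_singleton_iff.2 (by
      simpa [hy] using congrArg a (mem_centralizer_singleton_iff.1 hw.2))⟩) hm
    (fun e => hax (inv_mul_eq_one.1 e).symm) (fun e => ?_)
  · exact fun w hw => mem_centralizer_singleton_iff.1 (hD.ge hw).2
  · have h1 : a x = x * z := by rw [← e]; group
    have hD2 := q8_inv h ha hQ hnt (D := zpowers x) (zpowers_le.2 hx) (fun w hw => ?_) (mem_zpowers x)
      (fun e => hax (by rw [e, map_one])) (fun e => hax (by rw [e, hz]))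
    · obtain ⟨u, hu, v, hv, huv⟩ := h.conj
      rw [← hD2] at hu hv
      obtain ⟨i, rfl⟩ := hu
      obtain ⟨j, rfl⟩ := hv
      apply hz1
      have : x ^ i * x ^ j * (x ^ i)⁻¹ = x ^ j := by group
      simp only at huv
      rw [this] at huv
      simpa using huv
    · have hxz : x * x = z := (h.sq_or x hx).resolve_left
        (fun e => (h.sq_one x hx e).elim (fun e => hax (by rw [e, map_one])) (fun e => hax (by rw [e, hz])))
      obtain ⟨i, rfl⟩ := hw
      simp only [map_zpow]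
      refine zpow_mem ?_ i
      rw [h1, ← hxz]
      exact mul_mem (mem_zpowers x) (mul_mem (mem_zpowers x) (mem_zpowers x))

end Q8

end

set_option maxHeartbeats 1000000 in

/-- Let p be an odd prime, W a finite 2-group and E a non-cyclic abelian p-subgroup of Aut(W) such that, for every nontrivial e ∈ E, the fixed points of e in W contain at most one involution. Then E has order 9, W is extraspecial of order 2⁵, 2⁷ or 2⁹, and the common fixed points of E in W form exactly the centre Z(W). -/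
theorem result {W : Type*} [Group W] [Finite W] (hW : IsPGroup 2 W) {p : ℕ} [Fact p.Prime] (hp : p ≠ 2) (E : Subgroup (MulAut W)) (hE : IsPGroup p ↥E) (hab : IsMulCommutative ↥E) (hnc : ¬ IsCyclic ↥E) (hfix : ∀ e ∈ E, e ≠ 1 → ∀ x y : W, orderOf x = 2 → orderOf y = 2 → e x = x → e y = y → x = y) : Nat.card ↥E = 9 ∧ Cfsg.IsExtraspecial 2 W ∧ (Nat.card W = 2 ^ 5 ∨ Nat.card W = 2 ^ 7 ∨ Nat.card W = 2 ^ 9) ∧ {x : W | ∀ e ∈ E, e x = x} = (Subgroup.center W : Set W) := by
  classical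
  have hcomm : ∀ a ∈ E, ∀ b ∈ E, a * b = b * a := fun a ha b hb =>
    congrArg Subtype.val (hab.is_comm.comm (⟨a, ha⟩ : E) ⟨b, hb⟩)
  have hinv : ∀ e ∈ E, ∀ a ∈ E, ∀ x ∈ Fx e, a x ∈ Fx e := by
    intro e he a ha x hx
    rw [mem_Fx] at hx ⊢
    rw [← MulAut.mul_apply, hcomm e he a ha, MulAut.mul_apply, hx]
  have hgen : ∀ {V Y : Subgroup W}, (∀ e ∈ E, ∀ x ∈ V, e x ∈ V) →
      (∀ e ∈ E, e ≠ 1 → V ⊓ Fx e ≤ Y) → V ≤ Y := fun h1 h2 => gen hW hp hE hab hnc h1 h2
  have hgen' : ∀ {Y : Subgroup W}, (∀ e ∈ E, e ≠ 1 → Fx e ≤ Y) → ∀ x, x ∈ Y := fun h x =>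
    hgen (V := ⊤) (fun _ _ _ _ => mem_top _) (fun e he h1 => inf_le_right.trans (h e he h1)) (mem_top x)
  -- big fixed point subgroups
  let Big : Subgroup W → Prop := fun Q => (∃ e ∈ E, e ≠ 1 ∧ Fx e = Q) ∧ ∃ a ∈ E, ∃ x ∈ Q, a x ≠ x
  have hBinv : ∀ Q, Big Q → ∀ a ∈ E, ∀ x ∈ Q, a x ∈ Q := by
    rintro Q ⟨⟨e, he, -, rfl⟩, -⟩
    exact hinv e he
  have hloc : ∀ Q (h : Big Q), p = 3 ∧ (∃ t, H8.Q8Data Q t) ∧ (res E Q (hBinv Q h)).ker.index = 3 := by
    intro Q h
    refine local_q8 hW hp hE (hBinv Q h) ?_ h.2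
    obtain ⟨⟨e, he, h1, rfl⟩, -⟩ := h
    exact fun x hx y hy h2 h3 => hfix e he h1 x y h2 h3 hx hy
  have hE1 : ∃ a ∈ E, a ≠ 1 := by
    by_contra h
    push Not at h
    haveI : Subsingleton E := ⟨fun a b => Subtype.ext ((h a a.2).trans (h b b.2).symm)⟩
    exact hnc inferInstance
  let C : Subgroup W := ⨅ e ∈ E, Fx e
  have hC : ∀ x, x ∈ C ↔ ∀ e ∈ E, e x = x := fun x => by simp [C, mem_iInf, mem_Fx]
  have hnb : ∀ e ∈ E, e ≠ 1 → Big (Fx e) ∨ Fx e ≤ C := by
    intro e he h1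
    by_cases h : ∃ a ∈ E, ∃ x ∈ Fx e, a x ≠ x
    · exact Or.inl ⟨⟨e, he, h1, rfl⟩, h⟩
    · push Not at h
      exact Or.inr fun x hx => (hC x).2 fun a ha => h a ha x hx
  obtain ⟨Q₁, hQ₁⟩ : ∃ Q, Big Q := by
    by_contra h
    push Not at h
    obtain ⟨a, ha, h1⟩ := hE1
    apply h1
    ext x
    exact (hC x).1 (hgen' (fun e he h1 => (hnb e he h1).resolve_left (h _)) x) a ha
  obtain ⟨hp3, ⟨z, hz⟩, -⟩ := hloc Q₁ hQ₁
  subst hp3
  have h3 : ∀ a ∈ E, IsPGroup 3 (zpowers a) := fun a ha => hE.to_le (zpowers_le.2 ha)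
  have hz1 : z ≠ 1 := fun e => by have := hz.ord; rw [e, orderOf_one] at this; omega
  have hzz : z * z = 1 := by rw [← pow_two, ← hz.ord, pow_orderOf_eq_one]
  have hzC : ∀ a ∈ E, a z = z := by
    intro a ha
    have h3 : a z * a z = 1 := by rw [← map_mul, hzz, map_one]
    exact (hz.sq_one _ (hBinv _ hQ₁ a ha z hz.mem) h3).resolve_left
      (fun e => hz1 (a.injective (e.trans (map_one a).symm)))
  have hQ8 : ∀ Q, Big Q → H8.Q8Data Q z := by
    intro Q hQ
    obtain ⟨-, ⟨t, ht⟩, -⟩ := hloc Q hQ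
    obtain ⟨⟨e, he, h1, rfl⟩, -⟩ := hQ
    rwa [hfix e he h1 z t hz.ord ht.ord (hzC e he) ht.mem]
  have hZ : ∀ x, x ∈ zpowers z ↔ x = 1 ∨ x = z := by
    intro x
    constructor
    · intro hx
      exact hz.sq_one x (zpowers_le.2 hz.mem hx) (by
        obtain ⟨k, rfl⟩ := hx
        simp only
        rw [← (Commute.refl z).mul_zpow, hzz, one_zpow])
    · rintro (rfl | rfl)
      · exact one_mem _
      · exact mem_zpowers _
  have hCZ : C ≤ zpowers z := by
    intro x hx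
    obtain ⟨⟨e, he, h1, rfl⟩, a, ha, hnt⟩ := id hQ₁
    exact (hZ x).2 (q8_fix hz (h3 a ha) (hBinv _ hQ₁ a ha) hnt ((hC x).1 hx e he) ((hC x).1 hx a ha))
  have hG : ∀ {V Y : Subgroup W}, (∀ e ∈ E, ∀ x ∈ V, e x ∈ V) → z ∈ Y →
      (∀ Q, Big Q → V ⊓ Q ≤ Y) → V ≤ Y := by
    intro V Y h1 h2 h3
    refine hgen h1 (fun e he h4 => ?_)
    rcases hnb e he h4 with h | h
    · exact h3 _ h
    · exact inf_le_right.trans (h.trans (hCZ.trans (zpowers_le.2 h2)))
  have hG' : ∀ {Y : Subgroup W}, z ∈ Y → (∀ Q, Big Q → Q ≤ Y) → ∀ x, x ∈ Y := fun h1 h2 x =>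
    hG (V := ⊤) (fun _ _ _ _ => mem_top _) h1 (fun Q hQ => inf_le_right.trans (h2 Q hQ)) (mem_top x)
  have hzc : ∀ w : W, w * z = z * w := fun w => mem_centralizer_singleton_iff.1
    (hG' (Y := centralizer {z}) (mem_centralizer_singleton_iff.2 rfl)
      (fun Q hQ x hx => mem_centralizer_singleton_iff.2 ((hQ8 Q hQ).comm x hx)) w)
  have hZc : zpowers z ≤ center W := zpowers_le.2 (mem_center_iff.2 hzc)
  haveI hZn : (zpowers z).Normal := ⟨fun x hx g => by rw [mem_center_iff.1 (hZc hx) g]; simpa using hx⟩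
  have hcenter : center W = zpowers z := by
    refine le_antisymm (hG (fun e _ x hx => ?_) (mem_zpowers z) (fun Q hQ x hx => ?_)) hZc
    · exact characteristic_iff_le_comap.1 inferInstance e hx
    · exact (hZ x).2 ((hQ8 Q hQ).cent x hx.2 (fun y _ => (mem_center_iff.1 hx.1 y).symm))
  -- an element of `E` fixing a big subgroup determines it
  have huniq : ∀ Q, Big Q → ∀ a ∈ E, a ≠ 1 → Q ≤ Fx a → Fx a = Q := by
    intro Q hQ a ha h1 h2
    have hb : Big (Fx a) := ⟨⟨a, ha, h1, rfl⟩, by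
      obtain ⟨b, hb, x, hx, h⟩ := hQ.2
      exact ⟨b, hb, x, h2 hx, h⟩⟩
    exact (eq_of_le_of_card_ge h2 (by rw [(hQ8 _ hb).card, (hQ8 _ hQ).card])).symm
  let π := QuotientGroup.mk' (zpowers z)
  have hπ : ∀ x y : W, π x * π y = π y * π x ↔ x * y = y * x ∨ x * y = y * x * z := by
    intro x y
    rw [← map_mul, ← map_mul, eq_comm, QuotientGroup.mk'_apply, QuotientGroup.mk'_apply,
      QuotientGroup.eq, hZ, inv_mul_eq_one, inv_mul_eq_iff_eq_mul, eq_comm]
  -- distinct big subgroups commute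
  have hpair : ∀ (k : ℕ) (V : Subgroup W), Nat.card V = k → (∀ e ∈ E, ∀ x ∈ V, e x ∈ V) →
      ∀ Q Q', Big Q → Big Q' → Q ≠ Q' → Q ≤ V → Q' ≤ V → ∀ x ∈ Q, ∀ y ∈ Q', x * y = y * x := by
    intro k
    induction k using Nat.strong_induction_on with | _ k ih =>
    intro V hk hV Q Q' hQ hQ' hne hQV hQ'V
    let D : Subgroup W := V ⊓ (centralizer (V.map π : Set (W ⧸ zpowers z))).comap π
    have hD : ∀ x, x ∈ D ↔ x ∈ V ∧ ∀ y ∈ V, x * y = y * x ∨ x * y = y * x * z := by
      intro x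
      refine and_congr_right fun _ => ⟨fun h y hy => (hπ x y).1 (h _ ⟨y, hy, rfl⟩).symm, ?_⟩
      rintro h _ ⟨y, hy, rfl⟩
      exact ((hπ x y).2 (h y hy)).symm
    have hDinv : ∀ e ∈ E, ∀ x ∈ D, e x ∈ D := by
      intro e he x hx
      rw [hD] at hx ⊢
      refine ⟨hV e he x hx.1, fun y hy => ?_⟩
      rcases hx.2 (e⁻¹ y) (hV _ (inv_mem he) y hy) with h | h
      · left; simpa using congrArg e h
      · right; simpa [hzC e he] using congrArg e h
    have hDZ : ¬ D ≤ zpowers z := by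
      intro hle
      have hp2 : IsPGroup 2 (V.map π) := (hW.to_subgroup V).map π
      haveI : Nontrivial (V.map π) := by
        rw [nontrivial_iff_ne_bot]
        intro h
        rw [Subgroup.map_eq_bot_iff, QuotientGroup.ker_mk'] at h
        have h1 := card_le_of_le (hQV.trans h)
        rw [(hQ8 Q hQ).card, Nat.card_zpowers, hz.ord] at h1
        omega
      haveI := hp2.center_nontrivial
      obtain ⟨⟨c, hc⟩, hc1⟩ := exists_ne (1 : center (V.map π))
      obtain ⟨_, x, hx, rfl⟩ := c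
      apply hc1
      apply Subtype.ext
      apply Subtype.ext
      exact (QuotientGroup.eq_one_iff x).2 (hle ⟨hx, fun y hy =>
        congrArg Subtype.val (mem_center_iff.1 hc ⟨y, hy⟩)⟩)
    obtain ⟨R, hR, hRD⟩ : ∃ R, Big R ∧ R ≤ D := by
      by_contra hcon
      push Not at hcon
      refine hDZ (hG hDinv (mem_zpowers z) (fun R hR x hx => ?_))
      by_contra hx1
      rw [hZ, not_or] at hx1
      obtain ⟨a, ha, hnt⟩ := hR.2
      have := q8_inv (hQ8 R hR) (h3 a ha) (hBinv R hR a ha) hnt (D := D ⊓ R) inf_le_right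
        (fun w hw => ⟨hDinv a ha w hw.1, hBinv R hR a ha w hw.2⟩) hx hx1.1 hx1.2
      exact hcon R hR (this ▸ inf_le_left)
    have hRc : ∀ S, Big S → S ≠ R → S ≤ V → ∀ x ∈ R, ∀ y ∈ S, x * y = y * x := by
      intro S hS hSR hSV x hx y hy
      obtain ⟨⟨e, he, h1, rfl⟩, -⟩ := id hS
      refine q8_cent (hQ8 R hR) (h3 e he) (hBinv R hR e he) ?_ hzc hy
        (fun w hw => ((hD w).1 (hRD hw)).2 y (hSV hy)) x hx
      by_contra hcon
      push Not at hcon
      exact hSR (huniq R hR e he h1 hcon)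
    by_cases h1 : Q = R
    · subst h1
      exact hRc Q' hQ' hne.symm hQ'V
    by_cases h2 : Q' = R
    · subst h2
      exact fun x hx y hy => (hRc Q hQ hne hQV y hy x hx).symm
    refine ih (Nat.card ↥(V ⊓ centralizer (R : Set W))) ?_ _ rfl ?_ Q Q' hQ hQ' hne
      (le_inf hQV fun y hy x hx => hRc Q hQ h1 hQV x hx y hy)
      (le_inf hQ'V fun y hy x hx => hRc Q' hQ' h2 hQ'V x hx y hy)
    · rw [← hk]
      refine card_lt' (lt_of_le_of_ne inf_le_left fun h => ?_)
      obtain ⟨u, hu, v, hv, huv⟩ := (hQ8 R hR).conj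
      have h4 : u * v = v * u := (h.ge ((hD v).1 (hRD hv)).1).2 u hu
      rw [h4] at huv
      exact hz1 (by simpa using huv)
    · intro e he x hx
      refine ⟨hV e he x hx.1, fun y hy => ?_⟩
      simpa using congrArg e (hx.2 _ (hBinv R hR _ (inv_mem he) y hy))
  have hpair' : ∀ Q Q', Big Q → Big Q' → Q ≠ Q' → ∀ x ∈ Q, ∀ y ∈ Q', x * y = y * x :=
    fun Q Q' h1 h2 h3 => hpair _ ⊤ rfl (fun _ _ _ _ => mem_top _) Q Q' h1 h2 h3 le_top le_top
  -- the quotient by `z` is elementary abelian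
  have hsq : ∀ Q, Big Q → ∀ x ∈ Q, π x * π x = 1 := by
    intro Q hQ x hx
    rw [← map_mul]
    exact (QuotientGroup.eq_one_iff _).2 ((hZ _).2 ((hQ8 Q hQ).sq_or x hx))
  have hπz : π z = 1 := (QuotientGroup.eq_one_iff _).2 (mem_zpowers z)
  have hqc : ∀ x y : W, π x * π y = π y * π x := by
    intro x y
    refine (mem_center_iff.1 (hG' (Y := (center _).comap π) (by
      rw [mem_comap, hπz]; exact one_mem _) (fun Q hQ u hu => ?_) y) (π x))
    rw [mem_comap, mem_center_iff]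
    intro w
    obtain ⟨w, rfl⟩ := QuotientGroup.mk'_surjective _ w
    refine mem_centralizer_singleton_iff.1 (hG' (Y := (centralizer {π u}).comap π) (by
      rw [mem_comap, hπz]; exact one_mem _) (fun R hR v hv => ?_) w)
    rw [mem_comap, mem_centralizer_singleton_iff]
    by_cases h : R = Q
    · subst h
      have h1 := hsq R hR u hu
      have h2 := hsq R hR v hv
      have h4 := hsq R hR _ (mul_mem hu hv)
      rw [map_mul] at h4
      rw [← inv_eq_of_mul_eq_one_right h4, mul_inv_rev, inv_eq_of_mul_eq_one_right h1,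
        inv_eq_of_mul_eq_one_right h2]
    · rw [← map_mul, ← map_mul, hpair' R Q hR hQ h v hv u hu]
  have hcz : commutator W = zpowers z := by
    apply le_antisymm
    · rw [_root_.commutator_def, commutator_le]
      intro x _ y _
      rw [← QuotientGroup.eq_one_iff]
      show π ⁅x, y⁆ = 1
      rw [map_commutatorElement, commutatorElement_eq_one_iff_mul_comm]
      exact hqc x y
    · obtain ⟨u, hu, v, hv, huv⟩ := hz.conj
      rw [zpowers_le, show z = ⁅u, v⁆ by rw [commutatorElement_def, huv]; simp]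
      exact commutator_mem_commutator (mem_top _) (mem_top _)
  have hfr : frattini W = zpowers z := by
    refine le_antisymm ((H3.frattini_le_iff hW).2 ⟨hcz.le, fun x => ?_⟩)
      (hcz ▸ H3.commutator_le_frattini hW)
    let Y : Subgroup W :=
      { carrier := {x | π x * π x = 1}
        one_mem' := by simp
        mul_mem' := fun {a b} ha hb => by
          have ha' : π a * π a = 1 := ha
          have hb' : π b * π b = 1 := hb
          show π (a * b) * π (a * b) = 1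
          rw [map_mul, mul_assoc, ← mul_assoc (π b), hqc b a, mul_assoc, hb', mul_one, ha']
        inv_mem' := fun {a} ha => by
          have ha' : π a * π a = 1 := ha
          show π a⁻¹ * π a⁻¹ = 1
          rw [map_inv, ← mul_inv_rev, ha', inv_one] }
    have h1 : π x * π x = 1 := hG' (Y := Y) (show π z * π z = 1 by rw [hπz, one_mul])
      (fun Q hQ y hy => hsq Q hQ y hy) x
    rw [← map_mul] at h1
    rw [pow_two]
    exact (QuotientGroup.eq_one_iff _).1 h1
  -- counting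
  let 𝒬 : Finset (Subgroup W) := (Set.toFinite {Q | Big Q}).toFinset
  have h𝒬 : ∀ Q, Q ∈ 𝒬 ↔ Big Q := fun Q => by simp [𝒬]
  have hcount : ∀ S : Finset (Subgroup W), S ⊆ 𝒬 →
      Nat.card ↥(zpowers z ⊔ S.sup id) = 2 * 4 ^ S.card := by
    intro S
    induction S using Finset.induction_on with
    | empty => intro _; simp [Nat.card_zpowers, hz.ord]
    | insert Q S hQS ih =>
      intro hS
      have hQ : Big Q := (h𝒬 Q).1 (hS (Finset.mem_insert_self _ _))
      have h1 := ih ((Finset.subset_insert _ _).trans hS)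
      have hc : zpowers z ⊔ S.sup id ≤ centralizer (Q : Set W) := by
        refine sup_le (hZc.trans (center_le_centralizer _)) (Finset.sup_le fun R hR y hy x hx => ?_)
        exact hpair' Q R hQ ((h𝒬 R).1 (hS (Finset.mem_insert_of_mem hR)))
          (fun h => hQS (h ▸ hR)) x hx y hy
      have h2 := H21.card_sup_mul_card_inf' (hc.trans (centralizer_le_normalizer _))
      have h4 : (zpowers z ⊔ S.sup id) ⊓ Q = zpowers z := by
        refine le_antisymm (fun x hx => (hZ x).2 ((hQ8 Q hQ).cent x hx.2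
          (fun y hy => (hc hx.1 y hy).symm))) (le_inf le_sup_left (zpowers_le.2 (hQ8 Q hQ).mem))
      rw [h4, h1, Nat.card_zpowers, hz.ord, (hQ8 Q hQ).card] at h2
      rw [Finset.sup_insert, Finset.card_insert_of_notMem hQS, id, sup_comm Q, ← sup_assoc, pow_succ]
      omega
  have hW' : Nat.card W = 2 * 4 ^ 𝒬.card := by
    have : zpowers z ⊔ 𝒬.sup id = ⊤ := by
      rw [eq_top_iff]
      intro x _
      exact hG' (le_sup_left (a := zpowers z) (mem_zpowers z))
        (fun Q hQ => (Finset.le_sup (f := id) ((h𝒬 Q).2 hQ)).trans le_sup_right) x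
    rw [← hcount 𝒬 subset_rfl, this, card_top]
  have hker : ∀ Q (h : Big Q) (a : E), a ∈ (res E Q (hBinv Q h)).ker ↔ Q ≤ Fx a := by
    intro Q h a
    rw [MonoidHom.mem_ker]
    exact ⟨fun h1 x hx => congrArg Subtype.val (DFunLike.congr_fun h1 (⟨x, hx⟩ : Q)),
      fun h1 => MulEquiv.ext fun x => Subtype.ext (h1 x.2)⟩
  have hnc3 : Nat.card E ≠ 1 ∧ Nat.card E ≠ 3 := by
    constructor
    · intro h
      haveI : Subsingleton E := (Nat.card_eq_one_iff_unique.1 h).1
      exact hnc inferInstance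
    · intro h
      exact hnc (isCyclic_of_prime_card h)
  obtain ⟨Q₂, hQ₂, hne⟩ : ∃ Q, Big Q ∧ Q ≠ Q₁ := by
    by_contra hcon
    push Not at hcon
    have h1 : ∀ x, x ∈ Q₁ := hG' hz.mem (fun Q hQ => (hcon Q hQ).le)
    have h2 : (res E Q₁ (hBinv Q₁ hQ₁)).ker = ⊥ := by
      rw [eq_bot_iff]
      intro a ha
      rw [hker _ hQ₁] at ha
      exact mem_bot.2 (Subtype.ext (MulEquiv.ext fun x => ha (h1 x)))
    have h4 := (hloc Q₁ hQ₁).2.2
    rw [h2, index_bot] at h4
    exact hnc3.2 h4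
  have hE9 : Nat.card E = 9 := by
    have h1 : (res E Q₁ (hBinv Q₁ hQ₁)).ker ⊓ (res E Q₂ (hBinv Q₂ hQ₂)).ker = ⊥ := by
      rw [eq_bot_iff]
      intro a ha
      by_contra h
      have h' : (a : MulAut W) ≠ 1 := fun e => h (mem_bot.2 (Subtype.ext e))
      exact hne ((huniq Q₂ hQ₂ a a.2 h' ((hker _ hQ₂ a).1 ha.2)).symm.trans
        (huniq Q₁ hQ₁ a a.2 h' ((hker _ hQ₁ a).1 ha.1)))
    have h2 := index_inf_le (H := (res E Q₁ (hBinv Q₁ hQ₁)).ker) (K := (res E Q₂ (hBinv Q₂ hQ₂)).ker)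
    rw [h1, index_bot, (hloc Q₁ hQ₁).2.2, (hloc Q₂ hQ₂).2.2] at h2
    obtain ⟨k, hk⟩ := IsPGroup.iff_card.1 hE
    rw [hk] at h2 hnc3 ⊢
    exact pow3 h2 hnc3
  have hq2 : 2 ≤ 𝒬.card :=
    Finset.one_lt_card.2 ⟨Q₂, (h𝒬 _).2 hQ₂, Q₁, (h𝒬 _).2 hQ₁, hne⟩
  have hq4 : 𝒬.card ≤ 4 := by
    haveI : Fintype E := Fintype.ofFinite _
    let s : Finset E := Finset.univ.filter (fun a => a ≠ 1 ∧ Big (Fx a))
    have h1 : s.card ≤ 8 := by
      have h2 : s ⊆ Finset.univ.erase 1 := fun a ha =>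
        Finset.mem_erase.2 ⟨(Finset.mem_filter.1 ha).2.1, Finset.mem_univ _⟩
      have h4 := Finset.card_le_card h2
      rw [Finset.card_erase_of_mem (Finset.mem_univ _), Finset.card_univ, ← Nat.card_eq_fintype_card,
        hE9] at h4
      exact h4
    have h2 : 2 * 𝒬.card ≤ s.card := by
      refine Finset.mul_card_image_le_card_of_maps_to (f := fun a : E => Fx (a : MulAut W))
        (fun a ha => (h𝒬 _).2 (Finset.mem_filter.1 ha).2.2) 2 (fun Q hQ => ?_)
      obtain ⟨⟨e, he, h4, rfl⟩, h5⟩ := (h𝒬 _).1 hQ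
      have h6 := Fx_inv e
      refine Finset.one_lt_card.2 ⟨⟨e, he⟩, ?_, ⟨e, he⟩⁻¹, ?_, ?_⟩
      · simp only [s, Finset.mem_filter, Finset.mem_univ, true_and, and_true]
        exact ⟨fun h => h4 (congrArg Subtype.val h), (h𝒬 _).1 hQ⟩
      · simp only [s, Finset.mem_filter, Finset.mem_univ, true_and, Subgroup.coe_inv, h6, and_true]
        exact ⟨fun h => h4 (congrArg Subtype.val (inv_eq_one.1 h)), (h𝒬 _).1 hQ⟩
      · intro h
        have h7 : (⟨e, he⟩ : E) ^ 2 = 1 := by rw [pow_two]; nth_rewrite 1 [h]; simp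
        obtain ⟨k, hk⟩ := hE.exists_orderOf_eq_pow ⟨e, he⟩
        have h8 := orderOf_dvd_of_pow_eq_one h7
        have h9 : orderOf (⟨e, he⟩ : E) = 1 := by
          rw [hk] at h8 ⊢
          exact Nat.Coprime.eq_one_of_dvd (Nat.Coprime.pow_left _ (by norm_num)) h8
        exact h4 (congrArg Subtype.val (orderOf_eq_one_iff.1 h9))
    omega
  refine ⟨hE9, ⟨⟨hW, hfr.trans hcenter.symm, hcz.trans hcenter.symm⟩, ?_⟩, ?_, ?_⟩
  · rw [hcenter, Nat.card_zpowers, hz.ord]
  · rw [hW']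
    generalize 𝒬.card = m at hq2 hq4
    interval_cases m <;> norm_num
  · ext x
    rw [hcenter]
    refine ⟨fun h => hCZ ((hC x).2 h), fun h => ?_⟩
    rcases (hZ x).1 h with rfl | rfl
    · exact fun e _ => map_one e
    · exact hzC

end Cfsg.Agent.S2934
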