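import Cfsg.Statements.S2937
import Cfsg.Agent.H38.ChevS
import Cfsg.Agent.H44.Components

set_option autoImplicit false
open Cfsg

namespace Cfsg.Agent.S2937

/-- Let X be a finite p-minimal group whose generalized Fitting subgroup K = F*(X) is a simple group of Lie type in characteristic p, and let U be a Sylow p-subgroup of K. Then N_X(U) is a maximal subgroup of X, and either K has Lie rank one (K ≅ PSL₂(pᵉ), PSU₃(pᵉ), a Suzuki group for p = 2, or a Ree group or PSL₂(8) for p = 3), or p = 2, K ≠ X and K is isomorphic to PSL₃(2ᵉ) or to PSp₄(2ᵉ) (e ≥ 2) or to the alternating group of degree 6. -/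
theorem result {X : Type*} [Group X] [Finite X] {p : ℕ} [Fact p.Prime] (hX : Cfsg.IsPMinimal p X) (hK : Cfsg.IsChevSimple p ↥(Cfsg.generalizedFittingSubgroup X)) (U : Sylow p ↥(Cfsg.generalizedFittingSubgroup X)) : IsCoatom (Subgroup.normalizer (((U : Subgroup ↥(Cfsg.generalizedFittingSubgroup X)).map (Cfsg.generalizedFittingSubgroup X).subtype : Subgroup X) : Set X)) ∧ (Cfsg.IsLieRankOneChar p ↥(Cfsg.generalizedFittingSubgroup X) ∨ (p = 2 ∧ Cfsg.generalizedFittingSubgroup X ≠ ⊤ ∧ ((∃ (F : Type) (_ : Field F) (_ : Fintype F) (_ : CharP F 2), Nonempty (↥(Cfsg.generalizedFittingSubgroup X) ≃* Matrix.ProjectiveSpecialLinearGroup (Fin 3) F)) ∨ (∃ (F : Type) (_ : Field F) (_ : Fintype F) (_ : CharP F 2), 4 ≤ Fintype.card F ∧ Nonempty (↥(Cfsg.generalizedFittingSubgroup X) ≃* Cfsg.PSp 2 F)) ∨ Nonempty (↥(Cfsg.generalizedFittingSubgroup X) ≃* ↥(alternatingGroup (Fin 6)))))) := by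
  have := H44.gfitting_normal (G := X)
  generalize Cfsg.generalizedFittingSubgroup X = Y at *
  have := H38.simple_of_chev hK
  rcases H38.chev_cases hK with h | ⟨rfl, G, _, _, I, T, L, ι, h, hι, hL, h1⟩ | ⟨rfl, h⟩
  · obtain ⟨I, T, h1, _, -, h2⟩ := (H38.lie0_of h).exists_sylow U
    obtain ⟨h3, h4, h5, h6⟩ := T.pMinimal hX U h1
    refine ⟨h3, (h2.resolve_right h4).imp_right ?_⟩
    rintro (h | ⟨h, h7⟩)
    · omega
    · exact ⟨(h6 h).1, (h6 h).2, (h7 (h6 h).1).imp_right .inl⟩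
  · obtain ⟨ι, hι, hL, h2⟩ := h.exists_sylow hL hι U
    obtain ⟨h3, h4, α, h5⟩ := h.pMinimal hX hι hL U h2
    refine ⟨h3, .inr ⟨rfl, h4, .inr (.inr (h1.resolve_right ?_))⟩⟩
    rintro ⟨-, i, h6⟩
    obtain ⟨j, hj, h7⟩ := h5 i
    exact hj (h6 ι α j hι hL h7).symm
  · refine ⟨?_, .inl (.inr (.inr (.inr ⟨rfl, .inr h⟩)))⟩
    obtain ⟨F, _, _, hF, ⟨e⟩⟩ := h
    obtain ⟨h1, h2⟩ := H38.L28_le hF e U
    obtain ⟨A, L, -, -, h3, h4, -, -, h5⟩ := H38.exists_max_of_pMinimal hX U fun e' => by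
      have h3 := (Subgroup.normalizer_eq_top_iff.1 e').eq_bot_or_eq_top.resolve_left h1
      obtain ⟨k, hk⟩ := U.2.exists_card_eq
      rw [h3, Subgroup.card_top, Nat.card_congr e.toEquiv] at hk
      have h4 := H9.gcd_mul_card_psl_two (F := F)
      rw [hF, hk] at h4
      exact absurd (Nat.prime_two.dvd_of_dvd_pow (m := 3) (n := k) ⟨252, by simpa using h4⟩) (by decide)
    exact h5 (le_antisymm (h2 L h3 (Subgroup.le_normalizer.trans h4)) h4)

end Cfsg.Agent.S2937
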