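import Cfsg.Statements.S2962
import Cfsg.Agent.S0205
import Cfsg.Agent.H43.ZW
import Cfsg.Agent.H4.Basic
import Cfsg.Agent.H22.Core

set_option autoImplicit false
set_option linter.style.haveILetI false
open Cfsg

namespace Cfsg.Agent.S2962

open Subgroup Pointwise

theorem wc_of_commute {G : Type*} [Group G] [Finite G] {p : ℕ} [Fact p.Prime] {t : G}
    (ht : IsPGroup p (zpowers t))
    (h : ∀ g : G, Commute t (g * t * g⁻¹) → g * t * g⁻¹ = t) : H43.WC p t := by
  refine ⟨ht, fun P hP htP g hg => h g ?_⟩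
  have h1 : P ≤ centralizer ({t} : Set G) := by
    by_contra h1
    have h2 : P ⊓ centralizer ({t} : Set G) < P := inf_lt_left.2 h1
    obtain ⟨x, hx, hx'⟩ := SetLike.exists_of_lt (H4.lt_inf_normalizer hP h2)
    have h3 := (mem_normalizer_iff.1 hx.2 t).1 (mem_inf.2 ⟨htP, mem_centralizer_singleton_iff.2 rfl⟩)
    have h4 := h x (mem_centralizer_singleton_iff.1 h3.2).symm
    exact hx' (mem_inf.2 ⟨hx.1, mem_centralizer_singleton_iff.2 (mul_inv_eq_iff_eq_mul.1 h4)⟩)
  exact (mem_centralizer_singleton_iff.1 (h1 hg)).symm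


/-- Let G be a finite group with G = QN, where N is a normal subgroup of G and Q is a non-abelian 2-subgroup with Q ∩ N = 1. Suppose that some nontrivial element t of Z(Q) ∩ [Q, Q] satisfies C_N(Q) = C_N(t). Then [N, Q] is solvable of odd order. -/
theorem result {G : Type*} [Group G] [Finite G] (N Q : Subgroup G) [N.Normal] (hG : Q ⊔ N = ⊤) (hQ : IsPGroup 2 ↥Q) (hQna : ¬ IsMulCommutative ↥Q) (hdisj : Q ⊓ N = ⊥) (t : G) (ht1 : t ≠ 1) (htZ : t ∈ Q ⊓ Subgroup.centralizer (Q : Set G)) (htQ : t ∈ ⁅Q, Q⁆) (hC : N ⊓ Subgroup.centralizer (Q : Set G) = N ⊓ Subgroup.centralizer ({t} : Set G)) : Group.IsSolvable ↥⁅N, Q⁆ ∧ Odd (Nat.card ↥⁅N, Q⁆) := by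
  haveI : Fact (Nat.Prime 2) := ⟨Nat.prime_two⟩
  have hNn : N.Normal := inferInstance
  have hC' : ∀ u ∈ N, Commute t u → ∀ q ∈ Q, Commute q u := by
    intro u hu htu q hq
    have : u ∈ N ⊓ centralizer (Q : Set G) :=
      hC ▸ mem_inf.2 ⟨hu, mem_centralizer_singleton_iff.2 htu.symm⟩
    exact this.2 q hq
  have hQt : ∀ q ∈ Q, Commute q t := fun q hq => htZ.2 q hq
  have hconj : ∀ (n a b : G), Commute a (n⁻¹ * b * n) → Commute (n * a * n⁻¹) b := by
    intro n a b h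
    have := h.map (MulAut.conj n)
    simpa [mul_assoc] using this
  have hwc : H43.WC 2 t := by
    refine wc_of_commute (hQ.to_le (zpowers_le.2 htZ.1)) fun g hg => ?_
    have hg' : g ∈ ((N ⊔ Q : Subgroup G) : Set G) := by rw [sup_comm, hG]; trivial
    rw [normal_mul] at hg'
    obtain ⟨n, hn, q, hq, rfl⟩ := hg'
    have h1 : n * q * t * (n * q)⁻¹ = n * t * n⁻¹ := by
      rw [mul_assoc n q t, (hQt q hq).eq]; group
    simp only at hg ⊢
    rw [h1] at hg ⊢
    have hcn : ∀ a : G, n * a * n⁻¹ * a⁻¹ ∈ N := fun a => by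
      simpa [mul_assoc] using mul_mem hn (hNn.conj_mem _ (inv_mem hn) a)
    -- elements of `N` commuting with `n t n⁻¹` commute with `n Q n⁻¹`
    have hC'' : ∀ u ∈ N, Commute (n * t * n⁻¹) u → ∀ q ∈ Q, Commute (n * q * n⁻¹) u := by
      intro u hu htu q hq
      refine hconj _ _ _ (hC' _ (hNn.conj_mem' u hu n) ?_ q hq)
      have := hconj n⁻¹ (n * t * n⁻¹) (n⁻¹ * u * n) (by simpa [mul_assoc] using htu)
      simpa [mul_assoc] using this
    have hu1 : Commute t (n * t * n⁻¹ * t⁻¹) := hg.mul_right (Commute.refl t).inv_right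
    have hu2 : Commute (n * t * n⁻¹) (n * t * n⁻¹ * t⁻¹) :=
      (Commute.refl _).mul_right hg.symm.inv_right
    have h2 : ∀ a ∈ Q, Commute (n * a * n⁻¹) (n * t * n⁻¹) := fun a ha =>
      hconj _ _ _ (by simpa [mul_assoc] using hQt a ha)
    have h3 : ∀ a ∈ Q, Commute (n * a * n⁻¹) t := fun a ha => by
      have := (hC'' _ (hcn t) hu2 a ha).inv_right.mul_right (h2 a ha)
      simpa [mul_assoc] using this
    have h4 : ∀ a ∈ Q, Commute a (n * t * n⁻¹) := fun a ha => by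
      have := (hC' _ (hcn t) hu1 a ha).mul_right (hQt a ha)
      simpa [mul_assoc] using this
    have h5 : ∀ a ∈ Q, ∀ b ∈ Q, Commute b (n * a * n⁻¹ * a⁻¹) := fun a ha =>
      hC' _ (hcn a) ((h3 a ha).symm.mul_right (hQt a ha).symm.inv_right)
    have h6 : ∀ a ∈ Q, ∀ b ∈ Q, Commute (n * b * n⁻¹) (n * a * n⁻¹ * a⁻¹) := fun a ha =>
      hC'' _ (hcn a) ((h2 a ha).symm.mul_right (h4 a ha).symm.inv_right)
    have h7 : ⁅Q, Q⁆ ≤ centralizer ({n} : Set G) := by
      refine commutator_le.2 fun a ha b hb => ?_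
      rw [mem_centralizer_singleton_iff, commutatorElement_def]
      set e := n * a * n⁻¹ * a⁻¹ with he
      set f := n * b * n⁻¹ * b⁻¹ with hf
      have e1 : n * a * n⁻¹ = e * a := by rw [he]; group
      have e2 : n * b * n⁻¹ = f * b := by rw [hf]; group
      have c1 : Commute (f * b) e := e2 ▸ h6 a ha b hb
      have c2 : Commute a e := h5 a ha a ha
      have c3 : Commute a f := h5 b hb a ha
      have c4 : Commute b f := h5 b hb b hb
      have : n * (a * b * a⁻¹ * b⁻¹) * n⁻¹ = a * b * a⁻¹ * b⁻¹ := by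
        calc n * (a * b * a⁻¹ * b⁻¹) * n⁻¹
            = (n * a * n⁻¹) * (n * b * n⁻¹) * (n * a * n⁻¹)⁻¹ * (n * b * n⁻¹)⁻¹ := by group
          _ = (e * a) * (f * b) * (e * a)⁻¹ * (f * b)⁻¹ := by rw [e1, e2]
          _ = a * (e * (f * b) * e⁻¹) * a⁻¹ * (f * b)⁻¹ := by rw [← c2.eq]; group
          _ = a * (f * b) * a⁻¹ * (f * b)⁻¹ := by rw [← c1.eq]; group
          _ = a * b * (f * a⁻¹) * (b * f)⁻¹ := by rw [← c4.eq]; group
          _ = _ := by rw [← c3.inv_left.eq]; group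
      exact (mul_inv_eq_iff_eq_mul.1 this).symm
    rw [← mem_centralizer_singleton_iff.1 (h7 htQ), mul_inv_cancel_right]
  have hON : pPrimeCore 2 G ≤ N := by
    intro o ho
    have ho' : o ∈ ((N ⊔ Q : Subgroup G) : Set G) := by rw [sup_comm, hG]; trivial
    rw [normal_mul] at ho'
    obtain ⟨n, hn, q, hq, rfl⟩ := ho'
    obtain ⟨k, hk⟩ := hQ ⟨q, hq⟩
    have hk' : q ^ 2 ^ k = 1 := congrArg Subtype.val hk
    have h1 : (QuotientGroup.mk' N (n * q)) ^ 2 ^ k = 1 := by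
      rw [map_mul, QuotientGroup.mk'_apply, (QuotientGroup.eq_one_iff n).2 hn, one_mul, ← map_pow,
        hk', map_one]
    have h2 : (QuotientGroup.mk' N (n * q)) ^ Nat.card (pPrimeCore 2 G) = 1 := by
      have : (n * q) ^ Nat.card (pPrimeCore 2 G) = 1 :=
        congrArg Subtype.val (pow_card_eq_one' (x := (⟨_, ho⟩ : pPrimeCore 2 G)))
      rw [← map_pow, this, map_one]
    have h3 := pow_gcd_eq_one.2 ⟨h1, h2⟩
    rw [((H22.coprime_card_pPrimeCore (p := 2) (G := G)).pow_right k).symm.gcd_eq_one,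
      pow_one] at h3
    exact (QuotientGroup.eq_one_iff _).1 h3
  have hle : ⁅N, Q⁆ ≤ pPrimeCore 2 G := by
    refine commutator_le.2 fun n hn q hq => ?_
    obtain ⟨o, ho, c, hc, rfl⟩ := H43.exists_oddCore_mul_centralizer (Z := zpowers t) hwc.isP (by
      intro a ha
      obtain ⟨k, rfl⟩ := mem_powers_iff_mem_zpowers.2 ha
      exact hwc.pow k) n
    have h1 := hC' c ((mul_mem_cancel_left (hON ho)).1 hn) (hc t (mem_zpowers t)) q hq
    have : o * c * q * (o * c)⁻¹ * q⁻¹ = o * (q * o⁻¹ * q⁻¹) := by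
      rw [mul_assoc o c q, ← h1.eq]; group
    rw [commutatorElement_def, this]
    exact mul_mem ho ((inferInstance : (pPrimeCore 2 G).Normal).conj_mem _ (inv_mem ho) q)
  have hodd : Odd (Nat.card ↥⁅N, Q⁆) := Nat.coprime_two_right.1
    (Nat.Coprime.coprime_dvd_left (card_dvd_of_le hle) H22.coprime_card_pPrimeCore)
  exact ⟨S0205.result hodd, hodd⟩

end Cfsg.Agent.S2962
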