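import Cfsg.Statements.S2981
import Cfsg.Agent.H72.CSS

set_option autoImplicit false
open Cfsg

namespace Cfsg.Agent.S2981

open Subgroup Cfsg.Agent.H92 Cfsg.Agent.H70 Cfsg.Agent.H72

/-- The local C**(G,T)-Theorem for minimal parabolic groups. Let G be a finite p-minimal group (a Sylow p-subgroup T is not normal and lies in exactly one maximal subgroup) of characteristic p (C_G(O_p(G)) ≤ O_p(G)), and suppose G ≠ C**(G,T), the subgroup generated by C_G(Ω₁(Z(T))) and N_G(J(T)) (J(T) generated by the elementary abelian p-subgroups of T of largest order). Put V = Ω₁(Z(O_p(G))) and C = C_G(V). Then there are subgroups E₁, …, E_r of G containing C such that: J(G)TC = G and the E_i C/C form an internal direct product equal to J(G)C/C; any two of the E_i are conjugate by an element of T; V = C_V(⟨E_i⟩)·∏[V, E_i] with [V, E_i, E_j] = 1 for i ≠ j; for some n ≥ 1, each E_i/C is isomorphic to SL₂(pⁿ), or p = 2 and to the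 symmetric group of degree 2ⁿ + 1; and E_i acts on [V, E_i]/C_{[V,E_i]}(E_i) as the natural two-dimensional SL₂(pⁿ)-module, respectively as the symmetric group of degree 2ⁿ+1 on its even-weight permutation module. -/
theorem result {G : Type*} [Group G] [Finite G] {p : ℕ} [Fact p.Prime] (hmin : Cfsg.IsPMinimal p G) (hG : Subgroup.centralizer (Cfsg.pCore p G : Set G) ≤ Cfsg.pCore p G) (T : Sylow p G) (hne : Cfsg.cStarStarOf p (T : Subgroup G) ≠ ⊤) : ∃ (r : ℕ) (E : Fin r → Subgroup G), (∀ i, Subgroup.centralizer (Cfsg.omegaOneCenter p (Cfsg.pCore p G) : Set G) ≤ E i) ∧ Cfsg.thompsonSubgroup p G ⊔ (T : Subgroup G) ⊔ Subgroup.centralizer (Cfsg.omegaOneCenter p (Cfsg.pCore p G) : Set G) = ⊤ ∧ (⨆ i, E i) = Cfsg.thompsonSubgroup p G ⊔ Subgroup.centralizer (Cfsg.omegaOneCenter p (Cfsg.pCore p G) : Set G) ∧ (∀ i j, i ≠ j → ⁅E i, E j⁆ ≤ Subgroup.centralizer (Cfsg.omegaOneCenter p (Cfsg.pCore p G) : Set G)) ∧ (∀ i, E i ⊓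 (⨆ j ∈ {j | j ≠ i}, E j) ≤ Subgroup.centralizer (Cfsg.omegaOneCenter p (Cfsg.pCore p G) : Set G)) ∧ (∀ i j, ∃ t ∈ (T : Subgroup G), (E i).map (MulAut.conj t).toMonoidHom = E j) ∧ (Cfsg.omegaOneCenter p (Cfsg.pCore p G) ⊓ Subgroup.centralizer ((⨆ i, E i : Subgroup G) : Set G)) ⊔ (⨆ i, ⁅Cfsg.omegaOneCenter p (Cfsg.pCore p G), E i⁆) = Cfsg.omegaOneCenter p (Cfsg.pCore p G) ∧ (∀ i j, i ≠ j → ⁅⁅Cfsg.omegaOneCenter p (Cfsg.pCore p G), E i⁆, E j⁆ = ⊥) ∧ ∀ i, ∃ n : ℕ, 1 ≤ n ∧ ((∃ (F : Type) (_ : Field F) (_ : Fintype F), Fintype.card F = p ^ n ∧ (∃ _ : ((Subgroup.centralizer (Cfsg.omegaOneCenter p (Cfsg.pCore p G) : Set G)).subgroupOf (E i)).Normal, Nonempty (↥(E i) ⧸ (Subgroup.centralizer (Cfsg.omegaOneCenter p (Cfsg.pCore p G) : Set G)).subgroupOf (E i) ≃* Matrix.SpecialLinearGroup (Fin 2) F)) ∧ Cfsg.ActsAsSL2OnSection F ⊤ (E i) ⁅Cfsg.omegaOneCenter p (Cfsg.pCore p G), E i⁆ (⁅Cfsg.omegaOneCenter p (Cfsg.pCore p G),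 E i⁆ ⊓ Subgroup.centralizer ((E i : Subgroup G) : Set G))) ∨ (p = 2 ∧ (∃ _ : ((Subgroup.centralizer (Cfsg.omegaOneCenter p (Cfsg.pCore p G) : Set G)).subgroupOf (E i)).Normal, Nonempty (↥(E i) ⧸ (Subgroup.centralizer (Cfsg.omegaOneCenter p (Cfsg.pCore p G) : Set G)).subgroupOf (E i) ≃* Equiv.Perm (Fin (2 ^ n + 1)))) ∧ Cfsg.ActsAsOddPermModuleOnSection (2 ^ n + 1) ⊤ (E i) ⁅Cfsg.omegaOneCenter p (Cfsg.pCore p G), E i⁆ (⁅Cfsg.omegaOneCenter p (Cfsg.pCore p G), E i⁆ ⊓ Subgroup.centralizer ((E i : Subgroup G) : Set G)))) := by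
  have hT := sylIn_top T
  obtain ⟨M, hM⟩ := exists_minOver_of_isPMinimal hmin T
  have hle := hM.uniq _ (le_sup_of_le_left (le_cent_oz _)) (lt_top_iff_ne_top.2 hne)
  set V := omegaOneCenter p (pCore p G) with hVd
  have hV : IsElementaryAbelian p V := oz_isElem _
  have hn : ⊤ ≤ normalizer (V : Set G) := norm_oz norm_of_normal
  obtain ⟨Γ, _, _, W, _, _, _, π, ι, hπ, hp, hf, h⟩ := exists_br_quot hV hn
  have hk := h.ker_eq hf
  have h1 : omegaOneCenter p (T : Subgroup G) ≤ V := by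
    have := (isChar_top_iff.2 hG).oz_le_oz hT
    rwa [pCoreOf_top] at this
  have hVT : V ≤ T := (oz_le _).trans (pCoreOf_top.ge.trans (pCoreOf_le_sylIn hT))
  have hF := h.ff hπ hp hf hT hM (oz_le_cent _) h1 (le_sup_left.trans hle)
  obtain ⟨A, H, K, o, -, hJ⟩ := h.exists_out hV hVT hF fun hJ => hM.lt.not_ge
    ((top_le_norm_J hT ((le_inf (H21.thompsonSubgroupOf_le p _) hJ).trans
      (MinOver_inf_le_pCore hT hM ((cent_anti h1).trans (le_sup_left.trans hle))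
        (norm_centralizer hn)))).trans (le_sup_right.trans hle))
  have hJG := h.map_JG hπ hV hVT hF o ((le_ncl _ _).trans hJ.ge)
  obtain ⟨r, t, r1, ht, e, hc⟩ := o.exists_family
  choose s hs hst using ht
  have mc := map_comap_eq_self_of_surjective hπ
  have e1 : (⨆ i, (cj (t i) K).comap π).map π = ⨆ i, cj (t i) K := by
    simp only [Subgroup.map_iSup, mc]
  refine ⟨r, fun i => (cj (t i) K).comap π, fun i => hk.ge.trans (ker_le_comap _ _), ?_, ?_,
    fun i j hij => ?_, fun i => ?_, fun i j => ⟨_, mul_mem (hs j) (inv_mem (hs i)), ?_⟩, ?_,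
    fun i j hij => (h.prpI _ _).1 (by rw [mc, mc]; exact hc i j hij), fun i => ?_⟩
  · rw [← hk, ← comap_map_eq, Subgroup.map_sup, hJG, o.sup_eq hF, comap_top]
  · rw [← hk, ← comap_map_eq, hJG, ← o.ncl_eq, ← e, ← e1, comap_map_of_ker_le]
    exact le_iSup_of_le ⟨0, r1⟩ (ker_le_comap _ _)
  · rw [← hk, ← Subgroup.map_eq_bot_iff, map_commutator, mc, mc]
    exact comm_eq_bot_iff.2 (hf.comm (hc i j hij) (hc j i hij.symm))
  · rw [← hk, ← Subgroup.map_eq_bot_iff, eq_bot_iff, ← inf_iSup_eq_bot hf hc i (o.split_cj _)]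
    refine (map_inf_le _ _ _).trans ?_
    simp only [Subgroup.map_iSup, mc, le_refl]
  · refine (comap_map_of_ker_le π ?_).symm.trans ?_
    · exact le_cj_iff.2 ((cj_le_of_mem_norm (norm_of_normal (mem_top _)) le_rfl).trans
        (ker_le_comap _ _))
    · rw [map_cj, mc, map_mul, map_inv, hst, hst, ← cj_mul, inv_mul_cancel_right]
  · have := congrArg (toG ι) (fix_iSup_sup hc fun i => o.split_cj (t i))
    rw [← e1, toG_sup, h.fixI, h.toG_top, toG_iSup] at this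
    refine Eq.trans ?_ this
    congr 2
    ext1 i
    rw [← h.cmAI, mc]
  · obtain ⟨n, n1, hn⟩ := o.acts h Function.injective_id hf (t i) (mc _)
    rw [Subgroup.map_id] at hn
    exact ⟨n, n1, hn.imp (fun ⟨F, _, _, a, _, b, c⟩ => ⟨F, _, _, a, b, c⟩)
      fun ⟨a, _, b, c⟩ => ⟨a, b, c⟩⟩

end Cfsg.Agent.S2981
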