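import Cfsg.Statements.S2982
import Cfsg.Agent.H72.Deg

set_option autoImplicit false
open Cfsg

namespace Cfsg.Agent.S2982

open Subgroup Cfsg.Agent.H92 Cfsg.Agent.H70 Cfsg.Agent.H72

/-- Pushing up for minimal parabolic groups. Let G be a finite p-minimal group (a Sylow p-subgroup T is not normal and lies in exactly one maximal subgroup) of characteristic p (C_G(O_p(G)) ≤ O_p(G)). Suppose that no nontrivial characteristic subgroup of the Baumann subgroup B(T) is normal in G and that Ω₁(Z(T)) is not normal in G. Then G has a set of B(T)-blocks with the block structure of the local C*(G,T)-Theorem, every block E with E/O_p(E) alternating of degree 2m+1 (p = 2) has 2m+1 = 2ⁿ+1, and C*(G,T) = (C*(G,T) ∩ ⟨blocks⟩)·T. -/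
theorem result {G : Type*} [Group G] [Finite G] {p : ℕ} [Fact p.Prime] (hmin : Cfsg.IsPMinimal p G) (hG : Subgroup.centralizer (Cfsg.pCore p G : Set G) ≤ Cfsg.pCore p G) (T : Sylow p G) (hchar : ∀ C : Subgroup G, C ≤ Cfsg.baumannSubgroupOf p (T : Subgroup G) → C ≠ ⊥ → (C.subgroupOf (Cfsg.baumannSubgroupOf p (T : Subgroup G))).Characteristic → ¬ C.Normal) (hz : ¬ (Cfsg.omegaOneCenter p (T : Subgroup G)).Normal) : ∃ 𝓑 : Set (Subgroup G), Cfsg.HasBaumannBlockStructure p (T : Subgroup G) 𝓑 ∧ (∀ E ∈ 𝓑, ∀ m : ℕ, Nonempty (↥E ⧸ Cfsg.pCore p ↥E ≃* ↥(alternatingGroup (Fin (2 * m + 1)))) → ∃ n : ℕ, 2 * m + 1 = 2 ^ n + 1) ∧ Cfsg.cStarOf p (T : Subgroup G) = (Cfsg.cStarOf p (T : Subgroup G) ⊓ sSup 𝓑) ⊔ (T : Subgroup G) := by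
  have c := isChar_top_iff.2 hG
  have s := sylIn_top T
  have h0 := (hyp_iff c s).2 le_rfl
  obtain ⟨M, ⟨m1, m2⟩, m3⟩ := (hmin T).2
  have u : ∀ X : Subgroup G, (T : Subgroup G) ≤ X → X ≠ ⊤ → X ≤ M := fun X a b =>
    let ⟨N, c, d⟩ := (eq_top_or_exists_le_coatom X).resolve_left b
    m3 N ⟨c, a.trans d⟩ ▸ d
  have h : Hyp p (T : Subgroup G) M := ⟨c, s, (norm_of_cent le_rfl).trans
    (u _ (norm_oz le_normalizer) fun e => hz (normal_of_top_le_norm e.ge)), fun C h1 h2 =>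
      u _ (le_norm_bm.trans h1.norm) fun e => hchar C h1.1 h2 h1.2 (normal_of_top_le_norm e.ge)⟩
  obtain ⟨F, f0, f1, f2⟩ := h.bs m1.1
  obtain ⟨L, M₁, Y, D, T₀, K, _, _, k, a, -⟩ := h.exists_rk_blk f1 f2
  have r := rm (p := p) (le_top : (T : Subgroup G) ≤ ⊤)
  refine ⟨_, hasBS c s, fun E hE m ⟨e⟩ => h0.deg hE k (fun C h1 h2 => ?_) e, ?_⟩
  · have n : ⊤ ≤ normalizer (C : Set G) := (by_contra fun e => k.res_not_le h a
      ((norm_of_cent (cent_comm.1 h2)).trans (u _ (le_normalizer.trans h1.norm) e)) : _ = ⊤).ge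
    have t : centralizer (C : Set G) ⊔ T = ⊤ := by_contra fun e => k.res_not_le h a
      ((cent_comm.1 h2).trans (le_sup_left.trans (u _ le_sup_right e)))
    exact cent_comm.1 ((blk_iff.1 hE.2.1).1.res.ge.trans ((pRes_mono (le_top.trans t.ge)).trans
      (pRes_sup_le_of_isPGroup T.isPGroup' (le_top.trans (norm_centralizer n)))))
  · have t : (T : Subgroup G) ⊔ sSup (Bs p T ⊤ (cStarOf p (T : Subgroup G))) = ⊤ :=
      by_contra fun e => f2 ((le_sup_of_le_right (le_sSup (show F ∈ Bs p T ⊤ _ from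
        ⟨f0, f1, fun e' => f2 (e'.trans ((hyp_iff c s).1 h))⟩))).trans (u _ le_sup_left e))
    rw [sup_comm, inf_comm, ← sup_inf_of_norm (le_top.trans (r.norm h0 le_top)) h0.TM, t, top_inf_eq]

end Cfsg.Agent.S2982
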