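import Cfsg.Statements.S2989
import Cfsg.Agent.H69.GN6

set_option autoImplicit false
open Cfsg

namespace Cfsg.Agent.S2989

open Subgroup Cfsg.Agent.H69


/-- Let G be a finite group and S a Sylow p-subgroup of G in the basic pushing-up situation (G ≠ 1, C_G(O_p(G)) ≤ O_p(G), S lies in a unique maximal subgroup of G, and some quotient of G is isomorphic to PSL₂ over a field of order a power of p), and suppose that S centralizes Z(J(S)), where J(S) is generated by the abelian subgroups of S of largest order (that is, J̃(S) = C_S(Z(J(S))) = S). Call a subgroup R of S centrally large if |R|·|Z(R)| is as large as possible among subgroups of S, and let S_Φ be the subgroup generated by the Frattini subgroups Φ(Q) of those minimal centrally large subgroups Q of S whose Ω₁(Z(Q)) has the largest order among minimal centrally large subgroups. Then Z(S) or S_Φ is normal in G; and if S_Φ = 1, the minimal centrally large subgroups of S are exactly the abelian subgroups of S of largest order, and at least one of them is elementary abelian. -/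
theorem result {G : Type*} [Group G] [Finite G] {p : ℕ} [Fact p.Prime] (S : Subgroup G) (hE : Cfsg.IsPushingUpSituation p S) (hJ : S ≤ Subgroup.centralizer (Cfsg.centerThompsonAOf S : Set G)) : ((S ⊓ Subgroup.centralizer (S : Set G)).Normal ∨ ((Cfsg.frattiniOfMinimalCLJoin p ↥S).map S.subtype).Normal) ∧ (Cfsg.frattiniOfMinimalCLJoin p ↥S = ⊥ → (∀ Q : Subgroup ↥S, Cfsg.IsMinimalCentrallyLarge Q ↔ Q ∈ Cfsg.maxAbelianSubgroups ↥S) ∧ ∃ A ∈ Cfsg.maxAbelianSubgroups ↥S, Cfsg.IsElementaryAbelian p A) := by
  have hS : IsPGroup p S := let ⟨P, hP⟩ := hE.2.1; hP ▸ P.isPGroup'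
  rw [← sphi_top hS]
  refine ⟨or_iff_not_imp_left.2 fun e => ?_, fun e => ?_⟩
  · rw [H23.centerThompsonAOf_eq, H23.zj_eq_map_top, zj_top] at hJ
    obtain ⟨q, Q, M, v⟩ := (pe_of_situation S.subtype_injective (by rwa [range_subtype])).v0
      (top_le_iff.1 fun x _ => (mem_centralizer_map S.subtype_injective).1 (hJ x.2))
      (by rw [map_top_subtype]; exact fun e' => e (normal_of_le_centralizer_top e'))
    rw [map_SPhi S.subtype_injective]
    exact normalizer_eq_top_iff.1 (top_le_iff.1 v.norm_SPhi)
  · obtain ⟨R, h1, h2⟩ := exists_elem_of_sphi e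
    exact ⟨H72.mcl_iff_maxAb h1 h2.1, R, (H72.mcl_iff_maxAb h1 h2.1 R).1 h1, h2⟩

end Cfsg.Agent.S2989
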