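import Cfsg.Statements.S2990
import Cfsg.Agent.H69.GN6

set_option autoImplicit false
open Cfsg

namespace Cfsg.Agent.S2990

open Subgroup Cfsg.Agent.H69


/-- Let G be a finite group and S a Sylow p-subgroup of G in the basic pushing-up situation (G ≠ 1, C_G(O_p(G)) ≤ O_p(G), S lies in a unique maximal subgroup of G, and some quotient of G is isomorphic to PSL₂ over a field of order a power of p), and suppose that S centralizes Z(J(S)), where J(S) is generated by the abelian subgroups of S of largest order (that is, J̃(S) = C_S(Z(J(S))) = S). Call a subgroup R of S centrally large if |R|·|Z(R)| is as large as possible among subgroups of S, let Q be a minimal centrally large subgroup of S and let S_MCL be the subgroup generated by all minimal centrally large subgroups of S. Then the derived subgroup [Q, Q] is characteristic in S; Z(S) ∩ [Q, Q] or S_MCL is normal in G; and if [Q, Q] = 1, the minimal centrally large subgroups of S are exactly the abelian subgroups of S of largest order. -/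
theorem result {G : Type*} [Group G] [Finite G] {p : ℕ} [Fact p.Prime] (S : Subgroup G) (hE : Cfsg.IsPushingUpSituation p S) (hJ : S ≤ Subgroup.centralizer (Cfsg.centerThompsonAOf S : Set G)) (Q : Subgroup ↥S) (hQ : Cfsg.IsMinimalCentrallyLarge Q) : (⁅Q, Q⁆).Characteristic ∧ (((S ⊓ Subgroup.centralizer (S : Set G)) ⊓ (⁅Q, Q⁆).map S.subtype).Normal ∨ ((Cfsg.minimalCentrallyLargeJoin ↥S).map S.subtype).Normal) ∧ (⁅Q, Q⁆ = ⊥ → ∀ R : Subgroup ↥S, Cfsg.IsMinimalCentrallyLarge R ↔ R ∈ Cfsg.maxAbelianSubgroups ↥S) := by
  refine ⟨mcl_comm_char hQ, or_iff_not_imp_left.2 fun e => ?_,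
    fun e => H72.mcl_iff_maxAb hQ (commutator_self_eq_bot_iff.1 e)⟩
  rw [H23.centerThompsonAOf_eq, H23.zj_eq_map_top, zj_top] at hJ
  obtain ⟨q, T, M, v⟩ := (pe_of_situation S.subtype_injective (by rwa [range_subtype])).v0
    (top_le_iff.1 fun x _ => (mem_centralizer_map S.subtype_injective).1 (hJ x.2))
    (by rw [map_top_subtype]
        exact fun e' => e (normal_of_le_centralizer_top (inf_le_left.trans e')))
  rw [← smcl_top, map_SMcl S.subtype_injective]
  refine normalizer_eq_top_iff.1 (top_le_iff.1 ((v.mcl_cases
    ((mcl_map S.subtype_injective).2 (mcl_top.2 hQ))).resolve_left fun e' => e ?_))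
  rw [map_top_subtype, ← map_commutator] at e'
  exact normal_of_le_centralizer_top e'

end Cfsg.Agent.S2990
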