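import Cfsg.Statements.S3000
import Cfsg.Agent.H72.FFG

set_option autoImplicit false
open Cfsg

namespace Cfsg.Agent.S3000

open Subgroup Cfsg.Agent.H92 Cfsg.Agent.H70 Cfsg.Agent.H72

/-- Let p be a prime and let P and V be subgroups of a finite group with V elementary abelian, P normalizing V and acting faithfully on it (P ∩ C(V) = 1). Suppose P is p-minimal (a Sylow p-subgroup T of P is not normal and lies in a unique maximal subgroup M of P), O_p(P) = 1, C_P(C_V(T)) ≤ M, and P has a best offender on V: a subgroup A not centralizing V, with A/C_A(V) elementary abelian, such that |B|·|C_V(B)| ≤ |A|·|C_V(A)| for every subgroup B of A. Then there are subgroups E₁, …, E_r of P (r ≥ 1), pairwise commuting and forming with T a product P = (E₁ × ⋯ × E_r)T (internal direct product of the E_i), any two of which are conjugate by an element of T, such that V = C_V(E₁⋯E_r)·∏[V, E_i] with [V, E_i, E_j] = 1 for i ≠ j, and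 for each i there is n ≥ 1 with either E_i ≅ SL₂(pⁿ) acting on [V, E_i]/C_{[V,E_i]}(E_i) as on its natural two-dimensional module, or p = 2 and E_i isomorphic to the symmetric group of degree 2ⁿ + 1 acting on [V, E_i]/C_{[V,E_i]}(E_i) as on its even-weight permutation module. -/
theorem result {G : Type*} [Group G] [Finite G] {p : ℕ} [Fact p.Prime] (V P : Subgroup G) (hV : Cfsg.IsElementaryAbelian p V) (hPV : P ≤ Subgroup.normalizer (V : Set G)) (hfaith : P ⊓ Subgroup.centralizer (V : Set G) = ⊥) (hmin : Cfsg.IsPMinimal p ↥P) (T : Sylow p ↥P) (M : Subgroup ↥P) (hM : IsCoatom M) (hTM : (T : Subgroup ↥P) ≤ M) (hOp : Cfsg.pCore p ↥P = ⊥) (hoff : ∃ A : Subgroup G, A ≤ P ∧ ¬ A ≤ Subgroup.centralizer (V : Set G) ∧ Cfsg.IsBestOffenderOn p V A) (hCT : P ⊓ Subgroup.centralizer ((V ⊓ Subgroup.centralizer ((((T : Subgroup ↥P).map P.subtype) : Subgroup G) : Set G)) : Set G) ≤ M.map P.subtype) : ∃ (r : ℕ) (E : Fin r → Subgroup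 G), 1 ≤ r ∧ (∀ i, E i ≤ P) ∧ (∀ i j, i ≠ j → ⁅E i, E j⁆ = ⊥) ∧ (∀ i, E i ⊓ (⨆ j ∈ {j | j ≠ i}, E j) = ⊥) ∧ (⨆ i, E i) ⊔ ((T : Subgroup ↥P).map P.subtype) = P ∧ (∀ i j, ∃ t ∈ ((T : Subgroup ↥P).map P.subtype), (E i).map (MulAut.conj t).toMonoidHom = E j) ∧ (V ⊓ Subgroup.centralizer (((⨆ i, E i) : Subgroup G) : Set G)) ⊔ (⨆ i, ⁅V, E i⁆) = V ∧ (∀ i j, i ≠ j → ⁅⁅V, E i⁆, E j⁆ = ⊥) ∧ ∀ i, ∃ n : ℕ, 1 ≤ n ∧ ((∃ (F : Type) (_ : Field F) (_ : Fintype F), Fintype.card F = p ^ n ∧ Nonempty (↥(E i) ≃* Matrix.SpecialLinearGroup (Fin 2) F) ∧ Cfsg.ActsAsSL2OnSection F ⊤ (E i) ⁅V, E i⁆ (⁅V, E i⁆ ⊓ Subgroup.centralizer ((E i : Subgroup G) : Set G))) ∨ (p = 2 ∧ Nonempty (↥(E i) ≃* Equiv.Perm (Fin (2 ^ n + 1))) ∧ Cfsg.ActsAsOddPermModuleOnSection (2 ^ n + 1) ⊤ (E i) ⁅V, E i⁆ (⁅V, E i⁆ ⊓ Subgroup.centralizer ((E i : Subgroup G) : Set G)))) := by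
  obtain ⟨W, _, _, _, ι, hp, hf, h⟩ := exists_br_faith hV hPV hfaith
  have hF : FF W p (T : Subgroup P) M := ⟨hp, hf, sylIn_top T, minOver_of_isPMinimal hmin T hM hTM,
    pCoreOf_top.trans hOp, fun g hg => by
      have : (g : G) ∈ M.map P.subtype := hCT ⟨g.2, by
        intro y hy
        obtain ⟨x, hx, rfl⟩ := mem_toG.1 ((h.fixS T).ge hy)
        exact ((h.smul_eq_iff g x).1 (hg x hx)).symm⟩
      obtain ⟨y, hy, e⟩ := this
      rwa [← Subtype.ext e]⟩
  obtain ⟨X, hXP, hX0, h1, h2, h3⟩ := hoff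
  have eX := map_subtype_subgroupOf hXP
  have k : ∀ x ∈ P, x ∈ centralizer (V : Set G) → x = 1 := fun x a b =>
    mem_bot.1 (hfaith ▸ mem_inf.2 ⟨a, b⟩)
  obtain ⟨A, -, hA, -⟩ := exists_inD (V := W) (p := p) (X := X.subgroupOf P)
    (isPGroup_subgroupOf (isPGroup_iff_mem.2 fun x hx =>
      ⟨1, by rw [pow_one]; exact k _ (pow_mem (hXP hx) p) (h3 x hx)⟩))
    (fun a ha b hb => Subtype.ext (commutatorElement_eq_one_iff_mul_comm.1 (k _
      ((commutator_le_self P) (commutator_mem_commutator b.2 a.2))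
      (h2 (commutator_mem_commutator hb ha)))))
    (fun e => hX0 (by rw [← eX, e, Subgroup.map_bot]; exact bot_le)) (by
      have := h1 ⊥ bot_le
      rw [card_bot, one_mul, coe_bot, centralizer_eq_top_iff_subset.2 (by simp), inf_top_eq] at this
      rwa [h.msS, eX, ← h.card])
  obtain ⟨g, H, K, o⟩ := hF.exists_out hA
  obtain ⟨r, t, r1, ht, e, hc⟩ := o.exists_family
  have hs : ∀ i, cmA W (cj (t i) K) ⊔ H69.fixA W (cj (t i) K) = ⊤ := fun i =>
    eq_top_iff.2 fun v _ => by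
      obtain ⟨u, hu, c, hc, e⟩ := AddSubgroup.mem_sup.1 (o.split.ge (AddSubgroup.mem_top ((t i)⁻¹ • v)))
      exact AddSubgroup.mem_sup.2 ⟨_, smul_mem_cmA_cj (t i) hu, _, smul_mem_fix_cj.2 hc, by
        rw [← smul_add, e, smul_inv_smul]⟩
  refine ⟨r, fun i => (cj (t i) K).map P.subtype, r1, fun i => map_subtype_le _, fun i j hij => ?_,
    fun i => ?_, ?_, fun i j => ⟨_, mem_map_of_mem _ (mul_mem (ht j) (inv_mem (ht i))), ?_⟩, ?_,
    fun i j hij => (h.prpS _ _).1 (hc i j hij), fun i => ?_⟩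
  · rw [← map_commutator, comm_eq_bot_iff.2 (hf.comm (hc i j hij) (hc j i hij.symm)),
      Subgroup.map_bot]
  · have := congrArg (Subgroup.map P.subtype) (inf_iSup_eq_bot hf hc i (hs i))
    simpa only [map_subtype_inf, Subgroup.map_iSup, Subgroup.map_bot] using this
  · rw [← Subgroup.map_iSup, ← Subgroup.map_sup, e, o.ncl_eq, o.sup_eq hF, map_subtype_top]
  · refine (map_cj P.subtype _ _).symm.trans ?_
    rw [← cj_mul, inv_mul_cancel_right]
  · have := congrArg (toG ι) (fix_iSup_sup hc hs)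
    simpa only [toG_sup, toG_iSup, h.fixS, h.cmAS, h.toG_top, Subgroup.map_iSup] using this
  · obtain ⟨n, n1, hn⟩ := o.acts h P.subtype_injective hf (t i) (Subgroup.map_id _)
    have e1 := ((cj (t i) K).equivMapOfInjective _ P.subtype_injective).symm.trans
      (MulEquiv.subgroupCongr (Subgroup.map_id _).symm)
    exact ⟨n, n1, hn.imp (fun ⟨F, _, _, a, ⟨b⟩, _, c⟩ => ⟨F, _, _, a, ⟨e1.trans b⟩, c⟩)
      fun ⟨a, ⟨b⟩, _, c⟩ => ⟨a, ⟨e1.trans b⟩, c⟩⟩

end Cfsg.Agent.S3000
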