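import Cfsg.Statements.S3001
import Cfsg.Agent.H61.FFMove

set_option autoImplicit false
open Cfsg

namespace Cfsg.Agent.S3001

open Subgroup Cfsg.Agent.H92 Cfsg.Agent.H70 Cfsg.Agent.H72 in

/-- Let p be a prime and let P and V be subgroups of a finite group with V elementary abelian, P normalizing V and acting faithfully on it (P ∩ C(V) = 1). Suppose P is p-minimal (a Sylow p-subgroup is not normal and lies in a unique maximal subgroup), O_p(P) = 1, and P has a best offender on V (a subgroup A not centralizing V, with A/C_A(V) elementary abelian and |B|·|C_V(B)| ≤ |A|·|C_V(A)| for every B ≤ A). Then [C_V(T), P] ≠ 1 for every Sylow p-subgroup T of P. -/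
theorem result {G : Type*} [Group G] [Finite G] {p : ℕ} [Fact p.Prime] (V P : Subgroup G) (hV : Cfsg.IsElementaryAbelian p V) (hPV : P ≤ Subgroup.normalizer (V : Set G)) (hfaith : P ⊓ Subgroup.centralizer (V : Set G) = ⊥) (hmin : Cfsg.IsPMinimal p ↥P) (hOp : Cfsg.pCore p ↥P = ⊥) (hoff : ∃ A : Subgroup G, A ≤ P ∧ ¬ A ≤ Subgroup.centralizer (V : Set G) ∧ Cfsg.IsBestOffenderOn p V A) (T : Sylow p ↥P) : ⁅(V ⊓ Subgroup.centralizer ((((T : Subgroup ↥P).map P.subtype) : Subgroup G) : Set G)), P⁆ ≠ ⊥ := by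
  obtain ⟨W, _, _, _, ι, hp, hf, h⟩ := exists_br_faith hV hPV hfaith
  obtain ⟨-, M, ⟨hM, hTM⟩, -⟩ := hmin T
  obtain ⟨X, hXP, hX0, h1, h2, h3⟩ := hoff
  have eX := map_subtype_subgroupOf hXP
  have k : ∀ x ∈ P, x ∈ centralizer (V : Set G) → x = 1 := fun x a b =>
    mem_bot.1 (hfaith ▸ mem_inf.2 ⟨a, b⟩)
  intro e
  refine H61.not_fix_le (V := W) (X := X.subgroupOf P) hp hf (sylIn_top T)
    (minOver_of_isPMinimal hmin T hM hTM) (pCoreOf_top.trans hOp)
    (isPGroup_subgroupOf (isPGroup_iff_mem.2 fun x hx =>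
      ⟨1, by rw [pow_one]; exact k _ (pow_mem (hXP hx) p) (h3 x hx)⟩))
    (fun a ha b hb => Subtype.ext (commutatorElement_eq_one_iff_mul_comm.1 (k _
      ((commutator_le_self P) (commutator_mem_commutator b.2 a.2))
      (h2 (commutator_mem_commutator hb ha)))))
    (fun e => hX0 (by rw [← eX, e, Subgroup.map_bot]; exact bot_le)) (by
      have := h1 ⊥ bot_le
      rw [card_bot, one_mul, coe_bot, centralizer_eq_top_iff_subset.2 (by simp), inf_top_eq] at this
      rwa [h.msS, eX, ← h.card]) fun v hv g _ => ?_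
  have h4 := (h.fixS T).le (h.mem_toG.2 hv)
  exact (h.smul_eq_iff g v).2 (comm_eq_bot_iff.1 e h4 g g.2)

end Cfsg.Agent.S3001
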