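import Cfsg.Statements.S3012
import Cfsg.Agent.H72.Conj

set_option autoImplicit false
open Cfsg

namespace Cfsg.Agent.S3012

open Cfsg.Agent.H72

theorem commute_of_commute_two_pow {G : Type*} [Group G] {w h : G} (ho : Odd (orderOf h)) {k : ℕ}
    (hc : Commute w (h ^ 2 ^ k)) : Commute w h := by
  have hcop : (2 ^ k).Coprime (orderOf h) :=
    Nat.Coprime.pow_left k (Nat.coprime_two_left.2 ho)
  obtain ⟨m, hm⟩ := exists_pow_eq_self_of_coprime hcop
  rw [← hm]
  exact hc.pow_right m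


/-- Let G be a finite group, V a nontrivial elementary abelian 2-subgroup of G satisfying the Sidki pair condition (every odd-order element inverted by an element of V commutes with a nontrivial element of V), and K a normal subgroup of G with V ∩ K = 1. Then the image of V in G/K satisfies the Sidki pair condition in G/K. -/
theorem result {G : Type*} [Group G] [Finite G] (V K : Subgroup G) [K.Normal] (hV : Cfsg.IsElementaryAbelian 2 V) (hV1 : V ≠ ⊥) (hS : Cfsg.IsSidkiPair V) (hVK : V ⊓ K = ⊥) : Cfsg.IsSidkiPair (V.map (QuotientGroup.mk' K)) := by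
  rintro hq _ ⟨v, hv, rfl⟩ ho hinv
  obtain ⟨h, rfl⟩ := QuotientGroup.mk'_surjective K hq
  have hv2 : v * v = 1 := by rw [← sq]; exact hV.2 v hv
  have hvi : v⁻¹ = v := inv_eq_of_mul_eq_one_right hv2
  set y := h * (v * h * v⁻¹)⁻¹ with hy
  have hy1 : v * y * v⁻¹ = y⁻¹ := by
    rw [hy, hvi]
    calc v * (h * (v * h * v)⁻¹) * v = v * h * v⁻¹ * h⁻¹ * v⁻¹ * v := by group
      _ = _ := by rw [hvi, mul_assoc _ v v, hv2]; group
  have hy2 : QuotientGroup.mk' K y = (QuotientGroup.mk' K h) ^ 2 := by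
    rw [hy, map_mul, map_inv, map_mul, map_mul, map_inv, hinv, inv_inv, sq]
  obtain ⟨k, m, hm, he⟩ := Nat.exists_eq_two_pow_mul_odd (orderOf_pos y).ne'
  have ho' : Odd (orderOf (y ^ 2 ^ k)) := by
    refine Odd.of_dvd_nat hm (orderOf_dvd_of_pow_eq_one ?_)
    rw [← pow_mul, ← he, pow_orderOf_eq_one]
  obtain ⟨w, hw, hw1, hc⟩ := hS (y ^ 2 ^ k) v hv ho' (by rw [← conj_pow, hy1, inv_pow])
  refine ⟨_, ⟨w, hw, rfl⟩, fun h1 => hw1 ?_, ?_⟩
  · have : w ∈ V ⊓ K := ⟨hw, (QuotientGroup.eq_one_iff w).1 h1⟩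
    rwa [hVK] at this
  · apply commute_of_commute_two_pow ho (k := k + 1)
    have := congrArg (QuotientGroup.mk' K) hc
    rw [map_mul, map_mul, map_pow, hy2, ← pow_mul, ← pow_succ'] at this
    exact this

end Cfsg.Agent.S3012
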