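import Cfsg.Statements.S3013
import Cfsg.Agent.S3012

set_option autoImplicit false
open Cfsg

namespace Cfsg.Agent.S3013

/-- Let G be a finite group and V a nontrivial elementary abelian 2-subgroup of G satisfying the Sidki pair condition. Let v ∈ V and let x be an element of odd order inverted by v, and put C = C_G(v) ∩ C_G(x), the centralizer of the dihedral subgroup generated by v and x. Then C ∩ V is nontrivial and satisfies the Sidki pair condition inside C: every odd-order element of C inverted by an element of C ∩ V commutes with a nontrivial element of C ∩ V. -/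
theorem result {G : Type*} [Group G] [Finite G] (V : Subgroup G) (hV : Cfsg.IsElementaryAbelian 2 V) (hV1 : V ≠ ⊥) (hS : Cfsg.IsSidkiPair V) (v x : G) (hv : v ∈ V) (hx : Odd (orderOf x)) (hinv : v * x * v⁻¹ = x⁻¹) (C : Subgroup G) (hC : C = Subgroup.centralizer ({v} : Set G) ⊓ Subgroup.centralizer ({x} : Set G)) : C ⊓ V ≠ ⊥ ∧ Cfsg.IsSidkiPair ((C ⊓ V).subgroupOf C) := by
  have hab : ∀ a ∈ V, ∀ b ∈ V, Commute a b := fun a ha b hb =>
    congrArg Subtype.val (hV.1.is_comm.comm (⟨a, ha⟩ : V) ⟨b, hb⟩)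
  have memC : ∀ {w : G}, w ∈ C ↔ Commute w v ∧ Commute w x := by
    intro w
    rw [hC, Subgroup.mem_inf, Subgroup.mem_centralizer_singleton_iff,
      Subgroup.mem_centralizer_singleton_iff]
    rfl
  constructor
  · obtain ⟨w, hw, hw1, hc⟩ := hS x v hv hx hinv
    intro h
    have : w ∈ C ⊓ V := ⟨memC.2 ⟨hab w hw v hv, hc⟩, hw⟩
    rw [h] at this
    exact hw1 this
  · rintro ⟨h, hh⟩ ⟨u, hu⟩ hu' ho hinv'
    have huV : u ∈ V := hu'.2
    have hinv2 : u * h * u⁻¹ = h⁻¹ := congrArg Subtype.val hinv'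
    rw [Subgroup.orderOf_mk] at ho
    obtain ⟨h1, h2⟩ := memC.1 hh
    obtain ⟨u1, u2⟩ := memC.1 hu
    have ho2 : Odd (orderOf (x * h)) :=
      Odd.of_dvd_nat (hx.mul ho) h2.symm.orderOf_mul_dvd_mul_orderOf
    have e1 : v * (x * h) * v⁻¹ = x⁻¹ * h := by
      rw [← hinv, mul_assoc (v * x), ← h1.inv_right.eq]; group
    obtain ⟨w, hw, hw1, hc⟩ := hS (x * h) (u * v) (V.mul_mem huV hv) ho2 (by
      calc u * v * (x * h) * (u * v)⁻¹ = u * (v * (x * h) * v⁻¹) * u⁻¹ := by group
        _ = (u * x⁻¹) * h * u⁻¹ := by rw [e1]; group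
        _ = x⁻¹ * (u * h * u⁻¹) := by rw [u2.inv_right.eq]; group
        _ = _ := by rw [hinv2, ← h2.eq, mul_inv_rev])
    have hwv := hab w hw v hv
    have c1 : Commute w (x * h) := hc
    have c2 : Commute w (x⁻¹ * h) := by
      rw [← e1]; exact (hwv.mul_right c1).mul_right hwv.inv_right
    have c3 : Commute w h := by
      apply S3012.commute_of_commute_two_pow ho (k := 1)
      have := c1.mul_right c2
      rwa [← h2.eq, mul_assoc, mul_inv_cancel_left, ← sq] at this
    have c4 : Commute w x := by simpa using c1.mul_right c3.inv_right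
    have hwC : w ∈ C := memC.2 ⟨hwv, c4⟩
    exact ⟨⟨w, hwC⟩, ⟨hwC, hw⟩, fun h => hw1 (congrArg Subtype.val h), Subtype.ext c3⟩

end Cfsg.Agent.S3013
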