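import Cfsg.Statements.S3017
import Cfsg.Agent.H20.NilCl2
import Cfsg.Agent.H76.SelfCent

set_option autoImplicit false
open Cfsg

namespace Cfsg.Agent.S3017

open Cfsg.Agent.H49 Cfsg.Agent.H82G Subgroup

/-- Let G be a finite group and H an abelian 2-subgroup of G that is extremely closed (for every g, the subgroup generated by H and g H g⁻¹ meets N_G(H) exactly in H). Then G = N_G(H) O(G), where O(G) is the largest normal subgroup of odd order. For H of order 2 this is Glauberman's Z*-statement. -/
theorem result {G : Type*} [Group G] [Finite G] (H : Subgroup G) (hH2 : IsPGroup 2 H) (hHab : IsMulCommutative H) (hcl : Cfsg.IsExtremelyClosed H) : Subgroup.normalizer (H : Set G) ⊔ Cfsg.oddCore G = ⊤ := by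
  have h : H20.NC ⊤ H := fun g _ => by
    have hS : IsSylowOf 2 H (H ⊔ cj g H) := sylowOf_of_sylowOf_norm le_sup_left
      (by rw [show (H ⊔ cj g H) ⊓ 𝒩(H) = H from hcl g]; exact hall_self (pi2 hH2))
    obtain ⟨K, h1, h2, h3, h4⟩ := H76.exists_compl_of_burnside Nat.prime_two hS
      ((hcl g).le.trans (abelian_iff.1 hHab))
    have hK : GOLD.Od K := H44.od_iff.2 h4
    refine ⟨K, le_top, hK, le_sup_left.trans h2, le_sup_right.trans (eq_of_le_of_card_eq
      (sup_le le_sup_left h1) ?_).ge⟩
    rw [card_sup_of_disjoint (Or.inl (le_sup_left.trans h2)) (od_inf hK hH2), mul_comm, h3]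
  have hn := h.normal hH2 hHab
  have hO := H44.pPrimeCore_characteristic (G := G) (p := 2)
  have hF := (frattini_arg le_top (normal_iff_top_le_norm.1 hn) (H20.syl_sup_od hH2
    H44.pPrimeCore_coprime (le_top.trans (normal_iff_top_le_norm.1 inferInstance)))).sup_eq
  exact top_le_iff.1 (hF.ge.trans (sup_le (sup_le (le_normalizer.trans le_sup_left) le_sup_right)
    (inf_le_right.trans le_sup_left)))

end Cfsg.Agent.S3017
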