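import Cfsg.Statements.S3020
import Cfsg.Agent.H72.SylowIn
import Cfsg.Agent.H3.PComplement
import Cfsg.Agent.H44.Cores

set_option autoImplicit false
open Cfsg

namespace Cfsg.Agent.S3020

open Cfsg.Agent.H72


/-- Let G be a finite group, p a prime and H an abelian p-subgroup of G that is extremely closed (for every g, the subgroup generated by H and g H g⁻¹ meets N_G(H) exactly in H). Then for every g ∈ G, the subgroup T generated by H and g H g⁻¹ is the product of H with O_{p'}(T), and H meets O_{p'}(T) trivially; that is, O_{p'}(T) is a normal p-complement of H in T. -/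
theorem result {G : Type*} [Group G] [Finite G] {p : ℕ} [Fact p.Prime] (H : Subgroup G) (hHp : IsPGroup p H) (hHab : IsMulCommutative H) (hcl : Cfsg.IsExtremelyClosed H) (g : G) (T : Subgroup G) (hT : T = H ⊔ H.map (MulAut.conj g).toMonoidHom) : H ⊔ (Cfsg.pPrimeCore p ↥T).map T.subtype = T ∧ H ⊓ (Cfsg.pPrimeCore p ↥T).map T.subtype = ⊥ := by
  have hHT : H ≤ T := hT ▸ le_sup_left
  have hN : T ⊓ Subgroup.normalizer (H : Set G) = H := hT ▸ hcl g
  have hS : IsSylowIn p H T := by
    refine ⟨hHT, hHp, fun Q hQ h1 h2 => ?_⟩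
    by_contra hne
    have := lt_inf_normalizer_of_isPGroup hQ (lt_of_le_of_ne h1 (Ne.symm hne))
    exact this.not_ge ((inf_le_inf_right _ h2).trans hN.le)
  obtain ⟨S, hS'⟩ := hS.exists_sylow
  have hb : Subgroup.normalizer (S : Set T) ≤ Subgroup.centralizer (S : Set T) := by
    change Subgroup.normalizer ((S : Subgroup T) : Set T) ≤
      Subgroup.centralizer ((S : Subgroup T) : Set T)
    rw [hS', ← Subgroup.subgroupOf_normalizer_eq hHT]
    intro x hx y hy
    have hx' : (x : G) ∈ H := hN.le ⟨x.2, hx⟩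
    have := congrArg Subtype.val (hHab.is_comm.comm (⟨y, hy⟩ : H) ⟨x, hx'⟩)
    exact Subtype.ext this
  have hc := MonoidHom.ker_transferSylow_isComplement' S hb
  have hle : (MonoidHom.transferSylow S hb).ker ≤ pPrimeCore p T := H44.le_pPrimeCore inferInstance
    (H3.coprime_card_of_normal_of_inf_sylow_eq_bot S _ (disjoint_iff.1 hc.disjoint.symm))
  constructor
  · refine le_antisymm (sup_le hHT (Subgroup.map_subtype_le _)) fun t ht => ?_
    have h1 : (⟨t, ht⟩ : T) ∈ (S : Subgroup T) ⊔ pPrimeCore p T := by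
      apply sup_le_sup_left hle
      rw [sup_comm, hc.sup_eq_top]; trivial
    have h2 := Subgroup.mem_map_of_mem T.subtype h1
    rwa [Subgroup.map_sup, hS', Subgroup.subgroupOf_map_subtype, inf_eq_left.2 hHT] at h2
  · apply H3.inf_eq_bot_of_isPGroup_of_coprime hHp
    rw [← Nat.card_congr ((pPrimeCore p T).equivMapOfInjective _ T.subtype_injective).toEquiv]
    exact H44.pPrimeCore_coprime

end Cfsg.Agent.S3020
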