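import Cfsg.Statements.S3022
import Cfsg.Agent.H69.PU3
import Cfsg.Agent.H72.PMin

set_option autoImplicit false
open Cfsg

namespace Cfsg.Agent.S3022

/-- Let G be a finite group all of whose non-abelian simple sections are known simple groups, such that a Sylow 2-subgroup of G lies in exactly one maximal subgroup of G and C_G(O₂(G)) ≤ O₂(G). Let S be a Sylow 2-subgroup of G and A a group of automorphisms of S of odd order. Then some nontrivial A-invariant subgroup of S is normal in G. -/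
theorem result {G : Type*} [Group G] [Finite G] (hK : Cfsg.IsKGroup G) (hirr : ∀ S : Sylow 2 G, ∃! M : Subgroup G, IsCoatom M ∧ (S : Subgroup G) ≤ M) (hchar : Subgroup.centralizer (Cfsg.pCore 2 G : Set G) ≤ Cfsg.pCore 2 G) (S : Sylow 2 G) (A : Subgroup (MulAut ↥(S : Subgroup G))) (hA : Odd (Nat.card A)) : ∃ U : Subgroup G, U ≠ ⊥ ∧ U.Normal ∧ U ≤ (S : Subgroup G) ∧ ∀ a ∈ A, ∀ x : ↥(S : Subgroup G), (x : G) ∈ U → ((a x : ↥(S : Subgroup G)) : G) ∈ U := by
  by_contra! e
  have hS := H92.sylIn_top S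
  obtain ⟨M, ⟨m1, m2⟩, m3⟩ := hirr S
  have s0 : (S : Subgroup G) ≠ ⊥ := fun e' => m1.1 (top_le_iff.1 (by
    have q := (H70.pCoreOf_top.ge.trans (H70.pCoreOf_le_sylIn hS)).trans e'.le
    exact le_trans (H70.cent_comm.1 (q.trans bot_le)) (hchar.trans (q.trans bot_le))))
  have nc : ∀ C ≤ (S : Subgroup G), C ≠ ⊥ → (C.subgroupOf S).Characteristic →
      ¬ ⊤ ≤ Subgroup.normalizer (C : Set G) := fun C c1 c2 c3 c4 => by
    obtain ⟨a, -, x, hx, hx'⟩ := e C c2 (H70.normal_of_top_le_norm c4) c1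
    exact hx' (Subgroup.characteristic_iff_le_comap.1 c3 a (x := x) hx)
  have h : PU69.Hyp (S : Subgroup G) M S := ⟨H70.isChar_top_iff.2 hchar, hS,
    H72.minOver_of_uniq hS m2 m1.lt_top (fun X x1 x2 => by
      obtain ⟨N, n1, n2⟩ := (eq_top_or_exists_le_coatom X).resolve_left x2.ne
      exact m3 N ⟨n1, x1.trans n2⟩ ▸ n2) (nc _ le_rfl s0 (by
        rw [Subgroup.subgroupOf_self]; infer_instance)), le_rfl, Subgroup.le_normalizer,
    hS.mono le_sup_right le_top, s0, nc⟩
  obtain ⟨Γ, _, _, W, _, _, _, π, ι, hπ, f, b⟩ := h.exists_ff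
  obtain ⟨ι', s⟩ := h.exists_st hπ f b (S : Subgroup G).subtype_injective (Subgroup.range_subtype _)
  have cV := h.commV
  have nV := h.not_le
  have k := (b.ker_eq f.faith).trans h.cent_eq
  set V := omegaOneCenter 2 (pCore 2 G) ⊓ (S : Subgroup G) with hV
  have n := s.normal
  have l : V.subgroupOf S ≤ ⨆ a : A, PU69.am a.1 (V.subgroupOf S) :=
    le_iSup_of_le 1 (PU69.am_one _).ge
  have l' : V ≤ _ := (H70.map_subtype_subgroupOf inf_le_right).ge.trans (Subgroup.map_mono l)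
  have u : (⨆ a : A, PU69.am a.1 (V.subgroupOf S)).map (S : Subgroup G).subtype ≤ pCore 2 G :=
    H70.map_subtype_le_iff.2 (iSup_le fun a x hx => k.le (s.ker.ge (s.odd_le
      (fun _ ⟨t, ht, e⟩ => ⟨⟨t, ht⟩, e⟩) hA (congrArg Subtype.val (pow_card_eq_one' (x := a))) hx)))
  have : (⨆ a : A, PU69.am a.1 (V.subgroupOf S)).Normal :=
    H70.normal_of_top_le_norm (H70.le_norm_iff_cj.2 fun g _ => by
      rw [H70.cj_le_iff_le_cj_inv]
      refine iSup_le fun a => H70.cj_le_iff_le_cj_inv.1 (le_iSup_of_le a ?_)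
      have : (PU69.am a.1 (V.subgroupOf S)).Normal := n.map _ a.1.surjective
      exact H70.cj_le_of_mem_norm (H70.norm_of_normal (Subgroup.mem_top g)) le_rfl)
  obtain ⟨a, ha, x, hx, hx'⟩ := e _ (fun e' => nV (by
      have := h.cent_eq
      rw [← hV, le_bot_iff.1 (l'.trans e'.le), Subgroup.coe_bot,
        Subgroup.centralizer_eq_top_iff_subset.2 (by simp)] at this
      exact le_top.trans (this.le.trans (h.core_le.trans m2))))
    (H70.normal_of_top_le_norm ((H70.pRes_sup_sylIn hS).ge.trans (sup_le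
      (H70.norm_of_commutator_le ((Subgroup.commutator_mono u le_rfl).trans (cV.trans l')))
      (H70.le_norm_map_subtype _)))) (Subgroup.map_subtype_le _)
  refine hx' (Subgroup.mem_map_of_mem _ ?_)
  have hx : x ∈ ⨆ a : A, PU69.am a.1 (V.subgroupOf S) := by
    rwa [← H70.subgroupOf_map_subtype' (⨆ a : A, _)]
  refine Subgroup.mem_comap.1 ((iSup_le fun c y hy => ?_ : _ ≤ Subgroup.comap a.toMonoidHom _) hx)
  exact (le_iSup (fun a : A => PU69.am a.1 (V.subgroupOf S)) (⟨a, ha⟩ * c))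
    (by rw [Subgroup.coe_mul, PU69.am_mul]; exact PU69.apply_mem_am.2 hy)

end Cfsg.Agent.S3022
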