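import Cfsg.Statements.S3023
import Cfsg.Agent.H71.CharP
import Cfsg.Agent.S2896
import Cfsg.Agent.S0542
import Cfsg.Agent.H21.Quad
import Cfsg.Agent.H69.StrongEmb

set_option autoImplicit false
open Cfsg

namespace Cfsg.Agent.S3023

open Subgroup


/-- Let p be a prime, G a finite group of parabolic characteristic p (every p-local subgroup containing a Sylow p-subgroup of G has characteristic p), S a Sylow p-subgroup of G and G₁ a subnormal subgroup of G. If the centre of S ∩ G₁ is nontrivial and contained in the centre of S, then G₁ has parabolic characteristic p. -/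
theorem result {G : Type*} [Group G] [Finite G] {p : ℕ} [Fact p.Prime] (hG : Cfsg.IsOfParabolicCharacteristic p G) (S : Sylow p G) (G₁ : Subgroup G) (hsn : G₁.IsSubnormal) (hne : ((S : Subgroup G) ⊓ G₁) ⊓ Subgroup.centralizer (((S : Subgroup G) ⊓ G₁ : Subgroup G) : Set G) ≠ ⊥) (hle : ((S : Subgroup G) ⊓ G₁) ⊓ Subgroup.centralizer (((S : Subgroup G) ⊓ G₁ : Subgroup G) : Set G) ≤ (S : Subgroup G) ⊓ Subgroup.centralizer ((S : Subgroup G) : Set G)) : Cfsg.IsOfParabolicCharacteristic p ↥G₁ := by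
  obtain ⟨Q, hQ⟩ := S0542.result p G₁ hsn S
  have hd : p ∣ Nat.card G₁ := H69.dvd_card_of_isPGroup_le
    (S.isPGroup'.to_inf_left.to_inf_left) hne (inf_le_left.trans inf_le_right)
  have hd' : p ∣ Nat.card G := hd.trans G₁.card_subgroup_dvd_card
  rw [(S2896.result hd Q ⊥ bot_le).2.1]
  intro z hz1 hz
  rw [H21.mem_omegaOne_of_comm, hQ] at hz
  have h1 : (z : G) ∈ (S : Subgroup G) ⊓ centralizer ((S : Subgroup G) : Set G) :=
    hle ⟨⟨hz.1.1, z.2⟩, fun y hy => congrArg Subtype.val (hz.1.2 ⟨y, hy.2⟩ hy.1)⟩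
  have h2 := (S2896.result hd' S ⊥ bot_le).2.1.1 hG z (fun h => hz1 (Subtype.ext h))
    (H21.mem_omegaOne h1 (congrArg Subtype.val hz.2))
  rw [← H71.charPIn_iff_gfitting] at h2 ⊢
  have h3 := H71.charPIn_of_sn h2 ((H44.sn_top_iff.2 hsn).inf_of_le le_top)
  rw [← H71.charPIn_subgroupOf inf_le_left] at h3
  convert h3 using 1
  ext g
  rw [mem_subgroupOf, mem_inf, mem_centralizer_singleton_iff, mem_centralizer_singleton_iff,
    Subtype.ext_iff]
  simp

end Cfsg.Agent.S3023
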