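import Cfsg.Statements.S3048
import Cfsg.Agent.H73.Isolated
import Cfsg.Agent.H69.Cores
import Cfsg.Agent.H61.Chain
import Cfsg.Agent.S3012
import Cfsg.Agent.S3013

set_option autoImplicit false
universe u
open Cfsg

namespace Cfsg.Agent.S3048

open Subgroup H70 H73
open scoped commutatorElement

theorem eq_one_of_odd {G : Type*} [Group G] {x : G} (h : Odd (orderOf x)) (h2 : x * x = 1) : x = 1 := by
  have h3 : orderOf x ∣ 2 := orderOf_dvd_of_pow_eq_one (by rw [sq, h2])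
  rcases (Nat.dvd_prime Nat.prime_two).1 h3 with h4 | h4
  · exact orderOf_eq_one_iff.1 h4
  · rw [h4] at h; exact absurd h (by decide)

theorem commute_of_sq {G : Type*} [Group G] {u z : G} (h : Odd (orderOf z)) (h2 : Commute u (z * z)) :
    Commute u z := by
  obtain ⟨k, hk⟩ := h
  have h3 : z = (z * z) ^ (k + 1) := by
    rw [← sq, ← pow_mul, show 2 * (k + 1) = orderOf z + 1 by omega, pow_succ, pow_orderOf_eq_one,
      one_mul]
  rw [h3]
  exact h2.pow_right _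

theorem cent_of_mem {G : Type*} [Group G] {N H : Subgroup G} (h1 : N ≤ H)
    (h2 : H ≤ normalizer (N : Set G)) (h3 : pCoreOf 2 N = ⊥) :
    pCoreOf 2 H ≤ centralizer (N : Set G) := by
  rw [← comm_eq_bot_iff, eq_bot_iff, ← h3, pCoreOf_eq_inf_of_norm h1 h2]
  exact H72.commutator_le_inf_of_normalizes ((pCoreOf_le H).trans h2) (h1.trans (le_norm_pCoreOf H))

theorem isSimpleGroup_of_qs {G : Type*} [Group G] {K : Subgroup G} (h : H44.QS K)
    (hZ : K ⊓ centralizer (K : Set G) = ⊥) : IsSimpleGroup K := by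
  obtain ⟨-, h1, h2⟩ := H44.isQuasisimple_iff.1 (H44.qs_iff.1 h)
  refine ⟨fun N hN => (h2 N hN).symm.imp_left fun h3 => ?_⟩
  rw [← H44.map_center_subtype, map_subtype_eq_bot_iff] at hZ
  exact eq_bot_iff.2 (hZ ▸ h3)

/-- Minimal counterexample reduction for the Sidki pair problem. Let G be a finite group and V a nontrivial elementary abelian 2-subgroup satisfying the Sidki pair condition with V ∩ O₂(G) = 1. Suppose that for every finite group H of smaller order, every nontrivial elementary abelian 2-subgroup W of H satisfying the Sidki pair condition meets O₂(H) nontrivially, and that the same holds in G for every such subgroup W of order smaller than that of V. Then the generalized Fitting subgroup F*(G) is a non-abelian simple group and G = V F*(G). -/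
theorem result {G : Type u} [Group G] [Finite G] (V : Subgroup G) (hV : Cfsg.IsElementaryAbelian 2 V) (hV1 : V ≠ ⊥) (hS : Cfsg.IsSidkiPair V) (hVO : V ⊓ Cfsg.pCore 2 G = ⊥) (hminG : ∀ (H : Type u) [Group H] [Finite H] (W : Subgroup H), Nat.card H < Nat.card G → Cfsg.IsElementaryAbelian 2 W → W ≠ ⊥ → Cfsg.IsSidkiPair W → W ⊓ Cfsg.pCore 2 H ≠ ⊥) (hminV : ∀ W : Subgroup G, Nat.card W < Nat.card V → Cfsg.IsElementaryAbelian 2 W → W ≠ ⊥ → Cfsg.IsSidkiPair W → W ⊓ Cfsg.pCore 2 G ≠ ⊥) : IsSimpleGroup ↥(Cfsg.generalizedFittingSubgroup G) ∧ ¬ IsMulCommutative ↥(Cfsg.generalizedFittingSubgroup G) ∧ V ⊔ Cfsg.generalizedFittingSubgroup G = ⊤ := by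
  have : Fact (Nat.Prime 2) := ⟨Nat.prime_two⟩
  have hVc : ∀ a ∈ V, ∀ b ∈ V, a * b = b * a := (H69.isElementaryAbelian_iff.1 hV).1
  have hVV : V ≤ centralizer (V : Set G) := fun a ha => mem_centralizer_iff.2 fun b hb => hVc b hb a ha
  have hV2 : ∀ a ∈ V, a * a = 1 := fun a ha => by rw [← sq]; exact hV.2 a ha
  have hVi : ∀ a ∈ V, a⁻¹ = a := fun a ha => inv_eq_of_mul_eq_one_right (hV2 a ha)
  have hpV : IsPGroup 2 V := IsElementaryAbelian_isPGroup hV
  have hquot : ∀ (K : Subgroup G) [K.Normal], K ≠ ⊥ → V ⊓ K = ⊥ →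
      ∃ v ∈ V, v ≠ 1 ∧ QuotientGroup.mk' K v ∈ pCore 2 (G ⧸ K) := by
    intro K _ hK hVK
    obtain ⟨⟨_, ⟨v, hv, rfl⟩, h1⟩, h2⟩ := (ne_bot_iff_exists_ne_one).1 (hminG (G ⧸ K)
      (V.map (QuotientGroup.mk' K)) (by
        rw [card_eq_card_quotient_mul_card_subgroup K]
        exact lt_mul_of_one_lt_right Nat.card_pos ((one_lt_card_iff_ne_bot K).2 hK))
      (H21.isElementaryAbelian_map hV _) (fun h => hV1 (by
        rw [Subgroup.map_eq_bot_iff, QuotientGroup.ker_mk'] at h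
        exact (inf_eq_left.2 h).symm.trans hVK)) (S3012.result V K hV hV1 hS hVK))
    exact ⟨v, hv, fun h => h2 (Subtype.ext (by simp [h])), h1⟩
  have hsub : ∀ H W : Subgroup G, H ≠ ⊤ → W ≤ H → W ≤ V → W ≠ ⊥ → IsSidkiPair (W.subgroupOf H) →
      ∃ w ∈ W, w ≠ 1 ∧ w ∈ pCoreOf 2 H := by
    intro H W h1 h2 h3 h4 h5
    obtain ⟨⟨w, h6, h7⟩, h8⟩ := (ne_bot_iff_exists_ne_one).1 (hminG H (W.subgroupOf H)
      (by rw [← card_top (G := G)]; exact H61.card_lt_card_of_lt (lt_top_iff_ne_top.2 h1))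
      (H69.isElementaryAbelian_iff.2 ⟨fun a ha b hb => Subtype.ext (hVc _ (h3 ha) _ (h3 hb)),
        fun a ha => Subtype.ext (hV.2 _ (h3 ha))⟩)
      (fun h => h4 (by rw [← map_subtype_subgroupOf h2, h, Subgroup.map_bot])) h5)
    exact ⟨w, h6, fun h => h8 (Subtype.ext (Subtype.ext h)), w, h7, rfl⟩
  have hsub' : ∀ H W : Subgroup G, H ≠ ⊤ → W ≤ H → W ≤ V → W ≠ ⊥ →
      (∀ w ∈ W, w ∈ pCoreOf 2 H → w = 1) → ∃ h ∈ H, ∃ v ∈ W, h ≠ 1 ∧ Odd (orderOf h) ∧
        v * h * v⁻¹ = h⁻¹ ∧ ∀ w ∈ W, w * h = h * w → w = 1 := by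
    intro H W h1 h2 h3 h4 h5
    by_contra h6
    push Not at h6
    obtain ⟨w, h7, h8, h9⟩ := hsub H W h1 h2 h3 h4 fun h v hv h7 h8 => by
      by_cases h9 : (h : G) = 1
      · obtain ⟨⟨w, hw⟩, hw1⟩ := (ne_bot_iff_exists_ne_one).1 h4
        exact ⟨⟨w, h2 hw⟩, hw, fun h => hw1 (Subtype.ext (congrArg (Subtype.val : H → G) h)),
          Subtype.ext (by simp [h9])⟩
      obtain ⟨w, hw, h10, h11⟩ := h6 h h.2 v hv h9 (by rwa [orderOf_coe]) (congrArg Subtype.val h8)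
      exact ⟨⟨w, h2 hw⟩, hw, fun h => h11 (congrArg Subtype.val h), Subtype.ext h10⟩
    exact h8 (h5 w h7 h9)
  have hO : pCore 2 G = ⊥ := by
    by_contra h
    obtain ⟨v, hv, h1, h2⟩ := hquot (pCore 2 G) h hVO
    have h3 : pCoreOf 2 (⊤ : Subgroup (G ⧸ pCore 2 G)) = ⊥ := by
      rw [← map_top_of_surjective _ (QuotientGroup.mk'_surjective (pCore 2 G)),
        ← map_pCoreOf_of_ker _ _ (by
          rw [QuotientGroup.ker_mk']; exact pCore_isPGroup.to_le inf_le_left),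
        pCoreOf_top, QuotientGroup.map_mk'_self]
    rw [← pCoreOf_top (G := G ⧸ pCore 2 G), h3, mem_bot] at h2
    exact h1 (mem_bot.1 (hVO ▸ (⟨hv, (QuotientGroup.eq_one_iff _).1 h2⟩ : v ∈ V ⊓ pCore 2 G)))
  have hON : ∀ N : Subgroup G, N.Normal → pCoreOf 2 N = ⊥ := fun N _ => eq_bot_iff.2 (by
    rw [← hO, ← pCoreOf_top]; exact pCoreOf_le_pCoreOf_of_norm le_top norm_of_normal)
  have hnil : ∀ N : Subgroup G, N.Normal → Group.IsNilpotent N → ∀ x ∈ N, Odd (orderOf x) :=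
    fun N h1 h2 x hx => Nat.not_even_iff_odd.1 fun h3 => Isol.not_dvd_of_nilpotent (hON N h1) h2
      ((even_iff_two_dvd.1 h3).trans (N.orderOf_dvd_natCard hx))
  have hZ : ∀ z ∈ center G, z = 1 := by
    have h0 := hnil (center G) inferInstance (H44.isNilpotent_of_commutator_eq_bot
      (comm_eq_bot_iff.2 (center_le_centralizer _)))
    by_contra h
    push Not at h
    obtain ⟨z, hz, hz1⟩ := h
    obtain ⟨v, hv, h1, h2⟩ := hquot (center G) (fun h => hz1 (mem_bot.1 (h ▸ hz)))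
      (eq_bot_iff.2 fun v hv => eq_one_of_odd (h0 v hv.2) (hV2 v hv.1))
    have h3 : Group.IsNilpotent (pCore 2 (G ⧸ center G)) := pCore_isPGroup.isNilpotent
    refine h1 (eq_one_of_odd (hnil ((pCore 2 (G ⧸ center G)).comap (QuotientGroup.mk' _))
      inferInstance (Subgroup.isNilpotent_of_ker_le_center ((QuotientGroup.mk' _).subgroupComap _)
        fun x hx => mem_center_iff.2 fun y => Subtype.ext (mem_center_iff.1
          ((QuotientGroup.eq_one_iff _).1 (congrArg Subtype.val hx)) y)) v h2) (hV2 v hv))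
  have hD : ∀ N₁ N₂ : Subgroup G, N₁.Normal → N₂.Normal → N₁ ≤ centralizer (N₂ : Set G) →
      (∀ u ∈ V, u ∈ centralizer (N₁ : Set G) → u ∈ centralizer (N₂ : Set G) → u = 1) → N₂ ≠ ⊥ →
      V ⊔ N₂ = ⊤ := by
    intro N₁ N₂ hn₁ hn₂ h1 h2 h3
    by_contra h4
    obtain ⟨w, hw, hw1, hw2⟩ := hsub _ V h4 le_sup_left le_rfl hV1 fun h v hv h5 h6 => by
      obtain ⟨w, hw, h7, h8⟩ := hS h v hv (by rwa [orderOf_coe]) (congrArg Subtype.val h6)
      exact ⟨⟨w, mem_sup_left hw⟩, hw, fun h => h7 (congrArg Subtype.val h), Subtype.ext h8⟩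
    have h5 : V ⊓ centralizer (N₂ : Set G) ⊔ N₁ ≤ centralizer (N₂ : Set G) := sup_le inf_le_right h1
    obtain ⟨h, hh, v, hv, h6, h7, h8, h9⟩ := hsub' (V ⊓ centralizer (N₂ : Set G) ⊔ N₁) _
      (fun h => h3 (eq_bot_iff.2 fun x hx => hZ x (mem_center_iff.2 fun g =>
        (mem_centralizer_iff.1 (h5 (h ▸ mem_top g)) x hx).symm))) le_sup_left inf_le_left
      (fun h => hw1 (mem_bot.1 (h ▸ (⟨hw, cent_of_mem le_sup_right norm_of_normal (hON _ hn₂) hw2⟩ :
        w ∈ V ⊓ centralizer (N₂ : Set G)))))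
      (fun u hu h => h2 u hu.1 (cent_of_mem le_sup_right norm_of_normal (hON _ hn₁) h) hu.2)
    obtain ⟨h10, h11⟩ := S3013.result V hV hV1 hS v h hv.1 h7 h8 _ rfl
    obtain ⟨u, hu, h12, h13⟩ := hsub (centralizer ({v} : Set G) ⊓ centralizer ({h} : Set G)) _ (fun h14 => h6 (hZ h (mem_center_iff.2 fun g =>
      mem_centralizer_singleton_iff.1 (h14.ge (mem_top g)).2))) inf_le_left inf_le_right h10 h11
    refine h12 (h9 u ⟨hu.2, cent_of_mem (H := centralizer ({v} : Set G) ⊓ centralizer ({h} : Set G)) (fun x hx => ⟨mem_centralizer_singleton_iff.2 ?_,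
      mem_centralizer_singleton_iff.2 ?_⟩) norm_of_normal (hON _ hn₂) h13⟩
      (mem_centralizer_singleton_iff.1 hu.1.2))
    · exact mem_centralizer_iff.1 hv.2 x hx
    · exact mem_centralizer_iff.1 (h5 hh) x hx
  have hFn : (H44.Fof (⊤ : Subgroup G)).Normal := normal_of_top_le_norm (H44.le_normalizer_Fof ⊤)
  have hSn : (H44.FSof (⊤ : Subgroup G)).Normal := normal_of_top_le_norm (H44.le_normalizer_FSof ⊤)
  have hEn : (H44.Eof (⊤ : Subgroup G)).Normal := normal_of_top_le_norm (H44.le_normalizer_Eof ⊤)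
  have hCF : ∀ z ∈ centralizer (H44.FSof (⊤ : Subgroup G) : Set G), Odd (orderOf z) := fun z hz =>
    hnil _ hFn (H44.Fof_isNilpotent ⊤) z (H44.inf_centralizer_FSof_le_Fof ⊤ ⟨mem_top z, hz⟩)
  obtain ⟨⟨v₀, hv₀⟩, hv₁⟩ := (ne_bot_iff_exists_ne_one).1 hV1
  replace hv₁ : v₀ ≠ 1 := fun h => hv₁ (Subtype.ext h)
  have hZF : centralizer (H44.FSof (⊤ : Subgroup G) : Set G) = ⊥ := by
    set Z := centralizer (H44.FSof (⊤ : Subgroup G) : Set G) with hZd
    by_contra h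
    have hZc : ∀ a ∈ Z, ∀ b ∈ Z, a * b = b * a := fun a ha b hb =>
      mem_centralizer_iff.1 hb a (H44.inf_centralizer_FSof_le ⊤ ⟨mem_top a, ha⟩)
    have hZn : Z.Normal := inferInstance
    have h1 := hD _ Z hSn hZn (le_centralizer_iff.1 le_rfl)
      (fun u hu h1 _ => eq_one_of_odd (hCF u h1) (hV2 u hu)) h
    have h2 : ∀ u ∈ V, (∀ z ∈ Z, z * u = u * z) → u = 1 := fun u hu h2 => hZ u (by
      rw [← centralizer_univ, ← coe_top, ← h1, cent_sup]
      exact ⟨hVV hu, h2⟩)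
    have h3 : ∀ v ∈ V, v ≠ 1 → ∀ z ∈ Z, v * z * v⁻¹ = z⁻¹ := by
      intro v hv hv1
      let I : Subgroup G :=
        { carrier := {z | z ∈ Z ∧ v * z * v⁻¹ = z⁻¹}
          mul_mem' := fun {a b} ha hb => ⟨mul_mem ha.1 hb.1, by
            rw [hZc a ha.1 b hb.1, mul_inv_rev, ← ha.2, ← hb.2, hZc b hb.1 a ha.1]; group⟩
          one_mem' := ⟨one_mem _, by group⟩
          inv_mem' := fun {a} ha => ⟨inv_mem ha.1, by
            rw [show v * a⁻¹ * v⁻¹ = (v * a * v⁻¹)⁻¹ by group, ha.2]⟩ }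
      have hI : ∀ z ∈ Z, z * (v * z * v⁻¹)⁻¹ ∈ I := fun z hz =>
        ⟨mul_mem hz (inv_mem (hZn.conj_mem z hz v)), by
          rw [hVi v hv]
          calc _ = v * z * v * (v * v)⁻¹ * z⁻¹ * (v * v)⁻¹ * (v * v) := by group
            _ = _ := by rw [hV2 v hv]; group⟩
      have hIn : I.Normal := normal_of_top_le_norm (h1 ▸ sup_le
        (le_normalizer_iff.2 fun u hu z hz => ⟨hZn.conj_mem z hz.1 u, by
          calc _ = (v * u) * z * (v * u)⁻¹ := by group
            _ = u * (v * z * v⁻¹) * u⁻¹ := by rw [hVc v hv u hu]; group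
            _ = _ := by rw [hz.2]; group⟩)
        (norm_of_cent fun y hy => mem_centralizer_iff.2 fun z hz => hZc z hz.1 y hy))
      have hCn : (Z ⊓ centralizer ({v} : Set G)).Normal := normal_of_top_le_norm (h1 ▸ sup_le
        (norm_inf norm_of_normal (norm_of_le fun u hu => mem_centralizer_singleton_iff.2 (hVc u hu v hv)))
        (norm_of_cent fun y hy => mem_centralizer_iff.2 fun z hz => hZc z hz.1 y hy))
      have h4 := hD _ I hCn hIn (fun y hy => mem_centralizer_iff.2 fun z hz => hZc z hz.1 y hy.1)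
        (fun u hu h4 h5 => h2 u hu fun z hz => by
          refine (commute_of_sq (hCF z hz) ?_).symm
          have h6 := hZc z hz _ (hZn.conj_mem z hz v)
          have h7 : z * z = (z * (v * z * v⁻¹)) * (z * (v * z * v⁻¹)⁻¹) := by
            rw [mul_assoc z, ← mul_assoc _ z, ← h6]; group
          rw [h7]
          refine Commute.mul_right (mem_centralizer_iff.1 h4 _ ⟨mul_mem hz (hZn.conj_mem z hz v),
            mem_centralizer_singleton_iff.2 ?_⟩).symm (mem_centralizer_iff.1 h5 _ (hI z hz)).symm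
          calc _ = z * v * z := by group
            _ = z * v * z * (v * v)⁻¹ := by rw [hV2 v hv]; group
            _ = (z * (v * z * v⁻¹)) * v⁻¹ := by group
            _ = (v * z * v⁻¹) * z * v⁻¹ := by rw [h6]
            _ = _ := by rw [hVi v hv]; group)
        (fun h4 => hv1 (h2 v hv fun z hz => by
          have h5 := hI z hz
          rw [h4, mem_bot, mul_inv_eq_one] at h5
          exact (mul_inv_eq_iff_eq_mul.1 h5.symm).symm))
      intro z hz
      obtain ⟨u, hu, i, hi, rfl⟩ := (mem_sup_of_norm norm_of_normal).1 (h4 ▸ mem_top z)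
      rw [eq_one_of_odd (hCF u (by simpa using mul_mem hz (inv_mem hi.1))) (hV2 u hu), one_mul]
      exact hi.2
    obtain ⟨⟨z, hz⟩, hz1⟩ := (ne_bot_iff_exists_ne_one).1 h
    obtain ⟨w, hw, h4, h5⟩ := hS z v₀ hv₀ (hCF z hz) (h3 v₀ hv₀ hv₁ z hz)
    have h6 := h3 w hw h4 z hz
    rw [h5, mul_inv_cancel_right] at h6
    exact hz1 (Subtype.ext (eq_one_of_odd (hCF z hz) (mul_eq_one_iff_eq_inv.2 h6)))
  have hF : H44.Fof (⊤ : Subgroup G) = ⊥ := by
    by_contra h
    refine inf_cent_ne_bot_of_nilpotent (H44.Fof_isNilpotent ⊤) h (eq_bot_iff.2 ?_)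
    rw [← hZF, H44.FSof_eq, cent_sup]
    exact inf_le_inf_right _ (comm_eq_bot_iff'.1 (H44.commutator_Eof_Fof ⊤))
  have hFE : H44.FSof (⊤ : Subgroup G) = H44.Eof ⊤ := by rw [H44.FSof_eq, hF, sup_bot_eq]
  obtain ⟨K, hK⟩ : ∃ K, H44.Comp (⊤ : Subgroup G) K := by
    by_contra h
    push Not at h
    exact hv₁ (mem_bot.1 (H44.eq_bot_of_FSof_eq_bot (hFE.trans (H44.Eof_eq_bot_iff.2 h)) ▸ mem_top v₀))
  have hKZ : K ⊓ centralizer (K : Set G) = ⊥ := eq_bot_iff.2 (hF ▸ H44.center_le_Fof_of_sn hK.sn)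
  have hKZ' : ∀ x ∈ K, x ∈ centralizer (K : Set G) → x = 1 := fun x h1 h2 =>
    mem_bot.1 (hKZ ▸ (⟨h1, h2⟩ : x ∈ K ⊓ centralizer (K : Set G)))
  have hKO : pCoreOf 2 K = ⊥ := eq_bot_iff.2 (hF ▸ H44.le_Fof_of_sn (hK.sn.trans
    (H44.SN.of_le_normalizer (pCoreOf_le K) (le_norm_pCoreOf K))) (pCoreOf_isPGroup K).isNilpotent)
  have h1 := hD (centralizer (normalClosure (K : Set G) : Set G)) (normalClosure (K : Set G))
    inferInstance inferInstance le_rfl (fun u hu h1 h2 => by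
      rw [← mem_bot, ← hZF, hFE]
      refine le_centralizer_iff.1 (H44.Eof_le_iff.2 fun L hL => ?_) (mem_zpowers u)
      rw [le_centralizer_iff, zpowers_le]
      rcases hL.le_or_commutator_eq_bot (H44.SN.of_normal (K := normalClosure (K : Set G)) le_top)
        with h | h
      · exact cent_anti h h2
      · exact cent_anti (comm_eq_bot_iff.1 h) h1)
    (fun h => hK.qs.ne_bot (eq_bot_iff.2 (h ▸ le_normalClosure)))
  have h2 : V ⊔ H44.Eof ⊤ = ⊤ :=
    eq_top_iff.2 (h1.ge.trans (sup_le_sup_left (normalClosure_le_normal hK.le_Eof) _))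
  have hVK : ∀ u ∈ V, u ∈ centralizer (K : Set G) → u = 1 := fun u hu h => hZ u (by
    rw [← centralizer_univ, ← coe_top, ← h1, cent_sup]
    refine ⟨hVV hu, le_centralizer_iff.1 ((closure_le _).2 fun x hx => ?_) (mem_zpowers u)⟩
    obtain ⟨k, hk, h3⟩ := Group.mem_conjugatesOfSet_iff.1 hx
    obtain ⟨g, rfl⟩ := isConj_iff.1 h3
    obtain ⟨v, hv, e, he, rfl⟩ := (mem_sup_of_norm norm_of_normal).1 (h2 ▸ mem_top g)
    rw [SetLike.mem_coe, H72.centralizer_zpowers, show v * e * k * (v * e)⁻¹ = v * (e * k * e⁻¹) * v⁻¹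
      by group]
    have h4 : v ∈ centralizer ({u} : Set G) := mem_centralizer_singleton_iff.2 (hVc v hv u hu)
    exact mul_mem (mul_mem h4 (mem_centralizer_singleton_iff.2 (mem_centralizer_iff.1 h _
      (conj_mem_of_mem_norm (hK.Eof_le_normalizer he) hk)))) (inv_mem h4))
  have hcj : ∀ u : G, u ∉ normalizer (K : Set G) → ∀ x ∈ K, u * x * u⁻¹ ∈ centralizer (K : Set G) :=
    fun u hu x hx => comm_eq_bot_iff.1 ((hK.conj (le_normalizer (mem_top u))).commutator_eq_bot_of_ne hK fun h => hu (cj_eq_self_iff.1 h)) (conj_mem_cj u hx)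
  by_cases h3 : K ⊔ V ⊓ normalizer (K : Set G) = ⊤
  · have hKn : K.Normal := normal_of_top_le_norm (h3 ▸ sup_le le_normalizer inf_le_right)
    have h4 : K ⊔ V = ⊤ := eq_top_iff.2 (h3 ▸ sup_le_sup_left inf_le_left _)
    have h5 : generalizedFittingSubgroup G = K := by
      rw [← H44.FSof_top, hFE]
      refine le_antisymm ?_ hK.le_Eof
      rw [← H44.Eof_perfect]
      refine (commutator_mono le_top le_top).trans ?_
      rw [← h4]
      exact comm_sup_le norm_of_normal norm_of_normal (commutator_le_left _ _)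
        (comm_sup_le' norm_of_normal norm_of_normal (commutator_le_right _ _)
          ((comm_eq_bot_iff.2 hVV).le.trans bot_le))
    rw [h5]
    exact ⟨isSimpleGroup_of_qs hK.qs hKZ, fun h => hK.qs.not_le_centralizer (le_centralizer K),
      by rw [sup_comm, h4]⟩
  exfalso
  by_cases h4 : V ⊓ normalizer (K : Set G) = ⊥
  swap
  · obtain ⟨h, hh, v, hv, h5, h6, h7, h8⟩ := hsub' _ _ h3 le_sup_right inf_le_left h4 fun w hw h =>
      hVK w hw.1 (cent_of_mem le_sup_left (sup_le le_normalizer inf_le_right) hKO h)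
    replace hh : h ∈ K := pRes_sup_le_of_isPGroup (hpV.to_le inf_le_left) inf_le_right
      (mem_pRes hh (Nat.coprime_two_right.2 h6))
    obtain ⟨w, hw, h9, h10⟩ := hS h v hv.1 h6 h7
    refine h9 (h8 w ⟨hw, by_contra fun h11 => h5 (hKZ' h hh ?_)⟩ h10)
    have := hcj w h11 h hh
    rwa [h10, mul_inv_cancel_right] at this
  have h5 : ∀ u ∈ V, u ≠ 1 → ∀ x ∈ K, u * x * u⁻¹ ∈ centralizer (K : Set G) := fun u hu h =>
    hcj u fun h' => h (mem_bot.1 (h4 ▸ (⟨hu, h'⟩ : u ∈ V ⊓ normalizer (K : Set G))))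
  obtain ⟨x, hx, h6, h7⟩ : ∃ x ∈ K, (orderOf x).Coprime 2 ∧ x ≠ 1 := by
    by_contra h
    push Not at h
    exact hK.qs.ne_bot ((pCoreOf_eq_self (pRes_eq_bot_iff.1 (eq_bot_iff.2 (pRes_le_iff.2 h)))).symm.trans hKO)
  have h8 := h5 v₀ hv₀ hv₁ x hx
  have h9 : Odd (orderOf (x * (v₀ * x * v₀⁻¹)⁻¹)) := by
    refine (Nat.coprime_two_right.1 h6).of_dvd_nat (orderOf_dvd_of_pow_eq_one ?_)
    rw [Commute.mul_pow (mem_centralizer_iff.1 (inv_mem h8) x hx), inv_pow, conj_pow,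
      pow_orderOf_eq_one]
    group
  have h10 : v₀ * (x * (v₀ * x * v₀⁻¹)⁻¹) * v₀⁻¹ = (x * (v₀ * x * v₀⁻¹)⁻¹)⁻¹ := by
    calc _ = v₀ * x * v₀⁻¹ * (v₀ * v₀) * x⁻¹ * (v₀ * v₀)⁻¹ := by group
      _ = _ := by rw [hV2 v₀ hv₀]; group
  obtain ⟨w, hw, h11, h12⟩ := hS _ v₀ hv₀ h9 h10
  refine h7 (hKZ' x hx ?_)
  have h13 : x * (v₀ * x * v₀⁻¹)⁻¹ ∈ centralizer (K : Set G) := by
    by_cases h13 : w = v₀
    · rw [h13] at h12
      rw [h12, mul_inv_cancel_right] at h10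
      rw [eq_one_of_odd h9 (mul_eq_one_iff_eq_inv.2 h10)]
      exact one_mem _
    · have h14 := mul_mem (h5 w hw h11 x hx) (inv_mem (h5 (w * v₀) (mul_mem hw hv₀)
        (fun h => h13 (by rw [← hVi v₀ hv₀]; exact eq_inv_of_mul_eq_one_left h)) x hx))
      rwa [show w * x * w⁻¹ * (w * v₀ * x * (w * v₀)⁻¹)⁻¹ = w * (x * (v₀ * x * v₀⁻¹)⁻¹) * w⁻¹ by group,
        h12, mul_inv_cancel_right] at h14
  have h14 := mul_mem h13 h8
  rwa [inv_mul_cancel_right] at h14
end Cfsg.Agent.S3048
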