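import Cfsg.Statements.S3049
import Cfsg.Agent.S3048
import Cfsg.Agent.S2968
import Cfsg.Agent.H73.Essential
import Cfsg.Agent.H35.PrimeOrder
import Cfsg.Agent.H4.CoprimeAut
import Cfsg.Agent.H3.Frobenius
import Cfsg.Agent.H23.Basic

set_option autoImplicit false
open Cfsg

namespace Cfsg.Agent.S3049

open Subgroup H70

theorem mul_card_le {G : Type*} [Group G] [Finite G] {p : ℕ} [Fact p.Prime] {U V : Subgroup G}
    (hV : IsPGroup p V) (h : U < V) : p * Nat.card U ≤ Nat.card V := by
  rw [H23.card_eq_relIndex_mul h.le]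
  exact Nat.mul_le_mul_right _ (Nat.le_of_dvd (Nat.pos_of_ne_zero index_ne_zero_of_finite)
    (H73.dvd_relIndex_of_lt hV h))

theorem mem_sup_of_rank {G : Type*} [Group G] [Finite G] {p : ℕ} [hp : Fact p.Prime]
    (hrank : PRankLE p 2 G) {x y z : G} (hx : x ^ p = 1) (hy : y ^ p = 1) (hz : z ^ p = 1)
    (hz1 : z ≠ 1) (hxz : x ∉ zpowers z) (h1 : Commute x y) (h2 : Commute x z) (h3 : Commute y z) :
    y ∈ zpowers x ⊔ zpowers z := by
  by_contra h
  have hc : IsMulCommutative ↥(zpowers x ⊔ zpowers z ⊔ zpowers y) := H23.isMulCommutative_sup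
    (H23.isMulCommutative_sup inferInstance inferInstance (by
      rw [H72.centralizer_zpowers, zpowers_le]; exact mem_centralizer_singleton_iff.2 h2))
    inferInstance (by
      rw [H72.centralizer_zpowers, sup_le_iff, zpowers_le, zpowers_le]
      exact ⟨mem_centralizer_singleton_iff.2 h1, mem_centralizer_singleton_iff.2 h3.symm⟩)
  have he : zpowers x ⊔ zpowers z ⊔ zpowers y ≤ omegaOne p (zpowers x ⊔ zpowers z ⊔ zpowers y) :=
    sup_le (sup_le (zpowers_le.2 (H21.mem_omegaOne (mem_sup_left (mem_sup_left (mem_zpowers x))) hx))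
      (zpowers_le.2 (H21.mem_omegaOne (mem_sup_left (mem_sup_right (mem_zpowers z))) hz)))
      (zpowers_le.2 (H21.mem_omegaOne (mem_sup_right (mem_zpowers y)) hy))
  have he' := fun a ha => (H21.mem_omegaOne_of_comm.1 (he (x := a) ha)).2
  have hP : IsPGroup p ↥(zpowers x ⊔ zpowers z ⊔ zpowers y) :=
    isPGroup_iff_mem.2 fun a ha => ⟨1, by rw [pow_one, he' a ha]⟩
  have h4 := hrank _ hc he'
  have h5 := mul_card_le hP (lt_of_le_of_ne le_sup_left fun h5 => h (h5.ge (mem_sup_right (mem_zpowers y))))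
  have h6 := mul_card_le (hP.to_le le_sup_left) (lt_of_le_of_ne (le_sup_right : zpowers z ≤ _)
    fun h6 => hxz (h6.ge (mem_sup_left (mem_zpowers x))))
  rw [Nat.card_zpowers, orderOf_eq_prime hz hz1] at h6
  have := hp.out.one_lt
  nlinarith

/-- Let G be a finite group and p an odd prime with O_{p'}(G) = 1. Suppose that G has p-rank at most 2 (no elementary abelian subgroup of order p³) and that some element x of order p is isolated in G (no G-conjugate of x other than x commutes with x) and not central. Then the generalized Fitting subgroup F*(G) is a non-abelian simple group. Since O_{p'}(G) = 1, such an x is not central modulo O_{p'}(G): the hypotheses describe a counterexample to the Z*_p statement in p-rank at most 2. -/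
theorem result {G : Type*} [Group G] [Finite G] {p : ℕ} [Fact p.Prime] (hp : p ≠ 2) (hcore : Cfsg.pPrimeCore p G = ⊥)
    (hrank : Cfsg.PRankLE p 2 G) (x : G) (hx : orderOf x = p) (hiso : Cfsg.IsIsolated x) (hnc : x ∉ Subgroup.center G) :
    IsSimpleGroup ↥(Cfsg.generalizedFittingSubgroup G) ∧ ¬ IsMulCommutative ↥(Cfsg.generalizedFittingSubgroup G) := by
  have hxp : x ^ p = 1 := hx ▸ pow_orderOf_eq_one x
  obtain ⟨P, hP⟩ := (H69.isPGroup_zpowers_of_orderOf (hx.trans (pow_one p).symm)).exists_le_sylow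
  have hxP : x ∈ (P : Subgroup G) := hP (mem_zpowers x)
  have hxC := mem_centralizer_iff.1 (S2968.result P x hxP ⟨1, by rw [hx, pow_one]⟩ hiso).1.2
  have hF : H44.Fof (⊤ : Subgroup G) ≤ P := by
    rw [H44.Fof_top, H44.fitting_eq_pCore_of_pPrimeCore_eq_bot hcore]
    exact H69.pCore_le_sylow P
  have hFn : (H44.Fof (⊤ : Subgroup G)).Normal := normal_of_top_le_norm (H44.le_normalizer_Fof ⊤)
  have hsn : ∀ N : Subgroup G, H44.SN ⊤ N → (Nat.card N).Coprime p → N = ⊥ := fun N h1 h2 =>
    eq_bot_iff.2 (hcore ▸ H44.le_pPrimeCore_of_subnormal (H44.sn_top_iff.1 h1) h2)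
  obtain ⟨K, hK, hxK⟩ : ∃ K, H44.Comp (⊤ : Subgroup G) K ∧ x ∉ centralizer (K : Set G) := by
    by_contra h
    push Not at h
    have h1 : x ∈ H44.Fof (⊤ : Subgroup G) := H44.inf_centralizer_FSof_le_Fof ⊤ ⟨mem_top x, by
      rw [H44.FSof_eq, cent_sup]
      refine ⟨le_centralizer_iff.1 (H44.Eof_le_iff.2 fun L hL => ?_) (mem_zpowers x),
        fun y hy => hxC y (hF hy)⟩
      rw [le_centralizer_iff, zpowers_le]
      exact h L hL⟩
    exact hnc (mem_center_iff.2 fun g => mul_inv_eq_iff_eq_mul.1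
      (hiso g (hxC _ (hF (hFn.conj_mem x h1 g))).symm))
  have hD : H44.FSof ⊤ ⊓ centralizer (K : Set G) = ⊥ := by
    by_contra h
    have h1 : H44.SN ⊤ (H44.FSof ⊤ ⊓ centralizer (K : Set G)) :=
      (H44.sn_FSof ⊤).trans (H44.sn_inf_centralizer hK.FSof_le_normalizer)
    have h2 := sylIn_inf_subn (H92.sylIn_top P) (subn_of_sn h1)
    obtain ⟨z, hz, hz1, hzp⟩ := H69.exists_mem_orderOf_eq h2.2 fun h3 => h (hsn _ h1 (by
      have h4 := h2.not_dvd_relIndex
      rw [h3, relIndex_bot_left] at h4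
      exact ((Nat.Prime.coprime_iff_not_dvd Fact.out).2 h4).symm))
    have hzK : zpowers z ≤ centralizer (K : Set G) := zpowers_le.2 hz.2.2
    obtain ⟨R, hR⟩ : ∃ R : Sylow p K, (R : Subgroup K) = ((P : Subgroup G) ⊓ K).subgroupOf K :=
      ⟨_, (sylIn_inf_subn (H92.sylIn_top P) (subn_of_sn hK.sn)).coe_toSylow⟩
    have h3 := (H3.hasNormalPComplement_iff_frobenius_sylow R).2 fun Q hQ g hg ho =>
      H4.mem_centralizer_of_omega_fixed hp (R.isPGroup'.to_le hQ) ho hg fun y hy hyp => by
        rw [hR] at hQ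
        have h3 : (y : G) ∈ (P : Subgroup G) := (hQ hy).1
        have h4 : (g : G) * y * g⁻¹ ∈ (P : Subgroup G) := (hQ (conj_mem_of_mem_norm hg hy)).1
        obtain ⟨a, ha, b, hb, h5⟩ := (mem_sup_of_norm (norm_of_cent (by
          rw [H72.centralizer_zpowers, zpowers_le]
          exact mem_centralizer_singleton_iff.2 (hxC z hz.1).symm))).1
          (mem_sup_of_rank hrank hxp (congrArg Subtype.val hyp) hzp hz1 (fun h => hxK (hzK h))
            (hxC y h3).symm (hxC z hz.1).symm (mem_centralizer_iff.1 hz.2.2 y y.2))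
        have h6 := mem_centralizer_iff.1 (hzK hb) g g.2
        suffices (g : G) * a = a * g from Subtype.ext (by
          change (g : G) * y = y * g
          rw [← h5, ← mul_assoc, this, mul_assoc, h6, mul_assoc])
        by_cases h7 : a = 1
        · simp [h7]
        have h8 : (g : G) * a * g⁻¹ ∈ (P : Subgroup G) := by
          have h8 := mul_mem h4 (inv_mem (zpowers_le.2 hz.1 hb))
          rwa [← h5, show (g : G) * (a * b) * g⁻¹ * b⁻¹ = g * a * (b * (b * g)⁻¹) by
            rw [Subgroup.coe_inv]; group, ← h6, show b * ((g : G) * b)⁻¹ = (g : G)⁻¹ by group] at h8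
        obtain ⟨k, hk⟩ := mem_zpowers_iff.1 (H35.zpowers_eq_of_mem Fact.out hx ha h7 ▸ mem_zpowers x)
        have h9 := hiso g (hxC _ (by rw [← hk, ← conj_zpow]; exact zpow_mem h8 k)).symm
        obtain ⟨j, rfl⟩ := mem_zpowers_iff.1 ha
        exact (Commute.zpow_right (mul_inv_eq_iff_eq_mul.1 h9) j)
    rw [H3.hasNormalPComplement_iff_coprime, ← card_map_of_injective K.subtype_injective] at h3
    have h4 := pRes_eq_bot_iff.1 (hsn (pResidualOf p K)
      (hK.sn.trans (H44.SN.of_le_normalizer (pRes_le K) (le_norm_pRes K))) h3)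
    have := h4.isNilpotent
    exact hK.qs.not_solvable inferInstance
  have h1 : generalizedFittingSubgroup G = K := by
    rw [← H44.FSof_top]
    refine le_antisymm ?_ (hK.le_Eof.trans (H44.Eof_le_FSof ⊤))
    rw [H44.FSof_eq]
    refine sup_le (H44.Eof_le_iff.2 fun L hL => ?_) (le_trans ?_ (hD.le.trans bot_le))
    · rcases hL.eq_or_commutator_eq_bot hK with h | h
      · exact h.le
      · exact (le_inf (hL.le_Eof.trans (H44.Eof_le_FSof ⊤)) (comm_eq_bot_iff.1 h)).trans
          (hD.le.trans bot_le)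
    · exact le_inf (H44.Fof_le_FSof ⊤) (comm_eq_bot_iff'.1 hK.commutator_Fof)
  rw [h1]
  exact ⟨S3048.isSimpleGroup_of_qs hK.qs (eq_bot_iff.2 (hD ▸ inf_le_inf_right _
    (hK.le_Eof.trans (H44.Eof_le_FSof ⊤)))), fun h => hK.qs.not_le_centralizer (le_centralizer K)⟩
end Cfsg.Agent.S3049
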