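import Cfsg.Statements.S3038
import Cfsg.Agent.H59.IsoR2
import Cfsg.Agent.S3049
import Cfsg.Agent.H73.PCube

set_option autoImplicit false
open Cfsg

namespace Cfsg.Agent.S3038

open Subgroup Cfsg.Agent.H62 Cfsg.Agent.H49 Cfsg.Agent.H59.IR

theorem rank_sub {G H : Type*} [Group G] [Group H] {p k : ℕ} (h : PRankLE p k G) (f : H →* G)
    (hf : Function.Injective f) : PRankLE p k H := fun A hA h1 => by
  rw [← card_map_of_injective hf]
  refine h _ inferInstance ?_
  rintro _ ⟨a, ha, rfl⟩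
  rw [← map_pow, h1 a ha, map_one]

theorem core {G : Type*} [Group G] [Finite G] {p : ℕ} [hp : Fact p.Prime] (hp2 : p ≠ 2)
    (hG : _root_.commutator G = ⊤) (hrk : PRankLE p 2 G) (P : Sylow p G) {x : G}
    (hxP : x ∈ (P : Subgroup G)) (hx : orderOf x = p) (hiso : IsIsolated x) :
    (IsExtraspecial p (P : Subgroup G) ∧ Nat.card (P : Subgroup G) = p ^ 3 ∧
      ∀ y ∈ (P : Subgroup G), y ^ p = 1) ∨ (p = 3 ∧ ∃ k : ℕ, 2 ≤ k ∧
        Nat.card (P : Subgroup G) = 3 ^ (2 * k + 1) ∧ ∃ _ : Group.IsNilpotent (P : Subgroup G),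
          Group.nilpotencyClass (P : Subgroup G) = 2 * k) := by
  have hxC := mem_centralizer_iff.1 (S2968.result P x hxP ⟨1, by rw [hx, pow_one]⟩ hiso).1.2
  have hN : ∀ g ∈ 𝒩((P : Subgroup G)), g * x * g⁻¹ = x := fun g hg =>
    hiso g (hxC _ (conj_mem_of_norm le_rfl hg hxP)).symm
  have x1 : x ≠ 1 := fun e => hp.out.ne_one (by rw [← hx, e, orderOf_one])
  have hS : IsSylowOf p P 𝒩((P : Subgroup G)) := (sylowOf_top hp.out P).sub le_normalizer le_top
  have hP := P.isPGroup'
  have rk := rank_sub hrk _ (P : Subgroup G).subtype_injective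
  obtain ⟨n, hn⟩ := hP.exists_card_eq
  have hz : (⟨x, hxP⟩ : (P : Subgroup G)) ∈ center (P : Subgroup G) :=
    mem_center_iff.2 fun g => Subtype.ext (hxC g g.2)
  have ho : orderOf (⟨x, hxP⟩ : (P : Subgroup G)) = p := by rw [orderOf_mk, hx]
  rcases tri hp2 hn rk hz ho with h | ⟨rfl, h⟩ | ⟨rfl, h4, h⟩ | ⟨q, h1, h2, a, ha⟩
  · exfalso
    have c := ctrl hp2 P hG fun W hW => meta_ctrl hP h hW
    obtain ⟨L, hL⟩ := exists_compl_of_coprime hS.le le_rfl hS.coprime
    obtain ⟨-, -, s3, s4⟩ := S1447.result p hp2 P L hP h hL.right_le (by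
      rw [← hL.relIndex_left]
      exact ((Nat.Prime.coprime_iff_not_dvd hp.out).2 ((sylowOf_iff hp.out).1 hS).2.2).symm)
    have fin : ⁅(P : Subgroup G), (P : Subgroup G)⁆ ≤ ⁅(P : Subgroup G), L⁆ → False := fun hle =>
      x1 (mem_bot.1 (s3.le ⟨tr_norm hS le_rfl hle hxP (c hxP) fun g hg => by
        rw [hN g hg, inv_mul_cancel]; exact one_mem _,
        hxP, fun l hl => mul_inv_eq_iff_eq_mul.1 (hN l (hL.right_le hl))⟩))
    by_cases hab : IsMulCommutative (P : Subgroup G)
    · exact fin ((commutator_eq_bot_iff.2 (abelian_iff.1 hab)).le.trans bot_le)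
    by_cases hc : L ≤ 𝒞((P : Subgroup G))
    swap
    · exact fin (s4 hab hc).2.2.2.2
    refine (commutator_lt_of_nilpotent hP.isNilpotent le_rfl le_normalizer
      (ne_bot_iff_exists.2 ⟨x, hxP, x1⟩)).not_ge fun u hu =>
        tr_norm hS le_rfl le_rfl hu (c hu) fun g hg => ?_
    obtain ⟨a, ha, l, hl, rfl⟩ := (mem_sup_of_norm_left hL.right_le).1 (hL.isProd.sup_eq.ge hg)
    have := commutator_mem_commutator (inv_mem hu) ha
    convert this using 1
    calc _ = u⁻¹ * a * (l * u) * l⁻¹ * a⁻¹ := by group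
      _ = _ := by rw [← hc hl u hu, commutatorElement_def]; group
  · refine Or.inl ⟨H73.isExtraspecial_of_card_eq_cube hn (by_contra fun hc => ?_), hn,
      fun y hy => congrArg Subtype.val (h ⟨y, hy⟩)⟩
    push Not at hc
    have := rk ⊤ (abelian_iff.2 fun a _ b _ => hc b a) fun a _ => h a
    rw [card_top, hn, Nat.pow_le_pow_iff_right hp.out.one_lt] at this
    omega
  · rcases Nat.even_or_odd n with he | ⟨k, rfl⟩
    · exfalso
      have c := ctrl hp2 P hG fun W hW => mc_ctrl h h4 rk hW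
      obtain ⟨w, hw, hw'⟩ := h.exists_KK (k := 1) le_rfl (by omega)
      obtain ⟨v, hv, e⟩ := tr_norm (Y := (LL P 1).map (P : Subgroup G).subtype) hS le_rfl
        (map_subtype_commutator _).ge w.2 (c w.2) fun g hg => ⟨_, mc_weight h h4 he
          (normalizerMonoidHom (P : Subgroup G) ⟨g, hg⟩) hz (fun e => x1 (congrArg Subtype.val e))
          (Subtype.ext (hN g hg)) hw hw', rfl⟩
      exact hw' (Subtype.ext e ▸ hv)
    · haveI := hP.isNilpotent
      refine Or.inr ⟨rfl, k, by omega, hn, inferInstance, ?_⟩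
      have h1 := h.ne_bot
      have h2 := h.LL_eq_bot (k := 2 * k) (by omega)
      rw [Ne, Subgroup.lowerCentralSeries_eq_bot_iff_nilpotencyClass_le] at h1
      rw [Subgroup.lowerCentralSeries_eq_bot_iff_nilpotencyClass_le] at h2
      omega
  · let Y : Subgroup (P : Subgroup G) :=
      { carrier := {a | a ^ q = 1}
        one_mem' := one_pow q
        mul_mem' := fun {a b} ha hb => (h1 a b).trans (by rw [ha, hb, one_mul])
        inv_mem' := fun {a} ha => (inv_pow a q).trans (inv_eq_one.2 ha) }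
    have key : ∀ (b : (P : Subgroup G)) (g : G), g * b * g⁻¹ ∈ (P : Subgroup G) →
        (b : G)⁻¹ * (g * b * g⁻¹) ∈ Y.map (P : Subgroup G).subtype := fun b g hg => by
      refine ⟨b⁻¹ * ⟨_, hg⟩, (h1 _ _).trans ?_, rfl⟩
      rw [inv_pow, inv_mul_eq_one]
      refine Subtype.ext ?_
      change (b : G) ^ q = (g * b * g⁻¹) ^ q
      have m : ∀ c : (P : Subgroup G), (c : G) ^ q ∈ zpowers x := fun c =>
        let ⟨i, hi⟩ := h2 c; ⟨i, congrArg Subtype.val hi⟩
      have m2 := m ⟨_, hg⟩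
      rw [conj_pow] at m2 ⊢
      by_cases e : (b : G) ^ q = 1
      · rw [e]; group
      obtain ⟨j, hj⟩ := mem_zpowers_iff.1 (H35.zpowers_eq_of_mem hp.out hx (m b) e ▸ mem_zpowers x)
      have h9 := hiso g (hxC _ (by
        rw [← hj, ← conj_zpow]; exact zpowers_le_of_mem hxP (zpow_mem m2 j))).symm
      obtain ⟨i, hi⟩ := mem_zpowers_iff.1 (m b)
      rw [← hi, ← conj_zpow, h9]
    obtain ⟨v, hv, e⟩ := tr_core (Y := Y.map (P : Subgroup G).subtype) hP P.not_dvd_index
      (commutator_le.2 fun a ha b hb => by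
        have := key ⟨a, ha⟩⁻¹ b (mul_mem (mul_mem hb (inv_mem ha)) (inv_mem hb))
        simpa [commutatorElement_def, mul_assoc] using this) a.2 (hG ▸ mem_top _)
      fun k g hg => key (a ^ k) g hg
    exact (ha (Subtype.ext e ▸ hv)).elim

/-- Let G be a finite group and p an odd prime with O_{p'}(G) = 1. Suppose that G has p-rank at most 2 and that some element x of order p is isolated in G and not central. Then F*(G) is a non-abelian simple group, and for every Sylow p-subgroup P of F*(G), either no conjugate of x lies in P and P is cyclic, or some conjugate of x lies in P and either P is extraspecial of order p³ and exponent p, or p = 3 and P has order 3^{2k+1} for some k ≥ 2 and is of maximal class (nilpotency class 2k). Since O_{p'}(G) = 1, such an x is not central modulo O_{p'}(G): the hypotheses describe a counterexample to the Z*_p statement in p-rank at most 2, and the conclusion records the structure it would have. -/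
theorem result {G : Type*} [Group G] [Finite G] {p : ℕ} [Fact p.Prime] (hp : p ≠ 2) (hcore : Cfsg.pPrimeCore p G = ⊥)
    (hrank : Cfsg.PRankLE p 2 G) (x : G) (hx : orderOf x = p) (hiso : Cfsg.IsIsolated x) (hnc : x ∉ Subgroup.center G) :
    IsSimpleGroup ↥(Cfsg.generalizedFittingSubgroup G) ∧ ¬ IsMulCommutative ↥(Cfsg.generalizedFittingSubgroup G) ∧
    ∀ P : Sylow p ↥(Cfsg.generalizedFittingSubgroup G),
      ((∀ g : G, g * x * g⁻¹ ∉ ((P : Subgroup ↥(Cfsg.generalizedFittingSubgroup G)).map (Cfsg.generalizedFittingSubgroup G).subtype)) ∧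
          IsCyclic ↥(P : Subgroup ↥(Cfsg.generalizedFittingSubgroup G))) ∨
      ((∃ g : G, g * x * g⁻¹ ∈ ((P : Subgroup ↥(Cfsg.generalizedFittingSubgroup G)).map (Cfsg.generalizedFittingSubgroup G).subtype)) ∧
        ((Cfsg.IsExtraspecial p ↥(P : Subgroup ↥(Cfsg.generalizedFittingSubgroup G)) ∧
            Nat.card (P : Subgroup ↥(Cfsg.generalizedFittingSubgroup G)) = p ^ 3 ∧
            ∀ y ∈ (P : Subgroup ↥(Cfsg.generalizedFittingSubgroup G)), y ^ p = 1) ∨
         (p = 3 ∧ ∃ k : ℕ, 2 ≤ k ∧ Nat.card (P : Subgroup ↥(Cfsg.generalizedFittingSubgroup G)) = 3 ^ (2 * k + 1) ∧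
            ∃ _ : Group.IsNilpotent ↥(P : Subgroup ↥(Cfsg.generalizedFittingSubgroup G)),
              Group.nilpotencyClass ↥(P : Subgroup ↥(Cfsg.generalizedFittingSubgroup G)) = 2 * k))) := by
  have hpp : p.Prime := Fact.out
  obtain ⟨hs, hna⟩ := S3049.result hp hcore hrank x hx hiso hnc
  refine ⟨hs, hna, fun P => ?_⟩
  generalize generalizedFittingSubgroup G = K at *
  have iso : ∀ g : G, IsIsolated (g * x * g⁻¹) := fun g k hk => by
    have := hiso (g⁻¹ * k * g) (by
      have := hk.conj g⁻¹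
      convert this using 1 <;> group)
    calc _ = g * (g⁻¹ * k * g * x * (g⁻¹ * k * g)⁻¹) * g⁻¹ := by group
      _ = _ := by rw [this]
  have ord : ∀ g : G, orderOf (g * x * g⁻¹) = p := fun g =>
    (MulEquiv.orderOf_eq (MulAut.conj g) x).trans hx
  by_cases h : ∃ g : G, g * x * g⁻¹ ∈ (P : Subgroup K).map K.subtype
  · refine Or.inr ⟨h, ?_⟩
    obtain ⟨g, y, hy, e⟩ := h
    refine core hp ((IsSimpleGroup.eq_bot_or_eq_top_of_normal _ inferInstance).resolve_left
      fun e => hna ⟨⟨fun a b => mem_center_iff.1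
        (((commutator_eq_bot_iff_center_eq_top K).1 e).ge (mem_top b)) a⟩⟩)
      (rank_sub hrank _ K.subtype_injective) P hy ((orderOf_coe y).symm.trans ((congrArg orderOf e).trans (ord g)))
      fun k hk => Subtype.ext ?_
    have := iso g k (e ▸ congrArg Subtype.val hk)
    rwa [← e] at this
  push Not at h
  refine Or.inl ⟨h, by_contra fun hc => ?_⟩
  obtain ⟨A, -, hA, hAc⟩ := S0126.result hp P.isPGroup' hc
  obtain ⟨T, hT⟩ := (P.isPGroup'.map K.subtype).exists_le_sylow
  obtain ⟨g, -, hg⟩ := sylowOf_subJ (sylowOf_top hpp T) le_top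
    (isPi_of_isPGroup hpp (H69.isPGroup_zpowers_of_orderOf (hx.trans (pow_one p).symm)))
  have hy := hg (conj_mem_cj.2 (mem_zpowers x))
  have hC := mem_centralizer_iff.1 (S2968.result T _ hy ⟨1, by rw [ord, pow_one]⟩ (iso g)).1.2
  let B := (A.map (P : Subgroup K).subtype).map K.subtype
  have hB : B ≤ (P : Subgroup K).map K.subtype := map_mono (map_subtype_le _)
  haveI := hA.1
  have hh : g * x * g⁻¹ ∈ 𝒞(B) := fun b hb => hC b (hT (hB hb))
  have hh' : zpowers (g * x * g⁻¹) ≤ 𝒞(B) := zpowers_le_of_mem hh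
  have h2 := hrank _ (abelian_sup inferInstance inferInstance (cent_symm hh')) fun a ha => by
    obtain ⟨b, hb, _, ⟨k, rfl⟩, rfl⟩ := (mem_sup_of_norm_left (norm_of_cent hh')).1 ha
    simp only
    rw [(Commute.zpow_right (hh b hb) k).mul_pow, ← zpow_natCast (_ ^ k), zpow_comm,
      zpow_natCast, ← ord g, pow_orderOf_eq_one, one_zpow, mul_one, ord g]
    obtain ⟨_, ⟨c, hc, rfl⟩, rfl⟩ := hb
    rw [← map_pow, ← map_pow, hA.2 c hc, map_one, map_one]
  have h3 : Nat.card B = p ^ 2 := by rw [card_subtype, card_subtype, hAc]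
  exact h g (hB ((eq_of_le_of_card_ge le_sup_left (h3 ▸ h2)).ge (mem_sup_right (mem_zpowers _))))

end Cfsg.Agent.S3038
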