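import Cfsg.Statements.S3043
import Cfsg.Agent.H12.TIInv4

set_option autoImplicit false
open Cfsg

namespace Cfsg.Agent.S3043

/-- Let M be a nontrivial subgroup of a finite group G meeting each of its other conjugates trivially, with N_G(M) = M · C_{N_G(M)}(z) for some involution z ∈ N_G(M), and with C_G(x) of odd order for every nontrivial x ∈ M. Then one of the following holds: M is normal in G; the number of involutions of G is at most |G : M|; G is isomorphic to PGL₂(F) or to PSL₂(F) for a finite field F with |F| = |M|, M is an elementary abelian p-group for the characteristic p of F, and |F| ≡ 1 (mod 4) in the PSL₂ case; G is isomorphic to PSL₂(F) with |F| = 2^e, e > 1, and M is cyclic of order 2^e + 1; or for some d ≥ 1, G has an elementary abelian normal subgroup of order 2^{2d} complemented by N_G(M), and N_G(M) is dihedral of order 2(2^d + 1). -/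
theorem result {G : Type*} [Group G] [Finite G] (M : Subgroup G) (hM1 : M ≠ ⊥)
    (hTI : ∀ g : G, M ⊓ M.map (MulAut.conj g).toMonoidHom ≠ ⊥ → M.map (MulAut.conj g).toMonoidHom = M)
    (z : G) (hz : orderOf z = 2) (hzN : z ∈ Subgroup.normalizer (M : Set G))
    (hfac : M ⊔ (Subgroup.normalizer (M : Set G) ⊓ Subgroup.centralizer ({z} : Set G)) = Subgroup.normalizer (M : Set G))
    (hodd : ∀ x ∈ M, x ≠ 1 → Odd (Nat.card ↥(Subgroup.centralizer ({x} : Set G)))) :
    M.Normal ∨
    Nat.card {g : G // orderOf g = 2} ≤ M.index ∨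
    (∃ (F : Type) (_ : Field F) (_ : Fintype F) (p : ℕ) (_ : Fact p.Prime) (_ : CharP F p), Fintype.card F = Nat.card M ∧ Cfsg.IsElementaryAbelian p M ∧
        (Nonempty (G ≃* (GL (Fin 2) F ⧸ Subgroup.center (GL (Fin 2) F))) ∨
         (Fintype.card F % 4 = 1 ∧ Nonempty (G ≃* Matrix.ProjectiveSpecialLinearGroup (Fin 2) F)))) ∨
    (∃ (F : Type) (_ : Field F) (_ : Fintype F) (e : ℕ), 1 < e ∧ Fintype.card F = 2 ^ e ∧ IsCyclic ↥M ∧ Nat.card M = 2 ^ e + 1 ∧
        Nonempty (G ≃* Matrix.ProjectiveSpecialLinearGroup (Fin 2) F)) ∨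
    (∃ (d : ℕ) (E : Subgroup G), 1 ≤ d ∧ E.Normal ∧ Cfsg.IsElementaryAbelian 2 E ∧ Nat.card E = 2 ^ (2 * d) ∧
        E ⊓ Subgroup.normalizer (M : Set G) = ⊥ ∧ E ⊔ Subgroup.normalizer (M : Set G) = ⊤ ∧
        Nonempty (↥(Subgroup.normalizer (M : Set G)) ≃* DihedralGroup (2 ^ d + 1))) := by
  classical
  by_cases hN : M.Normal
  · exact Or.inl hN
  refine Or.inr ?_
  by_cases hj : Nat.card {g : G // orderOf g = 2} ≤ M.index
  · exact Or.inl hj
  refine Or.inr ?_
  obtain ⟨N, hNdef⟩ : ∃ N, N = Subgroup.normalizer (M : Set G) := ⟨_, rfl⟩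
  have hst : MulAction.stabilizer G ((1 : G) : G ⧸ N) = N := MulAction.stabilizer_quotient N
  have ha : ∀ g : G, g • ((1 : G) : G ⧸ N) = ((1 : G) : G ⧸ N) ↔ g ∈ N := fun g => by
    rw [← MulAction.mem_stabilizer_iff, hst]
  have z1 : z ≠ 1 := fun e => by rw [e] at hz; simp at hz
  have zz : z * z = 1 := by have := pow_orderOf_eq_one z; rwa [hz, sq] at this
  have h0 : H12.TI0 G (G ⧸ N) ((1 : G) : G ⧸ N) M z :=
    { tr := fun c => by
        obtain ⟨g, rfl⟩ := QuotientGroup.mk_surjective c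
        exact ⟨g, by simp⟩
      fix := fun x hx => (ha x).2 (hNdef ▸ Subgroup.le_normalizer hx)
      conj := fun g hg x hx => by
        have := (ha g).1 hg
        rw [hNdef] at this
        exact (Subgroup.mem_normalizer_iff.1 this x).1 hx
      ti := fun g hg x hx hx' => by
        by_contra x1
        refine hg ((ha g).2 ?_)
        have := hTI g (fun e => by
          have : g * x * g⁻¹ ∈ M ⊓ M.map (MulAut.conj g).toMonoidHom := ⟨hx', x, hx, rfl⟩
          rw [e, Subgroup.mem_bot] at this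
          exact H12.conj_ne_one x1 g⁻¹ (by rwa [inv_inv]))
        rw [hNdef, Subgroup.mem_normalizer_iff]
        intro y
        constructor
        · intro hy
          rw [← this]
          exact ⟨y, hy, rfl⟩
        · intro hy
          rw [← this] at hy
          obtain ⟨w, hw, e⟩ := hy
          have : w = y := (MulAut.conj g).injective e
          exact this ▸ hw
      ne := by
        by_contra! hc
        exact hM1 ((Subgroup.eq_bot_iff_forall _).2 hc)
      z1 := z1
      zz := zz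
      za := (ha z).2 (hNdef ▸ hzN)
      fac := fun n hn => by
        have h1 := (ha n).1 hn
        rw [hNdef, ← hfac] at h1
        have h2 := Subgroup.coe_mul_of_right_le_normalizer_left M
          (Subgroup.normalizer (M : Set G) ⊓ Subgroup.centralizer ({z} : Set G)) inf_le_left
        have h3 : n ∈ ((M ⊔ (Subgroup.normalizer (M : Set G) ⊓
          Subgroup.centralizer ({z} : Set G)) : Subgroup G) : Set G) := h1
        rw [h2] at h3
        obtain ⟨x, hx, k, hk, e⟩ := h3
        exact ⟨x, hx, k, Subgroup.mem_centralizer_singleton_iff.1 hk.2, e.symm⟩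
      odd := fun x hx x1 g e => by
        have := orderOf_dvd_natCard (⟨g, Subgroup.mem_centralizer_singleton_iff.2 e⟩ :
          Subgroup.centralizer ({x} : Set G))
        rw [Subgroup.orderOf_mk] at this
        exact (hodd x hx x1).of_dvd_nat this }
  have h1 : H12.TI1 G (G ⧸ N) ((1 : G) : G ⧸ N) M z := ⟨h0, h0.many (not_le.1 hj)⟩
  obtain ⟨b, hb⟩ : ∃ b : G ⧸ N, b ≠ ((1 : G) : G ⧸ N) := by
    by_contra! hc
    refine hN ⟨fun x hx g => h0.conj g (hc _) x hx⟩
  obtain ⟨w, ⟨k, hk⟩, wa, wb⟩ := h1.exists_invol hb.symm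
  have h2 := h1.of_invol' (hk ▸ H12.conj_ne_one z1 k) (hk ▸ H12.conj_mul_self zz k) wa
  by_cases h3 : ∀ c : G ⧸ N, w • c = c → c = ((1 : G) : G ⧸ N) ∨ c = b
  · exact Or.inl (h2.case_two hb wb h3)
  refine Or.inr ?_
  push Not at h3
  obtain ⟨c, wc, ca, cb⟩ := h3
  have h4 : H12.TI3 G (G ⧸ N) ((1 : G) : G ⧸ N) b c M w := ⟨h2, hb, ca, cb, wb, wc⟩
  by_cases h5 : ∀ s : G, orderOf s = 2 → ∃ k : G, k⁻¹ * w * k = s
  · exact Or.inl (h4.case_conj h5)
  refine Or.inr ?_
  push Not at h5
  obtain ⟨y, hy, hy'⟩ := h5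
  have := h4.case_plane hy (fun ⟨k, e⟩ => hy' k e)
  rwa [hst, hNdef] at this

end Cfsg.Agent.S3043
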