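import Cfsg.Statements.S3060
import Cfsg.Agent.H73.DStar
import Cfsg.Agent.H23.ZJ

set_option autoImplicit false
open Cfsg

namespace Cfsg.Agent.S3060

open Subgroup Cfsg.Agent.H73 Cfsg.Agent.H69

/-- The D*-Theorem. For a finite p-group S let D*(S) be the subgroup generated by the abelian subgroups A of S such that every x ∈ S with ⟨A, x⟩ of nilpotency class at most two centralizes A. Let p be an odd prime and H a finite p-stable group with Sylow p-subgroup S. Here H is p-stable in the following sense: the largest normal p-subgroup O_p(H) contains its centralizer in H, and for every normal p-subgroup P of H, every element acting quadratically on P has image in O_p(H/C_H(P)). Then D*(S) is a normal subgroup of H. -/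
theorem result {G : Type*} [Group G] [Finite G] {p : ℕ} [Fact p.Prime] (hp : p ≠ 2)
    (hc : Subgroup.centralizer (Cfsg.pCore p G : Set G) ≤ Cfsg.pCore p G)
    (hst : ∀ (P : Subgroup G) [P.Normal], IsPGroup p P → Cfsg.IsPStableOn p P) (S : Sylow p G) :
    (Cfsg.dStarOf (S : Subgroup G)).Normal := by
  rw [dStarOf_eq]
  set D := sSup (dFam (S : Subgroup G)) with hDdef
  have hD : D ∈ dFam (S : Subgroup G) := sSup_dFam_mem S.isPGroup'
  have hn : (S : Subgroup G) ≤ normalizer (D : Set G) :=
    le_normalizer.trans (normalizer_le_normalizer_sSup_dFam _)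
  have hTS := pCore_le_sylow S
  have hTp := isPGroup_pCore p G
  have hDT : D ≤ pCore p G := by
    intro d hd
    have h1 := hst (pCore p G) hTp d (by
      have := hD.2.1
      refine H21.commutator_eq_bot_iff'.2 (H21.le_centralizer_of_le_comm (V := D)
        (zpowers_le.2 hd) ((commutator_mono le_rfl (zpowers_le.2 hd)).trans ?_))
      rw [commutator_comm]
      exact H21.commutator_le_of_le_normalizer (hTS.trans hn))
    have h2 : IsPGroup p ((pCore p (G ⧸ centralizer (pCore p G : Set G))).comap
        (QuotientGroup.mk' _)) :=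
      (isPGroup_pCore p _).comap_of_ker_isPGroup _ (by
        rw [QuotientGroup.ker_mk']; exact hTp.to_le hc)
    exact le_pCore inferInstance h2 h1
  set V := normalClosure (D : Set G) with hV
  have hVle : ∀ X : Subgroup G, (∀ g, cj g D ≤ X) → V ≤ X := by
    intro X hX
    rw [hV, normalClosure, closure_le]
    intro x hx
    obtain ⟨a, ha, hax⟩ := Group.mem_conjugatesOfSet_iff.1 hx
    obtain ⟨g, rfl⟩ := isConj_iff.1 hax
    exact hX g (conj_mem_cj.2 ha)
  have hDV : D ≤ V := le_normalClosure
  have hcV : ∀ g, cj g D ≤ V := fun g => (cj_mono hDV).trans (cj_eq_of_normal g V).le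
  have hV1 : V ≤ sSup (dFam (pCore p G)) := hVle _ fun g =>
    le_sSup (cj_mem_dFam (dFam_mono hD hDT hTS) (by rw [normalizer_eq_top]; trivial))
  have hVT : V ≤ pCore p G := hV1.trans (sSup_dFam_le _)
  have hVc : IsMulCommutative V := H23.isMulCommutative_of_le (sSup_dFam_mem hTp).2.1 hV1
  have hVC : V ≤ centralizer (V : Set G) := H21.le_centralizer_of_le_comm le_rfl le_rfl
  have hVD : V ∈ dFam (S : Subgroup G) := by
    refine ⟨hVT.trans hTS, hVc, fun x hx hcl => ?_⟩
    set L := (pCore p (G ⧸ centralizer (V : Set G))).comap (QuotientGroup.mk' _) with hL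
    have hxL : x ∈ L := hst V (hTp.to_le hVT) x (le_bot_iff.1
      ((commutator_mono (commutator_mono le_sup_left le_sup_right) le_sup_right).trans hcl.le))
    have hCL : centralizer (V : Set G) ≤ L := fun c hc => by
      rw [hL, mem_comap, QuotientGroup.mk'_apply, (QuotientGroup.eq_one_iff c).2 hc]
      exact one_mem _
    have hR : SylOf p ((S : Subgroup G) ⊓ L) L :=
      (sylOf_top S).inf_normal le_top (by rw [normalizer_eq_top])
    have hDR : D ∈ dFam ((S : Subgroup G) ⊓ L) :=
      dFam_mono hD (le_inf hD.1 (hDV.trans (hVC.trans hCL))) inf_le_left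
    have : V ≤ centralizer {x} := by
      refine hVle _ fun g => ?_
      obtain ⟨k, hk, l, hl, rfl⟩ := hR.frattini' (H := ⊤) (by rw [normalizer_eq_top]) (mem_top g)
      have h1 := H23.comap_pCore_le_sup (centralizer (V : Set G)) S hl
      rw [sup_comm] at h1
      obtain ⟨s, hs, c, hc', rfl⟩ := (mem_sup_of_le_normalizer
        (by rw [normalizer_eq_top]; exact le_top)).1 h1
      have hsL : s ∈ L := by simpa using mul_mem hl (inv_mem (hCL hc'))
      have h2 : cj c D = D := cj_eq_of_mem_normalizer
        (H21.le_normalizer_of_le_centralizer (H21.centralizer_anti hDV) hc')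
      rw [← mul_assoc, cj_mul, h2]
      have h3 := cj_mem_dFam hDR (mul_mem hk (le_normalizer (⟨hs, hsL⟩ : s ∈ (S : Subgroup G) ⊓ L)))
      intro a ha
      rw [mem_centralizer_singleton_iff]
      exact h3.2.2 x ⟨hx, hxL⟩ (cl2_mono (sup_le_sup_right (hcV _) _) hcl) a ha
    exact fun a ha => mem_centralizer_singleton_iff.1 (this ha)
  rw [le_antisymm hDV (le_sSup hVD)]
  infer_instance

end Cfsg.Agent.S3060
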