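import Cfsg.Statements.S3062
import Cfsg.Agent.H73.DStar

set_option autoImplicit false
open Cfsg

namespace Cfsg.Agent.S3062

open Subgroup Cfsg.Agent.H73

/-- Let S be a finite p-group, J(S) the subgroup generated by the abelian subgroups of S of largest order and Z(J(S)) its centre. Then Z(S) ≤ D*(S) ≤ Z(J(S)), and every maximal normal abelian subgroup of S contains D*(S). -/
theorem result {S : Type*} [Group S] [Finite S] {p : ℕ} [Fact p.Prime]
    (hS : IsPGroup p S) :
    Subgroup.center S ≤ Cfsg.dStar S ∧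
    Cfsg.dStar S ≤ Cfsg.thompsonSubgroupA S ⊓ Subgroup.centralizer (Cfsg.thompsonSubgroupA S : Set S) ∧
    ∀ A : Subgroup S, A.Normal → IsMulCommutative A →
      (∀ B : Subgroup S, B.Normal → IsMulCommutative B → A ≤ B → B = A) → Cfsg.dStar S ≤ A := by
  have hT : IsPGroup p (⊤ : Subgroup S) := hS.to_subgroup ⊤
  have hD := sSup_dFam_mem hT
  have hn : (⊤ : Subgroup S) ≤ _ := le_normalizer.trans (normalizer_le_normalizer_sSup_dFam ⊤)
  rw [dStar_eq]
  refine ⟨?_, ?_, fun A hAn hA hmax => ?_⟩
  · refine le_trans ?_ (le_sSup (center_mem_dFam ⊤))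
    rw [coe_top, centralizer_univ]
    exact le_inf le_top le_rfl
  · rw [thompsonSubgroupA, ← H23.maxAb_zero_top]
    obtain ⟨U, hU⟩ := H23.maxAb_nonempty 0 (⊤ : Subgroup S)
    refine le_inf ((sSup_dFam_le_of_mem_maxAb hT hU).trans (le_sSup hU)) ?_
    refine le_centralizer_iff.1 (sSup_le fun A hA => ?_)
    have := hA.2.1
    exact H21.le_centralizer_of_le_comm le_rfl (sSup_dFam_le_of_mem_maxAb hT hA)
  · have h1 := le_centralizer_of_mem_dFam_of_normalizes hD le_top hA (le_top.trans hn)
      (by rw [normalizer_eq_top]; exact le_top)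
    have : (sSup (dFam (⊤ : Subgroup S))).Normal := normalizer_eq_top_iff.1 (top_le_iff.1 hn)
    exact le_sup_right.trans
      (hmax _ inferInstance (H23.isMulCommutative_sup hA hD.2.1 h1) le_sup_left).le

end Cfsg.Agent.S3062
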