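import Cfsg.Statements.S3063
import Cfsg.Agent.H21.Basic
import Cfsg.Agent.H23.MaxAb

set_option autoImplicit false
open Cfsg

namespace Cfsg.Agent.S3063

open Subgroup
open scoped commutatorElement

theorem thompson_lemma {S : Type*} [Group S] [Finite S] {A : Subgroup S}
    (hA : A ∈ maxAbelianSubgroups S) (x : S) {M : Subgroup S}
    (hM : M = closure {g | ∃ a ∈ A, ⁅x, a⁆ = g}) (hMc : IsMulCommutative M)
    (hAM : A ≤ normalizer (M : Set S)) :
    M ⊔ A ⊓ centralizer (M : Set S) ∈ maxAbelianSubgroups S := by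
  classical
  set C := A ⊓ centralizer (M : Set S) with hC
  have hAc := hA.1
  have hmem : ∀ a ∈ A, ⁅x, a⁆ ∈ M := fun a ha => hM ▸ subset_closure ⟨a, ha, rfl⟩
  have hco : ∀ a b : S, ⁅x, a * b⁆ = ⁅x, a⁆ * (a * ⁅x, b⁆ * a⁻¹) := fun a b => by
    simp only [commutatorElement_def]; group
  have h1 : ∀ b ∈ A, ⁅x, b⁆ ∈ A → b ∈ C := by
    intro b hb hxb
    refine ⟨hb, ?_⟩
    have : M ≤ centralizer {b} := by
      rw [hM, closure_le]
      rintro _ ⟨a, ha, rfl⟩
      rw [SetLike.mem_coe, mem_centralizer_singleton_iff]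
      have e1 := hco a b
      have e2 := hco b a
      rw [H23.comm_of_mem hAc ha hb, e2, H23.comm_of_mem hAc ha hxb, mul_inv_cancel_right,
        H23.comm_of_mem hMc (hmem a ha) (hmem b hb), mul_right_inj, mul_inv_eq_iff_eq_mul] at e1
      exact e1.symm
    exact fun m hm => mem_centralizer_singleton_iff.1 (this hm)
  have h2 : C.relIndex A ≤ A.relIndex M := by
    refine Nat.card_le_card_of_injective (fun q : A ⧸ C.subgroupOf A =>
      (QuotientGroup.mk ⟨⁅x, (q.out : S)⁆, hmem _ q.out.2⟩ : M ⧸ A.subgroupOf M)) ?_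
    intro q r h
    rw [← q.out_eq, ← r.out_eq]
    have h3 := QuotientGroup.eq.1 h
    rw [mem_subgroupOf] at h3
    apply QuotientGroup.eq.2
    rw [mem_subgroupOf]
    apply h1 _ (q.out⁻¹ * r.out).2
    have e := hco q.out ((q.out⁻¹ * r.out : A) : S)
    simp only [coe_mul, coe_inv, mul_inv_cancel_left] at e h3 ⊢
    rw [e, inv_mul_cancel_left] at h3
    have := A.mul_mem (A.mul_mem (A.inv_mem q.out.2) h3) q.out.2
    simpa [mul_assoc] using this
  refine ⟨H23.isMulCommutative_sup hMc (H23.isMulCommutative_of_le hAc inf_le_left)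
    (le_centralizer_iff.1 inf_le_right), fun B hB => (hA.2 B hB).trans ?_⟩
  have h3 := H21.card_sup_mul_card_inf (X := M) (Y := C) (inf_le_left.trans hAM)
  have h4 : M ⊓ C = A ⊓ M := by
    apply le_antisymm (le_inf (inf_le_right.trans inf_le_left) inf_le_left)
    exact le_inf inf_le_right (inf_le_inf_left _ (H21.le_centralizer_of_le_comm le_rfl le_rfl))
  have h5 := H21.card_inf_mul_relIndex A M
  have h6 := H21.card_mul_relIndex_of_le (X := C) (Y := A) inf_le_left
  rw [h4, ← h5] at h3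
  have h7 : Nat.card ↥(M ⊔ C) = A.relIndex M * Nat.card C :=
    Nat.eq_of_mul_eq_mul_left (H21.card_pos' (A ⊓ M)) (by rw [mul_comm, h3]; ring)
  rw [h7, ← h6, mul_comm]
  exact Nat.mul_le_mul_right _ h2

/-- A weak replacement Theorem for metabelian p-groups: let S be a finite p-group whose derived subgroup is abelian and A an abelian subgroup of S of largest possible order. Then the normal closure of A in S contains an abelian subgroup B of the same order as A that is normal in S. -/
theorem result {S : Type*} [Group S] [Finite S] {p : ℕ} [Fact p.Prime]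
    (hS : IsPGroup p S) (hmeta : IsMulCommutative ↥(commutator S))
    (A : Subgroup S) (hA : A ∈ Cfsg.maxAbelianSubgroups S) :
    ∃ B ∈ Cfsg.maxAbelianSubgroups S, B.Normal ∧ B ≤ Subgroup.normalClosure (A : Set S) := by
  obtain ⟨B, ⟨hB, hBN⟩, hmax⟩ := Set.exists_max_image
    {B : Subgroup S | B ∈ maxAbelianSubgroups S ∧ B ≤ normalClosure (A : Set S)}
    (fun B => Nat.card ↥(B ⊓ commutator S)) (Set.toFinite _) ⟨A, hA, le_normalClosure⟩
  refine ⟨B, hB, ⟨fun b hb x => ?_⟩, hBN⟩
  set M := closure {g | ∃ a ∈ B, ⁅x, a⁆ = g} with hM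
  have hM1 : M ≤ commutator S := by
    rw [hM, closure_le]
    rintro _ ⟨a, -, rfl⟩
    exact commutator_mem_commutator (mem_top _) (mem_top _)
  have hM2 : M ≤ normalClosure (A : Set S) := by
    rw [hM, closure_le]
    rintro _ ⟨a, ha, rfl⟩
    exact mul_mem (Normal.conj_mem inferInstance _ (hBN ha) x) (inv_mem (hBN ha))
  have hBM : B ≤ normalizer (M : Set S) := by
    intro c hc
    apply H23.mem_normalizer_of_conj
    have : M ≤ M.comap (MulAut.conj c).toMonoidHom := by
      rw [hM, closure_le]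
      rintro _ ⟨a, ha, rfl⟩
      have e : c * ⁅x, a⁆ * c⁻¹ = ⁅x, c⁆⁻¹ * ⁅x, c * a⁆ := by
        simp only [commutatorElement_def]; group
      change c * ⁅x, a⁆ * c⁻¹ ∈ closure {g | ∃ a ∈ B, ⁅x, a⁆ = g}
      rw [e]
      exact mul_mem (inv_mem (subset_closure ⟨c, hc, rfl⟩))
        (subset_closure ⟨_, mul_mem hc ha, rfl⟩)
    exact fun m hm => this hm
  have h1 := thompson_lemma hB x hM (H23.isMulCommutative_of_le hmeta hM1) hBM
  have h2 := hmax _ ⟨h1, sup_le hM2 (inf_le_left.trans hBN)⟩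
  have h3 : B ⊓ commutator S ≤ (M ⊔ B ⊓ centralizer (M : Set S)) ⊓ commutator S :=
    le_inf (le_sup_of_le_right (le_inf inf_le_left
      (H21.le_centralizer_of_le_comm inf_le_right hM1))) inf_le_right
  have h4 := H21.eq_of_le_of_card_le h3 h2
  have h5 : M ≤ B := (le_inf le_sup_left hM1).trans (h4.ge.trans inf_le_left)
  have h6 := B.mul_mem (h5 (subset_closure ⟨b, hb, rfl⟩)) hb
  simpa [commutatorElement_def] using h6

end Cfsg.Agent.S3063
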