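import Cfsg.Statements.S3067
import Cfsg.Agent.H59.FixInv3
-- import your own Cfsg.Agent.* helpers here

set_option autoImplicit false
open Cfsg

namespace Cfsg.Agent.S3067
open Subgroup

/-- Let G be a finite non-abelian simple group, τ an involution of G, and α a nontrivial automorphism of G whose order is coprime to the order of G. Then α moves some element of the centralizer of τ: α does not fix C_G(τ) elementwise. -/
theorem result {G : Type*} [Group G] [Finite G] [IsSimpleGroup G]
    (hG : ¬ IsMulCommutative G) (τ : G) (hτ : orderOf τ = 2) (α : MulAut G) (hα : α ≠ 1)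
    (hcop : (orderOf α).Coprime (Nat.card G)) :
    ∃ c ∈ Subgroup.centralizer ({τ} : Set G), α c ≠ c := by
  by_contra hn
  push Not at hn
  haveI : Finite (MulAut G) := Finite.of_injective (fun f : MulAut G => (f : G → G)) DFunLike.coe_injective
  obtain ⟨r, hr, hd⟩ := Nat.exists_prime_and_dvd (fun e => hα (orderOf_eq_one_iff.1 e))
  obtain ⟨m, hm⟩ := hd
  have h0 : 0 < orderOf α := orderOf_pos α
  have hβ : α ^ m ≠ 1 := fun e => by
    have h1 := Nat.le_of_dvd (Nat.pos_of_mul_pos_left (hm ▸ h0)) (orderOf_dvd_of_pow_eq_one e)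
    have h2 := hr.one_lt
    have h3 : 0 < m := Nat.pos_of_mul_pos_left (hm ▸ h0)
    nlinarith
  have hit : ∀ (β : MulAut G) (n : ℕ) (g : G), β^[n] g = (β ^ n) g := fun β n g => by
    induction n with
    | zero => rfl
    | succ n ih => rw [Function.iterate_succ_apply', ih, pow_succ', MulAut.mul_apply]
  have hc : H59.FixInv.Cop (α ^ m).toMonoidHom r := ⟨hr, fun g => by
    show (α ^ m : MulAut G)^[r] g = g
    rw [hit, ← pow_mul, mul_comm, ← hm, pow_orderOf_eq_one]; rfl,
    fun h => hr.one_lt.ne' ((hcop.coprime_dvd_left ⟨m, hm⟩).eq_one_of_dvd h)⟩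
  have h1 := H59.FixInv.concl G _ r hc τ hτ (fun c e => by
    show (α ^ m : MulAut G) c = c
    rw [← hit]
    exact Function.iterate_fixed (hn c (mem_centralizer_singleton_iff.2 e)) m)
  rcases (inferInstance : (Cfsg.pPrimeCore 2 G).Normal).eq_bot_or_eq_top with h | h
  · refine hβ (MulEquiv.ext fun g => ?_)
    have := h1 g
    rw [h, mem_bot, mul_inv_eq_one] at this
    exact this
  · have := H8.odd_card_pPrimeCore.of_dvd_nat ((Cfsg.pPrimeCore 2 G).orderOf_dvd_natCard
      (x := τ) (h ▸ mem_top τ))
    rw [hτ] at this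
    exact absurd this (by decide)


end Cfsg.Agent.S3067
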