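import Cfsg.Statements.S3080
import Cfsg.Agent.H73.ZJSC
import Cfsg.Agent.H61.Transfer
import Cfsg.Agent.H69.Cores

set_option autoImplicit false
open Cfsg

namespace Cfsg.Agent.S3080

open Subgroup Cfsg.Agent.H73 Cfsg.Agent.H72 Cfsg.Agent.H61

/-- The subgroup generated by the elements of `R` conjugate into `D`. -/
def dd {G : Type*} [Group G] (D R : Subgroup G) : Subgroup G :=
  closure {x | x ∈ R ∧ ∃ g : G, g * x * g⁻¹ ∈ D}

theorem dd_le {G : Type*} [Group G] (D R : Subgroup G) : dd D R ≤ R :=
  (closure_le _).2 fun _ h => h.1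

theorem dd_cj {G : Type*} [Group G] (D R : Subgroup G) (g : G) : dd D (cj g R) = cj g (dd D R) := by
  rw [dd, dd, cj, cj, MonoidHom.map_closure]
  congr 1
  ext x
  constructor
  · rintro ⟨⟨y, hy, rfl⟩, k, hk⟩
    exact ⟨y, ⟨hy, k * g, by simpa [mul_assoc] using hk⟩, rfl⟩
  · rintro ⟨y, ⟨hy, k, hk⟩, rfl⟩
    exact ⟨⟨y, hy, rfl⟩, k * g⁻¹, by simpa [mul_assoc] using hk⟩

theorem dd_eq {G : Type*} [Group G] {D S R : Subgroup G} (hD : IsStronglyClosed D S) (hR : R ≤ S) :
    dd D R = D ⊓ R := by
  refine le_antisymm ((closure_le _).2 ?_) fun x hx => subset_closure ⟨hx.2, 1, by simpa using hx.1⟩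
  rintro x ⟨hx, g, hg⟩
  have := hD.2 _ hg g⁻¹ (by simpa [mul_assoc] using hR hx)
  exact ⟨by simpa [mul_assoc] using this, hx⟩

theorem main {G : Type*} [Group G] [Finite G] {p : ℕ} [Fact p.Prime] (hp : p ≠ 2) {e : ℕ}
    (he : Odd e ∨ e = 0) (hpe : p ∣ e) (P : Sylow p G) (D : Subgroup G)
    (hD : IsStronglyClosed D (P : Subgroup G)) (hst : H62.Stab p G)
    (hc : ∀ U : Subgroup G, U ≤ (P : Subgroup G) → U ≠ ⊥ →
      IsPConstrained p ↥(normalizer (U : Set G))) : CFin ⊤ (H23.zj e D) P := by
  classical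
  by_cases hD0 : D = ⊥
  · have : H23.zj e D = ⊥ := le_bot_iff.1 (hD0 ▸ H23.zj_le e D)
    rw [this]
    exact cfin_of_normal _ _
  let W : Subgroup G → Subgroup G := fun R => if dd D R = ⊥ then R else H23.zj e (dd D R)
  have hW : IsConjugacyFunctor p W := by
    intro R hR
    by_cases h : dd D R = ⊥
    · refine ⟨by simp [W, h], by simp [W, h], fun g => ?_⟩
      have := (cj_eq_bot_iff g).2 h
      rw [← dd_cj] at this
      simp only [W, h, this, if_true]
    · refine ⟨?_, fun _ => ?_, fun g => ?_⟩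
      · simpa [W, h] using (H23.zj_le e _).trans (dd_le D R)
      · simpa [W, h] using H23.zj_ne_bot hpe (hR.to_le (dd_le D R)) h
      · have := mt (cj_eq_bot_iff g).1 h
        rw [← dd_cj] at this
        simp only [W, h, this, if_false]
        rw [← H23.zj_map (MulAut.conj g).injective]
        exact congrArg _ (dd_cj D R g)
  have hZ := H69.inf_centralizer_ne_bot P.isPGroup' (P.isPGroup'.to_le hD.1)
    (le_normalizer.trans (sc_normalizer hD)) hD0
  have hWe : ∀ T ≤ (P : Subgroup G), W (P ⊓ normalizer (T : Set G)) =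
      H23.zj e (D ⊓ (P ⊓ normalizer (T : Set G))) := by
    intro T hT
    have h1 := dd_eq hD (inf_le_left : (P : Subgroup G) ⊓ normalizer (T : Set G) ≤ P)
    have h2 : D ⊓ (P ⊓ normalizer (T : Set G)) ≠ ⊥ := fun h => hZ (le_bot_iff.1 (h ▸
      le_inf inf_le_left (le_inf (inf_le_left.trans hD.1) (inf_le_right.trans
        ((centralizer_anti hT).trans (centralizer_le_normalizer _))))))
    simp only [W, h1, h2, if_false]
  have hWP : W P = H23.zj e D := by
    have := hWe ⊥ bot_le
    rwa [normalizer_eq_top, inf_top_eq, inf_eq_left.2 hD.1] at this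
  have key := fusion_of_wp hW (isSylowIn_top P) fun T hT0 hT => by
    have hFN := hT.fn
    rw [controlsStrongFusionIn_iff hW hFN, hWe T hT.le, top_inf_eq]
    rw [FN, top_inf_eq] at hFN
    obtain ⟨R, hR⟩ := hFN.exists_sylow
    refine cfin_of_sub inf_le_right ((H23.zj_le e _).trans (inf_le_right.trans inf_le_right)) ?_
    rw [← zj_subgroupOf e (inf_le_right.trans inf_le_right), ← hR]
    exact cfin_zj_of_constrained hp he (stab_sub hst _) (hc T hT.le hT0) R
      (hR ▸ sc_comap (sc_inf hD inf_le_left) _)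
  rw [controlsStrongFusionIn_iff hW (isSylowIn_top P), hWP] at key
  exact key

/-- Let p be an odd prime, G a finite group that is p-stable in the normalizer form, P a Sylow p-subgroup such that N_G(U) is p-constrained for every nontrivial subgroup U of P, and D a subgroup of P strongly closed in P with respect to G. Then N_G(Z(J(D))) controls strong G-fusion in P (for every subset A of P and every g ∈ G with gAg⁻¹ ⊆ P, some element of that normalizer acts on A exactly as g does; J(D) is generated by the abelian subgroups of D of largest order), and so does N_G(Ω₁(Z(J_e(D)))) (J_e(D) generated by the elementary abelian subgroups of largest order). -/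
theorem result {G : Type*} [Group G] [Finite G] {p : ℕ} [Fact p.Prime] (hp : p ≠ 2) (P : Sylow p G) (D : Subgroup G) (hD : Cfsg.IsStronglyClosed D (P : Subgroup G)) (hst : Cfsg.IsNormalizerPStable p G) (hc : ∀ U : Subgroup G, U ≤ (P : Subgroup G) → U ≠ ⊥ → Cfsg.IsPConstrained p ↥(Subgroup.normalizer (U : Set G))) : (∀ A : Set G, A ⊆ (P : Subgroup G) → Cfsg.ControlsStrongFusionOf (Subgroup.normalizer ((Cfsg.centerThompsonAOf D) : Set G)) (P : Subgroup G) A) ∧ (∀ A : Set G, A ⊆ (P : Subgroup G) → Cfsg.ControlsStrongFusionOf (Subgroup.normalizer ((Cfsg.omegaOne p (Cfsg.centerThompsonOf p D)) : Set G)) (P : Subgroup G) A) := by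
  rw [H23.centerThompsonAOf_eq, H23.omegaOne_centerThompsonOf_eq]
  have h := H62.stab_iff.1 hst
  exact ⟨controls_of_cfin (main hp (Or.inr rfl) (dvd_zero p) P D hD h hc), controls_of_cfin
    (main hp (Or.inl ((Fact.out : p.Prime).odd_of_ne_two hp)) dvd_rfl P D hD h hc)⟩

end Cfsg.Agent.S3080
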