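import Cfsg.Statements.S3081
import Cfsg.Agent.H73.ZJSC
import Cfsg.Agent.H60.ZJFusion
import Cfsg.Agent.H62.Misc
import Cfsg.Agent.H72.Core

set_option autoImplicit false
open Cfsg

namespace Cfsg.Agent.S3081

open Subgroup Cfsg.Agent.H73 Cfsg.Agent.H72 Cfsg.Agent.H61

theorem main {p : ℕ} [Fact p.Prime] (hp : p ≠ 2) {e : ℕ} (he : Odd e ∨ e = 0)
    (G : Type*) [Group G] [Finite G] : ¬ Involves (qd p) G → ∀ (S : Sylow p G) (D : Subgroup G),
      IsStronglyClosed D (S : Subgroup G) → CFin ⊤ (H23.zj e D) S := by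
  refine H2.card_induction (P := fun G _ _ => ¬ Involves (qd p) G → ∀ (S : Sylow p G)
    (D : Subgroup G), IsStronglyClosed D (S : Subgroup G) → CFin ⊤ (H23.zj e D) S) G ?_
  intro X _ _ ih hX S D hD
  have hS := isSylowIn_top S
  by_cases hO : pPrimeCore p X = ⊥
  swap
  · have hs := QuotientGroup.mk'_surjective (pPrimeCore p X)
    exact cfin_zj_of_quot _ hs H22.coprime_ker_mk' S.isPGroup' hD
      (ih _ (H2.card_quotient_lt _ hO) (fun h => hX (H62.inv_trans h (H62.inv_quot _)))
        (S.mapSurjective hs) _ (sc_map hD S.isPGroup' _ hs H22.coprime_ker_mk'))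
  by_cases hc : H62.Constr p X
  · have := zj_normal_sc hp he (H60.qStable_of_not_involves hp hX) hc S hD
    exact cfin_of_normal _ _
  have hprop : ∀ H : Subgroup X, (S : Subgroup X) ≤ H → H ≠ ⊤ → CFin H (H23.zj e D) S := by
    intro H hSH hH
    refine cfin_of_sub hSH ((H23.zj_le e D).trans (hD.1.trans hSH)) ?_
    rw [← zj_subgroupOf e (hD.1.trans hSH)]
    exact ih H (H2.card_lt_of_ne_top hH) (fun h => hX (H62.inv_trans h (H62.inv_sub _)))
      (S.subtype hSH) _ (sc_comap hD _)
  have hctl : ∀ H : Subgroup X, (S : Subgroup X) ≤ H → H ≠ ⊤ → ∀ B ≤ (S : Subgroup X), ∀ x ∈ H,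
      cj x B ≤ S → Ctl (· ∈ normalizer (H23.zj e D : Set X)) S B x := by
    intro H hSH hH B hB x hx hxB
    obtain ⟨y, hy, hy2⟩ := hprop H hSH hH B hB x hx hxB
    exact (Ctl.single hy.2 hB (hy2.cj_eq ▸ hxB)).of_same hy2
  suffices h : ∀ A ≤ (S : Subgroup X), ∀ g, cj g A ≤ S →
      Ctl (· ∈ normalizer (H23.zj e D : Set X)) S A g by
    intro A hA g _ hg
    obtain ⟨x, hx, hx2⟩ := (h A hA g hg).exists_mem (K := normalizer (H23.zj e D : Set X))
      fun _ h => h
    exact ⟨x, ⟨mem_top x, hx⟩, hx2⟩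
  obtain ⟨h2, H, hSH, hH, hfac⟩ := H62.exists_proper_of_not_constr S hO hc
  by_cases h4 : (S : Subgroup X) ⊔ centralizer (pCore p X : Set X) = ⊤
  swap
  · intro A hA g hg
    obtain ⟨c, hc, m, hm, rfl⟩ := hfac g
    exact H62.ctl_of_factor hS le_sup_left hSH (hctl _ le_sup_left h4) (hctl _ hSH hH) hA
      (mem_sup_right hc) hm hg
  set Q := pCore p X with hQ
  have hQS : Q ≤ S := H22.pCore_le_sylow S
  set π := QuotientGroup.mk' Q with hπ
  have hπs : Function.Surjective π := QuotientGroup.mk'_surjective Q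
  have hker : π.ker = Q := QuotientGroup.ker_mk' Q
  have hS1 : (S : Subgroup X).map π ≠ ⊥ := by
    rw [Ne, Subgroup.map_eq_bot_iff, hker]
    exact fun h => h2 (le_antisymm h hQS)
  have hS' : IsPGroup p ((S : Subgroup X).map π) := S.isPGroup'.map π
  have hcop : ∀ y : X, (orderOf y).Coprime p → y ∈ centralizer (Q : Set X) := by
    intro y hy
    refine (QuotientGroup.eq_one_iff y).1 (eq_one_of_mem_isPGroup
      (S.isPGroup'.map (QuotientGroup.mk' (centralizer (Q : Set X)))) ?_
      (H4.coprime_orderOf_map (QuotientGroup.mk' _) hy))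
    have : y ∈ ((S : Subgroup X).map (QuotientGroup.mk' (centralizer (Q : Set X)))).comap
        (QuotientGroup.mk' _) := by
      rw [comap_map_eq, QuotientGroup.ker_mk', h4]; exact mem_top y
    exact this
  set H₂ := (normalizer (H23.zj 0 ((S : Subgroup X).map π) : Set (X ⧸ Q))).comap π with hH₂
  have hSH₂ : (S : Subgroup X) ≤ H₂ := map_le_iff_le_comap.1
    (le_normalizer.trans (H23.normalizer_le_normalizer_zj 0 _))
  have hH₂' : H₂ ≠ ⊤ := by
    intro h6
    have h7 : normalizer (H23.zj 0 ((S : Subgroup X).map π) : Set (X ⧸ Q)) = ⊤ := by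
      rw [← map_comap_eq_self_of_surjective hπs (normalizer _), ← hH₂, h6,
        map_top_of_surjective π hπs]
    have h8 := H62.le_pCore_of_norm_eq_top (hS'.to_le (H23.zj_le 0 _)) h7
    rw [H22.pCore_quotient_pCore] at h8
    exact H23.zj_ne_bot (dvd_zero p) hS' hS1 (le_bot_iff.1 h8)
  have hcf := cfin_of_controls (H60.zj_controls_of_not_involves hp
    (fun h => hX (H62.inv_trans h (H62.inv_quot Q))) (S.mapSurjective hπs))
  rw [H23.centerThompsonAOf_eq] at hcf
  have key : ∀ U ≤ (S : Subgroup X), Q ≤ U → FN p ⊤ S U → ∀ g ∈ normalizer (U : Set X),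
      Ctl (· ∈ normalizer (H23.zj e D : Set X)) S U g := by
    intro U hU hQU hFN g hg
    obtain ⟨x, ⟨-, hx1⟩, hc2⟩ := hcf (U.map π) (map_mono hU) (π g) (mem_top _)
      (by rw [← H62.map_cj', cj_eq_of_mem_normalizer hg]; exact map_mono hU)
    obtain ⟨x, rfl⟩ := hπs x
    have hUc : (U.map π).comap π = U := by
      rw [comap_map_eq, hker]; exact sup_eq_left.2 hQU
    have hz : g⁻¹ * x ∈ (centralizer (U.map π : Set (X ⧸ Q))).comap π := by
      have := same_iff.1 hc2.symm
      rwa [← map_inv, ← map_mul] at this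
    have hKN : (centralizer (U.map π : Set (X ⧸ Q))).comap π ≤ normalizer (U : Set X) := by
      rw [← hUc, H62.norm_comap_of_surj π hπs, hUc]
      exact comap_mono (centralizer_le_normalizer _)
    have hNK : ⊤ ⊓ normalizer (U : Set X) ≤
        normalizer ((centralizer (U.map π : Set (X ⧸ Q))).comap π : Set X) := by
      rw [H62.norm_comap_of_surj π hπs, top_inf_eq, ← map_le_iff_le_comap]
      exact (le_normalizer_map π).trans (normalizer_le_normalizer_centralizer _)
    have hT := hFN.inf_normal (le_inf le_top hKN) hNK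
    obtain ⟨t, ht, d, hd, htd⟩ := H62.exists_mul_of_coprime_mem
      (C := centralizer (U : Set X)) hT (by
      intro y hy hy'
      refine H4.mem_centralizer_of_stabilizes H22.isPGroup_pCore hy' (hcop y hy') fun a ha => ?_
      rw [← hQ, ← hker, MonoidHom.mem_ker]
      have := hy _ ⟨a, ha, rfl⟩
      simp only [map_mul, map_inv]
      rw [← this]; group) ((Subgroup.inv_mem_iff _).2 hz)
    have hg' : g = x * t * d := by
      rw [mul_assoc, ← htd]; group
    have hs : Same U (x * t) g := same_iff.2 (by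
      rw [hg', ← mul_assoc, inv_mul_cancel, one_mul]
      exact hd)
    refine (hctl H₂ hSH₂ hH₂' U hU (x * t) (mul_mem hx1 (hSH₂ ht.1.1)) ?_).of_same hs
    rwa [hs.cj_eq, cj_eq_of_mem_normalizer hg]
  intro A hA g hg
  have hg' : cj g (A ⊔ Q) ≤ S := by
    rw [cj_sup, cj_eq_of_normal g Q]; exact sup_le hg hQS
  refine Ctl.restrict ?_ (le_sup_left : A ≤ A ⊔ Q)
  refine (alperin_FN hS (sup_le hA hQS) (mem_top g) hg').induct
    (E := Ctl (· ∈ normalizer (H23.zj e D : Set X)) S) (Ctl.cent _ _ (one_mem _))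
    (fun _ _ => Ctl.comp) ?_
  rintro c x - ⟨U, ⟨hU1, hU2⟩, hU3, -, hU4⟩
  refine (key U hU1 (le_trans ?_ hU3) hU2 x hU4).restrict hU3
  rw [cj_sup, cj_eq_of_normal c Q]; exact le_sup_right

/-- Let p be an odd prime, G a finite group in which Qd(p) (the natural semidirect product of an elementary abelian group of order p² by SL₂(p)) is not involved, P a Sylow p-subgroup and D a subgroup of P strongly closed in P with respect to G. Then N_G(Z(J(D))) controls strong G-fusion in P (for every subset A of P and every g ∈ G with gAg⁻¹ ⊆ P, some element of that normalizer acts on A exactly as g does; J(D) is generated by the abelian subgroups of D of largest order), and so does N_G(Ω₁(Z(J_e(D)))) (J_e(D) generated by the elementary abelian subgroups of largest order). -/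
theorem result {G : Type*} [Group G] [Finite G] {p : ℕ} [Fact p.Prime] (hp : p ≠ 2) (P : Sylow p G) (D : Subgroup G) (hD : Cfsg.IsStronglyClosed D (P : Subgroup G)) (hqd : ¬ Cfsg.Involves ↥(Cfsg.qd p) G) : (∀ A : Set G, A ⊆ (P : Subgroup G) → Cfsg.ControlsStrongFusionOf (Subgroup.normalizer ((Cfsg.centerThompsonAOf D) : Set G)) (P : Subgroup G) A) ∧ (∀ A : Set G, A ⊆ (P : Subgroup G) → Cfsg.ControlsStrongFusionOf (Subgroup.normalizer ((Cfsg.omegaOne p (Cfsg.centerThompsonOf p D)) : Set G)) (P : Subgroup G) A) := by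
  rw [H23.centerThompsonAOf_eq, H23.omegaOne_centerThompsonOf_eq]
  exact ⟨controls_of_cfin (main hp (Or.inr rfl) G hqd P D hD), controls_of_cfin
    (main hp (Or.inl ((Fact.out : p.Prime).odd_of_ne_two hp)) G hqd P D hD)⟩

end Cfsg.Agent.S3081
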