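import Cfsg.Statements.S3082
import Cfsg.Agent.H73.ZJSC
import Cfsg.Agent.H4.NPCFunctor
import Cfsg.Agent.H4.Stable
import Cfsg.Agent.S0626

set_option autoImplicit false
open Cfsg

namespace Cfsg.Agent.S3082

open Subgroup Cfsg.Agent.H73

theorem main {G : Type*} [Group G] [Finite G] {p : ℕ} [Fact p.Prime] (hp : p ≠ 2) {e : ℕ}
    (he : Odd e ∨ e = 0) (hpe : p ∣ e) (P : Sylow p G) (D : Subgroup G)
    (hD : IsStronglyClosed D (P : Subgroup G))
    (h : HasNormalPComplement p (normalizer (H23.zj e D : Set G))) : HasNormalPComplement p G := by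
  refine H4.hasNormalPComplement_of_reduction (fun G _ _ S => ∃ D : Subgroup G,
    IsStronglyClosed D S ∧ HasNormalPComplement p (normalizer (H23.zj e D : Set G)))
    ?_ ?_ ?_ ?_ G P ⟨D, hD, h⟩
  · rintro G _ _ S H hS hSH ⟨D, hD, h⟩
    refine ⟨D.subgroupOf H, sc_comap hD _,
      H4.npc_normalizer_of_injective H.subtype H.subtype_injective _ ?_⟩
    rwa [← H23.zj_map H.subtype_injective, map_subgroupOf_eq_of_le (hD.1.trans hSH)]
  · intro G _ _ S hS hS1 h
    exact ⟨S, sc_self S, h _ (H23.zj_ne_bot hpe hS hS1) (H23.zj_le e S)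
      (H23.normalizer_le_normalizer_zj e S)⟩
  · rintro G _ _ S K _ hS hK ⟨D, hD, h⟩
    have hk : (Nat.card (QuotientGroup.mk' K).ker).Coprime p := by rwa [QuotientGroup.ker_mk']
    refine ⟨_, sc_map hD hS _ (QuotientGroup.mk'_surjective K) hk, ?_⟩
    rw [H23.zj_map_of_injOn _ e D
      (by rw [inf_comm]; exact H22.inf_eq_bot_of_pgroup_coprime (hS.to_le hD.1) hk)]
    exact H4.npc_normalizer_map_of_coprime _ (QuotientGroup.mk'_surjective K) hk
      (hS.to_le ((H23.zj_le e D).trans hD.1)) h
  · rintro G _ _ P L hL ⟨D, hD, h⟩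
    have := zj_normal_sc hp he (H23.qStable_of_isPStableOn
      (H4.isPStableOn_of_class (fun G _ _ => ∀ T : Sylow 2 G, IsMulCommutative T)
        (fun G _ _ N _ h => H4.sylow_isMulCommutative_quotient h N)
        (fun G _ _ h => (S0626.result hp h).1) G (hL.sylow_isMulCommutative hp.symm))) hL.cent P hD
    rwa [normalizer_eq_top, H3.hasNormalPComplement_top_iff] at h

/-- The Glauberman–Thompson normal p-complement criterion for strongly closed subgroups, p odd. Let G be a finite group, P a Sylow p-subgroup and D a subgroup of P strongly closed in P with respect to G. If N_G(Z(J(D))) has a normal p-complement (J(D) generated by the abelian subgroups of D of largest order), or N_G(Ω₁(Z(J_e(D)))) has one (J_e(D) generated by the elementary abelian subgroups of largest order), then G has a normal p-complement. -/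
theorem result {G : Type*} [Group G] [Finite G] {p : ℕ} [Fact p.Prime] (hp : p ≠ 2) (P : Sylow p G) (D : Subgroup G) (hD : Cfsg.IsStronglyClosed D (P : Subgroup G)) (h : Cfsg.HasNormalPComplement p ↥(Subgroup.normalizer ((Cfsg.centerThompsonAOf D) : Set G)) ∨ Cfsg.HasNormalPComplement p ↥(Subgroup.normalizer ((Cfsg.omegaOne p (Cfsg.centerThompsonOf p D)) : Set G))) : Cfsg.HasNormalPComplement p G := by
  rw [H23.centerThompsonAOf_eq, H23.omegaOne_centerThompsonOf_eq] at h
  rcases h with h | h
  · exact main hp (Or.inr rfl) (dvd_zero p) P D hD h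
  · exact main hp (Or.inl ((Fact.out : p.Prime).odd_of_ne_two hp)) dvd_rfl P D hD h

end Cfsg.Agent.S3082
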