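import Cfsg.Statements.S3144
import Cfsg.Agent.STD.O8Main
import Cfsg.Agent.STD.O8Mod
-- import your own Cfsg.Agent.* helpers here

set_option autoImplicit false
open Cfsg

namespace Cfsg.Agent.S3144

/-- Let G be a finite group with no nontrivial normal subgroup of odd order and L a standard subgroup of G which is a double cover of the simple orthogonal group PΩ⁺ of dimension 8 over the field with 2 elements (the centre of L has order 2 and L modulo its centre is isomorphic to that group), and suppose the centralizer of L in G has cyclic Sylow 2-subgroups. Then L is normal in G. -/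
theorem result {G : Type*} [Group G] [Finite G] (hO : Cfsg.oddCore G = ⊥) (L : Subgroup G) (hL : Cfsg.IsStandardSubgroup L)
    {F : Type*} [Field F] [Fintype F] (hF : Fintype.card F = 2)
    (hZ : Nat.card ↥(Subgroup.center ↥L) = 2) (hLX : Nonempty ((↥L ⧸ Subgroup.center ↥L) ≃* Cfsg.POmega F (Cfsg.quadFormPlus 4 F)))
    (hR : ∀ R : Sylow 2 ↥(Subgroup.centralizer (L : Set G)), IsCyclic ↥(R : Subgroup ↥(Subgroup.centralizer (L : Set G)))) :
    L.Normal := by
  classical
  obtain ⟨f⟩ := hLX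
  obtain ⟨e⟩ := STD.O8.equiv_X (Group.isPerfect_def.1 hL.1.1) hZ (f.trans
    (H29.pomegaEquiv (ZMod.ringEquivOfPrime F Nat.prime_two hF).symm _ _ (H29.quadFormPlus_comp 4 _)))
  let Φ : STD.O8.G0 → G := fun a => if h : a ∈ STD.O8.X then e.symm ⟨a, h⟩ else 1
  have p1 : ∀ {a} (h : a ∈ STD.O8.X), Φ a = e.symm ⟨a, h⟩ := fun h => dif_pos h
  have p2 : ∀ {k}, STD.O8.Acts Φ k 1 → k ∈ Subgroup.centralizer (L : Set G) := fun hk a ha => by
    have := hk _ (e ⟨a, ha⟩).2
    rw [one_mul, inv_one, mul_one, p1 (e ⟨a, ha⟩).2, Subtype.coe_eta, e.symm_apply_apply] at this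
    exact (mul_inv_eq_iff_eq_mul.1 this).symm
  have mul : ∀ {a b}, a ∈ STD.O8.X → b ∈ STD.O8.X → Φ (a * b) = Φ a * Φ b := fun ha hb => by
    rw [p1 ha, p1 hb, p1 (mul_mem ha hb), ← Subgroup.coe_mul, ← map_mul]; rfl
  have inj : ∀ {a}, a ∈ STD.O8.X → Φ a = 1 → a = 1 := fun ha h =>
    congrArg Subtype.val ((map_eq_one_iff _ e.symm.injective).1 (Subtype.ext ((p1 ha).symm.trans h)))
  have hm := STD.O8.m_X.1
  have ht : orderOf (Φ STD.O8.m) = 2 := H8.orderOf_two_of
    (by rw [← mul hm hm, STD.O8.m_sq.1, p1 (one_mem _)]; exact congrArg Subtype.val e.symm.map_one)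
    fun h => STD.O8.m_sq.2 (inj hm h)
  have tK : Φ STD.O8.m ∈ Subgroup.centralizer (L : Set G) := fun a ha => by
    have h1 := (e ⟨a, ha⟩).2
    have := congrArg Φ (STD.O8.m_comm (STD.O8.X_le h1))
    rwa [mul h1 hm, mul hm h1, p1 h1, Subtype.coe_eta, e.symm_apply_apply] at this
  have h : STD.O8.Ctx Φ := by
    refine ⟨mul, inj, fun {n} hn => ?_, fun hk h2 => or_iff_not_imp_left.2 fun h1 =>
      H46.eq_of_sylow_isCyclic hR (p2 hk) tK (H8.orderOf_two_of h2 h1) ht
        ((p2 hk) _ (p1 hm ▸ (e.symm _).2)).symm, fun {k l} hk hl ok ol => ?_⟩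
    · have h1 := H46.standard_centralizer_le_normalizer hL ht tK
        (Subgroup.mem_centralizer_singleton_iff.2 hn)
      obtain ⟨v, hv⟩ := STD.O8.aut_X (e.symm.trans ((L.normalizerMonoidHom ⟨n, h1⟩).trans e))
      refine ⟨v, v.2, fun a ha => ?_⟩
      rw [p1 ha, p1 (STD.O8.X_conj v.2 ha), show (⟨_, STD.O8.X_conj v.2 ha⟩ : STD.O8.X) = _ from
        (hv ⟨a, ha⟩).symm, MulEquiv.trans_apply, MulEquiv.trans_apply, e.symm_apply_apply]
      rfl
    · let P : Sylow 2 (Subgroup.centralizer (L : Set G)) := default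
      have c := (hR P).isComplement' ((Nat.minFac_eq_two_iff _).2
        (ht ▸ Subgroup.orderOf_dvd_natCard _ tK))
      obtain ⟨j, hj⟩ := P.2.exists_card_eq
      generalize MonoidHom.transferSylow P _ = τ at c
      have k1 : ∀ {x} (hx : STD.O8.Acts Φ x 1), Odd (orderOf x) → (⟨x, p2 hx⟩ : Subgroup.centralizer _) ∈ τ.ker :=
        fun {x} hx ox => STD.O8.mem_of_coprime le_top (fun g _ q hq => τ.normal_ker.conj_mem q hq g)
          (j := 2 ^ j) (by rw [Subgroup.card_top, ← c.card_mul, hj, mul_comm]) (Subgroup.mem_top _)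
          (Nat.Coprime.pow_right _ (by rw [← Subgroup.orderOf_coe]; exact ox.coprime_two_right))
      have k2 := Subgroup.orderOf_dvd_natCard _ (mul_mem (k1 hk ok) (k1 hl ol))
      rw [← Subgroup.orderOf_coe, ← c.index_eq_card] at k2
      exact Odd.of_dvd_nat (Nat.odd_iff.2 (Nat.two_dvd_ne_zero.1 P.not_dvd_index)) k2
  rcases STD1.central_or_conj hO ht with h1 | ⟨g, h1, h2⟩
  · exact Subgroup.normalizer_eq_top_iff.1 (top_unique fun g _ =>
      H46.standard_centralizer_le_normalizer hL ht tK (Subgroup.mem_centralizer_singleton_iff.2 (h1 g)))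
  · exact absurd (h.main (isConj_iff.2 ⟨g, rfl⟩) h2) h1

end Cfsg.Agent.S3144
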