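import Cfsg.Statements.S3149
import Cfsg.Agent.H57.RuS3
import Cfsg.Agent.H81.Perfect
import Cfsg.Agent.S2051
import Cfsg.Agent.S2077

set_option autoImplicit false
open Cfsg

namespace Cfsg.Agent.S3149

/-- Let G be a finite group with no nontrivial normal subgroup of odd order and A a standard subgroup of G which is a double cover of the Rudvalis group (the centre of A has order 2 and A modulo its centre is isomorphic to the Rudvalis group). If the centralizer of A in G has cyclic Sylow 2-subgroups, then A is normal in G. -/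
theorem result {G : Type*} [Group G] [Finite G] (hO : Cfsg.oddCore G = ⊥) (A : Subgroup G) (hA : Cfsg.IsStandardSubgroup A)
    (hZ : Nat.card ↥(Subgroup.center ↥A) = 2) (hAX : Cfsg.Spor.IsoRu (↥A ⧸ Subgroup.center ↥A))
    (hR : ∀ R : Sylow 2 ↥(Subgroup.centralizer (A : Set G)), IsCyclic ↥(R : Subgroup ↥(Subgroup.centralizer (A : Set G)))) : A.Normal := by
  obtain ⟨e⟩ := hAX
  obtain ⟨⟨z, hz⟩, z1, hu⟩ := (Nat.card_eq_two_iff' (1 : Subgroup.center A)).1 hZ
  have cen : ∀ a : A, a ∈ Subgroup.center A ↔ a = 1 ∨ a = z := fun a =>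
    ⟨fun h => or_iff_not_imp_left.2 fun h1 => congrArg Subtype.val (hu ⟨a, h⟩ fun e => h1 (congrArg Subtype.val e)),
      fun h => h.elim (fun e => e ▸ one_mem _) fun e => e ▸ hz⟩
  have z1' : z ≠ 1 := fun e => z1 (Subtype.ext e)
  have z2 : z * z = 1 := ((cen _).1 (mul_mem hz hz)).resolve_right fun e => z1' (mul_eq_left.1 e)
  let σ : A →* Spor.Ru := e.toMonoidHom.comp (QuotientGroup.mk' _)
  have hs : Function.Surjective σ := e.surjective.comp (QuotientGroup.mk'_surjective _)
  have hk : σ.ker = Subgroup.center A := by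
    ext a
    exact (MulEquiv.map_eq_one_iff e).trans (QuotientGroup.eq_one_iff a)
  have : Finite Spor.fourRu := Nat.finite_of_card_ne_zero (by
    rw [Subgroup.card_eq_card_quotient_mul_card_subgroup (Subgroup.center Spor.fourRu), H57Ru.center_fourRu,
      H57Ru.card_ker, ← H57Ru.center_fourRu]
    exact mul_ne_zero (H57Ru.card_Ru.trans_ne (by decide)) (by decide))
  have : Finite Spor.Ru := Nat.finite_of_card_ne_zero (H57Ru.card_Ru.trans_ne (by decide))
  obtain ⟨η, hη⟩ := H81.exists_lift_of_perfect hA.1.1 σ (ξ := QuotientGroup.mk' (Subgroup.center Spor.fourRu))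
    (QuotientGroup.mk'_surjective _) (H81.pb_inj_of_cover S2051.result
      ⟨hs, hk.le, hA.1.1.commutator_eq_top.ge.trans' le_top⟩ (by rw [hk, hZ]; simp)
      (QuotientGroup.mk'_surjective _) (QuotientGroup.ker_mk' _).le)
  have hπ : ∀ x, H57Ru.rho.rangeRestrict.comp η x = H57Ru.equivRu (σ x) := fun x => by rw [← hη]; rfl
  have F := H57Ru.fac (η := η) (z := z) (fun y => by
      obtain ⟨x, hx⟩ := hs (H57Ru.equivRu.symm y)
      exact ⟨x, by rw [hπ, hx, MulEquiv.apply_symm_apply]⟩)
    (fun x => by rw [hπ, MulEquiv.map_eq_one_iff, ← MonoidHom.mem_ker, hk, cen]) z2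
    fun x => (Subgroup.mem_center_iff.1 hz x).symm
  have oz := H8.orderOf_two_of z2 z1'
  obtain ⟨n, h⟩ := STD1.exists_ctx hA (MulEquiv.refl A) oz
    (fun a => Iff.trans ⟨fun h => Subgroup.mem_center_iff.2 fun b => (h b).symm,
      fun h b => (Subgroup.mem_center_iff.1 h b).symm⟩ (cen a))
    (H55.card_out_eq_one fun α => .inl (STD1.inner_of_equiv e (STD1.inner_of_out S2077.result) α)) hR
  have ht := (orderOf_injective _ h.inj _).trans oz
  rcases STD1.central_or_conj hO ht with h1 | ⟨g, h1, h2⟩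
  · refine Subgroup.normalizer_eq_top_iff.1 (top_unique fun g _ =>
      H46.standard_centralizer_le_normalizer hA ht (fun a ha => ?_)
        (Subgroup.mem_centralizer_singleton_iff.2 (h1 g)))
    exact h1 a
  · refine absurd (F.isolated h (fun k l hk hl e => ?_) g h2) h1
    exact congrArg Subtype.val (H57Ru.comm_eq_one hR ⟨k, fun a ha => (hk ⟨a, ha⟩).symm⟩
      ⟨l, fun a ha => (hl ⟨a, ha⟩).symm⟩ (Subtype.ext e))

end Cfsg.Agent.S3149
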