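import Cfsg.Statements.S3150
import Cfsg.Agent.STD1.Co0
import Cfsg.Agent.S2069

set_option autoImplicit false
open Cfsg

namespace Cfsg.Agent.S3150

/-- Let G be a finite group with no nontrivial normal subgroup of odd order and A a standard subgroup of G isomorphic to the automorphism group of the Leech lattice (the double cover of the first Conway group). If the centralizer of A in G has cyclic Sylow 2-subgroups, then A is normal in G. -/
theorem result {G : Type*} [Group G] [Finite G] (hO : Cfsg.oddCore G = ⊥) (A : Subgroup G) (hA : Cfsg.IsStandardSubgroup A)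
    (hAX : Nonempty (↥A ≃* ↥Cfsg.Co0)) (hR : ∀ R : Sylow 2 ↥(Subgroup.centralizer (A : Set G)), IsCyclic ↥(R : Subgroup ↥(Subgroup.centralizer (A : Set G)))) : A.Normal := by
  obtain ⟨e⟩ := hAX
  obtain ⟨n, h⟩ := STD1.exists_ctx hA e H15.orderOf_negC
    (fun a => Iff.trans ⟨fun h => Subgroup.mem_center_iff.2 fun b => (h b).symm,
      fun h b => (Subgroup.mem_center_iff.1 h b).symm⟩ H15.mem_center_iff') S2069.result hR
  have ht := (orderOf_injective _ h.inj _).trans H15.orderOf_negC
  rcases STD1.central_or_conj hO ht with h1 | ⟨g, h1, h2⟩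
  · refine Subgroup.normalizer_eq_top_iff.1 (top_unique fun g _ =>
      H46.standard_centralizer_le_normalizer hA ht (fun a ha => ?_)
        (Subgroup.mem_centralizer_singleton_iff.2 (h1 g)))
    exact h1 a
  · exact absurd (STD1.isolated_negC h g h2) h1

end Cfsg.Agent.S3150
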