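import Cfsg.Statements.S3156
import Cfsg.Agent.H42.U34

set_option autoImplicit false
open Cfsg

namespace Cfsg.Agent.S3156

/-- If a finite group T is isomorphic to a Sylow 2-subgroup of the projective special unitary group of dimension 3 with parameter 4 (realised over the field with 16 elements), then no subgroup of the automorphism group of T is isomorphic to the symmetric group of degree 3. -/
theorem result {T : Type*} [Group T] [Finite T] (hT : (∃ (F : Type) (_ : Field F) (_ : Fintype F), Fintype.card F = 16 ∧ ∃ S : Sylow 2 (Cfsg.PSU 3 F 4), Nonempty (T ≃* ↥(S : Subgroup (Cfsg.PSU 3 F 4))))) (H : Subgroup (MulAut T)) : ¬ Nonempty (↥H ≃* Equiv.Perm (Fin 3)) := by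
  obtain ⟨F, _, _, hF, S, ⟨e⟩⟩ := hT
  have h := (H42.suzLike_sylow hF S).of_equiv e
  rintro ⟨f⟩
  let ρ : MulAut T := f.symm (finRotate 3)
  let τ : MulAut T := f.symm (Equiv.swap 0 1)
  have hρ1 : ρ ≠ 1 := fun e => absurd (f.symm.injective (a₂ := 1)
    (Subtype.ext (e.trans (by simp)))) (by decide)
  have hρ3 : ∀ x, ρ (ρ (ρ x)) = x := fun x => by
    have : ρ * ρ * ρ = 1 := by
      simp only [ρ, ← Subgroup.coe_mul, ← map_mul]
      rw [show finRotate 3 * finRotate 3 * finRotate 3 = 1 by decide]; simp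
    exact DFunLike.congr_fun this x
  have hτ2 : ∀ x, τ (τ x) = x := fun x => by
    have : τ * τ = 1 := by
      simp only [τ, ← Subgroup.coe_mul, ← map_mul]
      simp
    exact DFunLike.congr_fun this x
  have hτρ : ∀ x, ρ (τ (ρ x)) = τ x := fun x => by
    have : ρ * τ * ρ = τ := by
      simp only [ρ, τ, ← Subgroup.coe_mul, ← map_mul]
      rw [show finRotate 3 * Equiv.swap 0 1 * finRotate 3 = Equiv.swap 0 1 by decide]
    exact DFunLike.congr_fun this x
  have hZ2 := fun g hg => H42.klein_mul_self h.klein (g := g) hg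
  have hτZ := fun c hc => h.fix_center τ (fun g => by rw [hτ2, mul_inv_cancel]; exact one_mem _)
    (c := c) hc
  have hρZ : ∀ c ∈ Subgroup.center T, ρ c = c := fun c hc => by
    have h1 := hτρ c
    rw [hτZ c hc, hτZ _ (h.inv _ (by rw [← map_mul, hZ2 c hc, map_one]))] at h1
    exact (congrArg ρ h1).symm.trans (hρ3 c)
  have hw : ∀ x, x⁻¹ * ρ x ∈ Subgroup.center T := fun x => by
    refine h.inv _ (h.noQ _ (ρ (x⁻¹ * ρ x)) (by rw [← map_mul, hρZ _ (h.sq _)]) ?_)
    have hQ : ∀ x : T ⧸ Subgroup.center T, x * x = 1 := fun x => by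
      obtain ⟨x, rfl⟩ := QuotientGroup.mk_surjective x
      exact (QuotientGroup.eq_one_iff _).2 (h.sq x)
    have hi : ∀ x : T ⧸ Subgroup.center T, x⁻¹ = x := fun x => inv_eq_of_mul_eq_one_right (hQ x)
    obtain ⟨z, hz, e⟩ : ∃ z ∈ Subgroup.center T,
        x⁻¹ * ρ x * ρ (x⁻¹ * ρ x) = ρ (ρ (x⁻¹ * ρ x)) * z := by
      refine ⟨_, ?_, (mul_inv_cancel_left _ _).symm⟩
      rw [← QuotientGroup.eq]
      simp only [map_mul, map_inv, hρ3, mul_assoc, mul_inv_cancel_left, QuotientGroup.mk_mul,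
        QuotientGroup.mk_inv, hi]
      exact H41.mul_comm_of_sq hQ _ _
    rw [e, mul_assoc, ← mul_assoc z, ← Subgroup.mem_center_iff.1 hz, mul_assoc, hZ2 z hz, mul_one,
      ← map_mul, ← map_mul, hρZ _ (h.sq _), hρZ _ (h.sq _)]
  refine hρ1 (MulEquiv.ext fun x => ?_)
  obtain ⟨w, hw, e⟩ : ∃ w ∈ Subgroup.center T, ρ x = x * w := ⟨_, hw x, by group⟩
  have := hρ3 x
  rw [e, map_mul, map_mul, e, map_mul, e, hρZ w hw, hρZ w hw, mul_assoc, hZ2 w hw, mul_one] at this
  exact e.trans this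

end Cfsg.Agent.S3156
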