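import Cfsg.Statements.S3162
import Cfsg.Agent.H42.UAut

set_option autoImplicit false
open Cfsg

namespace Cfsg.Agent.S3162

open Subgroup Cfsg.Agent.H41 Cfsg.Agent.H42 Cfsg.Agent.H10

section

variable {F : Type*} [Field F] [Fintype F] {q : ℕ} [hF : Fact (Fintype.card F = q ^ 2)] [CharP F 2]
  {n : ℕ} [NeZero n] (hq : q = 2 ^ n)

/-- The automorphisms that are trivial modulo the centre. -/
def cen (F : Type*) [Field F] [Fintype F] (q : ℕ) [Fact (Fintype.card F = q ^ 2)] :
    Subgroup (MulAut (UM F q)) where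
  carrier := {φ | ∀ a, (φ a).x = a.x}
  one_mem' := fun _ => rfl
  mul_mem' := fun ha hb x => (ha _).trans (hb x)
  inv_mem' := fun {φ} h x => (h _).symm.trans (congrArg UM.x (φ.apply_inv_self _ x))

/-- The central automorphism given by an additive map. -/
def shift (f : F →+ fixedSubfield F q) : MulAut (UM F q) where
  toFun a := ⟨a.x, a.y + f a.x, by
    rw [map_add, (f a.x).2, add_add_add_comm, a.h]; exact add_eq_left.mpr (CharTwo.add_self_eq_zero _)⟩
  invFun a := ⟨a.x, a.y + f a.x, by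
    rw [map_add, (f a.x).2, add_add_add_comm, a.h]; exact add_eq_left.mpr (CharTwo.add_self_eq_zero _)⟩
  left_inv a := UM.ext rfl (CharTwo.add_cancel_right _ _)
  right_inv a := UM.ext rfl (CharTwo.add_cancel_right _ _)
  map_mul' a b := UM.ext rfl (by simp; ring)

theorem exists_shift {φ : MulAut (UM F q)} (h : φ ∈ cen F q) : ∃ f, shift f = φ := by
  choose s hs using UM.exists_x (F := F) (q := q)
  have h2 : (2 : F) = 0 := CharTwo.two_eq_zero
  have h1 : ∀ a b, (φ (a * b)).y + (a * b).y = (φ a).y + a.y + ((φ b).y + b.y) := fun a b => by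
    rw [map_mul, UM.mul_y, UM.mul_y, h, h]
    linear_combination cj F q a.x * b.x * h2
  have h3 : ∀ a b, a.x = b.x → (φ a).y + a.y = (φ b).y + b.y := fun a b e => by
    rw [← mul_inv_cancel_left a b, h1, aut_fix_of_norm (fun a => by rw [h]) (a := a⁻¹ * b)
      (by simp [e]), CharTwo.add_self_eq_zero, add_zero]
  refine ⟨AddMonoidHom.mk' (fun x => ⟨(φ (s x)).y + (s x).y, ?_⟩) fun x y => Subtype.ext ?_,
    MulEquiv.ext fun a => UM.ext (h a).symm ?_⟩
  · have := (φ (s x)).h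
    rw [h] at this
    rw [mem_fixedSubfield, map_add]
    linear_combination this + (s x).h + ((s x).x * cj F q (s x).x - (φ (s x)).y - (s x).y) * h2
  · exact (h3 _ _ (by rw [UM.mul_x, hs, hs, hs])).trans (h1 _ _)
  · change a.y + ((φ (s a.x)).y + (s a.x).y) = _
    rw [h3 _ a (hs _), add_comm, CharTwo.add_cancel_right]

include hq

omit [NeZero n] in
theorem card_cen : Nat.card (cen F q) = 2 ^ (2 * n ^ 2) := by
  let _ := ZMod.algebra F 2
  let _ := ZMod.algebra (fixedSubfield F q) 2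
  have h1 := Module.natCard_eq_pow_finrank (K := ZMod 2) (V := F)
  rw [Nat.card_eq_fintype_card, card_two_mul hq, Nat.card_zmod] at h1
  rw [← Nat.card_eq_of_bijective (fun f : F →+ fixedSubfield F q => (⟨shift f, fun _ => rfl⟩ : cen F q))
    ⟨fun f g e => AddMonoidHom.ext fun x => by
      obtain ⟨a, rfl⟩ := UM.exists_x (q := q) x
      exact Subtype.ext (add_left_cancel (congrArg (fun φ : cen F q => (φ.1 a).y) e)),
    fun φ => (exists_shift φ.2).imp fun _ e => Subtype.ext e⟩,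
    Nat.card_congr ((AddMonoidHom.toZModLinearMapEquiv 2).toEquiv.trans
      ((Module.finBasis (ZMod 2) F).constr ℕ).toEquiv.symm), Nat.card_fun, card_fixedSubfield,
    Nat.card_eq_fintype_card, Fintype.card_fin, ← Nat.pow_right_injective le_rfl h1, hq, ← pow_mul]
  congr 1
  ring

theorem index_cen : (cen F q).index = 2 * n * (q ^ 2 - 1) := by
  have hK := card_two_mul (F := F) hq
  let g : ZMod (2 * n) → MulAut (UM F q) := fun i =>
    { toFun := fun a => ⟨frEquiv i a.x, frEquiv i a.y, by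
        simpa only [map_add, map_mul, cj_apply, map_pow] using congrArg (frEquiv i) a.h⟩
      invFun := fun a => ⟨(frEquiv i).symm a.x, (frEquiv i).symm a.y, by
        simpa only [map_add, map_mul, cj_apply, map_pow] using congrArg (frEquiv i).symm a.h⟩
      left_inv := fun a => UM.ext (by simp) (by simp)
      right_inv := fun a => UM.ext (by simp) (by simp)
      map_mul' := fun a b => UM.ext (by simp) (by simp [cj_apply]) }
  have e : ∀ φ ψ : MulAut (UM F q), (φ : MulAut (UM F q) ⧸ cen F q) = ψ ↔ ∀ a, (φ a).x = (ψ a).x :=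
    fun φ ψ => QuotientGroup.eq.trans ⟨fun h a => (aut_x_congr φ (h a)).symm.trans
      (congrArg UM.x (φ.apply_inv_self _ _)), fun h a =>
      (aut_x_congr φ⁻¹ (h a)).symm.trans (congrArg UM.x (φ.inv_apply_self _ _))⟩
  rw [index, ← Nat.card_eq_of_bijective (fun p : ZMod (2 * n) × Fˣ =>
    ((UM.diag p.2.1 p.2.ne_zero * g p.1 : MulAut (UM F q)) : MulAut (UM F q) ⧸ cen F q)) ⟨?_, ?_⟩,
    Nat.card_prod, Nat.card_zmod, Nat.card_units, Nat.card_eq_fintype_card, hF.out]
  · rintro ⟨i, c⟩ ⟨j, d⟩ h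
    have h1 : ∀ x : F, c * fr i x = d * fr j x := fun x => by
      obtain ⟨a, rfl⟩ := UM.exists_x (q := q) x
      exact (e _ _).mp h a
    have h2 := h1 1
    rw [fr_one', fr_one', mul_one, mul_one] at h2
    obtain ⟨μ, hμ⟩ := exists_prim hK
    exact Prod.ext (fr_prim_inj hμ (mul_left_cancel₀ c.ne_zero ((h1 μ).trans (by rw [h2]))))
      (Units.ext h2)
  · intro w
    obtain ⟨φ, rfl⟩ := QuotientGroup.mk_surjective w
    obtain ⟨c, i, h0, h⟩ := exists_aut_x hq φ
    exact ⟨(i, Units.mk0 c h0), (e _ _).mpr fun a => (h a).symm⟩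

theorem le_cen {N : Subgroup (MulAut (UM F q))} (hN : N.Normal) (h2 : IsPGroup 2 N) : N ≤ cen F q := by
  have h1 : ∀ φ ∈ N, ∀ c, (∀ a, (φ a).x = c * a.x) → c = 1 := fun φ hφ c h => by
    obtain ⟨k, hk⟩ := h2 ⟨φ, hφ⟩
    obtain ⟨a, ha⟩ := UM.exists_x (q := q) (1 : F)
    have h3 : ∀ j, ((φ ^ j) a).x = c ^ j := fun j => by
      induction j with
      | zero => exact ha.trans (pow_zero c).symm
      | succ j ih => rw [pow_succ', MulAut.mul_apply, h, ih, pow_succ']
    have h4 := h3 (2 ^ k)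
    rw [show φ ^ 2 ^ k = 1 from congrArg Subtype.val hk, MulAut.one_apply, ha] at h4
    refine sub_eq_zero.mp (pow_eq_zero_iff (n := 2 ^ k) (by positivity) |>.mp ?_)
    rw [sub_pow_char_pow, ← h4, one_pow, sub_self]
  intro φ hφ
  obtain ⟨c, i, -, h⟩ := exists_aut_x hq φ
  obtain ⟨μ, hμ⟩ := exists_prim (card_two_mul (F := F) hq)
  have h0 := prim_ne_zero hμ
  have h3 := h1 _ (mul_mem (hN.conj_mem' _ hφ (UM.diag μ h0)) (inv_mem hφ)) (μ⁻¹ * fr i μ) fun a => by
    obtain ⟨b, rfl⟩ := φ.surjective a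
    change μ⁻¹ * (φ (UM.diag μ h0 (φ⁻¹ (φ b)))).x = _
    rw [φ.inv_apply_self, h, h]
    change μ⁻¹ * (c * fr i (μ * b.x)) = _
    rw [fr_mul]
    ring
  obtain rfl := fr_prim_inj hμ (i := i) (j := 0) (((inv_mul_eq_one₀ h0).mp h3).symm.trans (fr_zero μ).symm)
  simp only [fr_zero] at h
  intro a
  rw [h, h1 φ hφ c h, one_mul]

end

/-- Let S be a Sylow 2-subgroup of the special unitary group of dimension 3 with parameter q = 2^n (n ≥ 2; realised over the field with q² elements). Then the largest normal 2-subgroup of the automorphism group of S is elementary abelian of order 2^(2n²), and the automorphism group has order 2^(2n²) · 2n(q² − 1). -/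
theorem result {S : Type*} [Group S] [Finite S] (n : ℕ) (hn : 2 ≤ n) {F : Type*} [Field F] [Fintype F] (hF : Fintype.card F = 4 ^ n)
    (P : Sylow 2 ↥(Cfsg.SU 3 F (2 ^ n))) (hS : Nonempty (S ≃* ↥(P : Subgroup ↥(Cfsg.SU 3 F (2 ^ n))))) :
    Cfsg.IsElementaryAbelian 2 (Cfsg.pCore 2 (MulAut S)) ∧ Nat.card ↥(Cfsg.pCore 2 (MulAut S)) = 2 ^ (2 * n ^ 2) ∧
      Nat.card (MulAut S) = 2 ^ (2 * n ^ 2) * (2 * n * ((2 ^ n) ^ 2 - 1)) := by
  have : NeZero n := ⟨by omega⟩
  have : Fact (Fintype.card F = (2 ^ n) ^ 2) := ⟨by rw [hF, ← pow_mul, mul_comm, pow_mul]; rfl⟩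
  have := H20.charP_two_of_card_pow (card_two_mul (F := F) (n := n) rfl)
  obtain ⟨e₁⟩ := hS
  obtain ⟨e₂⟩ := sylow_SU_equiv rfl P
  let e := MulAut.congr (e₁.trans e₂.symm)
  have h1 : ∀ φ ∈ cen F (2 ^ n), φ ^ 2 = 1 := fun φ hφ => by
    obtain ⟨f, rfl⟩ := exists_shift hφ
    exact MulEquiv.ext (shift f).left_inv
  have h2 : (cen F (2 ^ n)).Normal := ⟨fun φ hφ ψ a =>
    (aut_x_congr ψ (hφ _)).trans (congrArg UM.x (ψ.apply_inv_self _ a))⟩
  have h3 : pCore 2 (MulAut S) = (cen F (2 ^ n)).comap e.toMonoidHom :=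
    le_antisymm (sSup_le fun N hN => map_le_iff_le_comap.mp
      (le_cen rfl (hN.1.map _ e.surjective) (hN.2.map _))) (le_sSup ⟨h2.comap _,
        IsPGroup.comap_of_injective (fun φ => ⟨1, Subtype.ext (h1 _ φ.2)⟩) _ e.injective⟩)
  have h4 : ∀ φ ∈ pCore 2 (MulAut S), φ ^ 2 = 1 := fun φ hφ =>
    e.injective (by rw [map_pow, map_one]; exact h1 _ (h3.le hφ))
  refine ⟨⟨⟨⟨mul_comm_of_sq fun φ => Subtype.ext ((pow_two _).symm.trans (h4 _ φ.2))⟩⟩, h4⟩, ?_, ?_⟩
  · rw [h3.trans (comap_equiv_eq_map_symm e _), card_map_of_injective e.symm.injective, card_cen rfl]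
  · rw [Nat.card_congr e.toEquiv, ← (cen F (2 ^ n)).card_mul_index, card_cen rfl, index_cen rfl]

end Cfsg.Agent.S3162
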