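import Cfsg.Statements.S3197
import Cfsg.Agent.ALT.E16Out
import Cfsg.Agent.ALT.SylA8
import Cfsg.Agent.ALT.NoComp16
import Cfsg.Agent.ALT.Classes

set_option autoImplicit false
open Cfsg

namespace Cfsg.Agent.S3197

open Subgroup Cfsg.Agent.H49 Cfsg.Agent.ALT

/-- Let G be a finite group whose Sylow 2-subgroups are isomorphic to those of the alternating group of degree 8, with exactly three conjugacy classes of involutions, and containing an elementary abelian subgroup A of order 16 whose normalizer N satisfies: A·O(N) is normal in N with quotient N/(A·O(N)) isomorphic to the alternating group of degree 5, O(N) being the largest normal subgroup of odd order of N. Then A·O(G) is a normal subgroup of G. -/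
theorem result {G : Type*} [Group G] [Finite G]
    (S : Sylow 2 G) (P : Sylow 2 ↥(alternatingGroup (Fin 8)))
    (hS : Nonempty (↥(S : Subgroup G) ≃* ↥(P : Subgroup ↥(alternatingGroup (Fin 8)))))
    (h3 : Nat.card {c : ConjClasses G // ∃ x ∈ c.carrier, orderOf x = 2} = 3)
    (A : Subgroup G) (hA : Cfsg.IsElementaryAbelian 2 A) (hA16 : Nat.card ↥A = 16)
    (N : Subgroup G) (hN : N = Subgroup.normalizer (A : Set G))
    (hNA : ∃ (_ : (A.subgroupOf N ⊔ Cfsg.oddCore ↥N).Normal),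
      Nonempty (↥N ⧸ (A.subgroupOf N ⊔ Cfsg.oddCore ↥N) ≃* ↥(alternatingGroup (Fin 5)))) :
    (A ⊔ Cfsg.oddCore G).Normal := by
  obtain ⟨hn, ⟨e⟩⟩ := hNA
  subst hN
  have hAN : A ≤ 𝒩(A) := le_normalizer
  have sq : ∀ a ∈ A, a * a = 1 := fun a ha => by rw [← pow_two, hA.2 a ha]
  let φ : 𝒩(A) →* alternatingGroup (Fin 5) := e.toMonoidHom.comp (QuotientGroup.mk' _)
  have surj : Function.Surjective φ := e.surjective.comp (QuotientGroup.mk'_surjective _)
  have ker : φ.ker = A.subgroupOf 𝒩(A) ⊔ oddCore 𝒩(A) := by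
    ext x
    simp [φ]
  have c16 : Nat.card (A.subgroupOf 𝒩(A)) = 16 := (card_subgroupOf_of_le hAN).trans hA16
  have nA : (A.subgroupOf 𝒩(A)).Normal := normal_subgroupOf le_rfl
  have nO : (oddCore 𝒩(A)).Normal := by
    have := H44.pPrimeCore_characteristic (G := 𝒩(A)) (p := 2)
    infer_instance
  have odd : (Nat.card (oddCore 𝒩(A))).Coprime 2 := H44.pPrimeCore_coprime
  have pA : IsPGroup 2 (A.subgroupOf 𝒩(A)) := IsPGroup.of_card (n := 4) c16
  obtain ⟨T', hT'⟩ := pA.exists_le_sylow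
  have c64 := card_sylow_eq c16 nO odd surj ker T'
  obtain ⟨T, hT⟩ := (T'.isPGroup'.map 𝒩(A).subtype).exists_le_sylow
  obtain ⟨eS⟩ := hS
  have cT : Nat.card T = 64 :=
    (Nat.card_congr ((Sylow.equiv T S).trans eS).toEquiv).trans (card_syl_a8 P)
  have hTT : (T' : Subgroup 𝒩(A)).map 𝒩(A).subtype = T := eq_of_le_of_card_ge hT (by
    rw [card_map_of_injective 𝒩(A).subtype_injective, c64, cT])
  have memT : ∀ {x : G}, x ∈ (T : Subgroup G) → ∃ y ∈ (T' : Subgroup 𝒩(A)), (y : G) = x :=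
    fun hx => hTT.ge hx
  have h : E16 (A.subgroupOf 𝒩(A)) (oddCore 𝒩(A)) T' φ :=
    { sq := fun a ha => Subtype.ext (sq a ha)
      comm := fun a ha b hb => Subtype.ext (le_cent_iff.1 (abelian_iff.1 hA.1) b hb a ha)
      card := c16, nA := nA, nO := nO, odd := odd, surj := surj, ker := ker
      two := T'.isPGroup', le := hT'
      cent := fun z hz w hw cz cw z1 w1 => by
        let ε := (Sylow.equiv T S).trans eS
        have k : ∀ (u : 𝒩(A)) (hu : u ∈ (T' : Subgroup 𝒩(A))), (∀ y ∈ (T' : Subgroup 𝒩(A)),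
            y * u = u * y) → ∀ y, ε ⟨u, hT (mem_map_of_mem _ hu)⟩ * y =
            y * ε ⟨u, hT (mem_map_of_mem _ hu)⟩ := fun u hu cu y => by
          obtain ⟨y, rfl⟩ := ε.surjective y
          obtain ⟨y', hy', e'⟩ := memT y.2
          rw [← map_mul, ← map_mul]
          congr 1
          exact Subtype.ext (by
            show (u : G) * y = y * u
            rw [← e']; exact (congrArg Subtype.val (cu y' hy')).symm)
        have k1 : ∀ (u : 𝒩(A)) (hu : u ∈ (T' : Subgroup 𝒩(A))), u ≠ 1 →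
            ε ⟨u, hT (mem_map_of_mem _ hu)⟩ ≠ 1 := fun u hu u1 e' =>
          u1 (Subtype.ext (congrArg (fun y : T => (y : G)) (ε.map_eq_one_iff.1 e')))
        exact Subtype.ext (congrArg (fun y : T => (y : G)) (ε.injective
          (center_syl_a8 P (k z hz cz) (k w hw cw) (k1 z hz z1) (k1 w hw w1)))) }
  have hAT : A ≤ T := fun a ha => hT (mem_map_of_mem _ (hT' (show (⟨a, hAN ha⟩ : 𝒩(A)) ∈ _ from ha)))
  have outer : ∀ {t u : G}, t ∈ (T : Subgroup G) → u ∈ (T : Subgroup G) → t * t = 1 → u * u = 1 →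
      t ∉ A → u ∉ A → IsConj t u := fun ht hu t2 u2 tA uA => by
    obtain ⟨t, -, rfl⟩ := memT ht
    obtain ⟨u, -, rfl⟩ := memT hu
    exact 𝒩(A).subtype.map_isConj (h.conj_outer (Subtype.ext t2) (Subtype.ext u2) tA uA)
  obtain ⟨x, hx, hne⟩ := exists_three T h3
  have no3 : ¬ ∀ i, ∃ a ∈ A, IsConj (x i) a := fun hc => by
    let X : Fin 3 → Set 𝒩(A) := fun i => {a | (a : G) ∈ A ∧ IsConj (x i) a}
    have a1 : ∀ i, X i ⊆ A.subgroupOf 𝒩(A) := fun i a ha => ha.1
    have a2 : ∀ i, 1 ∉ X i := fun i ha => (hx i).2.2 (isConj_one_left.1 ha.2)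
    have a3 : ∀ i g, ∀ a ∈ X i, g * a * g⁻¹ ∈ X i := fun i g a ha =>
      ⟨nA.conj_mem a ha.1 g, ha.2.trans (isConj_iff.2 ⟨g, rfl⟩)⟩
    have a4 : ∀ i, (X i).Nonempty := fun i => by
      obtain ⟨a, ha, c⟩ := hc i
      exact ⟨⟨a, hAN ha⟩, ha, c⟩
    have a5 : ∀ i j, i ≠ j → Disjoint (X i) (X j) := fun i j hij =>
      Set.disjoint_left.2 fun a hi hj => hij (hne i j (hi.2.trans hj.2.symm))
    exact h.no_three (a1 0) (a1 1) (a1 2) (a2 0) (a2 1) (a2 2) (a3 0) (a3 1) (a3 2) (a4 0) (a4 1)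
      (a4 2) (a5 0 1 (by decide)) (a5 0 2 (by decide)) (a5 1 2 (by decide))
  have hsc : GOLD.SC ⊤ A := GOLD.SC.of_stronglyClosed T ⟨hAT, fun a ha g hg => by
    by_contra hga
    refine no3 fun i => ?_
    by_cases hi : x i ∈ A
    · exact ⟨x i, hi, IsConj.refl _⟩
    · exact ⟨a, ha, (outer (hx i).1 hg (hx i).2.1 (by rw [conj_mul, sq a ha]; simp) hi hga).trans
        (isConj_iff.2 ⟨g, rfl⟩).symm⟩⟩
  have hab : ∃ a ∈ A, ∃ b ∈ A, a ≠ 1 ∧ b ≠ 1 ∧ ¬ IsConj a b := by
    by_contra hc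
    push Not at hc
    have k : ∀ i j, (x i ∈ A ↔ x j ∈ A) → i = j := fun i j hij => hne i j (by
      by_cases hi : x i ∈ A
      · exact hc _ hi _ (hij.1 hi) (hx i).2.2 (hx j).2.2
      · exact outer (hx i).1 (hx j).1 (hx i).2.1 (hx j).2.1 hi fun hj => hi (hij.2 hj))
    have k1 := mt (k 0 1) (by decide)
    have k2 := mt (k 0 2) (by decide)
    have k3 := mt (k 1 2) (by decide)
    tauto
  obtain ⟨a, ha, b, hb, ha1, hb1, hab⟩ := hab
  obtain ⟨f, f1, f2, f3, f4⟩ := h.exists_five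
  have irr : ∀ g : 𝒩(A), φ g ^ 5 = 1 → φ g ≠ 1 → ∀ W ≤ A, cj (g : G) W = W → W = ⊥ ∨ W = A := by
    intro g g1 g2 W hW hg
    refine (h.irred g1 g2 (W := W.subgroupOf 𝒩(A)) (comap_mono hW) fun y hy => ?_).imp
      (fun e' => ?_) fun e' => ?_
    · exact mem_subgroupOf.2 (hg ▸ conj_mem_cj.2 (mem_subgroupOf.1 hy))
    · rw [← map_subgroupOf_eq_of_le (hW.trans hAN), e', Subgroup.map_bot]
    · rw [← map_subgroupOf_eq_of_le (hW.trans hAN), e', map_subgroupOf_eq_of_le hAN]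
  exact normal_of_no_AC hsc hA
    (no_AC16 hsc hA hA16 f.2 (irr f f1 f2) (irr (f * f) f3 f4) ha hb ha1 hb1 hab)

end Cfsg.Agent.S3197
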