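import Cfsg.Statements.S3206
import Cfsg.Agent.H21.AbPsl
import Cfsg.Agent.S4593
import Mathlib.LinearAlgebra.Projectivization.PSL.PSL2

set_option autoImplicit false
open Cfsg

namespace Cfsg.Agent.S3206

/-- Let G be a non-abelian finite simple group with abelian Sylow 2-subgroups, and let t be an involution of G whose centralizer is a maximal subgroup of G and is the direct product of the subgroup generated by t with a subgroup E having a normal subgroup isomorphic to PSL(2, q), q odd and greater than 3, with trivial centralizer in E. Then every finite perfect group having a central 2-subgroup with quotient isomorphic to G has that central subgroup trivial (G has no nontrivial perfect central extension by a 2-group), and every automorphism of G of 2-power order that fixes every element of some Sylow 2-subgroup of G is inner. -/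
theorem result {G : Type*} [Group G] [Finite G] [IsSimpleGroup G]
    (hG : ¬ IsMulCommutative G) (hab : ∀ S : Sylow 2 G, IsMulCommutative ↥(S : Subgroup G))
    (t : G) (ht : orderOf t = 2) (hmax : IsCoatom (Subgroup.centralizer ({t} : Set G)))
    (E : Subgroup G) (hE : Cfsg.IsInternalDirectProduct (Subgroup.zpowers t) E (Subgroup.centralizer ({t} : Set G)))
    {F : Type*} [Field F] [Fintype F] (hFo : Odd (Fintype.card F)) (hF3 : 3 < Fintype.card F)
    (N : Subgroup ↥E) [N.Normal] (hN : Nonempty (↥N ≃* Matrix.ProjectiveSpecialLinearGroup (Fin 2) F))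
    (hNc : Subgroup.centralizer (N : Set ↥E) = ⊥) :
    (∀ (L : Type) (_ : Group L) (_ : Finite L) (Z : Subgroup L) (_ : Z.Normal), commutator L = ⊤ → Z ≤ Subgroup.center L →
        IsPGroup 2 ↥Z → Nonempty (L ⧸ Z ≃* G) → Z = ⊥) ∧
    (∀ (φ : G ≃* G) (k : ℕ), φ ^ (2 ^ k) = 1 → (∃ S : Sylow 2 G, ∀ s ∈ (S : Subgroup G), φ s = s) →
        ∃ g : G, ∀ x : G, φ x = g * x * g⁻¹) := by
  have hA : H21.Ab2 G := by
    obtain ⟨S⟩ : Nonempty (Sylow 2 G) := inferInstance
    exact H21.Ab2.of_sylow S (hab S)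
  have h2G : 2 ∣ Nat.card G := ht ▸ orderOf_dvd_natCard t
  have hO : Cfsg.pPrimeCore 2 G = ⊥ := H21.pPrimeCore_eq_bot_of_simple h2G
  have hZ : Subgroup.center G = ⊥ :=
    (inferInstance : (Subgroup.center G).Normal).eq_bot_or_eq_top.resolve_right fun h =>
      hG ⟨⟨fun a b => Subgroup.mem_center_iff.mp (h ▸ Subgroup.mem_top b) a⟩⟩
  refine ⟨fun L _ _ Z _ hL hZc hZ2 ⟨f⟩ => ?_, fun φ k hφ ⟨S, hS⟩ => ?_⟩
  swap
  · obtain ⟨j, -, hj⟩ := (Nat.dvd_prime_pow Nat.prime_two).1 (orderOf_dvd_of_pow_eq_one hφ)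
    exact S4593.result hZ hO S (hab S) φ ⟨j, hj⟩ hS
  obtain ⟨e⟩ := hN
  haveI : IsSimpleGroup (Matrix.ProjectiveSpecialLinearGroup (Fin 2) F) :=
    Matrix.ProjectiveSpecialLinearGroup.rank_two_simple (by rw [Nat.card_eq_fintype_card]; omega)
  haveI : IsSimpleGroup N := e.isSimpleGroup
  have hAE := hA.sub E
  have h8 := H21.mod_eight_of_ab2_psl hFo hF3 ((hAE.sub N).of_surjective e.toMonoidHom e.surjective)
  obtain ⟨h4, h8⟩ := H21.four_dvd_card_psl h8
  rw [← Nat.card_congr e.toEquiv] at h4 h8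
  have hE8 : ¬ 8 ∣ Nat.card E := fun h => by
    obtain ⟨T⟩ : Nonempty (Sylow 2 E) := inferInstance
    have h1 := hAE.le_of_simple (N := N) (T := T) (Dvd.dvd.trans (by norm_num) h4) T.isPGroup'
      (by rw [Subgroup.normalizer_eq_top]; exact le_top)
    rw [hNc, inf_bot_eq, sup_bot_eq] at h1
    exact h8 ((T.pow_dvd_card_of_pow_dvd_card (n := 3) h).trans (Subgroup.card_dvd_of_le h1))
  have hE4 : 4 ∣ Nat.card E := h4.trans (Subgroup.card_subgroup_dvd_card N)
  obtain ⟨-, -, hc, hi, hs⟩ := hE
  have hC : Nat.card (Subgroup.centralizer ({t} : Set G)) = 2 * Nat.card E := by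
    have := H21.card_sup_mul_card_inf' (X := Subgroup.zpowers t) (Y := E) (by
      refine le_trans ?_ (Subgroup.centralizer_le_normalizer _)
      intro a ha
      exact Subgroup.mem_centralizer_iff.2 fun b hb => (hc a ha b hb).symm)
    rwa [hi, hs, Subgroup.card_bot, mul_one, Nat.card_zpowers, ht] at this
  have ht2 : IsPGroup 2 (Subgroup.zpowers t) :=
    IsPGroup.of_card (n := 1) (by rw [Nat.card_zpowers, ht]; rfl)
  obtain ⟨S, hS⟩ := ht2.exists_le_sylow
  have hSC : (S : Subgroup G) ≤ Subgroup.centralizer ({t} : Set G) := fun x hx =>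
    Subgroup.mem_centralizer_singleton_iff.2
      (hA _ S.isPGroup' _ hx _ (hS (Subgroup.mem_zpowers t)))
  have hS8 : Nat.card (S : Subgroup G) = 2 ^ 3 := by
    refine H21.card_sylow_eq_of_dvd S (Dvd.dvd.trans ?_
      (Subgroup.card_subgroup_dvd_card (Subgroup.centralizer ({t} : Set G)))) fun h => ?_
    · rw [hC]; omega
    · have := h.trans (Subgroup.card_dvd_of_le hSC)
      rw [hC] at this; omega
  let π : L →* G := f.toMonoidHom.comp (QuotientGroup.mk' Z)
  have hk : π.ker = Z := by
    ext x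
    simp [π, MonoidHom.mem_ker]
  rw [← hk]
  exact hA.ker_eq_bot_of_card_eight hO hZ S hS8 hL π
    (f.surjective.comp (QuotientGroup.mk'_surjective Z)) (hk ▸ hZc) (hk ▸ hZ2)

end Cfsg.Agent.S3206
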