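import Cfsg.Statements.S3222
import Cfsg.Agent.H18.S6b
import Cfsg.Agent.H85.Swaps

set_option autoImplicit false
open Cfsg

namespace Cfsg.Agent.S3222

theorem hu : ∀ u v : Multiplicative (ZMod 2), v ≠ 1 → u = 1 ∨ u = v := by decide

open Subgroup Cfsg.Agent.H18.S6 in
theorem cfg0 {G : Type*} [Group G] [Finite G] (t : G) (ht : orderOf t = 2) (T : Sylow 2 G)
    (htc : ∀ s ∈ (T : Subgroup G), s * t = t * s)
    (e : ↥(centralizer ({t} : Set G)) ≃* (Multiplicative (ZMod 2) × Equiv.Perm (Fin 4))) :
    ∃ φ : S4 →* G, Cfg0 t φ := by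
  have : Fact (Nat.Prime 2) := ⟨Nat.prime_two⟩
  let t' : centralizer ({t} : Set G) := ⟨t, mem_centralizer_singleton_iff.2 rfl⟩
  let φ : S4 →* G := (centralizer ({t} : Set G)).subtype.comp
    (e.symm.toMonoidHom.comp (MonoidHom.inr _ _))
  have hφ : ∀ x, φ x = (e.symm (1, x) : centralizer ({t} : Set G)) := fun _ => rfl
  have hc : ∀ g : centralizer ({t} : Set G), g * t' = t' * g := fun g =>
    Subtype.ext (mem_centralizer_singleton_iff.1 g.2)
  have h2 : (e t').2 = 1 := f5 _ fun y => by
    have := congrArg (fun g => (e g).2) (hc (e.symm (1, y)))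
    simpa using this
  have t1 : t ≠ 1 := fun h => by rw [h, orderOf_one] at ht; omega
  have h1 : (e t').1 ≠ 1 := fun h => t1 (congrArg Subtype.val (show t' = 1 from
    e.injective (by rw [map_one]; exact Prod.ext h h2)))
  refine ⟨φ, ht, fun x y h => ?_, fun x => ?_, fun x h => ?_, fun g hg => ?_, ?_⟩
  · have := e.symm.injective (Subtype.ext h)
    simpa using this
  · exact (mem_centralizer_singleton_iff.1 (e.symm (1, x)).2).symm
  · have : e.symm (1, x) = t' := Subtype.ext h
    exact h1 (by rw [← this]; simp)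
  · let g' : centralizer ({t} : Set G) := ⟨g, mem_centralizer_singleton_iff.2 hg⟩
    refine ⟨(e g').2, ?_⟩
    rcases hu (e g').1 _ h1 with h | h
    · exact Or.inl (congrArg Subtype.val (show g' = e.symm (1, (e g').2) from
        e.injective (by rw [MulEquiv.apply_symm_apply]; exact Prod.ext h rfl)))
    · exact Or.inr (congrArg Subtype.val (show g' = t' * e.symm (1, (e g').2) from
        e.injective (by
          rw [map_mul, MulEquiv.apply_symm_apply]
          exact Prod.ext (by simpa using h) (by simp [h2]))))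
  · have hle : (T : Subgroup G) ≤ centralizer {t} := fun s hs =>
      mem_centralizer_singleton_iff.2 (htc s hs)
    exact Nat.not_even_iff_odd.1 fun h =>
      T.not_dvd_index ((even_iff_two_dvd.1 h).trans (index_dvd_of_le hle))


/-- Let G be a finite group of even order such that (1) some involution t lying in the centre of a Sylow 2-subgroup of G has C_G(t) ≅ Z₂ × S₄, and (2) every Sylow 2-subgroup S of G satisfies C_G(S′) = S, where S′ is the derived subgroup of S. Then G = C_G(t) if G is solvable, and G ≅ S₆ otherwise. -/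
theorem result {G : Type*} [Group G] [Finite G] (hev : Even (Nat.card G))
    (t : G) (ht : orderOf t = 2) (T : Sylow 2 G) (htT : t ∈ (T : Subgroup G)) (htc : ∀ s ∈ (T : Subgroup G), s * t = t * s)
    (e : ↥(Subgroup.centralizer ({t} : Set G)) ≃* (Multiplicative (ZMod 2) × Equiv.Perm (Fin 4)))
    (h2 : ∀ S : Sylow 2 G, Subgroup.centralizer ((⁅(S : Subgroup G), (S : Subgroup G)⁆ : Subgroup G) : Set G) = (S : Subgroup G)) :
    (Group.IsSolvable G → Subgroup.centralizer ({t} : Set G) = ⊤) ∧
      (¬ Group.IsSolvable G → Nonempty (G ≃* Equiv.Perm (Fin 6))) := by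
  obtain ⟨φ, h0⟩ := cfg0 t ht T htc e
  obtain ⟨S, hS⟩ := h0.exists_sylow
  have h : H18.S6.Cfg t φ := ⟨h0, fun g hg => h0.Sy_comm (by
    rw [← hS, ← h2 S, hS]
    intro x hx
    obtain ⟨n, rfl⟩ := h0.der_Sy hx
    exact ((Commute.zpow_left (show Commute (φ H18.S6.z0) g from hg.symm) n)).eq)⟩
  refine ⟨fun hs => h.top_or_S6.resolve_right fun ⟨f⟩ => ?_,
    fun hs => h.top_or_S6.resolve_left fun hc => hs ?_⟩
  · exact Equiv.Perm.not_isSolvable (Fin 6) (by simp; norm_num)
      (Group.isSolvable_of_surjective (f := f.toMonoidHom) f.surjective)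
  · have := H85.isSolvable_perm_fin_four
    have := Group.isSolvable_of_isSolvable_injective (f := e.toMonoidHom) e.injective
    rw [hc] at this
    exact Group.isSolvable_of_surjective (f := (⊤ : Subgroup G).subtype)
      fun g => ⟨⟨g, trivial⟩, rfl⟩

end Cfsg.Agent.S3222
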