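import Cfsg.Statements.S3230
import Cfsg.Agent.H4.GW7
import Cfsg.Agent.H29.Transport
import Cfsg.Agent.S0270

set_option autoImplicit false
open Cfsg

namespace Cfsg.Agent.S3230

open Subgroup H4.GF H29

/-- Let G be a finite group with an involution z, H = C_G(z), such that J = O₂(H) is extraspecial of order 2⁹ with C_H(J) ≤ J and H/J ≅ PSp₄(3). Then G ≅ U₆(2) or G = H·O(G). -/
theorem result {G : Type*} [Group G] [Finite G] (z : G) (hz : orderOf z = 2)
    {F : Type*} [Field F] [Fintype F] (hF : Fintype.card F = 3) {K : Type*} [Field K] [Fintype K] (hK : Fintype.card K = 4)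
    (hJ : Cfsg.IsExtraspecial 2 ↥(Cfsg.pCore 2 ↥(Subgroup.centralizer ({z} : Set G)))) (hJc : Nat.card ↥(Cfsg.pCore 2 ↥(Subgroup.centralizer ({z} : Set G))) = 2 ^ 9)
    (hCJ : Subgroup.centralizer ((Cfsg.pCore 2 ↥(Subgroup.centralizer ({z} : Set G))) : Set ↥(Subgroup.centralizer ({z} : Set G))) ≤ Cfsg.pCore 2 ↥(Subgroup.centralizer ({z} : Set G))) [hJn : (Cfsg.pCore 2 ↥(Subgroup.centralizer ({z} : Set G))).Normal]
    (e : (↥(Subgroup.centralizer ({z} : Set G)) ⧸ Cfsg.pCore 2 ↥(Subgroup.centralizer ({z} : Set G))) ≃* Cfsg.PSp 2 F) :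
    Nonempty (G ≃* Cfsg.PSU 6 K 2) ∨ Subgroup.centralizer ({z} : Set G) ⊔ Cfsg.oddCore G = ⊤ := by
  have L := lx_of_hyp' hz hJ hCJ
  have hs : Function.Surjective (e.toMonoidHom.comp (QuotientGroup.mk' _)) :=
    e.surjective.comp (QuotientGroup.mk'_surjective _)
  have hk : ∀ h, (e.toMonoidHom.comp (QuotientGroup.mk' _)) h = 1 ↔ (h : G) ∈
      (pCore 2 (centralizer ({z} : Set G))).map (centralizer ({z} : Set G)).subtype := fun h => by
    simp [QuotientGroup.eq_one_iff]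
  have : Fact (Nat.Prime 3) := ⟨Nat.prime_three⟩
  rcases psp43 L (by rw [card_map_of_injective (subtype_injective _), hJc]; rfl) o2_of_hyp _ hs hk ⊤
    (fun _ _ h => absurd (mem_top _) h)
    (topEquiv.trans (pspEquiv 2 (equivZMod 3 hF))) with h | ⟨c, ⟨e'⟩⟩
  · exact Or.inr h
  have := S0270.result (F := F) 2 le_rfl (fun _ => hF.ge)
  have hT : closure (cls z) = ⊤ := (eq_top_iff' _).2 fun g => by
    obtain ⟨h, hh, f⟩ := c.fact (self_mem_cls z) g
    have := c.mem_of L _ hs hk (Λ := ⊤) (fun N hN n => (hN.eq_bot_or_eq_top.resolve_left n).ge)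
      (h := ⟨_, mem_centralizer_singleton_iff.2 f⟩) (mem_top _)
    simpa using mul_mem hh this
  exact Or.inl ⟨((topEquiv.symm.trans (MulEquiv.subgroupCongr hT.symm)).trans e').trans
    (psuEquiv 6 2 (equivF4 hK).symm)⟩

end Cfsg.Agent.S3230
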