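import Cfsg.Statements.S3231
import Cfsg.Agent.H4.GW7
import Cfsg.Agent.H29.Transport
import Cfsg.Agent.S0270
import Cfsg.Agent.S0280
import Cfsg.Agent.S0814
import Cfsg.Agent.H56.Mod.S43

set_option autoImplicit false
open Cfsg

namespace Cfsg.Agent.S3231

open Subgroup H4.GF H29

theorem inn_min {S : Type*} [Group S] [IsSimpleGroup S] (hZ : center S = ⊥)
    (N : Subgroup (MulAut S)) (hN : N.Normal) (n : N ≠ ⊥) : (MulAut.conj (G := S)).range ≤ N := by
  rintro _ ⟨x, rfl⟩
  rcases (hN.comap MulAut.conj).eq_bot_or_eq_top with h | h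
  · refine absurd ((eq_bot_iff_forall _).2 fun a ha => MulEquiv.ext fun y => ?_) n
    have : a y * y⁻¹ ∈ N.comap MulAut.conj := by
      have := N.mul_mem ha (hN.conj_mem _ (N.inv_mem ha) (MulAut.conj y))
      rw [mem_comap]
      convert this using 1
      ext; simp [mul_assoc]
    rw [h, mem_bot, mul_inv_eq_one] at this
    exact this
  · exact (show x ∈ N.comap MulAut.conj from h ▸ mem_top x)

/-- Let G be a finite group with an involution z, H = C_G(z), such that J = O₂(H) is extraspecial of order 2⁹ with C_H(J) ≤ J and H/J ≅ Aut(PSp₄(3)). Then either G has a subgroup G₀ of index 2 with G₀ ≅ U₆(2) and C_G(G₀) = 1 (so that G embeds in Aut(G₀)), or G = H·O(G). -/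
theorem result {G : Type*} [Group G] [Finite G] (z : G) (hz : orderOf z = 2)
    {F : Type*} [Field F] [Fintype F] (hF : Fintype.card F = 3) {K : Type*} [Field K] [Fintype K] (hK : Fintype.card K = 4)
    (hJ : Cfsg.IsExtraspecial 2 ↥(Cfsg.pCore 2 ↥(Subgroup.centralizer ({z} : Set G)))) (hJc : Nat.card ↥(Cfsg.pCore 2 ↥(Subgroup.centralizer ({z} : Set G))) = 2 ^ 9)
    (hCJ : Subgroup.centralizer ((Cfsg.pCore 2 ↥(Subgroup.centralizer ({z} : Set G))) : Set ↥(Subgroup.centralizer ({z} : Set G))) ≤ Cfsg.pCore 2 ↥(Subgroup.centralizer ({z} : Set G))) [hJn : (Cfsg.pCore 2 ↥(Subgroup.centralizer ({z} : Set G))).Normal]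
    (e : (↥(Subgroup.centralizer ({z} : Set G)) ⧸ Cfsg.pCore 2 ↥(Subgroup.centralizer ({z} : Set G))) ≃* MulAut (Cfsg.PSp 2 F)) :
    (∃ G₀ : Subgroup G, G₀.index = 2 ∧ Nonempty (↥G₀ ≃* Cfsg.PSU 6 K 2) ∧ Subgroup.centralizer (G₀ : Set G) = ⊥) ∨
      Subgroup.centralizer ({z} : Set G) ⊔ Cfsg.oddCore G = ⊤ := by
  have L := lx_of_hyp' hz hJ hCJ
  have hs : Function.Surjective (e.toMonoidHom.comp (QuotientGroup.mk' _)) :=
    e.surjective.comp (QuotientGroup.mk'_surjective _)
  have hk : ∀ h, (e.toMonoidHom.comp (QuotientGroup.mk' _)) h = 1 ↔ (h : G) ∈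
      (pCore 2 (centralizer ({z} : Set G))).map (centralizer ({z} : Set G)).subtype := fun h => by
    simp [QuotientGroup.eq_one_iff]
  have : Fact (Nat.Prime 3) := ⟨Nat.prime_three⟩
  have := S0270.result (F := F) 2 le_rfl (fun _ => hF.ge)
  obtain ⟨e0⟩ := H56.S43.equiv hF
  have cS : Nat.card (PSp 2 F) = 25920 := (Nat.card_congr e0.toEquiv).trans H56.S43.card
  have cA : Nat.card (MulAut (PSp 2 F)) = 51840 := by
    rw [S0814.result 3 1 le_rfl (by simpa using hF) 2 le_rfl (fun _ => le_rfl), cS]; rfl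
  have hZ : center (PSp 2 F) = ⊥ := (inferInstance : (center (PSp 2 F)).Normal).eq_bot_or_eq_top.resolve_right
    fun h => by
      have : IsMulCommutative (PSp 2 F) := ⟨⟨fun a b => mem_center_iff.1 (h ▸ mem_top b) a⟩⟩
      have := (Group.is_simple_iff_prime_card (α := PSp 2 F)).1 inferInstance
      rw [cS] at this; revert this; norm_num
  have inj : Function.Injective (MulAut.conj (G := PSp 2 F)) := by
    rw [injective_iff_map_eq_one]
    intro a ha
    rw [← mem_bot, ← hZ, mem_center_iff]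
    intro g
    have := congrArg (fun f : MulAut _ => f g) ha
    exact (mul_inv_eq_iff_eq_mul.1 this).symm
  have hi : (MulAut.conj (G := PSp 2 F)).range.index = 2 := by
    have := (MulAut.conj (G := PSp 2 F)).range.card_mul_index
    rw [← Nat.card_congr (MonoidHom.ofInjective inj).toEquiv, cS, cA] at this
    omega
  have := normal_of_index_eq_two hi
  have h2 : ∀ a b, a ∉ (MulAut.conj (G := PSp 2 F)).range → b ∉ (MulAut.conj (G := PSp 2 F)).range →
      a * b ∈ (MulAut.conj (G := PSp 2 F)).range := fun a b ha hb =>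
    (mul_mem_iff_of_index_two hi).2 (iff_of_false ha hb)
  rcases psp43 L (by rw [card_map_of_injective (subtype_injective _), hJc]; rfl) o2_of_hyp _ hs hk _
    h2 ((MonoidHom.ofInjective inj).symm.trans (pspEquiv 2 (equivZMod 3 hF))) with h | ⟨c, ⟨e'⟩⟩
  · exact Or.inr h
  refine Or.inl ⟨closure (cls z), ?_, ⟨e'.trans (psuEquiv 6 2 (equivF4 hK).symm)⟩,
    c.cent (self_mem_cls z)⟩
  have hn := cls_normal z
  obtain ⟨a, ha⟩ : ∃ a, a ∉ closure (cls z) := by
    by_contra hno
    push Not at hno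
    have h1 := S0280.result (q := 2) F4.card_eq 6 (by decide)
    rw [show 2 ^ (6 * (6 - 1) / 2) * ∏ i ∈ Finset.range 6,
      (if Even i then 2 ^ (i + 1) + 1 else 2 ^ (i + 1) - 1) = 82771476480 by decide +kernel,
      show Nat.gcd 6 (2 + 1) = 3 by decide, ← Nat.card_congr e'.toEquiv, (eq_top_iff' _).2 hno,
      card_top] at h1
    have h3 := (centralizer ({z} : Set G)).card_mul_index
    rw [card_eq_card_quotient_mul_card_subgroup (pCore 2 (centralizer ({z} : Set G))),
      Nat.card_congr e.toEquiv, cA, hJc] at h3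
    omega
  have key : ∀ a b, a ∉ closure (cls z) → b ∉ closure (cls z) → a * b ∈ closure (cls z) := by
    intro a b ha hb
    obtain ⟨h, hh, f⟩ := c.fact (self_mem_cls z) a
    obtain ⟨h', hh', f'⟩ := c.fact (self_mem_cls z) b
    have k := fun {h} => c.mem_of L _ hs hk (inn_min hZ) (h := h)
    have := k (h := ⟨_, mem_centralizer_singleton_iff.2 f⟩ * ⟨_, mem_centralizer_singleton_iff.2 f'⟩)
      (by
        rw [map_mul]
        exact h2 _ _ (fun m => ha (by simpa using mul_mem hh (k m)))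
          (fun m => hb (by simpa using mul_mem hh' (k m))))
    have := mul_mem (mul_mem hh (hn.conj_mem _ hh' (h⁻¹ * a))) this
    simpa [mul_assoc] using this
  refine index_eq_two_iff.2 ⟨a, fun b => ?_⟩
  by_cases hb : b ∈ closure (cls z)
  · exact Or.inr ⟨hb, fun m => ha ((mul_mem_cancel_left hb).1 m)⟩
  · exact Or.inl ⟨key b a hb ha, hb⟩

end Cfsg.Agent.S3231
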