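import Cfsg.Statements.S3233
import Cfsg.Agent.H96.PaN
-- import your own Cfsg.Agent.* helpers here

set_option autoImplicit false
open Cfsg

namespace Cfsg.Agent.S3233

/-- Let G be a finite group with an involution z, H = C_G(z), such that (i) J = O₂(H) is an (internal) direct product of a four-group and an extraspecial group of order 2⁹, with C_H(J) ≤ J, and (ii) H contains an element c of order 3 such that J⟨c⟩ is normal in H with H/J⟨c⟩ ≅ Aut(PSp₄(3)) and C_H(c)/⟨c, z⟩ ≅ PSp₄(3). Then G = H·O(G), or G is isomorphic to the Fischer group Fi₂₃, or G has a normal four-group V with G/V ≅ Aut(U₆(2)). -/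
theorem result {G : Type*} [Group G] [Finite G] (z : G) (hz : orderOf z = 2)
    {F : Type*} [Field F] [Fintype F] (hF : Fintype.card F = 3) {K : Type*} [Field K] [Fintype K] (hK : Fintype.card K = 4)
    (V E : Subgroup ↥(Subgroup.centralizer ({z} : Set G))) (hVE : Cfsg.IsInternalDirectProduct V E (Cfsg.pCore 2 ↥(Subgroup.centralizer ({z} : Set G)))) (hV : Nat.card ↥V = 4) (hV2 : ∀ v ∈ V, v ^ 2 = 1)
    (hE : Cfsg.IsExtraspecial 2 ↥E) (hEc : Nat.card ↥E = 2 ^ 9)
    (hCJ : Subgroup.centralizer ((Cfsg.pCore 2 ↥(Subgroup.centralizer ({z} : Set G))) : Set ↥(Subgroup.centralizer ({z} : Set G))) ≤ Cfsg.pCore 2 ↥(Subgroup.centralizer ({z} : Set G)))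
    (zc c : ↥(Subgroup.centralizer ({z} : Set G))) (hzc : (zc : G) = z) (hc : orderOf c = 3)
    [hJc : (Cfsg.pCore 2 ↥(Subgroup.centralizer ({z} : Set G)) ⊔ Subgroup.zpowers c).Normal] (e : (↥(Subgroup.centralizer ({z} : Set G)) ⧸ (Cfsg.pCore 2 ↥(Subgroup.centralizer ({z} : Set G)) ⊔ Subgroup.zpowers c)) ≃* MulAut (Cfsg.PSp 2 F))
    [hcz : ((Subgroup.zpowers c ⊔ Subgroup.zpowers zc).subgroupOf (Subgroup.centralizer ({c} : Set ↥(Subgroup.centralizer ({z} : Set G))))).Normal]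
    (e' : (↥(Subgroup.centralizer ({c} : Set ↥(Subgroup.centralizer ({z} : Set G)))) ⧸ (Subgroup.zpowers c ⊔ Subgroup.zpowers zc).subgroupOf (Subgroup.centralizer ({c} : Set ↥(Subgroup.centralizer ({z} : Set G))))) ≃* Cfsg.PSp 2 F) :
    Subgroup.centralizer ({z} : Set G) ⊔ Cfsg.oddCore G = ⊤ ∨ Cfsg.Spor.IsoFi23 G ∨
      (∃ (W : Subgroup G) (hW : W.Normal), Nat.card ↥W = 4 ∧ (∀ w ∈ W, w ^ 2 = 1) ∧
        Nonempty ((G ⧸ W) ≃* MulAut (Cfsg.PSU 6 K 2))) := by
  obtain ⟨D, hi, -⟩ := H96.Par.gd_aut hF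
  obtain ⟨cS, o2⟩ := H96.Par.psp_o2 hF
  have zz : zc * zc = 1 := Subtype.ext (by
    rw [Subgroup.coe_mul, hzc, ← pow_two, ← hz, pow_orderOf_eq_one]; rfl)
  have c3 : c * c * c = 1 := by rw [← pow_three', ← hc, pow_orderOf_eq_one]
  have zH : ∀ h, Commute h zc := fun h => Subtype.ext (by
    rw [Subgroup.coe_mul, Subgroup.coe_mul, hzc]; exact H96.Par.mem_cen.1 h.2)
  have nz : (Subgroup.zpowers zc).Normal := ⟨fun _ ⟨k, hk⟩ g => ⟨k, hk.trans (H96.Par.cj_eq.2
    (hk ▸ (zH g).zpow_right k)).symm⟩⟩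
  have hP := H44.pCore_isPGroup (p := 2) (G := Subgroup.centralizer ({z} : Set G))
  generalize Cfsg.pCore_normal 2 (Subgroup.centralizer ({z} : Set G)) = hn
  generalize Cfsg.pCore 2 (Subgroup.centralizer ({z} : Set G)) = J at *
  have zJ : zc ∈ J := hCJ fun h _ => zH h
  have fx : ∀ x ∈ J, Commute c x → x = 1 ∨ x = zc := fun x hx h => by
    let θ := e'.toMonoidHom.comp (QuotientGroup.mk' _)
    have m := Subgroup.mem_map_of_mem θ (K := J.subgroupOf _) (x := ⟨x, H96.Par.mem_cen.2 h.symm⟩) hx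
    rw [o2 ((J.subgroupOf _).map θ) (Subgroup.Normal.map inferInstance θ (e'.surjective.comp (QuotientGroup.mk'_surjective _)))
      (hP.comap_subtype.map θ), Subgroup.mem_bot] at m
    have : x ∈ ((Subgroup.zpowers c ⊔ Subgroup.zpowers zc : Subgroup _) : Set _) :=
      (QuotientGroup.eq_one_iff (N := (Subgroup.zpowers c ⊔ Subgroup.zpowers zc).subgroupOf _)
        ⟨x, H96.Par.mem_cen.2 h.symm⟩).1 (e'.map_eq_one_iff.1 m)
    rw [Subgroup.mul_normal] at this
    obtain ⟨a, ha, b, hb, rfl⟩ := this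
    obtain ⟨k, hk⟩ := hP ⟨a, (J.mul_mem_cancel_right (Subgroup.zpowers_le.2 zJ hb)).1 hx⟩
    rw [H96.Par.two3 c3 (H96.Par.zp3 c3 ha) (congrArg Subtype.val hk)]
    simpa using (H15.mem_zpowers_two zz).1 hb
  obtain ⟨Z, ρ, Y, c8, hρ⟩ := H96.Par.ly_of hVE (fun v hv => by rw [← pow_two, hV2 v hv]) hE hEc hCJ
    (fun ζ n h k => (congrArg Subtype.val ((fx ζ (Subgroup.commutator_le_left J J h)
      (k c)).resolve_left n)).trans hzc)
    (QuotientGroup.mk' J) (QuotientGroup.mk'_surjective _) fun h => QuotientGroup.eq_one_iff h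
  let ε := e.toMonoidHom.comp (QuotientGroup.mk' (J ⊔ Subgroup.zpowers c))
  have kε : ∀ h, ε h = 1 ↔ h ∈ J ⊔ Subgroup.zpowers c := fun h =>
    e.map_eq_one_iff.trans (QuotientGroup.eq_one_iff h)
  have sε : Function.Surjective ε := e.surjective.comp (QuotientGroup.mk'_surjective _)
  let φ := QuotientGroup.lift J ε fun h m => (kε h).2 (Subgroup.mem_sup_left m)
  have C : H96.Par.C3 _ Z z c ρ φ _ := ⟨Y, by rw [c8, hV], H96.Par.mem_cen.1 c.2,
    congrArg Subtype.val c3, ?_, fun a => (sε a).imp' QuotientGroup.mk fun _ h => h,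
    by rw [hρ]; exact (kε c).2 (Subgroup.mem_sup_right (Subgroup.mem_zpowers c)), ?_, D, hi, ?_⟩
  · rcases C.core with h | h | ⟨hn, ⟨f⟩⟩
    · exact .inl (H75.centralizer_sup_oddCore_of_isolated hz fun g => h g (Commute.one_right g))
    · exact .inr (.inl h)
    · exact .inr (.inr ⟨C.F, hn, C.f4.card, fun w hw => (pow_two w).trans (C.f4.sq w hw),
        ⟨f.trans (MulAut.congr (H29.psuEquiv 6 2 (H29.equivF4 hK).symm))⟩⟩)
  · rintro _ ⟨x, hx, rfl⟩ h
    exact (fx x hx (Subtype.ext h)).imp (congrArg Subtype.val) fun e => (congrArg Subtype.val e).trans hzc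
  · rintro ⟨h⟩ m
    have : h ∈ ((J ⊔ Subgroup.zpowers c : Subgroup _) : Set _) := (kε h).1 m
    rw [Subgroup.normal_mul] at this
    obtain ⟨a, ha, b, hb, rfl⟩ := this
    change QuotientGroup.mk' J (a * b) = 1 ∨ QuotientGroup.mk' J (a * b) = _ ∨
      QuotientGroup.mk' J (a * b) = _
    rw [map_mul, show QuotientGroup.mk' J a = 1 from (QuotientGroup.eq_one_iff a).2 ha, one_mul, hρ,
      ← map_mul]
    exact (H96.Par.zp3 c3 hb).imp (congrArg _) (.imp (congrArg _) (congrArg _))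
  · by_contra hno
    push Not at hno
    have := Nat.card_le_card_of_surjective (QuotientGroup.lift ((Subgroup.zpowers c ⊔
      Subgroup.zpowers zc).subgroupOf (Subgroup.centralizer {c})) (ε.comp (Subgroup.subtype _))
      fun h m => (kε h).2 (sup_le le_sup_right ((Subgroup.zpowers_le.2 zJ).trans le_sup_left) m))
      fun a => by
        obtain ⟨g, rfl⟩ := sε a
        obtain ⟨k, h1, h2, f⟩ := hno g (H96.Par.mem_cen.1 g.2)
        rw [hρ, hρ ⟨k, H96.Par.mem_cen.2 h1⟩] at f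
        exact ⟨QuotientGroup.mk ⟨⟨k, H96.Par.mem_cen.2 h1⟩, H96.Par.mem_cen.2 (Subtype.ext h2)⟩, f.symm⟩
    rw [Nat.card_congr e'.toEquiv, cS, ← (MulAut.conj (G := Cfsg.PSp 2 F)).range.card_mul_index, hi,
      Nat.card_congr D.e.some.toEquiv, (H96.Par.psp_o2 (ZMod.card 3)).1] at this
    omega

end Cfsg.Agent.S3233
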