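import Cfsg.Statements.S3234
import Cfsg.Agent.H52.P24C
import Cfsg.Agent.S1715
import Cfsg.Agent.H55.Fi24Out
import Cfsg.Agent.H29.Transport
import Cfsg.Agent.H71.CharP
-- import your own Cfsg.Agent.* helpers here

set_option autoImplicit false
open Cfsg

namespace Cfsg.Agent.S3234

open Subgroup H15 H15.LF H52 H52.P24 H4.GF
open scoped commutatorElement

theorem cent24 : centralizer (commutator Spor.Fi24 : Set Spor.Fi24) = ⊥ := by
  have := H58.Fi24P.simple_commutator
  have := H58.Fi24P.finite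
  have h1 := ((inferInstance : (center (commutator Spor.Fi24)).Normal).eq_bot_or_eq_top).resolve_right
    fun h => by
      have : IsMulCommutative (commutator Spor.Fi24) := ⟨⟨fun a b => mem_center_iff.1 (h ▸ mem_top b) a⟩⟩
      have := (Group.is_simple_iff_prime_card (α := commutator Spor.Fi24)).1 inferInstance
      rw [H58.Fi24P.card_commutator] at this
      exact absurd (this.eq_one_or_self_of_dvd 2 (by norm_num)) (by norm_num)
  rw [eq_bot_iff, ← H96.center24]
  intro c hc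
  refine mem_center_iff.2 fun g => commutatorElement_eq_one_iff_mul_comm.1 ?_
  have h2 : ⁅g, c⁆ ∈ centralizer (commutator Spor.Fi24 : Set Spor.Fi24) :=
    mul_mem ((inferInstance : (centralizer (commutator Spor.Fi24 : Set Spor.Fi24)).Normal).conj_mem c hc g)
      (inv_mem hc)
  exact congrArg Subtype.val (mem_bot.1 (h1 ▸ mem_center_iff.2 fun a => Subtype.ext (h2 a a.2) :
    (⟨_, commutator_mem_commutator (mem_top g) (mem_top c)⟩ : commutator Spor.Fi24) ∈ ⊥))

/-- Let G be a finite group with an involution z, H = C_G(z), such that (i) J = O₂(H) is extraspecial of order 2¹³ with C_H(J) ≤ J, and (ii) H has normal subgroups J ≤ M ≤ K where M/J has order 3 and is the largest normal 3-subgroup of H/J (that is, M = O_{2,3}(H)) and K/M ≅ U₄(3). Then G = H·O(G); or H/K has order 2 and G is isomorphic to the Fischer group Fi₂₄′; or H/K is a four-group and G ≅ Fi₂₄. -/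
theorem result {G : Type*} [Group G] [Finite G] (z : G) (hz : orderOf z = 2)
    {L : Type*} [Field L] [Fintype L] (hL : Fintype.card L = 9)
    (hJ : Cfsg.IsExtraspecial 2 ↥(Cfsg.pCore 2 ↥(Subgroup.centralizer ({z} : Set G)))) (hJc : Nat.card ↥(Cfsg.pCore 2 ↥(Subgroup.centralizer ({z} : Set G))) = 2 ^ 13)
    (hCJ : Subgroup.centralizer ((Cfsg.pCore 2 ↥(Subgroup.centralizer ({z} : Set G))) : Set ↥(Subgroup.centralizer ({z} : Set G))) ≤ Cfsg.pCore 2 ↥(Subgroup.centralizer ({z} : Set G)))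
    (M K : Subgroup ↥(Subgroup.centralizer ({z} : Set G))) [hMn : M.Normal] [hKn : K.Normal] (hJM : Cfsg.pCore 2 ↥(Subgroup.centralizer ({z} : Set G)) ≤ M) (hMK : M ≤ K)
    (hM3 : Nat.card ↥M = 3 * Nat.card ↥(Cfsg.pCore 2 ↥(Subgroup.centralizer ({z} : Set G))))
    (hMmax : ∀ M' : Subgroup ↥(Subgroup.centralizer ({z} : Set G)), M'.Normal → Cfsg.pCore 2 ↥(Subgroup.centralizer ({z} : Set G)) ≤ M' → (∃ a : ℕ, Nat.card ↥M' = 3 ^ a * Nat.card ↥(Cfsg.pCore 2 ↥(Subgroup.centralizer ({z} : Set G)))) → M' ≤ M)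
    (e : (↥K ⧸ M.subgroupOf K) ≃* Cfsg.PSU 4 L 3) :
    Subgroup.centralizer ({z} : Set G) ⊔ Cfsg.oddCore G = ⊤ ∨
      (K.index = 2 ∧ Cfsg.Spor.IsoFi24' G) ∨
      (K.index = 4 ∧ (∀ x : ↥(Subgroup.centralizer ({z} : Set G)) ⧸ K, x ^ 2 = 1) ∧ Nonempty (G ≃* Cfsg.Spor.Fi24)) := by
  have : Fact (Nat.Prime 2) := ⟨Nat.prime_two⟩
  have : Fact (Nat.Prime 3) := ⟨Nat.prime_three⟩
  have : Fintype (GaloisField 3 2) := Fintype.ofFinite _
  have h9 : Fintype.card (GaloisField 3 2) = 9 := by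
    rw [← Nat.card_eq_fintype_card, GaloisField.card 3 2 two_ne_zero]; rfl
  replace e := e.trans (H29.psuEquiv 4 3 (FiniteField.ringEquivOfCardEq (hL.trans h9.symm)))
  obtain ⟨π, ρ, X, hK⟩ := exists_F0 (lx_of_hyp' hz hJ hCJ) hJc hJM hMK hM3 h9 e
  have hmem : ∀ h : centralizer ({z} : Set G), (h : G) ∈ (pCore 2 (centralizer ({z} : Set G))).map
      (centralizer ({z} : Set G)).subtype ↔ h ∈ pCore 2 (centralizer ({z} : Set G)) :=
    fun h => mem_map_iff_mem (subtype_injective _)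
  refine (X.dich o2_of_hyp).imp_right fun ⟨g, hs, hne⟩ => ?_
  have hker : ρ.ker = pCore 2 (centralizer ({z} : Set G)) := Subgroup.ext fun h => (X.ker h).trans (hmem h)
  have hK' : K = K0.comap ρ := by rw [← hK, comap_map_eq_self (hker.trans_le (hJM.trans hMK))]
  have hi : K.index * Nat.card K0 = Nat.card ρ.range := by
    rw [hK', index_comap, relIndex, ← Nat.card_congr (subgroupOfEquivOfLe X.K0_le).toEquiv, index_mul_card]
  rw [card_K0] at hi
  by_cases hR : ρ.range ≤ H0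
  · rw [le_antisymm hR (X.H0_le hs hne), card_H0] at hi
    exact Or.inl ⟨by omega, S1715.result z hz _ M K (H71.gfitting_eq_pCore_iff.2 hCJ) hJ hJc hJM hMK hM3
      _ h9 e (by omega) ⟨g, ⟨X.le_cz hs, (hmem ⟨_, X.le_cz hs⟩).1 hs⟩, hne⟩⟩
  have hW := eq_of_index_two (X.H0_le hs hne) X.le_W hR (by rw [card_W, card_H0])
  rw [hW, card_W] at hi
  refine Or.inr ⟨by omega, fun x => ?_, ?_⟩
  · obtain ⟨x, rfl⟩ := QuotientGroup.mk_surjective x
    rw [← QuotientGroup.mk_pow, QuotientGroup.eq_one_iff, hK', mem_comap, pow_two, map_mul]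
    exact sq_K0 (X.mem_W x)
  obtain ⟨V, d, hd, hV⟩ := X.exists_hom hs hne (hW.ge tau_W)
  have hi2 : V.ker.index = 2 := by
    rw [index_ker, show V.range = ⊤ from (eq_top_iff' _).2 fun x =>
      (Int.units_eq_one_or x).elim (fun e => e ▸ one_mem _) fun e => e ▸ ⟨d, hV⟩, card_top]
    simp
  have hzV : z ∈ V.ker := X.psi_z' (V.comp (⊤ : Subgroup G).subtype) (fun _ _ _ _ _ _ => trivial) trivial
  have hc : ∀ a b : G, ⁅a, b⁆ ∈ V.ker := fun a b => by
    rw [MonoidHom.mem_ker, map_commutatorElement, commutatorElement_eq_one_iff_mul_comm, mul_comm]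
  have hQV : pCore 2 (centralizer ({z} : Set G)) ≤ V.ker.subgroupOf _ := fun a ha => by
    obtain ⟨k, hk⟩ := X.K0_le om_K0
    obtain ⟨b, hb, e⟩ := X.surj (om (π a))
    have h7 := mul_mem hb (X.norm k (inv_mem hb))
    rw [← mul_assoc b, ← mul_assoc b] at h7
    rcases X.uniq h7 ((hmem a).2 ha) (by rw [X.pi_cm k hb, hk, e, ← om_om, om3]) with e | e
    · exact (show (a : G) ∈ V.ker from e ▸ hc b k)
    · exact (show (a : G) ∈ V.ker from e ▸ mul_mem hzV (hc b k))
  have hKV : K ≤ V.ker.subgroupOf _ := by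
    rw [← comap_map_eq_self (hker.trans_le hQV), hK']
    refine comap_mono ?_
    have h1 : ⁅K0, K0⁆ = K0 := by
      rw [← map_subtype_commutator, commutator_K0, ← MonoidHom.range_eq_map, range_subtype]
    rw [← h1, ← hK, ← map_commutator]
    exact map_mono (commutator_le.2 fun a _ b _ => hc a b)
  rw [← Tr.range_cenInc ⟨z, hzV⟩] at hKV hQV
  have inj := Tr.cenInc_inj (⟨z, hzV⟩ : V.ker)
  have : (Tr.cenInc (⟨z, hzV⟩ : V.ker)).range.Normal := by rw [Tr.range_cenInc]; infer_instance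
  have hP := Tr.pCore_comap (p := 2) _ inj
  obtain ⟨e'⟩ := Tr.quot_comap _ inj hKV M
  obtain ⟨g', hg', e1⟩ : ∃ g' ∈ V.ker, g' * z * g'⁻¹ = g * z * g⁻¹ := by
    by_cases h : g ∈ V.ker
    · exact ⟨g, h, rfl⟩
    · refine ⟨g * d, (mul_mem_iff_of_index_two hi2).2 (iff_of_false h fun h' => ?_), ?_⟩
      · exact absurd (hV.symm.trans h') (by decide)
      · rw [mul_assoc g, mem_cz.1 hd]; group
  rw [← e1] at hs hne
  obtain ⟨f⟩ := S1715.result (⟨z, hzV⟩ : V.ker) (by rw [← orderOf_coe]; exact hz) _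
    (M.comap (Tr.cenInc (⟨z, hzV⟩ : V.ker))) (K.comap (Tr.cenInc (⟨z, hzV⟩ : V.ker)))
    (H71.gfitting_eq_pCore_iff.2 fun a ha => by
      rw [hP] at ha ⊢
      exact hCJ fun b hb => by
        obtain ⟨b, rfl⟩ := hQV hb
        rw [← map_mul, ← map_mul, ha b hb])
    (hP ▸ isExtraspecial_congr (Tr.comapEquiv _ inj hQV).symm hJ)
    (by rw [hP, Tr.card_comap _ inj hQV, hJc]) (hP ▸ comap_mono hJM) (comap_mono hMK)
    (by rw [hP, Tr.card_comap _ inj hQV, Tr.card_comap _ inj (hMK.trans hKV), hM3]) _ h9 (e'.trans e)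
    (by
      have h1 := relIndex_mul_index hKV
      have h2 : (Tr.cenInc (⟨z, hzV⟩ : V.ker)).range.index = 2 := by
        rw [Tr.range_cenInc]
        refine index_eq_two_iff.2 ⟨⟨d, hd⟩, fun b => ?_⟩
        simp only [mem_subgroupOf, MonoidHom.mem_ker, coe_mul, map_mul, hV]
        rcases Int.units_eq_one_or (V b) with e | e <;> rw [e] <;> decide
      rw [h2, show K.index = 4 by omega] at h1
      rw [index_comap]
      omega)
    ⟨⟨g', hg'⟩, ⟨mem_cz.2 (Subtype.ext (X.lx.cen _ hs)), hP ▸ (hmem ⟨_, X.le_cz hs⟩).1 hs⟩,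
      fun e => hne (congrArg Subtype.val e)⟩
  have := H58.Fi24P.finite
  obtain ⟨f1⟩ := Tr.equiv_aut (commutator Spor.Fi24) cent24 (F24A.out24.trans H58.Fi24P.index_commutator.symm)
  obtain ⟨f2⟩ := Tr.equiv_aut' V.ker ((eq_bot_iff_forall _).2 fun c hc => (X.lx.large c fun a ha => by
      obtain ⟨b, hb, rfl⟩ := ha
      obtain ⟨b, rfl⟩ := hQV hb
      exact (hc _ b.1.2).symm).resolve_right fun e => hne (by rw [← e, hc g' hg', mul_inv_cancel_right])) f
    (by
      rw [← Nat.card_congr f1.toEquiv, ← V.ker.index_mul_card, hi2, Nat.card_congr f.toEquiv,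
        ← H58.Fi24P.index_commutator, index_mul_card])
  exact ⟨f2.trans f1.symm⟩

end Cfsg.Agent.S3234
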