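import Cfsg.Statements.S3252
import Cfsg.Agent.H89.CZF
import Cfsg.Agent.H44.Cores
import Cfsg.Agent.S3559
import Cfsg.Agent.S3972

set_option autoImplicit false
open Cfsg

namespace Cfsg.Agent.S3252

open Subgroup MulAction H89CZ

universe u

def NoSol (G : Type*) [Group G] : Prop := ∀ N : Subgroup G, N.Normal → Group.IsSolvable N → N = ⊥

section

variable {G : Type u} [Group G] [Finite G]

theorem le_cent {K N : Subgroup G} [N.Normal] (hn : N ≤ normalizer (K : Set G)) (h : K ⊓ N = ⊥) :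
    K ≤ centralizer (N : Set G) := fun k hk => mem_centralizer_iff.2 fun n hn' => by
  have : n * k * n⁻¹ * k⁻¹ ∈ K ⊓ N := ⟨K.mul_mem ((mem_normalizer_iff.1 (hn hn') k).1 hk) (K.inv_mem hk), by
    simpa [mul_assoc] using N.mul_mem hn' (Normal.conj_mem inferInstance _ (N.inv_mem hn') k)⟩
  rwa [h, mem_bot, mul_inv_eq_one, mul_inv_eq_iff_eq_mul] at this

theorem inf_cent (h : NoSol G) (N : Subgroup G) [N.Normal] : centralizer (N : Set G) ⊓ N = ⊥ :=
  h _ inferInstance (Group.isSolvable_of_comm fun a b => Subtype.ext (a.2.1 b b.2.2).symm)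

theorem noSol_quot (h : NoSol G) (N : Subgroup G) [N.Normal] : NoSol (G ⧸ centralizer (N : Set G)) :=
  fun K hK hs => by
  have := h (K.comap (QuotientGroup.mk' _) ⊓ N) inferInstance (Group.isSolvable_of_isSolvable_injective
    (f := ((QuotientGroup.mk' _).comp (Subgroup.subtype _)).codRestrict K fun g => g.2.1)
    ((injective_iff_map_eq_one _).2 fun g hg => Subtype.ext (mem_bot.1 ((inf_cent h N).le
      ⟨(QuotientGroup.eq_one_iff _).1 (congrArg Subtype.val hg), g.2.2⟩))))
  rw [← map_comap_eq_self_of_surjective (QuotientGroup.mk'_surjective _) K, Subgroup.map_eq_bot_iff,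
    QuotientGroup.ker_mk']
  exact le_cent le_normalizer_of_normal this

theorem primitive (h : NoSol G) [Nontrivial G] {a : G} {B M : Subgroup G} [IsZGroup B]
    (hab : ∀ g : G, ∃ i : ℤ, ∃ b ∈ B, g = a ^ i * b) (hM : IsCoatom M) (hBM : B ≤ M)
    {N : Subgroup G} [N.Normal] (hN : N ≠ ⊥) (hNM : ¬ N ≤ M)
    (hmin : ∀ M : Subgroup G, M.Normal → M ≤ N → M = ⊥ ∨ M = N) (hC : centralizer (N : Set G) = ⊥) :
    Concl (zpowers a) B := by
  classical
  have faith : ∀ g : G, (∀ x : G ⧸ M, g • x = x) → g = 1 := fun g hg => by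
    have : g ∈ M.normalCore := by
      rw [normalCore_eq_ker]; exact Equiv.ext hg
    exact mem_bot.1 (hC ▸ le_cent le_normalizer_of_normal ((hmin _ inferInstance inf_le_right).resolve_right
      fun k => hNM ((inf_eq_right.1 k).trans M.normalCore_le)) this)
  have st : stabilizer G ((1 : G) : G ⧸ M) = M := stabilizer_quotient M
  have a1 : ∀ x : G ⧸ M, ∃ i : ℤ, a ^ i • ((1 : G) : G ⧸ M) = x := fun x => by
    obtain ⟨g, rfl⟩ := exists_smul_eq G ((1 : G) : G ⧸ M) x
    obtain ⟨i, b, hb, rfl⟩ := hab g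
    exact ⟨i, by rw [mul_smul, show b • ((1 : G) : G ⧸ M) = _ from st.ge (hBM hb)]⟩
  have ha : ∀ x y : G ⧸ M, ∃ i : ℤ, a ^ i • x = y := fun x y => by
    obtain ⟨i, rfl⟩ := a1 x
    obtain ⟨j, rfl⟩ := a1 y
    exact ⟨j - i, by rw [← mul_smul, ← zpow_add, sub_add_cancel]⟩
  have sr : ∀ g ∈ zpowers a, FP (G ⧸ M) g → g = 1 := fun g hg ⟨x, hx⟩ => faith g fun y => by
    obtain ⟨i, rfl⟩ := ha x y
    rw [← mul_smul, H42.comm_of_mem_zpowers hg (zpow_mem (mem_zpowers a) i), mul_smul, hx]
  obtain rfl : B = M := le_antisymm hBM fun m hm => by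
    obtain ⟨i, b, hb, rfl⟩ := hab m
    rwa [sr _ (zpow_mem (mem_zpowers a) i) ⟨_, st.ge ((mul_mem_cancel_right (hBM hb)).1 hm)⟩, one_mul]
  have hZ : ∀ x : G ⧸ B, IsZGroup (stabilizer G x) := fun x => by
    obtain ⟨g, rfl⟩ := exists_smul_eq G ((1 : G) : G ⧸ B) x
    rw [stabilizer_smul_eq_stabilizer_map_conj, st]
    exact .of_surjective (MonoidHom.subgroupMap_surjective _ B)
  have ev : 2 ∣ Nat.card (G ⧸ B) := by
    by_contra k
    obtain ⟨S⟩ : Nonempty (Sylow 2 G) := inferInstance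
    obtain ⟨x, hx⟩ := S.2.nonempty_fixed_point_of_prime_not_dvd_card _ k
    have := hZ x
    have le : (S : Subgroup G) ≤ stabilizer G x := fun g hg => hx ⟨g, hg⟩
    have := (S.2.of_equiv (subgroupOfEquivOfLe le).symm).isCyclic_of_isZGroup
    obtain ⟨K, hK, k1, k2⟩ := H23.exists_compl_of_cyclic
      (isCyclic_of_surjective _ (subgroupOfEquivOfLe le).surjective)
    obtain rfl := h K hK (S0205.result k1)
    have := (k2.of_equiv QuotientGroup.quotientBot).isNilpotent
    exact top_ne_bot (h ⊤ inferInstance inferInstance)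
  have : Nontrivial (G ⧸ B) := Finite.one_lt_card_iff_nontrivial.1 (Nat.le_of_dvd Nat.card_pos ev)
  have pp := (isCoatom_stabilizer_iff_preprimitive G ((1 : G) : G ⧸ B)).1 (st.symm ▸ hM)
  have tr : IsPretransitive (zpowers a) (G ⧸ B) := ⟨fun x y => (ha x y).elim fun i k => ⟨⟨_, i, rfl⟩, k⟩⟩
  have fr : ∀ x : G ⧸ B, stabilizer (zpowers a) x = ⊥ := fun x =>
    (eq_bot_iff_forall _).2 fun g hg => Subtype.ext (sr g g.2 ⟨x, hg⟩)
  rw [← st]
  refine prim (hyp_of (fun x y x' y' n1 n2 => ?_) faith hZ ev) hZ _ ha sr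
    (fun k => hN (h N inferInstance k)) hmin hC
  by_cases hp : IsPrimePow (Nat.card (G ⧸ B))
  swap
  · have : FaithfulSMul G (G ⧸ B) := ⟨fun {g k} e => inv_mul_eq_one.1 (faith _ fun x => by
      rw [mul_smul, ← e, inv_smul_smul])⟩
    exact is_two_pretransitive_iff.1 ((S3559.result inferInstance (Nat.le_of_dvd Nat.card_pos ev) hp
      (zpowers a) inferInstance ⟨tr, fr⟩).resolve_left fun k => k pp) n1 n2
  obtain ⟨p, m, p1, m1, e⟩ := (isPrimePow_nat_iff _).1 hp
  by_cases m2 : m = 1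
  · obtain ⟨g, rfl⟩ := exists_smul_eq G x x'
    rw [← e] at ev
    rw [m2, pow_one, ← (Nat.prime_dvd_prime_iff_eq Nat.prime_two p1).1 (Nat.prime_two.dvd_of_dvd_pow ev)] at e
    exact ⟨g, rfl, ((Nat.card_eq_two_iff' (g • x)).1 e.symm).unique
      (fun k => n1 (smul_left_cancel g k).symm) n2.symm⟩
  have := Fintype.ofFinite (G ⧸ B)
  let π := (toPermHom G (G ⧸ B)).rangeRestrict
  have pp' : IsPreprimitive (toPermHom G (G ⧸ B)).range (G ⧸ B) :=
    .of_surjective (φ := π) (f := ⟨id, fun _ _ => rfl⟩) Function.surjective_id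
  obtain ⟨⟨_, g, rfl⟩, hg⟩ := is_two_pretransitive_iff.1 (by_contra fun k =>
    (S3972.result p m p1 (by omega) (by rw [e, Nat.card_eq_fintype_card]) _ pp'.toIsPretransitive k (π a) (by
      rw [orderOf_injective π ((injective_iff_map_eq_one _).2 fun g hg => faith g fun x =>
        congrArg (fun σ : (toPermHom G (G ⧸ B)).range => σ • x) hg), e, ← index_stabilizer_of_transitive
          (zpowers a) x, fr, index_bot, Nat.card_zpowers])).1 pp') n1 n2
  exact ⟨g, hg⟩

theorem two_quot {a : G} {B : Subgroup G} [IsZGroup B] (hab : ∀ g : G, ∃ i : ℤ, ∃ b ∈ B, g = a ^ i * b)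
    {D E : Subgroup G} [D.Normal] [E.Normal] (dj : E ⊓ D = ⊥) (hC : D ≠ ⊥)
    (h1 : Concl (zpowers (QuotientGroup.mk' D a)) (B.map (QuotientGroup.mk' D)))
    (h2 : Concl (zpowers (QuotientGroup.mk' E a)) (B.map (QuotientGroup.mk' E))) : False := by
  obtain ⟨-, e1, ⟨u, hu⟩, b1, -⟩ := h1
  obtain ⟨-, e2, ⟨v, hv⟩, b2, k2⟩ := h2
  have inj : ∀ g : G, QuotientGroup.mk' D g = 1 → QuotientGroup.mk' E g = 1 → g = 1 := fun g h1 h2 =>
    mem_bot.1 (dj.le ⟨(QuotientGroup.eq_one_iff _).1 h2, (QuotientGroup.eq_one_iff _).1 h1⟩)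
  have c1 : Nat.card (D.map (QuotientGroup.mk' E)) = Nat.card D := (Nat.card_congr (Equiv.ofBijective _
    ⟨(injective_iff_map_eq_one _).2 fun g hg => Subtype.ext (inj g ((QuotientGroup.eq_one_iff _).2 g.2)
      (congrArg Subtype.val hg)), MonoidHom.subgroupMap_surjective _ D⟩)).symm
  have c2 := (D.map (QuotientGroup.mk' E)).index_mul_card
  have c3 := (k2 _ (Normal.map inferInstance _ (QuotientGroup.mk'_surjective E)) fun k => hC (by
    rw [← card_le_one_iff_eq_bot, ← c1, k, card_bot])).1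
  have c4 := D.index_mul_card
  have c5 : Nat.card G ≤ orderOf a * Nat.card B := by
    rw [← Nat.card_zpowers, ← Nat.card_prod]
    exact Nat.card_le_card_of_surjective (fun p : zpowers a × B => (p.1 : G) * p.2) fun g => by
      obtain ⟨i, b, hb, rfl⟩ := hab g
      exact ⟨(⟨_, i, rfl⟩, ⟨b, hb⟩), rfl⟩
  rw [hu] at e1
  rw [hv] at e2
  rw [Nat.card_zpowers] at hu hv
  have c6 : orderOf a ≤ 2 * u * v := orderOf_le_of_pow_eq_one
    (by have := orderOf_pos (QuotientGroup.mk' D a); have := orderOf_pos (QuotientGroup.mk' E a)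
        exact Nat.mul_pos (by omega) (by omega))
    (inj _ (by rw [map_pow, pow_mul, ← hu, pow_orderOf_eq_one, one_pow])
      (by rw [map_pow, mul_right_comm, pow_mul, ← hv, pow_orderOf_eq_one, one_pow]))
  let ψ := ((QuotientGroup.mk' D).subgroupMap B).prod ((QuotientGroup.mk' E).subgroupMap B)
  have c7 := ψ.range.index_mul_card
  rw [Nat.card_prod, ← Nat.card_congr (MonoidHom.ofInjective (f := ψ) ((injective_iff_map_eq_one _).2
    fun g hg => Subtype.ext (inj g (congrArg (fun p => (p.1 : G ⧸ D)) hg)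
      (congrArg (fun p => (p.2 : G ⧸ E)) hg)))).toEquiv] at c7
  have c8 : 2 ≤ ψ.range.index := by
    have : ψ.range.index ≠ 0 := FiniteIndex.index_ne_zero
    have : ψ.range.index ≠ 1 := fun k => by
      have := IsZGroup.of_surjective (MonoidHom.range_eq_top.1 (index_eq_one.1 k))
      obtain ⟨s, hs⟩ := exists_prime_orderOf_dvd_card' 2 b1
      obtain ⟨t, ht⟩ := exists_prime_orderOf_dvd_card' 2 b2
      have s1 : s ≠ 1 := fun e => by simp [e] at hs
      obtain ⟨g, hg⟩ := conj_inv_Z (u := (s, 1)) (v := (1, t))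
        (Prod.ext (by rw [← sq, ← hs]; exact pow_orderOf_eq_one s) (mul_one _))
        (Prod.ext (mul_one _) (by rw [← sq, ← ht]; exact pow_orderOf_eq_one t))
        (fun e => s1 (congrArg Prod.fst e)) fun e => by simp [show t = 1 from congrArg Prod.snd e] at ht
      exact s1 (by simpa using congrArg Prod.fst hg)
    omega
  rw [c1] at c2
  change D.index * _ = _ at c4
  change _ = D.index at e1
  have p1 : 0 < Nat.card G := Nat.card_pos
  have c9 : 2 * Nat.card B ≤ _ := c7 ▸ Nat.mul_le_mul_right _ c8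
  have c10 : _ ≤ 2 * Nat.card D := c2 ▸ Nat.mul_le_mul_right _ c3
  rw [← e2] at c10
  have := calc 4 * Nat.card G ≤ 2 * (2 * u * v) * (2 * Nat.card B) := by nlinarith [Nat.mul_le_mul_right (Nat.card B) c6]
    _ ≤ 2 * (2 * u * v) * _ := Nat.mul_le_mul_left _ c9
    _ = D.index * (2 * v * Nat.card (B.map (QuotientGroup.mk' E))) := by rw [← e1]; ring
    _ ≤ D.index * (2 * Nat.card D) := Nat.mul_le_mul_left _ c10
    _ = 2 * Nat.card G := by rw [← c4]; ring
  omega

end

theorem main (n : ℕ) : ∀ (G : Type u) [Group G] [Finite G] [Nontrivial G], Nat.card G = n → NoSol G →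
    ∀ (a : G) (B : Subgroup G) [IsZGroup B], (∀ g : G, ∃ i : ℤ, ∃ b ∈ B, g = a ^ i * b) →
      Concl (zpowers a) B := by
  induction n using Nat.strong_induction_on with
  | _ n IH =>
  intro G _ _ _ hn h a B _ hab
  obtain ⟨N, hN, N1, hmin⟩ := H2.exists_minimal_normal (G := G)
  by_cases hC : centralizer (N : Set G) = ⊥
  · obtain ⟨M, hM, hBM⟩ := (eq_top_or_exists_le_coatom B).resolve_left fun k => by
      subst k; exact top_ne_bot (h ⊤ inferInstance inferInstance)
    by_cases hNM : N ≤ M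
    swap
    · exact primitive h hab hM hBM N1 hNM hmin hC
    exfalso
    have lt : Nat.card M < Nat.card G := lt_of_not_ge fun k => hM.1 (eq_top_of_le_card _ k)
    have : Nontrivial M := (nontrivial_iff_ne_bot M).2 fun k => N1 (le_bot_iff.1 (k ▸ hNM))
    obtain ⟨c, -, cM, hc⟩ := gen_inf M a
    have : IsZGroup (B.subgroupOf M) := .of_injective (f := (subgroupOfEquivOfLe hBM).toMonoidHom)
      (subgroupOfEquivOfLe hBM).injective
    have := (IH _ (hn ▸ lt) M rfl (fun K hK hs => ?_) ⟨c, cM⟩ (B.subgroupOf M) fun g => ?_).2.2.2.2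
      (N.subgroupOf M) inferInstance (fun k => N1 (by
        rw [← map_subgroupOf_eq_of_le hNM, k, Subgroup.map_bot]))
    · have := this.2 (map_injective M.subtype_injective (by
        rw [map_commutator, map_subgroupOf_eq_of_le hNM]
        exact (hmin _ inferInstance (commutator_le_left N N)).resolve_left fun k => N1
          ((inf_cent h N).symm.trans (inf_eq_right.2 (commutator_eq_bot_iff_le_centralizer.1 k))).symm))
      rw [Nat.card_congr (MulAut.congr (subgroupOfEquivOfLe hNM)).toEquiv] at this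
      exact (this.trans_lt lt).not_ge (Nat.card_le_card_of_injective (MulAut.conjNormal : G →* MulAut N)
        ((injective_iff_map_eq_one _).2 fun g hg => mem_bot.1 (hC ▸ mem_centralizer_iff.2 fun x hx =>
          (mul_inv_eq_iff_eq_mul.1 (congrArg (fun σ : MulAut N => (σ ⟨x, hx⟩ : G)) hg)).symm)))
    · have nk : N ≤ normalizer (K.map M.subtype : Set G) :=
        hNM.trans ((normal_subgroupOf_iff_le_normalizer (map_subtype_le K)).1 (by
          rwa [subgroupOf, comap_map_eq_self_of_injective M.subtype_injective]))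
      have : Group.IsSolvable (K.map M.subtype) :=
        Group.isSolvable_of_surjective (M.subtype.subgroupMap_surjective K)
      have := H44.le_solRadOf (N := K.map M.subtype ⊓ N) inf_le_right
        ((le_inf nk le_normalizer).trans inf_normalizer_le_normalizer_inf)
        (Group.isSolvable_of_isSolvable_injective (inclusion_injective inf_le_left))
      rw [h _ (H44.solRadOf_normal N) (H44.solRadOf_isSolvable N), le_bot_iff] at this
      exact (map_eq_bot_iff_of_injective K M.subtype_injective).1 (le_bot_iff.1 (hC ▸ le_cent nk this))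
    · obtain ⟨i, b, hb, e⟩ := hab g
      obtain ⟨j, hj⟩ := hc _ (zpow_mem (mem_zpowers a) i) ((mul_mem_cancel_right (hBM hb)).1 (e ▸ g.2))
      exact ⟨j, ⟨b, hBM hb⟩, hb, Subtype.ext (e.trans (congrArg (· * b) hj.symm))⟩
  exfalso
  have q : ∀ (N : Subgroup G) [N.Normal], N ≠ ⊥ → centralizer (N : Set G) ≠ ⊥ →
      Concl (zpowers (QuotientGroup.mk' (centralizer (N : Set G)) a))
        (B.map (QuotientGroup.mk' (centralizer (N : Set G)))) := fun N _ h1 h2 => by
    have : Nontrivial (G ⧸ centralizer (N : Set G)) := QuotientGroup.nontrivial_iff.2 fun k =>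
      h1 (by rw [← inf_cent h N, k, top_inf_eq])
    have : IsZGroup (B.map (QuotientGroup.mk' (centralizer (N : Set G)))) :=
      .of_surjective (MonoidHom.subgroupMap_surjective _ B)
    refine IH _ ?_ _ rfl (noSol_quot h N) _ _ fun g => ?_
    · rw [← hn, ← (centralizer (N : Set G)).index_mul_card]
      exact lt_mul_of_one_lt_right Nat.card_pos ((one_lt_card_iff_ne_bot _).2 h2)
    · obtain ⟨g, rfl⟩ := QuotientGroup.mk'_surjective _ g
      obtain ⟨i, b, hb, rfl⟩ := hab g
      exact ⟨i, _, ⟨b, hb, rfl⟩, by rw [map_mul, map_zpow]⟩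
  exact two_quot hab (inf_cent h _) hC (q N N1 hC) (q (centralizer (N : Set G)) hC fun k =>
    N1 (le_bot_iff.1 (k ▸ le_centralizer_iff.1 le_rfl)))

/-- Let G be a finite non-solvable group that is the product G = AB of a cyclic subgroup A and a subgroup B all of whose Sylow subgroups are cyclic. Then the quotient of G by its largest solvable normal subgroup is isomorphic to PGL₂(p) for some prime p > 3. -/
theorem result {G : Type*} [Group G] [Finite G] (hG : ¬ Group.IsSolvable G)
    (A B : Subgroup G) (hA : IsCyclic ↥A) (hB : ∀ (q : ℕ) [Fact q.Prime] (Q : Sylow q ↥B), IsCyclic ↥(Q : Subgroup ↥B))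
    (hAB : ∀ g : G, ∃ a ∈ A, ∃ b ∈ B, g = a * b)
    (R : Subgroup G) [hR : R.Normal] (hRs : Group.IsSolvable ↥R) (hRmax : ∀ N : Subgroup G, N.Normal → Group.IsSolvable ↥N → N ≤ R) :
    ∃ (F : Type) (_ : Field F) (_ : Fintype F) (p : ℕ), p.Prime ∧ 3 < p ∧ Fintype.card F = p ∧
      Nonempty ((G ⧸ R) ≃* (GL (Fin 2) F ⧸ Subgroup.center (GL (Fin 2) F))) := by
  have : Nontrivial (G ⧸ R) := QuotientGroup.nontrivial_iff.2 fun k => hG (by
    subst k; exact Group.isSolvable_of_surjective (f := (⊤ : Subgroup G).subtype) fun g => ⟨⟨g, trivial⟩, rfl⟩)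
  have : IsZGroup B := ⟨fun q hq Q => have := Fact.mk hq; hB q Q⟩
  have : IsZGroup (B.map (QuotientGroup.mk' R)) := .of_surjective (MonoidHom.subgroupMap_surjective _ B)
  obtain ⟨a, rfl⟩ := (Subgroup.isCyclic_iff_exists_zpowers_eq_top A).1 hA
  refine (main _ (G ⧸ R) rfl (fun K hK hs => ?_) (QuotientGroup.mk' R a) (B.map (QuotientGroup.mk' R))
    fun g => ?_).1
  · rw [← map_comap_eq_self_of_surjective (QuotientGroup.mk'_surjective R) K, Subgroup.map_eq_bot_iff,
      QuotientGroup.ker_mk']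
    refine hRmax _ inferInstance (Group.isSolvable_of_ker_le_range
      (inclusion (show R ≤ K.comap (QuotientGroup.mk' R) from fun g hg => by
        rw [mem_comap, show QuotientGroup.mk' R g = 1 from (QuotientGroup.eq_one_iff _).2 hg]
        exact one_mem K))
      (((QuotientGroup.mk' R).comp (Subgroup.subtype _)).codRestrict K fun g => g.2) fun g hg =>
        ⟨⟨g, (QuotientGroup.eq_one_iff _).1 (congrArg Subtype.val hg)⟩, rfl⟩)
  · obtain ⟨g, rfl⟩ := QuotientGroup.mk'_surjective _ g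
    obtain ⟨_, ⟨i, rfl⟩, b, hb, rfl⟩ := hAB g
    exact ⟨i, _, ⟨b, hb, rfl⟩, by rw [map_mul, map_zpow]⟩

end Cfsg.Agent.S3252
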