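import Cfsg.Statements.S3254
import Cfsg.Agent.H31.Nag6
import Cfsg.Agent.S0497
import Cfsg.Agent.H22.PGGen

set_option autoImplicit false
open Cfsg

open Cfsg.Agent.H31 Cfsg.Agent.H35 Subgroup MulAction

namespace Cfsg.Agent.S3254

theorem result {G : Type*} [Group G] [Finite G] [IsSimpleGroup G] (hG : ¬ IsMulCommutative G)
    (p : ℕ) (hp : p.Prime) (hp3 : 3 < p) {Ω : Type*} [Fintype Ω] [MulAction G Ω] [FaithfulSMul G Ω]
    (htr : MulAction.IsPretransitive G Ω) (hΩ : Fintype.card Ω = 3 * p)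
    (P : Sylow p G) (hN : Nat.card ↥(Subgroup.normalizer ((P : Subgroup G) : Set G)) = 2 * p) :
    (MulAction.IsPreprimitive G Ω → p = 5 ∧ Nonempty (G ≃* ↥(alternatingGroup (Fin 6)))) ∧
      (¬ MulAction.IsPreprimitive G Ω → ∃ (F : Type) (_ : Field F) (_ : Fintype F) (m : ℕ), Fintype.card F = 2 ^ m ∧ p = 2 ^ m + 1 ∧
        Nonempty (G ≃* Matrix.ProjectiveSpecialLinearGroup (Fin 2) F)) := by
  classical
  haveI := Fact.mk hp
  haveI := Fintype.ofFinite G
  haveI : Nontrivial Ω := Fintype.one_lt_card_iff_nontrivial.1 (by omega)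
  obtain ⟨Q⟩ : Nonempty (Sylow 2 G) := inferInstance
  have hpo := Nat.odd_iff.1 (hp.odd_of_ne_two (by omega))
  obtain ⟨a, ha⟩ := exists_fixed (Ω := Ω) Q (Nat.odd_iff.2 (by omega))
  have hc := H25.card_mul_card_stabilizer (G := G) a
  have hi : (stabilizer G a).index = 3 * p := by
    rw [index_stabilizer_of_transitive, Nat.card_eq_fintype_card, hΩ]
  obtain ⟨hG', S, ⟨I⟩⟩ := exists_I2_of_simple (by omega) P
    (hc ▸ hΩ ▸ (dvd_mul_left _ _).mul_right _) hN
  obtain ⟨t, -, ht, hK, hκ⟩ := I.exists_t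
  refine ⟨fun h => ?_, fun h => ?_⟩
  · obtain ⟨hδ, hε, d, k, hd, hdv, hk, hk3, h1, h2⟩ := I.perm_shape ht hG' hp3 hΩ le_rfl
    obtain rfl | rfl | rfl : k = 0 ∨ k = 1 ∨ k = 2 := by omega
    · obtain ⟨h3, m, F, _, _, hF, hm, ⟨e⟩⟩ := I.psl2 (by omega) hp3 hG'
      obtain rfl : p = d + 2 := by omega
      exact (case_zero (sq_eq_one_of_psl2 hF e) (q := d) (m := m) (by omega) (by omega) h3 Q
        ((isCoatom_stabilizer_iff_preprimitive G a).2 h) ha hi).elim
    · obtain ⟨h3, h4⟩ := I.case_one ht hK hκ hG' hG hp3 hΩ hδ hε hd hk h1 (h2 one_ne_zero)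
      exact ⟨h3, S0497.result h4⟩
    · exact (I.case_two ht hK hκ hG' hG hp3 hΩ hδ hε hd hdv hk h1).elim
  · rw [← isCoatom_stabilizer_iff_preprimitive G a, IsCoatom, not_and] at h
    have h1 := h fun e => by rw [e, index_top] at hi; omega
    push Not at h1
    obtain ⟨K, hK1, hK2⟩ := h1
    have h2 := relIndex_mul_index hK1.le
    have h3 : (stabilizer G a).relIndex K ≠ 1 := fun e => hK1.not_ge (relIndex_eq_one.1 e)
    rw [hi] at h2
    have h4 : K.index = p := by
      by_cases h5 : p ∣ K.index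
      · obtain ⟨c, hc⟩ := h5
        rw [hc, mul_comm p, ← mul_assoc] at h2
        have h6 := Nat.eq_of_mul_eq_mul_right hp.pos h2
        rcases (Nat.dvd_prime Nat.prime_three).1 (Dvd.intro _ h6) with e | e
        · exact absurd e h3
        · rw [e] at h6; rw [hc, show c = 1 by omega, mul_one]
      · have h6 := ((Nat.Prime.coprime_iff_not_dvd hp).2 h5).symm.dvd_of_dvd_mul_right
          (Dvd.intro_left _ h2)
        exact absurd (H22.eq_top_of_index_le_four inferInstance (fun h => hG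
          (IsSimpleGroup.comm_iff_isSolvable.2 h |> fun h => ⟨⟨h⟩⟩))
          ((Nat.le_of_dvd three_pos h6).trans (by norm_num))) hK2
    haveI := Fintype.ofFinite (G ⧸ K)
    obtain ⟨-, -, d, k, hd, -, hk, hk3, -⟩ := I.perm_shape (Ω := G ⧸ K) ht hG' hp3 (n := 1)
      (by rw [← Nat.card_eq_fintype_card, one_mul]; exact h4) (by norm_num)
    obtain rfl : k = 0 := by omega
    obtain ⟨-, m, F, _, _, hF, hm, e⟩ := I.psl2 (by omega) hp3 hG'
    exact ⟨F, _, _, m, hF, hm, e⟩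

end Cfsg.Agent.S3254
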