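import Cfsg.Statements.S3257
import Cfsg.Agent.AF.Ind
import Cfsg.Agent.AF.P3
import Cfsg.Agent.AF.Fin

set_option autoImplicit false
open Cfsg

namespace Cfsg.Agent.S3257

open Cfsg.Agent.AF
open Subgroup (zpowers)

theorem zp_of_mem {G : Type*} [Group G] [Finite G] {p : ℕ} (hp : p.Prime) {A : Subgroup G}
    (hA : Nat.card A = p) {a : G} (ha : a ∈ A) (h1 : a ≠ 1) : zpowers a = A := by
  have hle : zpowers a ≤ A := (Subgroup.zpowers_le).2 ha
  have hd : Nat.card (zpowers a) ∣ p := hA ▸ Subgroup.card_dvd_of_le hle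
  rcases (Nat.dvd_prime hp).1 hd with h | h
  · exact absurd (Subgroup.zpowers_eq_bot.1 (Subgroup.card_eq_one.1 h)) h1
  · exact Subgroup.eq_of_le_of_card_ge hle (by rw [h, hA])

theorem comm_iff {G F : Type*} [Group G] [Group F] (K : Subgroup G) (e : K ≃* F) :
    IsMulCommutative (qq K) ↔ IsMulCommutative (commutator F) := by
  have h1 : (commutator K).map K.subtype = qq K := by
    rw [commutator, Subgroup.map_commutator, ← MonoidHom.range_eq_map, Subgroup.range_subtype]
  have h2 : (commutator K).map e.toMonoidHom = commutator F := by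
    rw [commutator, Subgroup.map_commutator, Subgroup.map_top_of_surjective _ e.surjective]
    rfl
  constructor
  · intro h
    refine ⟨⟨fun a b => Subtype.ext ?_⟩⟩
    obtain ⟨a', ha', ea⟩ : (a : F) ∈ (commutator K).map e.toMonoidHom := h2.ge a.2
    obtain ⟨b', hb', eb⟩ : (b : F) ∈ (commutator K).map e.toMonoidHom := h2.ge b.2
    have ha : (a' : G) ∈ qq K := h1.le ⟨a', ha', rfl⟩
    have hb : (b' : G) ∈ qq K := h1.le ⟨b', hb', rfl⟩
    have := congrArg Subtype.val (h.is_comm.comm ⟨_, ha⟩ ⟨_, hb⟩)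
    have h3 : a' * b' = b' * a' := Subtype.ext this
    simp only [Subgroup.coe_mul, ← ea, ← eb, ← map_mul, h3]
  · intro h
    refine ⟨⟨fun a b => Subtype.ext ?_⟩⟩
    obtain ⟨a', ha', ea⟩ : (a : G) ∈ (commutator K).map K.subtype := h1.ge a.2
    obtain ⟨b', hb', eb⟩ : (b : G) ∈ (commutator K).map K.subtype := h1.ge b.2
    have ha : e a' ∈ commutator F := h2.le ⟨a', ha', rfl⟩
    have hb : e b' ∈ commutator F := h2.le ⟨b', hb', rfl⟩
    have := congrArg Subtype.val (h.is_comm.comm ⟨_, ha⟩ ⟨_, hb⟩)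
    have h3 : a' * b' = b' * a' := e.injective (by simpa using this)
    simp only [Subgroup.coe_mul, ← ea, ← eb, ← map_mul, h3]

/-- Let p be an odd prime and G a finite non-abelian group generated by a G-invariant set D of subgroups of order p such that any two distinct members of D generate a subgroup isomorphic to one fixed group of odd order. Then G/Z(G) is a Frobenius group of odd order. -/
theorem result {G : Type*} [Group G] [Finite G] (hG : ¬ IsMulCommutative G)
    (p : ℕ) (hp : p.Prime) (hp2 : p ≠ 2) (D : Set (Subgroup G)) (hDp : ∀ A ∈ D, Nat.card ↥A = p)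
    (hDinv : ∀ A ∈ D, ∀ g : G, A.map (MulAut.conj g).toMonoidHom ∈ D) (hDgen : sSup D = ⊤)
    {F : Type*} [Group F] [Finite F] (hF : Odd (Nat.card F)) (hpair : ∀ A ∈ D, ∀ B ∈ D, A ≠ B → Nonempty (↥(A ⊔ B) ≃* F)) :
    Odd (Nat.card (G ⧸ Subgroup.center G)) ∧ ∃ H : Subgroup (G ⧸ Subgroup.center G), Cfsg.IsFrobeniusComplement H := by
  classical
  let X : Set G := {y | y ≠ 1 ∧ zpowers y ∈ D}
  have hord : ∀ y ∈ X, orderOf y = p := fun y hy => by
    rw [← Nat.card_zpowers]; exact hDp _ hy.2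
  have hconj : ∀ y ∈ X, ∀ g : G, g * y * g⁻¹ ∈ X := fun y hy g => by
    refine ⟨fun h => hy.1 (by simpa using h), ?_⟩
    have := hDinv _ hy.2 g
    rwa [MonoidHom.map_zpowers] at this
  have hpw : ∀ y ∈ X, ∀ a ∈ zpowers y, a ≠ 1 → a ∈ X := fun y hy a ha h1 =>
    ⟨h1, by rw [zp_of_mem hp (hDp _ hy.2) ha h1]; exact hy.2⟩
  have hgen : Subgroup.closure X = ⊤ := by
    rw [eq_top_iff, ← hDgen]
    refine sSup_le fun A hA a ha => ?_
    by_cases h1 : a = 1
    · rw [h1]; exact one_mem _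
    · exact Subgroup.subset_closure ⟨h1, by rw [zp_of_mem hp (hDp _ hA) ha h1]; exact hA⟩
  have hiso : ∀ a ∈ X, ∀ b ∈ X, b ∉ zpowers a → Nonempty (↥(zpowers a ⊔ zpowers b) ≃* F) :=
    fun a ha b hb hne => hpair _ ha.2 _ hb.2 fun h => hne (h ▸ Subgroup.mem_zpowers b)
  have hall : (∀ a ∈ X, ∀ b ∈ X, Commute a b) → False := fun h => by
    apply hG
    have := Subgroup.isMulCommutative_closure (k := X) (fun a ha b hb => (h a ha b hb).eq)
    refine ⟨⟨fun a b => ?_⟩⟩
    have ha : a ∈ Subgroup.closure X := hgen ▸ Subgroup.mem_top a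
    have hb : b ∈ Subgroup.closure X := hgen ▸ Subgroup.mem_top b
    exact congrArg Subtype.val (this.is_comm.comm ⟨a, ha⟩ ⟨b, hb⟩)
  have hmem : ∀ a b : G, b ∈ zpowers a → Commute a b := fun a b hb => by
    obtain ⟨k, rfl⟩ := hb
    exact Commute.zpow_right (Commute.refl a) k
  have hex : ∃ a ∈ X, ∃ b ∈ X, b ∉ zpowers a := by
    by_contra hn
    push Not at hn
    exact hall fun a ha b hb => hmem a b (hn a ha b hb)
  have hnc : ∀ a ∈ X, ∀ b ∈ X, b ∉ zpowers a → ¬ Commute a b := fun a ha b hb hne hc => by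
    obtain ⟨e⟩ := hiso a ha b hb hne
    have hK : ∀ u ∈ zpowers a ⊔ zpowers b, ∀ v ∈ zpowers a ⊔ zpowers b, u * v = v * u := by
      have h1 : zpowers a ⊔ zpowers b = Subgroup.closure {a, b} := by
        rw [Set.insert_eq, Subgroup.closure_union, Subgroup.zpowers_eq_closure,
          Subgroup.zpowers_eq_closure]
      have := Subgroup.isMulCommutative_closure (k := ({a, b} : Set G)) (by
        rintro u (rfl | rfl) v (rfl | rfl)
        exacts [rfl, hc.eq, hc.eq.symm, rfl])
      intro u hu v hv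
      rw [h1] at hu hv
      exact congrArg Subtype.val (this.is_comm.comm ⟨u, hu⟩ ⟨v, hv⟩)
    have hFc : ∀ u v : F, u * v = v * u := fun u v => by
      obtain ⟨u, rfl⟩ := e.surjective u
      obtain ⟨v, rfl⟩ := e.surjective v
      rw [← map_mul, ← map_mul]
      exact congrArg e (Subtype.ext (hK u u.2 v v.2))
    refine hall fun c hc' d hd => ?_
    by_cases hcd : d ∈ zpowers c
    · exact hmem c d hcd
    · obtain ⟨e'⟩ := hiso c hc' d hd hcd
      have h3 : (⟨c, Subgroup.mem_sup_left (Subgroup.mem_zpowers c)⟩ : ↥(zpowers c ⊔ zpowers d)) *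
          ⟨d, Subgroup.mem_sup_right (Subgroup.mem_zpowers d)⟩ =
          ⟨d, Subgroup.mem_sup_right (Subgroup.mem_zpowers d)⟩ *
          ⟨c, Subgroup.mem_sup_left (Subgroup.mem_zpowers c)⟩ :=
        e'.injective (by rw [map_mul, map_mul, hFc])
      exact congrArg Subtype.val h3
  have hPr : Pr p (Nat.card F) X :=
    ⟨hp, hF, hord, hconj, fun a ha b hb hne => by
      obtain ⟨e⟩ := hiso a ha b hb hne
      exact Nat.card_congr e.toEquiv, hnc⟩
  obtain ⟨r, hr⟩ := hPr.hy hp2 hpw hex (by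
    by_cases hc : IsMulCommutative (commutator F)
    · exact Or.inl fun a ha b hb hne => by
        obtain ⟨e⟩ := hiso a ha b hb hne
        exact (comm_iff _ e).2 hc
    · exact Or.inr fun a ha b hb hne h => by
        obtain ⟨e⟩ := hiso a ha b hb hne
        exact hc ((comm_iff _ e).1 h))
  exact hr.fin hgen (hr.good hgen) hG

end Cfsg.Agent.S3257
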