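import Cfsg.Statements.S3260
import Cfsg.Agent.FZJ.Top
import Cfsg.Agent.GZJ.Quad
import Cfsg.Agent.H23.ZJ2
import Cfsg.Agent.H94.Involves
import Cfsg.Agent.H9.Transport

set_option autoImplicit false
open Cfsg

namespace Cfsg.Agent.S3260
open Subgroup Cfsg.Agent.H72 Cfsg.Agent.H61 Cfsg.Agent.GZJ Cfsg.Agent.FZJ Cfsg.Agent.H23
open scoped commutatorElement

section
variable {X : Type*} [Group X] [Finite X] {p : ℕ} [Fact p.Prime]

/-- no homomorphic image of `C` contains `SL₂(p)` modulo a central subgroup -/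
def NI (p : ℕ) (C : Subgroup X) : Prop :=
  ∀ (Y : Type) [Group Y] (f : X →* Y) (Φ : Matrix.SpecialLinearGroup (Fin 2) (ZMod p) →* Y),
    (∀ s, Φ s ∈ C.map f) → ¬ Φ.ker ≤ center _

theorem no_quad_aux (hp : 3 < p) {G R U V : Subgroup X} [G.Normal] {g : X} (h : Cp G R)
    (hN : NI p (G ⊓ centralizer (R : Set X))) (hg : g ∈ G)
    (hV : IsChiefFactor U V) (hq : ⁅⁅U, zpowers g⁆, zpowers g⁆ ≤ V) {W : Type} [AddCommGroup W] [Module (ZMod p) W]
    [Finite W] {π : X → W} {ρ : X → W →ₗ[ZMod p] W} (s : H75.SecRep ⊤ U V p π ρ) : ⁅U, zpowers g⁆ ≤ V := by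
  have hUn := hV.2.1
  obtain ⟨f, hf⟩ : ∃ f : X →* (W →ₗ[ZMod p] W)ˣ, ∀ x, (f x : W →ₗ[ZMod p] W) = ρ x :=
    ⟨MonoidHom.toHomUnits ⟨⟨ρ, s.rho_one⟩, fun a b => s.rho_mul (mem_top a) (mem_top b)⟩, fun _ => rfl⟩
  have h1 : ∀ u ∈ U, (ρ g - 1) (π u) = π ⁅g, u⁆ := fun u hu => by
    rw [commutatorElement_def, s.mul _ (hUn.conj_mem u hu g) _ (inv_mem hu), s.inv hu, s.act g (mem_top g) u hu,
      ← sub_eq_add_neg]
    rfl
  have h4 : IsIrreducibleFor f.range := by
    obtain ⟨u, hu, hu'⟩ := SetLike.exists_of_lt hV.1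
    refine ⟨⟨π u, fun e => hu' ((s.ker u hu).1 e)⟩, fun W hW => ?_⟩
    exact (hV.2.2.2 (s.pre W) (normalizer_eq_top_iff.1 (top_le_iff.1 (s.norm_pre le_rfl
      fun a _ => hf a ▸ hW _ ⟨a, rfl⟩))) (s.le_pre W) (s.pre_le W)).imp s.eq_bot_of_pre s.eq_top_of_pre
  have h5 : H90.NoUnip (ZMod p) (G.map f) := (H90.noUnip_of_irr h4).normal (map_le_range f G) (by
    rintro _ ⟨x, rfl⟩
    exact H90.rc_eq_self_iff_mem_normalizer.2 (le_normalizer_map f ⟨x, le_normalizer_of_normal (mem_top x), rfl⟩))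
  have a3 : f g = 1 := by
    by_contra a3
    obtain ⟨Φ, b1, b2, b3⟩ := quad (R := R.map f) hp ⟨(map_mono h.norm).trans (le_normalizer_map f),
      (h.cop.coprime_dvd_left (card_map_dvd R f)).coprime_dvd_right (card_map_dvd G f)⟩ h5 (mem_map_of_mem f hg) a3
      (LinearMap.ext fun v => by
        obtain ⟨u, hu, rfl⟩ := s.surj v
        have h2 : ⁅g, u⁆ ∈ ⁅U, zpowers g⁆ := by
          rw [commutator_comm]
          exact commutator_mem_commutator (mem_zpowers g) hu
        have h3 : ⁅g, u⁆ ∈ U := commutator_le_left U _ h2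
        rw [Module.End.mul_apply, hf, h1 u hu, h1 _ h3]
        rw [commutator_comm] at hq
        exact (s.ker _ (commutator_le_right ⊤ U (commutator_mem_commutator (mem_top g) h3))).2
          (hq (commutator_mem_commutator (mem_zpowers g) h2)))
    exact hN _ f Φ (fun s => lift_fixed f h.norm h.cop (b1 s) (b2 s)) b3
  rw [commutator_comm]
  refine commutator_le.2 fun x hx u hu => (s.rho_apply_eq_iff (mem_top x) hu).1 ?_
  rw [← hf, (zpowers_le.2 (show g ∈ f.ker from a3) hx : f x = 1)]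
  rfl

theorem no_quad (hp : 3 < p) {G R U V : Subgroup X} [G.Normal] {g : X} (h : Cp G R)
    (hN : NI p (G ⊓ centralizer (R : Set X))) (hg : g ∈ G)
    (hV : IsChiefFactor U V) (hU : IsPGroup p U) (hq : ⁅⁅U, zpowers g⁆, zpowers g⁆ ≤ V) : ⁅U, zpowers g⁆ ≤ V := by
  have hUn := hV.2.1
  have hVn := hV.2.2.1
  obtain ⟨k, hk⟩ := hU.exists_card_eq
  obtain ⟨n, -, hn⟩ := (Nat.dvd_prime_pow (Fact.out : p.Prime)).1 (hk ▸ relIndex_dvd_card V U)
  obtain ⟨π, ρ, s⟩ := H75.exists_secRep (X := ⊤) (Fact.out : p.Prime) hV.1.le le_normalizer_of_normal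
    le_normalizer_of_normal (chief_commutator_le hV hU.isNilpotent le_rfl) (fun _ hx => chief_pow_mem hV hU hx) hn
  exact no_quad_aux hp h hN hg hV hq s

theorem qStable (hp : 3 < p) {G R : Subgroup X} [G.Normal] (h : Cp G R) (hN : NI p (G ⊓ centralizer (R : Set X)))
    (hG : ∀ A : Subgroup X, IsPGroup p A → A ≤ G) : QStable p X := by
  intro B _ hB A hA _ hq
  by_cases hR : pRes p (normalClosure (A : Set X)) ≤ centralizer (B : Set X)
  · refine (map_mono le_normalClosure).trans (H22.le_pCore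
      (Normal.map inferInstance _ (QuotientGroup.mk'_surjective _)) ?_)
    rintro ⟨_, x, hx, rfl⟩
    obtain ⟨k, m, hm, he⟩ := Nat.exists_eq_pow_mul_and_not_dvd (orderOf_pos x).ne' p (Fact.out : p.Prime).ne_one
    refine ⟨k, Subtype.ext ?_⟩
    have h1 : orderOf (x ^ p ^ k) ∣ m := by
      apply orderOf_dvd_of_pow_eq_one
      rw [← pow_mul, ← he, pow_orderOf_eq_one]
    exact (map_pow _ _ _).symm.trans ((QuotientGroup.eq_one_iff _).2 (hR (mem_pRes (pow_mem hx _)
      (Nat.Coprime.coprime_dvd_left h1 ((Nat.Prime.coprime_iff_not_dvd Fact.out).2 hm).symm))))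
  · obtain ⟨V, hV, hV'⟩ := exists_chief_moved hB A hR
    have hUB : sSup {Y | MinMoved p B (normalClosure (A : Set X)) Y} ≤ B := sSup_le fun Y hY => hY.le
    have := hV.2.2.1
    obtain ⟨g, hg, hg'⟩ := exists_mem_commutator_not_le hV'
    exact (hg' (no_quad hp h hN (hG A hA hg) hV (hB.to_le hUB) ((commutator_mono (commutator_mono hUB
      (zpowers_le.2 hg)) (zpowers_le.2 hg)).trans (hq.le.trans bot_le)))).elim

theorem normal_map {H X : Type*} [Group H] [Group X] (ι : H →* X) (hι : Function.Injective ι) [ι.range.Normal]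
    (K : Subgroup H) [hK : K.Characteristic] : (K.map ι).Normal := ⟨by
  rintro _ ⟨k, hk, rfl⟩ x
  let e := MonoidHom.ofInjective hι
  exact ⟨_, (hK.fixed (e.trans ((MulAut.conjNormal x).trans e.symm))).ge hk,
    congrArg Subtype.val (e.apply_symm_apply (MulAut.conjNormal x (e k)))⟩⟩

theorem zj_normal' (hp : 3 < p) {H : Type*} [Group H] [Finite H] (hH : H22.IsCharP p H) (ι : H →* X)
    (hι : Function.Injective ι) [ι.range.Normal] {R : Subgroup X} (h : Cp ι.range R)
    (hN : NI p (ι.range ⊓ centralizer (R : Set X))) (hG : ∀ A : Subgroup X, IsPGroup p A → A ≤ ι.range)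
    (T : Sylow p H) : (zj 0 (T : Subgroup H)).Normal := by
  have hst := qStable hp h hN hG
  obtain ⟨S, hS⟩ := (T.isPGroup'.map ι).exists_le_sylow
  have h0 : (S : Subgroup X) = (T : Subgroup H).map ι := by
    rw [← T.is_maximal' (S.isPGroup'.comap_of_injective ι hι) (map_le_iff_le_comap.1 hS),
      map_comap_eq_self (hG _ S.isPGroup')]
  have hO : pCore p X ≤ normalizer (zj 0 (S : Subgroup X) : Set X) :=
    (H22.pCore_le_sylow S).trans (le_normalizer.trans (normalizer_le_normalizer_zj 0 _))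
  have h1 := map_le_iff_le_comap.mp (hst _ H22.isPGroup_pCore _ (S.isPGroup'.to_le (zj_le 0 _)) (zj_comm 0 _)
    (commutator_eq_bot_of_le (commutator_self_eq_bot_iff.mpr (zj_comm 0 _))
      (le_normalizer_iff_commutator_le_right.mp hO) le_rfl))
  have h2 : (pCore p H).map ι ≤ pCore p X := H22.le_pCore (normal_map ι hι _) (H22.isPGroup_pCore.map ι)
  have h3 : ∀ x ∈ ι.range, x ∈ centralizer (pCore p X : Set X) → x ∈ pCore p X := by
    rintro _ ⟨x, rfl⟩ hx
    refine h2 (mem_map_of_mem ι (hH fun y hy => hι ?_))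
    rw [map_mul, map_mul, hx _ (h2 (mem_map_of_mem ι hy))]
  have h4 : (pCore p (X ⧸ centralizer (pCore p X : Set X))).comap (QuotientGroup.mk' _) ⊓ ι.range ≤ pCore p X := by
    refine H22.le_pCore inferInstance fun ⟨x, hx⟩ => ?_
    obtain ⟨k, hk⟩ := H22.isPGroup_pCore ⟨_, hx.1⟩
    obtain ⟨l, hl⟩ := H22.isPGroup_pCore ⟨_, h3 _ (ι.range.pow_mem hx.2 (p ^ k))
      ((QuotientGroup.eq_one_iff _).1 ((map_pow (QuotientGroup.mk' _) _ _).trans (congrArg Subtype.val hk)))⟩
    have hl' : (x ^ p ^ k) ^ p ^ l = 1 := congrArg Subtype.val hl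
    exact ⟨k + l, Subtype.ext (by rw [pow_add, pow_mul]; exact hl')⟩
  have h5 := inf_zj_normal (by omega) (Or.inr rfl) hst S _ (H22.isPGroup_pCore (p := p) (G := X))
  rw [inf_eq_right.mpr ((le_inf h1 ((zj_le 0 _).trans (hG _ S.isPGroup'))).trans h4), h0, zj_map hι] at h5
  have h6 := h5.comap ι
  rwa [comap_map_eq_self_of_injective hι] at h6

end

/-- Let p ≥ 5 be a prime, G a finite p-constrained group with Sylow p-subgroup S, and A a group of automorphisms of G of order coprime to |G| whose fixed-point subgroup has no section isomorphic to PSL₂(p). Then G = O_{p'}(G) · N_G(Z(J(S))), where J(S) is the subgroup generated by the abelian subgroups of S of largest order. -/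
theorem result {G : Type*} [Group G] [Finite G] (p : ℕ) [hp : Fact p.Prime] (hp5 : 5 ≤ p)
    (hG : Cfsg.IsPConstrained p G) (S : Sylow p G) (A : Subgroup (MulAut G)) (hA : (Nat.card ↥A).Coprime (Nat.card G))
    (C : Subgroup G) (hC : ∀ g : G, g ∈ C ↔ ∀ a ∈ A, a g = g)
    {F : Type*} [Field F] [Fintype F] (hF : Fintype.card F = p)
    (hfix : ¬ Cfsg.Involves (Matrix.ProjectiveSpecialLinearGroup (Fin 2) F) ↥C) :
    Cfsg.pPrimeCore p G ⊔ Subgroup.normalizer (Cfsg.centerThompsonAOf (S : Subgroup G) : Set G) = ⊤ := by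
  by_cases hpG : (Nat.card G).Coprime p
  · rw [H22.pPrimeCore_eq_top_of_coprime hpG, top_sup_eq]
  have hpA : (Nat.card A).Coprime p := hA.coprime_dvd_right (by
    rwa [Nat.coprime_comm, hp.out.coprime_iff_not_dvd, not_not] at hpG)
  rw [centerThompsonAOf_eq]
  let X := G ⋊[A.subtype] A
  have : Finite X := Finite.of_equiv _ SemidirectProduct.equivProd.symm
  let i : G →* X := SemidirectProduct.inl
  let j : A →* X := SemidirectProduct.inr
  have hi : Function.Injective i := SemidirectProduct.inl_injective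
  have hr : i.range = (SemidirectProduct.rightHom : X →* A).ker := SemidirectProduct.range_inl_eq_ker_rightHom
  have : i.range.Normal := hr ▸ inferInstance
  have := normal_map i hi (pPrimeCore p G)
  let q := QuotientGroup.mk' ((pPrimeCore p G).map i)
  let ι : G ⧸ pPrimeCore p G →* X ⧸ (pPrimeCore p G).map i := QuotientGroup.map _ _ i (le_comap_map _ _)
  have hι : Function.Injective ι := (injective_iff_map_eq_one ι).2 fun x hx => by
    obtain ⟨x, rfl⟩ := QuotientGroup.mk_surjective x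
    exact (QuotientGroup.eq_one_iff _).2 ((mem_map_iff_mem hi).1 ((QuotientGroup.eq_one_iff _).1 hx))
  have hR : ι.range = i.range.map q := by
    ext x
    constructor
    · rintro ⟨x, rfl⟩
      obtain ⟨x, rfl⟩ := QuotientGroup.mk_surjective x
      exact ⟨_, ⟨x, rfl⟩, rfl⟩
    · rintro ⟨_, ⟨x, rfl⟩, rfl⟩
      exact ⟨x, rfl⟩
  have : ι.range.Normal := hR ▸ Normal.map inferInstance q (QuotientGroup.mk'_surjective _)
  have hc : (Nat.card j.range).Coprime (Nat.card i.range) :=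
    (hA.coprime_dvd_left (card_range_dvd j)).coprime_dvd_right (card_range_dvd i)
  refine pPrimeCore_sup_normalizer_zj S (zj_normal' (by omega) (H22.isPConstrained_iff.1 hG) ι hι
    (R := j.range.map q) ⟨le_normalizer_of_normal, hR ▸
      (hc.coprime_dvd_left (card_map_dvd _ q)).coprime_dvd_right (card_map_dvd _ q)⟩ (fun Y _ f Φ h1 h2 => ?_)
    fun B hB x hx => ?_)
  · obtain ⟨K, ψ, h3⟩ := involves_of_hom (f.comp (q.comp i)) (C := C) Φ (fun s => by
      obtain ⟨x, ⟨h3, h4⟩, e⟩ := h1 s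
      obtain ⟨_, ⟨⟨g, rfl⟩, h5⟩, rfl⟩ := lift_fixed q le_normalizer_of_normal hc (hR ▸ h3) h4
      refine ⟨g, (hC g).2 fun a ha => hi ?_, e⟩
      exact (SemidirectProduct.inl_aut (φ := A.subtype) ⟨a, ha⟩ g).trans (by
        rw [map_inv, mul_inv_eq_iff_eq_mul]
        exact h5 _ ⟨_, rfl⟩)) (QuotientGroup.mk' (center _)) (QuotientGroup.mk'_surjective _)
        (by rwa [QuotientGroup.ker_mk'])
    let e := H9.pslMapEquiv (ι := Fin 2) (ZMod.ringEquivOfPrime F hp.out hF)
    exact hfix (H94.involves_iff.2 ⟨K, e.toMonoidHom.comp ψ, e.surjective.comp h3⟩)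
  · obtain ⟨k, hk⟩ := hB ⟨x, hx⟩
    obtain ⟨x, rfl⟩ := QuotientGroup.mk'_surjective _ x
    rw [hR]
    refine mem_map_of_mem q (hr ▸ ?_)
    have h1 : x ^ p ^ k ∈ i.range := map_le_range _ _
      ((QuotientGroup.eq_one_iff _).1 ((map_pow q _ _).trans (congrArg Subtype.val hk)))
    rw [hr, MonoidHom.mem_ker, map_pow] at h1
    exact orderOf_eq_one_iff.1 (Nat.eq_one_of_dvd_coprimes (hpA.pow_right k) (orderOf_dvd_natCard _)
      (orderOf_dvd_of_pow_eq_one h1))

end Cfsg.Agent.S3260
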