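import Cfsg.Statements.S3283
import Cfsg.Agent.H4.GF9

set_option autoImplicit false
open Cfsg

namespace Cfsg.Agent.S3283

open Subgroup Equiv Equiv.Perm

/-- Let G be a finite group with an involution z whose centralizer M has Q = O₂(M) extraspecial of order 2⁹ with C_M(Q) ≤ Q, and M/Q isomorphic to S₃ × A₆ or to S₃ × S₆. Then G is not simple. -/
theorem result {G : Type*} [Group G] [Finite G] (z : G) (hz : orderOf z = 2)
    (hQ : Cfsg.IsExtraspecial 2 ↥(Cfsg.pCore 2 ↥(Subgroup.centralizer ({z} : Set G)))) (hQ9 : Nat.card ↥(Cfsg.pCore 2 ↥(Subgroup.centralizer ({z} : Set G))) = 2 ^ 9)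
    (hCQ : Subgroup.centralizer ((Cfsg.pCore 2 ↥(Subgroup.centralizer ({z} : Set G))) : Set ↥(Subgroup.centralizer ({z} : Set G))) ≤ Cfsg.pCore 2 ↥(Subgroup.centralizer ({z} : Set G)))
    (hMQ : Nonempty (↥(Subgroup.centralizer ({z} : Set G)) ⧸ Cfsg.pCore 2 ↥(Subgroup.centralizer ({z} : Set G)) ≃* (Equiv.Perm (Fin 3) × ↥(alternatingGroup (Fin 6)))) ∨
      Nonempty (↥(Subgroup.centralizer ({z} : Set G)) ⧸ Cfsg.pCore 2 ↥(Subgroup.centralizer ({z} : Set G)) ≃* (Equiv.Perm (Fin 3) × Equiv.Perm (Fin 6)))) :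
    ¬ IsSimpleGroup G := by
  have : Fact (Nat.Prime 2) := ⟨Nat.prime_two⟩
  have L := H4.GF.lx_of_hyp hz rfl (H15.isExtraspecial_congr
    ((pCore 2 (centralizer ({z} : Set G))).equivMapOfInjective _ (subtype_injective _)) hQ)
    (fun g hg => by
      have hzQ : (⟨z, mem_centralizer_singleton_iff.2 rfl⟩ : centralizer ({z} : Set G)) ∈
          pCore 2 (centralizer ({z} : Set G)) :=
        hCQ fun a _ => Subtype.ext (mem_centralizer_singleton_iff.1 a.2)
      have hg' : g ∈ centralizer ({z} : Set G) :=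
        mem_centralizer_singleton_iff.2 (hg z ⟨_, hzQ, rfl⟩).symm
      exact ⟨⟨g, hg'⟩, hCQ fun a ha => Subtype.ext (hg a ⟨a, ha, rfl⟩), rfl⟩)
  rcases hMQ with ⟨⟨e⟩⟩ | ⟨⟨e⟩⟩
  · refine H4.GF.not_simple L hQ9 (((MonoidHom.id _).prodMap (alternatingGroup (Fin 6)).subtype).comp
      e.toMonoidHom) ?_ (fun c σ _ h => ⟨e.symm (c, ⟨σ, h⟩), by simp⟩)
      ⟨e.symm (swap 0 1, 1), by simp⟩
    exact (Function.injective_id.prodMap (subtype_injective _)).comp e.injective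
  · exact H4.GF.not_simple L hQ9 e.toMonoidHom e.injective
      (fun c σ _ _ => ⟨e.symm (c, σ), by simp⟩) ⟨e.symm (swap 0 1, 1), by simp⟩

end Cfsg.Agent.S3283
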