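import Cfsg.Statements.S3301
import Cfsg.Agent.H4.GF3
import Cfsg.Agent.H8.LargeX4
import Mathlib.GroupTheory.FiniteAbelian.Duality
import Mathlib.RingTheory.RootsOfUnity.AlgebraicallyClosed
import Mathlib.Analysis.Complex.Polynomial.Basic

set_option autoImplicit false
open Cfsg

namespace Cfsg.Agent.S3301

open Subgroup H97 H15 H4.GF
open scoped commutatorElement

theorem pm (x : ℂˣ) (h : x * x = 1) : x = 1 ∨ x = -1 := by
  have h1 : (x : ℂ) * x = 1 := by rw [← Units.val_mul, h, Units.val_one]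
  exact (mul_self_eq_one_iff.1 h1).imp (fun e => Units.ext e) (fun e => Units.ext e)

theorem exists_char {A : Type*} [CommGroup A] [Finite A] {q : A} {k : ℕ} (hq : orderOf q = 2 ^ k)
    (h2 : q ^ 2 ≠ 1) : ∃ f : A →* ℂˣ, (∀ a, f a ^ 4 = 1) ∧ ∃ a, f a ^ 2 ≠ 1 := by
  obtain ⟨χ, hχ⟩ := CommGroup.exists_apply_ne_one_of_hasEnoughRootsOfUnity A ℂ h2
  have hfin : IsOfFinOrder χ := isOfFinOrder_iff_pow_eq_one.2
    ⟨Nat.card A, Nat.card_pos, by ext a; simp [← map_pow]⟩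
  obtain ⟨j, m, hm, e⟩ := Nat.exists_eq_two_pow_mul_odd hfin.orderOf_pos.ne'
  have h1 : χ ^ (2 * m) ≠ 1 := by
    intro h
    have e1 : χ (q ^ 2) ^ m = 1 := by
      have := DFunLike.congr_fun h q
      rwa [MonoidHom.pow_apply, pow_mul, ← map_pow] at this
    have e2 : χ (q ^ 2) ^ 2 ^ k = 1 := by
      rw [← map_pow, ← pow_mul, mul_comm, pow_mul, ← hq, pow_orderOf_eq_one]; simp
    have e3 := pow_gcd_eq_one.2 ⟨e1, e2⟩
    rw [Nat.Coprime.gcd_eq_one (Nat.Coprime.pow_right _ ((Nat.coprime_two_right).2 hm)),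
      pow_one] at e3
    exact hχ e3
  obtain ⟨i, rfl⟩ : ∃ i, j = i + 2 := by
    refine ⟨j - 2, ?_⟩
    by_contra hj
    apply h1
    rw [← orderOf_dvd_iff_pow_eq_one, e]
    refine Nat.mul_dvd_mul_right ?_ m
    have : j = 0 ∨ j = 1 := by omega
    rcases this with rfl | rfl <;> simp
  refine ⟨χ ^ (2 ^ i * m), fun a => ?_, ?_⟩
  · rw [← MonoidHom.pow_apply, ← pow_mul, show 2 ^ i * m * 4 = 2 ^ (i + 2) * m by ring, ← e,
      pow_orderOf_eq_one]; rfl
  · by_contra hno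
    push Not at hno
    have : χ ^ (2 ^ i * m * 2) = 1 := by
      ext a
      rw [pow_mul, MonoidHom.pow_apply, hno a]; rfl
    have h3 := Nat.le_of_dvd (by have := hm.pos; positivity) (orderOf_dvd_of_pow_eq_one this)
    rw [e, show 2 ^ (i + 2) * m = 2 ^ i * m * 4 by ring] at h3
    have : 0 < 2 ^ i * m := by have := hm.pos; positivity
    omega

/-- Let G be a finite group with no nontrivial 2-group quotient (O^2(G) = G), z an involution of G with H = C_G(z), and suppose E = O_2(H) is extraspecial with C_G(E) ≤ E. Then the Sylow 2-subgroups of H/[H, H] are elementary abelian: every element of 2-power order of the abelianization of H has order at most 2. -/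
theorem result {G : Type*} [Group G] [Finite G] (hres : Cfsg.pResidual 2 G = ⊤) (z : G) (hz : orderOf z = 2)
    (E : Subgroup G) (hE : E = (Cfsg.pCore 2 ↥(Subgroup.centralizer ({z} : Set G))).map (Subgroup.centralizer ({z} : Set G)).subtype)
    (hext : Cfsg.IsExtraspecial 2 ↥E) (hcent : Subgroup.centralizer (E : Set G) ≤ E) :
    ∀ q : Abelianization ↥(Subgroup.centralizer ({z} : Set G)), (∃ k : ℕ, orderOf q = 2 ^ k) → q ^ 2 = 1 := by
  intro q ⟨k, hq⟩
  by_contra h2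
  obtain ⟨f0, hf4, a0, ha0⟩ := exists_char hq h2
  have L := lx_of_hyp hz hE hext hcent
  let H := centralizer ({z} : Set G)
  have hm : ∀ {a : G}, a ∈ H ↔ a * z = z * a := mem_centralizer_singleton_iff
  let f : H →* ℂˣ := f0.comp Abelianization.of
  let K : Subgroup G := (f ^ 2).ker.map H.subtype
  let N : Subgroup G := f.ker.map H.subtype
  have hK : ∀ a (ha : a * z = z * a), a ∈ K ↔ f ⟨a, hm.2 ha⟩ ^ 2 = 1 := fun a ha =>
    ⟨by rintro ⟨b, hb, rfl⟩; exact hb, fun h => ⟨⟨a, hm.2 ha⟩, h, rfl⟩⟩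
  have hN : ∀ a (ha : a * z = z * a), a ∈ N ↔ f ⟨a, hm.2 ha⟩ = 1 := fun a ha =>
    ⟨by rintro ⟨b, hb, rfl⟩; exact hb, fun h => ⟨⟨a, hm.2 ha⟩, h, rfl⟩⟩
  have hpm : ∀ a : H, f a ^ 2 = 1 ∨ f a ^ 2 = -1 := fun a => by
    have : (f a ^ 2) * (f a ^ 2) = 1 := by rw [← pow_add]; exact hf4 (Abelianization.of a)
    exact pm _ this
  have hne : (-1 : ℂˣ) ≠ 1 := fun e => by
    have := congrArg Units.val e
    simp only [Units.val_neg, Units.val_one] at this
    norm_num at this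
  have Kmul : ∀ a b, a * z = z * a → b * z = z * b → (a * b ∈ K ↔ (a ∈ K ↔ b ∈ K)) := by
    intro a b ha hb
    rw [hK _ (mul_cz ha hb), hK _ ha, hK _ hb]
    have : (⟨a * b, hm.2 (mul_cz ha hb)⟩ : H) = ⟨a, hm.2 ha⟩ * ⟨b, hm.2 hb⟩ := rfl
    rw [this, map_mul, mul_pow]
    rcases hpm ⟨a, hm.2 ha⟩ with e | e <;> rcases hpm ⟨b, hm.2 hb⟩ with e' | e' <;>
      simp [e, e', hne]
  have Kle : ∀ a ∈ K, a * z = z * a := fun a ha => hm.1 (map_subtype_le _ ha)
  have Kne : ∃ a, a * z = z * a ∧ a ∉ K := by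
    obtain ⟨a, rfl⟩ : ∃ a : H, Abelianization.of a = a0 := QuotientGroup.mk_surjective a0
    exact ⟨a, hm.1 a.2, fun h => ha0 ((hK _ (hm.1 a.2)).1 h)⟩
  have Nsq : ∀ a, a * z = z * a → (a * a ∈ N ↔ a ∈ K) := by
    intro a ha
    rw [hK _ ha, hN _ (mul_cz ha ha), pow_two, ← map_mul]; rfl
  have Ncm : ∀ a b, a * z = z * a → b * z = z * b → ⁅a, b⁆ ∈ N := by
    intro a b ha hb
    refine ⟨⁅(⟨a, hm.2 ha⟩ : H), ⟨b, hm.2 hb⟩⁆, ?_, rfl⟩
    rw [SetLike.mem_coe, MonoidHom.mem_ker, map_commutatorElement]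
    exact commutatorElement_eq_one_iff_mul_comm.2 (mul_comm _ _)
  have Nn : ∀ g, g * z = z * g → ∀ a ∈ N, g * a * g⁻¹ ∈ N := fun g hg a ha => by
    have := N.mul_mem (Ncm g a hg (hm.1 (map_subtype_le _ ha))) ha
    simpa [commutatorElement_def] using this
  have hzN : z ∈ N := by
    have := H8.ex_not_comm (ex_of_lx L) hext
    push Not at this
    obtain ⟨a, ha, b, hb, e⟩ := this
    rw [← cm_of_sg L ha hb (sg_eq_one.2 e)]
    exact Ncm _ _ (L.cen a ha) (L.cen b hb)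
  have c := cl_fam L Kmul Kle Kne
  have cz : ∀ g a : G, a * (g * z * g⁻¹) = g * z * g⁻¹ * a → g⁻¹ * a * g * z = z * (g⁻¹ * a * g) :=
    fun g a e => by
      calc g⁻¹ * a * g * z = g⁻¹ * (a * (g * z * g⁻¹)) * g := by group
        _ = _ := by rw [e]; group
  have Ncm' : ∀ y ∈ {y | ∃ g, g * z * g⁻¹ = y}, ∀ a b, a * y = y * a → b * y = y * b →
      ⁅a, b⁆ ∈ fam z N y := by
    rintro _ ⟨g, rfl⟩ a b ha hb
    rw [fam_eq Nn, mem_cjs, show g⁻¹ * ⁅a, b⁆ * g = ⁅g⁻¹ * a * g, g⁻¹ * b * g⁆ by group]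
    exact Ncm _ _ (cz g a ha) (cz g b hb)
  refine c.no_four hres (fam z N) ?_ Ncm' ?_ ?_ (d := z) ⟨1, by simp⟩
  · rintro _ ⟨g, rfl⟩ a ha
    rw [fam_eq Nn, fam_eq (norm_of_Kmul Kmul Kle), mem_cjs, mem_cjs, ← Nsq _ (cz g a ha)]
    rw [show g⁻¹ * (a * a) * g = g⁻¹ * a * g * (g⁻¹ * a * g) by group]
  · rintro _ ⟨g, rfl⟩
    rw [fam_eq Nn, conj_mem_cjs]; exact hzN
  · intro w hw y hy h1 h2
    have hzD : z ∈ {y | ∃ g, g * z * g⁻¹ = y} := ⟨1, by simp⟩
    by_cases hc : 8 < Nat.card E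
    · obtain ⟨a, ha, b, hb, e1, e2, e3⟩ := c.nonab hy (c.symm hw hy h1) (c.lx w hw).ne
        (Ne.symm h2) (by rwa [c.card_Q hzD hy, fam_self L.norm])
      rw [← e3]; exact Ncm' w hw a b e1 e2
    · exfalso
      obtain ⟨g, hg⟩ := c.trans w hw z hzD
      have h3 : g * y * g⁻¹ ∈ E := by
        have := (c.Q_iff' hg rfl).2 h1
        rwa [fam_self L.norm] at this
      have Ly := c.lx _ (c.conj y hy g)
      have hsq : ∀ h, h * z = z * h → h * h ∈ E := fun h hh =>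
        sq_mem_of_small L (not_lt.1 hc) h3 Ly.ne (fun e => h2 (by
          rw [← hg] at e; simpa using e)) Ly.sq hh
      have hp : IsPGroup 2 (⊤ : Subgroup H) := by
        rintro ⟨⟨h, hh⟩, -⟩
        refine ⟨3, Subtype.ext (Subtype.ext ?_)⟩
        change h ^ 2 ^ 3 = 1
        rw [show h ^ 2 ^ 3 = (h * h * (h * h)) * (h * h * (h * h)) by
          rw [show 2 ^ 3 = 8 from rfl]; simp only [pow_succ, pow_zero, one_mul, mul_assoc]]
        rcases L.sqr _ (hsq h (hm.1 hh)) with e | e <;> rw [e]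
        exacts [one_mul 1, L.sq]
      obtain ⟨a, ha, haK⟩ := Kne
      have haE : a ∈ E := by
        rw [hE]
        exact ⟨⟨a, hm.2 ha⟩, (le_sSup (s := {N : Subgroup H | N.Normal ∧ IsPGroup 2 N})
          ⟨inferInstance, hp⟩) (mem_top _), rfl⟩
      refine haK ((Nsq a ha).1 ?_)
      rcases L.sqr a haE with e | e <;> rw [e]
      exacts [N.one_mem, hzN]

end Cfsg.Agent.S3301
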