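import Cfsg.Statements.S3307
import Cfsg.Agent.H22.GWQuat
import Cfsg.Agent.H3.Frobenius
import Cfsg.Agent.H9.SLBasic
import Cfsg.Agent.H49.Quot

set_option autoImplicit false
open Cfsg

namespace Cfsg.Agent.S3307

open Subgroup Cfsg.Agent.H22 Cfsg.Agent.H49

theorem cyclic_inf_of_surjective {G H : Type*} [Group G] [Finite G] [Group H] [Finite H] {p : ℕ}
    (hp : p.Prime) (f : G →* H) (hf : Function.Surjective f)
    (hC : ∀ S T : Sylow p G, S ≠ T → IsCyclic ↥((S : Subgroup G) ⊓ (T : Subgroup G)))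
    (A B : Sylow p H) (hAB : A ≠ B) : IsCyclic ↥((A : Subgroup H) ⊓ (B : Subgroup H)) := by
  have hmap : ∀ X : Subgroup H, IsPi {p} X → ∀ P, IsSylowOf p P (X.comap f) → P.map f = X :=
    fun X hX P hP => by
      have := hP.map f
      rw [map_comap_eq_self_of_surjective hf] at this
      exact this.eq_self hX
  obtain ⟨R, hR⟩ := exists_sylowOf p (((A : Subgroup H) ⊓ B).comap f)
  have key : ∀ A : Sylow p H, R ≤ (A : Subgroup H).comap f →
      ∃ S : Sylow p G, R ≤ S ∧ (S : Subgroup G).map f = A := fun A h => by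
    obtain ⟨S, hS, hRS⟩ := exists_sylowOf_ge hR.pi h
    obtain ⟨S, rfl⟩ := exists_sylow_of_top hp (hS.of_index le_top (by
      rw [relIndex_top_right, index_comap_of_surjective _ hf, ← relIndex_top_right]
      exact (sylowOf_top hp A).index))
    exact ⟨S, hRS, hmap _ (sylowOf_top hp A).pi _ hS⟩
  obtain ⟨S, h1, h2⟩ := key A (hR.le.trans (comap_mono inf_le_left))
  obtain ⟨T, h3, h4⟩ := key B (hR.le.trans (comap_mono inf_le_right))
  rw [← hmap _ ((sylowOf_top hp A).pi.inf_left B) R hR]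
  exact cyclic_map (cyclic_of_le (hC S T fun e => hAB (Sylow.ext (by rw [← h2, ← h4, e])))
    (le_inf h1 h3)) f

/-- Let G be a finite nonsolvable group whose Sylow 2-subgroups are generalized quaternion and in which any two distinct Sylow 2-subgroups intersect in a cyclic group. Then the Sylow 2-subgroups are quaternion of order 8, and G has a normal subgroup G₁ of odd index containing O(G) (the largest normal subgroup of odd order) with G₁/O(G) isomorphic to SL(2,q) for some prime power q > 3 with q ≡ 3 or 5 mod 8. -/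
theorem result {G : Type*} [Group G] [Finite G] (hns : ¬ Group.IsSolvable G)
    (hQ : ∀ S : Sylow 2 G, ∃ n : ℕ, Nonempty (↥(S : Subgroup G) ≃* QuaternionGroup (2 ^ (n + 1))))
    (hC : ∀ S T : Sylow 2 G, S ≠ T → IsCyclic ↥((S : Subgroup G) ⊓ (T : Subgroup G))) :
    (∀ S : Sylow 2 G, Nonempty (↥(S : Subgroup G) ≃* QuaternionGroup 2)) ∧
    ∃ (G₁ : Subgroup G) (_ : G₁.Normal) (_ : ((Cfsg.oddCore G).subgroupOf G₁).Normal),
      Odd G₁.index ∧ Cfsg.oddCore G ≤ G₁ ∧
      ∃ (F : Type) (_ : Field F) (_ : Fintype F), (Fintype.card F % 8 = 3 ∨ Fintype.card F % 8 = 5) ∧ 3 < Fintype.card F ∧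
        Nonempty (↥G₁ ⧸ (Cfsg.oddCore G).subgroupOf G₁ ≃* Matrix.SpecialLinearGroup (Fin 2) F) := by
  have hcard : ∀ {X : Type _} [Group X] {n : ℕ}, (X ≃* QuaternionGroup (2 ^ (n + 1))) →
      Nat.card X = 8 * 2 ^ n := fun e => by
    rw [Nat.card_congr e.toEquiv, Nat.card_eq_fintype_card, QuaternionGroup.card]; ring
  have h8 : ∀ S : Sylow 2 G, Nat.card (S : Subgroup G) = 8 := fun S => by
    obtain ⟨n, ⟨e⟩⟩ := hQ S
    obtain ⟨N, _, z, hz, z2, hN, hNS, hD, hO⟩ := quat_setup S e
    have hπ := QuotientGroup.mk'_surjective N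
    obtain ⟨Q, hQ2, g, hg, go, hgQ⟩ : ∃ Q : Subgroup (G ⧸ N), IsPGroup 2 Q ∧
        ∃ g ∈ 𝒩(Q), (orderOf g).Coprime 2 ∧ g ∉ 𝒞(Q) := by
      by_contra! c
      obtain ⟨K, _, h1, k, h2⟩ := H3.hasNormalPComplement_iff_exists_normal.1
        (H3.hasNormalPComplement_iff_frobenius.2 c)
      rw [eq_bot_iff.2 ((le_pPrimeCore inferInstance h1).trans hO.le), index_bot] at h2
      obtain ⟨K, _, h1, k, h2⟩ := H3.hasNormalPComplement_iff_exists_normal.1
        (hasNormalPComplement_of_quat z2 hN (IsPGroup.of_card h2))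
      have := GW.solvable_of_odd (Nat.coprime_two_right.1 h1)
      have := (IsPGroup.of_card (G := G ⧸ K) h2).isNilpotent
      exact hns (Group.isSolvable_of_ker_le_range K.subtype (QuotientGroup.mk' K) (by simp))
    rw [Nat.coprime_two_right] at go
    obtain ⟨T, x, y, hd, -, hT⟩ := hD.exists_dih_ge hQ2
    have hK : IsKleinFour Q := by_contra fun c =>
      hgQ fun q hq => (hd.comm_of_odd T.isPGroup' hT c hg go hq).symm
    have hgT : g • T = T := by_contra fun c => by
      have := cyclic_of_le (cyclic_inf_of_surjective Nat.prime_two _ hπ hC _ _ c)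
        (le_inf (by
          have e : ((g • T : Sylow 2 _) : Subgroup (G ⧸ N)) = cj g T := by rw [cj_eq_smul]; rfl
          rw [← cj_eq_of_mem_norm hg, e]
          exact cj_mono g hT) hT)
      exact IsKleinFour.not_isCyclic this
    have hT4 : IsKleinFour (T : Subgroup (G ⧸ N)) := by_contra fun c =>
      hgQ fun q hq => (hd.comm_of_odd T.isPGroup' le_rfl c (Sylow.smul_eq_iff_mem_normalizer.1 hgT)
        go (hT hq)).symm
    have h1 := H42.card_mul_relIndex (inf_le_right : N ⊓ (S : Subgroup G) ≤ S)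
    rw [inf_relIndex_right, hNS, Nat.card_zpowers, z2, ← QuotientGroup.ker_mk' N, relIndex_ker] at h1
    exact h1.symm.trans (congrArg (2 * ·)
      ((Nat.card_congr (Sylow.equiv (S.mapSurjective hπ) T).toEquiv).trans hT4.card_four))
  refine ⟨fun S => ?_, ?_⟩
  · obtain ⟨n, ⟨e⟩⟩ := hQ S
    have h1 := (hcard e).symm.trans (h8 S)
    obtain rfl : n = 0 := by simpa using h1
    exact ⟨e⟩
  obtain ⟨S⟩ : Nonempty (Sylow 2 G) := inferInstance
  obtain ⟨n, ⟨e⟩⟩ := hQ S
  have hπ := QuotientGroup.mk'_surjective (oddCore G)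
  have hO : pPrimeCore 2 (G ⧸ oddCore G) = ⊥ := pPrimeCore_quotient_pPrimeCore
  let e1 := (H8.sylowMapEquiv S (oddCore G) coprime_card_pPrimeCore).symm
  have h16 : ¬ 16 ∣ Nat.card (G ⧸ oddCore G) := fun h => by
    have h1 := S.card_eq_multiplicity
    rw [h8] at h1
    have := pow_dvd_pow 2 ((Nat.prime_two.pow_dvd_iff_le_factorization (k := 4) Nat.card_pos.ne').1
      (h.trans (card_quotient_dvd_card _)))
    rw [← h1] at this
    omega
  obtain ⟨L, _, hp, -, hb⟩ := exists_residual (G ⧸ oddCore G)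
  have hP := isPerfect_of_commutator_eq hp
  have h2 : Even (Nat.card L) := Nat.not_odd_iff_even.1 fun h => by
    have := hb (H8.core_eq_bot_iff.1 hO L inferInstance h)
    have := GW.solvable_of_odd (H8.odd_card_pPrimeCore (G := G))
    exact hns (Group.isSolvable_of_ker_le_range (oddCore G).subtype (QuotientGroup.mk' (oddCore G))
      (by simp))
  let P := H3.sylowInf (S.mapSurjective hπ) L
  obtain ⟨m, ⟨e2⟩⟩ := (H1.cyclic_or_quaternion P.isPGroup' fun x y hx hy => by
    rw [← orderOf_coe, ← orderOf_coe] at hx hy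
    have := H69.mem_zpowers_of_cyclic_or_quaternion (x := ⟨x, x.2⟩) (y := ⟨y, y.2⟩)
      (S.mapSurjective hπ).isPGroup' (Or.inr ⟨_, ⟨e1.trans e⟩⟩)
      (fun h => GW.ne_one_of_inv hx (congrArg Subtype.val h))
      (Subtype.ext (orderOf_dvd_iff_pow_eq_one.1 hx.dvd))
      (Subtype.ext (orderOf_dvd_iff_pow_eq_one.1 hy.dvd))
    rcases (GW.mem_zpowers_of_inv hx).1 ((MonoidHom.map_zpowers _ _).le
      (mem_map_of_mem (Subgroup.subtype _) this)) with h | h
    · exact absurd h (GW.ne_one_of_inv hy)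
    · exact Subtype.ext (Subtype.ext h.symm)).resolve_left (not_isCyclic_sylow_two hP h2 P)
  have h3 : 8 ∣ Nat.card L := (Dvd.intro _ (hcard e2).symm).trans (card_subgroup_dvd_card _)
  have h4 : ¬ 16 ∣ Nat.card L := fun h => h16 (h.trans (card_subgroup_dvd_card _))
  rcases perfect_quaternion hP (H8.core_eq_bot_of_normal hO L) P e2 with
    ⟨F, _, _, h5, h6, ⟨f⟩⟩ | ⟨h5, ⟨f⟩, -⟩
  · have hle : oddCore G ≤ L.comap (QuotientGroup.mk' _) := fun g hg => by
      rw [mem_comap, QuotientGroup.mk'_apply, (QuotientGroup.eq_one_iff g).2 hg]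
      exact one_mem _
    refine ⟨L.comap (QuotientGroup.mk' _), inferInstance, inferInstance, ?_, hle, F, _, _, ?_, h6,
      ⟨(QuotientGroup.quotientMulEquivOfEq ?_).trans ((QuotientGroup.quotientKerEquivOfSurjective _
        (MonoidHom.subgroupComap_surjective_of_surjective _ L hπ)).trans f)⟩⟩
    · rw [index_comap_of_surjective _ hπ]
      refine Nat.not_even_iff_odd.1 fun h => h16 ?_
      rw [← L.card_mul_index]
      exact mul_dvd_mul h3 (even_iff_two_dvd.1 h)
    · rw [Nat.card_congr f.toEquiv, H9.card_sl_two] at h4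
      generalize Fintype.card F = q at h4 h5 h6
      by_contra c
      refine h4 (Dvd.dvd.mul_left ((Nat.modEq_iff_dvd' (Nat.one_le_pow _ _ (by omega))).1 ?_) _)
      rw [Nat.odd_iff] at h5
      have : q % 16 = 1 ∨ q % 16 = 7 ∨ q % 16 = 9 ∨ q % 16 = 15 := by omega
      rcases this with h | h | h | h <;> simp [Nat.ModEq, Nat.pow_mod, h]
    · ext g
      rw [mem_subgroupOf, MonoidHom.mem_ker, ← QuotientGroup.eq_one_iff, Subtype.ext_iff]
      rfl
  · refine absurd ?_ h4
    rw [← (center L).card_mul_index, h5, index_eq_card, Nat.card_congr f.toEquiv,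
      nat_card_alternatingGroup, Nat.card_fin]
    decide

end Cfsg.Agent.S3307
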