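import Cfsg.Statements.S3322
import Cfsg.Agent.H18.DG3
import Cfsg.Agent.S1230

set_option autoImplicit false
open Cfsg

namespace Cfsg.Agent.S3322

open Subgroup Cfsg.Agent.H18

universe u

theorem elem {G : Type u} [Group G] [Finite G] (H : Subgroup G) (hel : ∀ x ∈ H, x * x = 1)
    (h4 : 4 ∣ Nat.card H) (hC : ∀ j ∈ H, orderOf j = 2 → centralizer ({j} : Set G) = H)
    (hns : ¬ Group.IsSolvable G) : ∃ (F : Type) (_ : Field F) (_ : Fintype F), 3 < Fintype.card F ∧
      Nonempty (G ≃* Matrix.ProjectiveSpecialLinearGroup (Fin 2) F) := by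
  have : Fact (Nat.Prime 2) := ⟨Nat.prime_two⟩
  have hH : ∀ a ∈ H, ∀ b ∈ H, a * b = b * a := fun a ha b hb => by
    rw [← inv_eq_of_mul_eq_one_right (hel _ (mul_mem ha hb)), mul_inv_rev,
      inv_eq_of_mul_eq_one_right (hel a ha), inv_eq_of_mul_eq_one_right (hel b hb)]
  have hP : IsPGroup 2 H := fun x => ⟨1, Subtype.ext ((sq (x : G)).trans (hel x x.2))⟩
  obtain ⟨S, hS⟩ := hP.exists_le_sylow
  obtain ⟨j, hj, j2⟩ := H8.exists_involution_of_even H (even_iff_two_dvd.2 (Dvd.dvd.trans (by decide) h4))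
  obtain ⟨z, -, z2, hc⟩ := H46.exists_involution_centralized (U := (S : Subgroup G)) (T := S)
    S.isPGroup' (fun e => GW.ne_one_of_inv j2 (mem_bot.1 (e ▸ hS hj))) S.isPGroup' le_normalizer
  have hz : z ∈ H := hC j hj j2 ▸ mem_centralizer_singleton_iff.2 (hc j (hS hj)).symm
  obtain rfl : H = S := le_antisymm hS fun s hs =>
    hC z hz z2 ▸ mem_centralizer_singleton_iff.2 (hc s hs)
  have h4' := Nat.le_of_dvd Nat.card_pos h4
  obtain ⟨F, _, _, hF, e⟩ := S1230.result S (fun c => by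
      obtain ⟨g, hg⟩ := IsCyclic.exists_generator (α := (S : Subgroup G))
      have h1 := orderOf_eq_card_of_forall_mem_zpowers hg
      have h2 := orderOf_le_of_pow_eq_one (x := g) two_pos
        (Subtype.ext ((sq (g : G)).trans (hel g g.2)))
      omega) (not_normal_of_abelian hns hH (H18.odd_index_sylow S)) fun t ht => by
    obtain ⟨g, hg⟩ := H42.exists_conj_sylow S (IsPGroup.of_card (n := 1) (G := zpowers t)
      (by rw [Nat.card_zpowers, ht, pow_one]))
    have key : ∀ c ∈ centralizer ({t} : Set G), g * c * g⁻¹ ∈ (S : Subgroup G) := fun c hc => by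
      rw [← hC _ (hg t (mem_zpowers t)) (GW.orderOf_conj_inv ht g), mem_centralizer_singleton_iff,
        conj_mul, conj_mul, mem_centralizer_singleton_iff.1 hc]
    refine ⟨⟨⟨fun a b => Subtype.ext ?_⟩⟩, fun c hc => ?_⟩
    · simpa using hH _ (key a a.2) _ (key b b.2)
    · simpa [sq] using hel _ (key c hc)
  exact ⟨F, inferInstance, inferInstance, by omega, e⟩

theorem nf {G : Type u} [Group G] [Finite G] {H A : Subgroup G} (h : DH H A) {a j j' : G}
    (ha : a ∈ A) (a2 : a * a ≠ 1) (hj : j ∈ A) (hj' : j' ∈ A) (j2 : orderOf j = 2)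
    (j2' : orderOf j' = 2) (hne : j ≠ j') (v : G) (hv : v ∈ A) (v2 : orderOf v = 2) (g : G)
    (hg : g * v * g⁻¹ ∈ H) : g * v * g⁻¹ ∈ A := by
  by_contra c
  have k1 : ∀ x : G, g⁻¹ * x * g ∈ H ↔ g * v * g⁻¹ * x = x * (g * v * g⁻¹) := fun x => by
    rw [h.mem_iff hv v2]
    constructor
    · intro e
      calc g * v * g⁻¹ * x = g * (v * (g⁻¹ * x * g)) * g⁻¹ := by group
        _ = _ := by rw [← e]; group
    · intro e
      calc g⁻¹ * x * g * v = g⁻¹ * (x * (g * v * g⁻¹)) * g := by group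
        _ = _ := by rw [← e]; group
  have k2 : ∀ u ∈ A, orderOf u = 2 → g⁻¹ * u * g ∈ H := fun u hu u2 =>
    (k1 u).2 ((h.mem_iff hu u2).1 hg)
  have k3 : ∀ u ∈ A, orderOf u = 2 → g⁻¹ * u * g ∉ A := fun u hu u2 c' => by
    refine a2 (h.sq_of_comm hg c ha ((k1 a).1 ((h.mem_iff c' ?_).2 ?_)))
    · simpa using GW.orderOf_conj_inv u2 g⁻¹
    · calc g⁻¹ * a * g * (g⁻¹ * u * g) = g⁻¹ * (a * u) * g := by group
        _ = _ := by rw [h.comm ha hu]; group
  refine k3 _ (mul_mem hj hj') (GW.Refl.mul_inv ⟨j2', hne.symm, h.comm hj hj'⟩ j2) ?_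
  have := (H42.mul_mem_iff_of_relIndex_two h.idx (k2 j hj j2) (k2 j' hj' j2')).2
    (iff_of_false (k3 j hj j2) (k3 j' hj' j2'))
  simpa [mul_assoc] using this

/-- Call a group a D-group when it has a proper subgroup outside of which every element x satisfies x² = 1 (for instance a dihedral group, or an elementary abelian 2-group). Let G be a finite group with a subgroup H that is a D-group (witnessed by a proper subgroup A of H) of order divisible by 4, such that H = C_G(j) for every involution j in the centre of H. If G is not solvable, then G has a normal subgroup N whose order is odd or twice an odd number with G/N isomorphic to PSL(2, q) or PGL(2, q) for some prime power q > 3 (q may be even). -/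
theorem result
    {G : Type*} [Group G] [Finite G] (H A : Subgroup G) (hAH : A < H) (hD : ∀ x ∈ H, x ∉ A → x ^ 2 = 1)
    (h4 : 4 ∣ Nat.card ↥H)
    (hC : ∀ j ∈ H, orderOf j = 2 → (∀ h ∈ H, h * j = j * h) → Subgroup.centralizer ({j} : Set G) = H)
    (hns : ¬ Group.IsSolvable G) :
    ∃ (N : Subgroup G) (_ : N.Normal), (Odd (Nat.card ↥N) ∨ ∃ m : ℕ, Odd m ∧ Nat.card ↥N = 2 * m) ∧
      ∃ (F : Type) (_ : Field F) (_ : Fintype F), 3 < Fintype.card F ∧
        (Nonempty (G ⧸ N ≃* Matrix.ProjectiveSpecialLinearGroup (Fin 2) F) ∨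
          Nonempty (G ⧸ N ≃* Matrix.ProjGenLinGroup (Fin 2) F)) := by
  have out : ∀ x ∈ H, x ∉ A → x * x = 1 := fun x hx c => (sq x).symm.trans (hD x hx c)
  have inv : ∀ s ∈ H, s ∉ A → ∀ a ∈ A, s * a * s⁻¹ = a⁻¹ := fun s hs hsA a ha => by
    rw [inv_eq_of_mul_eq_one_right (out s hs hsA), eq_inv_iff_mul_eq_one, mul_assoc (s * a)]
    exact out _ (mul_mem hs (hAH.le ha)) (by rwa [mul_mem_cancel_right ha])
  obtain ⟨s, hs, hsA⟩ := SetLike.exists_of_lt hAH
  by_cases hel : ∀ x ∈ H, x * x = 1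
  · obtain ⟨F, _, _, h3, ⟨e⟩⟩ := elem H hel h4 (fun j hj j2 => hC j hj j2 fun a ha => by
      rw [← inv_eq_of_mul_eq_one_right (hel _ (mul_mem ha hj)), mul_inv_rev,
        inv_eq_of_mul_eq_one_right (hel a ha), inv_eq_of_mul_eq_one_right (hel j hj)]) hns
    exact ⟨⊥, inferInstance, Or.inl (by simp), F, inferInstance, inferInstance, h3,
      Or.inl ⟨QuotientGroup.quotientBot.trans e⟩⟩
  push Not at hel
  obtain ⟨a, haH, a2⟩ := hel
  have ha : a ∈ A := by_contra fun c => a2 (out a haH c)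
  have h : DH H A := by
    refine ⟨hAH.le, relIndex_eq_two_iff.2 ⟨s, hs, fun b hb => ?_⟩, out, fun j hj j2 =>
      hC j (hAH.le hj) j2 fun b hb => ?_⟩
    · by_cases c : b ∈ A
      · exact Or.inr ⟨c, by rwa [mul_mem_cancel_left c]⟩
      · refine Or.inl ⟨by_contra fun c' => a2 (mul_eq_one_iff_eq_inv.2 ?_), c⟩
        rw [← inv _ (mul_mem hb hs) c' a ha]
        calc a = b * a⁻¹ * b⁻¹ := by rw [inv b hb c _ (inv_mem ha), inv_inv]
          _ = _ := by rw [← inv s hs hsA a ha]; group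
    · by_cases c : b ∈ A
      · have := inv s hs hsA _ (mul_mem c hj)
        rw [← conj_mul, inv s hs hsA b c, inv s hs hsA j hj, ← mul_inv_rev, inv_inj] at this
        exact this.symm
      · rw [← mul_inv_eq_iff_eq_mul, inv b hb c j hj, GW.inv_eq_of_inv j2]
  obtain ⟨j, hj, j2⟩ := H8.exists_involution_of_even A (by
    have := H42.card_mul_relIndex h.le
    rw [h.idx] at this
    rw [even_iff_two_dvd]
    omega)
  set π := QuotientGroup.mk' (pPrimeCore 2 G)
  have hπ : Function.Surjective π := QuotientGroup.mk'_surjective _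
  have hk : Odd (Nat.card π.ker) := by rw [QuotientGroup.ker_mk']; exact H8.odd_card_pPrimeCore
  have h' := h.map π hπ hk
  have hO : pPrimeCore 2 (G ⧸ pPrimeCore 2 G) = ⊥ := H22.pPrimeCore_quotient_pPrimeCore
  have hns' : ¬ Group.IsSolvable (G ⧸ pPrimeCore 2 G) := fun c =>
    hns ((Group.isSolvable_iff_subgroup_quotient _).2 ⟨GW.solvable_of_odd H8.odd_card_pPrimeCore, c⟩)
  have ord : ∀ {v : G}, orderOf v = 2 → orderOf (π v) = 2 := fun {v} v2 =>
    GW.inv_of_mul_self (by rw [← map_mul, GW.mul_self_of_inv v2, map_one])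
      fun c => GW.not_mem_of_odd hk v2 c
  by_cases uniq : ∀ v ∈ A, orderOf v = 2 → v = j
  · obtain ⟨F, _, _, h3, e⟩ := h'.caseC ⟨j, hj, rfl⟩ (ord j2) (by
      rintro _ ⟨v, hv, rfl⟩ v2
      obtain ⟨n, h1, h2⟩ := exists_inv_lift π hk v2
      rw [← h2, uniq _ (pow_mem hv n) h1]) hO hns'
    exact ⟨_, inferInstance, Or.inl H8.odd_card_pPrimeCore, F, inferInstance, inferInstance, h3, e⟩
  · push Not at uniq
    obtain ⟨j', hj', j2', hne⟩ := uniq
    obtain ⟨Z, _, hZ, F, _, _, h3, ⟨e⟩⟩ := h'.caseB (by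
      rintro _ ⟨v, hv, rfl⟩ v2 g ⟨x, hx, e⟩
      obtain ⟨g, rfl⟩ := hπ g
      obtain ⟨n, h1, h2⟩ := exists_inv_lift π hk v2
      refine ⟨x, by_contra fun c => c ?_, e⟩
      obtain ⟨k, -, e'⟩ := exists_conj_of_map_eq π hk (H42.conj_mul_self (GW.mul_self_of_inv h1) g)
        (out x hx c) (by rw [e, map_mul, map_mul, map_inv, h2])
      have e2 : x = (k * g) * v ^ n * (k * g)⁻¹ := by rw [← e']; group
      rw [e2] at hx ⊢
      exact nf h ha a2 hj hj' j2 j2' hne.symm _ (pow_mem hv n) h1 _ hx) hO hns'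
      ⟨j, hj, rfl⟩ ⟨j', hj', rfl⟩ (ord j2) (ord j2') fun c => GW.not_mem_of_odd hk
        (GW.Refl.mul_inv ⟨j2', hne, h.comm hj hj'⟩ j2)
        (by rw [MonoidHom.mem_ker, map_mul, c, ← map_mul, GW.mul_self_of_inv j2', map_one])
    refine ⟨Z.comap π, inferInstance, Or.inr ⟨_, H8.odd_card_pPrimeCore (G := G), ?_⟩, F,
      inferInstance, inferInstance, h3, Or.inl ⟨((QuotientGroup.quotientQuotientEquivQuotient
        (pPrimeCore 2 G) _ (QuotientGroup.le_comap_mk' _ Z)).symm.trans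
        (QuotientGroup.quotientMulEquivOfEq (map_comap_eq_self_of_surjective hπ Z))).trans e⟩⟩
    have := QuotientGroup.card_preimage_mk (pPrimeCore 2 G) (Z : Set (G ⧸ pPrimeCore 2 G))
    rw [show Nat.card (Z : Set (G ⧸ pPrimeCore 2 G)) = 2 from hZ, mul_comm] at this
    exact this

end Cfsg.Agent.S3322
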