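import Cfsg.Statements.S3324
import Cfsg.Agent.H76.HyG
import Cfsg.Agent.H76.HyX3
import Cfsg.Agent.S0051
import Mathlib.NumberTheory.LegendreSymbol.QuadraticChar.Basic

set_option autoImplicit false
open Cfsg

namespace Cfsg.Agent.S3324

open Subgroup H76 H76.Cm H76.Hy

theorem split {F G : Type*} [Field F] [Group G] {ψ : Cm F →* G} (h : Hy ψ) [Fintype F] [Finite G] {p n : ℕ}
    [Fact p.Prime] (hp : p ≠ 2) (hF : Fintype.card F = p ^ n) :
    ∃ J : Subgroup (NN ψ), IsComplement' ((MM ψ).subgroupOf (NN ψ)) J := by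
  have hPN : (P0 F).map ψ ≤ NN ψ := by rintro _ ⟨x, hx, rfl⟩; exact mem_NN (P0_le hx)
  haveI : IsMulCommutative ((MM ψ).subgroupOf (NN ψ)) := H23.isMulCommutative_of_comm (by
    rintro a ⟨x, hx, e⟩ b ⟨y, hy, e'⟩
    obtain ⟨a1, a2, a3, rfl⟩ := mem_M0.1 hx
    obtain ⟨b1, b2, b3, rfl⟩ := mem_M0.1 hy
    apply Subtype.ext
    change (NN ψ).subtype a * (NN ψ).subtype b = (NN ψ).subtype b * (NN ψ).subtype a
    rw [← e, ← e', ← map_mul, ← map_mul, mm_mul, mm_mul, add_comm a1, add_comm a2, add_comm a3])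
  let Y : Subgroup (Cm F) := (MonoidHom.mk' (fun b : Multiplicative F => yy b.toAdd)
    fun a b => (yy_mul _ _).symm).range
  refine S0051.result _ (((P0 F).map ψ).subgroupOf (NN ψ)) (subgroupOf_mono _ (map_mono M0_le)) ?_
    ((Y.map ψ).subgroupOf (NN ψ)) (subgroupOf_mono _ (map_mono ?_)) ?_ ?_
  · rw [Nat.card_congr (subgroupOfEquivOfLe le_normalizer).toEquiv, card_map_of_injective h.inj, card_M0, hF,
      ← pow_mul]
    exact Nat.Coprime.pow_left _ ((Nat.Prime.coprime_iff_not_dvd Fact.out).2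
      ((h.sylow hp hF).mono hPN le_top).not_dvd)
  · rintro _ ⟨b, rfl⟩; exact yy_mem _
  · rw [eq_bot_iff]
    rintro x ⟨⟨_, ⟨b, rfl⟩, e⟩, y, hy, e'⟩
    have h1 := h.inj (e.trans e'.symm)
    have h2 : b.toAdd = 0 := (congrArg Cm.b h1).trans hy.2.2.2
    rw [mem_bot]; apply Subtype.ext
    change (NN ψ).subtype x = 1
    rw [← e]; change ψ (yy b.toAdd) = 1
    rw [h2, yy_zero, map_one]
  · apply le_antisymm
    · refine sup_le (subgroupOf_mono _ (map_mono M0_le)) (subgroupOf_mono _ (map_mono ?_))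
      rintro _ ⟨b, rfl⟩; exact yy_mem _
    · rintro x ⟨y, hy, e⟩
      obtain ⟨a, c, s, b, rfl⟩ := exists_of_P0 hy
      have : x = ⟨ψ (mm a c s), mem_NN (P0_le (M0_le (mm_mem _ _ _)))⟩ * ⟨ψ (yy b), mem_NN (P0_le (yy_mem _))⟩ :=
        Subtype.ext (e.symm.trans (map_mul _ _ _))
      rw [this]
      exact mul_mem (mem_sup_left (mem_map_of_mem ψ (mm_mem _ _ _)))
        (mem_sup_right (mem_map_of_mem ψ ⟨Multiplicative.ofAdd b, rfl⟩))

/-- Let p be an odd prime and q = pⁿ with q ≡ 3 (mod 4), and let C₀ be the centralizer in PSp(4, q) of an element x of order p lying in the centre of a Sylow p-subgroup. Let G be a finite group with an element α of order p such that C_G(α) ≅ C₀, such that C_G(z) = C_G(α) for every nontrivial z in the centre of C_G(α), and in which not all elements of order p that are central in some Sylow p-subgroup are conjugate. Let P be a Sylow p-subgroup of G contained in C_G(α) (P has order q⁴) and M an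 elementary abelian subgroup of P of order q³. If N_G(M) does not have a normal Sylow p-subgroup, then M has a complement J in N_G(M) with J isomorphic to PGL(2, q) × C, C cyclic of order (q − 1)/2. -/
theorem result
    {G : Type*} [Group G] [Finite G] {F : Type*} [Field F] [Fintype F] (p n : ℕ) [Fact p.Prime] (hp : p ≠ 2)
    (hn : 1 ≤ n) (hq4 : p ^ n % 4 = 3) (hF : Fintype.card F = p ^ n)
    (x : Cfsg.PSp 2 F) (hx : orderOf x = p) (Px : Sylow p (Cfsg.PSp 2 F)) (hxP : x ∈ (Px : Subgroup (Cfsg.PSp 2 F)))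
    (hxc : ∀ y ∈ (Px : Subgroup (Cfsg.PSp 2 F)), y * x = x * y)
    (α : G) (hα : orderOf α = p)
    (e : ↥(Subgroup.centralizer ({α} : Set G)) ≃* ↥(Subgroup.centralizer ({x} : Set (Cfsg.PSp 2 F))))
    (hb : ∀ z ∈ Subgroup.centralizer ({α} : Set G), z ≠ 1 → (∀ c ∈ Subgroup.centralizer ({α} : Set G), c * z = z * c) →
      Subgroup.centralizer ({z} : Set G) = Subgroup.centralizer ({α} : Set G))
    (hc : ∃ (u v : G) (Pu Pv : Sylow p G), orderOf u = p ∧ orderOf v = p ∧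
      u ∈ (Pu : Subgroup G) ∧ (∀ y ∈ (Pu : Subgroup G), y * u = u * y) ∧
      v ∈ (Pv : Subgroup G) ∧ (∀ y ∈ (Pv : Subgroup G), y * v = v * y) ∧ ∀ g : G, g * u * g⁻¹ ≠ v)
    (P : Sylow p G) (hP : (P : Subgroup G) ≤ Subgroup.centralizer ({α} : Set G))
    (M : Subgroup G) (hMP : M ≤ P) (hMc : IsMulCommutative ↥M) (hMe : ∀ m ∈ M, m ^ p = 1) (hMcard : Nat.card ↥M = p ^ (3 * n))
    (hnc : ∃ Q R : Sylow p ↥(Subgroup.normalizer (M : Set G)), Q ≠ R) :
    ∃ J : Subgroup G, J ≤ Subgroup.normalizer (M : Set G) ∧ M ⊔ J = Subgroup.normalizer (M : Set G) ∧ M ⊓ J = ⊥ ∧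
      Nonempty (↥J ≃* (Matrix.ProjGenLinGroup (Fin 2) F × Multiplicative (ZMod ((p ^ n - 1) / 2)))) := by
  have hx1 : x ≠ 1 := by rintro rfl; rw [orderOf_one] at hx; exact (Fact.out : p.Prime).one_lt.ne hx
  obtain ⟨e0⟩ := exists_equiv hp hF hx1 Px hxP hxc
  obtain ⟨ψ0, h0, -⟩ := exists_hy (two_ne hp hF) (e.trans e0) hb
  obtain ⟨g, hg⟩ := h0.exists_cj hp hF P
  have h := h0.cj g
  generalize cj g ψ0 = ψ at h hg
  obtain rfl := h.eq_M (hg ▸ hMP) (fun x hx y hy => H23.comm_of_mem hMc hx hy) (by rw [hMcard, hF, ← pow_mul, mul_comm])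
  have nsq : ∀ a : F, a * a ≠ -1 := fun a ha =>
    FiniteField.isSquare_neg_one_iff.1 ⟨a, ha.symm⟩ (hF ▸ hq4)
  have nc : ∃ c : F, c ≠ 0 ∧ ∃ d : F, d ≠ 0 ∧ ∀ g : G, g * ψ (zz c) * g⁻¹ ≠ ψ (zz d) := by
    obtain ⟨u, v, Pu, Pv, hu, hv, h1, h2, h3, h4, h5⟩ := hc
    have ne : ∀ u : G, orderOf u = p → u ≠ 1 := fun u hu => by
      rintro rfl; rw [orderOf_one] at hu; exact (Fact.out : p.Prime).one_lt.ne hu
    obtain ⟨a, c, hc, rfl⟩ := h.pcentral hp hF h1 (ne u hu) h2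
    obtain ⟨b, d, hd, rfl⟩ := h.pcentral hp hF h3 (ne v hv) h4
    exact ⟨c, hc, d, hd, fun k e => h5 (b * k * a⁻¹) (by rw [← e]; group)⟩
  have nn : ∃ g ∈ NN ψ, ∀ d : F, g * ψ (zz 1) * g⁻¹ ≠ ψ (zz d) := by
    by_contra hh
    push Not at hh
    obtain ⟨Q, R, hQR⟩ := hnc
    have hPN : (P0 F).map ψ ≤ NN ψ := by rintro _ ⟨x, hx, rfl⟩; exact mem_NN (P0_le hx)
    have hS := (h.sylow hp hF).mono hPN le_top
    haveI : (hS.toSylow : Subgroup (NN ψ)).Normal := ⟨fun a ha k => by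
      obtain ⟨d, e⟩ := hh k k.2
      exact H23.conj_mem_of_mem_normalizer (A := (P0 F).map ψ) (a := a.1) (h.norm_P hp hF k.2 e) ha⟩
    haveI := Sylow.unique_of_normal hS.toSylow this
    exact hQR (Subsingleton.elim _ _)
  have hodd : Odd n := by
    rcases Nat.even_or_odd n with ⟨k, rfl⟩ | h
    · obtain ⟨r, hr⟩ := ((Fact.out : p.Prime).odd_of_ne_two hp).pow (n := k)
      rw [pow_add, hr, show (2 * r + 1) * (2 * r + 1) = 1 + (r * r + r) * 4 by ring, Nat.add_mul_mod_self_right]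
        at hq4
      omega
    · exact h
  obtain ⟨w, D⟩ := (h.cfg hp hF nsq nc nn).exists_W (m := (p ^ n - 1) / 2) hF (by omega) (Nat.odd_iff.2 (by omega))
  obtain ⟨e1⟩ := D.equiv hp hodd hF
  obtain ⟨J, hJ⟩ := split h hp hF
  refine ⟨J.map (NN ψ).subtype, map_subtype_le _, ?_, ?_, ⟨?_⟩⟩
  · have := congrArg (Subgroup.map (NN ψ).subtype) hJ.sup_eq_top
    rwa [Subgroup.map_sup, subgroupOf_map_subtype, inf_eq_left.2 le_normalizer, ← MonoidHom.range_eq_map,
      range_subtype] at this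
  · have := congrArg (Subgroup.map (NN ψ).subtype) hJ.disjoint.eq_bot
    rwa [Subgroup.map_inf _ _ _ (subtype_injective _), subgroupOf_map_subtype, inf_eq_left.2 le_normalizer,
      Subgroup.map_bot] at this
  · exact (J.equivMapOfInjective _ (subtype_injective _)).symm.trans (hJ.symm.QuotientMulEquiv.symm.trans
      ((QuotientGroup.quotientMulEquivOfEq h.bar_ker.symm).trans
        ((QuotientGroup.quotientKerEquivOfSurjective _ h.bar_surj).trans e1)))

end Cfsg.Agent.S3324
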