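import Cfsg.Statements.S3333
import Cfsg.Agent.H76.T9Top

set_option autoImplicit false
open Cfsg

namespace Cfsg.Agent.S3333

open Subgroup Cfsg.Agent.H76

/-- Let G be a finite group with a Sylow 3-subgroup S of order 9 that is its own centralizer, with N_G(S)/S dihedral of order 8, and such that C_G(x) ≤ N_G(S) for every non-identity x in S. Then S is normal in G or G is isomorphic to the symmetric group of degree 6. -/
theorem result {G : Type*} [Group G] [Finite G]
    (P : Sylow 3 G) (S : Subgroup G) (hSP : S = P) (hcard : Nat.card S = 9)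
    (hC : Subgroup.centralizer (S : Set G) = S)
    (eN : Subgroup.normalizer (S : Set G) ⧸ S.subgroupOf (Subgroup.normalizer (S : Set G)) ≃* DihedralGroup 4)
    (hcent : ∀ x ∈ S, x ≠ 1 → Subgroup.centralizer ({x} : Set G) ≤ Subgroup.normalizer (S : Set G)) :
    S.Normal ∨ Nonempty (G ≃* Equiv.Perm (Fin 6)) := by
  subst hSP
  set N := normalizer ((P : Subgroup G) : Set G) with hN
  let π : N →* DihedralGroup 4 := eN.toMonoidHom.comp (QuotientGroup.mk' _)
  have hπ : ∀ n : N, π n = 1 ↔ (n : G) ∈ (P : Subgroup G) := fun n =>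
    (map_eq_one_iff eN eN.injective).trans (QuotientGroup.eq_one_iff n)
  have hs : Function.Surjective π := eN.surjective.comp (QuotientGroup.mk'_surjective _)
  obtain ⟨r, hr⟩ := hs (DihedralGroup.r 1)
  obtain ⟨σ, hσ⟩ := hs (DihedralGroup.sr 0)
  have hexp : ∀ t ∈ (P : Subgroup G), t ^ 3 = 1 := by
    intro t ht
    by_contra h3
    have h1 : orderOf t ∣ 3 ^ 2 := by
      have := orderOf_dvd_natCard (⟨t, ht⟩ : (P : Subgroup G))
      rwa [orderOf_mk, hcard] at this
    obtain ⟨k, hk, h2⟩ := (Nat.dvd_prime_pow Nat.prime_three).mp h1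
    have h4 : orderOf t = 9 := by
      interval_cases k
      · exact absurd (orderOf_dvd_iff_pow_eq_one.mp (by rw [h2]; norm_num)) h3
      · exact absurd (orderOf_dvd_iff_pow_eq_one.mp (by rw [h2]; norm_num)) h3
      · exact h2
    have h5 : zpowers t = (P : Subgroup G) :=
      eq_of_le_of_card_ge (zpowers_le.mpr ht) (by rw [Nat.card_zpowers, h4, hcard])
    have h6 : ∀ n : N, ∃ i : ℤ, (n : G) * t * (n : G)⁻¹ = t ^ i := fun n => by
      obtain ⟨i, hi⟩ := mem_zpowers_iff.mp (h5 ▸ (mem_normalizer_iff.mp n.2 t).mp ht)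
      exact ⟨i, hi.symm⟩
    obtain ⟨i, hi⟩ := h6 r
    obtain ⟨j, hj⟩ := h6 σ
    have h7 : ((σ * r)⁻¹ * (r * σ) : N) * t * ((σ * r)⁻¹ * (r * σ) : N)⁻¹ = t := by
      have e1 : (r * σ : G) * t * (r * σ : G)⁻¹ = t ^ (i * j) := by
        calc (r * σ : G) * t * (r * σ : G)⁻¹ = r * (σ * t * (σ : G)⁻¹) * (r : G)⁻¹ := by group
          _ = _ := by rw [hj, ← conj_zpow, hi, zpow_mul]
      have e2 : (σ * r : G) * t * (σ * r : G)⁻¹ = t ^ (i * j) := by
        calc (σ * r : G) * t * (σ * r : G)⁻¹ = σ * (r * t * (r : G)⁻¹) * (σ : G)⁻¹ := by group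
          _ = _ := by rw [hi, ← conj_zpow, hj, mul_comm i j, zpow_mul]
      simp only [coe_mul, coe_inv]
      calc _ = (σ * r : G)⁻¹ * ((r * σ : G) * t * (r * σ : G)⁻¹) * (σ * r : G) := by group
        _ = t := by rw [e1, ← e2]; group
    have h8 : (((σ * r)⁻¹ * (r * σ) : N) : G) ∈ (P : Subgroup G) := by
      rw [← hC, ← h5]
      rintro _ ⟨k, rfl⟩
      exact ((Commute.zpow_left (mul_inv_eq_iff_eq_mul.mp h7).symm k)).eq
    rw [← hπ, map_mul, map_inv, map_mul, map_mul, hr, hσ] at h8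
    revert h8; decide
  refine d8_core ⟨hexp, P.not_dvd_index, hC, hcent⟩ hcard ?_ r.2 σ.2
    ((hπ (r * r * (r * r))).mp ?_) (mt (hπ (r * r)).mpr ?_) ((hπ (σ * σ)).mp ?_)
    ((hπ (r * σ * (r * σ))).mp ?_)
  · rw [card_eq_card_quotient_mul_card_subgroup ((P : Subgroup G).subgroupOf N),
      Nat.card_congr eN.toEquiv, DihedralGroup.nat_card,
      Nat.card_congr (subgroupOfEquivOfLe le_normalizer).toEquiv, hcard]
  all_goals simp only [map_mul, hr, hσ]; decide

end Cfsg.Agent.S3333
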