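import Cfsg.Statements.S3339
import Cfsg.Agent.OR.A9h

set_option autoImplicit false
open Cfsg

namespace Cfsg.Agent.S3339

open Subgroup OR.A9


/-- A 3-local characterization of the alternating group of degree 9. Let G be a finite group and J ≤ G an elementary abelian subgroup of order 27 whose normalizer H = N_G(J) is isomorphic to the normalizer, in the alternating group of degree 9, of the subgroup generated by three disjoint 3-cycles. If O_{3'}(C_G(x)) = 1 for every element x of order 3 in H, then either G = H or G is isomorphic to the alternating group of degree 9. -/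
theorem result {G : Type*} [Group G] [Finite G]
    (J : Subgroup G) (hJcomm : IsMulCommutative J) (hJexp : ∀ a ∈ J, a ^ 3 = 1) (hJcard : Nat.card J = 27)
    (H : Subgroup G) (hH : H = Subgroup.normalizer (J : Set G))
    (J₀ : Subgroup (Equiv.Perm (Fin 9)))
    (hJ₀ : J₀ = Subgroup.closure {Equiv.swap (0 : Fin 9) 1 * Equiv.swap 1 2, Equiv.swap (3 : Fin 9) 4 * Equiv.swap 4 5, Equiv.swap (6 : Fin 9) 7 * Equiv.swap 7 8})
    (eH : H ≃* ↥(alternatingGroup (Fin 9) ⊓ Subgroup.normalizer (J₀ : Set (Equiv.Perm (Fin 9)))))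
    (hcores : ∀ x ∈ H, orderOf x = 3 → Cfsg.pPrimeCore 3 (Subgroup.centralizer ({x} : Set G)) = ⊥) :
    H = ⊤ ∨ Nonempty (G ≃* alternatingGroup (Fin 9)) := by
  have hr := range_FH (mem_J0 hJ₀)
  let ψ : M →* G := H.subtype.comp (eH.symm.toMonoidHom.comp (FH.codRestrict _ fun m => hr.le ⟨m, rfl⟩))
  have inj : Function.Injective ψ := H.subtype_injective.comp (eH.symm.injective.comp fun _ _ e =>
    FM_inj (congrArg Subtype.val e))
  have rg : normalizer (J : Set G) = ψ.range := by
    rw [← hH]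
    refine le_antisymm (fun g hg => ?_) (by rintro _ ⟨m, rfl⟩; exact (eH.symm _).2)
    obtain ⟨m, hm⟩ := hr.ge (eH ⟨g, hg⟩).2
    exact ⟨m, congrArg Subtype.val (eH.symm_apply_eq.2 (Subtype.ext hm) : eH.symm ⟨FH m, hr.le ⟨m, rfl⟩⟩ = ⟨g, hg⟩)⟩
  have h : Md ψ J := ⟨inj, uniq inj (rg ▸ le_normalizer) ⟨hJcomm, hJexp⟩ hJcard.ge, rg⟩
  have hc : ∀ v, v ≠ 0 → Cfsg.pPrimeCore 3 (centralizer ({ψ (tv v)} : Set G)) = ⊥ := fun v hv =>
    hcores _ (hH ▸ h.memN _) (orderOf_eq_prime (h.exp _ (h.mem v)) (h.par.ne_one hv))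
  rw [hH]
  exact h.main (hc _ (by decide)) (hc _ (by decide))

end Cfsg.Agent.S3339
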