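import Cfsg.Statements.S3341
import Cfsg.Agent.H76.T9Top

set_option autoImplicit false
open Cfsg

namespace Cfsg.Agent.S3341

open Subgroup Finset Cfsg.Agent.H76

/-- Let G be a finite simple group whose Sylow 3-subgroup S is elementary abelian of order 9, such that G has more than one conjugacy class of elements of order 3 and C_G(s) = S for every non-identity s in S. Then G is isomorphic to the alternating group of degree 6. -/
theorem result {G : Type*} [Group G] [Finite G] [IsSimpleGroup G]
    (P : Sylow 3 G) (S : Subgroup G) (hSP : S = P) (hcomm : IsMulCommutative S) (hexp : ∀ a ∈ S, a ^ 3 = 1)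
    (hcard : Nat.card S = 9)
    (hclasses : ∃ a b : G, orderOf a = 3 ∧ orderOf b = 3 ∧ ∀ g : G, g * a * g⁻¹ ≠ b)
    (hcent : ∀ s ∈ S, s ≠ 1 → Subgroup.centralizer ({s} : Set G) = S) :
    Nonempty (G ≃* alternatingGroup (Fin 6)) := by
  classical
  subst hSP
  set T := (P : Subgroup G) with hT
  set N := normalizer (T : Set G) with hN
  obtain ⟨⟨a, ha⟩, h0⟩ : ∃ x : T, x ≠ 1 := by
    have : Nontrivial T := Finite.one_lt_card_iff_nontrivial.mp (by omega)
    exact exists_ne 1
  have a1 : a ≠ 1 := fun e => h0 (Subtype.ext e)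
  have h : E3 T := ⟨hexp, P.not_dvd_index, le_antisymm
    ((centralizer_le (Set.singleton_subset_iff.mpr ha)).trans (hcent a ha a1).le)
    fun g hg t ht => congrArg Subtype.val (hcomm.1.1 ⟨t, ht⟩ ⟨g, hg⟩),
    fun t ht h1 => (hcent t ht h1).le.trans le_normalizer⟩
  obtain ⟨b, f⟩ := exists_fr h hcard ha a1
  have hne : N ≠ ⊤ := fun e => by
    rcases (normalizer_eq_top_iff.mp e).eq_bot_or_eq_top with h9 | h9
    · rw [h9] at hcard; simp at hcard
    · let _ : CommGroup G := { ‹Group G› with
        mul_comm := fun x y => (h.comm (h9 ▸ mem_top x) (h9 ▸ mem_top y)).eq }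
      have := IsSimpleGroup.isCyclic (α := G)
      exact f.not_isCyclic inferInstance
  have hc : Nat.card N = T.relIndex N * 9 := by
    rw [relIndex, ← index_mul_card (T.subgroupOf N),
      Nat.card_congr (subgroupOfEquivOfLe le_normalizer).toEquiv, hcard]
  have h3 : ¬ 3 ∣ T.relIndex N := fun e => h.syl (e.trans (relIndex_dvd_index_of_le le_normalizer))
  have h9 : ∀ {a b : G}, Fr T a b → ∀ v, v ≠ 0 → Nat.card (centralizer ({ph a b v} : Set G)) = 9 :=
    fun f v hv => by rw [hcent _ (f.mem v) (f.ne_one hv), hcard]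
  have hcl : ∀ {a b : G}, Fr T a b → ∀ v, v ≠ 0 →
      (univ.filter fun u => IsConj (ph a b v) (ph a b u)).card = T.relIndex N := fun f v hv => by
    have := f.card_cls hv
    rw [h9 f v hv, ← hN] at this
    omega
  have h4 : T.relIndex N ≤ 4 := by
    obtain ⟨x, y, hx, hy, hxy⟩ := hclasses
    have key : ∀ x : G, orderOf x = 3 → ∃ v, v ≠ 0 ∧ IsConj x (ph a b v) := fun x hx => by
      obtain ⟨g, hg⟩ := h.exists_conj_mem hx
      obtain ⟨v, hv⟩ := f.surj hg
      refine ⟨v, fun e => ?_, isConj_of_eq g hv.symm⟩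
      rw [e, Fr.zero] at hv
      have : x = 1 := by simpa using hv.symm
      simp [this] at hx
    obtain ⟨u, u0, hu⟩ := key x hx
    obtain ⟨v, v0, hv⟩ := key y hy
    have k1 : Disjoint (univ.filter fun w => IsConj (ph a b u) (ph a b w))
        (univ.filter fun w => IsConj (ph a b v) (ph a b w)) := disjoint_filter.mpr fun w _ h1 h2 => by
      obtain ⟨g, hg⟩ := isConj_iff.mp (hu.trans (h1.trans (h2.symm.trans hv.symm)))
      exact hxy g hg
    have k2 := card_le_univ ((univ.filter fun w => IsConj (ph a b u) (ph a b w)) ∪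
        (univ.filter fun w => IsConj (ph a b v) (ph a b w)))
    rw [card_union_of_disjoint k1, hcl f u u0, hcl f v v0] at k2
    simp at k2
    omega
  have h1 : T.relIndex N ≠ 1 := fun e => by
    have hP : N ≤ centralizer (T : Set G) := by rw [h.cent]; exact relIndex_eq_one.mp e
    have k := MonoidHom.ker_transferSylow_isComplement' P hP
    rcases (MonoidHom.normal_ker (MonoidHom.transferSylow P hP)).eq_bot_or_eq_top with k1 | k1
    · rw [k1, isComplement'_bot_left] at k
      exact hne (eq_top_iff.mpr (k ▸ le_normalizer))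
    · rw [k1, isComplement'_top_left] at k
      rw [hT, k] at hcard; simp at hcard
  have h0' : T.relIndex N ≠ 0 := index_ne_zero_of_finite
  have : Fact (Nat.Prime 2) := ⟨Nat.prime_two⟩
  obtain ⟨⟨z, hzN⟩, hz2⟩ := exists_prime_orderOf_dvd_card' (G := N) 2 (by omega)
  rw [orderOf_mk] at hz2
  have hz : ∀ t ∈ T, z * t * z⁻¹ = t⁻¹ := fun t ht => by
    by_contra hn
    have k1 := h.conj_mem hzN ht
    have zz : z * z = 1 := by rw [← sq, ← hz2, pow_orderOf_eq_one]
    refine h.not_mem hz2 (hcent _ (mul_mem k1 ht) (fun e => hn (eq_inv_of_mul_eq_one_left e)) ▸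
      mem_centralizer_singleton_iff.mpr ?_)
    calc z * (z * t * z⁻¹ * t) = z * z * t * z⁻¹ * t := by group
      _ = t * (z * t * z⁻¹) * z := by
        rw [zz, inv_eq_of_mul_eq_one_right zz]; simp [mul_assoc, zz]
      _ = _ := by rw [(h.comm ht k1).eq]
  have hneg : ∀ {a b : G}, Fr T a b → ∀ v, IsConj (ph a b v) (ph a b (-v)) := fun f v =>
    isConj_of_eq z (by rw [hz _ (f.mem v), f.neg])
  rcases (show T.relIndex N = 2 ∨ T.relIndex N = 4 by omega) with h2 | h2
  · exfalso
    have fus : ∀ u v, IsConj (ph a b u) (ph a b v) ↔ cls2 u = cls2 v := fun u v => by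
      have k0 : ∀ u v : V, cls2 u = cls2 v ↔ v = u ∨ v = -u := by decide
      rw [k0]
      refine ⟨fun e => ?_, by rintro (rfl | rfl); exacts [IsConj.refl _, hneg f u]⟩
      by_cases hu : u = 0
      · rw [hu, Fr.zero, isConj_one_right] at e
        exact Or.inl ((f.eq_one e).trans hu.symm)
      · have k1 : ({u, -u} : Finset V) = univ.filter fun w => IsConj (ph a b u) (ph a b w) :=
          eq_of_subset_of_card_le (fun w hw => by
            simp only [mem_insert, mem_singleton] at hw
            rcases hw with rfl | rfl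
            exacts [mem_filter.mpr ⟨mem_univ _, IsConj.refl _⟩, mem_filter.mpr ⟨mem_univ _, hneg f u⟩])
            (by rw [hcl f u hu, h2]; clear e; revert u; decide)
        have : v ∈ ({u, -u} : Finset V) := k1 ▸ mem_filter.mpr ⟨mem_univ _, e⟩
        simpa using this
    exact hne (eq_top_of_card_eq _ (by rw [f.z2 fus (h9 f), hc, h2]))
  · obtain ⟨w, hw, hw'⟩ : ∃ w, IsConj (ph a b (1, 0)) (ph a b w) ∧
        w ∉ ({0, (1, 0), -(1, 0)} : Finset V) := by
      by_contra hn
      push Not at hn
      have := card_le_card (s := univ.filter fun u => IsConj (ph a b (1, 0)) (ph a b u))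
        fun w hw => hn w (mem_filter.mp hw).2
      rw [hcl f _ (by decide), h2] at this
      revert this; decide
    simp only [mem_insert, mem_singleton, not_or] at hw'
    have f' := f.change (v := (1, 0)) (by decide) hw'.1 hw'.2.1 hw'.2.2
    rw [Fr.e1] at f' hw
    generalize ph a b w = c at f' hw
    obtain ⟨r, hr⟩ := isConj_iff.mp hw
    have hrN := h.TI ha a1 (hr ▸ f'.hb)
    obtain ⟨u, hu⟩ := f'.surj (h.conj_mem hrN f'.hb)
    have hA := f'.conj_ph (u := (0, 1)) (by rw [hr, Fr.e2]) hu.symm
    have k1 : ∀ v, v ≠ 0 → v.1.val • ((0, 1) : V) + v.2.val • u ≠ v := fun v hv e => by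
      have : r ∈ T := hcent _ (f'.mem v) (f'.ne_one hv) ▸ mem_centralizer_singleton_iff.mpr
        (mul_inv_eq_iff_eq_mul.mp (by rw [hA, e]))
      exact f'.ba (by rw [← hr, h.conj_self this ha])
    have k2 : u ≠ -(0, 1) := fun e => by
      have : z * r ∈ T := hcent _ f'.hb f'.b1 ▸ mem_centralizer_singleton_iff.mpr
        (mul_inv_eq_iff_eq_mul.mp (by
          calc z * r * c * (z * r)⁻¹ = z * (r * c * r⁻¹) * z⁻¹ := by group
            _ = c := by rw [← hu, hz _ (f'.mem _), e, f'.neg, inv_inv, Fr.e2]))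
      have k := h.conj_self this ha
      refine f'.ba' ?_
      calc c = (z * (r * a * r⁻¹) * z⁻¹)⁻¹ := by rw [hr, hz _ f'.hb, inv_inv]
        _ = (z * r * a * (z * r)⁻¹)⁻¹ := by group
        _ = a⁻¹ := by rw [k]
    have k3 := f'.card_le (v := (1, 0)) (by decide) {(1, 0), (0, 1), -(1, 0), -(0, 1), u} (by
      have c1 : IsConj (ph a c (1, 0)) (ph a c (0, 1)) := by rwa [Fr.e1, Fr.e2]
      simp only [mem_insert, mem_singleton]
      rintro v (rfl | rfl | rfl | rfl | rfl)
      exacts [IsConj.refl _, c1, hneg f' _, c1.trans (hneg f' _),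
        c1.trans (isConj_of_eq r (by rw [Fr.e2, hu]))])
    rw [h9 f' _ (by decide), ← hN, hc, h2] at k3
    have k4 : u = -(1, 0) := by
      have k5 := Nat.le_of_mul_le_mul_right k3 (by norm_num)
      revert k1 k2 k5; generalize u = u; revert u; decide
    rw [k4, f'.neg, Fr.e1] at hu
    have c1 := h9 f' (1, 0) (by decide)
    have c2 := h9 f' (1, 1) (by decide)
    rw [Fr.e1] at c1
    rw [Fr.e12] at c2
    rcases f'.z4 (f'.fus4 hr hu.symm (f'.not_isConj hr hu.symm (by rw [← hN]; omega))) c1 c2 with k | k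
    · exact absurd (eq_top_of_card_eq _ (by omega)) hne
    · exact S0497.result k.1

end Cfsg.Agent.S3341
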