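import Cfsg.Statements.S3365
import Cfsg.Agent.H36.FxD

set_option autoImplicit false
open Cfsg

namespace Cfsg.Agent.S3365

open Subgroup Cfsg.Agent.H49 Cfsg.Agent.H36.Fx

/-- Finite simple groups acting with fixity 4. Let G be a finite non-abelian simple group acting faithfully and transitively on a finite set so that every non-identity element fixes at most 4 points and some non-identity element fixes exactly 4 (fixity 4). Let P be a Sylow 3-subgroup, S a Sylow 2-subgroup, f the largest number of fixed points of an involution of G, and a a point. Then one of the following holds: (1) f ≥ 1 and G has a strongly embedded subgroup; (2) 1 ≤ f ≤ 3 and S is dihedral or semidihedral; (3) f = 4 and G has sectional 2-rank at most 4; (4) the point stabilizer G_a has odd order divisible by 3 and either G has a strongly 3-embedded subgroup (a proper subgroup H of order divisible by 3 such that H ∩ gHg⁻¹ has order prime to 3 for every element g outside H), or |P| = 3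 and a Sylow 2-subgroup of N_G(P) has order at most 4, or P is elementary abelian of order 9, or P is extraspecial of order 27 and exponent 3, or P is isomorphic to a Sylow 3-subgroup of Sym(9) (the wreath product C₃ ≀ C₃); (5) G_a has order prime to 6. -/
theorem result {G Ω : Type*} [Group G] [Finite G] [IsSimpleGroup G] (hna : ¬ IsMulCommutative G)
    [MulAction G Ω] [FaithfulSMul G Ω] [Finite Ω] (htrans : MulAction.IsPretransitive G Ω)
    (hfix : ∀ g : G, g ≠ 1 → Nat.card (MulAction.fixedBy Ω g) ≤ 4)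
    (hfix4 : ∃ g : G, g ≠ 1 ∧ Nat.card (MulAction.fixedBy Ω g) = 4)
    (P : Sylow 3 G) (S : Sylow 2 G) (f : ℕ)
    (hf : ∀ g : G, orderOf g = 2 → Nat.card (MulAction.fixedBy Ω g) ≤ f)
    (hf' : ∃ g : G, orderOf g = 2 ∧ Nat.card (MulAction.fixedBy Ω g) = f) (a : Ω) :
    (1 ≤ f ∧ ∃ H : Subgroup G, Cfsg.IsStronglyEmbedded H) ∨
    (1 ≤ f ∧ f ≤ 3 ∧ ((∃ n : ℕ, Nonempty ((S : Subgroup G) ≃* DihedralGroup n)) ∨ Cfsg.IsQuasiDihedral (S : Subgroup G))) ∨
    (f = 4 ∧ Cfsg.SectionalPRankLE 2 4 G) ∨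
    (Odd (Nat.card (MulAction.stabilizer G a)) ∧ 3 ∣ Nat.card (MulAction.stabilizer G a) ∧
      ((∃ H : Subgroup G, H ≠ ⊤ ∧ 3 ∣ Nat.card H ∧ ∀ g : G, g ∉ H → ¬ 3 ∣ Nat.card ↥(H ⊓ H.map (MulAut.conj g).toMonoidHom)) ∨
       (Nat.card P = 3 ∧ ∀ T : Sylow 2 (Subgroup.normalizer ((P : Subgroup G) : Set G)), Nat.card T ≤ 4) ∨
       (Nat.card P = 9 ∧ ∀ x ∈ (P : Subgroup G), x ^ 3 = 1) ∨
       (Nat.card P = 27 ∧ Cfsg.IsExtraspecial 3 (P : Subgroup G) ∧ ∀ x ∈ (P : Subgroup G), x ^ 3 = 1) ∨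
       (∃ T : Sylow 3 (Equiv.Perm (Fin 9)), Nonempty ((P : Subgroup G) ≃* (T : Subgroup (Equiv.Perm (Fin 9))))))) ∨
    (Nat.card (MulAction.stabilizer G a)).Coprime 6 := by
  have : Fact (Nat.Prime 3) := ⟨Nat.prime_three⟩
  have hG : commutator G = ⊤ := (Subgroup.Normal.eq_bot_or_eq_top inferInstance).resolve_left
    fun e => hna ⟨⟨fun a b => commutatorElement_eq_one_iff_mul_comm.1
      (e.le (commutator_mem_commutator (mem_top a) (mem_top b)))⟩⟩
  by_cases h1 : 1 ≤ f
  · obtain ⟨t, ht, htf⟩ := hf'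
    have h := good_of ht (Set.nonempty_coe_sort.1 (Nat.card_pos_iff.1 (by omega)).1) htf.le
      fun y hy => htf ▸ hf y hy
    have h4 : f ≤ 4 := htf ▸ hfix t fun e => by rw [e, orderOf_one] at ht; omega
    rcases red (sylowOf_top Nat.prime_two S) h with ⟨Δ, a, b, c, d⟩ | ⟨Δ, a⟩
    · exact Or.inl ⟨h1, sc_two S a (a.ne_top htrans (by omega)) b c d⟩
    rcases h4.lt_or_eq with h3 | rfl
    · exact Or.inr (Or.inl ⟨h1, by omega, gam_three S
        ⟨a.good.mono (by omega), a.ex, a.card.trans (by omega), a.ex'⟩⟩)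
    · exact Or.inr (Or.inr (Or.inl ⟨rfl, gam_four S a⟩))
  have ho : ∀ (g : G) (b : Ω), g • b = b → Odd (orderOf g) := fun g b hg => by
    by_contra c
    have h2 := hf _ (orderOf_pow_orderOf_div (orderOf_pos g).ne'
      (even_iff_two_dvd.1 (Nat.not_odd_iff_even.1 c)))
    have : Nonempty (MulAction.fixedBy Ω (g ^ (orderOf g / 2))) :=
      ⟨⟨b, (MulAction.stabilizer G b).pow_mem hg _⟩⟩
    have := Nat.card_pos (α := MulAction.fixedBy Ω (g ^ (orderOf g / 2)))
    omega
  have hodd : Odd (Nat.card (MulAction.stabilizer G a)) := by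
    by_contra c
    obtain ⟨y, hy⟩ := exists_prime_orderOf_dvd_card' 2 (even_iff_two_dvd.1 (Nat.not_odd_iff_even.1 c))
    have := ho y a y.2
    rw [orderOf_coe, hy] at this
    exact absurd this (by decide)
  by_cases h3 : 3 ∣ Nat.card (MulAction.stabilizer G a)
  swap
  · exact Or.inr (Or.inr (Or.inr (Or.inr (Nat.Coprime.mul_right (m := 2) (n := 3)
      (Nat.coprime_two_right.2 hodd) ((Nat.Prime.coprime_iff_not_dvd Nat.prime_three).2 h3).symm))))
  refine Or.inr (Or.inr (Or.inr (Or.inl ⟨hodd, h3, ?_⟩)))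
  obtain ⟨y, hy⟩ := exists_prime_orderOf_dvd_card' 3 h3
  rw [← orderOf_coe] at hy
  obtain ⟨x, hx, hm⟩ := Set.exists_max_image {g : G | orderOf g = 3}
    (fun g => Nat.card (MulAction.fixedBy Ω g)) (Set.toFinite _) ⟨y, hy⟩
  have h := good_of hx (by
    have : Nonempty (MulAction.fixedBy Ω (y : G)) := ⟨⟨a, y.2⟩⟩
    exact Set.nonempty_coe_sort.1 (Nat.card_pos_iff.1 (Nat.card_pos.trans_le (hm y hy))).1)
    (hfix x fun e => by rw [e, Set.mem_setOf, orderOf_one] at hx; omega) hm
  rcases red (sylowOf_top Nat.prime_three P) h with ⟨Δ, a, b, c, d⟩ | ⟨Δ, a⟩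
  · exact Or.inl ⟨_, a.ne_top htrans (by omega), sc_three hG P a ho b c d⟩
  · exact Or.inr (Or.inr ((gam3 hG P a ho).imp id fun e => Or.inr e))

end Cfsg.Agent.S3365
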