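import Cfsg.Statements.S3366
import Cfsg.Agent.OR.HyE

set_option autoImplicit false
open Cfsg

namespace Cfsg.Agent.S3366

open Subgroup H14 OR OR.Hy

local notation "EE" => H56.S43.E
local notation "K" => H56.S43.K

theorem le_K : Enc.grp EE cC ≤ K :=
  Enc.grp_le fun P hP => H56.S43.chain.inG_of_sift
    (allL_iff.1 (by decide +kernel : allL cC (valid 6 64 40) = true) P hP)
    (allL_iff.1 (by decide +kernel : allL cC (sift 6 64 40 H56.S43.certL) = true) P hP)

theorem ok_cent : allElts 6 64 40 (fun P => Bool.rec true (sift 6 64 40 chCL P)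
    (Nat.beq (comp 6 64 40 P (nthD cC (idP 6 40) 0)) (comp 6 64 40 (nthD cC (idP 6 40) 0) P)))
    H56.S43.certL (idP 6 40) = true := by decide +kernel

theorem exists_a : ∃ a : K, a ^ 3 = 1 ∧ a ≠ 1 ∧ centralizer {a} = (inclusion le_K).range := by
  let D := Code.ofHom EE chainC (inclusion le_K) (inclusion_injective le_K)
  obtain ⟨xs, H⟩ := D.exists_env cC (by decide +kernel)
  obtain ⟨a, b, c, d, v, t, rfl⟩ : ∃ a b c d v t, xs = [a, b, c, d, v, t] := by
    have := H.length_eq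
    match xs, this with
    | [a, b, c, d, v, t], _ => exact ⟨a, b, c, d, v, t, rfl⟩
  have ha := D.R_gt H 0
  refine ⟨a, (pow_three' a).trans ((D.eq_iff (D.mul (D.mul ha ha) ha) D.one).1 (by decide +kernel)),
    fun h => absurd ((D.eq_iff ha D.one).2 h) (by decide +kernel), le_antisymm (fun g hg => ?_)
    fun g hg => mem_centralizer_singleton_iff.2 (cA H g hg)⟩
  obtain ⟨m, h1, h2⟩ := ha
  have h3 := H56.S43.chain.forall_of_allElts ok_cent g g.2
  have h4 : (g : Equiv.Perm (Fin 40)) * m = m * g :=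
    congrArg Subtype.val (show g * inclusion le_K m = inclusion le_K m * g from h2.symm ▸ mem_centralizer_singleton_iff.1 hg)
  rw [← h1, ← Enc.pk_mul, ← Enc.pk_mul, h4, show Nat.beq _ _ = true from beq_iff.2 rfl] at h3
  exact ⟨⟨g, chainC.mem_iff_sift.2 h3⟩, rfl⟩


/-- Let X be a finite group with O₃(X) extraspecial of order 27 and exponent 3, X/O₃(X) isomorphic to SL(2,3), O₂(X) = 1, and a Sylow 3-subgroup of X containing an elementary abelian subgroup of order 27. Then X is isomorphic to the centralizer in PSp(4,3) of a 3-central element of order 3 (an element of order 3 in the centre of a Sylow 3-subgroup). -/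
theorem result {X : Type*} [Group X] [Finite X]
    (hR : Cfsg.IsExtraspecial 3 (Cfsg.pCore 3 X)) (hRcard : Nat.card (Cfsg.pCore 3 X) = 27)
    (hRexp : ∀ r ∈ Cfsg.pCore 3 X, r ^ 3 = 1)
    (e : X ⧸ Cfsg.pCore 3 X ≃* Matrix.SpecialLinearGroup (Fin 2) (ZMod 3))
    (hO2 : Cfsg.pCore 2 X = ⊥)
    (hE : ∃ E : Subgroup X, IsMulCommutative E ∧ (∀ a ∈ E, a ^ 3 = 1) ∧ Nat.card E = 27)
    (F : Type*) [Field F] [Fintype F] (hF : Fintype.card F = 3) :
    ∃ (c : Cfsg.PSp 2 F) (S : Sylow 3 (Cfsg.PSp 2 F)), orderOf c = 3 ∧ c ∈ (S : Subgroup (Cfsg.PSp 2 F)) ∧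
      c ∈ Subgroup.centralizer ((S : Subgroup (Cfsg.PSp 2 F)) : Set (Cfsg.PSp 2 F)) ∧
      Nonempty (X ≃* Subgroup.centralizer ({c} : Set (Cfsg.PSp 2 F))) := by
  have : Fact (Nat.Prime 3) := ⟨Nat.prime_three⟩
  have : Fact (Nat.Prime 2) := ⟨Nat.prime_two⟩
  obtain ⟨E, Ec, E3, E27⟩ := hE
  obtain ⟨a, b, c, d, v, t, R, -, -⟩ := exists_crel (pCore 3 X) hR hRcard (e.toMonoidHom.comp (QuotientGroup.mk' _))
    (e.surjective.comp (QuotientGroup.mk'_surjective _))
    (fun g => (map_eq_one_iff e e.injective).trans (QuotientGroup.eq_one_iff g)) (fun t t2 ht => by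
      have := H22.le_pCore (p := 2) (H8.normal_zpowers_of_central (mem_center_iff.2 ht))
        (H36.isPGroup_zpowers (k := 1) ((pow_two t).trans t2)) (mem_zpowers t)
      rwa [hO2, mem_bot] at this) E
    (fun x hx y hy => congrArg Subtype.val (Ec.is_comm.comm (⟨x, hx⟩ : E) ⟨y, hy⟩)) E3 E27
  obtain ⟨φ, hφ, -, -⟩ := R.emb
  have hX : Nat.card X = 648 := by
    rw [card_eq_card_quotient_mul_card_subgroup (pCore 3 X), hRcard, Nat.card_congr e.toEquiv, H9.card_sl_two,
      ZMod.card]; rfl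
  have hb := (Nat.bijective_iff_injective_and_card φ).2 ⟨hφ, cardC.trans hX.symm⟩
  obtain ⟨ψ⟩ := H56.S43.equiv hF
  obtain ⟨z, z3, z1, hz⟩ := exists_a
  have e1 : X ≃* centralizer {ψ.symm z} :=
    (MulEquiv.ofBijective φ hb).symm.trans ((MonoidHom.ofInjective (inclusion_injective le_K)).trans
      ((MulEquiv.subgroupCongr hz.symm).trans ((ψ.symm.subgroupMap _).trans (MulEquiv.subgroupCongr (by
        ext g
        simp only [mem_map, mem_centralizer_singleton_iff, MonoidHom.coe_coe]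
        refine ⟨?_, fun h => ⟨ψ g, ψ.symm.injective (by simpa using h), by simp⟩⟩
        rintro ⟨x, hx, rfl⟩
        rw [← map_mul, hx, map_mul])))))
  have o3 : orderOf (ψ.symm z) = 3 := (ψ.symm.orderOf_eq z).trans (orderOf_eq_prime z3 z1)
  have : Finite (PSp 2 F) := Finite.of_equiv _ ψ.symm.toEquiv
  generalize ψ.symm z = w at e1 o3
  have hw : w ∈ centralizer {w} := mem_centralizer_singleton_iff.2 rfl
  obtain ⟨Q, hQ⟩ := (H36.isPGroup_zpowers (x := (⟨w, hw⟩ : centralizer {w})) (k := 1)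
    (p := 3) (Subtype.ext (show w ^ 3 = 1 from orderOf_dvd_iff_pow_eq_one.1 o3.dvd))).exists_le_sylow
  have h1 := (centralizer {w}).card_mul_index
  rw [← Nat.card_congr e1.toEquiv, hX, Nat.card_congr ψ.toEquiv, H56.S43.card] at h1
  refine ⟨w, (Q.2.map (centralizer {w}).subtype).toSylow (by
    rw [index_map_subtype, show (centralizer {w}).index = 40 by omega]
    exact Nat.Prime.not_dvd_mul Nat.prime_three Q.not_dvd_index (by decide)), o3, ⟨_, hQ (mem_zpowers _), rfl⟩, ?_, ⟨e1⟩⟩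
  rintro _ ⟨x, -, rfl⟩
  exact mem_centralizer_singleton_iff.1 x.2

end Cfsg.Agent.S3366
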