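import Cfsg.Statements.S3390
import Cfsg.Agent.S3224
import Cfsg.Agent.H49.SylowOf
import Cfsg.Agent.H8.Dihedral

set_option autoImplicit false
open Cfsg

namespace Cfsg.Agent.S3390

open Subgroup MulAction Cfsg.Agent.H49
open scoped Pointwise

section

variable {G : Type*} [Group G] [Finite G] {Ω : Type*} [Fintype Ω] [MulAction G Ω]

omit [Finite G] in
theorem three (hfix : ∀ g : G, g ≠ 1 → Nat.card (fixedBy Ω g) ≤ 2) {g : G} (h1 : g ≠ 1) {a b c : Ω}
    (ha : g • a = a) (hb : g • b = b) (hab : a ≠ b) (hc : g • c = c) : c = a ∨ c = b := by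
  classical
  by_contra! hne
  have h2 : ({a, b, c} : Set Ω) ⊆ fixedBy Ω g := by
    rintro _ (rfl | rfl | rfl) <;> assumption
  have h3 := Set.ncard_le_ncard h2
  rw [Set.ncard_eq_three.2 ⟨a, b, c, hab, hne.1.symm, hne.2.symm, rfl⟩] at h3
  have := hfix g h1
  rw [Nat.card_coe_set_eq] at this
  omega

/-- An element of `S` that normalizes the stabilizer and moves the point. -/
theorem exists_u (hfix : ∀ g : G, g ≠ 1 → Nat.card (fixedBy Ω g) ≤ 2) (S : Sylow 2 G) {ω : Ω}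
    (h : ¬ (S : Subgroup G) ≤ stabilizer G ω) : ∃ u ∈ (S : Subgroup G),
      u ∈ 𝒩((S : Subgroup G) ⊓ stabilizer G ω) ∧ u • ω ≠ ω ∧
      (∀ x ∈ (S : Subgroup G), x • ω = ω → x • u • ω = u • ω) ∧
      ∀ g ∈ (S : Subgroup G), ∀ x ∈ (S : Subgroup G), x ≠ 1 → x • ω = ω → (g * x * g⁻¹) • ω = ω →
        g • ω = ω ∨ (u⁻¹ * g) • ω = ω := by
  have : Fact (Nat.Prime 2) := ⟨Nat.prime_two⟩
  obtain ⟨u, ⟨h1, h2⟩, h3⟩ := SetLike.exists_of_lt (lt_inf_norm_of_nilpotent
    S.isPGroup'.isNilpotent (lt_of_le_of_ne (inf_le_left : (S : Subgroup G) ⊓ stabilizer G ω ≤ S)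
      fun e => h (inf_eq_left.1 e)))
  have h4 : u • ω ≠ ω := fun e => h3 ⟨h1, e⟩
  have h5 : ∀ x ∈ (S : Subgroup G), x • ω = ω → x • u • ω = u • ω := fun x hx e => by
    have : (u⁻¹ * x * u) • ω = ω := (conj_mem_of_norm' le_rfl h2 (mem_inf.2 ⟨hx, e⟩)).2
    rwa [mul_smul, mul_smul, inv_smul_eq_iff] at this
  refine ⟨u, h1, h2, h4, h5, fun g hg x hx x1 e e' => ?_⟩
  rcases three hfix (g := g * x * g⁻¹) (fun e0 => x1 (conj_eq_one_iff.1 e0)) e'
    (h5 _ (mul_mem (mul_mem hg hx) (inv_mem hg)) e') h4.symm (c := g • ω)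
    (by rw [mul_smul, inv_smul_smul, mul_smul, e]) with h6 | h6
  · exact .inl h6
  · exact .inr (by rw [mul_smul, h6, inv_smul_smul])

theorem dih (hfix : ∀ g : G, g ≠ 1 → Nat.card (fixedBy Ω g) ≤ 2) (S : Sylow 2 G) {ω : Ω}
    (h : ¬ (S : Subgroup G) ≤ stabilizer G ω) {t s : G} (ht : t ∈ (S : Subgroup G)) (t1 : t ≠ 1)
    (tω : t • ω = ω) (hu : ∀ x ∈ (S : Subgroup G), x • ω = ω → x = 1 ∨ x = t)
    (hs : s ∈ (S : Subgroup G)) (s1 : s ≠ 1) (s2 : s * s = 1) (st : s ≠ t) :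
    (∃ n : ℕ, Nonempty (↥(S : Subgroup G) ≃* DihedralGroup n)) ∨
      Cfsg.IsQuasiDihedral ↥(S : Subgroup G) := by
  classical
  obtain ⟨u, h1, h2, h3, -, h5⟩ := exists_u hfix S h
  have t2 : t * t = 1 := (hu _ (mul_mem ht ht) (by rw [mul_smul, tω, tω])).resolve_right
    fun e => t1 (by simpa using e)
  have ut : u * t = t * u := by
    have h6 := conj_mem_of_norm le_rfl h2 (mem_inf.2 ⟨ht, tω⟩)
    rcases hu _ h6.1 h6.2 with e | e
    · exact absurd (conj_eq_one_iff.1 e) t1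
    · exact mul_inv_eq_iff_eq_mul.1 e
  have hC : Nat.card (centralizer ({⟨t, ht⟩} : Set (S : Subgroup G))) = 4 := by
    have e : (centralizer ({⟨t, ht⟩} : Set (S : Subgroup G)) : Set (S : Subgroup G)) =
        {1, ⟨t, ht⟩, ⟨u, h1⟩, ⟨u, h1⟩ * ⟨t, ht⟩} := by
      ext ⟨g, hg⟩
      simp only [SetLike.mem_coe, mem_centralizer_singleton_iff, Set.mem_insert_iff,
        Set.mem_singleton_iff, Subtype.ext_iff, coe_mul, coe_one]
      refine ⟨fun e => ?_, ?_⟩
      · rcases h5 g hg t ht t1 tω (by rw [e, mul_inv_cancel_right, tω]) with h6 | h6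
        · exact (hu g hg h6).imp_right .inl
        · rcases hu _ (mul_mem (inv_mem h1) hg) h6 with h7 | h7
          · exact .inr (.inr (.inl (inv_mul_eq_one.1 h7).symm))
          · exact .inr (.inr (.inr (inv_mul_eq_iff_eq_mul.1 h7)))
      · rintro (rfl | rfl | rfl | rfl)
        · simp
        · rfl
        · exact ut
        · rw [← mul_assoc t, ← ut]
    have u1 : u ≠ 1 := fun e => h3 (by rw [e, one_smul])
    have u2 : u ≠ t := fun e => h3 (by rw [e, tω])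
    have u3 : u * t ≠ 1 := fun e => u2 (by
      rw [eq_inv_of_mul_eq_one_left e, inv_eq_of_mul_eq_one_left t2])
    rw [← SetLike.coe_sort_coe, Nat.card_coe_set_eq, e]
    refine Set.ncard_eq_four.2 ⟨_, _, _, _, ?_, ?_, ?_, ?_, ?_, ?_, rfl⟩ <;>
      simp [Subtype.ext_iff, t1.symm, u1.symm, u2.symm, u3.symm, u1, t1]
  have : Fact (Nat.Prime 2) := ⟨Nat.prime_two⟩
  rcases S3224.result S.isPGroup' ⟨t, ht⟩ (orderOf_eq_prime (Subtype.ext (by
    simpa [pow_two] using t2)) fun e => t1 (congrArg Subtype.val e)) hC with h6 | h6 | h6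
  · exact .inl h6
  · exact .inr h6
  have hn : ¬ IsCyclic (S : Subgroup G) := fun hc => by
    have := Fintype.ofFinite (S : Subgroup G)
    have h7 := IsCyclic.card_pow_eq_one_le (α := (S : Subgroup G)) (n := 2) two_pos
    have h8 : ({1, ⟨s, hs⟩, ⟨t, ht⟩} : Finset (S : Subgroup G)) ⊆
        Finset.univ.filter fun a => a ^ 2 = 1 := by
      intro a ha
      simp only [Finset.mem_insert, Finset.mem_singleton] at ha
      rcases ha with rfl | rfl | rfl <;> simp [Subtype.ext_iff, pow_two, s2, t2]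
    have h9 := Finset.card_le_card h8
    rw [Finset.card_eq_three.2 ⟨_, _, _, by simp [Subtype.ext_iff, s1.symm],
      by simp [Subtype.ext_iff, t1.symm], by simp [Subtype.ext_iff, st], rfl⟩] at h9
    omega
  have : IsKleinFour (S : Subgroup G) :=
    ⟨h6, (not_isCyclic_iff_exponent_eq_prime Nat.prime_two h6).1 hn⟩
  exact .inl ⟨2, IsKleinFour.nonempty_mulEquiv⟩

theorem exists_invol {S : Subgroup G} (hS : IsPGroup 2 S) {A : Subgroup G} (hA : A ≤ S)
    (h : A ≠ ⊥) : ∃ s ∈ A, s ≠ 1 ∧ s * s = 1 := by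
  have : Fact (Nat.Prime 2) := ⟨Nat.prime_two⟩
  have := (nontrivial_iff_ne_bot _).2 h
  obtain ⟨k, hk, e⟩ := (hS.to_le hA).nontrivial_iff_card.1 this
  obtain ⟨z, hz, ho⟩ := H8.exists_involution_of_even A
    (by rw [e]; exact (Nat.even_pow' hk.ne').2 even_two)
  exact ⟨z, hz, H8.ne_one_of_orderOf_two ho, H8.mul_self_of_orderOf_two ho⟩

omit [Fintype Ω] in
/-- The subgroup of index two. -/
theorem exists_N (S : Sylow 2 G) {A : Subgroup G} (hi : A.relIndex S = 2)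
    (hA : ∀ s ∈ (S : Subgroup G), s ∈ A ↔ ∃ ω : Ω, s • ω = ω) : ∃ N : Subgroup G, N.Normal ∧
      N.index = 2 ∧ (∀ s ∈ (S : Subgroup G), s ∈ N → s ∈ A) ∧ ∀ (g : G) (ω : Ω), g • ω = ω → g ∈ N := by
  have : Fact (Nat.Prime 2) := ⟨Nat.prime_two⟩
  have := normal_of_index_eq_two hi
  have hf : (S : Subgroup G).focalSubgroupOf ≤ (A.subgroupOf S).comap (MonoidHom.id _) := by
    rw [focalSubgroupOf_eq_closure, closure_le]
    rintro y ⟨x, hx, g, e⟩
    have h1 : y = ⟨x, hx⟩ * (⟨x, hx⟩⁻¹ * y) := by group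
    change y ∈ A.subgroupOf S
    rw [h1, mul_mem_iff_of_index_two hi, mem_subgroupOf, mem_subgroupOf, hA _ hx,
      hA _ (Subtype.prop _)]
    have h2 : ((⟨x, hx⟩⁻¹ * y : (S : Subgroup G)) : G) = g * x⁻¹ * g⁻¹ := by
      simp only [coe_mul, coe_inv, e, commutatorElement_def]; group
    rw [h2]
    exact ⟨fun ⟨ω, h⟩ => ⟨g • ω, by rw [mul_smul, inv_smul_smul, mul_smul, inv_smul_eq_iff.2 h.symm]⟩,
      fun ⟨ω, h⟩ => ⟨g⁻¹ • ω, by
        rw [mul_smul, mul_smul, smul_eq_iff_eq_inv_smul, inv_smul_eq_iff] at h; exact h.symm⟩⟩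
  let φ : G →* (S : Subgroup G) ⧸ A.subgroupOf S :=
    (QuotientGroup.map _ _ (MonoidHom.id _) hf).comp (S : Subgroup G).transferFocal
  have sq : ∀ q : (S : Subgroup G) ⧸ A.subgroupOf S, ∀ m, Odd m → q ^ m = q := by
    rintro q _ ⟨k, rfl⟩
    have : q ^ 2 = 1 := (congrArg (q ^ ·) hi).symm.trans pow_card_eq_one'
    rw [pow_succ, pow_mul, this, one_pow, one_mul]
  have hφ : ∀ s : (S : Subgroup G), φ s = s := fun s => by
    change QuotientGroup.map _ _ _ hf _ = _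
    rw [transferFocal_eq_pow, map_pow, sq _ _ (Nat.odd_iff.2 (by have := S.not_dvd_index; omega))]
    rfl
  have hs : Function.Surjective φ := fun q => by
    obtain ⟨s, rfl⟩ := QuotientGroup.mk_surjective q
    exact ⟨s, hφ s⟩
  refine ⟨φ.ker, inferInstance, ?_, fun s h1 h2 => ?_, fun g ω h => ?_⟩
  · rw [index_ker, MonoidHom.range_eq_top.2 hs, card_top]; exact hi
  · have := hφ ⟨s, h1⟩
    rw [show φ (⟨s, h1⟩ : (S : Subgroup G)) = 1 from h2, eq_comm, QuotientGroup.eq_one_iff] at this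
    exact this
  · obtain ⟨k, m, hm, e⟩ := Nat.exists_eq_two_pow_mul_odd (orderOf_pos g).ne'
    have hp : IsPGroup 2 (zpowers (g ^ m)) := by
      obtain ⟨j, -, hj⟩ := (Nat.dvd_prime_pow Nat.prime_two).1 (orderOf_dvd_of_pow_eq_one
        (show (g ^ m) ^ 2 ^ k = 1 by rw [← pow_mul, mul_comm, ← e, pow_orderOf_eq_one]))
      exact IsPGroup.of_card (by rw [Nat.card_zpowers, hj])
    obtain ⟨Q, hQ⟩ := hp.exists_le_sylow
    obtain ⟨c, hc⟩ := MulAction.exists_smul_eq G Q S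
    have h1 : c * g ^ m * c⁻¹ ∈ (S : Subgroup G) := by
      rw [← hc]; exact smul_mem_pointwise_smul _ (MulAut.conj c) _ (hQ (mem_zpowers _))
    have h2 := hφ ⟨_, h1⟩
    rw [(QuotientGroup.eq_one_iff _).2 (mem_subgroupOf.2 ((hA _ h1).2 ⟨c • ω, by
      rw [mul_smul, inv_smul_smul, mul_smul, (stabilizer G ω).pow_mem h m]⟩))] at h2
    simp only [map_mul, map_inv, conj_eq_one_iff, map_pow, sq _ _ hm] at h2
    exact h2

theorem frob (hfix : ∀ g : G, g ≠ 1 → Nat.card (fixedBy Ω g) ≤ 2) (S : Sylow 2 G) {N : Subgroup G}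
    [N.Normal] (hN : ∀ (g : G) (ω : Ω), g • ω = ω → g ∈ N) {α : Ω} {u : G} (hu : u ∉ N)
    (hS : ∀ s ∈ (S : Subgroup G), s ≠ 1 → ∀ ω : Ω, s • ω = ω → ω = α ∨ ω = u • α) {g n : G}
    (hg : g ∈ N) (gα : g • α ≠ α) (h1 : n • α = α) (h2 : n • g • α = g • α) : n = 1 := by
  by_contra n1
  obtain ⟨r, hr, hd⟩ := Nat.exists_prime_and_dvd (fun e => n1 (orderOf_eq_one_iff.1 e))
  have : Fact r.Prime := ⟨hr⟩
  obtain ⟨x, hx, xo⟩ := exists_prime_orderOf_dvd_card' (G := zpowers n) r (by rwa [Nat.card_zpowers])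
    |>.imp fun x (h : orderOf x = r) => And.intro x.2 ((orderOf_coe x).trans h)
  have x1 : (x : G) • α = α := zpowers_le (H := stabilizer G α) |>.2 h1 hx
  have x2 : (x : G) • g • α = g • α := zpowers_le (H := stabilizer G (g • α)) |>.2 h2 hx
  generalize (x : G) = y at xo x1 x2
  have y1 : y ≠ 1 := fun e => hr.ne_one (by rw [← xo, e, orderOf_one])
  have out : ∀ a ∈ N, ∀ b ∈ N, a • α ≠ u • b • α := fun a ha b hb e => hu (by
    have := hN ((u * b)⁻¹ * a) α (by rw [mul_smul, e, ← mul_smul u, inv_smul_smul])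
    simpa using mul_mem (mul_mem ha (inv_mem this)) (inv_mem hb))
  have pg : ∀ z : N, orderOf (z : G) = r → IsPGroup r (zpowers z) := fun z hz =>
    IsPGroup.of_card (n := 1) (by rw [Nat.card_zpowers, ← orderOf_coe, hz, pow_one])
  have r2 : r = 2 := by
    have yN := hN y α x1
    have y' : u * y * u⁻¹ ∈ N := ‹N.Normal›.conj_mem y yN u
    have d1 : r ∣ Nat.card (orbit N α) := by
      by_contra hd
      obtain ⟨⟨_, ⟨a, rfl⟩⟩, ha⟩ := (pg ⟨_, y'⟩ (by
        rw [← xo]; exact H8.orderOf_conj' _ _)).nonempty_fixed_point_of_prime_not_dvd_card _ hd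
      have h3 : (u * y * u⁻¹) • (a : G) • α = (a : G) • α :=
        congrArg Subtype.val (ha ⟨_, mem_zpowers _⟩)
      rcases three hfix (fun e => y1 (conj_eq_one_iff.1 e)) (a := u • α) (b := u • g • α)
        (by rw [mul_smul, inv_smul_smul, mul_smul, x1]) (by rw [mul_smul, inv_smul_smul, mul_smul, x2])
        (fun e => gα (smul_left_cancel u e).symm) h3 with e | e
      · exact out a a.2 1 (one_mem _) (by rwa [one_smul])
      · exact out a a.2 g hg e
    have d2 := ((pg ⟨y, yN⟩ xo).card_modEq_card_fixedPoints (orbit N α)).dvd_iff dvd_rfl |>.1 d1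
    have d3 : Nat.card (fixedPoints (zpowers (⟨y, yN⟩ : N)) (orbit N α)) ≤ 2 :=
      le_trans (Nat.card_le_card_of_injective (fun p => (⟨p.1.1, congrArg Subtype.val
        (p.2 ⟨_, mem_zpowers _⟩)⟩ : fixedBy Ω y)) fun p q e =>
          Subtype.ext (Subtype.ext (congrArg (fun z : fixedBy Ω y => z.1) e))) (hfix y y1)
    have : Nonempty (fixedPoints (zpowers (⟨y, yN⟩ : N)) (orbit N α)) :=
      ⟨⟨⟨α, mem_orbit_self α⟩, fun z => Subtype.ext
        (zpowers_le (H := stabilizer N α) |>.2 x1 z.2)⟩⟩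
    exact le_antisymm ((Nat.le_of_dvd Nat.card_pos d2).trans d3) hr.two_le
  subst r2
  obtain ⟨Q, hQ⟩ := (IsPGroup.of_card (p := 2) (G := zpowers y) (n := 1) (by
    rw [Nat.card_zpowers, xo, pow_one])).exists_le_sylow
  obtain ⟨c, hc⟩ := MulAction.exists_smul_eq G Q S
  have h3 : c * y * c⁻¹ ∈ (S : Subgroup G) := by
    rw [← hc]; exact smul_mem_pointwise_smul _ (MulAut.conj c) _ (hQ (mem_zpowers _))
  have h4 := hS _ h3 fun e => y1 (conj_eq_one_iff.1 e)
  have g' : c * g * c⁻¹ ∈ N := ‹N.Normal›.conj_mem g hg c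
  have e0 : c • g • α = (c * g * c⁻¹) • c • α := by rw [mul_smul, inv_smul_smul, mul_smul]
  rcases h4 (c • α) (by rw [mul_smul, inv_smul_smul, mul_smul, x1]) with e | e <;>
    rcases h4 (c • g • α) (by rw [mul_smul, inv_smul_smul, mul_smul, x2]) with e' | e'
  · exact gα (smul_left_cancel c (e'.trans e.symm))
  · exact out _ g' 1 (one_mem _) (by rw [one_smul, ← e', e0, e])
  · exact out _ (inv_mem g') 1 (one_mem _) (by
      rw [one_smul, inv_smul_eq_iff, ← e, ← e0, e'])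
  · exact gα (smul_left_cancel c (e'.trans e.symm))

end

/-- Let G be a finite group acting faithfully and transitively on a finite set Ω with fixity 2 (every non-identity element fixes at most two points, and some fixes exactly two). Let α ∈ Ω and S a Sylow 2-subgroup of G. Then one of the following holds: the stabilizer S_α of α in S is trivial; S is dihedral or semidihedral and either |S_α| = 2 or |S : S_α| = 2; |S| ≥ 4, S has exactly one orbit of size 2 on Ω, every other S-orbit is regular, and G has a normal subgroup of index 2 or of index |S| which is a Frobenius group; or S ≤ G_α. -/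
theorem result {G : Type*} [Group G] [Finite G] {Ω : Type*} [Fintype Ω] [MulAction G Ω] [FaithfulSMul G Ω] (htr : MulAction.IsPretransitive G Ω)
    (hfix : ∀ g : G, g ≠ 1 → Nat.card (MulAction.fixedBy Ω g) ≤ 2) (hex : ∃ g : G, g ≠ 1 ∧ Nat.card (MulAction.fixedBy Ω g) = 2) (α : Ω) (S : Sylow 2 G) :
    (S : Subgroup G) ⊓ MulAction.stabilizer G α = ⊥ ∨
    (((∃ n : ℕ, Nonempty (↥(S : Subgroup G) ≃* DihedralGroup n)) ∨ Cfsg.IsQuasiDihedral ↥(S : Subgroup G)) ∧
       (Nat.card ↥((S : Subgroup G) ⊓ MulAction.stabilizer G α) = 2 ∨ ((S : Subgroup G) ⊓ MulAction.stabilizer G α).relIndex (S : Subgroup G) = 2)) ∨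
    (4 ≤ Nat.card (S : Subgroup G) ∧
       (∃ ω : Ω, Nat.card (MulAction.orbit ↥(S : Subgroup G) ω) = 2 ∧
          ∀ ω' : Ω, ω' ∉ MulAction.orbit ↥(S : Subgroup G) ω → Nat.card (MulAction.orbit ↥(S : Subgroup G) ω') = Nat.card (S : Subgroup G)) ∧
       ∃ N : Subgroup G, N.Normal ∧ (N.index = 2 ∨ N.index = Nat.card (S : Subgroup G)) ∧ (∃ H : Subgroup ↥N, Cfsg.IsFrobeniusComplement H)) ∨
    (S : Subgroup G) ≤ MulAction.stabilizer G α := by
  classical
  have : Fact (Nat.Prime 2) := ⟨Nat.prime_two⟩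
  refine or_iff_not_imp_left.2 fun hb => ?_
  by_cases hle : (S : Subgroup G) ≤ stabilizer G α
  · exact .inr (.inr hle)
  obtain ⟨u, u1, u2, u3, u4, u5⟩ := exists_u hfix S hle
  obtain ⟨s, ⟨sS, sα⟩, s1, s2⟩ := exists_invol S.isPGroup' inf_le_left hb
  set A := (S : Subgroup G) ⊓ stabilizer G α with hA
  by_cases hT : (S : Subgroup G) ≤ 𝒩(A); swap
  · obtain ⟨v, ⟨v1, v2⟩, v3⟩ := SetLike.exists_of_lt (lt_inf_norm_of_nilpotent
      S.isPGroup'.isNilpotent (lt_of_le_of_ne (inf_le_left : (S : Subgroup G) ⊓ 𝒩(A) ≤ S)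
        fun e => hT (inf_eq_left.1 e)))
    have h1 : ∀ x ∈ A, (v * x * v⁻¹) • α = α → x = 1 := fun x hx e => by
      by_contra x1
      rcases u5 v v1 x hx.1 x1 hx.2 e with h | h
      · exact v3 ⟨v1, le_normalizer (mem_inf.2 ⟨v1, h⟩)⟩
      · refine v3 ⟨v1, ?_⟩
        simpa using mul_mem u2 (le_normalizer (H := A) (mem_inf.2 ⟨mul_mem (inv_mem u1) v1, h⟩))
    have h2 : ∀ x ∈ A, x ≠ 1 → (u⁻¹ * (v * x * v⁻¹)) • α = α := fun x hx x1 => by
      have h3 := conj_mem_of_norm le_rfl v2 (mem_inf.2 ⟨hx.1, le_normalizer hx⟩)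
      exact (u5 _ h3.1 s sS s1 sα (conj_mem_of_norm le_rfl h3.2 (mem_inf.2 ⟨sS, sα⟩)).2).resolve_left
        fun e => x1 (h1 x hx e)
    have h3 : ∀ x ∈ (S : Subgroup G), x • α = α → x = 1 ∨ x = s := fun x hx e => by
      refine or_iff_not_imp_left.2 fun x1 => (inv_mul_eq_one.1 (h1 _ (mul_mem (inv_mem
        (mem_inf.2 ⟨sS, sα⟩)) ⟨hx, e⟩) ?_)).symm
      have := (stabilizer G α).mul_mem ((stabilizer G α).inv_mem (h2 s ⟨sS, sα⟩ s1)) (h2 x ⟨hx, e⟩ x1)
      rwa [show (u⁻¹ * (v * s * v⁻¹))⁻¹ * (u⁻¹ * (v * x * v⁻¹)) = v * (s⁻¹ * x) * v⁻¹ by group]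
        at this
    refine .inl ⟨dih hfix S hle sS s1 sα h3 (mul_mem (mul_mem v1 sS) (inv_mem v1))
      (fun e => s1 (conj_eq_one_iff.1 e)) (by rw [conj_mul, s2, mul_one, mul_inv_cancel])
      (fun e => s1 (h1 s ⟨sS, sα⟩ (by rw [e, sα]))), .inl ?_⟩
    rw [show A = zpowers s from le_antisymm (fun x hx => by
      rcases h3 x hx.1 hx.2 with rfl | rfl <;> simp) (zpowers_le.2 ⟨sS, sα⟩), Nat.card_zpowers,
      H8.orderOf_two_of s2 s1]
  have h1 : ∀ g ∈ (S : Subgroup G), g • α = α ∨ g • α = u • α := fun g hg =>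
    (u5 g hg s sS s1 sα (conj_mem_of_norm hT hg (mem_inf.2 ⟨sS, sα⟩)).2).imp_right fun e => by
      rwa [mul_smul, inv_smul_eq_iff] at e
  have ho : orbit (S : Subgroup G) α = {α, u • α} := by
    refine le_antisymm (by rintro _ ⟨g, rfl⟩; exact h1 g g.2) ?_
    rintro _ (rfl | rfl)
    exacts [mem_orbit_self _, ⟨⟨u, u1⟩, rfl⟩]
  have hc : Nat.card (orbit (S : Subgroup G) α) = 2 := by
    rw [ho, Nat.card_coe_set_eq, Set.ncard_pair u3.symm]
  have idx : ∀ ω : Ω, ((S : Subgroup G) ⊓ stabilizer G ω).relIndex S =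
      Nat.card (orbit (S : Subgroup G) ω) := fun ω => by
    rw [inf_relIndex_left, Nat.card_coe_set_eq, ← index_stabilizer]; rfl
  have hi : A.relIndex S = 2 := (idx α).trans hc
  by_cases hω : ∃ ω : Ω, ω ≠ α ∧ ω ≠ u • α ∧ (S : Subgroup G) ⊓ stabilizer G ω ≠ ⊥
  · obtain ⟨ω, ω1, ω2, ω3⟩ := hω
    obtain ⟨t, ⟨tS, tω⟩, t1, -⟩ := exists_invol S.isPGroup' inf_le_left ω3
    have h2 : ∀ x ∈ (S : Subgroup G), x • ω = ω → x • α = α → x = 1 := fun x hx e e' => by
      by_contra x1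
      exact (three hfix x1 e' (u4 x hx e') u3.symm e).elim ω1 ω2
    refine .inl ⟨dih hfix S (fun e => s1 (h2 s sS (e sS) sα)) tS t1 tω (fun x hx e => ?_) sS s1 s2
      (fun e => s1 (h2 s sS (e ▸ tω) sα)), .inr hi⟩
    refine or_iff_not_imp_left.2 fun x1 => (inv_mul_eq_one.1 (h2 _ (mul_mem (inv_mem tS) hx)
      ((stabilizer G ω).mul_mem ((stabilizer G ω).inv_mem tω) e) ?_)).symm
    rw [mul_smul, inv_smul_eq_iff, (h1 x hx).resolve_left fun e' => x1 (h2 x hx e e'),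
      (h1 t tS).resolve_left fun e' => t1 (h2 t tS tω e')]
  push Not at hω
  have hS : ∀ x ∈ (S : Subgroup G), x ≠ 1 → ∀ ω : Ω, x • ω = ω → ω = α ∨ ω = u • α :=
    fun x hx x1 ω e => by
      by_contra! hne
      exact x1 (mem_bot.1 (hω ω hne.1 hne.2 ▸ mem_inf.2 ⟨hx, e⟩))
  obtain ⟨N, hN, N2, N3, N4⟩ := exists_N (Ω := Ω) S hi fun x hx => ⟨fun h => ⟨α, h.2⟩, by
    rintro ⟨ω, e⟩
    by_cases x1 : x = 1
    · rw [x1]; exact one_mem _
    rcases hS x hx x1 ω e with rfl | rfl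
    · exact ⟨hx, e⟩
    · have : u⁻¹ * x * u ∈ A := mem_inf.2 ⟨mul_mem (mul_mem (inv_mem u1) hx) u1, by
        rw [mem_stabilizer_iff, mul_smul, mul_smul, e, inv_smul_smul]⟩
      simpa [mul_assoc] using conj_mem_of_norm le_rfl u2 this⟩
  refine .inr (.inl ⟨?_, ⟨α, hc, fun ω h => ?_⟩, N, hN, .inl N2, (stabilizer G α).subgroupOf N,
    fun e => s1 ?_, fun e => s1 ?_, fun g hg => ?_⟩)
  · have h2 := (A.subgroupOf S).card_mul_index
    have : Nontrivial (A.subgroupOf S) := ⟨⟨⟨⟨s, sS⟩, ⟨sS, sα⟩⟩, 1, fun e =>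
      s1 (congrArg (fun x : A.subgroupOf S => x.1.1) e)⟩⟩
    have h3 : 1 < Nat.card (A.subgroupOf S) := Finite.one_lt_card
    rw [show (A.subgroupOf S).index = 2 from hi] at h2
    omega
  · rw [ho] at h
    rw [← idx, hω ω (fun e => h (.inl e)) fun e => h (.inr e), relIndex_bot_left]
  · have : (⟨s, N4 s α sα⟩ : N) ∈ (stabilizer G α).subgroupOf N := sα
    rw [e, mem_bot] at this
    exact congrArg (fun x : N => x.1) this
  · refine FaithfulSMul.eq_of_smul_eq_smul (α := Ω) fun ω => ?_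
    obtain ⟨c, rfl⟩ := htr.exists_smul_eq α ω
    have : (⟨_, hN.conj_mem' s (N4 s α sα) c⟩ : N) ∈ (stabilizer G α).subgroupOf N := e ▸ mem_top _
    rw [one_smul, ← inv_smul_eq_iff, ← mul_smul, ← mul_smul]
    exact this
  · refine eq_bot_iff.2 fun n hn => Subtype.ext (frob hfix S N4 (fun e => u3 (N3 u u1 e).2) hS g.2
      hg hn.1 ?_)
    have : ((g : G)⁻¹ * n * g) • α = α := mem_pointwise_smul_iff_inv_smul_mem.1 hn.2
    rwa [mul_smul, mul_smul, inv_smul_eq_iff] at this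

end Cfsg.Agent.S3390
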