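import Cfsg.Statements.S3396
import Cfsg.Agent.H25.CITStruct
import Cfsg.Agent.H9.Transport
-- import your own Cfsg.Agent.* helpers here

set_option autoImplicit false
open Cfsg

namespace Cfsg.Agent.S3396

/-- Let G be a finite group whose order has at least three distinct prime divisors, and suppose every nonidentity element of G has order a power of 2 or a prime other than 5. Then G is isomorphic to PSL₂(7) (here F is any field with 7 elements). In particular a finite group whose set of element orders is {1, 2, 3, 4, 7} is PSL₂(7). -/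
theorem result {G : Type*} [Group G] [Finite G]
    {F : Type*} [Field F] [Fintype F] (hF : Fintype.card F = 7)
    (h3 : 3 ≤ (Nat.card G).primeFactors.card)
    (hord : ∀ g : G, g ≠ 1 → (∃ k : ℕ, orderOf g = 2 ^ k) ∨ ((orderOf g).Prime ∧ orderOf g ≠ 5)) :
    Nonempty (G ≃* Matrix.ProjectiveSpecialLinearGroup (Fin 2) F) := by
  have hE : H81.Eppo G := H81.eppo_of_isPrimePow fun g hg => by
    rcases hord g hg with ⟨k, hk⟩ | ⟨hp, -⟩
    · refine ⟨2, k, Nat.prime_two.prime, Nat.pos_of_ne_zero ?_, hk.symm⟩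
      rintro rfl
      exact hg (orderOf_eq_one_iff.1 hk)
    · exact hp.isPrimePow
  have h59 : ∀ {X : Type} [Group X] (N : Subgroup G) [N.Normal] (_ : G ⧸ N ≃* X) (x : X),
      ¬ 5 ∣ orderOf x ∧ ¬ 9 ∣ orderOf x := by
    intro X _ N _ e x
    obtain ⟨y, rfl⟩ := e.surjective x
    obtain ⟨g, rfl⟩ := QuotientGroup.mk'_surjective N y
    rw [e.orderOf_eq]
    have hd := orderOf_map_dvd (QuotientGroup.mk' N) g
    by_cases hg : g = 1
    · subst hg; simp
    rcases hord g hg with ⟨k, hk⟩ | ⟨hp, h5⟩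
    · rw [hk] at hd
      refine ⟨fun h => ?_, fun h => ?_⟩
      · have := Nat.prime_five.dvd_of_dvd_pow (h.trans hd); omega
      · have := Nat.prime_three.dvd_of_dvd_pow (((by norm_num : 3 ∣ 9).trans h).trans hd); omega
    · refine ⟨fun h => h5 ((Nat.prime_dvd_prime_iff_eq Nat.prime_five hp).1 (h.trans hd)).symm,
        fun h => ?_⟩
      rcases (Nat.dvd_prime hp).1 (h.trans hd) with h | h
      · omega
      · rw [← h] at hp; norm_num at hp
  have h5 : ¬ 5 ∣ Nat.card G := fun h => by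
    have := Fact.mk Nat.prime_five
    obtain ⟨g, hg⟩ := exists_prime_orderOf_dvd_card' 5 h
    rcases hord g (by rintro rfl; simp at hg) with ⟨k, hk⟩ | ⟨-, h5⟩
    · have := Nat.prime_five.dvd_of_dvd_pow (show 5 ∣ 2 ^ k by rw [← hk, hg]); omega
    · exact h5 hg
  have hs : ¬ Group.IsSolvable G := fun hs => by
    obtain ⟨p, q, r, hp, hq, hr, hpq, hpr, hqr⟩ :=
      Finset.two_lt_card_iff.1 (show 2 < (Nat.card G).primeFactors.card by omega)
    rw [Nat.mem_primeFactors] at hp hq hr
    exact hE.not_three_primes hs hp.1 hq.1 hr.1 hpq hpr hqr hp.2.1 hq.2.1 hr.2.1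
  have hC := H25.cit_of_eppo hE
  have hpsl : ∀ (N : Subgroup G) [N.Normal] (K : Type) [Field K] [Fintype K],
      (G ⧸ N ≃* Matrix.ProjectiveSpecialLinearGroup (Fin 2) K) →
      Fintype.card K ≠ 4 ∧ Fintype.card K ≠ 8 ∧ Fintype.card K ≠ 17 := by
    intro N _ K _ _ e
    refine ⟨fun h => ?_, fun h => ?_, fun h => ?_⟩
    · obtain ⟨g, hg⟩ := H25.exists_orderOf_psl2 (F := K) (m := 5) (by omega) (by rw [h]; norm_num)
      exact (h59 N e g).1 hg.symm.dvd
    · obtain ⟨g, hg⟩ := H25.exists_orderOf_psl2 (F := K) (m := 9) (by omega) (by rw [h]; norm_num)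
      exact (h59 N e g).2 hg.symm.dvd
    · obtain ⟨g, hg⟩ := H25.exists_orderOf_psl2 (F := K) (m := 9) (by omega) (by rw [h]; norm_num)
      exact (h59 N e g).2 hg.symm.dvd
  have hsz : ∀ (N : Subgroup G) [N.Normal], ¬ Cfsg.Lie.IsoSuzuki (G ⧸ N) := by
    rintro N _ ⟨K, _, _, m, hm, hK, ⟨e⟩⟩
    rcases H25.five_dvd_np_or_nm m with h | h
    · obtain ⟨g, hg⟩ := H25.exists_orderOf_sz hm hK (Or.inl rfl)
      exact (h59 N e g).1 (hg ▸ h)
    · obtain ⟨g, hg⟩ := H25.exists_orderOf_sz hm hK (Or.inr rfl)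
      exact (h59 N e g).1 (hg ▸ h)
  by_cases hO : Cfsg.pCore 2 G = ⊥
  · rcases H25.cit_simple_or_m10 hs hC hO with hG | ⟨⟨N, -, -, K, _, _, hK, ⟨e⟩⟩, -⟩
    · have hc : ∃ a b : G, a * b ≠ b * a := by
        by_contra hn
        push Not at hn
        exact hs (Group.isSolvable_of_comm hn)
      have e0 := QuotientGroup.quotientBot (G := G)
      rcases H25.eppo_simple hc hE with ⟨⟨e⟩⟩ | ⟨K, _, _, hK, ⟨e⟩⟩ | ⟨K, _, _, hK, ⟨e⟩⟩ |
        ⟨K, _, _, ⟨hK, ⟨e⟩⟩ | ⟨hK, ⟨e⟩⟩⟩
      · exact absurd (by rw [Nat.card_congr e.toEquiv, nat_card_alternatingGroup]; simp; decide) h5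
      · have := hpsl ⊥ K (e0.trans e)
        simp only [Finset.mem_insert, Finset.mem_singleton] at hK
        exact ⟨e.trans (H9.pslMapEquiv (FiniteField.ringEquivOfCardEq (by omega)))⟩
      · have hc := Cfsg.Agent.S0243.result hK 3 (by norm_num)
        rw [← Nat.card_congr e.toEquiv] at hc
        simp [Fin.prod_univ_three] at hc
        omega
      · exact absurd ⟨K, inferInstance, inferInstance, 1, le_rfl, hK, ⟨e0.trans e⟩⟩ (hsz ⊥)
      · exact absurd ⟨K, inferInstance, inferInstance, 2, by norm_num, hK, ⟨e0.trans e⟩⟩ (hsz ⊥)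
    · have hc := H9.gcd_mul_card_psl_two (F := K)
      rw [← Nat.card_congr e.toEquiv, hK] at hc
      norm_num at hc
      exact absurd ((by omega : 5 ∣ Nat.card N).trans N.card_subgroup_dvd_card) h5
  · rcases H25.cit_quotient_iso hs hC _ rfl hO with ⟨n, hn, ⟨e⟩⟩ | a
    · let := Fintype.ofFinite (GaloisField 2 n)
      have hK : Fintype.card (GaloisField 2 n) = 2 ^ n := by
        rw [← Nat.card_eq_fintype_card, GaloisField.card 2 n (by omega)]
      have := hpsl _ _ e
      rcases H25.eppo_psl2_even hK hn ((hE.of_surjective _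
        (QuotientGroup.mk'_surjective _)).of_surjective e.toMonoidHom e.surjective) with rfl | rfl <;>
        omega
    · exact absurd a (hsz _)

end Cfsg.Agent.S3396
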