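import Cfsg.Statements.S3438
import Cfsg.Agent.H56.GrpTools
import Cfsg.Agent.H56.Mod.U33

set_option autoImplicit false
open Cfsg

namespace Cfsg.Agent.S3438

open H14 H56

def VT : ℕ := nat_lit 0x28030800005006100080020a00010c006000041400021800c0018400003200040008001
def gs : List (ℕ × ℕ) := [(nat_lit 0x80c00001018, nat_lit 0x2cf7b0eb48cc52831cf6a54641481), (nat_lit 0x80010c0400, nat_lit 0x7b40a45ed521693906307316749862)]
def certL0 : Lev := ⟨nat_lit 0, nat_lit 0xffffff, (.node (nat_lit 12) (.node (nat_lit 6) (.node (nat_lit 3) (.node (nat_lit 1) (.leaf (nat_lit 0xbdab49ca307b9ac5a928398a418820)) (.node (nat_lit 2) (.leaf (nat_lit 0xa4e30731eb424eab14c3a904193417)) (.leaf (nat_lit 0x9460d62d28b9ec62d073209cf08155)))) (.node (nat_lit 4) (.leaf (nat_lit 0x63d67558c3a56641424e0b52805cb1)) (.node (nat_lit 5) (.leaf (nat_lit 0x839eb4a91619aa598892885a061ef4)) (.leaf (nat_lit 0x6b12839ae598c948b84183c0a5dab2))))) (.node (nat_lit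 9) (.node (nat_lit 7) (.leaf (nat_lit 0x5a51631473912227342c780f755690)) (.node (nat_lit 8) (.leaf (nat_lit 0x522d52cc92845c16ad8901cc3bd04f)) (.leaf (nat_lit 0x3a8c3a9282748307a5a05a2e5b4e2c)))) (.node (nat_lit 10) (.leaf (nat_lit 0xb187320a4e605ed49c0a45eb42c60b)) (.node (nat_lit 11) (.leaf (nat_lit 0x41ee51d27108a0e601eb4aad53124d)) (.leaf (nat_lit 0x35ca4a44416c18f0216755873ac9c9)))))) (.node (nat_lit 18) (.node (nat_lit 15) (.node (nat_lit 13) (.leaf (nat_lit 0x28e711382c5bd203d946bd492a41a8)) (.node (nat_lit 14) (.leaf (nat_lit 0xa94928860d4b00b418f7b0e829b9ea)) (.leaf (nat_lit 0x9924e0b58950107356e51d23013d76)))) (.node (nat_lit 16) (.leaf (nat_lit 0x1d682941cf0356955d163167120587)) (.node (nat_lit 17) (.leaf (nat_lit 0x2504183da03ad48b8ed52ce4e8b126)) (.leaf (nat_lit 0x149cf6a40ab20d7acca4a442c82ce3))))) (.node (nat_lit 21) (.node (nat_lit 19) (.leaf (nat_lit 0x8882c7816732af6192b49ca0d72505)) (.node (nat_lit 20) (.leaf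 (nat_lit 0x7058901d462dc7524682941eb6a2d3)) (.leaf (nat_lit 0xc1a05a0f7ad8a3a4a71139897a8c4)))) (.node (nat_lit 22) (.leaf (nat_lit 0x7b40a45ed521693906307316749862)) (.node (nat_lit 23) (.leaf (nat_lit 0x48146bd4a4152510be0d62d1638e6e)) (.leaf (nat_lit 0x2cf7b0eb48cc52831cf6a54641481)))))))⟩
def certC0 : LevCert := ⟨certL0,
    [(nat_lit 23, nat_lit 0), (nat_lit 21, nat_lit 1), (nat_lit 20, nat_lit 0), (nat_lit 18, nat_lit 1), (nat_lit 17, nat_lit 0), (nat_lit 16, nat_lit 1), (nat_lit 13, nat_lit 1), (nat_lit 12, nat_lit 0), (nat_lit 11, nat_lit 1), (nat_lit 15, nat_lit 0), (nat_lit 9, nat_lit 1), (nat_lit 8, nat_lit 1), (nat_lit 7, nat_lit 0), (nat_lit 22, nat_lit 1), (nat_lit 10, nat_lit 0), (nat_lit 6, nat_lit 1), (nat_lit 5, nat_lit 1), (nat_lit 3, nat_lit 1), (nat_lit 19, nat_lit 1), (nat_lit 4, nat_lit 1), (nat_lit 2, nat_lit 1), (nat_lit 14, nat_lit 1), (nat_lit 1, nat_lit 1)],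
    [],
    []⟩
def cert : List LevCert := [certC0]
def certL : List Lev := [certL0]
abbrev E : Enc (Fin 24) 24 5 32 := finEnc 24 5 32 rfl (by decide)
theorem chain : E.IsChain certL (E.grp (gs.map Prod.snd)) := chain_grp (cert := cert) (by decide +kernel)
theorem card : Nat.card (E.grp (gs.map Prod.snd)) = 24 := chain.card.trans (by decide +kernel)
def cl : List Cls := [⟨nat_lit 0xbdab49ca307b9ac5a928398a418820, 24, [nat_lit 0xffffff]⟩, ⟨nat_lit 0x7058901d462dc7524682941eb6a2d3, 24, [nat_lit 0xffffff]⟩, ⟨nat_lit 0xb187320a4e605ed49c0a45eb42c60b, 12, [nat_lit 0xd94a53]⟩, ⟨nat_lit 0x2504183da03ad48b8ed52ce4e8b126, 24, [nat_lit 0xffffff]⟩, ⟨nat_lit 0x5a51631473912227342c780f755690, 24, [nat_lit 0xffffff]⟩, ⟨nat_lit 0xc1a05a0f7ad8a3a4a71139897a8c4, 12, [nat_lit 0xd94a53]⟩, ⟨nat_lit 0x28e711382c5bd203d946bd492a41a8, 8, [nat_lit 0x291145]⟩, ⟨nat_lit 0x9460d62d28b9ec62d073209cf08155, 8, [nat_lit 0x291145]⟩, ⟨nat_lit 0x522d52cc92845c16ad8901cc3bd04f,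 8, [nat_lit 0xd80e1]⟩, ⟨nat_lit 0x63d67558c3a56641424e0b52805cb1, 8, [nat_lit 0xb2449]⟩, ⟨nat_lit 0xa4e30731eb424eab14c3a904193417, 12, [nat_lit 0xd94a53]⟩, ⟨nat_lit 0x48146bd4a4152510be0d62d1638e6e, 12, [nat_lit 0xd94a53]⟩]
theorem classes : E.ClassList (E.grp (gs.map Prod.snd)) cl :=
  chain.classList (E.fixes_zero _) (allL_iff.1 (by decide +kernel)) (by decide +kernel) card
    (by decide +kernel)
def fp : List (ℕ × ℕ × ℕ) := [(nat_lit 0xc00180030006, nat_lit 0x7058901d462dc7524682941eb6a2d3, nat_lit 0x6000c0018003), (nat_lit 0x400080020004, nat_lit 0xb187320a4e605ed49c0a45eb42c60b, nat_lit 0x200040028005), (nat_lit 0xc0400003010, nat_lit 0x2504183da03ad48b8ed52ce4e8b126, nat_lit 0x680cc001a033), (nat_lit 0x100a00004028, nat_lit 0x5a51631473912227342c780f755690, nat_lit 0x7402c001d00b), (nat_lit 0xa00140018003, nat_lit 0xc1a05a0f7ad8a3a4a71139897a8c4, nat_lit 0x400080020004), (nat_lit 0x30006100a00, nat_lit 0x28e711382c5bd203d946bd492a41a8,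 nat_lit 0x6a5ccc75a2f3), (nat_lit 0x4028200040, nat_lit 0x9460d62d28b9ec62d073209cf08155, nat_lit 0x7652cc75d2cb), (nat_lit 0x5008a00140, nat_lit 0x522d52cc92845c16ad8901cc3bd04f, nat_lit 0x7692dd31da4b), (nat_lit 0x10002140200, nat_lit 0x63d67558c3a56641424e0b52805cb1, nat_lit 0x6b4cee45a6b3), (nat_lit 0x180800005008, nat_lit 0xa4e30731eb424eab14c3a904193417, nat_lit 0x8c0500013012), (nat_lit 0x40600002030, nat_lit 0x48146bd4a4152510be0d62d1638e6e, nat_lit 0x900b0001402a)]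

/-- There is a finite solvable group with exactly the same set of element orders as the simple group PSU(3,3) (realised over the field with 9 elements). -/
theorem result {F : Type*} [Field F] [Fintype F] (hF : Fintype.card F = 9) :
    ∃ (H : Type) (_ : Group H) (_ : Fintype H), Group.IsSolvable H ∧ Set.range (orderOf : H → ℕ) = Set.range (orderOf : Cfsg.PSU 3 F 3 → ℕ) := by
  have : Fact (Nat.Prime F7.q) := ⟨(by norm_num : Nat.Prime 7)⟩
  obtain ⟨H, i1, i2, h1, h2⟩ := exists_frob (t := F7) (d := 4) (VT := VT) (by decide) E (by decide +kernel)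
    (by decide +kernel) classes (l := fp) (by decide +kernel) (a := 3) (b := 1) (by rw [card]; norm_num)
  obtain ⟨e⟩ := U33.equiv hF
  refine ⟨H, i1, i2, h1, ?_⟩
  rw [h2, range_orderOf_equiv e, range_orderOf classes 13 (os := [1, 2, 3, 4, 6, 8, 12]) (by decide +kernel),
    range_orderOf U33.classes 13 (os := [7, 1, 2, 3, 4, 6, 8, 12]) (by decide +kernel)]
  ext o
  exact List.mem_cons.symm

end Cfsg.Agent.S3438
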