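import Cfsg.Statements.S3501
import Cfsg.Agent.H77.Kappa

set_option autoImplicit false
open Cfsg

namespace Cfsg.Agent.S3501

open Cfsg.Agent.H77 MulAction

theorem result {G : Type*} [Group G] [Finite G] {Ω : Type*} [Fintype Ω] [MulAction G Ω] [FaithfulSMul G Ω] (hΩ : 2 ≤ Fintype.card Ω) (hprim : MulAction.IsPreprimitive G Ω) (hnas : ¬ ∃ T : Subgroup G, T.Normal ∧ IsSimpleGroup T ∧ ¬ IsMulCommutative T ∧ Subgroup.centralizer (T : Set G) = ⊥) :
    Nat.card {c : ConjClasses G // ∃ g : G, ConjClasses.mk g = c ∧ ∀ ω : Ω, g • ω ≠ ω} = 1 ↔ (MulAction.IsMultiplyPretransitive G Ω 2 ∧ ∀ g : G, g ≠ 1 → ∀ a b : Ω, a ≠ b → g • a = a → g • b ≠ b) := by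
  have hnt : Nontrivial Ω := Fintype.one_lt_card_iff_nontrivial.mp hΩ
  rw [classes_eq_one_iff]
  refine ⟨fun h => ?_, fun h => ⟨exists_derangement, fun x y hx hy =>
    isConj_of_sharply_two h.1 h.2 hx hy⟩⟩
  have hG : Nontrivial G := nontrivial_group (Ω := Ω)
  obtain ⟨N, hn, hN1, hmin⟩ := H2.exists_minimal_normal (G := G)
  have hN : MinNormal N := ⟨hn, hN1, hmin⟩
  obtain ⟨α⟩ : Nonempty Ω := inferInstance
  by_cases hc : IsMulCommutative N
  · have hd : ∀ x ∈ N, x ≠ 1 → ∀ ω : Ω, x • ω ≠ ω := fun x hx hx1 ω hω =>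
      hx1 (regular_of_comm hprim hn hN1 hc hx hω)
    refine ⟨two_trans_of_stabilizer α fun b c hb hc' => ?_, fun g hg a b hab ha hb => ?_⟩
    · obtain ⟨x, hx, rfl⟩ := exists_smul_eq_of_normal hprim hn hN1 α b
      obtain ⟨y, hy, rfl⟩ := exists_smul_eq_of_normal hprim hn hN1 α c
      exact exists_stabilizer_of_isConj hprim hn hN1 hc hy (h.2 x y
        (hd x hx (by rintro rfl; simp at hb)) (hd y hy (by rintro rfl; simp at hc'))) α
    · obtain ⟨x, hx, hx1⟩ := exists_ne_one_mem hN1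
      have : g ∈ N := by
        refine mem_of_two_fixed N (fun y hy => ?_) hab ha hb
        obtain ⟨k, rfl⟩ := isConj_iff.mp (h.2 x y (hd x hx hx1) hy)
        exact hn.conj_mem x hx k
      exact hd g this hg a ha
  exfalso
  obtain ⟨T, hT⟩ := exists_factor hN1
  have hTs := hT.simple hN
  rcases ons_dichotomy hprim hN hc hT α with h' | ⟨⟨s, hs, hs1, hsα⟩, -, t, ht, htd⟩
  · obtain ⟨x, hx, -⟩ := exists_prime_orderOf_ne (hT.not_comm hN hc) Nat.prime_two
    obtain ⟨y, hy, hxy⟩ := exists_prime_orderOf_ne (hT.not_comm hN hc) hx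
    have h1 : ∀ z : T, (orderOf z).Prime → (z : G) ≠ 1 := by
      intro z hz h1
      rw [show z = 1 from Subtype.ext h1, orderOf_one] at hz
      exact Nat.not_prime_one hz
    have := orderOf_eq_of_isConj (h.2 y x (h' y y.2 (h1 y hy)) (h' x x.2 (h1 x hx)))
    rw [Subgroup.orderOf_coe, Subgroup.orderOf_coe] at this
    exact hxy this
  by_cases hTN : T = N
  · subst hTN
    exact hnas ⟨T, hn, hTs, hc, centralizer_eq_bot_of_fixed hprim hn hs hs1 hsα⟩
  obtain ⟨g, hg⟩ := hT.exists_cj_ne hN hTN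
  have hU := hT.conj hn g
  have hcomm := (hT.eq_or_comm hU).resolve_left (Ne.symm hg)
  obtain ⟨u, hu, hu1⟩ := exists_ne_one_mem hU.ne_bot
  have ht1 := htd 1 N.one_mem (by simp)
  rw [mul_one] at ht1
  exact hT.not_isConj_mul hN hc hcomm ht ht (by rintro rfl; exact ht1 α (one_smul _ _)) hu hu1 hU
    (h.2 _ _ ht1 (htd u (hU.le hu) fun s hs => (hcomm s hs u hu).symm))

end Cfsg.Agent.S3501
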