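import Cfsg.Statements.S3520
import Cfsg.Agent.H77.Kappa
import Cfsg.Agent.S3501
import Cfsg.Agent.S0144

set_option autoImplicit false
open Cfsg

namespace Cfsg.Agent.S3520

open Cfsg.Agent.H77 MulAction

/-- A finite non-abelian simple group has an element of prime order outside any two given primes. -/
theorem exists_prime_orderOf_ne_two {T : Type*} [Group T] [Finite T] [IsSimpleGroup T]
    (hc : ¬ IsMulCommutative T) {p q : ℕ} (hp : p.Prime) (hq : q.Prime) :
    ∃ x : T, (orderOf x).Prime ∧ orderOf x ≠ p ∧ orderOf x ≠ q := by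
  by_contra h
  push Not at h
  apply hc
  refine ⟨⟨IsSimpleGroup.comm_iff_isSolvable.mpr ?_⟩⟩
  have h0 : Nat.card T ≠ 0 := Nat.card_pos.ne'
  obtain ⟨a, m, hm, hma⟩ := Nat.exists_eq_pow_mul_and_not_dvd h0 p hp.ne_one
  have hm0 : m ≠ 0 := by rintro rfl; simp at hm
  have h1 : m = q ^ m.primeFactorsList.length := by
    apply Nat.eq_prime_pow_of_unique_prime_dvd hm0
    intro d hd hdm
    have := Fact.mk hd
    obtain ⟨x, hx⟩ := exists_prime_orderOf_dvd_card' (G := T) d (hma ▸ hdm.mul_left _)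
    rw [← hx]
    refine h x (hx ▸ hd) fun h' => hm ?_
    rw [← h', hx]; exact hdm
  exact S0144.result p q a _ hp hq (by rw [hma, ← h1])

theorem result {G : Type*} [Group G] [Finite G] {Ω : Type*} [Fintype Ω] [MulAction G Ω] [FaithfulSMul G Ω] (hΩ : 2 ≤ Fintype.card Ω) (hprim : MulAction.IsPreprimitive G Ω) (hnas : ¬ ∃ T : Subgroup G, T.Normal ∧ IsSimpleGroup T ∧ ¬ IsMulCommutative T ∧ Subgroup.centralizer (T : Set G) = ⊥)
    (hκ : Nat.card {c : ConjClasses G // ∃ g : G, ConjClasses.mk g = c ∧ ∀ ω : Ω, g • ω ≠ ω} = 2) (α : Ω) :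
    (Fintype.card Ω = 3 ∧ Nat.card G = 3) ∨
    ((∃ N : Subgroup G, N.Normal ∧ N ≠ ⊥ ∧ IsMulCommutative N ∧ ∀ ω : Ω, MulAction.stabilizer N ω = ⊥) ∧ (∀ g : G, g ≠ 1 → Nat.card (MulAction.fixedBy Ω g) ≤ 1) ∧ ¬ 2 ∣ Fintype.card Ω ∧
        2 * Nat.card (MulAction.stabilizer G α) = Fintype.card Ω - 1) ∨
    ((∃ N : Subgroup G, N.Normal ∧ N ≠ ⊥ ∧ IsMulCommutative N ∧ ∀ ω : Ω, MulAction.stabilizer N ω = ⊥) ∧ MulAction.IsMultiplyPretransitive G Ω 2 ∧ ∃ g : G, g ≠ 1 ∧ 2 ≤ Nat.card (MulAction.fixedBy Ω g)) := by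
  have hnt : Nontrivial Ω := Fintype.one_lt_card_iff_nontrivial.mp hΩ
  have h3 := fun {x y z : G} => isConj_of_classes_eq_two (fun g : G => ∀ ω : Ω, g • ω ≠ ω) hκ
    (x := x) (y := y) (z := z)
  have hG : Nontrivial G := nontrivial_group (Ω := Ω)
  obtain ⟨N, hn, hN1, hmin⟩ := H2.exists_minimal_normal (G := G)
  have hN : MinNormal N := ⟨hn, hN1, hmin⟩
  by_cases hc : IsMulCommutative N
  · right
    have haff : ∃ N : Subgroup G, N.Normal ∧ N ≠ ⊥ ∧ IsMulCommutative N ∧
        ∀ ω : Ω, MulAction.stabilizer N ω = ⊥ :=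
      ⟨N, hn, hN1, hc, stabilizer_eq_bot_of_comm hprim hn hN1 hc⟩
    have hd : ∀ x ∈ N, x ≠ 1 → ∀ ω : Ω, x • ω ≠ ω := fun x hx hx1 ω hω =>
      hx1 (regular_of_comm hprim hn hN1 hc hx hω)
    by_cases h2 : IsMultiplyPretransitive G Ω 2
    · right
      refine ⟨haff, h2, ?_⟩
      by_contra hno
      push Not at hno
      have := (S3501.result hΩ hprim hnas).mpr ⟨h2, fun g hg a b hab ha hb => by
        have := hno g hg
        have := two_le_card_fixedBy hab ha hb
        omega⟩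
      omega
    left
    obtain ⟨b, c, hb, hc', hbc⟩ : ∃ b c : Ω, b ≠ α ∧ c ≠ α ∧ ∀ g : G, g • α = α → g • b ≠ c := by
      by_contra hno
      push Not at hno
      exact h2 (two_trans_of_stabilizer α hno)
    obtain ⟨x, hx, rfl⟩ := exists_smul_eq_of_normal hprim hn hN1 α b
    obtain ⟨y, hy, rfl⟩ := exists_smul_eq_of_normal hprim hn hN1 α c
    have hxd := hd x hx (by rintro rfl; simp at hb)
    have hyd := hd y hy (by rintro rfl; simp at hc')
    have hxy : ¬ IsConj x y := fun h => by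
      obtain ⟨g, hg1, hg2⟩ := exists_stabilizer_of_isConj hprim hn hN1 hc hy h α
      exact hbc g hg1 hg2
    have hall : ∀ z : G, (∀ ω : Ω, z • ω ≠ ω) → IsConj x z ∨ IsConj y z := fun z hz =>
      (h3 hxd hyd hz).resolve_left hxy
    have hDN : ∀ z : G, (∀ ω : Ω, z • ω ≠ ω) → z ∈ N := fun z hz => by
      rcases hall z hz with h | h
      · obtain ⟨k, rfl⟩ := isConj_iff.mp h
        exact hn.conj_mem x hx k
      · obtain ⟨k, rfl⟩ := isConj_iff.mp h
        exact hn.conj_mem y hy k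
    have hfix : ∀ g : G, g ≠ 1 → Nat.card (fixedBy Ω g) ≤ 1 := fun g hg => by
      by_cases hgN : g ∈ N
      · rw [card_fixedBy_eq_zero (hd g hgN hg)]; omega
      · exact ((of_derangements_mem N hDN).2 g hgN).le
    have horb : ∀ b : Ω, b ≠ α → (orbit (stabilizer G α) b).ncard = Nat.card (stabilizer G α) := by
      intro b hb
      rw [← index_stabilizer, ← Subgroup.index_bot]
      congr 1
      rw [Subgroup.eq_bot_iff_forall]
      intro g hg
      by_contra h1
      have h4 := hfix g fun h => h1 (Subtype.ext h)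
      have h5 := two_le_card_fixedBy (g := (g : G)) hb hg g.2
      omega
    have hun : orbit (stabilizer G α) (x • α) ∪ orbit (stabilizer G α) (y • α) = {α}ᶜ := by
      ext b
      constructor
      · rintro (⟨g, rfl⟩ | ⟨g, rfl⟩) h
        · exact hb ((smul_left_cancel_iff g).mp (h.trans (g.2).symm))
        · exact hc' ((smul_left_cancel_iff g).mp (h.trans (g.2).symm))
      · intro hbα
        obtain ⟨z, hz, rfl⟩ := exists_smul_eq_of_normal hprim hn hN1 α b
        rcases hall z (hd z hz (by rintro rfl; simp at hbα)) with h | h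
        · obtain ⟨g, hg1, hg2⟩ := exists_stabilizer_of_isConj hprim hn hN1 hc hz h α
          exact Or.inl ⟨⟨g, hg1⟩, hg2⟩
        · obtain ⟨g, hg1, hg2⟩ := exists_stabilizer_of_isConj hprim hn hN1 hc hz h α
          exact Or.inr ⟨⟨g, hg1⟩, hg2⟩
    have hdisj : Disjoint (orbit (stabilizer G α) (x • α)) (orbit (stabilizer G α) (y • α)) := by
      refine (orbit.eq_or_disjoint _ _).resolve_left fun h => ?_
      have : y • α ∈ orbit (stabilizer G α) (x • α) := h ▸ mem_orbit_self _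
      obtain ⟨g, hg⟩ := this
      exact hbc g g.2 hg
    have h4 := Set.ncard_union_eq hdisj
    rw [hun, horb _ hb, horb _ hc'] at h4
    have h5 := Set.ncard_add_ncard_compl ({α} : Set Ω)
    rw [Set.ncard_singleton, Nat.card_eq_fintype_card] at h5
    exact ⟨haff, hfix, by omega, by omega⟩
  exfalso
  obtain ⟨T, hT⟩ := exists_factor hN1
  have hTs := hT.simple hN
  rcases ons_dichotomy hprim hN hc hT α with h' | ⟨⟨s, hs, hs1, hsα⟩, -, t, ht, htd⟩
  · obtain ⟨x, hx, -⟩ := exists_prime_orderOf_ne (hT.not_comm hN hc) Nat.prime_two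
    obtain ⟨y, hy, hxy⟩ := exists_prime_orderOf_ne (hT.not_comm hN hc) hx
    obtain ⟨z, hz, hzx, hzy⟩ := exists_prime_orderOf_ne_two (hT.not_comm hN hc) hx hy
    have h1 : ∀ z : T, (orderOf z).Prime → ∀ ω : Ω, (z : G) • ω ≠ ω := by
      intro z hz
      refine h' z z.2 fun h1 => ?_
      rw [show z = 1 from Subtype.ext h1, orderOf_one] at hz
      exact Nat.not_prime_one hz
    rcases h3 (h1 x hx) (h1 y hy) (h1 z hz) with h | h | h <;>
    · have := orderOf_eq_of_isConj h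
      rw [Subgroup.orderOf_coe, Subgroup.orderOf_coe] at this
      omega
  by_cases hTN : T = N
  · subst hTN
    exact hnas ⟨T, hn, hTs, hc, centralizer_eq_bot_of_fixed hprim hn hs hs1 hsα⟩
  obtain ⟨g, hg⟩ := hT.exists_cj_ne hN hTN
  have hU := hT.conj hn g
  have hcomm := (hT.eq_or_comm hU).resolve_left (Ne.symm hg)
  have htD := htd 1 N.one_mem (by simp)
  rw [mul_one] at htD
  have ht1 : t ≠ 1 := by rintro rfl; exact htD α (one_smul _ _)
  have hconj1 : ∀ {w : G} (k : G), w ≠ 1 → k * w * k⁻¹ ≠ 1 := fun {w} k hw h => hw (by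
    have h2 : w = k⁻¹ * (k * w * k⁻¹) * k := by group
    rw [h2, h]; simp)
  have hu : g * s * g⁻¹ ∈ cj g T := conj_mem_cj hs
  have hv : g * t * g⁻¹ ∈ cj g T := conj_mem_cj ht
  have hcu : ∀ u ∈ cj g T, ∀ s ∈ T, u * s = s * u := fun u hu s hs => (hcomm s hs u hu).symm
  rcases h3 htD (htd _ (hU.le hu) (hcu _ hu)) (htd _ (hU.le hv) (hcu _ hv)) with h | h | h
  · exact hT.not_isConj_mul hN hc hcomm ht ht ht1 hu (hconj1 g hs1) hU h
  · exact hT.not_isConj_mul hN hc hcomm ht ht ht1 hv (hconj1 g ht1) hU h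
  obtain ⟨k, hk⟩ := isConj_iff.mp h
  -- the component of `k (t u) k⁻¹` in `W = k U k⁻¹` fixes a point
  have hW := hU.conj hn k
  have hw : k * (g * s * g⁻¹) * k⁻¹ ∈ cj k (cj g T) := conj_mem_cj hu
  have hkt : ∀ w ∈ cj k (cj g T), (k * t * k⁻¹) * w = w * (k * t * k⁻¹) := by
    intro w hw
    have := hcomm t ht _ (mem_cj.mp hw)
    calc k * t * k⁻¹ * w = k * (t * (k⁻¹ * w * k)) * k⁻¹ := by group
      _ = w * (k * t * k⁻¹) := by rw [this]; group
  have hprod : k * (g * s * g⁻¹) * k⁻¹ * (k * t * k⁻¹) = t * (g * t * g⁻¹) := by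
    rw [← hkt _ hw, ← hk]; group
  have hfix : (k * (g * s * g⁻¹) * k⁻¹) • (k * g) • α = (k * g) • α := by
    simp [mul_smul, hsα]
  rcases hW.eq_or_comm hT with h1 | h1
  · have := hW.comp_unique hN hc hw (h1.ge ht) hkt (fun w hw' => hcu _ hv w (h1.le hw')) hprod
    rw [this] at hfix
    exact htD _ hfix
  rcases hW.eq_or_comm hU with h2 | h2
  · have := hW.comp_unique hN hc hw (h2.ge hv) hkt (c' := t)
      (fun w hw' => hcomm t ht w (h2.le hw')) (by rw [hprod, hcomm t ht _ hv])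
    rw [this] at hfix
    exact conj_derangement htD g _ hfix
  · have := hW.comp_unique hN hc hw (Subgroup.one_mem _) hkt (c' := t * (g * t * g⁻¹))
      (fun w hw' => by rw [mul_assoc, ← h2 w hw' _ hv, ← mul_assoc, ← h1 w hw' t ht, mul_assoc])
      (by rw [hprod, one_mul])
    exact hconj1 k (hconj1 g hs1) this

end Cfsg.Agent.S3520
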