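import Cfsg.Statements.S3521
import Cfsg.Agent.H27.ExtP

set_option autoImplicit false
open Cfsg

namespace Cfsg.Agent.S3521

/-- Let a finite group G that is not solvable act faithfully and primitively on a finite set with p ^ d points (p prime), with a non-trivial abelian normal subgroup acting regularly (affine type) and with non-trivial point stabilizers each acting primitively on every one of its orbits (an insoluble extremely primitive group of affine type). Then p = 2; and if moreover G is not 2-transitive, then a point stabilizer is almost simple (it has a non-abelian simple normal subgroup with trivial centralizer). -/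
theorem result {G : Type*} [Group G] [Finite G] {Ω : Type*} [Fintype Ω] [MulAction G Ω] [FaithfulSMul G Ω] (p d : ℕ) (hp : p.Prime) (hcard : Fintype.card Ω = p ^ d) (hsol : ¬ Group.IsSolvable G)
    (N : Subgroup G) [N.Normal] (hN : N ≠ ⊥) (hNc : IsMulCommutative N) (hNreg : ∀ ω : Ω, MulAction.stabilizer N ω = ⊥)
    (hprim : MulAction.IsPreprimitive G Ω) (hH : ∀ α : Ω, MulAction.stabilizer G α ≠ ⊥) (hep : ∀ (α : Ω) (ω : Ω), MulAction.IsPreprimitive (MulAction.stabilizer G α) (MulAction.orbit (MulAction.stabilizer G α) ω)) (α : Ω) :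
    p = 2 ∧ (¬ MulAction.IsMultiplyPretransitive G Ω 2 → ∃ T : Subgroup (MulAction.stabilizer G α), T.Normal ∧ IsSimpleGroup T ∧ ¬ IsMulCommutative T ∧ Subgroup.centralizer (T : Set (MulAction.stabilizer G α)) = ⊥) := by
  open Cfsg.Agent.H27.EP MulAction Subgroup in
  have htr := H77.exists_smul_eq_of_normal hprim (inferInstance : N.Normal) hN α
  have reg : ∀ n ∈ N, ∀ m ∈ N, n • α = m • α → n = m := fun n hn m hm e => by
    have h1 : (⟨m⁻¹ * n, mul_mem (inv_mem hm) hn⟩ : N) ∈ stabilizer N α := by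
      change (m⁻¹ * n) • α = α
      rw [mul_smul, e, inv_smul_smul]
    rw [hNreg α, mem_bot] at h1
    exact (inv_mul_eq_one.1 (congrArg Subtype.val h1)).symm
  letI : CommGroup N := { (inferInstance : Group N) with mul_comm := hNc.is_comm.comm }
  letI : MulDistribMulAction (stabilizer G α) N :=
    MulDistribMulAction.compHom N ((MulAut.conjNormal (H := N)).comp (stabilizer G α).subtype)
  have sm : ∀ (h : stabilizer G α) (n : N), ((h • n : N) : G) = h * n * (h : G)⁻¹ := fun _ _ => rfl
  have sm' : ∀ (h : stabilizer G α) (n : N), h • ((n : G) • α) = ((h • n : N) : G) • α := fun h n => by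
    rw [sm, mul_smul, mul_smul, (stabilizer G α).inv_mem h.2]; rfl
  have st : ∀ n : N, stabilizer (stabilizer G α) n = stabilizer (stabilizer G α) ((n : G) • α) := fun n => by
    ext h
    rw [mem_stabilizer_iff, mem_stabilizer_iff, sm']
    exact ⟨fun e => by rw [e], fun e => Subtype.ext (reg _ (h • n).2 _ n.2 e)⟩
  have hmin : ∀ L : Subgroup G, L.Normal → L ≤ N → L = ⊥ ∨ L = N := fun L hL hle => by
    refine or_iff_not_imp_left.2 fun h0 => le_antisymm hle fun n hn => ?_
    obtain ⟨l, hl, e⟩ := H77.exists_smul_eq_of_normal hprim hL h0 α (n • α)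
    exact reg l (hle hl) n hn e ▸ hl
  have dec : ∀ g : G, ∃ n ∈ N, ∃ h ∈ stabilizer G α, g = n * h := fun g => by
    obtain ⟨n, hn, e⟩ := htr (g • α)
    exact ⟨n, hn, n⁻¹ * g, by rw [mem_stabilizer_iff, mul_smul, ← e, inv_smul_smul], by simp⟩
  have core : ∀ v : N, v ≠ 1 → ∀ K : Subgroup (stabilizer G α), K.Normal →
      K ≤ stabilizer (stabilizer G α) v → K = ⊥ := fun v hv K hK hle => by
    let L : Subgroup G := N ⊓ centralizer ((K.map (stabilizer G α).subtype : Subgroup G) : Set G)
    have hL : L.Normal := ⟨fun x hx g => by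
      obtain ⟨n, hn, h, hh, rfl⟩ := dec g
      have h1 : h * x * h⁻¹ ∈ N := (inferInstance : N.Normal).conj_mem x hx.1 h
      have h2 : n * h * x * (n * h)⁻¹ = h * x * h⁻¹ := by
        rw [show n * h * x * (n * h)⁻¹ = n * (h * x * h⁻¹) * n⁻¹ by group,
          H2.mul_comm_of_mem hNc hn h1, mul_inv_cancel_right]
      rw [h2]
      refine ⟨h1, mem_centralizer_iff.2 ?_⟩
      rintro _ ⟨k, hk, rfl⟩
      have h3 := mem_centralizer_iff.1 hx.2 _ ⟨_, hK.conj_mem k hk (⟨h, hh⟩ : stabilizer G α)⁻¹, rfl⟩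
      change h⁻¹ * k * h⁻¹⁻¹ * x = x * (h⁻¹ * k * h⁻¹⁻¹) at h3
      change (k : G) * _ = _ * (k : G)
      calc (k : G) * (h * x * h⁻¹) = h * (h⁻¹ * k * h⁻¹⁻¹ * x) * h⁻¹ := by group
        _ = _ := by rw [h3]; group⟩
    have hvL : (v : G) ∈ L := ⟨v.2, mem_centralizer_iff.2 (by
      rintro _ ⟨k, hk, rfl⟩
      exact mul_inv_eq_iff_eq_mul.1 (congrArg Subtype.val (hle hk)))⟩
    have e := (hmin L hL inf_le_left).resolve_left fun c => hv (Subtype.ext (mem_bot.1 (c ▸ hvL)))
    refine eq_bot_iff.2 fun k hk => mem_bot.2 (Subtype.ext ?_)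
    exact H77.eq_one_of_comm_of_trans htr
      (fun n hn => mem_centralizer_iff.1 (e.symm ▸ hn : n ∈ L).2 _ ⟨k, hk, rfl⟩) k.2
  have hext : Ext (stabilizer G α) N := by
    refine ⟨(nontrivial_iff_ne_bot N).2 hN, fun v hv => ?_, core⟩
    have h1 : stabilizer (stabilizer G α) v ≠ ⊤ := fun c =>
      hH α (eq_bot_iff.2 fun x hx => by
        have h2 := mem_top (⟨x, hx⟩ : stabilizer G α)
        rw [core v hv ⊤ inferInstance c.ge, mem_bot] at h2
        exact mem_bot.2 (congrArg Subtype.val h2))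
    obtain ⟨g, hg⟩ : ∃ g, g ∉ stabilizer (stabilizer G α) v := by
      by_contra c
      push Not at c
      exact h1 (eq_top_iff.2 fun g _ => c g)
    rw [st] at hg ⊢
    have : Nontrivial (orbit (stabilizer G α) ((v : G) • α)) :=
      ⟨⟨⟨g • ((v : G) • α), mem_orbit _ g⟩, ⟨_, mem_orbit_self _⟩, fun c => hg (congrArg Subtype.val c)⟩⟩
    have := hep α ((v : G) • α)
    have h2 := IsPreprimitive.isCoatom_stabilizer_of_isPreprimitive (stabilizer G α)
      (⟨_, mem_orbit_self _⟩ : orbit (stabilizer G α) ((v : G) • α))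
    convert h2 using 1
    ext k
    simp only [mem_stabilizer_iff, Subtype.ext_iff, orbit.coe_smul]
  have hs : ¬ Group.IsSolvable (stabilizer G α) := fun hs => by
    have : Group.IsSolvable N := Group.isSolvable_of_comm hNc.is_comm.comm
    have : Group.IsSolvable (G ⧸ N) := Group.isSolvable_of_surjective
      (f := (QuotientGroup.mk' N).comp (stabilizer G α).subtype) fun x => by
        obtain ⟨g, rfl⟩ := QuotientGroup.mk'_surjective N x
        obtain ⟨n, hn, h, hh, rfl⟩ := dec g
        exact ⟨⟨h, hh⟩, by simp [(QuotientGroup.eq_one_iff n).2 hn]⟩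
    exact hsol (Group.isSolvable_of_ker_le_range N.subtype (QuotientGroup.mk' N) (by simp))
  have hc : Nat.card N = p ^ d := by
    rw [← hcard, ← Nat.card_eq_fintype_card]
    exact Nat.card_congr (Equiv.ofBijective (fun n : N => (n : G) • α)
      ⟨fun a b e => Subtype.ext (reg _ a.2 _ b.2 e), fun ω => by
        obtain ⟨n, hn, e⟩ := htr ω
        exact ⟨⟨n, hn⟩, e⟩⟩)
  have hp2 : p = 2 := by
    have := hext.even hs
    rw [hc, even_iff_two_dvd] at this
    exact ((Nat.prime_dvd_prime_iff_eq Nat.prime_two hp).1 (Nat.prime_two.dvd_of_dvd_pow this)).symm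
  refine ⟨hp2, fun _ => hext.almost_simple (fun v => ?_) hs⟩
  obtain ⟨r, hr, h1⟩ := H2.minimal_normal_exponent_of_comm N hNc hN hmin
  by_cases hv : v = 1
  · simp [hv]
  have : Fact r.Prime := ⟨hr⟩
  have h2 : orderOf v = r := orderOf_eq_prime (Subtype.ext (h1 v v.2)) hv
  have h3 : r ∣ 2 ^ d := by rw [← h2, ← hp2, ← hc]; exact orderOf_dvd_natCard v
  rw [← pow_two, ← (Nat.prime_dvd_prime_iff_eq hr Nat.prime_two).1 (hr.dvd_of_dvd_pow h3), ← h2,
    pow_orderOf_eq_one]

end Cfsg.Agent.S3521
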