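import Cfsg.Statements.S3532
import Cfsg.Agent.H78.FrobPQ
import Cfsg.Agent.S2475

set_option autoImplicit false
open Cfsg

namespace Cfsg.Agent.S3532

theorem exists_frob {p n : ℕ} (hp : p.Prime) (hn : 0 < n) (hpn : p.Coprime n) :
    ∃ (X : Type) (_ : Group X) (_ : Finite X), Group.IsSolvable X ∧
      (∀ g : X, orderOf g ∣ p ∨ orderOf g ∣ n) ∧ (∃ g : X, orderOf g = p) ∧
      ∃ g : X, orderOf g = n := by
  have := Fact.mk hp
  have hq1 : n.totient ≠ 0 := (Nat.totient_pos.2 hn).ne'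
  let K := GaloisField p n.totient
  have hK : Nat.card Kˣ = p ^ n.totient - 1 := by rw [Nat.card_units, GaloisField.card p _ hq1]
  have hd : n ∣ Nat.card Kˣ := by
    rw [hK]
    exact (Nat.modEq_iff_dvd' (Nat.one_le_pow _ _ hp.pos)).mp (Nat.ModEq.pow_totient hpn).symm
  obtain ⟨ξ, hξ⟩ := isCyclic_iff_exists_orderOf_eq_natCard.1 (inferInstance : IsCyclic Kˣ)
  have hζ := orderOf_pow_orderOf_div (orderOf_pos ξ).ne' (hξ ▸ hd)
  set ζ := ξ ^ (orderOf ξ / n)
  let L := Subgroup.zpowers ζ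
  have hL : Nat.card L = n := by rw [Nat.card_zpowers, hζ]
  let ρ : L →* AddMonoid.End K :=
    { toFun := fun g => AddMonoidHom.mulLeft ((g : Kˣ) : K)
      map_one' := by ext v; exact one_mul v
      map_mul' := fun a b => by ext v; exact mul_assoc _ _ v }
  let φ := H78.piAct ρ 1
  have hW : ∀ w : Fin 1 → Multiplicative K, w ^ p = 1 := fun w => by
    ext i
    change p • (w i).toAdd = 0
    rw [nsmul_eq_mul, CharP.cast_eq_zero, zero_mul]
  have hfix : ∀ g : L, g ≠ 1 → ∀ w, φ g w = w → w = 1 := fun g hg w hw => by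
    ext i
    have h1 : ((g : Kˣ) : K) * (w i).toAdd = (w i).toAdd := congrFun hw i
    by_contra hne
    apply hg
    have h2 : ((g : Kˣ) : K) = 1 := mul_right_cancel₀ (b := (w i).toAdd) hne (by rw [h1, one_mul])
    exact Subtype.ext (Units.ext h2)
  have hker : ∀ y : _ ⋊[φ] L, y.right = 1 → y = SemidirectProduct.inl y.left := fun y hy =>
    SemidirectProduct.ext rfl hy
  refine ⟨_ ⋊[φ] L, inferInstance, Finite.of_equiv _ SemidirectProduct.equivProd.symm,
    Group.isSolvable_of_ker_le_range SemidirectProduct.inl SemidirectProduct.rightHom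
      SemidirectProduct.range_inl_eq_ker_rightHom.ge, fun y => ?_, ?_,
    ⟨SemidirectProduct.inr ⟨ζ, Subgroup.mem_zpowers ζ⟩, by
      rw [orderOf_injective _ SemidirectProduct.inr_injective, Subgroup.orderOf_mk, hζ]⟩⟩
  · by_cases hy : y.right = 1
    · exact .inl (orderOf_dvd_of_pow_eq_one (by rw [hker y hy, ← map_pow, hW, map_one]))
    · have h3 : (y ^ n).right = 1 := by
        change SemidirectProduct.rightHom (y ^ n) = 1
        rw [map_pow]
        exact orderOf_dvd_iff_pow_eq_one.1 ((orderOf_dvd_natCard _).trans hL.dvd)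
      have h4 := congrArg SemidirectProduct.left (Commute.pow_self y n).eq
      simp only [SemidirectProduct.mul_left, h3, map_one, MulAut.one_apply] at h4
      rw [mul_comm] at h4
      exact .inr (orderOf_dvd_of_pow_eq_one
        (by rw [hker _ h3, hfix _ hy _ (mul_left_cancel h4).symm, map_one]))
  · obtain ⟨w, hw⟩ := exists_ne (1 : Fin 1 → Multiplicative K)
    exact ⟨SemidirectProduct.inl w, by
      rw [orderOf_injective _ SemidirectProduct.inl_injective, orderOf_eq_prime (hW w) hw]⟩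

theorem range_prod {A B : Type*} [Group A] [Group B] [Finite A] [Finite B] {p a b : ℕ}
    (hA : ∀ g : A, orderOf g ∣ p ∨ orderOf g ∣ a ∨ orderOf g ∣ b)
    (hB : ∀ g : B, orderOf g ∣ p ∨ orderOf g ∣ a ∨ orderOf g ∣ b)
    (h1 : ∃ g : A × B, orderOf g = p * a) (h2 : ∃ g : A × B, orderOf g = p * b)
    (h3 : ∃ g : A × B, orderOf g = a * b) :
    Set.range (orderOf : A × B → ℕ) = {m | m ∣ p * a ∨ m ∣ p * b ∨ m ∣ a * b} := by
  ext m
  constructor
  · rintro ⟨g, rfl⟩
    rw [Prod.orderOf]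
    rcases hA g.1 with h | h | h <;> rcases hB g.2 with h' | h' | h'
    · exact .inl (Nat.lcm_dvd (h.mul_right _) (h'.mul_right _))
    · exact .inl (Nat.lcm_dvd (h.mul_right _) (h'.mul_left _))
    · exact .inr (.inl (Nat.lcm_dvd (h.mul_right _) (h'.mul_left _)))
    · exact .inl (Nat.lcm_dvd (h.mul_left _) (h'.mul_right _))
    · exact .inl (Nat.lcm_dvd (h.mul_left _) (h'.mul_left _))
    · exact .inr (.inr (Nat.lcm_dvd (h.mul_right _) (h'.mul_left _)))
    · exact .inr (.inl (Nat.lcm_dvd (h.mul_left _) (h'.mul_right _)))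
    · exact .inr (.inr (Nat.lcm_dvd (h.mul_left _) (h'.mul_right _)))
    · exact .inr (.inl (Nat.lcm_dvd (h.mul_left _) (h'.mul_left _)))
  · have key : ∀ n, (∃ g : A × B, orderOf g = n) → m ∣ n → m ∈ Set.range (orderOf : A × B → ℕ) :=
      fun n ⟨g, hg⟩ h => ⟨_, orderOf_pow_orderOf_div (orderOf_pos g).ne' (hg ▸ h)⟩
    rintro (h | h | h)
    exacts [key _ h1 h, key _ h2 h, key _ h3 h]

theorem exists_prod {A B : Type*} [Group A] [Group B] {u v : ℕ} (h : u.Coprime v)
    (hA : ∃ g : A, orderOf g = u) (hB : ∃ g : B, orderOf g = v) :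
    ∃ g : A × B, orderOf g = u * v := by
  obtain ⟨g, rfl⟩ := hA
  obtain ⟨k, rfl⟩ := hB
  exact ⟨(g, k), by rw [Prod.orderOf_mk, h.lcm_eq_mul]⟩

/-- Let q ≥ 4 be a prime power and L = PSL(2,q). There is a finite solvable group with the same set of element orders as L × L (so L × L is not determined by its spectrum). -/
theorem result {F : Type*} [Field F] [Fintype F] (hF : 4 ≤ Fintype.card F) :
    ∃ (H : Type) (_ : Group H) (_ : Finite H), Group.IsSolvable H ∧
      Set.range (orderOf : H → ℕ) = Set.range (orderOf : Matrix.ProjectiveSpecialLinearGroup (Fin 2) F × Matrix.ProjectiveSpecialLinearGroup (Fin 2) F → ℕ) := by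
  obtain ⟨p, hp⟩ := CharP.exists F
  obtain ⟨k, hp', hq⟩ := FiniteField.card F p
  have := Fact.mk hp'
  have hs := S2475.result p hF
  set q := Fintype.card F
  set a := (q - 1) / Nat.gcd 2 (q - 1)
  set b := (q + 1) / Nat.gcd 2 (q - 1)
  have hpq : p ∣ q := hq ▸ dvd_pow_self p k.ne_zero
  have ha : a ∣ q - 1 := Nat.div_dvd_of_dvd (Nat.gcd_dvd_right _ _)
  have hd : Nat.gcd 2 (q - 1) ∣ q + 1 := by
    rw [show q + 1 = 2 + (q - 1) by omega]
    exact dvd_add (Nat.gcd_dvd_left _ _) (Nat.gcd_dvd_right _ _)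
  have hb : b ∣ q + 1 := Nat.div_dvd_of_dvd hd
  have hpa : p.Coprime a := Nat.Coprime.of_dvd hpq ha
    (by rw [show q = (q - 1) + 1 by omega]; simp)
  have hpb : p.Coprime b := Nat.Coprime.of_dvd hpq hb (by simp)
  have hab : a.Coprime b := by
    have h1 : Nat.gcd (q - 1) (q + 1) = Nat.gcd 2 (q - 1) := by
      rw [show q + 1 = 2 + (q - 1) by omega, Nat.gcd_add_self_right, Nat.gcd_comm]
    have h2 := Nat.coprime_div_gcd_div_gcd (m := q - 1) (n := q + 1)
      (Nat.gcd_pos_of_pos_right _ (by omega))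
    rwa [h1] at h2
  have ho : ∀ g : Matrix.ProjectiveSpecialLinearGroup (Fin 2) F, _ :=
    fun g => (Set.ext_iff.1 hs (orderOf g)).1 ⟨g, rfl⟩
  have e1 := (Set.ext_iff.1 hs _).2 (.inl dvd_rfl)
  have e2 := (Set.ext_iff.1 hs _).2 (.inr (.inl dvd_rfl))
  have e3 := (Set.ext_iff.1 hs _).2 (.inr (.inr dvd_rfl))
  obtain ⟨X, _, _, _, oX, pX, aX⟩ := exists_frob hp' (Nat.pos_of_dvd_of_pos ha (by omega)) hpa
  obtain ⟨Y, _, _, _, oY, pY, bY⟩ := exists_frob hp' (Nat.pos_of_dvd_of_pos hb (by omega)) hpb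
  refine ⟨X × Y, inferInstance, inferInstance, inferInstance, ?_⟩
  rw [range_prod ho ho (exists_prod hpa e1 e2) (exists_prod hpb e1 e3) (exists_prod hab e2 e3),
    range_prod (fun g => (oX g).imp_right .inl) (fun g => (oY g).imp_right .inr)
      (mul_comm a p ▸ exists_prod hpa.symm aX pY) (exists_prod hpb pX bY) (exists_prod hab aX bY)]

end Cfsg.Agent.S3532
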