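import Cfsg.Statements.S3548
import Cfsg.Agent.H77.Derange

set_option autoImplicit false
open Cfsg

namespace Cfsg.Agent.S3548

open Cfsg.Agent.H77 MulAction

theorem index_dvd {G Ω : Type*} [Group G] [Finite G] [MulAction G Ω] [Finite Ω]
    [IsPretransitive G Ω] (D : Subgroup G) [D.Normal] (hD : ∀ g : G, (∀ ω : Ω, g • ω ≠ ω) → g ∈ D)
    (a : Ω) : D.index ∣ Nat.card Ω - 1 := by
  have h := dvd_card_of_forall_orbit (G := stabilizer G a) ({a}ᶜ : Set Ω) (by
    intro g x hx hgx
    apply hx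
    rw [Set.mem_singleton_iff] at hgx ⊢
    rw [← inv_smul_smul g x, hgx]
    exact (g⁻¹).2) D.index (fun x hx => index_dvd_card_orbit D hD hx)
  have h2 := Set.ncard_add_ncard_compl ({a} : Set Ω)
  rw [Set.ncard_singleton] at h2
  rwa [show Nat.card Ω - 1 = ({a}ᶜ : Set Ω).ncard by omega]

theorem result {G Ω : Type*} [Group G] [Finite G] [MulAction G Ω] [FaithfulSMul G Ω] [Finite Ω]
    (htrans : MulAction.IsPretransitive G Ω) (hΩ : 2 ≤ Nat.card Ω) :
    (Subgroup.closure {g : G | ∀ ω : Ω, g • ω ≠ ω}).index ∣ Nat.card Ω - 1 ∧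
    ((Subgroup.closure {g : G | ∀ ω : Ω, g • ω ≠ ω}).index = Nat.card Ω - 1 → IsPrimePow (Nat.card Ω)) := by
  have hnt : Nontrivial Ω := Finite.one_lt_card_iff_nontrivial.mp hΩ
  obtain ⟨a⟩ : Nonempty Ω := inferInstance
  have hn := closure_derangements_normal (G := G) (Ω := Ω)
  set D := Subgroup.closure {g : G | ∀ ω : Ω, g • ω ≠ ω} with hDdef
  have hD : ∀ g : G, (∀ ω : Ω, g • ω ≠ ω) → g ∈ D := fun g hg => Subgroup.subset_closure hg
  refine ⟨index_dvd D hD a, fun hidx => ?_⟩
  have hDtr := (of_derangements_mem D hD).1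
  -- every non-trivial suborbit at `a` is everything, with stabiliser `D_a`
  have key : ∀ b : Ω, b ≠ a → orbit (stabilizer G a) b = {a}ᶜ ∧
      stabilizer (stabilizer G a) b = D.subgroupOf (stabilizer G a) := by
    intro b hb
    have hsub : orbit (stabilizer G a) b ⊆ {a}ᶜ := by
      rintro _ ⟨g, rfl⟩ hgx
      apply hb
      rw [Set.mem_singleton_iff] at hgx
      rw [← inv_smul_smul g b]
      dsimp only at hgx
      rw [hgx]
      exact (g⁻¹).2
    have h2 := Set.ncard_add_ncard_compl ({a} : Set Ω)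
    rw [Set.ncard_singleton] at h2
    have h3 := index_dvd_card_orbit D hD hb
    rw [Nat.card_coe_set_eq] at h3
    have h4 := Set.ncard_le_ncard hsub
    have h5 : 0 < (orbit (stabilizer G a) b).ncard :=
      (Set.ncard_pos (Set.toFinite _)).mpr ⟨b, mem_orbit_self b⟩
    have h6 := Nat.le_of_dvd h5 h3
    refine ⟨Set.eq_of_subset_of_ncard_le hsub (by omega), ?_⟩
    have hle : stabilizer (stabilizer G a) b ≤ D.subgroupOf (stabilizer G a) := fun x hx =>
      mem_of_two_fixed D hD hb hx x.2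
    apply Subgroup.eq_of_le_of_card_ge hle
    have h7 := (stabilizer (stabilizer G a) b).card_mul_index
    have h8 := (D.subgroupOf (stabilizer G a)).card_mul_index
    have h9 := relIndex_stabilizer_eq D a
    rw [Subgroup.relIndex] at h9
    rw [index_stabilizer] at h7
    rw [h9] at h8
    have h10 : (orbit (stabilizer G a) b).ncard = D.index := by omega
    rw [h10, ← h8] at h7
    exact (Nat.eq_of_mul_eq_mul_right (by omega) h7).ge
  have hreg : ∀ d ∈ D, d • a = a → d = 1 := by
    intro d hd hda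
    apply FaithfulSMul.eq_of_smul_eq_smul (α := Ω)
    intro b
    rw [one_smul]
    by_cases hb : b = a
    · rw [hb, hda]
    · have : (⟨d, hda⟩ : stabilizer G a) ∈ stabilizer (stabilizer G a) b := by
        rw [(key b hb).2]; exact hd
      exact this
  have hcard : Nat.card D = Nat.card Ω := by
    refine Nat.card_eq_of_bijective (fun d : D => d • a) ⟨fun d e h => ?_, fun b => ?_⟩
    · have := hreg _ (d⁻¹ * e).2 (by
        change (d⁻¹ * e) • a = a
        rw [mul_smul, inv_smul_eq_iff]; exact h.symm)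
      exact inv_mul_eq_one.mp (Subtype.ext this)
    · exact exists_smul_eq D a b
  have hconj : ∀ d ∈ D, ∀ e ∈ D, d ≠ 1 → e ≠ 1 → orderOf d = orderOf e := by
    intro d hd e he hd1 he1
    have h1 : e • a ∈ orbit (stabilizer G a) (d • a) := by
      rw [(key _ (fun h => hd1 (hreg d hd h))).1]
      exact fun h => he1 (hreg e he h)
    obtain ⟨h, hh⟩ := h1
    have h2 : e⁻¹ * ((h : G) * d * (h : G)⁻¹) = 1 := by
      apply hreg _ (D.mul_mem (D.inv_mem he) (hn.conj_mem d hd h))
      rw [mul_smul, inv_smul_eq_iff, mul_smul, mul_smul, show (h : G)⁻¹ • a = a from (h⁻¹).2]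
      exact hh
    rw [inv_mul_eq_one.mp h2]
    exact (SemiconjBy.orderOf_eq (h : G) (by simp [SemiconjBy]))
  rw [← hcard]
  have h1 : Nat.card D ≠ 1 := by omega
  obtain ⟨p, hp, hpd⟩ := Nat.exists_prime_and_dvd h1
  have := Fact.mk hp
  obtain ⟨x, hx⟩ := exists_prime_orderOf_dvd_card' p hpd
  have hx1 : (x : G) ≠ 1 := by
    intro h
    rw [show x = 1 from Subtype.ext h, orderOf_one] at hx
    exact hp.one_lt.ne hx
  have hP : IsPGroup p D := by
    intro y
    refine ⟨1, ?_⟩
    by_cases hy : (y : G) = 1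
    · rw [show y = 1 from Subtype.ext hy, one_pow]
    · have := hconj y y.2 x x.2 hy hx1
      rw [Subgroup.orderOf_coe, Subgroup.orderOf_coe, hx] at this
      rw [pow_one, ← this, pow_orderOf_eq_one]
  obtain ⟨n, hn⟩ := IsPGroup.iff_card.mp hP
  refine ⟨p, n, hp.prime, Nat.pos_of_ne_zero fun h => h1 (by rw [hn, h, pow_zero]), ?_⟩
  exact hn.symm

end Cfsg.Agent.S3548
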