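import Cfsg.Statements.S3549
import Cfsg.Agent.S3548

set_option autoImplicit false
open Cfsg

namespace Cfsg.Agent.S3549

open Cfsg.Agent.H77 MulAction
open scoped Pointwise

theorem result {G Ω : Type*} [Group G] [Finite G] [MulAction G Ω] [FaithfulSMul G Ω] [Finite Ω]
    (htrans : MulAction.IsPretransitive G Ω) (himp : ¬ MulAction.IsPreprimitive G Ω) :
    ((Subgroup.closure {g : G | ∀ ω : Ω, g • ω ≠ ω}).index : ℝ) ≤ Real.sqrt (Nat.card Ω) - 1 := by
  have hn := closure_derangements_normal (G := G) (Ω := Ω)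
  set D := Subgroup.closure {g : G | ∀ ω : Ω, g • ω ≠ ω} with hDdef
  have hD : ∀ g : G, (∀ ω : Ω, g • ω ≠ ω) → g ∈ D := fun g hg => Subgroup.subset_closure hg
  obtain ⟨B, hB, hBt⟩ : ∃ B : Set Ω, IsBlock G B ∧ ¬ IsTrivialBlock B := by
    by_contra h
    push Not at h
    exact himp ⟨fun {B} hB => h B hB⟩
  rw [IsTrivialBlock, not_or, Set.not_subsingleton_iff] at hBt
  obtain ⟨a, ha⟩ := hBt.1.nonempty
  have h1 := S3548.index_dvd D hD a
  have h2 := dvd_card_of_forall_orbit (G := stabilizer G a) (B \ {a}) (by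
    rintro g x ⟨hx, hxa⟩
    refine ⟨?_, fun hgx => hxa ?_⟩
    · have := hB.stabilizer_le ha g.2
      rw [mem_stabilizer_iff] at this
      rw [← this]
      exact Set.smul_mem_smul_set hx
    · rw [Set.mem_singleton_iff] at hgx ⊢
      rw [← inv_smul_smul g x, hgx]
      exact (g⁻¹).2) D.index (fun x hx => index_dvd_card_orbit D hD hx.2)
  rw [Set.ncard_diff_singleton_of_mem ha] at h2
  have h3 := hB.ncard_block_mul_ncard_orbit_eq ⟨a, ha⟩
  have h4 : 1 < B.ncard := (Set.one_lt_ncard_iff_nontrivial).mpr hBt.1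
  have h5 : B.ncard < Nat.card Ω := Set.ncard_lt_card hBt.2
  obtain ⟨x, hx⟩ : ∃ x, B.ncard = x + 1 := ⟨B.ncard - 1, by omega⟩
  obtain ⟨y, hy⟩ : ∃ y, (orbit G B).ncard = y + 1 := by
    refine ⟨(orbit G B).ncard - 1, ?_⟩
    have : (orbit G B).ncard ≠ 0 := by
      intro h; rw [h] at h3; omega
    omega
  rw [hx, hy] at h3
  rw [hx, Nat.add_sub_cancel] at h2
  have h6 : Nat.card Ω - 1 = x * (y + 1) + y := by rw [← h3]; ring_nf; omega
  rw [h6] at h1
  have h7 : D.index ∣ y := (Nat.dvd_add_right (h2.mul_right _)).mp h1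
  have hy0 : 0 < y := by
    rcases Nat.eq_zero_or_pos y with h | h
    · rw [h] at h3; omega
    · exact h
  have h8 := Nat.le_of_dvd (by omega) h2
  have h9 := Nat.le_of_dvd hy0 h7
  rw [le_sub_iff_add_le]
  apply Real.le_sqrt_of_sq_le
  have : (D.index + 1) ^ 2 ≤ Nat.card Ω := by rw [← h3]; nlinarith
  exact_mod_cast this

end Cfsg.Agent.S3549
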