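import Cfsg.Statements.S3550
import Cfsg.Agent.DER.Main

set_option autoImplicit false
open Cfsg

namespace Cfsg.Agent.S3550

open Subgroup MulAction

theorem small33 {G : Type*} [Group G] [Finite G] (h6 : Nat.card G ∣ 6) (h1 : Nat.card G ≠ 1) :
    ∃ N : Subgroup G, N.Normal ∧ IsMulCommutative N ∧ N ≠ ⊥ := by
  have key : ∀ p : ℕ, p.Prime → (Nat.card G = p ∨ Nat.card G = p * 2) →
      ∃ N : Subgroup G, N.Normal ∧ IsMulCommutative N ∧ N ≠ ⊥ := fun p hp h => by
    have : Fact p.Prime := ⟨hp⟩
    obtain ⟨g, hg⟩ := exists_prime_orderOf_dvd_card' (G := G) p (by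
      rcases h with h | h <;> rw [h]
      exact dvd_mul_right _ _)
    have h2 := (zpowers g).card_mul_index
    rw [Nat.card_zpowers, hg] at h2
    refine ⟨zpowers g, ?_, inferInstance, fun e => ?_⟩
    · rcases h with h | h
      · exact normal_of_index_eq_one (Nat.eq_of_mul_eq_mul_left hp.pos (by rw [h2, h, mul_one]))
      · exact normal_of_index_eq_two (Nat.eq_of_mul_eq_mul_left hp.pos (by rw [h2, h]))
    · rw [zpowers_eq_bot.1 e, orderOf_one] at hg
      exact hp.one_lt.ne hg
  have h2 : Nat.card G ≤ 6 := Nat.le_of_dvd (by norm_num) h6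
  have h3 : 0 < Nat.card G := Nat.card_pos
  have h4 := key 2 Nat.prime_two
  have h5 := key 3 Nat.prime_three
  generalize Nat.card G = n at *
  interval_cases n
  · exact absurd rfl h1
  · exact h4 (Or.inl rfl)
  · exact h5 (Or.inl rfl)
  · exact absurd h6 (by norm_num)
  · exact absurd h6 (by norm_num)
  · exact h5 (Or.inr rfl)

/-- Let G act faithfully and primitively on a finite set with n ≥ 2 points and suppose G has no non-trivial abelian normal subgroup (G is not of affine type). Let D be the subgroup generated by the derangements. Then the index of D in G is at most √n − 1. -/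
theorem result {G Ω : Type*} [Group G] [Finite G] [MulAction G Ω] [FaithfulSMul G Ω] [Finite Ω]
    (hprim : MulAction.IsPreprimitive G Ω) (hΩ : 2 ≤ Nat.card Ω) (hna : ∀ N : Subgroup G, N.Normal → IsMulCommutative ↥N → N = ⊥) :
    ((Subgroup.closure {g : G | ∀ ω : Ω, g • ω ≠ ω}).index : ℝ) ≤ Real.sqrt (Nat.card Ω) - 1 := by
  have hn := H77.closure_derangements_normal (G := G) (Ω := Ω)
  set D := Subgroup.closure {g : G | ∀ ω : Ω, g • ω ≠ ω} with hDdef
  have hD : ∀ g : G, (∀ ω : Ω, g • ω ≠ ω) → g ∈ D := fun g hg => Subgroup.subset_closure hg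
  refine DER.real_le (by_contra fun h => ?_)
  have h0 : D.index ≠ 0 := D.index_ne_zero_of_finite
  suffices ∃ N : Subgroup G, N.Normal ∧ IsMulCommutative N ∧ N ≠ ⊥ by
    obtain ⟨N, h1, h2, h3⟩ := this
    exact h3 (hna N h1 h2)
  by_cases hs : 2 ≤ D.index
  · exact (DER.main D hD hs hΩ (not_le.1 h)).1
  have h1 : D.index = 1 := by omega
  rw [h1] at h
  refine small33 ?_ fun e => ?_
  · have h2 := card_dvd_of_injective (toPermHom G Ω) toPerm_injective
    rw [Nat.card_perm] at h2
    exact h2.trans (Nat.factorial_dvd_factorial (n := 3) (by omega))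
  · have : Nontrivial Ω := Finite.one_lt_card_iff_nontrivial.1 hΩ
    obtain ⟨a, b, hab⟩ := exists_pair_ne Ω
    obtain ⟨g, hg⟩ := exists_smul_eq G a b
    have : Subsingleton G := (Nat.card_eq_one_iff_unique.1 e).1
    rw [Subsingleton.elim g 1, one_smul] at hg
    exact hab hg

end Cfsg.Agent.S3550
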