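import Cfsg.Statements.S3554

set_option autoImplicit false
open Cfsg

namespace Cfsg.Agent.S3554

/-- In a finite cyclic group two elements of the same order generate the same subgroup. -/
theorem mem_zpowers_of_orderOf_eq {C : Type*} [Group C] [Finite C] [IsCyclic C] {x y : C}
    (h : orderOf x = orderOf y) : y ∈ Subgroup.zpowers x := by
  classical
  have := Fintype.ofFinite C
  have h0 : 0 < orderOf x := orderOf_pos x
  have h1 := IsCyclic.card_pow_eq_one_le (α := C) h0
  have h2 : (Subgroup.zpowers x : Set C).toFinset ⊆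
      Finset.univ.filter (fun a : C => a ^ orderOf x = 1) := by
    intro a ha
    simp only [Set.mem_toFinset, SetLike.mem_coe] at ha
    simp only [Finset.mem_filter, Finset.mem_univ, true_and]
    exact orderOf_dvd_iff_pow_eq_one.mp (orderOf_dvd_of_mem_zpowers ha)
  have h3 : (Subgroup.zpowers x : Set C).toFinset.card = orderOf x := by
    rw [Set.toFinset_card, ← Nat.card_eq_fintype_card, ← Nat.card_zpowers]; rfl
  have h4 := Finset.eq_of_subset_of_card_le h2 (by omega)
  have : y ∈ (Subgroup.zpowers x : Set C).toFinset := by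
    rw [h4]; simp [h, pow_orderOf_eq_one]
  simpa using this

theorem result {G Ω : Type*} [Group G] [Finite G] [MulAction G Ω] [FaithfulSMul G Ω] [Finite Ω]
    (htrans : MulAction.IsPretransitive G Ω) (C : Subgroup G) (hC : C.Normal) (hC1 : C ≠ ⊥) (hcyc : IsCyclic ↥C) :
    ∃ g : G, (orderOf g).Prime ∧ ∀ ω : Ω, g • ω ≠ ω := by
  have h1 : Nat.card C ≠ 1 := fun h => hC1 (Subgroup.card_eq_one.mp h)
  obtain ⟨p, hp, hpd⟩ := Nat.exists_prime_and_dvd h1
  have := Fact.mk hp
  obtain ⟨x, hx⟩ := exists_prime_orderOf_dvd_card' p hpd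
  refine ⟨x, by rw [Subgroup.orderOf_coe, hx]; exact hp, fun ω hω => ?_⟩
  have hx1 : (x : G) = 1 := by
    apply FaithfulSMul.eq_of_smul_eq_smul (α := Ω)
    intro a
    obtain ⟨g, rfl⟩ := MulAction.exists_smul_eq G ω a
    let y : C := ⟨g⁻¹ * x * g⁻¹⁻¹, hC.conj_mem x x.2 g⁻¹⟩
    have hy : orderOf x = orderOf y := by
      rw [← Subgroup.orderOf_coe, ← Subgroup.orderOf_coe]
      exact SemiconjBy.orderOf_eq g⁻¹ (by simp [SemiconjBy, y])
    obtain ⟨k, hk⟩ := mem_zpowers_of_orderOf_eq hy
    have h2 : (x : G) ^ k ∈ MulAction.stabilizer G ω := Subgroup.zpow_mem _ hω k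
    have h3 : (x : G) ^ k = g⁻¹ * x * g⁻¹⁻¹ := by
      have := congrArg Subtype.val hk
      simpa [y] using this
    rw [h3, MulAction.mem_stabilizer_iff, inv_inv, mul_smul, mul_smul, inv_smul_eq_iff] at h2
    rw [h2, one_smul]
  rw [show x = 1 from Subtype.ext hx1, orderOf_one] at hx
  exact hp.one_lt.ne hx

end Cfsg.Agent.S3554
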