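import Cfsg.Statements.S3555
import Cfsg.Agent.H77.Derange

set_option autoImplicit false
open Cfsg

namespace Cfsg.Agent.S3555

open Cfsg.Agent.H77 MulAction
open scoped Pointwise

/-- If all derangements are involutions, no non-identity element fixes two points. -/
theorem card_fixedBy_le {G Ω : Type*} [Group G] [Finite G] [MulAction G Ω] [FaithfulSMul G Ω]
    [Finite Ω] [Nonempty Ω] [IsPretransitive G Ω]
    (hinv : ∀ g : G, (∀ ω : Ω, g • ω ≠ ω) → g * g = 1) (g : G) (hg : g ≠ 1) :
    Nat.card (fixedBy Ω g) ≤ 1 := by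
  classical
  have := Fintype.ofFinite G
  have := Fintype.ofFinite Ω
  let f : G → ℕ := fun g => (Finset.univ.filter fun a : Ω => g • a = a).card
  have hf : ∀ g, Nat.card (fixedBy Ω g) = f g := fun g => by
    rw [Nat.card_eq_fintype_card, Fintype.card_subtype]; rfl
  let D : Finset G := Finset.univ.filter fun g => ∀ ω : Ω, g • ω ≠ ω
  have h1 := sum_card_fixedBy (G := G) (Ω := Ω)
  rw [card_orbits_eq_one, one_mul, Nat.card_eq_fintype_card] at h1
  simp only [hf] at h1
  -- counting pairs
  have h2 : ∀ a b : Ω, (D.filter fun t => t • a = b).card ≤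
      (Finset.univ.filter fun g : G => a ≠ b ∧ g • a = a ∧ g • b = b).card := by
    intro a b
    rcases (D.filter fun t => t • a = b).eq_empty_or_nonempty with h | ⟨t, ht⟩
    · simp [h]
    have hsw : ∀ s ∈ D.filter fun t => t • a = b, s • a = b ∧ s • b = a ∧ a ≠ b := by
      intro s hs
      simp only [D, Finset.mem_filter, Finset.mem_univ, true_and] at hs
      refine ⟨hs.2, ?_, fun h => hs.1 a (hs.2.trans h.symm)⟩
      rw [← hs.2, ← mul_smul, hinv s hs.1, one_smul]
    apply Finset.card_le_card_of_injOn (fun s => t * s)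
    · intro s hs
      obtain ⟨h1, h2, h3⟩ := hsw s hs
      obtain ⟨h4, h5, -⟩ := hsw t ht
      simp [mul_smul, h1, h2, h3, h4, h5]
    · intro s _ s' _ h
      exact mul_left_cancel h
  have h3 : ∑ a : Ω, ∑ b : Ω, (D.filter fun t => t • a = b).card = Fintype.card Ω * D.card := by
    have : ∀ a : Ω, ∑ b : Ω, (D.filter fun t => t • a = b).card = D.card := fun a =>
      (Finset.card_eq_sum_card_fiberwise
        (f := fun t : G => t • a) (s := D) (t := Finset.univ) (by simp)).symm
    simp [this]
  have h4 : ∑ a : Ω, ∑ b : Ω, (Finset.univ.filter fun g : G => a ≠ b ∧ g • a = a ∧ g • b = b).card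
      + ∑ g, f g = ∑ g, f g * f g := by
    simp only [f, Finset.card_filter, Finset.sum_mul_sum]
    rw [Finset.sum_comm (s := Finset.univ (α := G)), Finset.sum_comm (s := Finset.univ (α := G)),
      ← Finset.sum_add_distrib]
    apply Finset.sum_congr rfl
    intro a _
    rw [Finset.sum_comm, ← Finset.sum_add_distrib]
    apply Finset.sum_congr rfl
    intro g _
    by_cases ha : g • a = a
    · simp only [ha, true_and, if_true, one_mul]
      rw [← Finset.sum_erase_add _ _ (Finset.mem_univ a), ← Finset.sum_erase_add _ _ (Finset.mem_univ a)]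
      simp only [ne_eq, not_true_eq_false, false_and, if_false, ha, if_true, add_zero]
      congr 1
      apply Finset.sum_congr rfl
      intro b hb
      simp [(Finset.ne_of_mem_erase hb).symm]
    · simp [ha]
  have h5 : Fintype.card Ω * D.card + ∑ g, f g ≤ ∑ g, f g * f g := by
    rw [← h3, ← h4]
    exact Nat.add_le_add_right (Finset.sum_le_sum fun a _ => Finset.sum_le_sum fun b _ => h2 a b) _
  have hfn : ∀ g, f g ≤ Fintype.card Ω := fun g => Finset.card_filter_le _ _
  have hfD : ∀ g, g ∈ D ↔ f g = 0 := fun g => by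
    simp [D, f, Finset.filter_eq_empty_iff]
  -- the non-negative terms
  let F : G → ℤ := fun g => if g ∈ D then 0 else ((Fintype.card Ω : ℤ) - f g) * (f g - 1)
  have hF0 : ∀ g ∈ (Finset.univ : Finset G), 0 ≤ F g := fun g _ => by
    by_cases h : g ∈ D
    · simp [F, h]
    · have h1 := hfn g
      have h2 := (hfD g).not.mp h
      simp only [F, h, if_false]
      apply mul_nonneg <;> omega
  have hF : ∑ g, F g = ∑ g, (((Fintype.card Ω : ℤ) + 1) * f g - f g * f g - Fintype.card Ω +
      if g ∈ D then (Fintype.card Ω : ℤ) else 0) := by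
    apply Finset.sum_congr rfl
    intro g _
    by_cases h : g ∈ D
    · simp [F, h, (hfD g).mp h]
    · simp only [F, h, if_false]; ring
  rw [Finset.sum_add_distrib, Finset.sum_sub_distrib, Finset.sum_sub_distrib, ← Finset.mul_sum,
    Finset.sum_ite_mem, Finset.univ_inter] at hF
  simp only [Finset.sum_const, Finset.card_univ, nsmul_eq_mul] at hF
  have h1' : ∑ g, (f g : ℤ) = Fintype.card G := by exact_mod_cast h1
  have h5' : (Fintype.card Ω : ℤ) * D.card + ∑ g, (f g : ℤ) ≤ ∑ g, (f g : ℤ) * f g := by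
    exact_mod_cast h5
  have h6 : ∑ g, F g = 0 := le_antisymm (by rw [hF, h1'] at *; nlinarith) (Finset.sum_nonneg hF0)
  have h7 := (Finset.sum_eq_zero_iff_of_nonneg hF0).mp h6 g (Finset.mem_univ g)
  rw [hf]
  by_cases h : g ∈ D
  · rw [(hfD g).mp h]; omega
  · simp only [F, h, if_false, mul_eq_zero] at h7
    rcases h7 with h7 | h7
    · exfalso
      apply hg
      have h8 : f g = Fintype.card Ω := by omega
      have h9 := Finset.eq_univ_of_card _ h8
      apply FaithfulSMul.eq_of_smul_eq_smul (α := Ω)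
      intro a
      have := h9 ▸ Finset.mem_univ a
      simpa using this
    · omega

theorem result {G Ω : Type*} [Group G] [Finite G] [MulAction G Ω] [FaithfulSMul G Ω] [Finite Ω]
    (htrans : MulAction.IsPretransitive G Ω) (hinv : ∀ g : G, (∀ ω : Ω, g • ω ≠ ω) → orderOf g = 2) :
    (IsMulCommutative G ∧ ∀ g : G, g ^ 2 = 1) ∨
    (∃ H : Subgroup G, Cfsg.IsFrobeniusComplement H ∧
      (∀ x ∈ Cfsg.frobeniusKernel H, x ^ 2 = 1) ∧
      ∀ x ∈ Cfsg.frobeniusKernel H, ∀ y ∈ Cfsg.frobeniusKernel H, x * y = y * x) := by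
  rcases isEmpty_or_nonempty Ω with h | h
  · have := hinv 1 fun a => h.elim a
    simp at this
  have hinv' : ∀ g : G, (∀ ω : Ω, g • ω ≠ ω) → g * g = 1 := fun g hg => by
    rw [← sq, ← hinv g hg, pow_orderOf_eq_one]
  have h2 : ∀ g : G, ∀ a b : Ω, a ≠ b → g • a = a → g • b = b → g = 1 := by
    intro g a b hab ha hb
    by_contra hg
    have h1 := card_fixedBy_le hinv' g hg
    have h2 := two_le_card_fixedBy hab ha hb
    omega
  have hcomm : ∀ x y : G, (∀ ω : Ω, x • ω ≠ ω) → (∀ ω : Ω, y • ω ≠ ω) → x * y = y * x := by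
    intro x y hx hy
    have hx2 := hinv' x hx
    have hy2 := hinv' y hy
    have hxy : x * y * (x * y) = 1 := by
      by_cases hd : ∀ ω : Ω, (x * y) • ω ≠ ω
      · exact hinv' _ hd
      · push Not at hd
        obtain ⟨ω, hω⟩ := hd
        have : x * y = 1 := by
          apply h2 _ ω (y • ω) (hy ω).symm hω
          have h3 : y • ω = x • ω := by
            rw [mul_smul] at hω
            rw [← one_smul G (y • ω), ← hx2, mul_smul, hω]
          rw [mul_smul, ← mul_smul y, hy2, one_smul, h3]
        rw [this, one_mul]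
    calc x * y = x * (x * y * (x * y)) * y := by rw [hxy, mul_one]
      _ = (x * x) * (y * x) * (y * y) := by group
      _ = y * x := by rw [hx2, hy2, one_mul, mul_one]
  obtain ⟨a⟩ := h
  by_cases hH : stabilizer G a = ⊥
  · left
    have hd : ∀ g : G, g ≠ 1 → ∀ ω : Ω, g • ω ≠ ω := by
      intro g hg ω hω
      obtain ⟨k, rfl⟩ := exists_smul_eq G a ω
      have : k⁻¹ * g * k ∈ stabilizer G a := by
        rw [mem_stabilizer_iff, mul_smul, mul_smul, hω, inv_smul_smul]
      rw [hH, Subgroup.mem_bot] at this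
      apply hg
      have h3 : g = k * (k⁻¹ * g * k) * k⁻¹ := by group
      rw [h3, this]; simp
    refine ⟨⟨⟨fun x y => ?_⟩⟩, fun g => ?_⟩
    · by_cases hx : x = 1
      · simp [hx]
      by_cases hy : y = 1
      · simp [hy]
      exact hcomm x y (hd x hx) (hd y hy)
    · by_cases hg : g = 1
      · simp [hg]
      · rw [sq, hinv' g (hd g hg)]
  right
  have hmem : ∀ g x : G, x ∈ MulAut.conj g • stabilizer G a ↔ x • g • a = g • a := by
    intro g x
    rw [Subgroup.mem_pointwise_smul_iff_inv_smul_mem, mem_stabilizer_iff]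
    simp [mul_smul, inv_smul_eq_iff]
  have hker : ∀ x ∈ frobeniusKernel (stabilizer G a), x = 1 ∨ ∀ ω : Ω, x • ω ≠ ω := by
    rintro x (hx | hx)
    · exact Or.inl hx
    · refine Or.inr fun ω hω => ?_
      obtain ⟨k, rfl⟩ := exists_smul_eq G a ω
      exact hx k ((hmem k x).mpr hω)
  refine ⟨stabilizer G a, ⟨hH, fun htop => hH ?_, fun g hg => ?_⟩, fun x hx => ?_,
    fun x hx y hy => ?_⟩
  · rw [Subgroup.eq_bot_iff_forall]
    intro x _
    apply FaithfulSMul.eq_of_smul_eq_smul (α := Ω)
    intro b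
    obtain ⟨k, rfl⟩ := exists_smul_eq G a b
    have h1 : x * k ∈ stabilizer G a := htop ▸ Subgroup.mem_top _
    have h2 : k ∈ stabilizer G a := htop ▸ Subgroup.mem_top _
    rw [one_smul, ← mul_smul, h1, h2]
  · rw [Subgroup.eq_bot_iff_forall]
    intro x hx
    exact h2 x a (g • a) (fun h => hg h.symm) hx.1 ((hmem g x).mp hx.2)
  · rcases hker x hx with h | h
    · simp [h]
    · rw [sq, hinv' x h]
  · rcases hker x hx with h | h
    · simp [h]
    rcases hker y hy with h' | h'
    · simp [h']
    exact hcomm x y h h'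

end Cfsg.Agent.S3555
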