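import Cfsg.Statements.S3556
import Cfsg.Agent.H77.ONS
import Cfsg.Agent.H2.MinNormal

set_option autoImplicit false
open Cfsg

namespace Cfsg.Agent.S3556

open Cfsg.Agent.H77

theorem result {G Ω : Type*} [Group G] [Finite G] [MulAction G Ω] [FaithfulSMul G Ω] [Finite Ω]
    (hprim : MulAction.IsPreprimitive G Ω) (hΩ : 2 ≤ Nat.card Ω) (p : ℕ) (hp : p.Prime)
    (hder : ∀ g : G, (∀ ω : Ω, g • ω ≠ ω) → ∃ k : ℕ, orderOf g = p ^ k) :
    (∃ (N : Subgroup G) (r : ℕ), r.Prime ∧ N.Normal ∧ Cfsg.IsElementaryAbelian r N ∧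
      MulAction.IsPretransitive N Ω ∧ ∀ a : Ω, MulAction.stabilizer N a = ⊥) ∨
    (∃ T : Subgroup G, T.Normal ∧ IsSimpleGroup ↥T ∧ ¬ IsMulCommutative ↥T ∧
      Subgroup.centralizer (T : Set G) = ⊥) := by
  have hnt : Nontrivial Ω := Finite.one_lt_card_iff_nontrivial.mp hΩ
  have hG : Nontrivial G := by
    obtain ⟨a, b, hab⟩ := exists_pair_ne Ω
    obtain ⟨g, hg⟩ := MulAction.exists_smul_eq G a b
    exact ⟨g, 1, fun h => hab (by rw [← hg, h, one_smul])⟩
  obtain ⟨N, hn, hN1, hmin⟩ := H2.exists_minimal_normal (G := G)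
  have hN : MinNormal N := ⟨hn, hN1, hmin⟩
  by_cases hc : IsMulCommutative N
  · left
    obtain ⟨r, hr, hrN⟩ := H2.minimal_normal_exponent_of_comm N hc hN1 hmin
    refine ⟨N, r, hr, hn, ⟨hc, hrN⟩, ⟨fun a b => ?_⟩, fun a => ?_⟩
    · obtain ⟨n, hn, h⟩ := exists_smul_eq_of_normal hprim hn hN1 a b
      exact ⟨⟨n, hn⟩, h⟩
    · rw [Subgroup.eq_bot_iff_forall]
      intro x hx
      exact Subtype.ext (eq_one_of_comm_of_trans (exists_smul_eq_of_normal hprim hn hN1 a)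
        (fun n hn => H2.mul_comm_of_mem hc x.2 hn) hx)
  right
  obtain ⟨T, hT⟩ := exists_factor hN1
  obtain ⟨α⟩ : Nonempty Ω := inferInstance
  have hTs := hT.simple hN
  rcases ons_dichotomy hprim hN hc hT α with h | ⟨⟨s, hs, hs1, hsα⟩, -, t, ht, htd⟩
  · exfalso
    obtain ⟨x, hx, hxp⟩ := exists_prime_orderOf_ne (hT.not_comm hN hc) hp
    have hx1 : (x : G) ≠ 1 := by
      intro h1
      have : x = 1 := Subtype.ext h1
      rw [this, orderOf_one] at hx
      exact Nat.not_prime_one hx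
    obtain ⟨k, hk⟩ := hder x (h x x.2 hx1)
    rw [Subgroup.orderOf_coe] at hk
    rw [hk] at hx hxp
    exact hxp (by rw [(Nat.Prime.eq_one_of_pow hx), pow_one])
  by_cases hTN : T = N
  · subst hTN
    exact ⟨T, hn, hTs, hc, centralizer_eq_bot_of_fixed hprim hn hs hs1 hsα⟩
  exfalso
  obtain ⟨g, hg⟩ := hT.exists_cj_ne hN hTN
  have hU := hT.conj hn g
  have hcomm := (hT.eq_or_comm hU).resolve_left (Ne.symm hg)
  have := hU.simple hN
  obtain ⟨x, hx, hxp⟩ := exists_prime_orderOf_ne (hU.not_comm hN hc) hp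
  have hxs : ∀ s ∈ T, (x : G) * s = s * x := fun s hs => (hcomm s hs x x.2).symm
  obtain ⟨k, hk⟩ := hder (t * x) (htd x (hU.le x.2) hxs)
  have h1 : (t * x) ^ (p ^ k) = 1 := by rw [← hk, pow_orderOf_eq_one]
  rw [Commute.mul_pow (hcomm t ht x x.2)] at h1
  have h2 : t ^ (p ^ k) = 1 := by
    refine hT.comp_unique hN hc (T.pow_mem ht _) T.one_mem (c := (x : G) ^ (p ^ k)) (c' := 1)
      (fun s hs => ?_) (by simp) (by simpa using h1)
    exact (Commute.pow_left (hxs s hs) _)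
  rw [h2, one_mul] at h1
  have h3 : orderOf x ∣ p ^ k := by
    rw [← Subgroup.orderOf_coe]
    exact orderOf_dvd_of_pow_eq_one h1
  exact hxp ((Nat.prime_dvd_prime_iff_eq hx hp).mp (hx.dvd_of_dvd_pow h3))

end Cfsg.Agent.S3556
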