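import Cfsg.Statements.S3557
import Cfsg.Agent.H3.PGroup

set_option autoImplicit false
open Cfsg

namespace Cfsg.Agent.S3557

open MulAction Subgroup

section

variable {P Ω : Type*} [Group P] [Finite P] [MulAction P Ω] {p : ℕ} [hp : Fact p.Prime]

omit [Finite P] hp in
theorem mem_core {b : Ω} {k : P} :
    k ∈ (stabilizer P b).normalCore ↔ ∀ c ∈ orbit P b, k • c = c := by
  constructor
  · rintro h _ ⟨g, rfl⟩
    have := mem_stabilizer_iff.1 (h g⁻¹)
    rw [inv_inv, mul_smul, mul_smul, inv_smul_eq_iff] at this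
    exact this
  · intro h g
    rw [mem_stabilizer_iff, mul_smul, mul_smul, h _ (mem_orbit _ _), smul_inv_smul]

omit [Finite P] hp in
/-- an element central modulo the kernel on an orbit which fixes a point lies in the kernel -/
theorem mem_of_fix {b c : Ω} {w : P}
    (hw : ∀ g : P, g⁻¹ * w * g * w⁻¹ ∈ (stabilizer P b).normalCore) (hc : c ∈ orbit P b)
    (h : w • c = c) : w ∈ (stabilizer P b).normalCore := by
  refine mem_core.2 fun d hd => ?_
  obtain ⟨g, rfl⟩ : d ∈ orbit P c := (orbit_eq_iff.2 hc).symm ▸ hd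
  have := mem_core.1 (hw g) c hc
  rw [mul_smul, inv_smul_eq_iff.2 h.symm, mul_smul, mul_smul, inv_smul_eq_iff] at this
  exact this

theorem core [FaithfulSMul P Ω] (hP : IsPGroup p P) {a b : Ω}
    (hb : ∀ c, c ∉ orbit P a ↔ c ∈ orbit P b) (ia : (stabilizer P a).index = p ^ 2)
    (ib : (stabilizer P b).index = p ^ 2) (h0 : (stabilizer P b).normalCore ≠ ⊥) :
    ∃ σ : Equiv.Perm Ω, (∀ c d : Ω, ∃ g : P, σ c = g • c ∧ σ d = g • d) ∧ σ ^ p = 1 ∧
      ∀ c, σ c ≠ c := by
  classical
  set K := (stabilizer P b).normalCore with hK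
  obtain ⟨z, hzK, hz, hzo⟩ := H3.exists_mem_center_orderOf_eq hP K h0
  have z1 : z ≠ 1 := fun e => hp.out.ne_one (by rw [← hzo, e, orderOf_one])
  have zc := mem_center_iff.1 hz
  have zf : ∀ c ∈ orbit P a, z • c ≠ c := fun c hc h => z1 (eq_of_smul_eq_smul fun d : Ω => by
    rw [one_smul]
    by_cases hd : d ∈ orbit P a
    · exact mem_core.1 (mem_of_fix (fun g => by rw [mul_assoc g⁻¹, ← zc]; simp) hc h) d hd
    · exact mem_core.1 hzK d ((hb d).1 hd))
  have : (zpowers z).Normal := ⟨fun x hx g => by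
    rw [mem_center_iff.1 (zpowers_le.2 hz hx) g, mul_inv_cancel_right]; exact hx⟩
  set M := zpowers z ⊔ stabilizer P a with hM
  have iM : M.index ∣ p := by
    have h1 := relIndex_mul_index (le_sup_right : stabilizer P a ≤ M)
    rw [ia] at h1
    obtain ⟨k, hk, e⟩ := (Nat.dvd_prime_pow hp.out).1 (Dvd.intro_left _ h1)
    rw [e]
    interval_cases k
    · simp
    · simp
    · rw [e] at h1
      have h2 := relIndex_eq_one.1 (Nat.eq_of_mul_eq_mul_right (pow_pos hp.out.pos 2)
        (h1.trans (one_mul _).symm))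
      exact absurd (h2 (mem_sup_left (mem_zpowers z))) (zf a (mem_orbit_self a))
  have nM : M.Normal := by
    rcases (Nat.dvd_prime hp.out).1 iM with e | e
    · rw [index_eq_one.1 e]; infer_instance
    · obtain ⟨n, hn⟩ := hP.exists_card_eq
      refine normal_of_index_eq_minFac_card ?_
      have hn0 : n ≠ 0 := fun e0 => by
        have := M.index_dvd_card
        rw [e, hn, e0, pow_zero] at this
        exact hp.out.ne_one (Nat.dvd_one.1 this)
      rw [e, hn, Nat.pow_minFac hn0, hp.out.minFac_eq]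
  have hMK : M.map (QuotientGroup.mk' K) ≠ ⊥ := fun e => by
    rw [Subgroup.map_eq_bot_iff, QuotientGroup.ker_mk'] at e
    have := (index_dvd_of_le (e.trans (normalCore_le _))).trans iM
    rw [ib] at this
    have h2 := Nat.le_of_dvd hp.out.pos this
    have := hp.out.one_lt
    nlinarith
  have := nM.map _ (QuotientGroup.mk'_surjective K)
  obtain ⟨_, ⟨w, hwM, rfl⟩, hw, hwo⟩ := H3.exists_mem_center_orderOf_eq (hP.to_quotient K) _ hMK
  have wK : w ∉ K := fun e => hp.out.ne_one (by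
    rw [← hwo, QuotientGroup.mk'_apply, (QuotientGroup.eq_one_iff w).2 e, orderOf_one])
  have wp : w ^ p ∈ K := (QuotientGroup.eq_one_iff _).1 (by
    rw [← QuotientGroup.mk'_apply, map_pow, ← hwo, pow_orderOf_eq_one])
  have wc : ∀ g : P, g⁻¹ * w * g * w⁻¹ ∈ K := fun g => (QuotientGroup.eq_one_iff _).1 (by
    rw [← QuotientGroup.mk'_apply, map_mul, map_mul, map_mul, mul_assoc (QuotientGroup.mk' K g⁻¹),
      ← mem_center_iff.1 hw]
    simp)
  have st : ∀ (g : P) (c : Ω), g • c ∈ orbit P a ↔ c ∈ orbit P a := fun g c =>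
    ⟨fun h => by simpa using mapsTo_smul_orbit g⁻¹ a h, fun h => mapsTo_smul_orbit g a h⟩
  have mix : ∀ c ∈ orbit P a, ∀ d ∉ orbit P a, ∃ g : P, z • c = g • c ∧ w • d = g • d := by
    rintro _ ⟨h, rfl⟩ d hd
    obtain ⟨y, hy, s, hs, e⟩ := mem_sup_of_normal_left.1 (nM.conj_mem' w hwM h)
    refine ⟨z * y⁻¹ * w, ?_, (mem_core.1 (mul_mem hzK (inv_mem (zpowers_le.2 hzK hy))) _
      ((hb _).1 (mt (st w d).1 hd))).symm.trans (mul_smul _ _ _).symm⟩
    have e2 : w * h = y * h * s := by
      rw [← mem_center_iff.1 (zpowers_le.2 hz hy) h, mul_assoc, e]; group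
    change z • h • a = (z * y⁻¹ * w) • h • a
    rw [mul_smul, ← mul_smul w, e2, mul_smul, mul_smul, mem_stabilizer_iff.1 hs, mul_smul,
      inv_smul_smul]
  let f : P → P → Ω → Ω := fun x y c => if c ∈ orbit P a then x • c else y • c
  have hf : ∀ x y x' y' c, f x y (f x' y' c) = f (x * x') (y * y') c := fun x y x' y' c => by
    by_cases hc : c ∈ orbit P a <;> simp only [f, hc, st, if_true, if_false, mul_smul]
  have f1 : ∀ c, f 1 1 c = c := fun c => by simp [f]
  let σ : Equiv.Perm Ω := ⟨f z w, f z⁻¹ w⁻¹, fun c => by rw [hf, inv_mul_cancel, inv_mul_cancel, f1],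
    fun c => by rw [hf, mul_inv_cancel, mul_inv_cancel, f1]⟩
  have hσ : ∀ n c, (σ ^ n) c = f (z ^ n) (w ^ n) c := fun n => by
    induction n with
    | zero => intro c; simp [f1]
    | succ n ih => intro c; rw [pow_succ, Equiv.Perm.mul_apply, ih, pow_succ, pow_succ, ← hf]; rfl
  have s1 : ∀ c ∈ orbit P a, σ c = z • c := fun c hc => if_pos hc
  have s2 : ∀ c ∉ orbit P a, σ c = w • c := fun c hc => if_neg hc
  refine ⟨σ, fun c d => ?_, Equiv.ext fun c => ?_, fun c => ?_⟩
  · by_cases hc : c ∈ orbit P a <;> by_cases hd : d ∈ orbit P a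
    · exact ⟨z, s1 c hc, s1 d hd⟩
    · rw [s1 c hc, s2 d hd]; exact mix c hc d hd
    · rw [s2 c hc, s1 d hd]; exact (mix d hd c hc).imp fun _ h => h.symm
    · exact ⟨w, s2 c hc, s2 d hd⟩
  · rw [hσ, ← hzo, pow_orderOf_eq_one, hzo]
    by_cases hc : c ∈ orbit P a
    · exact (if_pos hc).trans (one_smul _ _)
    · exact (if_neg hc).trans (mem_core.1 wp c ((hb c).1 hc))
  · by_cases hc : c ∈ orbit P a
    · rw [s1 c hc]; exact zf c hc
    · rw [s2 c hc]; exact fun h => wK (mem_of_fix wc ((hb c).1 hc) h)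

theorem central (hP : IsPGroup p P) [Nontrivial P] (h : ∀ c : Ω, (stabilizer P c).normalCore = ⊥) :
    ∃ z : P, orderOf z = p ∧ ∀ c : Ω, z • c ≠ c := by
  obtain ⟨z, -, hz, hzo⟩ := H3.exists_mem_center_orderOf_eq hP ⊤ top_ne_bot
  refine ⟨z, hzo, fun c hc => hp.out.ne_one ?_⟩
  have := mem_of_fix (fun g => by rw [mul_assoc g⁻¹, ← mem_center_iff.1 hz]; simp)
    (mem_orbit_self c) hc
  rw [h, mem_bot] at this
  rw [← hzo, this, orderOf_one]

end

/-- Let G act faithfully and transitively on a finite set with 2p² points, p a prime, and suppose G is 2-closed: every permutation of the set which, on each ordered pair of points, agrees with some element of G, is itself induced by an element of G. Then some element of G of prime order fixes no point. -/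
theorem result {G Ω : Type*} [Group G] [Finite G] [MulAction G Ω] [FaithfulSMul G Ω] [Finite Ω]
    (htrans : MulAction.IsPretransitive G Ω) (p : ℕ) (hp : p.Prime) (hcard : Nat.card Ω = 2 * p ^ 2)
    (hcl : ∀ σ : Equiv.Perm Ω, (∀ a b : Ω, ∃ g : G, σ a = g • a ∧ σ b = g • b) → ∃ g : G, ∀ a : Ω, σ a = g • a) :
    ∃ g : G, (orderOf g).Prime ∧ ∀ ω : Ω, g • ω ≠ ω := by
  classical
  have := Fact.mk hp
  obtain ⟨P⟩ : Nonempty (Sylow p G) := inferInstance
  have hd : ∀ a : Ω, p ^ 2 ∣ (stabilizer (P : Subgroup G) a).index := fun a => by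
    have h1 := relIndex_mul_index (inf_le_right : stabilizer G a ⊓ (P : Subgroup G) ≤ P)
    have h2 := index_dvd_of_le (inf_le_left : stabilizer G a ⊓ (P : Subgroup G) ≤ _)
    rw [← h1, index_stabilizer_of_transitive, hcard, inf_relIndex_right] at h2
    exact (Nat.Coprime.pow_left 2 (hp.coprime_iff_not_dvd.2 P.not_dvd_index)).dvd_of_dvd_mul_right
      ((Dvd.intro_left 2 rfl).trans h2)
  have p2 : 0 < p ^ 2 := pow_pos hp.pos 2
  obtain ⟨a⟩ : Nonempty Ω := (Nat.card_pos_iff.1 (by omega)).1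
  by_cases h0 : ∀ c : Ω, (stabilizer (P : Subgroup G) c).normalCore = ⊥
  · have : Nontrivial (P : Subgroup G) := by
      by_contra hn
      rw [not_nontrivial_iff_subsingleton] at hn
      have := hd a
      rw [Subsingleton.elim (stabilizer (P : Subgroup G) a) ⊤, index_top, Nat.dvd_one,
        Nat.pow_eq_one] at this
      exact this.elim hp.ne_one (by decide)
    obtain ⟨z, hz, hf⟩ := central P.isPGroup' h0
    exact ⟨z, by rwa [orderOf_coe, hz], hf⟩
  obtain ⟨b, hb⟩ := not_forall.1 h0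
  have pos : ∀ c : Ω, p ^ 2 ≤ (orbit (P : Subgroup G) c).ncard := fun c => by
    rw [← index_stabilizer]
    exact Nat.le_of_dvd (Nat.pos_of_ne_zero index_ne_zero_of_finite) (hd c)
  obtain ⟨a, ha⟩ : ∃ a, a ∉ orbit (P : Subgroup G) b := by
    by_contra hn
    push Not at hn
    refine hb (eq_bot_iff.2 fun k hk => Subtype.ext (eq_of_smul_eq_smul fun d : Ω => ?_))
    exact (mem_core.1 hk d (hn d)).trans (one_smul G d).symm
  have hs : orbit (P : Subgroup G) a ⊆ (orbit (P : Subgroup G) b)ᶜ := fun c hc hc' =>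
    ha ((orbit_eq_iff.2 hc').symm ▸ (orbit_eq_iff.2 hc).symm ▸ mem_orbit_self a)
  have c1 := Set.ncard_add_ncard_compl (orbit (P : Subgroup G) b)
  have c2 := Set.ncard_le_ncard hs
  have c3 := pos a
  have c4 := pos b
  have e := Set.eq_of_subset_of_ncard_le hs (by omega)
  obtain ⟨σ, h1, h2, h3⟩ := core (P := (P : Subgroup G)) P.isPGroup' (a := a) (b := b)
    (fun c => by rw [e, Set.mem_compl_iff, not_not]) (by rw [index_stabilizer]; omega)
    (by rw [index_stabilizer]; omega) hb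
  obtain ⟨g, hg⟩ := hcl σ fun c d => (h1 c d).elim fun g h => ⟨g, h⟩
  have e2 : σ = toPermHom G Ω g := Equiv.ext hg
  refine ⟨g, ?_, fun c => hg c ▸ h3 c⟩
  rw [← orderOf_injective (toPermHom G Ω) toPerm_injective, ← e2,
    orderOf_eq_prime h2 fun e => h3 a (by rw [e]; rfl)]
  exact hp

end Cfsg.Agent.S3557
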