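import Cfsg.Statements.S3598
import Cfsg.Agent.H65.SL2Unip
import Cfsg.Agent.H12.TwoTr
import Cfsg.Agent.S0742
import Cfsg.Agent.S3378
import Cfsg.Agent.S0494
import Cfsg.Agent.H6.DefectZero
import Cfsg.Agent.H5.Burnside
import Cfsg.Agent.H9.Transport
import Cfsg.Agent.H9.SLBasic

set_option autoImplicit false
open Cfsg

namespace Cfsg.Agent.S3598

open Subgroup MulAction

/-- Degrees of `PSL(2,q)`, `q ≡ 1 mod 4`. -/
theorem psl_deg {F : Type*} [Field F] [Fintype F] {k : ℕ} (hq : Fintype.card F = 4 * k + 1)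
    (χ : IrrCharacter (Matrix.ProjectiveSpecialLinearGroup (Fin 2) F)) {n : ℕ} (hn : χ.1 1 = n) :
    n = 1 ∨ n = 4 * k + 1 ∨ n = 4 * k + 2 ∨ n = 4 * k ∨ n = 2 * k + 1 := by
  classical
  obtain ⟨a, b, _, ⟨ι⟩⟩ := H65.exists_quad F
  have h1 := H5.isIrrCharacter_inflate (Subgroup.center _) χ.2
  have h4 : ((fun g : Matrix.SpecialLinearGroup (Fin 2) F =>
      χ.1 (QuotientGroup.mk g)) 1).re = n := by
    change (χ.1 1).re = n
    simp [hn]
  rcases H65.sl_irr_cases_re ι h1 with h | h | h | h | h | h <;> rw [h4] at h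
  · exact Or.inl (by exact_mod_cast h.1)
  · exact Or.inr (Or.inl (by rw [← hq]; exact_mod_cast h.1))
  · have : n = Fintype.card F + 1 := by exact_mod_cast h.1
    omega
  · have : n + 1 = Fintype.card F := by exact_mod_cast eq_sub_iff_add_eq.1 h.1
    omega
  · have : 2 * n = Fintype.card F + 1 := by exact_mod_cast h.1
    omega
  · exfalso
    obtain ⟨h0, ψ, ν, a1, a2, h⟩ := h
    have hc : (-1 : Fˣ) = (-1)⁻¹ := by simp
    have := H65.finite_quad a b
    have h5 := (H65.apply_eq_one_iff_of_sq a1 a2 ⟨_, H65.scU_mem hc⟩).2 (by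
      rw [H65.card_ker_normU, hq, show (4 * k + 1 + 1) / 2 = 2 * k + 1 by omega]
      intro e
      have e1 := congrArg Subtype.val e
      rw [Subgroup.coe_pow, ← map_pow, (Odd.neg_one_pow ⟨k, rfl⟩), OneMemClass.coe_one,
        map_eq_one_iff _ H65.scU_injective] at e1
      have e2 : (2 : F) = 0 := by
        have := congrArg Units.val e1
        simp only [Units.val_neg, Units.val_one] at this
        linear_combination -this
      have e3 : ((4 * k + 1 : ℕ) : F) = 0 := hq ▸ FiniteField.cast_card_eq_zero F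
      push_cast at e3
      exact one_ne_zero (by linear_combination e3 - 2 * k * e2 : (1 : F) = 0))
    have h6 := h.two_mul_bs_zero (-1)
    rw [H65.CuspS_scalar ι ψ hc, h5, (QuotientGroup.eq_one_iff _).2 (H65.bs_mem_center hc), hn]
      at h6
    have h7 := congrArg Complex.re h6
    simp at h7
    have h8 : (2 : ℝ) ≤ Fintype.card F := by exact_mod_cast Fintype.one_lt_card
    linarith

theorem psl_one {F : Type*} [Field F] [Fintype F] (hq : 4 ≤ Fintype.card F)
    (χ : IrrCharacter (Matrix.ProjectiveSpecialLinearGroup (Fin 2) F)) (hn : χ.1 1 = 1) :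
    χ.1 = fun _ => 1 := by
  classical
  ext x
  obtain ⟨g, rfl⟩ := QuotientGroup.mk_surjective x
  exact congrFun (H65.eq_one_of_degree hq (H5.isIrrCharacter_inflate (Subgroup.center _) χ.2) hn) g

theorem a5 {G : Type*} [Group G] [Finite G] (h : Nat.card G = 60)
    (h1 : ∀ χ : IrrCharacter G, χ.1 1 = 1 → χ.1 = fun _ => 1) :
    Nonempty (G ≃* alternatingGroup (Fin 5)) := by
  have : Nontrivial G := Finite.one_lt_card_iff_nontrivial.mp (by omega)
  have := S3378.simple_of_card_60 h fun hs => (Group.IsSolvable.commutator_lt_top_of_nontrivial G).ne (by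
    rw [← index_eq_one, ← H5.card_monoidHom_eq_index_commutator,
      Nat.card_congr (H5.linearCharEquiv G), Nat.card_eq_one_iff_exists]
    exact ⟨⟨⟨_, H5.isIrrCharacter_one⟩, rfl⟩, fun χ => Subtype.ext (Subtype.ext (h1 χ.1 χ.2))⟩)
  exact S0494.result h

theorem recog {G : Type*} [Group G] [Finite G] {p k : ℕ} (hp : p.Prime) (hq : p ^ 2 = 4 * k + 1)
    (hG : Nat.card G = (4 * k + 1) * (4 * k * (2 * k + 1)))
    (ho : ∀ (g : G) (r : ℕ), r.Prime → p ∣ orderOf g → r ∣ orderOf g → r = p) :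
    ∃ (K : Type) (_ : Field K) (_ : Fintype K), Fintype.card K = 4 * k + 1 ∧
      Nonempty (G ≃* Matrix.ProjectiveSpecialLinearGroup (Fin 2) K) := by
  classical
  have : Fact p.Prime := ⟨hp⟩
  have k1 : 1 ≤ k := by have := hp.two_le; nlinarith
  have c1 : (4 * k + 1).Coprime (4 * k * (2 * k + 1)) := Nat.Coprime.mul_right (by simp)
    (by rw [show 4 * k + 1 = 2 * k + (2 * k + 1) by ring]; simp)
  have cP : ∀ P : Sylow p G, Nat.card P = p ^ 2 := fun P => by
    rw [P.card_eq_multiplicity, hG, ← hq, Nat.factorization_mul_of_coprime (hq ▸ c1),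
      Finsupp.add_apply, hp.factorization_pow, Finsupp.single_eq_same,
      Nat.factorization_eq_zero_of_not_dvd ((Nat.Prime.coprime_iff_not_dvd hp).1
        (Nat.Coprime.coprime_dvd_left (hq ▸ dvd_pow_self p two_ne_zero) c1))]
  have ce : ∀ (P : Sylow p G) {x : G}, x ∈ P → x ≠ 1 → centralizer {x} = P := fun P x hx x1 => by
    have h1 : (P : Subgroup G) ≤ centralizer {x} := fun y hy => mem_centralizer_singleton_iff.2
      (congrArg Subtype.val ((IsPGroup.isMulCommutative_of_card_eq_prime_sq (cP P)).is_comm.comm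
        (⟨y, hy⟩ : (P : Subgroup G)) ⟨x, hx⟩))
    refine P.is_maximal' (IsPGroup.iff_card.2 ⟨_, Nat.eq_prime_pow_of_unique_prime_dvd
      Nat.card_pos.ne' fun {r} hr hd => ?_⟩) h1
    by_contra hne
    have : Fact r.Prime := ⟨hr⟩
    obtain ⟨y, hy⟩ := exists_prime_orderOf_dvd_card' r hd
    obtain ⟨j, hj⟩ := IsPGroup.iff_orderOf.1 P.2 ⟨x, hx⟩
    rw [← orderOf_coe] at hy hj
    have j0 : j ≠ 0 := by rintro rfl; exact x1 (by simpa using hj)
    have h2 := Commute.orderOf_mul_eq_mul_orderOf_of_coprime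
      (mem_centralizer_singleton_iff.1 y.2) (by
        rw [hy, hj]; exact ((Nat.coprime_primes hr hp).2 hne).pow_right _)
    exact hne (ho (y * x) r hr (by rw [h2, hj]; exact (dvd_pow_self p j0).mul_left _)
      (by rw [h2, hy]; exact dvd_mul_right _ _))
  have fr : ∀ (P Q : Sylow p G) {u : G}, u ∈ P → u • Q = Q → Q ≠ P → u = 1 :=
    fun P Q u hu e hne => by_contra fun u1 => by
      have h1 : u ∈ Q := (P.2.inf_normalizer_sylow Q).le ⟨hu, Sylow.smul_eq_iff_mem_normalizer.1 e⟩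
        |>.2
      exact hne (Sylow.ext ((ce Q h1 u1).symm.trans (ce P hu u1)))
  have fx : ∀ (P : Sylow p G) {u : G}, u ∈ P → u • P = P := fun P u hu =>
    Sylow.smul_eq_iff_mem_normalizer.2 (le_normalizer hu)
  obtain ⟨P⟩ : Nonempty (Sylow p G) := inferInstance
  obtain ⟨Q, hQ⟩ : ∃ Q : Sylow p G, Q ≠ P := by
    by_contra! hc
    obtain ⟨⟨x, hx⟩, x1⟩ := ne_bot_iff_exists_ne_one.1 (fun e : (P : Subgroup G) = ⊥ => by
      have := cP P
      rw [e, card_bot] at this
      omega)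
    have h1 := H5.card_isConj_eq_index x
    have h2 := (P : Subgroup G).card_mul_index
    rw [ce P hx fun e => x1 (Subtype.ext e)] at h1
    have h3 : Nat.card {y : G // IsConj x y} ≤ Nat.card P := Nat.card_le_card_of_injective
      (fun y => ⟨y.1, by
        obtain ⟨g, hg⟩ := isConj_iff.1 y.2
        rw [← hg]
        exact (mem_normalizer_iff.1 (Sylow.smul_eq_iff_mem_normalizer.1 (hc (g • P))) x).1 hx⟩)
      fun y z e => Subtype.ext (congrArg Subtype.val e :)
    rw [cP, hq, hG] at h2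
    rw [h1, cP, hq, Nat.eq_of_mul_eq_mul_left (by omega) h2] at h3
    nlinarith
  have n1 : 4 * k + 1 ∣ Nat.card (Sylow p G) - 1 := by
    rw [← hq, ← cP P]
    refine H12.card_dvd_of_const_fix _ 1 (fun g hg g1 => Nat.card_eq_one_iff_exists.2
      ⟨⟨P, fx P hg⟩, fun R => Subtype.ext (by_contra fun e => g1 (fr P R hg R.2 e))⟩) Nat.card_pos
  have n2 : 1 < Nat.card (Sylow p G) := Finite.one_lt_card_iff_nontrivial.2 ⟨Q, P, hQ⟩
  have n3 : Nat.card (Sylow p G) = 4 * k + 2 := by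
    obtain ⟨h, hh⟩ := P.card_dvd_index
    have h2 := (P : Subgroup G).card_mul_index
    rw [cP, hq, hG] at h2
    rw [Nat.eq_of_mul_eq_mul_left (by omega) h2] at hh
    obtain ⟨j, hj⟩ := n1
    obtain ⟨j, rfl⟩ : ∃ i, j = i + 1 := ⟨j - 1, by rcases j with _ | j <;> omega⟩
    rw [show Nat.card (Sylow p G) = (4 * k + 1) * (j + 1) + 1 by omega] at hh ⊢
    have h3 : 4 * k + 1 ∣ 2 * h + 1 := (Nat.dvd_add_right (Dvd.intro (2 * (j + 1) * h) rfl)).1
      ⟨4 * k + 1, by nlinarith⟩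
    have h4 := Nat.le_of_dvd (by omega) h3
    rcases j with _ | j
    · ring
    · nlinarith [Nat.mul_le_mul (show 8 * k + 3 ≤ (4 * k + 1) * (j + 1 + 1) + 1 by nlinarith)
        (show 2 * k ≤ h by omega)]
  have tr : ∀ (A B : Sylow p G), B ≠ A → ∀ C, C ≠ A → ∃ u ∈ (A : Subgroup G), u • B = C := by
    intro A B hB C hC
    have h1 := (Nat.bijective_iff_injective_and_card (fun u : (A : Subgroup G) =>
      (⟨u.1 • B, H12.sp_smul_ne (fx A u.2) hB⟩ : {R : Sylow p G // R ≠ A}))).2 ⟨fun u v e => by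
        refine Subtype.ext (inv_mul_eq_one.1 (fr A B (mul_mem (inv_mem u.2) v.2) ?_ hB))
        rw [mul_smul, inv_smul_eq_iff]
        exact (congrArg Subtype.val e).symm, by
        have := Fintype.ofFinite (Sylow p G)
        rw [cP, hq, Nat.card_eq_fintype_card, Fintype.card_subtype_compl, Fintype.card_subtype_eq,
          ← Nat.card_eq_fintype_card, n3]
        rfl⟩
    obtain ⟨u, hu⟩ := h1.2 ⟨C, hC⟩
    exact ⟨u, u.2, congrArg Subtype.val hu⟩
  have h3 : ∀ (g : G) (a b c : Sylow p G), a ≠ b → b ≠ c → a ≠ c → g • a = a → g • b = b →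
      g • c = c → g = 1 := by
    intro g a b c ab bc ac ga gb gc
    obtain ⟨u, hu, e⟩ := tr a b ab.symm c ac.symm
    have h1 := fr a b (mul_mem (inv_mem hu) ((mem_normalizer_iff.1
      (Sylow.smul_eq_iff_mem_normalizer.1 ga) u).1 hu)) (by
        rw [mul_smul, inv_smul_eq_iff, mul_smul, mul_smul, inv_smul_eq_iff.2 gb.symm, e, gc])
      ab.symm
    refine fr a b ((ce a hu fun e1 => bc (by rw [← e, e1, one_smul])).le
      (mem_centralizer_singleton_iff.2 ?_)) gb ab.symm
    rw [← mul_inv_eq_iff_eq_mul]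
    exact (inv_mul_eq_one.1 h1).symm
  have sp : H12.SP G (Sylow p G) P Q P := ⟨hQ, fun c => exists_smul_eq G P c, fun u => fx P,
    fun g hg u => (mem_normalizer_iff.1 (Sylow.smul_eq_iff_mem_normalizer.1 hg) u).1, tr P Q hQ,
    fun u hu e => fr P Q hu e hQ, fun g hg => by
      have := Fintype.ofFinite (Sylow p G)
      obtain ⟨a, b, c, h⟩ := Fintype.two_lt_card_iff.1 (show 2 < Fintype.card (Sylow p G) by
        rw [← Nat.card_eq_fintype_card]; omega)
      exact h3 g a b c h.1 h.2.2 h.2.1 (hg a) (hg b) (hg c)⟩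
  have t2 : H12.T2 G (Sylow p G) := ⟨sp.faith, fun h h' => by
    obtain ⟨g, rfl, rfl⟩ := sp.two h
    obtain ⟨g', rfl, rfl⟩ := sp.two h'
    exact ⟨g' * g⁻¹, by simp [mul_smul], by simp [mul_smul]⟩⟩
  have hZ := t2.zass (by
    rintro ⟨R, r1, r2, r3⟩
    have r4 : Nat.card R = 4 * k + 2 := n3 ▸ Nat.card_eq_of_bijective (fun r : R => r.1 • P)
      ⟨fun u v e => Subtype.ext (inv_mul_eq_one.1 (r3 P _ (mul_mem (inv_mem u.2) v.2) (by
        rw [mul_smul, inv_smul_eq_iff]; exact e.symm))), fun c => by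
        obtain ⟨r, hr, e⟩ := r2 P c
        exact ⟨⟨r, hr⟩, e⟩⟩
    obtain ⟨t, ht, td⟩ := Nat.exists_prime_and_dvd (show 2 * k + 1 ≠ 1 by omega)
    have : Fact t.Prime := ⟨ht⟩
    obtain ⟨x, hx⟩ := exists_prime_orderOf_dvd_card' (G := R) 2 ⟨2 * k + 1, by omega⟩
    obtain ⟨y, hy⟩ := exists_prime_orderOf_dvd_card' (G := R) t (td.trans ⟨2, by omega⟩)
    rw [← orderOf_coe] at hx hy
    obtain ⟨g, -, -, e⟩ := H12.conj_of_regular_normal (M := ⊤) (fun h h' => by
      simpa using t2.two h h') (fun g _ r hr => r1.conj_mem r hr g) P (r3 P) x.2 y.2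
      (fun e => by simp [e] at hx) (fun e => ht.one_lt.ne (by simpa [e] using hy))
    rw [← e, ← MulAut.conj_apply, MulEquiv.orderOf_eq, hx] at hy
    subst hy
    omega) P h3
  have := Fintype.ofFinite (Sylow p G)
  have hH : Nat.card (stabilizer G P ⊓ stabilizer G Q : Subgroup G) = 2 * k := by
    have h1 := (stabilizer G P).card_mul_index
    rw [index_stabilizer_of_transitive, n3, hG] at h1
    have h2 : Nat.card (stabilizer G P) = Nat.card (P : Subgroup G) * Nat.card (H12.Hs G P Q) := by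
      rw [← Nat.card_prod]
      refine (Nat.card_eq_of_bijective (fun x : ↥(P : Subgroup G) × ↥(H12.Hs G P Q) =>
        (⟨x.1 * x.2, mul_mem (show _ • P = P from fx P x.1.2) x.2.2.1⟩ : stabilizer G P))
        ⟨fun x y e => ?_, fun g => ?_⟩).symm
      · have e1 : x.1.1 * x.2.1 = y.1.1 * y.2.1 := congrArg Subtype.val e
        have e2 : x.1.1 = y.1.1 := sp.uniq x.1.2 y.1.2 (by
          have := congrArg (· • Q) e1
          simpa only [mul_smul, (H12.mem_Hs.1 x.2.2).2, (H12.mem_Hs.1 y.2.2).2] using this)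
        exact Prod.ext (Subtype.ext e2) (Subtype.ext (mul_left_cancel (e2 ▸ e1)))
      · obtain ⟨u, hu, l, hl, e⟩ := sp.exists_UH g.2
        exact ⟨(⟨u, hu⟩, ⟨l, hl⟩), Subtype.ext e.symm⟩
    rw [h2, cP, hq, mul_assoc] at h1
    have h3 := Nat.eq_of_mul_eq_mul_left (by omega) h1
    exact Nat.eq_of_mul_eq_mul_right (show 0 < 4 * k + 2 by omega) (h3.trans (by ring))
  obtain ⟨r, f, K, i1, i2, -, -, e1, e2, e3⟩ := S0742.result hZ hQ.symm (hH ▸ by
    have : 4 * k + 1 = p ^ 2 := hq.symm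
    exact ⟨k, two_mul k⟩) (by rw [hH, ← Nat.card_eq_fintype_card, n3]; omega)
  exact ⟨K, i1, i2, by rw [← Nat.card_eq_fintype_card, n3] at e2; omega, e3⟩


/-- Let p be a prime and F a field with p² elements. If a finite group G has, for every d, the same number of irreducible complex characters of degree d as PSL(2,F) (the same first column of the character table, with multiplicities), then G is isomorphic to PSL(2,F). -/
theorem result {F : Type*} [Field F] [Fintype F] (p : ℕ) (hp : p.Prime)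
    (hF : Fintype.card F = p ^ 2) {G : Type*} [Group G] [Finite G]
    (h : ∀ d : ℕ, Nat.card {χ : Cfsg.IrrCharacter G // (χ : G → ℂ) 1 = (d : ℂ)} =
      Nat.card {χ : Cfsg.IrrCharacter (Matrix.ProjectiveSpecialLinearGroup (Fin 2) F) // (χ : Matrix.ProjectiveSpecialLinearGroup (Fin 2) F → ℂ) 1 = (d : ℂ)}) :
    Nonempty (G ≃* Matrix.ProjectiveSpecialLinearGroup (Fin 2) F) := by
  classical
  have hq : 4 ≤ Fintype.card F := by have := hp.two_le; nlinarith
  have := Fintype.ofFinite (IrrCharacter G)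
  have := Fintype.ofFinite (IrrCharacter (Matrix.ProjectiveSpecialLinearGroup (Fin 2) F))
  have h0 : ∀ c : ℂ, Nonempty ({χ : IrrCharacter G // χ.1 1 = c} ≃
      {χ : IrrCharacter (Matrix.ProjectiveSpecialLinearGroup (Fin 2) F) // χ.1 1 = c}) := by
    intro c
    by_cases hc : ∃ d : ℕ, c = d
    · obtain ⟨d, rfl⟩ := hc
      exact Finite.card_eq.1 (h d)
    · have : IsEmpty {χ : IrrCharacter G // χ.1 1 = c} := ⟨fun χ => hc (by
        obtain ⟨n, -, hn⟩ := H5.exists_pos_nat_degree χ.1.2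
        exact ⟨n, χ.2.symm.trans hn⟩)⟩
      have : IsEmpty {χ : IrrCharacter (Matrix.ProjectiveSpecialLinearGroup (Fin 2) F) //
          χ.1 1 = c} := ⟨fun χ => hc (by
        obtain ⟨n, -, hn⟩ := H5.exists_pos_nat_degree χ.1.2
        exact ⟨n, χ.2.symm.trans hn⟩)⟩
      exact ⟨Equiv.equivOfIsEmpty _ _⟩
  let e := Equiv.ofFiberEquiv fun c => (h0 c).some
  have he : ∀ χ, (e χ).1 1 = χ.1 1 := Equiv.ofFiberEquiv_map fun c => (h0 c).some
  have hG : Nat.card G = Nat.card (Matrix.ProjectiveSpecialLinearGroup (Fin 2) F) := by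
    have h1 := H5.sum_degree_sq (G := G)
    rw [← Finset.sum_congr rfl fun χ _ => congrArg (· ^ 2) (he χ),
      e.sum_comp fun χ => χ.1 1 ^ 2, H5.sum_degree_sq] at h1
    exact_mod_cast h1.symm
  have h1 : ∀ χ : IrrCharacter G, χ.1 1 = 1 → χ.1 = fun _ => 1 := fun χ hχ =>
    congrArg Subtype.val (e.injective (a₂ := ⟨_, H5.isIrrCharacter_one⟩) (Subtype.ext
      ((psl_one hq _ ((he χ).trans hχ)).trans (psl_one hq _ (he _)).symm)))
  have hc := H9.gcd_mul_card_psl_two (F := F)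
  rcases hp.eq_two_or_odd' with rfl | ⟨j, rfl⟩
  · rw [hF] at hc
    obtain ⟨e1⟩ := a5 (hG.trans (by simpa using hc)) h1
    obtain ⟨e2⟩ := a5 (by simpa using hc) (psl_one hq)
    exact ⟨e1.trans e2.symm⟩
  have hk : (2 * j + 1) ^ 2 = 4 * (j * j + j) + 1 := by ring
  generalize j * j + j = k at hk
  generalize 2 * j + 1 = p at *
  rw [hk] at hF
  have hG' : Nat.card G = (4 * k + 1) * (4 * k * (2 * k + 1)) := by
    rw [hF, ← hG, Nat.gcd_eq_left ⟨2 * k, by omega⟩,
      show (4 * k + 1) ^ 2 = 2 * (4 * k * (2 * k + 1)) + 1 by ring] at hc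
    exact Nat.eq_of_mul_eq_mul_left two_pos (hc.trans (by rw [Nat.add_sub_cancel]; ring))
  have c1 : (4 * k + 1).Coprime (4 * k) := by simp
  have c2 : (4 * k + 1).Coprime (2 * k + 1) := by
    rw [show 4 * k + 1 = 2 * k + (2 * k + 1) by ring]; simp
  have c3 : (4 * k).Coprime (2 * k + 1) := by
    rw [show 4 * k = 2 * (2 * k) by ring]
    exact Nat.Coprime.mul_left (by simp) (by simp)
  have pq : p ∣ 4 * k + 1 := hk ▸ dvd_pow_self p two_ne_zero
  obtain ⟨K, _, _, e1, ⟨e2⟩⟩ := recog hp hk hG' fun g r hr pg rg => by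
    have g1 : g ≠ 1 := by rintro rfl; exact hp.one_lt.ne' (by simpa using pg)
    have v1 : ∀ χ, IsIrrCharacter G χ → χ 1 = (4 * k + 1 : ℕ) → χ g = 0 := fun χ hχ hn =>
      H6.apply_eq_zero_of_defect_zero hχ hp hn hG' (hp.coprime_iff_not_dvd.1
        ((c1.mul_right c2).coprime_dvd_left pq)) pg
    have rG := rg.trans (orderOf_dvd_natCard g)
    rw [hG', hr.dvd_mul, hr.dvd_mul] at rG
    rcases rG with h2 | h2 | h2
    · exact (Nat.prime_dvd_prime_iff_eq hr hp).1 (hr.dvd_of_dvd_pow (hk ▸ h2))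
    · obtain ⟨t, ht, td⟩ := Nat.exists_prime_and_dvd (show 2 * k + 1 ≠ 1 by omega)
      obtain ⟨χ, n, i1, i2, i3, i4, i5⟩ := H5.exists_irr_not_dvd_degree_ne_zero ht g1
      rcases psl_deg hF (e ⟨χ, i1⟩) ((he _).trans i3) with rfl | rfl | rfl | rfl | rfl
      · exact (i2 (h1 ⟨χ, i1⟩ (by simpa using i3))).elim
      · exact (i5 (v1 χ i1 i3)).elim
      · exact (i4 (td.trans ⟨2, by ring⟩)).elim
      · exact (i5 (H6.apply_eq_zero_of_defect_zero i1 hr i3 (r := (4 * k + 1) * (2 * k + 1))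
          (hG'.trans (by ring)) (hr.coprime_iff_not_dvd.1
          ((c1.symm.mul_right c3).coprime_dvd_left h2)) rg)).elim
      · exact (i4 td).elim
    · obtain ⟨χ, n, i1, i2, i3, i4, i5⟩ := H5.exists_irr_not_dvd_degree_ne_zero Nat.prime_two g1
      rcases psl_deg hF (e ⟨χ, i1⟩) ((he _).trans i3) with rfl | rfl | rfl | rfl | rfl
      · exact (i2 (h1 ⟨χ, i1⟩ (by simpa using i3))).elim
      · exact (i5 (v1 χ i1 i3)).elim
      · omega
      · omega
      · exact (i5 (H6.apply_eq_zero_of_defect_zero i1 hr i3 (r := (4 * k + 1) * (4 * k))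
          (hG'.trans (by ring)) (hr.coprime_iff_not_dvd.1
          ((c2.symm.mul_right c3.symm).coprime_dvd_left h2)) rg)).elim
  exact ⟨e2.trans (H9.pslMapEquiv (FiniteField.ringEquivOfCardEq (e1.trans hF.symm)))⟩

end Cfsg.Agent.S3598
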