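import Cfsg.Statements.S3600
import Cfsg.Agent.H52.PrimeGraph
import Cfsg.Agent.H52.AffA5
import Cfsg.Agent.H25.CITStruct
import Cfsg.Agent.H24.SL5A5
-- import your own Cfsg.Agent.* helpers here

set_option autoImplicit false
open Cfsg

namespace Cfsg.Agent.S3600

theorem eppo_of_le {K : Type*} [Group K] [Finite K] (h : ∀ g : K, orderOf g ≤ 5) : H81.Eppo K := by
  intro g p q hp hq h1 h2
  by_contra hne
  have h3 := Nat.le_of_dvd (orderOf_pos g)
    (Nat.Coprime.mul_dvd_of_dvd_of_dvd ((Nat.coprime_primes hp hq).2 hne) h1 h2)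
  have := h g
  have := hp.two_le
  have := hq.two_le
  rcases Nat.lt_or_gt_of_ne hne with h | h <;> nlinarith

theorem not_solvable_of_le {K : Type*} [Group K] [Finite K] (h : ∀ g : K, orderOf g ≤ 5)
    (h2 : 2 ∣ Nat.card K) (h3 : 3 ∣ Nat.card K) (h5 : 5 ∣ Nat.card K) : ¬ Group.IsSolvable K :=
  fun hs => (eppo_of_le h).not_three_primes hs Nat.prime_two Nat.prime_three Nat.prime_five
    (by norm_num) (by norm_num) (by norm_num) h2 h3 h5

theorem range_eq {K : Type*} [Group K] [Finite K] (h : ∀ g : K, orderOf g ≤ 5)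
    (h2 : 2 ∣ Nat.card K) (h3 : 3 ∣ Nat.card K) (h5 : 5 ∣ Nat.card K) (h4 : ∃ g : K, orderOf g = 4) :
    Set.range (orderOf : K → ℕ) = ({1, 2, 3, 4, 5} : Set ℕ) := by
  ext n
  simp only [Set.mem_insert_iff, Set.mem_singleton_iff, Set.mem_range]
  constructor
  · rintro ⟨g, rfl⟩
    have := h g
    have := orderOf_pos g
    omega
  · have := Fact.mk Nat.prime_five
    rintro (rfl | rfl | rfl | rfl | rfl)
    exacts [⟨1, orderOf_one⟩, exists_prime_orderOf_dvd_card' 2 h2,
      exists_prime_orderOf_dvd_card' 3 h3, h4, exists_prime_orderOf_dvd_card' 5 h5]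

theorem exists_four {K : Type*} [Group K] [Finite K] (h : ∀ g : K, orderOf g ≤ 5)
    (h2 : 2 ∣ Nat.card K) (h3 : 3 ∣ Nat.card K) (h5 : 5 ∣ Nat.card K) (V : Subgroup K) [V.Normal]
    (hV : IsPGroup 2 V) (h1 : V ≠ ⊥) : ∃ g : K, orderOf g = 4 := by
  by_contra h4
  push Not at h4
  obtain ⟨S, hS, hVS⟩ := H69.exists_sylOf_ge hV le_top
  have hsq : H12.EA S := by
    intro x hx
    obtain ⟨k, hk⟩ := IsPGroup.iff_orderOf.1 hS.isPGroup ⟨x, hx⟩
    rw [Subgroup.orderOf_mk] at hk
    rw [← pow_two, ← orderOf_dvd_iff_pow_eq_one, hk]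
    have a := h x
    have b := h4 x
    rw [hk] at a b
    rcases k with _ | _ | _ | k
    · simp
    · simp
    · exact absurd rfl b
    · have : 0 < 2 ^ k := by positivity
      simp only [pow_succ] at a
      omega
  have hC := (H25.cit_of_eppo (eppo_of_le h)).cent_pgroup hV h1
  refine not_solvable_of_le h h2 h3 h5 (H25.solvable_of_normal_of_sylow_le
    (Subgroup.centralizer (V : Set K)) (by have := hC.isNilpotent; infer_instance) hS ?_)
  exact fun x hx => Subgroup.mem_centralizer_iff.2 fun y hy => hsq.comm (hVS hy) hx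

theorem exists_gen : ∃ x y : alternatingGroup (Fin 5), orderOf x = 2 ∧ orderOf y = 3 ∧
    orderOf (x * y) = 5 := by
  have := Fact.mk Nat.prime_five
  refine ⟨⟨Equiv.swap 0 1 * Equiv.swap 2 3, Equiv.Perm.mem_alternatingGroup.2 (by decide)⟩,
    ⟨Equiv.swap 0 2 * Equiv.swap 2 4, Equiv.Perm.mem_alternatingGroup.2 (by decide)⟩,
    orderOf_eq_prime (by decide) (by decide), orderOf_eq_prime (by decide) (by decide),
    orderOf_eq_prime (by decide) (by decide)⟩

theorem eq_top_of_orders (H : Subgroup (alternatingGroup (Fin 5))) {x y : alternatingGroup (Fin 5)}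
    (hx : x ∈ H) (hy : y ∈ H) (h2 : orderOf x = 2) (h3 : orderOf y = 3) (h5 : orderOf (x * y) = 5) :
    H = ⊤ := by
  have a := H.orderOf_dvd_natCard hx
  have b := H.orderOf_dvd_natCard hy
  have c := H.orderOf_dvd_natCard (mul_mem hx hy)
  have d := H.card_mul_index
  rw [H24.SL5.card_A5] at d
  rw [h2] at a
  rw [h3] at b
  rw [h5] at c
  have e : H.index = 1 ∨ H.index = 2 := by
    obtain ⟨k, hk⟩ : 30 ∣ Nat.card H := by omega
    rw [hk, mul_assoc] at d
    have : H.index ∣ 2 := Dvd.intro_left k (by omega)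
    exact (Nat.dvd_prime Nat.prime_two).1 this
  rcases e with e | e
  · exact Subgroup.index_eq_one.1 e
  · rcases (Subgroup.normal_of_index_eq_two e).eq_bot_or_eq_top with h | h
    · rw [h, Subgroup.card_bot] at a
      omega
    · exact h

/-- A finite group is critical with respect to a set Ω of natural numbers when its set of element orders is Ω while no proper section has Ω as its set of element orders. A finite group critical with respect to {1, 2, 3, 4, 5} (the set of element orders of the alternating group of degree 6) is isomorphic either to the alternating group of degree 6 or to the affine group F² ⋊ SL(2,F) over the field F with four elements (realised as the matrices of SL(3,F) with last row (0, 0, 1)). -/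
theorem result {G : Type*} [Group G] [Finite G]
    (hcrit : Set.range (orderOf : G → ℕ) = ({1, 2, 3, 4, 5} : Set ℕ) ∧
      ∀ (H : Subgroup G) (N : Subgroup ↥H) [N.Normal], (H ≠ ⊤ ∨ N ≠ ⊥) → Set.range (orderOf : (↥H ⧸ N) → ℕ) ≠ ({1, 2, 3, 4, 5} : Set ℕ)) :
    Nonempty (G ≃* alternatingGroup (Fin 6)) ∨
      ∃ (F : Type) (_ : Field F) (_ : Fintype F), Fintype.card F = 4 ∧
        Nonempty (G ≃* ↥(Subgroup.closure {M : Matrix.SpecialLinearGroup (Fin 3) F |
          (M : Matrix (Fin 3) (Fin 3) F) 2 0 = 0 ∧ (M : Matrix (Fin 3) (Fin 3) F) 2 1 = 0 ∧ (M : Matrix (Fin 3) (Fin 3) F) 2 2 = 1})) := by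
  obtain ⟨hΩ, hcr⟩ := hcrit
  have hord : ∀ g : G, orderOf g ≤ 5 := fun g => by
    have : orderOf g ∈ ({1, 2, 3, 4, 5} : Set ℕ) := hΩ ▸ Set.mem_range_self g
    simp only [Set.mem_insert_iff, Set.mem_singleton_iff] at this
    omega
  have hex : ∀ n : ℕ, 1 ≤ n → n ≤ 5 → ∃ g : G, orderOf g = n := fun n h1 h5 => by
    have : n ∈ Set.range (orderOf : G → ℕ) := by
      rw [hΩ]
      simp only [Set.mem_insert_iff, Set.mem_singleton_iff]
      omega
    exact this
  have hdvd : ∀ n : ℕ, 1 ≤ n → n ≤ 5 → n ∣ Nat.card G := fun n h1 h5 => by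
    obtain ⟨g, rfl⟩ := hex n h1 h5
    exact orderOf_dvd_natCard g
  have hprime : ∀ p : ℕ, p.Prime → p ∣ Nat.card G → p ≤ 5 := fun p hp hd => by
    have := Fact.mk hp
    obtain ⟨g, rfl⟩ := exists_prime_orderOf_dvd_card' p hd
    exact hord g
  have hE := eppo_of_le hord
  have hC := H25.cit_of_eppo hE
  have hns := not_solvable_of_le hord (hdvd 2 (by omega) (by omega)) (hdvd 3 (by omega) (by omega))
    (hdvd 5 (by omega) (by omega))
  have two := Fact.mk Nat.prime_two
  by_cases hO : Cfsg.pCore 2 G = ⊥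
  · left
    rcases H25.cit_simple_or_m10 hns hC hO with hG | ⟨⟨N, -, hN, K, _, _, hK, ⟨e⟩⟩, -⟩
    · have hc : ∃ a b : G, a * b ≠ b * a := by
        by_contra hn
        push Not at hn
        exact hns (Group.isSolvable_of_comm hn)
      rcases H25.eppo_simple hc hE with a | ⟨K, _, _, hK, ⟨e⟩⟩ | ⟨K, _, _, hK, ⟨e⟩⟩ |
        ⟨K, _, _, ⟨hK, ⟨e⟩⟩ | ⟨hK, ⟨e⟩⟩⟩
      · exact a
      · exfalso
        simp only [Finset.mem_insert, Finset.mem_singleton] at hK
        have h1 := H9.gcd_mul_card_psl_two (F := K)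
        rw [← Nat.card_congr e.toEquiv] at h1
        rcases hK with hK | hK | hK | hK
        · obtain ⟨g, hg⟩ := hex 4 (by omega) (by omega)
          have := H52.orderOf_psl2_even (n := 2) (by omega) hK (e g)
          rw [e.orderOf_eq, hg] at this
          omega
        · rw [hK] at h1; norm_num at h1
          have := hprime 7 (by norm_num) (by omega); omega
        · rw [hK] at h1; norm_num at h1
          have := hprime 7 (by norm_num) (by omega); omega
        · rw [hK] at h1; norm_num at h1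
          have := hprime 17 (by norm_num) (by omega); omega
      · exfalso
        have := hprime 7 (by norm_num) (by
          rw [Nat.card_congr e.toEquiv, H52.card_psl3_four hK]; norm_num)
        omega
      · exact absurd (hdvd 3 (by omega) (by omega)) (H52.not_three_dvd_of_isoSuzuki
          ⟨K, inferInstance, inferInstance, 1, le_rfl, hK, ⟨e⟩⟩)
      · exact absurd (hdvd 3 (by omega) (by omega)) (H52.not_three_dvd_of_isoSuzuki
          ⟨K, inferInstance, inferInstance, 2, by norm_num, hK, ⟨e⟩⟩)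
    · exfalso
      have f : N ⧸ (⊥ : Subgroup N) ≃* N := QuotientGroup.quotientBot
      have h1 := H9.gcd_mul_card_psl_two (F := K)
      rw [← Nat.card_congr (f.trans e).toEquiv, hK] at h1
      norm_num at h1
      obtain ⟨g, hg⟩ := H25.exists_orderOf_psl2 (F := K) (m := 4) (by omega) (by rw [hK]; norm_num)
      refine hcr N ⊥ (Or.inl (by rintro rfl; simp at hN)) (range_eq (fun x => ?_) (by omega)
        (by omega) (by omega) ⟨(f.trans e).symm g, by rw [MulEquiv.orderOf_eq, hg]⟩)
      rw [← f.orderOf_eq, ← Subgroup.orderOf_coe]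
      exact hord _
  right
  refine ⟨H29.F4, inferInstance, inferInstance, H29.F4.card_eq, ?_⟩
  set N := Cfsg.pCore 2 G with hN
  have hN2 : IsPGroup 2 N := H22.isPGroup_pCore
  have hquo : ∀ (M : Subgroup G) [M.Normal] (x : G ⧸ M), orderOf x ≤ 5 := fun M _ x => by
    obtain ⟨g, rfl⟩ := QuotientGroup.mk'_surjective M x
    exact (Nat.le_of_dvd (orderOf_pos g) (orderOf_map_dvd _ g)).trans (hord g)
  obtain ⟨e⟩ : Nonempty (G ⧸ N ≃* alternatingGroup (Fin 5)) := by
    rcases H25.cit_quotient_iso hns hC N rfl hO with ⟨n, hn, ⟨e⟩⟩ | e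
    · let := Fintype.ofFinite (GaloisField 2 n)
      have hK : Fintype.card (GaloisField 2 n) = 2 ^ n := by
        rw [← Nat.card_eq_fintype_card, GaloisField.card 2 n (by omega)]
      have h4 : 4 ≤ 2 ^ n := Nat.pow_le_pow_right (by norm_num : 0 < 2) hn
      obtain ⟨g, hg⟩ := H25.exists_orderOf_psl2 (F := GaloisField 2 n) (m := 2 ^ n + 1) (by omega)
        (by rw [hK, H52.gcd_two_even (by omega)]; simp)
      have := hquo N (e.symm g)
      rw [MulEquiv.orderOf_eq, hg] at this
      obtain ⟨f⟩ := Cfsg.Agent.S0252.result (F := GaloisField 2 n) (by omega)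
      exact ⟨e.trans f⟩
    · exact absurd ((H52.dvd_card_quotient_pCore Nat.prime_three (by norm_num)).2
        (hdvd 3 (by omega) (by omega))) (H52.not_three_dvd_of_isoSuzuki e)
  have h60 : Nat.card (G ⧸ N) = 60 := by
    rw [Nat.card_congr e.toEquiv, nat_card_alternatingGroup]; simp; decide
  have hmin : ∀ M : Subgroup G, M.Normal → M ≤ N → M = ⊥ ∨ M = N := by
    intro M hM hMN
    by_contra hc
    push Not at hc
    have hd : 60 ∣ Nat.card (G ⧸ M) := h60 ▸ Subgroup.index_dvd_of_le hMN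
    have f : (⊤ : Subgroup G) ⧸ M.subgroupOf ⊤ ≃* G ⧸ M :=
      QuotientGroup.congr _ _ Subgroup.topEquiv (Subgroup.map_subgroupOf_eq_of_le le_top)
    have h4 := exists_four (hquo M) ((by norm_num : 2 ∣ 60).trans hd)
      ((by norm_num : 3 ∣ 60).trans hd) ((by norm_num : 5 ∣ 60).trans hd)
      (N.map (QuotientGroup.mk' M)) (hN2.map _) (fun h => hc.2 (le_antisymm hMN (by
        rwa [Subgroup.map_eq_bot_iff, QuotientGroup.ker_mk'] at h)))
    obtain ⟨g, hg⟩ := h4
    rw [← Nat.card_congr f.toEquiv] at hd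
    refine hcr ⊤ (M.subgroupOf ⊤) (Or.inr fun h => hc.1 ?_) (range_eq (fun x => ?_)
      ((by norm_num : 2 ∣ 60).trans hd) ((by norm_num : 3 ∣ 60).trans hd)
      ((by norm_num : 5 ∣ 60).trans hd) ⟨f.symm g, by rw [MulEquiv.orderOf_eq, hg]⟩)
    · simpa using h
    · rw [← f.orderOf_eq]; exact hquo M _
  have hea : H12.EA N := by
    obtain ⟨-, p, hp, hpow⟩ := H2.minimal_normal_elementary_abelian N
      (by have := hN2.isNilpotent; infer_instance) hO hmin
    obtain ⟨t, ht, ht2⟩ := H25.exists_invol_mem hN2 hO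
    have : 2 = p := (Nat.prime_dvd_prime_iff_eq Nat.prime_two hp).1
      (ht2 ▸ orderOf_dvd_of_pow_eq_one (hpow t ht))
    subst this
    exact fun x hx => (pow_two x).symm.trans (hpow x hx)
  let π : G →* alternatingGroup (Fin 5) := e.toMonoidHom.comp (QuotientGroup.mk' N)
  have hπ : Function.Surjective π := e.surjective.comp (QuotientGroup.mk'_surjective N)
  have hker : ∀ g, π g = 1 ↔ g ∈ N := fun g => by
    simp [π, QuotientGroup.eq_one_iff]
  obtain ⟨x, y, hx, hy, hxy⟩ := exists_gen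
  obtain ⟨b, rfl⟩ := hπ y
  have hpow : ∀ (g : G) (p : ℕ), 3 ≤ p → orderOf (π g) = p → g ^ p = 1 := fun g p hp h => by
    obtain ⟨k, hk⟩ := orderOf_map_dvd π g
    have h1 := hord g
    have h2 := orderOf_pos g
    rw [h] at hk
    have : k = 1 := by
      rcases k with _ | _ | k
      · omega
      · rfl
      · nlinarith
    rw [← orderOf_dvd_iff_pow_eq_one, hk, this, mul_one]
  have hact : ∀ a : G, π a = x → H52.NatAct N a b := fun a ha =>
    { ea := hea
      na := Subgroup.le_normalizer_of_normal (Subgroup.mem_top a)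
      nb := Subgroup.le_normalizer_of_normal (Subgroup.mem_top b)
      aa := (hker _).1 (by rw [map_mul, ha, ← pow_two, ← hx, pow_orderOf_eq_one])
      three := fun w hw => hpow _ 3 le_rfl (by rw [map_mul, (hker w).2 hw, one_mul, hy])
      five := fun w hw => hpow _ 5 (by omega) (by
        rw [map_mul, (hker w).2 hw, one_mul, map_mul, ha, hxy]) }
  obtain ⟨a, ha, ha2⟩ : ∃ a : G, π a = x ∧ a * a = 1 := by
    obtain ⟨a, ha⟩ := hπ x
    obtain ⟨w, hw, e1⟩ := (hact a ha).main.1 _ (hact a ha).aa (by group)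
    refine ⟨w * a, by rw [map_mul, (hker w).2 hw, one_mul, ha], ?_⟩
    calc w * a * (w * a) = w * (a * w * a⁻¹) * (a * a) := by group
      _ = 1 := by rw [e1, hea _ (hact a ha).aa]
  obtain ⟨v, hv, hv1, hav⟩ : ∃ v ∈ N, v ≠ 1 ∧ a * v = v * a := by
    obtain ⟨t, ht, ht2⟩ := H25.exists_invol_mem hN2 hO
    have ht' : a * t * a⁻¹ ∈ N := Subgroup.Normal.conj_mem inferInstance t ht a
    by_cases h : a * t * a⁻¹ = t
    · exact ⟨t, ht, H25.ne_one_of_orderOf ht2, by conv_rhs => rw [← h]
                                                  group⟩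
    · refine ⟨t * (a * t * a⁻¹), mul_mem ht ht', fun h1 => h ?_, ?_⟩
      · exact (eq_inv_of_mul_eq_one_right h1).trans (hea.inv_eq ht)
      · calc a * (t * (a * t * a⁻¹)) = (a * t * a⁻¹) * ((a * a) * t * (a * a)⁻¹) * a := by group
          _ = t * (a * t * a⁻¹) * a := by rw [ha2, one_mul, inv_one, mul_one, hea.comm ht' ht]
  have hNle : ∀ K : Subgroup G, K.Normal → K ≠ ⊥ → N ≤ K := by
    intro K hK hK1
    rcases hmin (K ⊓ N) inferInstance inf_le_right with h | h
    · exfalso
      have h1 : K ≤ Subgroup.centralizer (N : Set G) := by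
        rw [← Subgroup.commutator_eq_bot_iff_le_centralizer, ← le_bot_iff, ← h]
        exact Subgroup.commutator_le_inf K N
      have h2 := H22.le_pCore hK ((hC.cent_pgroup hN2 hO).to_le h1)
      exact hK1 (by rw [← h, inf_eq_left.2 h2])
    · exact inf_eq_right.1 h
  refine H52.iso_aff4 (hact a ha) ha2 hv hav ?_ ?_ fun K hK hK1 => hNle K hK hK1 hv
  · set K := Subgroup.closure ({a, b, v} : Set G) with hK
    have haK : a ∈ K := Subgroup.subset_closure (by simp)
    have hbK : b ∈ K := Subgroup.subset_closure (by simp)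
    have hvK : v ∈ K := Subgroup.subset_closure (by simp)
    have h1 : K.map π = ⊤ := eq_top_of_orders _ ⟨a, haK, ha⟩ ⟨b, hbK, rfl⟩ hx hy hxy
    have h2 : ∀ g : G, ∃ k ∈ K, ∃ n ∈ N, g = k * n := fun g => by
      obtain ⟨k, hk, e1⟩ : π g ∈ K.map π := h1 ▸ Subgroup.mem_top _
      exact ⟨k, hk, k⁻¹ * g, (hker _).1 (by rw [map_mul, map_inv, e1, inv_mul_cancel]), by group⟩
    have h3 : (K ⊓ N).Normal := ⟨fun w hw g => by
      obtain ⟨k, hk, n, hn, rfl⟩ := h2 g
      refine ⟨?_, Subgroup.Normal.conj_mem inferInstance w hw.2 _⟩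
      have : k * n * w * (k * n)⁻¹ = k * w * k⁻¹ := by
        rw [mul_assoc k n w, hea.comm hn hw.2]; group
      rw [this]
      exact K.mul_mem (K.mul_mem hk hw.1) (K.inv_mem hk)⟩
    have h4 := hNle _ h3 fun h => hv1 (Subgroup.mem_bot.1 (h ▸ Subgroup.mem_inf.2 ⟨hvK, hv⟩))
    rw [eq_top_iff]
    intro g _
    obtain ⟨k, hk, n, hn, rfl⟩ := h2 g
    exact K.mul_mem hk (h4 hn).1
  · have hfp : ∀ p : ℕ, p.Prime → p ≠ 2 → p ≤ 5 → p ∣ Nat.card N - 1 := by
      intro p hp hp2 hp5
      obtain ⟨g, hg⟩ := hex p hp.one_lt.le hp5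
      by_contra hc
      have hs : Nat.card ((N : Set G) \ {1} : Set G) = Nat.card N - 1 := by
        rw [Nat.card_coe_set_eq, Set.ncard_sdiff_singleton_of_mem N.one_mem]
        rfl
      obtain ⟨z, hz, hzc⟩ := H25.exists_fixed_conj (a := g) (n := 1) hp
        (by rw [pow_one, ← hg, pow_orderOf_eq_one]) ((N : Set G) \ {1})
        (fun z hz => ⟨Subgroup.Normal.conj_mem inferInstance z hz.1 g, by simpa using hz.2⟩)
        (hs ▸ hc)
      exact hz.2 (hC.eq_one_of_odd' hN2 (hg ▸ hp.odd_of_ne_two hp2)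
        (by rintro rfl; rw [orderOf_one] at hg; exact hp.one_lt.ne hg) hz.1 hzc)
    have h1 := hfp 3 Nat.prime_three (by norm_num) (by norm_num)
    have h2 := hfp 5 Nat.prime_five (by norm_num) (by norm_num)
    have h3 : 1 < Nat.card N := (Subgroup.one_lt_card_iff_ne_bot N).2 hO
    rw [Subgroup.card_eq_card_quotient_mul_card_subgroup N, h60]
    omega

end Cfsg.Agent.S3600
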