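import Cfsg.Statements.S3617
import Cfsg.Agent.DTR.ONS
import Cfsg.Agent.DTR.PA
import Cfsg.Agent.DTR.SD
import Cfsg.Agent.DTR.HS
import Cfsg.Agent.S3680

set_option autoImplicit false
open Cfsg

namespace Cfsg.Agent.S3617

/-- Let G act faithfully and primitively on a finite set, and suppose that for some point α the stabilizer of α acts doubly transitively on one of its orbits of size at least 2 among the remaining points. Then either G is almost simple (it has a non-abelian simple normal subgroup with trivial centralizer), or G has a unique minimal normal subgroup and that subgroup acts regularly (transitively with trivial point stabilizers). -/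
theorem result {G Ω : Type*} [Group G] [Finite G] [MulAction G Ω] [FaithfulSMul G Ω] [Finite Ω]
    (hprim : MulAction.IsPreprimitive G Ω) (α β : Ω) (hβ : β ≠ α)
    (h2 : 2 ≤ Nat.card ↥(MulAction.orbit ↥(MulAction.stabilizer G α) β))
    (h2t : MulAction.IsMultiplyPretransitive ↥(MulAction.stabilizer G α) ↥(MulAction.orbit ↥(MulAction.stabilizer G α) β) 2) :
    (∃ T : Subgroup G, T.Normal ∧ IsSimpleGroup ↥T ∧ ¬ IsMulCommutative ↥T ∧ Subgroup.centralizer (T : Set G) = ⊥) ∨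
    (∃ N : Subgroup G, N.Normal ∧ N ≠ ⊥ ∧ (∀ M : Subgroup G, M.Normal → M ≠ ⊥ → N ≤ M) ∧
      MulAction.IsPretransitive ↥N Ω ∧ ∀ ω : Ω, MulAction.stabilizer ↥N ω = ⊥) := by
  classical
  have hyp : DTR.Hyp G α β := by
    have mem : ∀ γ, DTR.Gam G α β γ → γ ∈ MulAction.orbit ↥(MulAction.stabilizer G α) β :=
      fun γ ⟨h, h1, h2⟩ => ⟨⟨h, h1⟩, h2⟩
    refine ⟨hprim, hβ, ?_, fun γ₁ γ₂ δ₁ δ₂ a b c d n1 n2 => ?_⟩
    · by_contra hc
      push Not at hc
      have : Subsingleton ↥(MulAction.orbit ↥(MulAction.stabilizer G α) β) := ⟨by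
        rintro ⟨_, g, rfl⟩ ⟨_, g', rfl⟩
        exact Subtype.ext ((hc g g.2).trans (hc g' g'.2).symm)⟩
      have := Finite.card_le_one_iff_subsingleton.2 this
      omega
    · rw [MulAction.is_two_pretransitive_iff] at h2t
      obtain ⟨g, h1, h2⟩ := @h2t
        ⟨γ₁, mem _ a⟩ ⟨γ₂, mem _ b⟩ ⟨δ₁, mem _ c⟩ ⟨δ₂, mem _ d⟩
        (fun h => n1 (congrArg Subtype.val h)) (fun h => n2 (congrArg Subtype.val h))
      exact ⟨g, g.2, congrArg Subtype.val h1, congrArg Subtype.val h2⟩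
  have htop : (⊤ : Subgroup G) ≠ ⊥ := by
    obtain ⟨g, -, hg⟩ := hyp.big
    intro h
    have : g = 1 := Subgroup.mem_bot.1 (h ▸ Subgroup.mem_top g)
    exact hg (by rw [this, one_smul])
  obtain ⟨N, ⟨hNn, hN1⟩, hNmin⟩ := (Set.toFinite {N : Subgroup G | N.Normal ∧ N ≠ ⊥}).exists_minimal
    ⟨⊤, inferInstance, htop⟩
  have hN : DTR.MinN N := ⟨hNn, hN1, fun M hM hle => by
    by_cases h : M = ⊥
    · exact .inl h
    · exact .inr (le_antisymm hle (hNmin ⟨hM, h⟩ hle))⟩
  have htr : MulAction.IsPretransitive N Ω := ⟨fun a c => by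
    obtain ⟨s, hs, h⟩ := hyp.trans hNn hN1 a c
    exact ⟨⟨s, hs⟩, h⟩⟩
  -- a normal subgroup not containing `N` centralises it
  have hcomm : ∀ M : Subgroup G, M.Normal → ¬ N ≤ M → ∀ n ∈ N, ∀ m ∈ M, Commute n m := by
    intro M hM hle n hn m hm
    have h0 : N ⊓ M = ⊥ := (hN.2.2 (N ⊓ M) inferInstance inf_le_left).resolve_right
      fun h => hle (h ▸ inf_le_right)
    exact Subgroup.commute_of_normal_of_disjoint N M hNn hM (disjoint_iff.2 h0) n m hn hm
  by_cases hab : IsMulCommutative N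
  · have hc : ∀ m ∈ N, ∀ n ∈ N, Commute m n := fun m hm n hn =>
      congrArg Subtype.val (hab.is_comm.comm (⟨m, hm⟩ : N) ⟨n, hn⟩)
    refine .inr ⟨N, hNn, hN1, fun M hM hM1 => ?_, htr, fun ω => ?_⟩
    · by_contra hle
      have h1 : M ≤ N := S3680.le_of_comm htr htr α hc (hcomm M hM hle)
      exact hle (((hN.2.2 M hM h1).resolve_left hM1).ge)
    · exact eq_bot_iff.2 fun n hn => Subgroup.mem_bot.2 (Subtype.ext
        (S0700.semireg N (fun m hm => hc _ n.2 m hm) (a := ω) hn))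
  have hC := hyp.hs hN hab
  by_cases h1 : ∃ s ∈ N, s ≠ 1 ∧ s • α = α
  · obtain ⟨T, _, m, e, hT, hTn, hm, hK⟩ := DTR.ons hprim hN hab α
    rcases hK with ⟨K, hK⟩ | ⟨c, hK⟩
    · by_cases hm2 : 2 ≤ m
      · exact (hyp.pa hN hTn hm2 e K hK h1).elim
      obtain rfl : m = 1 := by omega
      exact .inl ⟨N, hNn, (e.trans (MulEquiv.piUnique fun _ : Fin 1 => T)).isSimpleGroup, hab, hC⟩
    · exact (hyp.sd hN hTn hm e c hK).elim
  push Not at h1
  refine .inr ⟨N, hNn, hN1, fun M hM hM1 => ?_, htr, fun ω => ?_⟩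
  · by_contra hle
    refine hM1 (eq_bot_iff.2 (hC ▸ fun m hm => ?_))
    exact Subgroup.mem_centralizer_iff.2 fun n hn => (hcomm M hM hle n hn m hm).eq
  · refine eq_bot_iff.2 fun n hn => Subgroup.mem_bot.2 (Subtype.ext ?_)
    obtain ⟨s, hs, rfl⟩ := hyp.trans hNn hN1 α ω
    have h2 : (n : G) • s • α = s • α := hn
    by_contra hn1
    refine h1 (s⁻¹ * n * s⁻¹⁻¹) (hNn.conj_mem _ n.2 _) (fun h => hn1 ?_) ?_
    · have : (n : G) = s * (s⁻¹ * n * s⁻¹⁻¹) * s⁻¹ := by group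
      rw [this, h]; simp
    · rw [inv_inv, mul_smul, mul_smul, h2, inv_smul_smul]

end Cfsg.Agent.S3617
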