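import Cfsg.Statements.S3626
import Cfsg.Agent.H13.ReeCls
import Cfsg.Agent.S1159

set_option autoImplicit false
open Cfsg

namespace Cfsg.Agent.S3626

open Cfsg.Agent.H13
set_option linter.style.haveILetI false

open Matrix
open scoped MatrixGroups

section
variable {G K : Type*} [Group G] [Field K] (M : Ree G K)

theorem fix_nu {b ε : K} (hε : ε * ε = 1) {w : Fin 7 → K} (ha : M.ρ M.a *ᵥ w = -w)
    (h : M.ρ (M.n * M.u 0 b 0) *ᵥ w = ε • w) (hw : w ≠ 0) : b ^ 3 = b := by
  have e := fun i => congrFun ha i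
  have f := fun i => congrFun h i
  simp only [M.ρ_a, mulVec_diagonal, Pi.neg_apply] at e
  simp only [map_mul, M.ρ_n, M.ρ_u, mulVec, dotProduct, rNM_mul, Fin.sum_univ_seven, Pi.smul_apply, smul_eq_mul] at f
  have e1 := e 1; have e3 := e 3; have e5 := e 5
  have f0 := f 0; have f2 := f 2; have f4 := f 4; have f6 := f 6
  simp [← add_eq_zero_iff_eq_neg, ← two_mul, M.two_ne] at e1 e3 e5
  simp [rUM, Fin.rev, e1, e3, e5] at f0 f2 f4 f6
  by_cases hb : b - ε * M.ψ b = 0
  · have h1 : M.ψ b = ε * b := by linear_combination -ε * hb - M.ψ b * hε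
    rcases mul_self_eq_one_iff.1 hε with rfl | rfl
    · rw [← M.ψψ, h1, one_mul, h1, one_mul]
    · rw [← M.ψψ, h1, neg_one_mul, map_neg, h1]; ring
  · have h6 : w 6 = 0 := (mul_eq_zero.1 (show (b - ε * M.ψ b) * w 6 = 0 by
      linear_combination -f2 + ε * f4 + w 4 * hε)).resolve_left hb
    have h0 : w 0 = 0 := by linear_combination -ε * f0 - w 0 * hε - ε * h6
    have h4 : w 4 = -ε * w 2 := by linear_combination -f2 - b * h6
    have h2 : w 2 = 0 := (mul_eq_zero.1 (show (b - ε * M.ψ b) * w 2 = 0 by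
      linear_combination f6 + h0 - M.ψ b * h4 + (ε - b * M.ψ b) * h6)).resolve_left hb
    refine absurd (funext fun i => ?_) hw
    fin_cases i <;> simp [*]

theorem fix_cases [Finite K] {g : G} (hg : g * M.a = M.a * g) {w : Fin 7 → K} (ha : M.ρ M.a *ᵥ w = -w)
    (h : M.ρ g *ᵥ w = w) (hw : w ≠ 0) : g ^ 2 = 1 ∨ g ^ 3 = 1 := by
  obtain ⟨s, e, e2, -⟩ := M.exists_f_of_comm hg
  have key : H66.tr2 s ^ 2 ≠ 4 → g ^ 2 = 1 := fun ht => by
    obtain ⟨c, hc⟩ := isConj_iff.1 (H66.isConj_of_tr2_eq (h := H90.stw H90.xu H90.xl 1 * H90.xu (-H66.tr2 s)) ht (by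
      simp [H66.tr2, H90.sl2_stw_coe, Matrix.mul_apply]))
    have h1 : M.n * M.u 0 (-H66.tr2 s) 0 * M.f c = M.f c * M.f s := by
      rw [← M.f_w, ← M.f_xu, ← map_mul, ← hc, ← map_mul, ← map_mul, inv_mul_cancel_right]
    obtain ⟨ε, hε, h2⟩ : ∃ ε : K, ε * ε = 1 ∧ M.ρ (M.f s) *ᵥ w = ε • w := by
      rcases e with rfl | rfl
      · exact ⟨1, by simp, by simpa using h⟩
      · refine ⟨-1, by simp, ?_⟩
        rw [M.a_mul_f, map_mul, ← mulVec_mulVec, ha, mulVec_neg, neg_eq_iff_eq_neg] at h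
        simpa using h
    have := fix_nu M (b := -H66.tr2 s) hε (w := M.ρ (M.f c) *ᵥ w)
      (by rw [mulVec_mulVec, ← map_mul, M.a_mul_f, map_mul, ← mulVec_mulVec, ha, mulVec_neg])
      (by rw [mulVec_mulVec, ← map_mul, h1, map_mul, ← mulVec_mulVec, h2, mulVec_smul]) fun h0 => hw (by
        rw [← one_mulVec w, ← map_one M.ρ, ← inv_mul_cancel (M.f c), map_mul, ← mulVec_mulVec, h0, mulVec_zero])
    rcases M.cube_eq this with h0 | h0 | h0
    · rw [sq, e2, ← map_mul, (H66.mul_self_eq_neg_one_iff s M.two_ne).2 (neg_eq_zero.1 h0), M.f_neg_one]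
    · exact absurd (by linear_combination (1 - H66.tr2 s) * h0 - M.three) ht
    · exact absurd (by linear_combination (-1 - H66.tr2 s) * h0 - M.three) ht
  rcases M.f_pow_cases s with h3 | h3 | h3
  · rcases e with rfl | rfl
    · exact Or.inr h3
    · have : (M.a * M.f s) ^ 3 = M.a := by
        rw [(show Commute M.a (M.f s) from M.a_mul_f s).mul_pow, h3, mul_one, pow_three, M.a_mul_a, mul_one]
      generalize M.a * M.f s = g at this h
      rw [← this, pow_three, map_mul, map_mul, ← mulVec_mulVec, ← mulVec_mulVec, h, h, h] at ha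
      refine absurd (funext fun i => ?_) hw
      have := congrFun ha i
      exact (mul_eq_zero.1 (show 2 * w i = 0 by rw [Pi.neg_apply] at this; linear_combination this)).resolve_left
        M.two_ne
  · exact Or.inl (key h3.1)
  · exact Or.inl (key (H66.tr2_sq_ne_of_not_split h3.1))

/-- the split extension of copies of the four-dimensional module by the centraliser of `a` -/
@[ext] structure Aff (n : ℕ) where
  g : G
  v : Matrix (Fin 7) (Fin n) K
  hg : g * M.a = M.a * g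
  hv : M.ρ M.a * v = -v

variable {n : ℕ}

instance : Mul (Aff M n) := ⟨fun x y => ⟨x.g * y.g, x.v + M.ρ x.g * y.v,
  by rw [mul_assoc, y.hg, ← mul_assoc, x.hg, mul_assoc], by
    rw [Matrix.mul_add, x.hv, ← Matrix.mul_assoc, ← map_mul, ← x.hg, map_mul, Matrix.mul_assoc, y.hv, Matrix.mul_neg,
      neg_add]⟩⟩

instance : One (Aff M n) := ⟨⟨1, 0, by simp, by simp⟩⟩

instance : Inv (Aff M n) := ⟨fun x => ⟨x.g⁻¹, -(M.ρ x.g⁻¹ * x.v), (Commute.inv_left x.hg).eq, by
  rw [Matrix.mul_neg, ← Matrix.mul_assoc, ← map_mul, ← (Commute.inv_left x.hg).eq, map_mul, Matrix.mul_assoc, x.hv,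
    Matrix.mul_neg]⟩⟩

theorem mul_g (x y : Aff M n) : (x * y).g = x.g * y.g := rfl
theorem mul_v (x y : Aff M n) : (x * y).v = x.v + M.ρ x.g * y.v := rfl
theorem one_g : (1 : Aff M n).g = 1 := rfl
theorem one_v : (1 : Aff M n).v = 0 := rfl

instance : Group (Aff M n) := Group.ofLeftAxioms
  (fun x y z => Aff.ext (mul_assoc ..) (by simp only [mul_v, mul_g, map_mul, Matrix.mul_add, Matrix.mul_assoc, add_assoc]))
  (fun x => Aff.ext (one_mul _) (by simp [mul_v, one_g, one_v]))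
  fun x => Aff.ext (inv_mul_cancel _) (neg_add_cancel _)

/-- the projection -/
def pr : Aff M n →* G := ⟨⟨Aff.g, rfl⟩, fun _ _ => rfl⟩

/-- the complement -/
def inc : Subgroup.centralizer {M.a} →* Aff M n :=
  ⟨⟨fun g => ⟨g, 0, Subgroup.mem_centralizer_singleton_iff.1 g.2, by simp⟩, rfl⟩,
    fun _ _ => Aff.ext rfl (by simp [mul_v])⟩

theorem orderOf_inc (g : Subgroup.centralizer {M.a}) : orderOf (inc M g : Aff M n) = orderOf (g : G) := by
  rw [orderOf_injective _ fun x y e => Subtype.ext (congrArg Aff.g e), Subgroup.orderOf_coe]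

theorem cube_eq_one {x : Aff M n} (h : x.g = 1) : x ^ 3 = 1 := by
  refine Aff.ext (by simp [pow_three, mul_g, h, one_g]) ?_
  ext i j
  simp only [pow_three, mul_v, h, map_one, Matrix.one_mul, one_v, Matrix.add_apply, Matrix.zero_apply]
  linear_combination x.v i j * M.three

variable [Finite K]

instance : Finite (Aff M n) :=
  haveI := M.finite
  Finite.of_injective (fun x : Aff M n => (x.g, x.v)) fun _ _ e => Aff.ext (congrArg Prod.fst e) (congrArg Prod.snd e)

theorem order_aff (x : Aff M n) : orderOf x ∣ 6 ∨ orderOf x ∣ 9 ∨ orderOf x ∣ orderOf x.g := by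
  have hd : ∀ d, (x ^ d).g = x.g ^ d := fun d => map_pow (pr M) x d
  have h3 : ∀ d, x.g ^ d = 1 → orderOf x ∣ d * 3 := fun d h =>
    orderOf_dvd_of_pow_eq_one (by rw [pow_mul, cube_eq_one M (by rw [hd, h])])
  by_cases h : (x ^ orderOf x.g).v = 0
  · exact Or.inr (Or.inr (orderOf_dvd_of_pow_eq_one (Aff.ext (by rw [hd, pow_orderOf_eq_one, one_g]) h)))
  obtain ⟨j, hj⟩ : ∃ j, (fun i => (x ^ orderOf x.g).v i j) ≠ 0 := by
    by_contra hc
    push Not at hc
    exact h (Matrix.ext fun i j => congrFun (hc j) i)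
  have e := congrArg Aff.v (pow_mul_comm' x (orderOf x.g))
  rw [mul_v, mul_v, hd, pow_orderOf_eq_one, map_one, Matrix.one_mul, add_comm, add_right_inj] at e
  rcases fix_cases M x.hg (funext fun i => congrFun (congrFun (x ^ orderOf x.g).hv i) j)
    (funext fun i => congrFun (congrFun e.symm i) j) hj with h2 | h2
  exacts [Or.inl (h3 2 h2), Or.inr (Or.inl (h3 3 h2))]

theorem exists_nine : ∃ x : Aff M (n + 1), orderOf x = 9 := by
  refine ⟨⟨M.u 0 1 0, Matrix.of fun i _ => if i = 6 then 1 else 0, (M.a_comm_u0 1).symm, ?_⟩,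
    orderOf_eq_prime_pow (p := 3) (n := 1) (fun h => ?_) ?_⟩
  · ext i j; fin_cases i <;> simp [M.ρ_a]
  · have := congrFun (congrFun (congrArg Aff.v h) 0) 0
    simp only [pow_one, pow_three, mul_v, one_v, M.ρ_u, Matrix.mul_apply, Fin.sum_univ_seven, Matrix.add_apply,
      Matrix.of_apply, Matrix.zero_apply] at this
    simp [rUM] at this
    exact M.two_ne (by grind [M.three])
  · exact (pow_mul _ 3 3).trans (cube_eq_one M ((map_pow (pr M) _ 3).trans (M.u0_cube 1 0)))

theorem le_card : n ≤ Nat.card (Aff M n) := by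
  classical
  refine (Nat.card_fin n).symm.trans_le (Nat.card_le_card_of_injective
    (fun k : Fin n => (⟨1, Matrix.of fun i j => if i = 6 ∧ j = k then 1 else 0, by simp, ?_⟩ : Aff M n))
    fun k l e => ?_)
  · ext i j; fin_cases i <;> simp [M.ρ_a]
    split_ifs <;> simp
  · simpa using congrFun (congrFun (congrArg Aff.v e) 6) k

theorem exists_aff {d : ℕ} (hd : d ∣ 6 ∨ d ∣ 9 ∨ d ∣ Nat.card K - 1 ∨ d ∣ (Nat.card K + 1) / 2) :
    ∃ x : Aff M (n + 1), orderOf x = d := by
  haveI := M.finite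
  obtain ⟨y, hy, -⟩ := H66.exists_nonsplit (F := K)
  obtain ⟨_, ⟨k, rfl⟩, h0⟩ := exists_orderOf_of_dvd M.isCyclic_H dvd_rfl
  obtain ⟨x, hx⟩ := exists_nine M (n := n)
  have e1 := orderOf_inc M (n := n + 1) ⟨_, Subgroup.mem_centralizer_singleton_iff.2 (M.a_mul_h k).symm⟩
  have e2 := orderOf_inc M (n := n + 1) ⟨_, Subgroup.mem_centralizer_singleton_iff.2 (M.a_mul_f y).symm⟩
  have e3 := orderOf_inc M (n := n + 1) ⟨M.u 0 1 0 * M.a, Subgroup.mem_centralizer_singleton_iff.2 (by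
    rw [← mul_assoc, M.a_comm_u0])⟩
  simp only [h0, M.card_H, M.orderOf_fy hy, M.orderOf_ua one_ne_zero] at e1 e2 e3
  rw [← e1, ← e2, ← e3, ← hx] at hd
  rcases hd with h | h | h | h <;> exact ⟨_, orderOf_pow_orderOf_div (orderOf_pos _).ne' h⟩

end

/-- Let R be the small Ree group over the field with q = 3^(2m+1) ≥ 27 elements. Then there are finite groups of arbitrarily large order with exactly the same set of element orders as R × R × R. -/
theorem result {K : Type*} [Field K] [Fintype K] {m : ℕ} (hm : 1 ≤ m) (hK : Fintype.card K = 3 ^ (2 * m + 1)) (N : ℕ) :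
    ∃ (H : Type) (_ : Group H) (_ : Fintype H), N < Fintype.card H ∧
      Set.range (orderOf : H → ℕ) = Set.range (orderOf : ↥(Cfsg.Lie.twistedG2 K (3 ^ m)) × ↥(Cfsg.Lie.twistedG2 K (3 ^ m)) × ↥(Cfsg.Lie.twistedG2 K (3 ^ m)) → ℕ) := by
  obtain ⟨hc, hq⟩ := ree_par hm hK
  set M := reeModel hK
  haveI := M.finite
  have hS := S1159.result hm hK
  rw [← hc] at hS
  set G := Cfsg.Lie.twistedG2 K (3 ^ m)
  haveI := Fintype.ofFinite (Shrink.{0} (G × G × Aff M (N + 1)))
  refine ⟨Shrink.{0} (G × G × Aff M (N + 1)), inferInstance, this, ?_, ?_⟩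
  · rw [← Nat.card_eq_fintype_card, Nat.card_congr (equivShrink _).symm, Nat.card_prod, Nat.card_prod, ← mul_assoc]
    exact (le_card M).trans (Nat.le_mul_of_pos_left _ (Nat.mul_pos Nat.card_pos Nat.card_pos))
  have e : Set.range (orderOf : Shrink.{0} (G × G × Aff M (N + 1)) → ℕ) =
      Set.range (orderOf : G × G × Aff M (N + 1) → ℕ) := by
    rw [← (Shrink.mulEquiv.{0} (α := G × G × Aff M (N + 1))).surjective.range_comp]
    congr 1; funext x; exact (MulEquiv.orderOf_eq _ x).symm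
  rw [e]
  refine Set.Subset.antisymm ?_ ?_
  · rintro _ ⟨⟨x, y, z⟩, rfl⟩
    obtain ⟨w, hw⟩ := (hS (orderOf z)).2 (by
      rcases order_aff M z with h | h | h
      · exact Or.inl h
      · exact Or.inr (Or.inl h)
      · rcases M.pow_of_mem_centralizer_a (Subgroup.mem_centralizer_singleton_iff.2 z.hg) with h2 | h2 | h2 <;>
          simp only [h.trans (orderOf_dvd_of_pow_eq_one h2), true_or, or_true])
    exact ⟨(x, y, w), by simp only [Prod.orderOf, hw]⟩
  · rintro _ ⟨⟨x, y, z⟩, rfl⟩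
    have k1 : ∀ x y z : G, (∃ w : Aff M (N + 1), orderOf w = orderOf z) → (orderOf x).lcm ((orderOf y).lcm (orderOf z)) ∈
        Set.range (orderOf : G × G × Aff M (N + 1) → ℕ) := fun x y z ⟨w, hw⟩ =>
      ⟨(x, y, w), by simp only [Prod.orderOf, hw]⟩
    have k2 : ∀ x y z : G, (∃ w : G, orderOf w = (orderOf y).lcm (orderOf z)) →
        (orderOf x).lcm ((orderOf y).lcm (orderOf z)) ∈ Set.range (orderOf : G × G × Aff M (N + 1) → ℕ) :=
      fun x y z ⟨w, hw⟩ => ⟨(x, w, 1), by simp [Prod.orderOf, hw]⟩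
    have k3 : ∀ x : G, (∃ w : Aff M (N + 1), orderOf w = orderOf x) ∨ orderOf x ∣ Nat.card K - 3 ^ (m + 1) + 1 ∨
        orderOf x ∣ Nat.card K + 3 ^ (m + 1) + 1 := fun x => by
      have := (hS _).1 ⟨x, rfl⟩
      have := exists_aff M (n := N) (d := orderOf x)
      tauto
    have k4 : ∀ x y : G, (orderOf x ∣ Nat.card K - 3 ^ (m + 1) + 1 ∧ orderOf y ∣ Nat.card K - 3 ^ (m + 1) + 1) ∨
        (orderOf x ∣ Nat.card K + 3 ^ (m + 1) + 1 ∧ orderOf y ∣ Nat.card K + 3 ^ (m + 1) + 1) →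
        ∃ w : G, orderOf w = (orderOf x).lcm (orderOf y) := fun x y h => (hS _).2 (by
      rcases h with h | h <;> simp only [Nat.lcm_dvd h.1 h.2, true_or, or_true])
    have c1 : (orderOf x).lcm ((orderOf y).lcm (orderOf z)) = (orderOf y).lcm ((orderOf z).lcm (orderOf x)) := by
      rw [Nat.lcm_comm, Nat.lcm_assoc]
    have c2 : (orderOf x).lcm ((orderOf y).lcm (orderOf z)) = (orderOf z).lcm ((orderOf x).lcm (orderOf y)) := by
      rw [← Nat.lcm_assoc, Nat.lcm_comm]
    have a1 := k1 x y z; have a2 := k1 y z x; have a3 := k1 z x y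
    have b1 := fun h => k2 x y z (k4 y z h); have b2 := fun h => k2 y z x (k4 z x h)
    have b3 := fun h => k2 z x y (k4 x y h)
    rw [← c1] at a2 b2
    rw [← c2] at a3 b3
    simp only [Prod.orderOf]
    rcases k3 x with hx | hx
    · exact a2 hx
    rcases k3 y with hy | hy
    · exact a3 hy
    rcases k3 z with hz | hz
    · exact a1 hz
    rcases hx with hx | hx <;> rcases hy with hy | hy <;> rcases hz with hz | hz
    exacts [b1 (Or.inl ⟨hy, hz⟩), b3 (Or.inl ⟨hx, hy⟩), b2 (Or.inl ⟨hz, hx⟩), b1 (Or.inr ⟨hy, hz⟩),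
      b1 (Or.inl ⟨hy, hz⟩), b2 (Or.inr ⟨hz, hx⟩), b3 (Or.inr ⟨hx, hy⟩), b1 (Or.inr ⟨hy, hz⟩)]

end Cfsg.Agent.S3626
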