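import Cfsg.Statements.S3641
import Cfsg.Agent.S0732
import Cfsg.Agent.H25.EppoSimple
import Cfsg.Agent.H3.Transfer2
import Cfsg.Agent.H2.Basic

set_option autoImplicit false
open Cfsg

namespace Cfsg.Agent.S3641

open MulAction Subgroup H12
open scoped Pointwise

/-- The order of the permutation group induced on eighteen Sylow `17`-subgroups. -/
theorem card_range {G : Type*} [Group G] [Finite G] [Fact (Nat.Prime 17)]
    (h : Nat.card (Sylow 17 G) = 18) :
    ∃ d < 17, Nat.card (toPermHom G (Sylow 17 G)).range = (17 + 1) * 17 * d := by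
  classical
  have := Fintype.ofFinite (Sylow 17 G)
  set φ := toPermHom G (Sylow 17 G) with hφ
  obtain ⟨a⟩ : Nonempty (Sylow 17 G) := inferInstance
  have hnt : Nontrivial (Sylow 17 G) := Finite.one_lt_card_iff_nontrivial.1 (by omega)
  obtain ⟨b, hb⟩ := exists_ne a
  -- an element of `a` moving `b`
  obtain ⟨x, hx, hxb⟩ : ∃ x ∈ (a : Subgroup G), x • b ≠ b := by
    by_contra hcon
    push Not at hcon
    have h1 : (a : Subgroup G) ≤ normalizer (b : Set G) := fun x hx =>
      Sylow.smul_eq_iff_mem_normalizer.1 (hcon x hx)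
    have h2 : (a : Subgroup G) ≤ b := by
      have := a.isPGroup'.inf_normalizer_sylow b
      intro y hy
      exact (this.le ⟨hy, h1 hy⟩).2
    exact hb (Sylow.ext (a.is_maximal' b.isPGroup' h2))
  set U := (a : Subgroup G).map φ with hU
  have hUp : IsPGroup 17 U := a.isPGroup'.map φ
  have hσU : φ x ∈ U := mem_map_of_mem φ hx
  have hUc : Nat.card U = 17 := by
    obtain ⟨k, hk⟩ := hUp.exists_card_eq
    have h1 : Nat.card U ∣ Nat.factorial 18 := by
      rw [← h, Nat.card_eq_fintype_card (α := Sylow 17 G), ← Fintype.card_perm,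
        ← Nat.card_eq_fintype_card]
      exact card_subgroup_dvd_card U
    rcases k with _ | _ | k
    · exfalso
      have : U = ⊥ := by rwa [pow_zero, card_eq_one] at hk
      rw [this, mem_bot] at hσU
      apply hxb
      have := congrArg (fun e : Equiv.Perm (Sylow 17 G) => e b) hσU
      simpa [hφ] using this
    · simpa using hk
    · exfalso
      rw [hk] at h1
      exact absurd ((pow_dvd_pow 17 (by omega : 2 ≤ k + 1 + 1)).trans h1) (by decide)
  have hUa : ∀ u ∈ U, u a = a := by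
    rintro _ ⟨y, hy, rfl⟩
    exact Sylow.smul_eq_iff_mem_normalizer.2 (le_normalizer hy)
  have hσ1 : φ x ≠ 1 := fun e => hxb (by
    have := congrArg (fun e : Equiv.Perm (Sylow 17 G) => e b) e
    simpa [hφ] using this)
  have hzp : zpowers (φ x) = U := by
    apply eq_of_le_of_card_ge (zpowers_le.2 hσU)
    rw [hUc, Nat.card_zpowers]
    have h1 : orderOf (φ x) ∣ 17 := (U.orderOf_dvd_natCard hσU).trans hUc.dvd
    rcases (Nat.dvd_prime Fact.out).1 h1 with h2 | h2
    · exact absurd (orderOf_eq_one_iff.1 h2) hσ1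
    · exact h2.ge
  -- `U` is transitive on the points different from `a`
  have hUtr : ∀ c, c ≠ a → ∃ u ∈ U, u b = c := by
    have h1 : (orbit U b).ncard ∣ 17 := by
      rw [← index_stabilizer]; exact (index_dvd_card _).trans hUc.dvd
    have h2 : orbit U b ⊆ {a}ᶜ := by
      rintro _ ⟨u, rfl⟩ e
      apply hb
      have e' : (u : Equiv.Perm (Sylow 17 G)) b = a := e
      rw [← hUa u u.2] at e'
      exact (u : Equiv.Perm (Sylow 17 G)).injective e'
    have h3 : ({a}ᶜ : Set (Sylow 17 G)).ncard = 17 := by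
      rw [Set.ncard_compl, Set.ncard_singleton, h]
    rcases (Nat.dvd_prime Fact.out).1 h1 with h4 | h4
    · exfalso
      obtain ⟨c, hc⟩ := Set.ncard_eq_one.1 h4
      have h5 : b ∈ orbit U b := mem_orbit_self b
      have h6 : (⟨φ x, hσU⟩ : U) • b ∈ orbit U b := mem_orbit b _
      rw [hc, Set.mem_singleton_iff] at h5 h6
      exact hxb (h6.trans h5.symm)
    · have h5 := Set.eq_of_subset_of_ncard_le h2 (by omega)
      intro c hc
      obtain ⟨u, hu⟩ : c ∈ orbit U b := h5 ▸ hc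
      exact ⟨u, u.2, hu⟩
  set Γ := φ.range with hΓ
  have htr : IsPretransitive Γ (Sylow 17 G) := ⟨fun c e => by
    obtain ⟨g, hg⟩ := exists_smul_eq G c e
    exact ⟨⟨φ g, g, rfl⟩, hg⟩⟩
  set A := stabilizer Γ a with hA
  set H := stabilizer Γ a ⊓ stabilizer Γ b with hH
  have hAi : A.index = 18 := by rw [hA, index_stabilizer_of_transitive, h]
  have hHi : (stabilizer Γ b).relIndex A = 17 := by
    have h2 := index_stabilizer A b
    have h3 : orbit A b = {a}ᶜ := by
      ext c
      constructor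
      · rintro ⟨g, rfl⟩
        exact smul_ne_of_fix g.2 hb
      · intro hc
        obtain ⟨u, hu, e⟩ := hUtr c hc
        exact ⟨⟨⟨u, map_le_range φ _ hu⟩, hUa u hu⟩, e⟩
    rw [h3, Set.ncard_compl, Set.ncard_singleton, h] at h2
    exact h2
  refine ⟨Nat.card H, ?_, ?_⟩
  · -- `H` embeds into `U \ 1`
    have hconj : ∀ g : Γ, g ∈ H → (g : Equiv.Perm (Sylow 17 G)) * φ x *
        (g : Equiv.Perm (Sylow 17 G))⁻¹ ∈ U := by
      rintro ⟨_, g, rfl⟩ hg
      have h1 : g ∈ normalizer (a : Set G) := Sylow.smul_eq_iff_mem_normalizer.1 hg.1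
      rw [← map_inv, ← map_mul, ← map_mul]
      exact mem_map_of_mem φ ((mem_normalizer_iff.1 h1 x).1 hx)
    let f : H → {u : U // u ≠ 1} := fun g => ⟨⟨_, hconj g g.2⟩, fun e => hσ1 (by
      have e' := congrArg Subtype.val e
      simpa using e')⟩
    have hf : Function.Injective f := by
      intro g k e
      have e1 : ((g : Γ) : Equiv.Perm (Sylow 17 G)) * φ x * ((g : Γ) : Equiv.Perm (Sylow 17 G))⁻¹ =
          ((k : Γ) : Equiv.Perm (Sylow 17 G)) * φ x * ((k : Γ) : Equiv.Perm (Sylow 17 G))⁻¹ :=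
        congrArg (fun u : {u : U // u ≠ 1} => ((u : U) : Equiv.Perm (Sylow 17 G))) e
      set s : Equiv.Perm (Sylow 17 G) := ((g : Γ) : Equiv.Perm (Sylow 17 G)) with hs
      set t : Equiv.Perm (Sylow 17 G) := ((k : Γ) : Equiv.Perm (Sylow 17 G)) with ht
      have hc : Commute (t⁻¹ * s) (φ x) := by
        have : t⁻¹ * s * φ x = φ x * (t⁻¹ * s) := by
          calc t⁻¹ * s * φ x = t⁻¹ * (s * φ x * s⁻¹) * s := by group
            _ = φ x * (t⁻¹ * s) := by rw [e1]; group
        exact this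
      have hsa : s a = a := g.2.1
      have hsb : s b = b := g.2.2
      have hta : t a = a := k.2.1
      have htb : t b = b := k.2.2
      have hfix : ∀ c, (t⁻¹ * s) c = c := by
        intro c
        by_cases hca : c = a
        · rw [hca, Equiv.Perm.mul_apply, hsa, Equiv.Perm.inv_eq_iff_eq, hta]
        obtain ⟨u, hu, rfl⟩ := hUtr c hca
        rw [← hzp] at hu
        obtain ⟨n, rfl⟩ := mem_zpowers_iff.1 hu
        rw [← Equiv.Perm.mul_apply, (hc.zpow_right n).eq, Equiv.Perm.mul_apply,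
          Equiv.Perm.mul_apply, hsb]
        congr 1
        rw [Equiv.Perm.inv_eq_iff_eq, htb]
      have : t⁻¹ * s = 1 := Equiv.ext hfix
      exact Subtype.ext (Subtype.ext (inv_mul_eq_one.1 this).symm)
    have h1 := Nat.card_le_card_of_injective f hf
    have h2 : Nat.card {u : U // u ≠ 1} = 16 := by
      have := Fintype.ofFinite U
      rw [Nat.card_eq_fintype_card, Fintype.card_subtype_compl, Fintype.card_subtype_eq,
        ← Nat.card_eq_fintype_card, hUc]
    omega
  · rw [← index_mul_card H, hH, ← relIndex_mul_index (inf_le_left : _ ≤ A), inf_relIndex_left,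
      hHi, hAi]

theorem card_le_mul {Γ : Type*} [Group Γ] [Finite Γ] (N C : Subgroup Γ) {T : Type*} [Finite T]
    (f : N → T) (hf : ∀ g k : N, f g = f k → (k : Γ)⁻¹ * g ∈ C) :
    Nat.card N ≤ Nat.card T * Nat.card C := by
  rw [← Nat.card_prod]
  have hs : ∀ g : N, f g = f (Function.invFun f (f g)) := fun g =>
    (Function.invFun_eq ⟨g, rfl⟩).symm
  refine Nat.card_le_card_of_injective (fun g : N => ((f g, ⟨_, hf _ _ (hs g)⟩) : T × C)) ?_
  intro g k e
  have h1 : f g = f k := congrArg Prod.fst e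
  have h2 := congrArg (fun z : T × C => (z.2 : Γ)) e
  simp only [h1, mul_right_inj] at h2
  exact Subtype.ext h2

theorem fac_eq {p m n : ℕ} (k : ℕ) (hp : p.Prime) (hm : ¬ p ∣ m) (h : n = p ^ k * m) :
    n.factorization p = k := by
  have h0 : m ≠ 0 := fun e => hm (e ▸ dvd_zero p)
  rw [h, Nat.factorization_mul (pow_ne_zero _ hp.ne_zero) h0, Finsupp.add_apply,
    hp.factorization_pow, Nat.factorization_eq_zero_of_not_dvd hm]
  simp

theorem card_pair_le {α : Type*} (a b : α) : Nat.card ({a, b} : Set α) ≤ 2 := by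
  rw [Nat.card_coe_set_eq]
  exact (Set.ncard_insert_le _ _).trans (by simp)

section ZT

variable {Γ Ω : Type*} [Group Γ] [Finite Γ] [MulAction Γ Ω] [Finite Ω]

omit [Finite Γ] [Finite Ω] in
theorem card_stab (hT : ZT Γ Ω) (hΩ : Nat.card Ω = 18) {d : ℕ}
    (hΓ : Nat.card Γ = (17 + 1) * 17 * d) (a : Ω) : Nat.card (stabilizer Γ a) = 17 * d := by
  have : IsPretransitive Γ Ω := ⟨hT.trans⟩
  have h1 := index_mul_card (stabilizer Γ a)
  rw [index_stabilizer_of_transitive, hΩ, hΓ] at h1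
  omega

theorem sylow_three (hT : ZT Γ Ω) (hΩ : Nat.card Ω = 18) {d : ℕ} (hd : d = 8 ∨ d = 16)
    (hΓ : Nat.card Γ = (17 + 1) * 17 * d) {x : Γ} (hx : orderOf x = 9) [Fact (Nat.Prime 3)] :
    68 ≤ Nat.card (Sylow 3 Γ) := by
  have hfac : (Nat.card Γ).factorization 3 = 2 := by
    rcases hd with rfl | rfl
    · exact fac_eq (m := 272) 2 Nat.prime_three (by norm_num) hΓ
    · exact fac_eq (m := 544) 2 Nat.prime_three (by norm_num) hΓ
  let R : Sylow 3 Γ := Sylow.ofCard (zpowers x) (by rw [hfac, Nat.card_zpowers, hx]; norm_num)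
  set N := normalizer (R : Set Γ) with hN
  have hy : orderOf (x ^ 3) = 3 := by rw [orderOf_pow, hx]; norm_num
  set y := x ^ 3 with hydef
  have hy1 : y ≠ 1 := fun e => by rw [e, orderOf_one] at hy; omega
  have hy3 : y ^ 3 = 1 := by rw [← hy, pow_orderOf_eq_one]
  have hfpf : ∀ a : Ω, y • a ≠ a := fun a ha => by
    have h1 : orderOf y ∣ Nat.card (stabilizer Γ a) := orderOf_dvd_natCard _ ha
    rw [hy, card_stab hT hΩ hΓ] at h1
    rcases hd with rfl | rfl <;> omega
  -- the centraliser of `y` is semiregular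
  have hC : Nat.card (centralizer {y} : Subgroup Γ) ≤ 18 := by
    obtain ⟨a⟩ : Nonempty Ω := (Nat.card_pos_iff.1 (by omega)).1
    rw [← hΩ]
    refine Nat.card_le_card_of_injective (fun c : (centralizer {y} : Subgroup Γ) => (c : Γ) • a) ?_
    intro c e hce
    have hc : y * ((e : Γ)⁻¹ * c) = ((e : Γ)⁻¹ * c) * y :=
      mem_centralizer_singleton_iff.1 (mul_mem (inv_mem e.2) c.2) |>.symm
    set w := (e : Γ)⁻¹ * c with hw
    have h1 : w • a = a := by rw [hw, mul_smul, inv_smul_eq_iff]; exact hce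
    have h2 : w • y • a = y • a := by rw [← mul_smul, ← hc, mul_smul, h1]
    have h3 : w • y • y • a = y • y • a := by rw [← mul_smul, ← hc, mul_smul, h2]
    have h4 : a ≠ y • y • a := fun e => hfpf a (by
      have : y • y • y • a = a := by rw [← mul_smul, ← mul_smul, ← pow_three', hy3, one_smul]
      rwa [← e] at this)
    have := hT.three w (hfpf a).symm (hfpf (y • a)).symm h4 h1 h2 h3
    exact Subtype.ext (inv_mul_eq_one.1 this).symm
  have hNc : Nat.card N ≤ 36 := by
    have key : ∀ g : N, (g : Γ) * y * (g : Γ)⁻¹ ∈ ({y, y ^ 2} : Set Γ) := by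
      intro g
      have h1 : (g : Γ) * y * (g : Γ)⁻¹ ∈ zpowers x :=
        (mem_normalizer_iff.1 g.2 y).1 (pow_mem (mem_zpowers x) 3)
      obtain ⟨n, hn, e⟩ : ∃ n < 9, x ^ n = (g : Γ) * y * (g : Γ)⁻¹ := by
        obtain ⟨n, e⟩ := (mem_powers_iff_mem_zpowers.2 h1)
        exact ⟨n % 9, Nat.mod_lt _ (by norm_num), by rw [← hx, pow_mod_orderOf]; exact e⟩
      have h2 : (x ^ n) ^ 3 = 1 := by rw [e, conj_pow, hy3]; simp
      have h3 : x ^ n ≠ 1 := by rw [e]; simpa using hy1
      rw [← pow_mul, ← orderOf_dvd_iff_pow_eq_one, hx] at h2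
      rw [Ne, ← orderOf_dvd_iff_pow_eq_one, hx] at h3
      rw [← e]
      have : n = 3 ∨ n = 6 := by omega
      rcases this with rfl | rfl
      · exact Or.inl rfl
      · exact Or.inr (by rw [Set.mem_singleton_iff, hydef, ← pow_mul])
    have h1 := card_le_mul N (centralizer {y}) (fun g => (⟨_, key g⟩ : ({y, y ^ 2} : Set Γ)))
      (fun g k e => by
        have e' : (g : Γ) * y * (g : Γ)⁻¹ = (k : Γ) * y * (k : Γ)⁻¹ := congrArg Subtype.val e
        rw [mem_centralizer_singleton_iff]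
        calc (k : Γ)⁻¹ * g * y = (k : Γ)⁻¹ * ((g : Γ) * y * (g : Γ)⁻¹) * g := by group
          _ = y * ((k : Γ)⁻¹ * g) := by rw [e']; group)
    have h2 := card_pair_le y (y ^ 2)
    nlinarith
  have h1 := index_mul_card N
  rw [hN, ← Sylow.card_eq_index_normalizer, ← hN, hΓ] at h1
  rcases hd with rfl | rfl <;> nlinarith

theorem sylow_two (hT : ZT Γ Ω) (hΩ : Nat.card Ω = 18) {d : ℕ} (hd : d = 8 ∨ d = 16)
    (hΓ : Nat.card Γ = (17 + 1) * 17 * d) {x : Γ} (hx : orderOf x = 4) :
    153 ≤ Nat.card (Sylow 2 Γ) := by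
  have hnt : Nontrivial Ω := Finite.one_lt_card_iff_nontrivial.1 (by omega)
  obtain ⟨a, b, hab⟩ := exists_pair_ne Ω
  set H := stabilizer Γ a ⊓ stabilizer Γ b with hH
  have hHc : Nat.card H = d := by
    have := H26.card_eq_of_zt hT hab
    rw [hΓ, hΩ, ← hH] at this
    omega
  have hH2 : IsPGroup 2 H := by
    rcases hd with rfl | rfl
    · exact IsPGroup.of_card (n := 3) hHc
    · exact IsPGroup.of_card (n := 4) hHc
  obtain ⟨S, hS⟩ := hH2.exists_le_sylow
  have hSc : Nat.card S = 2 * d := by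
    rw [S.card_eq_multiplicity]
    rcases hd with rfl | rfl
    · rw [fac_eq (m := 153) 4 Nat.prime_two (by norm_num) hΓ]; rfl
    · rw [fac_eq (m := 153) 5 Nat.prime_two (by norm_num) hΓ]; rfl
  have hrel : H.relIndex S = 2 := by
    have h1 := index_mul_card (H.subgroupOf S)
    rw [Nat.card_congr (subgroupOfEquivOfLe hS).toEquiv, hHc, hSc] at h1
    have : 0 < d := by omega
    exact Nat.eq_of_mul_eq_mul_right this h1
  have hsq : ∀ s ∈ (S : Subgroup Γ), s * s ∈ H := fun s hs =>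
    mul_self_mem_of_index_two hrel ⟨s, hs⟩
  obtain ⟨s, hs, hs1⟩ : ∃ s ∈ (S : Subgroup Γ), s * s ≠ 1 := by
    have h1 : IsPGroup 2 (zpowers x) := IsPGroup.of_card (n := 2) (by rw [Nat.card_zpowers, hx]; rfl)
    obtain ⟨S', hS'⟩ := h1.exists_le_sylow
    obtain ⟨g, rfl⟩ := exists_smul_eq Γ S S'
    have h2 : x ∈ ((g • S : Sylow 2 Γ) : Subgroup Γ) := hS' (mem_zpowers x)
    rw [Sylow.coe_subgroup_smul, mem_pointwise_smul_iff_inv_smul_mem] at h2
    refine ⟨_, h2, fun e => ?_⟩
    rw [← smul_mul', smul_eq_iff_eq_inv_smul, smul_one, ← pow_two,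
      ← orderOf_dvd_iff_pow_eq_one, hx] at e
    omega
  set N := normalizer (S : Set Γ) with hN
  have key : ∀ g : N, ∀ c : Ω, c = a ∨ c = b → (g : Γ) • c = a ∨ (g : Γ) • c = b := by
    intro g c hc
    have h1 : (g : Γ)⁻¹ * s * (g : Γ)⁻¹⁻¹ ∈ (S : Subgroup Γ) :=
      (mem_normalizer_iff.1 (inv_mem g.2) s).1 hs
    have h2 := hsq _ h1
    have h3 : ((g : Γ)⁻¹ * s * (g : Γ)⁻¹⁻¹ * ((g : Γ)⁻¹ * s * (g : Γ)⁻¹⁻¹)) • c = c := by
      rcases hc with rfl | rfl
      exacts [h2.1, h2.2]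
    have h4 : (s * s) • (g : Γ) • c = (g : Γ) • c := by
      rw [show (g : Γ)⁻¹ * s * (g : Γ)⁻¹⁻¹ * ((g : Γ)⁻¹ * s * (g : Γ)⁻¹⁻¹) =
        (g : Γ)⁻¹ * (s * s) * g by group, mul_smul, mul_smul, inv_smul_eq_iff] at h3
      exact h3
    by_contra hcon
    push Not at hcon
    exact hs1 (hT.three _ hab (Ne.symm hcon.2) (Ne.symm hcon.1) (hsq s hs).1 (hsq s hs).2 h4)
  have h1 := card_le_mul N H (fun g => (⟨_, key g a (Or.inl rfl)⟩ : ({a, b} : Set Ω)))
    (fun g k e => by
      have e' : (g : Γ) • a = (k : Γ) • a := congrArg Subtype.val e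
      have h2 : ((k : Γ)⁻¹ * g) • a = a := by rw [mul_smul, e', inv_smul_smul]
      refine ⟨h2, ?_⟩
      rcases key (k⁻¹ * g) b (Or.inr rfl) with h3 | h3
      · exact absurd (smul_left_cancel _ (h2.trans h3.symm)) hab
      · exact h3)
  have h2 := card_pair_le a b
  have h3 := index_mul_card N
  rw [hN, ← Sylow.card_eq_index_normalizer, ← hN, hΓ] at h3
  rw [hHc] at h1
  rcases hd with rfl | rfl <;> nlinarith

end ZT

/-- If the Sylow number of the image is as large as that of the group, the kernel normalises all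
Sylow subgroups. -/
theorem ker_le_normalizer {G Γ : Type*} [Group G] [Finite G] [Group Γ] {φ : G →* Γ}
    (hφ : Function.Surjective φ) {p : ℕ} [Fact p.Prime] (S : Sylow p G) :
    Nat.card (Sylow p Γ) ∣ Nat.card (Sylow p G) ∧
      (Nat.card (Sylow p Γ) = Nat.card (Sylow p G) → φ.ker ≤ normalizer (S : Set G)) := by
  have := Finite.of_surjective φ hφ
  set M := (normalizer ((S.mapSurjective hφ : Sylow p Γ) : Set Γ)).comap φ with hM
  have h1 : normalizer (S : Set G) ≤ M := by
    rw [hM, ← map_le_iff_le_comap]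
    exact le_normalizer_map φ
  have h2 : M.index = Nat.card (Sylow p Γ) := by
    rw [hM, index_comap_of_surjective _ hφ, ← Sylow.card_eq_index_normalizer]
  rw [S.card_eq_index_normalizer, ← h2]
  refine ⟨index_dvd_of_le h1, fun h3 => ?_⟩
  have h4 : normalizer (S : Set G) = M := by
    apply eq_of_le_of_card_ge h1
    have h5 := index_mul_card M
    rw [h3, ← index_mul_card (normalizer (S : Set G))] at h5
    exact (Nat.eq_of_mul_eq_mul_left (Nat.pos_of_ne_zero index_ne_zero_of_finite) h5).le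
  rw [h4]
  exact ker_le_comap φ _

theorem normal_inf {G : Type*} [Group G] [Finite G] {K : Subgroup G} [K.Normal] {p : ℕ}
    [Fact p.Prime] (P : Sylow p G) (hK : K ≤ normalizer (P : Set G)) :
    ((P : Subgroup G) ⊓ K).Normal := by
  have h1 : (H3.sylowInf P K : Subgroup K).Normal := ⟨fun x hx k =>
    (H3.mem_sylowInf P K _).2 ((mem_normalizer_iff.1 (hK k.2) (x : G)).1 hx)⟩
  have h2 := Sylow.characteristic_of_normal (H3.sylowInf P K) h1
  have h3 : ((H3.sylowInf P K : Subgroup K).map K.subtype).Normal :=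
    ConjAct.normal_of_characteristic_of_normal
  rwa [H3.coe_sylowInf, subgroupOf_map_subtype] at h3

/-- A normal subgroup normalising a Sylow subgroup `P` and containing a Sylow `r`-subgroup `Q`
of `G`: then `p` cannot divide the number of conjugates of `Q` exactly once unless `r ∣ p - 1`. -/
theorem no_other {G : Type*} [Group G] [Finite G] {K : Subgroup G} [K.Normal] {p r : ℕ}
    [hp : Fact p.Prime] [Fact r.Prime] (hpr : p ≠ r)
    (hK : ∀ P : Sylow p G, K ≤ normalizer (P : Set G))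
    (Q : Sylow r G) (hQ : (Q : Subgroup G) ≤ K) (h1 : p ∣ Nat.card (Sylow r G))
    (h2 : ¬ p ^ 2 ∣ Nat.card (Sylow r G)) : p ≡ 1 [MOD r] := by
  obtain ⟨P⟩ : Nonempty (Sylow p G) := inferInstance
  have hBn := normal_inf P (hK P)
  set B := (P : Subgroup G) ⊓ K with hB
  have hBp : IsPGroup p B := P.isPGroup'.to_inf_left
  set N := normalizer (Q : Set G) with hN
  have hKN : N ⊔ K = ⊤ := Sylow.normalizer_sup_eq_top' Q hQ
  rw [Q.card_eq_index_normalizer, ← hN, ← relIndex_mul_index (le_sup_left : N ≤ N ⊔ B)] at h1 h2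
  have h3 : N.relIndex (N ⊔ B) = N.relIndex B := by
    have := H2.index_eq_relIndex_of_sup_eq_top (N.subgroupOf (N ⊔ B)) (B.subgroupOf (N ⊔ B))
      (by rw [← subgroupOf_sup le_sup_left le_sup_right, subgroupOf_self])
    rw [relIndex_subgroupOf le_sup_right] at this
    exact this
  have h4 : ¬ p ∣ (N ⊔ B).index := by
    rw [H2.index_eq_relIndex_of_sup_eq_top (N ⊔ B) K (eq_top_iff.2 (hKN.ge.trans
      (sup_le_sup_right le_sup_left _)))]
    intro h
    apply H3.not_dvd_relIndex_sylow_of_normal P K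
    rw [← inf_relIndex_right]
    exact h.trans (relIndex_dvd_of_le_left _ le_sup_right)
  rw [h3] at h1 h2
  have h5 : N.relIndex B = p := by
    obtain ⟨j, hj⟩ := hBp.index (N.subgroupOf B)
    have hj' : N.relIndex B = p ^ j := hj
    rw [hj'] at h1 h2 ⊢
    rcases j with _ | _ | j
    · exact absurd (by simpa using h1) h4
    · simp
    · exact absurd ((pow_dvd_pow p (by omega)).mul_right _) h2
  have h6 : B ⊓ centralizer (Q : Set G) = B ⊓ N := by
    refine le_antisymm (inf_le_inf_left _ (centralizer_le_normalizer _)) fun b hb => ⟨hb.1, ?_⟩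
    refine mem_centralizer_iff.2 fun w hw => ?_
    have h7 : w * b * w⁻¹ * b⁻¹ ∈ B ⊓ Q := by
      refine ⟨B.mul_mem (hBn.conj_mem b hb.1 w) (B.inv_mem hb.1), ?_⟩
      rw [show w * b * w⁻¹ * b⁻¹ = w * (b * w⁻¹ * b⁻¹) by group]
      exact (Q : Subgroup G).mul_mem hw ((mem_normalizer_iff.1 hb.2 _).1
        ((Q : Subgroup G).inv_mem hw))
    rw [(IsPGroup.disjoint_of_ne p r hpr _ _ hBp Q.isPGroup').eq_bot, mem_bot] at h7
    rw [← mul_inv_eq_one, ← h7]; group
  have h7 := H3.card_modEq_card_inf_centralizer (Q := B) Q.isPGroup'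
    (by rw [normalizer_eq_top]; exact le_top)
  have h8 : Nat.card B = p * Nat.card (B ⊓ N : Subgroup G) := by
    rw [← h5, ← index_mul_card (N.subgroupOf B), ← inf_subgroupOf_left,
      Nat.card_congr (subgroupOfEquivOfLe inf_le_left).toEquiv, inf_subgroupOf_left]
    rfl
  have h9 : (Nat.card (B ⊓ N : Subgroup G)).Coprime r := by
    obtain ⟨j, hj⟩ := (hBp.to_inf_left (K := N)).exists_card_eq
    rw [hj]
    exact ((Nat.coprime_primes hp.out Fact.out).2 hpr).pow_left j
  rw [Sylow.coe_coe, h6, h8] at h7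
  exact Nat.ModEq.cancel_right_of_coprime h9.symm (by rwa [one_mul])

/-- Let G be a finite group with trivial centre whose set of Sylow numbers (numbers of Sylow r-subgroups, r over the prime divisors of its order) is exactly {18, 136, 153}. Then G is isomorphic to PSL(2, 17) or to PGL(2, 17). -/
theorem result {G : Type*} [Group G] [Finite G] (hZ : Subgroup.center G = ⊥) (hNS : {c : ℕ | ∃ r : ℕ, r.Prime ∧ r ∣ Nat.card G ∧ c = Nat.card (Sylow r G)} = ({18, 136, 153} : Set ℕ))
    {F : Type*} [Field F] [Fintype F] (hF : Fintype.card F = 17) :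
    Nonempty (G ≃* Matrix.ProjectiveSpecialLinearGroup (Fin 2) F) ∨ Nonempty (G ≃* (GL (Fin 2) F ⧸ Subgroup.center (GL (Fin 2) F))) := by
  classical
  have h17 : Fact (Nat.Prime 17) := ⟨by norm_num⟩
  have h3 : Fact (Nat.Prime 3) := ⟨by norm_num⟩
  have hmem : ∀ r : ℕ, r.Prime → r ∣ Nat.card G → Nat.card (Sylow r G) = 18 ∨
      Nat.card (Sylow r G) = 136 ∨ Nat.card (Sylow r G) = 153 := fun r hr hd => by
    have : Nat.card (Sylow r G) ∈ ({18, 136, 153} : Set ℕ) := hNS ▸ ⟨r, hr, hd, rfl⟩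
    simpa using this
  have hmod : ∀ r : ℕ, r.Prime → r ∣ Nat.card (Sylow r G) - 1 := fun r hr => by
    have := Fact.mk hr
    exact (Nat.modEq_iff_dvd' Nat.card_pos).1 (card_sylow_modEq_one r G).symm
  have hn17 : Nat.card (Sylow 17 G) = 18 := by
    obtain ⟨r, hr, -, e⟩ : 18 ∈ {c : ℕ | ∃ r : ℕ, r.Prime ∧ r ∣ Nat.card G ∧
      c = Nat.card (Sylow r G)} := by rw [hNS]; simp
    have h1 := hmod r hr
    rw [← e] at h1
    obtain rfl := (Nat.prime_dvd_prime_iff_eq hr h17.out).1 h1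
    exact e.symm
  have := Fintype.ofFinite (Sylow 17 G)
  obtain ⟨d, hd, hΓ⟩ := card_range hn17
  set φ := toPermHom G (Sylow 17 G) with hφ
  have htr : IsPretransitive φ.range (Sylow 17 G) := ⟨fun c e => by
    obtain ⟨g, hg⟩ := exists_smul_eq G c e
    exact ⟨⟨φ g, g, rfl⟩, hg⟩⟩
  obtain ⟨hT, -⟩ := H26.zt_of_prime (G := φ.range) h17.out hn17 hΓ hd
  have hiso := S0732.result h17.out (by rw [← Nat.card_eq_fintype_card]; exact hn17) φ.range hΓ hd
  obtain ⟨hd', ψ, hψ⟩ : (d = 8 ∨ d = 16) ∧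
      ∃ ψ : Matrix.ProjectiveSpecialLinearGroup (Fin 2) (ZMod 17) →* φ.range,
        Function.Injective ψ := by
    rcases hiso with ⟨h1, ⟨e⟩⟩ | ⟨h1, ⟨e⟩⟩ | ⟨q, -, h1, -⟩
    · exact ⟨Or.inr h1, e.symm.toMonoidHom.comp Matrix.ProjectiveSpecialLinearGroup.toPGL,
        e.symm.injective.comp Matrix.ProjectiveSpecialLinearGroup.toPGL_injective⟩
    · exact ⟨Or.inl (by omega), e.symm.toMonoidHom, e.symm.injective⟩
    · exfalso
      exact absurd ((Nat.prime_dvd_prime_iff_eq h3.out Nat.prime_two).1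
        (h3.out.dvd_of_dvd_pow (h1 ▸ (by norm_num : 3 ∣ 17 + 1)))) (by norm_num)
  obtain ⟨x, hx⟩ := H25.exists_orderOf_psl2 (F := ZMod 17) (m := 9) (by simp) (by simp)
  obtain ⟨y, hy⟩ := H25.exists_orderOf_psl2 (F := ZMod 17) (m := 4) (by simp) (by simp)
  have hs3 := sylow_three hT hn17 hd' hΓ ((orderOf_injective ψ hψ x).trans hx)
  have hs2 := sylow_two hT hn17 hd' hΓ ((orderOf_injective ψ hψ y).trans hy)
  have hsurj := φ.rangeRestrict_surjective
  set K := φ.rangeRestrict.ker with hK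
  have hKi : K.index = (17 + 1) * 17 * d := by
    rw [hK, index_ker, MonoidHom.range_eq_top.2 hsurj, card_top, hΓ]
  have hdvd : (17 + 1) * 17 * d ∣ Nat.card G := hKi ▸ index_dvd_card K
  have hK17 : ∀ P : Sylow 17 G, K ≤ normalizer (P : Set G) := fun P g hg =>
    Sylow.smul_eq_iff_mem_normalizer.1 (by
      have h1 : φ g = 1 := congrArg Subtype.val hg
      exact congrArg (fun e : Equiv.Perm (Sylow 17 G) => e P) h1)
  have hK2 : ∀ P : Sylow 2 G, K ≤ normalizer (P : Set G) := fun P => by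
    obtain ⟨h1, h2⟩ := ker_le_normalizer hsurj P
    have h4 := hmod 2 Nat.prime_two
    have h5 : Nat.card (Sylow 2 G) = 153 := by
      rcases hmem 2 Nat.prime_two (Dvd.dvd.trans ⟨9 * 17 * d, by ring⟩ hdvd) with h | h | h <;>
        omega
    exact h2 (le_antisymm (Nat.le_of_dvd Nat.card_pos h1) (by omega))
  have hK3 : ∀ P : Sylow 3 G, K ≤ normalizer (P : Set G) := fun P => by
    obtain ⟨h1, h2⟩ := ker_le_normalizer hsurj P
    have h4 := hmod 3 Nat.prime_three
    have h5 : Nat.card (Sylow 3 G) = 136 := by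
      rcases hmem 3 Nat.prime_three (Dvd.dvd.trans ⟨6 * 17 * d, by ring⟩ hdvd) with h | h | h <;>
        omega
    apply h2
    rw [h5] at h1 ⊢
    have h6 := card_sylow_modEq_one 3 φ.range
    obtain ⟨c, hc⟩ := h1
    have h7 : c = 1 ∨ c = 2 := by
      have : c ≠ 0 := by rintro rfl; omega
      have : c < 3 := by nlinarith
      omega
    unfold Nat.ModEq at h6
    rcases h7 with rfl | rfl <;> omega
  have hall : ∀ r : ℕ, r.Prime → r ∣ Nat.card G → ∀ P : Sylow r G, K ≤ normalizer (P : Set G) := by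
    intro r hr hrd P
    by_cases e2 : r = 2
    · subst e2; exact hK2 P
    by_cases e3 : r = 3
    · subst e3; exact hK3 P
    by_cases e17 : r = 17
    · subst e17; exact hK17 P
    exfalso
    have := Fact.mk hr
    have hnd : ¬ r ∣ K.index := by
      rw [hKi]
      intro h
      have h1 : r ∣ 2 ^ 5 * (3 ^ 2 * 17) := h.trans (by rcases hd' with rfl | rfl <;> norm_num)
      rcases (Nat.Prime.dvd_mul hr).1 h1 with h2 | h2
      · exact e2 ((Nat.prime_dvd_prime_iff_eq hr Nat.prime_two).1 (hr.dvd_of_dvd_pow h2))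
      rcases (Nat.Prime.dvd_mul hr).1 h2 with h2 | h2
      · exact e3 ((Nat.prime_dvd_prime_iff_eq hr h3.out).1 (hr.dvd_of_dvd_pow h2))
      · exact e17 ((Nat.prime_dvd_prime_iff_eq hr h17.out).1 h2)
    have hPK : (P : Subgroup G) ≤ K := by
      intro z hz
      obtain ⟨k, hk⟩ := P.isPGroup' ⟨z, hz⟩
      have h1 : z ^ r ^ k = 1 := congrArg Subtype.val hk
      have h2 : z ^ K.index ∈ K := K.pow_index_mem z
      have h4 : (r ^ k).Coprime K.index := (hr.coprime_iff_not_dvd.2 hnd).pow_left k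
      rw [← QuotientGroup.eq_one_iff] at h2 ⊢
      rw [QuotientGroup.mk_pow] at h2
      exact (pow_eq_one_iff_of_coprime h4).1 ⟨by rw [← QuotientGroup.mk_pow, h1]; rfl, h2⟩
    have h4 := hmod r hr
    have h5 : Nat.card (Sylow r G) ≠ 18 := fun e => by
      rw [e] at h4
      exact e17 ((Nat.prime_dvd_prime_iff_eq hr h17.out).1 h4)
    have h6 := no_other (Ne.symm e17) hK17 P hPK (by rcases hmem r hr hrd with h | h | h <;> omega)
      (by rcases hmem r hr hrd with h | h | h <;> omega)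
    have h7 : r ∣ 2 ^ 4 := (Nat.modEq_iff_dvd' (by norm_num)).1 h6.symm
    exact e2 ((Nat.prime_dvd_prime_iff_eq hr Nat.prime_two).1 (hr.dvd_of_dvd_pow h7))
  have hK1 : K = ⊥ := by
    by_contra hne
    obtain ⟨r, hr, hrK⟩ := Nat.exists_prime_and_dvd (fun e => hne (card_eq_one.1 e))
    have := Fact.mk hr
    obtain ⟨P⟩ : Nonempty (Sylow r G) := inferInstance
    have hO := normal_inf P (hall r hr (hrK.trans (card_subgroup_dvd_card K)) P)
    -- a non-trivial element of `Z(P) ∩ K`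
    obtain ⟨z, hzK, hzP, hz1, hzc⟩ : ∃ z ∈ K, z ∈ (P : Subgroup G) ∧ z ≠ 1 ∧
        ∀ w ∈ (P : Subgroup G), w * z = z * w := by
      obtain ⟨z, h1, h2, h4⟩ := H3.exists_mem_center_orderOf_eq P.isPGroup'
        (K.subgroupOf (P : Subgroup G)) (fun e => by
          have h5 := H3.coprime_card_of_normal_of_inf_sylow_eq_bot P K (by
            rw [inf_comm]; exact (subgroupOf_eq_bot.1 e).eq_bot)
          exact (hr.coprime_iff_not_dvd.1 h5.symm) hrK)
      refine ⟨z, h1, z.2, fun e => ?_, fun w hw => ?_⟩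
      · rw [show z = 1 from Subtype.ext e, orderOf_one] at h4
        exact hr.one_lt.ne h4
      · exact congrArg Subtype.val (mem_center_iff.1 h2 ⟨w, hw⟩)
    have : centralizer {z} = ⊤ := by
      refine H3.eq_top_of_forall_sylow_le fun q hq hqd => ?_
      by_cases e : q = r
      · subst e
        exact ⟨P, fun w hw => mem_centralizer_singleton_iff.2 (hzc w hw)⟩
      have := Fact.mk hq
      obtain ⟨S⟩ : Nonempty (Sylow q G) := inferInstance
      refine ⟨S, fun w hw => mem_centralizer_singleton_iff.2 ?_⟩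
      have h1 : w * z * w⁻¹ * z⁻¹ ∈ (P : Subgroup G) ⊓ S := by
        refine ⟨(P : Subgroup G).mul_mem (hO.conj_mem z ⟨hzP, hzK⟩ w).1
          ((P : Subgroup G).inv_mem hzP), ?_⟩
        rw [show w * z * w⁻¹ * z⁻¹ = w * (z * w⁻¹ * z⁻¹) by group]
        exact (S : Subgroup G).mul_mem hw ((mem_normalizer_iff.1 (hall q hq hqd S hzK) _).1
          ((S : Subgroup G).inv_mem hw))
      rw [(IsPGroup.disjoint_of_ne r q (Ne.symm e) _ _ P.isPGroup' S.isPGroup').eq_bot,
        mem_bot] at h1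
      rw [← mul_inv_eq_one, ← h1]; group
    have h1 : z ∈ center G := mem_center_iff.2 fun w =>
      mem_centralizer_singleton_iff.1 (this ▸ mem_top w)
    rw [hZ, mem_bot] at h1
    exact hz1 h1
  have e0 : G ≃* φ.range := MulEquiv.ofBijective φ.rangeRestrict
    ⟨(MonoidHom.ker_eq_bot_iff _).1 hK1, hsurj⟩
  have eF := ZMod.ringEquivOfPrime F h17.out hF
  rcases hiso with ⟨-, ⟨e⟩⟩ | ⟨-, ⟨e⟩⟩ | ⟨q, -, h1, -⟩
  · exact Or.inr ⟨e0.trans (e.trans (H9.centerQuotEquiv (H9.glMapEquiv eF)))⟩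
  · exact Or.inl ⟨e0.trans (e.trans (H9.pslMapEquiv eF))⟩
  · exfalso
    exact absurd ((Nat.prime_dvd_prime_iff_eq h3.out Nat.prime_two).1
      (h3.out.dvd_of_dvd_pow (h1 ▸ (by norm_num : 3 ∣ 17 + 1)))) (by norm_num)

end Cfsg.Agent.S3641
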