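import Cfsg.Statements.S4774
import Cfsg.Agent.H6.SL2CD

set_option autoImplicit false
open Cfsg

namespace Cfsg.Agent.S4774

open Cfsg.Agent

/-- Let F be a finite field of odd characteristic t with q > 5 elements and let S be isomorphic to PSL(2,F) or to SL(2,F). Then the vertices of the character degree graph of S are the primes dividing q(q²−1); the prime t is adjacent to no vertex; two distinct primes dividing q² − 1 are adjacent exactly when one of them is 2, or both divide q + 1, or both divide q − 1. -/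
theorem result (F : Type*) [Field F] [Fintype F] (t : ℕ) [Fact t.Prime] [CharP F t] (ht : t ≠ 2) (q : ℕ) (hq : Fintype.card F = q) (h5 : 5 < q) {S : Type*} [Group S] [Finite S] (hS : Nonempty (S ≃* Matrix.ProjectiveSpecialLinearGroup (Fin 2) F) ∨ Nonempty (S ≃* Matrix.SpecialLinearGroup (Fin 2) F)) : Cfsg.degreePrimes S = {r : ℕ | r.Prime ∧ r ∣ q * (q ^ 2 - 1)} ∧ ∀ r s : ℕ, (Cfsg.degreeGraph S).Adj r s ↔ (r ≠ s ∧ r.Prime ∧ s.Prime ∧ r ∣ q ^ 2 - 1 ∧ s ∣ q ^ 2 - 1 ∧ (r = 2 ∨ s = 2 ∨ (r ∣ q + 1 ∧ s ∣ q + 1) ∨ (r ∣ q - 1 ∧ s ∣ q - 1))) := by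
  subst hq
  obtain ⟨n, -, hn⟩ := FiniteField.card F t
  have hodd : Odd (Fintype.card F) := by
    rw [hn]; exact ((Fact.out : t.Prime).odd_of_ne_two ht).pow
  obtain ⟨h1, h2⟩ := H6.charDegrees_between hS
  obtain ⟨a1, a2, a3⟩ := H6.psl2_degrees_mem (F := F) (by omega) (by omega)
  have hsq : Fintype.card F ^ 2 - 1 = (Fintype.card F + 1) * (Fintype.card F - 1) := by
    simpa using Nat.sq_sub_sq (Fintype.card F) 1
  have two : ∀ {r : ℕ}, r.Prime → r ∣ Fintype.card F → r = t := fun hr h =>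
    (Nat.prime_dvd_prime_iff_eq hr Fact.out).1 (hr.dvd_of_dvd_pow (hn ▸ h))
  obtain ⟨k, hk⟩ := id hodd
  have e1 : 2 ∣ Fintype.card F + 1 := ⟨k + 1, by omega⟩
  have e2 : 2 ∣ Fintype.card F - 1 := ⟨k, by omega⟩
  constructor
  · ext r
    refine and_congr_right fun hr => ⟨?_, ?_⟩
    · rintro ⟨d, hd, h⟩
      rw [hsq]
      rcases H6.sl2_degrees_odd hodd (h2 hd) with rfl | h' | h'
      · exact h.mul_right _
      · exact ((h.trans h').mul_right _).mul_left _
      · exact ((h.trans h').mul_left _).mul_left _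
    · intro h
      rw [hsq] at h
      rcases hr.dvd_mul.1 h with h | h
      · exact ⟨_, h1 a1, h⟩
      · rcases hr.dvd_mul.1 h with h | h
        · exact ⟨_, h1 a2, h⟩
        · exact ⟨_, h1 a3, h⟩
  · intro r s
    refine and_congr_right fun hrs => and_congr_right fun hr => and_congr_right fun hs => ⟨?_, ?_⟩
    · rintro ⟨d, hd, h⟩
      have hr' := (dvd_mul_right r s).trans h
      have hs' := (dvd_mul_left s r).trans h
      rw [hsq]
      rcases H6.sl2_degrees_odd hodd (h2 hd) with rfl | h' | h'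
      · exact absurd ((two hr hr').trans (two hs hs').symm) hrs
      · exact ⟨(hr'.trans h').mul_right _, (hs'.trans h').mul_right _,
          Or.inr (Or.inr (Or.inl ⟨hr'.trans h', hs'.trans h'⟩))⟩
      · exact ⟨(hr'.trans h').mul_left _, (hs'.trans h').mul_left _,
          Or.inr (Or.inr (Or.inr ⟨hr'.trans h', hs'.trans h'⟩))⟩
    · have hc := (Nat.coprime_primes hr hs).2 hrs
      rw [hsq]
      rintro ⟨hr', hs', rfl | rfl | ⟨h, h'⟩ | ⟨h, h'⟩⟩
      · rcases hs.dvd_mul.1 hs' with h | h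
        · exact ⟨_, h1 a2, hc.mul_dvd_of_dvd_of_dvd e1 h⟩
        · exact ⟨_, h1 a3, hc.mul_dvd_of_dvd_of_dvd e2 h⟩
      · rcases hr.dvd_mul.1 hr' with h | h
        · exact ⟨_, h1 a2, hc.mul_dvd_of_dvd_of_dvd h e1⟩
        · exact ⟨_, h1 a3, hc.mul_dvd_of_dvd_of_dvd h e2⟩
      · exact ⟨_, h1 a2, hc.mul_dvd_of_dvd_of_dvd h h'⟩
      · exact ⟨_, h1 a3, hc.mul_dvd_of_dvd_of_dvd h h'⟩

end Cfsg.Agent.S4774
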