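import Cfsg.Statements.S4775
import Cfsg.Agent.H13.SzChar3

set_option autoImplicit false
open Cfsg

namespace Cfsg.Agent.S4775

open Cfsg.Agent.H13
set_option linter.style.haveILetI false

/-- Let F be a finite field with q = 2^(2m+1) ≥ 8 elements and let S be isomorphic to the Suzuki group over F. Then the vertices of the character degree graph of S are 2 and the primes dividing (q − 1)(q² + 1); the primes dividing (q − 1)(q² + 1) are pairwise adjacent, and 2 is adjacent exactly to the primes dividing q − 1. -/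
theorem result (F : Type*) [Field F] [Fintype F] (m : ℕ) (hm : 1 ≤ m) (q : ℕ) (hq : Fintype.card F = q) (hqm : q = 2 ^ (2 * m + 1)) {S : Type*} [Group S] [Finite S] (hS : Nonempty (S ≃* ↥(Cfsg.Lie.Sz F (2 ^ (m + 1))))) : Cfsg.degreePrimes S = {r : ℕ | r.Prime ∧ (r = 2 ∨ r ∣ (q - 1) * (q ^ 2 + 1))} ∧ ∀ r s : ℕ, (Cfsg.degreeGraph S).Adj r s ↔ (r ≠ s ∧ r.Prime ∧ s.Prime ∧ ((r ∣ (q - 1) * (q ^ 2 + 1) ∧ s ∣ (q - 1) * (q ^ 2 + 1)) ∨ (r = 2 ∧ s ∣ q - 1) ∨ (s = 2 ∧ r ∣ q - 1))) := by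
  subst hq
  letI := titsOfCard hqm
  have Q := par_of_card hm hqm
  obtain ⟨e⟩ := hS
  set M := (lieModel (titsOfCard_θ hqm)).ofEquiv e
  haveI := Fintype.ofFinite S
  have hn : Fintype.card F ^ 2 + 1 = np m * nm m := by rw [np_mul_nm, hqm]
  have deg : ∀ (χ : S → ℂ) (d : ℕ), χ 1 = d → charDegree χ = d := fun χ d h => by
    simp [charDegree, h]
  have h1 : ∀ d ∈ ({Fintype.card F ^ 2 + 1, (Fintype.card F - 1) * nm m,
      (Fintype.card F - 1) * np m, 2 ^ m * (Fintype.card F - 1)} : Set ℕ), d ∈ charDegrees S := by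
    intro d hd
    obtain ⟨χ, h1, h2⟩ := M.exists_degree Q d hd
    exact ⟨⟨χ, h1⟩, deg _ _ h2⟩
  have h2 : ∀ d ∈ charDegrees S, ∃ i, d = 2 ^ i ∨ d ∣ (Fintype.card F - 1) * (Fintype.card F ^ 2 + 1) ∨
      d = 2 ^ m * (Fintype.card F - 1) := by
    rintro _ ⟨χ, rfl⟩
    rcases M.degree_cases Q χ.2 with ⟨-, d, h, h'⟩ | h
    · rw [deg _ _ h]
      rcases h' with rfl | rfl | rfl | rfl | rfl
      · exact ⟨0, Or.inl rfl⟩
      · exact ⟨_, Or.inl (by rw [hqm, ← pow_mul])⟩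
      · exact ⟨0, Or.inr (Or.inl (dvd_mul_left _ _))⟩
      · exact ⟨0, Or.inr (Or.inl (by rw [hn]; exact mul_dvd_mul_left _ (dvd_mul_left _ _)))⟩
      · exact ⟨0, Or.inr (Or.inl (by rw [hn]; exact mul_dvd_mul_left _ (dvd_mul_right _ _)))⟩
    · exact ⟨0, Or.inr (Or.inr (deg _ _ h))⟩
  have two : ∀ {r i : ℕ}, r.Prime → r ∣ 2 ^ i → r = 2 := fun hr h =>
    (Nat.prime_dvd_prime_iff_eq hr Nat.prime_two).1 (hr.dvd_of_dvd_pow h)
  have a1 := h1 _ (Or.inl rfl)
  have a2 := h1 _ (Or.inr (Or.inl rfl))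
  have a3 := h1 _ (Or.inr (Or.inr (Or.inl rfl)))
  have a4 := h1 _ (Or.inr (Or.inr (Or.inr rfl)))
  have d2 : 2 ∣ 2 ^ m := dvd_pow_self 2 (by omega)
  constructor
  · ext r
    refine and_congr_right fun hr => ⟨?_, ?_⟩
    · rintro ⟨d, hd, h⟩
      obtain ⟨i, rfl | h3 | rfl⟩ := h2 d hd
      · exact Or.inl (two hr h)
      · exact Or.inr (h.trans h3)
      · exact (hr.dvd_mul.1 h).imp (two hr) fun h => h.mul_right _
    · rintro (rfl | h)
      · exact ⟨_, a4, d2.mul_right _⟩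
      · rcases hr.dvd_mul.1 h with h | h
        · exact ⟨_, a4, h.mul_left _⟩
        · exact ⟨_, a1, h⟩
  · intro r s
    refine and_congr_right fun hrs => and_congr_right fun hr => and_congr_right fun hs => ⟨?_, ?_⟩
    · rintro ⟨d, hd, h⟩
      have b1 := (dvd_mul_right r s).trans h
      have b2 := (dvd_mul_left s r).trans h
      obtain ⟨i, rfl | h3 | rfl⟩ := h2 d hd
      · exact absurd ((two hr b1).trans (two hs b2).symm) hrs
      · exact Or.inl ⟨b1.trans h3, b2.trans h3⟩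
      · rcases hr.dvd_mul.1 b1 with c1 | c1 <;> rcases hs.dvd_mul.1 b2 with c2 | c2
        · exact absurd ((two hr c1).trans (two hs c2).symm) hrs
        · exact Or.inr (Or.inl ⟨two hr c1, c2⟩)
        · exact Or.inr (Or.inr ⟨two hs c2, c1⟩)
        · exact Or.inl ⟨c1.mul_right _, c2.mul_right _⟩
    · have key : ∀ d ∈ charDegrees S, r ∣ d → s ∣ d → ∃ d ∈ charDegrees S, r * s ∣ d :=
        fun d hd b1 b2 => ⟨d, hd, ((Nat.coprime_primes hr hs).2 hrs).mul_dvd_of_dvd_of_dvd b1 b2⟩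
      rintro (⟨b1, b2⟩ | ⟨rfl, b⟩ | ⟨rfl, b⟩)
      · rcases hr.dvd_mul.1 b1 with c1 | c1 <;> rcases hs.dvd_mul.1 b2 with c2 | c2
        · exact key _ a2 (c1.mul_right _) (c2.mul_right _)
        · rcases hs.dvd_mul.1 (hn ▸ c2) with c | c
          · exact key _ a3 (c1.mul_right _) (c.mul_left _)
          · exact key _ a2 (c1.mul_right _) (c.mul_left _)
        · rcases hr.dvd_mul.1 (hn ▸ c1) with c | c
          · exact key _ a3 (c.mul_left _) (c2.mul_right _)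
          · exact key _ a2 (c.mul_left _) (c2.mul_right _)
        · exact key _ a1 c1 c2
      · exact key _ a4 (d2.mul_right _) (b.mul_left _)
      · exact key _ a4 (b.mul_left _) (d2.mul_right _)

end Cfsg.Agent.S4775
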