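import Cfsg.Statements.S3664
import Cfsg.Agent.H56.Mod.Sz83
import Cfsg.Agent.H56.Mod.S63

set_option autoImplicit false
open Cfsg

namespace Cfsg.Agent.S3664

open H14 H56

set_option maxRecDepth 100000

theorem ex6 : ∃ g : S63.K, orderOf g = 6 :=
  let ⟨g, _, h⟩ := exists_orderOf S63.chain (X := nat_lit 0xa681ad229b3c60a2992fac8dc6c6ec726525381bd12a61e26e8a5a1282492b59c159510e10c015748825a044d767c4236880fcddf43732a9d792c30ba9cf3b855754039a9424e23e150914a320b22d55366d1213ef82b90d255e92469da4c8293e2ac6731de6942162e9df0c858ae5ce21816c8b4710502034a5c22a04c17dcf5f32000a3d6e7d3f1e4ecc7843b976e56419eaa184d54e727a71d9036e06fcae9cafabb39ff07a2359aa4617b25d2d0599fc822765b0db2eb78450b8c49fd0df82603c8d72bd2f449d83b41ad8004db0ac0d6d86e34c9caca4cd5a96a20561631f18d301b19a7d7d3a1778d721a634ba192afe99909232d2c328a6fd7b51ab21d1d3c90a2ea8055028e02331e8343dcfa3d4b514a8ea50741ca5f11ad3088f6036c0cd2d1a0c1ab6644c1880b1db1cc4bac56f0fe4c59aa0283c9c46daeca748b28d682d3012aa322948722f3a4b0519a28524842073691e2260e9e152cc7c19ca07b623524c46384219928197bc3e61561a9a018ae400d9180f7086888db2ac9d044b0984816ad01301428708a7920085f949c8be01aa5e6f5)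 (by decide +kernel); ⟨g, h⟩
theorem ex10 : ∃ g : S63.K, orderOf g = 10 :=
  let ⟨g, _, h⟩ := exists_orderOf S63.chain (X := nat_lit 0x8d03ea7060c17a4cd7484dab63fa1014869e7ba8202980a2f90d1cb1ce009657b0d48271184ba665b84338aecdab2c1e304893a8462a77b99422858cc59ec30f02c386b8b02977153c3ea20295c4b0c60174504c30295a24f28d3db40a6fb34546a09fafda29114162525a5c33bb8bebc84c86a424048bda94d9f0c89c100bb80c8c4abd6910cca3a644134a4d816f439d1f1ea4a5146d4ae31dc5e54e437b2a4491369fe3e4254c61647a76151fe8b1f57968312b374b016474ee9e84b129866724e34c96959bd2a9d675556607197cacc5d6a355106d6b56274325a83896809a00174dc976c8f54755928e5fc836d3ce16486911ab803b204c1c8c3b2b478829837d48440aad88f3c9eb9dc4d1a61de967574a4c9ee526a5a2270061f85ac191b855c7460098d83428475b059a2955148075c28d33f7a37836ab10a3d7f2f94900703a088741132943ca000676b2524c26db1db8ba03d74a4876ace4cabd9011424625cd503ef87e431fac6b326d027d62b2cc02254414e61a13b210b13a33c26b69ac29c6f1e93c341b24870ae1ed657ad49266b0808a24c) (by decide +kernel); ⟨g, h⟩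
theorem ex14 : ∃ g : S63.K, orderOf g = 14 :=
  let ⟨g, _, h⟩ := exists_orderOf S63.chain (X := nat_lit 0xaeb09772184036930a0ba711127a4204b88561c1dfd3b9b25a7068284a8ea7368da87d3795bb2bc591dd358a24518cde96376b32b089312959aab675805c21638409ebd56da44cf06babe9e7e773fcd2a841d69485f6e4d536e78120879625cbcdd02c539520647b384426f92205a7c018594d972f94d0932740908eaeac5b9a8e40c530247287732c28a2f8ea855445943c49d19ad906006705311185868008acd22dc564d1a9927a4713212a59f1836190cc20a09aea53f0f8f47ee915acd64c98b519c840871e86cd64ac89a756074e43b3a708a900a087afab8763fa61808b042f2950907c06cc846cc9268917a8d0164da857c4b6baa3a9a8d8a23f40f0d379e13e9001bca2f47478c0eede8d85090042e86cfa65b2cc16cd592d4568716e9c0314e371e698fbb0865c03172bbc0a438f8a50cfc5f8e04e6d453e88c4b28b6c0cae1acb280608e4b83d115d38d3b048f3daa637004f0c32d2945134b160a4cf62864168f81caada2b263b22520ab5474f524157c41a9632a1a34bcf77595d2edf2488a671271068ab319013094c6510b618b86d32a203a) (by decide +kernel); ⟨g, h⟩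
theorem ex15 : ∃ g : S63.K, orderOf g = 15 :=
  let ⟨g, _, h⟩ := exists_orderOf S63.chain (X := nat_lit 0x7035936e87b98a8855aabf4cf2c9312a755112260ea4b280887ab44d24e02364eb11016269244c13eaa224e32354c38fe1387c9272ff2e06964ee699511d41611582f3c2241acd256ba66223c8c91452539c241e55881374ec28270d4207b564fe6d4b8f185ca166f222bcd4028c0b40620b3c8f47ac8509961150b000788b898b13b1dd802aad2fbd0e4d970d965e336d398fc0411c85a1675b21c3f0db49e8c85b45a943b315081c4f005f9b8e85941975733371d2a5c255d02687428db5436575ac407ea0994ae10cd8e5aa26388e9f2d0b35783a148417a9c1f4c96ca29cd1891358f20738845694839bde75758101dec68f98e9127ae4892d15782dd19030cb29d5047b21a13563c82e3530a4a14e09e6e25e555fa6a354418350214cfb08ab91516aed9182fe7e2a8e620758313f402f322534f71332b6951bcd1dacb32b0e168f5e5ad384f168c8863a55b15bebe722c4240d521460a81b180c02826c5428c685ecdea4e99ebe9d869053e4d86667148fa927a8b9b6f1ad4d472a364d14d6027c0d0630c212ecda770f54c9314242e0383e2330230a8) (by decide +kernel); ⟨g, h⟩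

theorem mem_of_dvd {r : ℕ} (hr : r.Prime) (h : r ∣ 4585351680) :
    r = 2 ∨ r = 3 ∨ r = 5 ∨ r = 7 ∨ r = 13 := by
  have h1 : r ∈ Nat.primeFactors 4585351680 := Nat.mem_primeFactors.2 ⟨hr, h, by norm_num⟩
  have h2 : Nat.primeFactors 4585351680 = {2, 3, 5, 7, 13} := by decide +kernel
  simpa [h2] using h1

theorem edge {r s : ℕ} (hr : r.Prime) (hs : s.Prime) (hrs : r ≠ s) :
    (∃ g : S63.K, orderOf g = r * s) ↔ r * s = 6 ∨ r * s = 10 ∨ r * s = 14 ∨ r * s = 15 := by
  constructor
  · rintro ⟨g, hg⟩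
    have h0 : r * s ∣ 4585351680 := by rw [← hg, ← S63.card]; exact orderOf_dvd_natCard g
    obtain ⟨d, h1, h2, h3⟩ := S63.ord7
    obtain ⟨d', h4, h5, h6⟩ := S63.ord13
    have h7 := fun h => Nat.le_of_dvd h2 (h3 g h)
    have h8 := fun h => Nat.le_of_dvd h5 (h6 g h)
    rw [hg] at h7 h8
    rcases mem_of_dvd hr ((dvd_mul_right r s).trans h0) with rfl | rfl | rfl | rfl | rfl <;>
      rcases mem_of_dvd hs ((dvd_mul_left s _).trans h0) with rfl | rfl | rfl | rfl | rfl <;> omega
  · rintro (h | h | h | h) <;> rw [h]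
    exacts [ex6, ex10, ex14, ex15]

/-- The prime graph of a finite group has the prime divisors of its order as vertices, two distinct primes p, q being joined when the group has an element of order pq; two groups have the same prime graph when they have the same prime divisors and the same joined pairs. Let F be the field with 3 elements and L = PSp(6,F). There are finite groups of arbitrarily large order with the same prime graph as L (a prime graph shared by the orthogonal groups Ω₇(3) and PΩ⁺₈(3)). -/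
theorem result {F : Type*} [Field F] [Fintype F] (hF : Fintype.card F = 3) (N : ℕ) :
    ∃ (H : Type) (_ : Group H) (_ : Finite H), N < Nat.card H ∧
      ((∀ p : ℕ, p.Prime → (p ∣ Nat.card (Cfsg.PSp 3 F) ↔ p ∣ Nat.card H)) ∧
      (∀ p q : ℕ, p.Prime → q.Prime → p ≠ q → ((∃ g : (Cfsg.PSp 3 F), orderOf g = p * q) ↔ (∃ g : H, orderOf g = p * q)))) := by
  obtain ⟨e⟩ := S63.equiv hF
  obtain ⟨ρ, h13, h5, h7⟩ := Sz83.rep
  have hsp : ∀ o, (∃ g : Sz83.K, orderOf g = o) ↔ o ∈ [1, 2, 3, 4, 5, 6, 7, 12, 13, 15] :=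
    fun o => Set.ext_iff.1 Sz83.spec o
  have hp : ∀ r : ℕ, r.Prime → (r ∣ 4585351680 ↔ r ∣ 87360) := fun r hr =>
    ⟨fun h => by rcases mem_of_dvd hr h with rfl | rfl | rfl | rfl | rfl <;> norm_num,
      fun h => h.trans (by norm_num)⟩
  have key : ∀ s : ℕ, s.Prime → 2 ≠ s → ((∃ g : S63.K, orderOf g = 2 * s) ↔
      (∃ g : Sz83.K, orderOf g = 2 * s) ∨ ∃ g : Sz83.K, orderOf g = s ∧ ∃ v, v ≠ 0 ∧ ρ g v = v) := by
    intro s hs h2
    rw [edge Nat.prime_two hs h2, hsp]
    constructor
    · rintro (h | h | h | h)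
      · rw [h]; simp
      · obtain rfl : s = 5 := by omega
        exact Or.inr h5
      · obtain rfl : s = 7 := by omega
        exact Or.inr h7
      · omega
    · rintro (h | ⟨g, hg, v, hv, h⟩)
      · have := hs.two_le
        have h6 : s ≠ 6 := fun e => by rw [e] at hs; norm_num at hs
        simp only [List.mem_cons, List.not_mem_nil, or_false] at h
        omega
      · rcases mem_of_dvd hs ((hp s hs).2 (by rw [← hg, ← Sz83.card]; exact orderOf_dvd_natCard g))
          with rfl | rfl | rfl | rfl | rfl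
        · omega
        · omega
        · omega
        · omega
        · exact absurd (h13 g hg v h) hv
  obtain ⟨H, _, _, h1, h2⟩ := exists_large_of_module (G := S63.K) ρ Nat.prime_two
    (fun v => funext fun i => (by decide +kernel : ∀ a : TF F2, 2 • a = 0) _)
    (by rw [Sz83.card]; norm_num) (fun r hr => by rw [S63.card, Sz83.card]; exact hp r hr)
    (fun r s hr hs hrs => by
      by_cases h1 : r = 2
      · subst h1
        rw [key s hs hrs]; simp [hrs.symm]
      by_cases h2 : s = 2
      · subst h2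
        rw [mul_comm, key r hr hrs.symm]; simp [hrs]
      rw [edge hr hs hrs, hsp]
      simp only [h1, h2, false_and, or_false, List.mem_cons, List.not_mem_nil]
      have h0 : ∀ n, n ∣ 4585351680 → r * s = n → r * s = 15 ∨ 21 ≤ n := fun n hn h => by
        rw [← h] at hn ⊢
        rcases mem_of_dvd hr ((dvd_mul_right r s).trans hn) with rfl | rfl | rfl | rfl | rfl <;>
          rcases mem_of_dvd hs ((dvd_mul_left s _).trans hn) with rfl | rfl | rfl | rfl | rfl <;>
          omega
      constructor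
      · rintro (h | h | h | h) <;> have := h0 _ (by norm_num) h <;> omega
      · rintro (h | h | h | h | h | h | h | h | h | h) <;> have := h0 _ (by norm_num) h <;> omega) N
  have h3 := H78.samePG_trans (H78.samePG_of_equiv e) h2
  exact ⟨H, inferInstance, inferInstance, h1, h3.1, h3.2⟩

end Cfsg.Agent.S3664
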