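import Cfsg.Statements.S4812
import Cfsg.Agent.H6.SL2CD

set_option autoImplicit false
open Cfsg

namespace Cfsg.Agent.S4812

open Cfsg.Agent

/-- Let F be a finite field of characteristic 2 with q ≥ 4 elements and let S be isomorphic to PSL(2,F) or to SL(2,F). Then the vertices of the character degree graph of S are the primes dividing q(q²−1), and two distinct primes are adjacent exactly when both divide q + 1 or both divide q − 1; so the graph has the three connected components {2}, the primes dividing q + 1 and the primes dividing q − 1, each complete. -/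
theorem result (F : Type*) [Field F] [Fintype F] [CharP F 2] (q : ℕ) (hq : Fintype.card F = q) (h4 : 4 ≤ q) {S : Type*} [Group S] [Finite S] (hS : Nonempty (S ≃* Matrix.ProjectiveSpecialLinearGroup (Fin 2) F) ∨ Nonempty (S ≃* Matrix.SpecialLinearGroup (Fin 2) F)) : Cfsg.degreePrimes S = {r : ℕ | r.Prime ∧ r ∣ q * (q ^ 2 - 1)} ∧ ∀ r s : ℕ, (Cfsg.degreeGraph S).Adj r s ↔ (r ≠ s ∧ r.Prime ∧ s.Prime ∧ ((r ∣ q + 1 ∧ s ∣ q + 1) ∨ (r ∣ q - 1 ∧ s ∣ q - 1))) := by
  subst hq
  have hev := FiniteField.even_card_of_char_two (ringChar.eq F 2)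
  obtain ⟨h1, h2⟩ := H6.charDegrees_between hS
  obtain ⟨a1, a2, a3⟩ := H6.psl2_degrees_mem h4 (by omega)
  have hsq : Fintype.card F ^ 2 - 1 = (Fintype.card F + 1) * (Fintype.card F - 1) := by
    simpa using Nat.sq_sub_sq (Fintype.card F) 1
  obtain ⟨n, -, hn⟩ := FiniteField.card F 2
  have two : ∀ {r : ℕ}, r.Prime → r ∣ Fintype.card F → r = 2 := fun hr h =>
    (Nat.prime_dvd_prime_iff_eq hr Nat.prime_two).1 (hr.dvd_of_dvd_pow (hn ▸ h))
  constructor
  · ext r
    refine and_congr_right fun hr => ⟨?_, ?_⟩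
    · rintro ⟨d, hd, h⟩
      rw [hsq]
      rcases H6.sl2_degrees_even (h2 hd) with rfl | rfl | rfl | rfl
      · exact absurd (Nat.dvd_one.1 h) hr.one_lt.ne'
      · exact (h.mul_left _).mul_left _
      · exact h.mul_right _
      · exact (h.mul_right _).mul_left _
    · intro h
      rw [hsq] at h
      rcases hr.dvd_mul.1 h with h | h
      · exact ⟨_, h1 a1, h⟩
      · rcases hr.dvd_mul.1 h with h | h
        · exact ⟨_, h1 a2, h⟩
        · exact ⟨_, h1 a3, h⟩
  · intro r s
    refine and_congr_right fun hrs => and_congr_right fun hr => and_congr_right fun hs => ⟨?_, ?_⟩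
    · rintro ⟨d, hd, h⟩
      have hr' := (dvd_mul_right r s).trans h
      have hs' := (dvd_mul_left s r).trans h
      rcases H6.sl2_degrees_even (h2 hd) with rfl | rfl | rfl | rfl
      · exact absurd (Nat.dvd_one.1 hr') hr.one_lt.ne'
      · exact Or.inr ⟨hr', hs'⟩
      · exact absurd ((two hr hr').trans (two hs hs').symm) hrs
      · exact Or.inl ⟨hr', hs'⟩
    · have hc := (Nat.coprime_primes hr hs).2 hrs
      rintro (⟨h, h'⟩ | ⟨h, h'⟩)
      · exact ⟨_, h1 a2, hc.mul_dvd_of_dvd_of_dvd h h'⟩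
      · exact ⟨_, h1 a3, hc.mul_dvd_of_dvd_of_dvd h h'⟩

end Cfsg.Agent.S4812
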