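import Cfsg.Statements.S3686
import Cfsg.Agent.H43.Wong3
import Cfsg.Agent.S0144
import Cfsg.Agent.S1008
import Cfsg.Agent.S3331
import Cfsg.Agent.S3685
import Cfsg.Agent.S4040
-- import your own Cfsg.Agent.* helpers here

set_option autoImplicit false
open Cfsg

namespace Cfsg.Agent.S3686

open Subgroup Cfsg.Agent.H49 Cfsg.Agent.H43.Wong in
theorem s3 {G : Type*} [Group G] [Finite G] {M : Subgroup G} (h : St M)
    (e : M ≃* Equiv.Perm (Fin 3)) : Nonempty (G ≃* alternatingGroup (Fin 5)) := by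
  have := Fact.mk Nat.prime_three
  obtain ⟨ι, hι, rfl⟩ := exists_iota e
  have h1 : orderOf (ι (finRotate 3)) = 3 := by
    rw [orderOf_injective ι hι]
    exact orderOf_eq_prime (by decide) (by decide)
  have h2 : ∀ y : Equiv.Perm (Fin 3), (∃ i : Fin 3, y * finRotate 3 * y⁻¹ = finRotate 3 ^ i.val) ∧
      (y * finRotate 3 = finRotate 3 * y → ∃ i : Fin 3, y = finRotate 3 ^ i.val) := by decide
  have h3 := h.norm_eq (X := zpowers (ι (finRotate 3)))
    (by rw [Ne, zpowers_eq_bot]; rintro c; simp [c] at h1) (zpowers_le.2 ⟨_, rfl⟩) (by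
      rintro _ ⟨y, rfl⟩
      refine H42.mem_normalizer_of_conj_mem ?_
      rintro _ ⟨j, rfl⟩
      obtain ⟨i, hi⟩ := (h2 y).1
      rw [← conj_zpow, ← map_inv, ← map_mul, ← map_mul, hi, map_pow]
      exact zpow_mem (pow_mem (mem_zpowers _) _) j)
  rcases S3331.result (zpowers (ι (finRotate 3))) (by rw [Nat.card_zpowers, h1]) (by
    refine le_antisymm (fun g hg => ?_) (abelian_iff.1 (abelian_of_cyclic inferInstance))
    obtain ⟨y, rfl⟩ := h3.le (cent_le_norm _ hg)
    obtain ⟨i, rfl⟩ := (h2 y).2 (hι (by rw [map_mul, map_mul]; exact (hg _ (mem_zpowers _)).symm))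
    rw [map_pow]
    exact pow_mem (mem_zpowers _) _) with ⟨N, _, h4, -, h5⟩ | ⟨N, hN, h4, -, ⟨f⟩⟩ | ⟨⟨f⟩⟩
  · refine absurd ((Group.isSolvable_iff_subgroup_quotient N).2 ⟨inferInstance, ?_⟩) h.ns
    rcases h5 with h5 | ⟨⟨f⟩⟩
    · exact S0144.result 2 3 0 1 Nat.prime_two Nat.prime_three h5
    · exact S0144.result 2 3 1 1 Nat.prime_two Nat.prime_three (by
        rw [Nat.card_congr f.toEquiv, Nat.card_perm, Nat.card_fin]; rfl)
  · obtain rfl := h.eq_bot hN (Group.isSolvable_of_comm h4.is_comm.comm)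
    exact ⟨QuotientGroup.quotientBot.symm.trans f⟩
  · have := Fact.mk (show Nat.Prime 7 by decide)
    have := Matrix.ProjectiveSpecialLinearGroup.rank_two_simple (F := ZMod 7) (by simp)
    have := f.isSimpleGroup
    have h4 := H9.gcd_mul_card_psl_two (F := ZMod 7)
    rw [ZMod.card, ← Nat.card_congr f.toEquiv] at h4
    have h5 : Nat.card ι.range = 6 := by
      rw [Nat.card_congr e.toEquiv, Nat.card_perm, Nat.card_fin]; rfl
    rcases (S1008.result (G := G) (by norm_num at h4; omega)).1 _ h.coatom with ⟨⟨f⟩⟩ | ⟨c, -⟩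
    · rw [Nat.card_congr f.toEquiv, Nat.card_perm, Nat.card_fin] at h5
      exact absurd h5 (by decide)
    · omega

/-- Let G be a finite insoluble group acting faithfully and primitively on a set Ω so that the stabilizer of a point a has an orbit of length 3. Then G is isomorphic to one of: the alternating or the symmetric group of degree 5, PGL(2, 7), PSL(2, 11), PSL(2, 13), PSL(2, p) for a prime p ≡ ±1 (mod 16), PSL(3, 3), or a group containing a normal subgroup of index 2 isomorphic to PSL(3, 3) with trivial centralizer. -/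
theorem result {G Ω : Type*} [Group G] [Finite G] [MulAction G Ω] [FaithfulSMul G Ω] [Finite Ω]
    (hsol : ¬ Group.IsSolvable G) (hprim : MulAction.IsPreprimitive G Ω) (a b : Ω) (h3 : Nat.card (MulAction.orbit (MulAction.stabilizer G a) b) = 3) :
    Nonempty (G ≃* alternatingGroup (Fin 5)) ∨ Nonempty (G ≃* Equiv.Perm (Fin 5)) ∨
      Nonempty (G ≃* GL (Fin 2) (ZMod 7) ⧸ Subgroup.center (GL (Fin 2) (ZMod 7))) ∨
      Nonempty (G ≃* Matrix.ProjectiveSpecialLinearGroup (Fin 2) (ZMod 11)) ∨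
      Nonempty (G ≃* Matrix.ProjectiveSpecialLinearGroup (Fin 2) (ZMod 13)) ∨
      (∃ p : ℕ, p.Prime ∧ (p % 16 = 1 ∨ p % 16 = 15) ∧ Nonempty (G ≃* Matrix.ProjectiveSpecialLinearGroup (Fin 2) (ZMod p))) ∨
      Nonempty (G ≃* Matrix.ProjectiveSpecialLinearGroup (Fin 3) (ZMod 3)) ∨
      (∃ N : Subgroup G, N.Normal ∧ N.index = 2 ∧ Subgroup.centralizer (N : Set G) = ⊥ ∧
        Nonempty (N ≃* Matrix.ProjectiveSpecialLinearGroup (Fin 3) (ZMod 3))) := by
  obtain ⟨h1, hc, ⟨g, hg⟩, hne, hr⟩ := H78.stab_setup hprim a b h3 (by norm_num)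
  obtain ⟨k, -, hk⟩ := (H78.sims h1 hc hg hne hr).1
  have h : H43.Wong.St (MulAction.stabilizer G a) := by
    refine ⟨h1, fun N hN hle => le_bot_iff.1 (hc ▸ Subgroup.normal_le_normalCore.2 hle),
      S0144.result 2 3 k 1 Nat.prime_two Nat.prime_three (by rwa [hg, H42.card_cj] at hk), hsol,
      g, fun c => hne (hg.trans (H42.cj_of_mem c)).symm, ?_⟩
    have := H42.card_mul_relIndex
      (inf_le_right : MulAction.stabilizer G b ⊓ MulAction.stabilizer G a ≤ _)
    rwa [Subgroup.inf_relIndex_right, hr, mul_comm, inf_comm, hg] at this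
  rcases S3685.result hprim a b h3 with ⟨⟨e⟩⟩ | ⟨⟨e⟩⟩ | ⟨⟨e⟩⟩ | ⟨⟨e⟩⟩ | ⟨⟨e⟩⟩
  · refine absurd (S4040.result _ h1 (Group.nilpotent_of_mulEquiv e.symm) ?_) hsol
    rw [Nat.card_congr e.toEquiv, Nat.card_eq_fintype_card]
    decide
  · exact Or.inl (s3 h e)
  · exact Or.inr ((h.d12 e).imp_right (Or.imp_right (Or.imp_right Or.inl)))
  · exact Or.inr (Or.inr (Or.inr (Or.inr (Or.inr ((h.s4 e).imp_right Or.inl)))))
  · exact Or.inr (Or.inr (Or.inr (Or.inr (Or.inr (Or.inr (Or.inr (h.s4z e)))))))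

end Cfsg.Agent.S3686
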