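import Cfsg.Statements.S3699
import Cfsg.Agent.H52.PrimeGraph
-- import your own Cfsg.Agent.* helpers here

set_option autoImplicit false
open Cfsg

namespace Cfsg.Agent.S3699

/-- Let `q = 2^(2m+1) ≥ 8` and `S = Sz(q)` the Suzuki group. If a finite group `G` has the same prime graph as `S` (same prime divisors of the order; for distinct primes `r, s` an element of order `rs` in one iff in the other), then `G/O₂(G)` is isomorphic to `S`. The known proof uses the classification of finite simple groups. -/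
theorem result {F : Type*} [Field F] [Fintype F] (m : ℕ) (hm : 1 ≤ m)
    (hF : Fintype.card F = 2 ^ (2 * m + 1)) {G : Type*} [Group G] [Finite G]
    (h : ((∀ r : ℕ, r.Prime → (r ∣ Nat.card ↥(Cfsg.Lie.Sz F (2 ^ (m + 1))) ↔ r ∣ Nat.card G)) ∧
      (∀ r s : ℕ, r.Prime → s.Prime → r ≠ s → ((∃ x : ↥(Cfsg.Lie.Sz F (2 ^ (m + 1))), orderOf x = r * s) ↔ (∃ y : G, orderOf y = r * s))))) :
    Nonempty (G ⧸ Cfsg.pCore 2 G ≃* ↥(Cfsg.Lie.Sz F (2 ^ (m + 1)))) := by
  obtain ⟨h1, h2⟩ := h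
  have hq : Odd (2 ^ (2 * m + 1) - 1) := Nat.Even.sub_odd (Nat.one_le_two_pow)
    (Nat.even_pow.2 ⟨even_two, by omega⟩) odd_one
  have hno2 : ∀ p : ℕ, p.Prime → p ≠ 2 → ∀ y : G, orderOf y ≠ 2 * p := by
    intro p hp hp2 y hy
    obtain ⟨x, hx⟩ := (h2 2 p Nat.prime_two hp hp2.symm).2 ⟨y, hy⟩
    have h3 := H52.orderOf_sz hm hF x
    rw [hx] at h3
    rcases h3 with h3 | h3 | h3 | h3
    · exact H52.not_dvd_two_pow hp hp2 2 ((Dvd.intro_left 2 rfl).trans h3)
    · exact hq.not_two_dvd_nat ((Dvd.intro p rfl).trans h3)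
    · exact (H13.odd_np m).not_two_dvd_nat ((Dvd.intro p rfl).trans h3)
    · exact (H13.odd_nm m).not_two_dvd_nat ((Dvd.intro p rfl).trans h3)
  have hC := H52.isCIT_of_no_two_mul hno2
  have h3 : ¬ 3 ∣ Nat.card G := fun h =>
    H52.not_three_dvd_card_sz hm hF ((h1 3 Nat.prime_three).2 h)
  have hns : ¬ Group.IsSolvable G := by
    intro hs
    obtain ⟨r, hr, hrd⟩ := Nat.exists_prime_and_dvd (n := H13.np m)
      (by have := H13.five_le_nm hm; have := H13.nm_lt_np m; omega)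
    obtain ⟨s, hs', hsd⟩ := Nat.exists_prime_and_dvd (n := H13.nm m)
      (by have := H13.five_le_nm hm; omega)
    have hr2 : r ≠ 2 := by rintro rfl; exact (H13.odd_np m).not_two_dvd_nat hrd
    have hs2 : s ≠ 2 := by rintro rfl; exact (H13.odd_nm m).not_two_dvd_nat hsd
    have hrn : ¬ r ∣ H13.nm m := fun h =>
      hr.one_lt.ne' (Nat.eq_one_of_dvd_coprimes (H13.coprime_np_nm m) hrd h)
    have hsn : ¬ s ∣ H13.np m := fun h =>
      hs'.one_lt.ne' (Nat.eq_one_of_dvd_coprimes (H13.coprime_np_nm m) h hsd)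
    have hrs : r ≠ s := by rintro rfl; exact hrn hsd
    have hr' : r ∣ (2 ^ (2 * m + 1)) ^ 2 + 1 := H13.np_mul_nm m ▸ hrd.mul_right _
    have hs'' : s ∣ (2 ^ (2 * m + 1)) ^ 2 + 1 := H13.np_mul_nm m ▸ hsd.mul_left _
    obtain ⟨g, hg | hg | hg⟩ := H81.exists_orderOf_of_three_primes hs Nat.prime_two hr hs' hr2.symm
      hs2.symm hrs ((h1 2 Nat.prime_two).1 (by
        rw [H52.card_sz hm hF]
        exact (((dvd_pow_self 2 (by omega)).trans (dvd_pow_self _ two_ne_zero)).mul_right _).mul_right _))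
      ((h1 r hr).1 ((H52.dvd_card_sz_iff hm hF hr hr2).2 (Or.inr hr')))
      ((h1 s hs').1 ((H52.dvd_card_sz_iff hm hF hs' hs2).2 (Or.inr hs'')))
    · exact hno2 r hr hr2 g hg
    · exact hno2 s hs' hs2 g hg
    · obtain ⟨x, hx⟩ := (h2 r s hr hs' hrs).2 ⟨g, hg⟩
      have h4 := H52.orderOf_sz hm hF x
      rw [hx] at h4
      rcases h4 with h4 | h4 | h4 | h4
      · exact H52.not_dvd_two_pow hr hr2 2 ((Dvd.intro s rfl).trans h4)
      · exact hr.one_lt.ne' (Nat.eq_one_of_dvd_coprimes (H13.coprime_q_sub_one _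
          (Nat.even_pow.2 ⟨even_two, by omega⟩) (by positivity)) ((Dvd.intro s rfl).trans h4) hr')
      · exact hsn ((Dvd.intro_left r rfl).trans h4)
      · exact hrn ((Dvd.intro s rfl).trans h4)
  rcases H52.cit_nonsolvable hC hns with ⟨n, hn, ⟨e⟩⟩ | ⟨K, _, _, n, hn, hK, ⟨e⟩⟩ |
    ⟨-, -, N, -, -, -, -, -, -, ⟨K, _, _, -, ⟨e⟩⟩ | ⟨K, _, _, hK, ⟨e⟩⟩⟩
  · exfalso
    apply h3
    rw [← H52.dvd_card_quotient_pCore Nat.prime_three (by norm_num), Nat.card_congr e.toEquiv]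
    let := Fintype.ofFinite (GaloisField 2 n)
    exact H52.three_dvd_card_psl2
  · have key : ∀ {a b : ℕ}, 1 ≤ a → (∀ r : ℕ, r.Prime → r ≠ 2 → r ∣ (2 ^ (2 * a + 1)) ^ 2 + 1 →
        r ∣ 2 ^ (2 * b + 1) - 1 ∨ r ∣ (2 ^ (2 * b + 1)) ^ 2 + 1) → 2 * a + 1 ∣ 2 * b + 1 := by
      intro a b ha hab
      obtain ⟨r, hr, hr2, hd, -, hk⟩ := H52.exists_primitive_two (n := 2 * (2 * (2 * a + 1))) (by omega)
      rw [H52.two_pow_two_mul_sub_one, hr.dvd_mul] at hd
      have h4 : r ∣ (2 ^ (2 * a + 1)) ^ 2 + 1 := by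
        rw [← pow_mul, mul_comm]
        exact hd.resolve_right fun h => by
          have := Nat.le_of_dvd (by omega) (hk _ h)
          omega
      have h5 : r ∣ 2 ^ (2 * (2 * (2 * b + 1))) - 1 := by
        rw [H52.two_pow_two_mul_sub_one, H52.two_pow_two_mul_sub_one]
        rcases hab r hr hr2 h4 with h | h
        · exact (h.mul_left _).mul_left _
        · rw [← pow_mul, mul_comm] at h
          exact h.mul_right _
      exact Nat.dvd_of_mul_dvd_mul_left two_pos (Nat.dvd_of_mul_dvd_mul_left two_pos (hk _ h5))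
    have hiff : ∀ r : ℕ, r.Prime → r ≠ 2 →
        ((r ∣ 2 ^ (2 * m + 1) - 1 ∨ r ∣ (2 ^ (2 * m + 1)) ^ 2 + 1) ↔
          (r ∣ 2 ^ (2 * n + 1) - 1 ∨ r ∣ (2 ^ (2 * n + 1)) ^ 2 + 1)) := fun r hr hr2 => by
      rw [← H52.dvd_card_sz_iff hm hF hr hr2, ← H52.dvd_card_sz_iff hn hK hr hr2, h1 r hr,
        ← H52.dvd_card_quotient_pCore hr hr2, Nat.card_congr e.toEquiv]
    have h4 := Nat.dvd_antisymm (key hm fun r hr hr2 h => (hiff r hr hr2).1 (Or.inr h))
      (key hn fun r hr hr2 h => (hiff r hr hr2).2 (Or.inr h))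
    obtain rfl : m = n := by omega
    obtain ⟨f⟩ := H52.sz_equiv hm hF hK
    exact ⟨e.trans f⟩
  · exact absurd ((Nat.card_congr e.toEquiv ▸ H52.three_dvd_card_psl2 : 3 ∣ Nat.card N).trans
      N.card_subgroup_dvd_card) h3
  · exact absurd ((by rw [Nat.card_congr e.toEquiv, H52.card_psl3_four hK]; norm_num :
      3 ∣ Nat.card N).trans N.card_subgroup_dvd_card) h3

end Cfsg.Agent.S3699
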