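import Cfsg.Statements.S3700
import Cfsg.Agent.H52.PrimeGraph
-- import your own Cfsg.Agent.* helpers here

set_option autoImplicit false
open Cfsg

namespace Cfsg.Agent.S3700

/-- Let `F` be a finite field with `2^m` elements, `m ≥ 4`. If a finite group `G` has the same prime graph as `PSL(2, F)` (same prime divisors of the order; for distinct primes `r, s` an element of order `rs` in one iff in the other), then `G/O₂(G)` is isomorphic to `PSL(2, F)`. The known proof uses the classification of finite simple groups. -/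
theorem result {F : Type*} [Field F] [Fintype F] (m : ℕ) (hm : 4 ≤ m)
    (hF : Fintype.card F = 2 ^ m) {G : Type*} [Group G] [Finite G]
    (h : ((∀ r : ℕ, r.Prime → (r ∣ Nat.card (Matrix.ProjectiveSpecialLinearGroup (Fin 2) F) ↔ r ∣ Nat.card G)) ∧
      (∀ r s : ℕ, r.Prime → s.Prime → r ≠ s → ((∃ x : (Matrix.ProjectiveSpecialLinearGroup (Fin 2) F), orderOf x = r * s) ↔ (∃ y : G, orderOf y = r * s))))) :
    Nonempty (G ⧸ Cfsg.pCore 2 G ≃* Matrix.ProjectiveSpecialLinearGroup (Fin 2) F) := by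
  obtain ⟨h1, h2⟩ := h
  have hm1 : 1 ≤ m := by omega
  have h16 : 16 ≤ 2 ^ m := Nat.pow_le_pow_right (by norm_num : 0 < 2) hm
  have he : Even (2 ^ m) := Nat.even_pow.2 ⟨even_two, by omega⟩
  have hq : Odd (2 ^ m - 1) := Nat.Even.sub_odd Nat.one_le_two_pow he odd_one
  have hq' : Odd (2 ^ m + 1) := he.add_one
  have hcop : ∀ r : ℕ, r.Prime → r ∣ 2 ^ m - 1 → r ∣ 2 ^ m + 1 → False := by
    intro r hr a b
    have c := Nat.dvd_sub b a
    rw [show 2 ^ m + 1 - (2 ^ m - 1) = 2 by omega, Nat.prime_dvd_prime_iff_eq hr Nat.prime_two] at c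
    exact hq.not_two_dvd_nat (c ▸ a)
  have hno2 : ∀ p : ℕ, p.Prime → p ≠ 2 → ∀ y : G, orderOf y ≠ 2 * p := by
    intro p hp hp2 y hy
    obtain ⟨x, hx⟩ := (h2 2 p Nat.prime_two hp hp2.symm).2 ⟨y, hy⟩
    have h3 := H52.orderOf_psl2_even hm1 hF x
    rw [hx] at h3
    rcases h3 with h3 | h3 | h3
    · exact H52.not_dvd_two_pow hp hp2 1 ((Dvd.intro_left 2 rfl).trans h3)
    · exact hq.not_two_dvd_nat ((Dvd.intro p rfl).trans h3)
    · exact hq'.not_two_dvd_nat ((Dvd.intro p rfl).trans h3)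
  have hnoadj : ∀ r s : ℕ, r.Prime → s.Prime → r ∣ 2 ^ m - 1 → s ∣ 2 ^ m + 1 →
      ∀ y : G, orderOf y ≠ r * s := by
    intro r s hr hs hrd hsd y hy
    obtain ⟨x, hx⟩ := (h2 r s hr hs (by rintro rfl; exact hcop r hr hrd hsd)).2 ⟨y, hy⟩
    have h3 := H52.orderOf_psl2_even hm1 hF x
    rw [hx] at h3
    rcases h3 with h3 | h3 | h3
    · exact H52.not_dvd_two_pow hr (by rintro rfl; exact hq.not_two_dvd_nat hrd) 1
        ((Dvd.intro s rfl).trans h3)
    · exact hcop s hs ((Dvd.intro_left r rfl).trans h3) hsd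
    · exact hcop r hr hrd ((Dvd.intro s rfl).trans h3)
  have hC := H52.isCIT_of_no_two_mul hno2
  have hdG : ∀ r : ℕ, r.Prime → r ≠ 2 → (r ∣ Nat.card G ↔ r ∣ 2 ^ (2 * m) - 1) := fun r hr hr2 => by
    rw [← h1 r hr, H52.dvd_card_psl2_even hF hr hr2]
  obtain ⟨r, hr, hr2, hrd, hrge, hrk⟩ := H52.exists_primitive_two (n := 2 * m) (by omega)
  have hrp : r ∣ 2 ^ m + 1 := by
    rw [H52.two_pow_two_mul_sub_one, hr.dvd_mul] at hrd
    exact hrd.resolve_right fun h => by
      have := Nat.le_of_dvd (by omega) (hrk _ h)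
      omega
  have hsub : ∀ s : ℕ, s.Prime → s ∣ 2 ^ m - 1 → s ≠ 2 ∧ s ∣ Nat.card G := fun s hs hd =>
    have hs2 : s ≠ 2 := by rintro rfl; exact hq.not_two_dvd_nat hd
    ⟨hs2, (hdG s hs hs2).2 (H52.two_pow_two_mul_sub_one m ▸ hd.mul_left _)⟩
  have hns : ¬ Group.IsSolvable G := by
    intro hs
    obtain ⟨s, hs', hsd⟩ := Nat.exists_prime_and_dvd (n := 2 ^ m - 1) (by omega)
    obtain ⟨hs2, hsG⟩ := hsub s hs' hsd
    obtain ⟨g, hg | hg | hg⟩ := H81.exists_orderOf_of_three_primes hs Nat.prime_two hs' hr hs2.symm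
      hr2.symm (by rintro rfl; exact hcop s hs' hsd hrp) ((h1 2 Nat.prime_two).1 (by
        have h3 := H9.gcd_mul_card_psl_two (F := F)
        rw [hF, H52.gcd_two_even hm1, one_mul] at h3
        rw [h3]
        exact he.two_dvd.mul_right _)) hsG ((hdG r hr hr2).2 hrd)
    · exact hno2 s hs' hs2 g hg
    · exact hno2 r hr hr2 g hg
    · exact hnoadj s r hs' hr hsd hrp g hg
  rcases H52.cit_nonsolvable hC hns with ⟨n, hn, ⟨e⟩⟩ | e |
    ⟨-, -, N, -, _, hab, -, -, hodd, ⟨K, _, _, hK, ⟨e⟩⟩ | ⟨K, _, _, hK, ⟨e⟩⟩⟩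
  · let := Fintype.ofFinite (GaloisField 2 n)
    have hK : Fintype.card (GaloisField 2 n) = 2 ^ n := by
      rw [← Nat.card_eq_fintype_card, GaloisField.card 2 n (by omega)]
    have hiff : ∀ s : ℕ, s.Prime → s ≠ 2 → (s ∣ 2 ^ (2 * m) - 1 ↔ s ∣ 2 ^ (2 * n) - 1) :=
      fun s hs hs2 => by
        rw [← hdG s hs hs2, ← H52.dvd_card_quotient_pCore hs hs2, Nat.card_congr e.toEquiv,
          H52.dvd_card_psl2_even hK hs hs2]
    have h3 := hrk _ ((hiff r hr hr2).1 hrd)
    have h4 := Nat.le_of_dvd (by omega) h3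
    obtain ⟨s, hs, hs2, hsd, -, hsk⟩ := H52.exists_primitive_two (n := 2 * n) (by omega)
    have h5 := Nat.le_of_dvd (by omega) (hsk _ ((hiff s hs hs2).2 hsd))
    obtain rfl : m = n := by omega
    exact ⟨e.trans (H9.pslMapEquiv (FiniteField.ringEquivOfCardEq (hK.trans hF.symm)))⟩
  · exfalso
    apply H52.not_three_dvd_of_isoSuzuki e
    rw [H52.dvd_card_quotient_pCore Nat.prime_three (by norm_num), ← h1 3 Nat.prime_three]
    exact H52.three_dvd_card_psl2
  · exfalso
    have hdN : ∀ s : ℕ, s.Prime → s ≠ 2 → s ∣ Nat.card G →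
        s ∣ Fintype.card K ∨ s ∣ Fintype.card K + 1 ∨ s ∣ Fintype.card K - 1 := by
      intro s hs hs2 hd
      have := H52.dvd_card_of_odd_mem hodd hs hs2 hd
      rwa [Nat.card_congr e.toEquiv, H52.dvd_card_psl2_iff hs hs2, H66.sq_sub_one_eq,
        hs.dvd_mul] at this
    have h4 : 4 ≤ Fintype.card K :=
      H25.four_le_card_of_psl2 (H25.not_solvable_of_equiv e (H25.not_solvable_of_simple hab))
    have hrN := hdN r hr hr2 ((hdG r hr hr2).2 hrd)
    rcases hK with hK | ⟨hp, k, hk⟩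
    · rw [hK] at hrN
      have h5 : r ≤ 10 := by
        rcases hrN with h | h | h <;> have := Nat.le_of_dvd (by norm_num) h <;> omega
      have h6 : r = 9 ∨ r = 10 := by omega
      rcases h6 with rfl | rfl <;> norm_num at hr
    set p := Fintype.card K with hpdef
    have hpo : p % 2 = 1 := hp.eq_two_or_odd.resolve_left (by omega)
    have hg : Nat.gcd 2 (p - 1) = 2 := Nat.gcd_eq_left (by omega)
    obtain ⟨j, rfl⟩ : ∃ j, k = j + 2 := ⟨k - 2, by
      by_contra hc
      have : k < 2 := by omega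
      interval_cases k <;> omega⟩
    -- `c` is the odd part of `p ^ 2 - 1`
    obtain ⟨c, hc, hc1, hc2, hc3⟩ : ∃ c : ℕ, (c ∣ (p - 1) / 2 ∨ c ∣ (p + 1) / 2) ∧
        (∀ s : ℕ, s.Prime → s ≠ 2 → s ≠ p → s ∣ Nat.card G → s ∣ c) ∧
        c ∣ 2 ^ (2 * (j + 1)) - 1 ∧ (p = 2 ^ (j + 2) + 1 → c = 2 ^ (j + 1) + 1) := by
      have e1 : 2 ^ (j + 2) = 2 * 2 ^ (j + 1) := by ring
      have cop : ∀ s : ℕ, s.Prime → s ≠ 2 → s.Coprime 2 := fun s hs hs2 =>
        (Nat.coprime_primes hs Nat.prime_two).2 hs2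
      rcases hk with hk | hk
      · refine ⟨2 ^ (j + 1) + 1, Or.inr (by rw [show (p + 1) / 2 = 2 ^ (j + 1) + 1 by omega]),
          fun s hs hs2 hsp hd => ?_, H52.two_pow_two_mul_sub_one _ ▸ Dvd.intro _ rfl, fun _ => rfl⟩
        rcases hdN s hs hs2 hd with h | h | h
        · exact absurd ((Nat.prime_dvd_prime_iff_eq hs hp).1 h) hsp
        · rw [show p + 1 = 2 * (2 ^ (j + 1) + 1) by omega] at h
          exact (cop s hs hs2).dvd_of_dvd_mul_left h
        · rw [show p - 1 = 2 ^ (j + 2) by omega] at h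
          exact absurd h (H52.not_dvd_two_pow hs hs2 _)
      · refine ⟨2 ^ (j + 1) - 1, Or.inl (by rw [show (p - 1) / 2 = 2 ^ (j + 1) - 1 by omega]),
          fun s hs hs2 hsp hd => ?_, H52.two_pow_two_mul_sub_one _ ▸ Dvd.intro_left _ rfl,
          fun h => by omega⟩
        rcases hdN s hs hs2 hd with h | h | h
        · exact absurd ((Nat.prime_dvd_prime_iff_eq hs hp).1 h) hsp
        · rw [hk] at h
          exact absurd h (H52.not_dvd_two_pow hs hs2 _)
        · rw [show p - 1 = 2 * (2 ^ (j + 1) - 1) by omega] at h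
          exact (cop s hs hs2).dvd_of_dvd_mul_left h
    have hadj : ∀ s : ℕ, s.Prime → s ∣ 2 ^ m - 1 → s ≠ p → ∀ t : ℕ, t.Prime → t ∣ 2 ^ m + 1 →
        t = p := by
      intro s hs hsd hsp t ht htd
      by_contra htp
      have ht2 : t ≠ 2 := by rintro rfl; exact hq'.not_two_dvd_nat htd
      have h5 : s * t ∣ c := Nat.Coprime.mul_dvd_of_dvd_of_dvd
        ((Nat.coprime_primes hs ht).2 (by rintro rfl; exact hcop s hs hsd htd))
        (hc1 s hs (hsub s hs hsd).1 hsp (hsub s hs hsd).2)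
        (hc1 t ht ht2 htp ((hdG t ht ht2).2 (H52.two_pow_two_mul_sub_one m ▸ htd.mul_right _)))
      obtain ⟨x, hx⟩ := H25.exists_orderOf_psl2 (F := K) (m := s * t) h4
        (by rw [hg]; exact hc.imp h5.trans h5.trans)
      exact hnoadj s t hs ht hsd htd (e.symm x) (by rw [Subgroup.orderOf_coe, e.symm.orderOf_eq, hx])
    have e1 : 2 ^ (j + 2) = 2 * 2 ^ (j + 1) := by ring
    by_cases hrp' : r = p
    · have h5 : p ≤ 2 ^ m + 1 := Nat.le_of_dvd (by omega) (hrp' ▸ hrp)
      rcases hk with hk | hk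
      · have h6 : 2 * m ∣ 2 * (j + 2) := hrk _ (by
          rw [H52.two_pow_two_mul_sub_one, hrp', hk]; exact Dvd.intro _ rfl)
        have h7 := Nat.le_of_dvd (by omega) h6
        have h8 : 2 ^ (j + 2) ≤ 2 ^ m := by omega
        have h9 := (Nat.pow_le_pow_iff_right (by norm_num)).1 h8
        obtain rfl : m = j + 2 := by omega
        have h10 : 2 ^ (j + 2) - 1 = 3 ^ (2 ^ (j + 2) - 1).primeFactorsList.length := by
          refine Nat.eq_prime_pow_of_unique_prime_dvd (by omega) fun {s} hs hsd => ?_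
          have h11 := hc1 s hs (hsub s hs hsd).1 (by
            rintro rfl; exact hcop _ hs hsd (hk ▸ dvd_rfl)) (hsub s hs hsd).2
          rw [hc3 hk] at h11
          have h12 := Nat.dvd_sub (h11.mul_left 2) hsd
          rw [show 2 * (2 ^ (j + 1) + 1) - (2 ^ (j + 2) - 1) = 3 by omega] at h12
          exact (Nat.prime_dvd_prime_iff_eq hs Nat.prime_three).1 h12
        have := H25.two_pow_eq_three_pow_add_one (n := j + 2)
          (a := (2 ^ (j + 2) - 1).primeFactorsList.length) (by omega)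
        omega
      · have h6 : 2 * m ∣ j + 2 := hrk _ (by
          rw [hrp', show 2 ^ (j + 2) - 1 = p by omega])
        have h7 : 2 ^ (m + 2) ≤ 2 ^ (j + 2) :=
          Nat.pow_le_pow_right (by norm_num) (by have := Nat.le_of_dvd (by omega) h6; omega)
        have h8 : 2 ^ (m + 2) = 4 * 2 ^ m := by ring
        omega
    · obtain ⟨s, hs, hsd⟩ := Nat.exists_prime_and_dvd (n := 2 ^ m - 1) (by omega)
      have h5 : s = p := by
        by_contra hsp
        exact hrp' (hadj s hs hsd hsp r hr hrp)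
      have h6 : p ≤ 2 ^ m - 1 := Nat.le_of_dvd (by omega) (h5 ▸ hsd)
      have h7 := hrk _ ((hc1 r hr hr2 hrp' ((hdG r hr hr2).2 hrd)).trans hc2)
      have h8 : 2 ^ m ≤ 2 ^ (j + 1) :=
        Nat.pow_le_pow_right (by norm_num) (by have := Nat.le_of_dvd (by omega) h7; omega)
      omega
  · exfalso
    have h3 := H52.dvd_card_of_odd_mem hodd hr hr2 ((hdG r hr hr2).2 hrd)
    rw [Nat.card_congr e.toEquiv, H52.card_psl3_four hK,
      show 20160 = 2 ^ 6 * (3 ^ 2 * (5 * 7)) by norm_num, hr.dvd_mul, hr.dvd_mul, hr.dvd_mul] at h3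
    rcases h3 with h | h | h | h
    · exact H52.not_dvd_two_pow hr hr2 _ h
    · have := Nat.le_of_dvd (by norm_num) (hr.dvd_of_dvd_pow h); omega
    · have := Nat.le_of_dvd (by norm_num) h; omega
    · have := Nat.le_of_dvd (by norm_num) h; omega

end Cfsg.Agent.S3700
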