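import Cfsg.Statements.S3711
import Cfsg.Agent.H77.UTwoC

set_option autoImplicit false
open Cfsg

namespace Cfsg.Agent.S3711

/-- Recognition of unitary groups over the field with 4 elements from a weak Phan system. Let F be a field with 4 elements and n ≥ 4. Let G be a group with subgroups U_0, …, U_{n−1}, each isomorphic to SU(2, 4), and, for consecutive indices, subgroups V_{i,i+1} in which U_i and U_{i+1} form a standard pair (via an isomorphism from SU(3, 4) or PSU(3, 4) carrying the block-diagonal subgroups, or their images, onto U_i and U_{i+1}); suppose U_i and U_j commute elementwise whenever the indices differ by at least 2, that G is generated by the U_i and the V_{i,i+1}, that for each i the subgroup generated by V_{i,i+1} and V_{i+1,i+2} is a homomorphic image of SU(4, 4), that U_i and V_{j,j+1} commute elementwise whenever i ≤ j − 2 or i ≥ j + 3, and that V_{i,i+1} and V_{k,k+1} commute elementwise whenever k ≥ i + 3. Then G is a homomorphic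 image of SU(n+1, 4). (G is not assumed finite.) -/
theorem result {G : Type*} [Group G] (n : ℕ) (hn : 4 ≤ n)
    (F : Type*) [Field F] [Fintype F] (hF : Fintype.card F = 4)
    (U : Fin n → Subgroup G) (e : ∀ i, ↥(Cfsg.SU 2 F 2) ≃* ↥(U i))
    (V : Fin n → Fin n → Subgroup G)
    (h1 : ∀ i j : Fin n, (i : ℕ) + 2 ≤ j → ∀ x ∈ U i, ∀ y ∈ U j, x * y = y * x)
    (h2 : ∀ i j : Fin n, (i : ℕ) + 1 = j → Cfsg.IsStandardUnitaryPair (V i j) (U i) (U j) F 2)
    (hgen : (⨆ i, U i) ⊔ (⨆ (i : Fin n) (j : Fin n) (_ : (i : ℕ) + 1 = j), V i j) = ⊤)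
    (h4 : ∀ i j k : Fin n, (i : ℕ) + 1 = j → (j : ℕ) + 1 = k →
      ∃ g : ↥(Cfsg.SU 4 F 2) →* ↥(V i j ⊔ V j k), Function.Surjective g)
    (h5 : ∀ i j k : Fin n, (j : ℕ) + 1 = k → ((i : ℕ) + 2 ≤ j ∨ (k : ℕ) + 2 ≤ i) →
      ∀ x ∈ U i, ∀ y ∈ V j k, x * y = y * x)
    (h6 : ∀ i j k l : Fin n, (i : ℕ) + 1 = j → (k : ℕ) + 1 = l → (j : ℕ) + 2 ≤ k →
      ∀ x ∈ V i j, ∀ y ∈ V k l, x * y = y * x) :
    ∃ f : ↥(Cfsg.SU (n + 1) F 2) →* G, Function.Surjective f := by
  haveI : Fact (Fintype.card F = 2 ^ 2) := ⟨hF⟩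
  obtain ⟨n, rfl⟩ : ∃ m, n = m + 3 := ⟨n - 3, by omega⟩
  obtain ⟨Φ, a1, a2⟩ := H77.phan_two (F := F) n (fun i => if h : i < n + 3 then U ⟨i, h⟩ else ⊥)
    (fun i => if h : i + 1 < n + 3 then V ⟨i, by omega⟩ ⟨i + 1, h⟩ else ⊥) (fun i hi => by
      obtain ⟨ψ, a, b, c, d⟩ := H77.sp_of_std (h2 ⟨0 + i, by omega⟩ ⟨0 + i + 1, by omega⟩ rfl)
      obtain ⟨χ, a', b', c', d'⟩ := H77.sp_of_std (h2 ⟨1 + i, by omega⟩ ⟨1 + i + 1, by omega⟩ rfl)
      obtain ⟨g, hg⟩ := h4 ⟨0 + i, by omega⟩ ⟨0 + i + 1, by omega⟩ ⟨1 + i + 1, by omega⟩ rfl (by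
        simp; omega)
      have r := MonoidHom.range_comp (Subgroup.subtype _) g
      rw [MonoidHom.range_eq_top.2 hg, ← MonoidHom.range_eq_map, Subgroup.range_subtype] at r
      have e1 : 0 + i + 1 = 1 + i := by omega
      have e2 : 1 + i + 1 = 2 + i := by omega
      refine H77.pos2 a a' (r.trans (by rw [d, d']; simp only [e1])) (b.trans ?_)
        (c.trans ?_) (b'.trans ?_) (c'.trans ?_) (d.trans ?_) (d'.trans ?_) ?_
      · rw [dif_pos (by omega)]
      · rw [dif_pos (by omega)]; simp only [e1]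
      · rw [dif_pos (by omega)]
      · rw [dif_pos (by omega)]; simp only [e2]
      · rw [dif_pos (by omega)]
      · rw [dif_pos (by omega)]
      · rw [dif_pos (by omega), dif_pos (by omega)]
        exact h1 _ _ (by simp; omega))
    (fun i j h => by
      split_ifs with a b
      · exact h5 _ _ _ rfl (by simpa using h)
      all_goals simp +contextual)
    fun i j h => by
      split_ifs with a b
      · exact h6 _ _ _ _ rfl rfl (by simpa using h)
      all_goals simp +contextual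
  refine ⟨Φ, MonoidHom.range_eq_top.1 (top_le_iff.1 (hgen ▸ sup_le (iSup_le fun i => ?_)
    (iSup_le fun i => iSup_le fun j => iSup_le fun h => ?_)))⟩
  · exact ((a1 i (by omega)).trans (dif_pos i.2)).ge.trans fun _ ⟨g, h⟩ => ⟨_, h⟩
  · obtain ⟨j, hj⟩ := j
    subst h
    exact ((a2 i (by omega)).trans (dif_pos hj)).ge.trans fun _ ⟨g, h⟩ => ⟨_, h⟩

end Cfsg.Agent.S3711
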