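import Cfsg.Statements.S3716
import Cfsg.Agent.H76.T9Top

set_option autoImplicit false
open Cfsg

namespace Cfsg.Agent.S3716

open Subgroup Cfsg.Agent.H76

theorem mat : ∀ A : V × V, (∀ v, act A v = 0 → v = 0) → ∀ v, (act A)^[24] v = v := by
  decide +kernel

/-- Let G be a finite group with an elementary abelian Sylow 3-subgroup M of order 9 which is self-centralizing (C_G(M) = M), let N = N_G(M), and suppose C_G(g) ≤ N for every nonidentity g ∈ M. If the Sylow 2-subgroups of N are dihedral of order 8, then G is not simple. -/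
theorem result {G : Type*} [Group G] [Finite G] (M : Sylow 3 G) (hM9 : Nat.card ↥(M : Subgroup G) = 9)
    (hMel : ∀ m ∈ (M : Subgroup G), m ^ 3 = 1)
    (hCM : Subgroup.centralizer ((M : Subgroup G) : Set G) = (M : Subgroup G))
    (N : Subgroup G) (hN : N = Subgroup.normalizer ((M : Subgroup G) : Set G))
    (hCg : ∀ g ∈ (M : Subgroup G), g ≠ 1 → Subgroup.centralizer ({g} : Set G) ≤ N)
    (hS : ∀ S : Sylow 2 ↥N, Nonempty (↥(S : Subgroup ↥N) ≃* DihedralGroup 4)) :
    ¬ IsSimpleGroup G := by
  subst hN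
  intro hG
  set T := (M : Subgroup G)
  set N := normalizer (T : Set G) with hN
  have h : E3 T := ⟨hMel, M.not_dvd_index, hCM, hCg⟩
  obtain ⟨⟨a, ha⟩, h0⟩ : ∃ x : T, x ≠ 1 := by
    have : Nontrivial T := Finite.one_lt_card_iff_nontrivial.mp (by omega)
    exact exists_ne 1
  obtain ⟨b, f⟩ := exists_fr h hM9 ha fun e => h0 (Subtype.ext e)
  have h72 : ∀ n ∈ N, n ^ 72 = 1 := fun n hn => by
    obtain ⟨A, hA⟩ := f.exists_act hn
    have h1 : ∀ k v, n ^ k * ph a b v * (n ^ k)⁻¹ = ph a b ((act A)^[k] v) := fun k => by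
      induction k with
      | zero => simp
      | succ k ih => intro v; rw [pow_succ, act_mul ih hA]; rfl
    have h2 := (f.mem_iff (h1 24)).mpr (mat A fun v hv => by
      have := hA v
      rw [hv, Fr.zero] at this
      exact f.eq_one (by simpa using this))
    rw [show 72 = 24 * 3 by rfl, pow_mul, h.exp _ h2]
  have hc : Nat.card N = T.relIndex N * 9 := by
    rw [relIndex, ← index_mul_card (T.subgroupOf N),
      Nat.card_congr (subgroupOfEquivOfLe le_normalizer).toEquiv, hM9]
  have h3 : ¬ 3 ∣ T.relIndex N := fun e => h.syl (e.trans (relIndex_dvd_index_of_le le_normalizer))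
  have h4 := Nat.eq_prime_pow_of_unique_prime_dvd (n := T.relIndex N) (p := 2)
    index_ne_zero_of_finite fun {d} hd hd' => by
      have : Fact d.Prime := ⟨hd⟩
      obtain ⟨n, hn⟩ := exists_prime_orderOf_dvd_card' (G := N) d (hc ▸ hd'.mul_right 9)
      have h5 : d ∣ 2 ^ 3 * 3 ^ 2 := hn ▸ orderOf_dvd_of_pow_eq_one (Subtype.ext (h72 n n.2))
      rcases (Nat.Prime.dvd_mul hd).mp h5 with e | e
      · exact (Nat.prime_dvd_prime_iff_eq hd Nat.prime_two).mp (hd.dvd_of_dvd_pow e)
      · exact absurd ((Nat.prime_dvd_prime_iff_eq hd Nat.prime_three).mp (hd.dvd_of_dvd_pow e) ▸ hd') h3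
  obtain ⟨S⟩ : Nonempty (Sylow 2 N) := inferInstance
  obtain ⟨e⟩ := hS S
  have h5 := S.card_eq_multiplicity
  rw [Nat.card_congr e.toEquiv, DihedralGroup.nat_card, hc, h4,
    Nat.factorization_mul (by positivity) (by norm_num), Nat.Prime.factorization_pow Nat.prime_two]
    at h5
  have h6 : Nat.factorization 9 2 = 0 := Nat.factorization_eq_zero_of_not_dvd (by norm_num)
  simp only [Finsupp.coe_add, Pi.add_apply, Finsupp.single_eq_same, h6, add_zero] at h5
  have h7 : Nat.card N = 72 := by rw [hc, h4, ← h5]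
  let ι : DihedralGroup 4 →* G := N.subtype.comp ((S : Subgroup N).subtype.comp e.symm.toMonoidHom)
  have hι : Function.Injective ι :=
    N.subtype_injective.comp ((S : Subgroup N).subtype_injective.comp e.symm.injective)
  have hm : ∀ x, ι x ∈ N := fun x => (e.symm x).1.2
  have k : ∀ x, x = 1 → ι x ∈ T := fun x hx => by rw [hx, map_one]; exact one_mem _
  rcases d8_core h hM9 h7 (hm (DihedralGroup.r 1)) (hm (DihedralGroup.sr 0))
    (by simpa only [map_mul] using k (.r 1 * .r 1 * (.r 1 * .r 1)) (by decide))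
    (h.not_mem (by
      have : Fact (Nat.Prime 2) := ⟨Nat.prime_two⟩
      rw [← map_mul, orderOf_injective ι hι]
      exact orderOf_eq_prime (by decide) (by decide)))
    (by simpa only [map_mul] using k (.sr 0 * .sr 0) (by decide))
    (by simpa only [map_mul] using k (.r 1 * .sr 0 * (.r 1 * .sr 0)) (by decide)) with h8 | ⟨⟨e'⟩⟩
  · rcases h8.eq_bot_or_eq_top with h9 | h9
    · rw [h9] at hM9; simp at hM9
    · have := card_le_card_group N
      rw [h9, card_top] at hM9
      omega
  · have := e'.symm.isSimpleGroup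
    rcases (alternatingGroup.normal (α := Fin 6)).eq_bot_or_eq_top with h9 | h9
    · have : Equiv.swap (0 : Fin 6) 1 * Equiv.swap 1 2 ∈ alternatingGroup (Fin 6) := by
        rw [Equiv.Perm.mem_alternatingGroup]; decide
      rw [h9, mem_bot] at this
      revert this; decide
    · have : Equiv.swap (0 : Fin 6) 1 ∈ alternatingGroup (Fin 6) := h9 ▸ mem_top _
      rw [Equiv.Perm.mem_alternatingGroup] at this
      revert this; decide

end Cfsg.Agent.S3716
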