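import Cfsg.Statements.S3730
import Cfsg.Agent.H25.CITStruct
import Cfsg.Agent.H25.CCNilp
import Cfsg.Agent.H22.GWGen
import Cfsg.Agent.H23.PG
import Cfsg.Agent.H23.PGModel
import Cfsg.Agent.H42.ZStar
import Cfsg.Agent.H18.SmallCent
import Cfsg.Agent.H69.UniqueP
import Cfsg.Agent.GW.Basic3

set_option autoImplicit false
set_option linter.unusedSectionVars false
open Cfsg

namespace Cfsg.Agent.S3730

open Subgroup Cfsg.Agent.H49 Cfsg.Agent.GW
open scoped MatrixGroups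

section

variable {G : Type*} [Group G] [Finite G]

/-- the normaliser condition -/
def NC (G : Type*) [Group G] : Prop :=
  ∀ w s : G, s ∈ zpowers w → orderOf s = 2 → ∀ y ∈ zpowers w, y ≠ 1 → 𝒩(zpowers y) = 𝒞[s]

/-- no nontrivial solvable normal subgroup -/
def SS (G : Type*) [Group G] : Prop := ∀ N : Subgroup G, N.Normal → Group.IsSolvable N → N = ⊥

omit [Finite G] in
theorem ord_cj (g x : G) : orderOf (g * x * g⁻¹) = orderOf x := MulEquiv.orderOf_eq (MulAut.conj g) x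

omit [Finite G] in
theorem cj_of {g x : G} (h : g ∈ 𝒞[x]) : g * x * g⁻¹ = x := by
  rw [mem_cent1.1 h, mul_inv_cancel_right]

omit [Finite G] in
theorem of_cj {g x : G} (h : g * x * g⁻¹ = x) : g ∈ 𝒞[x] :=
  mem_cent1.2 (mul_inv_eq_iff_eq_mul.1 h)

theorem norm_inv {s : G} (hs : orderOf s = 2) : 𝒩(zpowers s) = 𝒞[s] := by
  refine le_antisymm (fun g hg => of_cj ?_) (by rw [← cent_zpowers]; exact cent_le_norm _)
  exact ((mem_zpowers_of_inv hs).1 (conj_mem_of_norm le_rfl hg (mem_zpowers s))).resolve_left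
    (ne_one_of_inv ((ord_cj g s).trans hs))

theorem SS.noiso (h : SS G) {t : G} (ht : orderOf t = 2) :
    ∃ g : G, g * t * g⁻¹ ∈ 𝒞[t] ∧ g * t * g⁻¹ ≠ t := by
  by_contra hno
  push Not at hno
  obtain ⟨N, hN, ho, hc⟩ := H42.zstar (z := t) ⟨ht, fun g hg => hno g (mem_cent1.2 hg.eq.symm)⟩
  rw [h N hN (solvable_of_odd ho)] at hc
  have h1 : (zpowers t).Normal := by
    rw [← normalizer_eq_top_iff, norm_inv ht, eq_top_iff]
    intro g _
    have := mem_bot.1 (hc g)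
    rw [mul_inv_eq_one, mul_inv_eq_iff_eq_mul] at this
    exact mem_cent1.2 this.symm
  exact ne_one_of_inv ht (zpowers_eq_bot.1 (h _ h1 (solvable_zpowers t)))

theorem pi_two_of_no_odd {K : Subgroup G} (h : ∀ y ∈ K, Odd (orderOf y) → y = 1) : IsPi {2} K := by
  intro p hp hd
  obtain ⟨y, hy, ho⟩ := exists_orderOf_eq_of_dvd_card hp hd
  by_contra h2
  have := h y hy (ho ▸ hp.odd_of_ne_two h2)
  rw [this, orderOf_one] at ho
  exact hp.one_lt.ne ho

theorem exists_inv_pow {w : G} (h : ¬ Odd (orderOf w)) : ∃ s ∈ zpowers w, orderOf s = 2 :=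
  exists_orderOf_eq_of_dvd_card Nat.prime_two
    (by rw [Nat.card_zpowers]; exact (Nat.not_odd_iff_even.1 h).two_dvd)

theorem eq_one_of_odd_of_two {K : Subgroup G} (hK : IsPi {2} K) {y : G} (hy : y ∈ K)
    (ho : Odd (orderOf y)) : y = 1 :=
  (hK.elt hy).eq_one ((isPiNat_compl_singleton Nat.prime_two).2 (by
    have := Nat.odd_iff.1 ho; omega))

namespace NC

variable (h : NC G)
include h

theorem odd {t x : G} (ht : orderOf t = 2) (hx : x ∈ 𝒞[t]) (ho : Odd (orderOf x)) (x1 : x ≠ 1) :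
    𝒩(zpowers x) = 𝒞[t] := by
  have h1 : t ∈ zpowers (x * t) := by
    refine ⟨orderOf x, ?_⟩
    obtain ⟨k, hk⟩ := ho
    change (x * t) ^ (orderOf x : ℤ) = t
    rw [zpow_natCast, Commute.mul_pow (mem_cent1.1 hx), pow_orderOf_eq_one, one_mul, hk, pow_succ,
      pow_mul, pow_two, mul_self_of_inv ht, one_pow, one_mul]
  refine h (x * t) t h1 ht x ?_ x1
  simpa using mul_mem (mem_zpowers (x * t)) (inv_mem h1)

theorem four {y c : G} (hy : orderOf (y * y) = 2) (hc : c ∈ 𝒞[y * y]) :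
    c * y * c⁻¹ = y ∨ c * y * c⁻¹ = y * (y * y) := by
  have y1 : y ≠ 1 := by rintro rfl; simp at hy
  rw [← h y _ (mul_mem (mem_zpowers y) (mem_zpowers y)) hy y (mem_zpowers y) y1] at hc
  obtain ⟨k, hk⟩ := conj_mem_of_norm le_rfl hc (mem_zpowers y)
  have h4 : y ^ (4 : ℤ) = 1 := by
    rw [← mul_self_of_inv hy, zpow_ofNat]; simp only [pow_succ, pow_zero, one_mul, mul_assoc]
  have hk' : c * y * c⁻¹ = y ^ (k % 4) := by
    rw [← hk]
    conv_lhs => rw [← Int.mul_ediv_add_emod k 4]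
    simp only [zpow_add, zpow_mul, h4, one_zpow, one_mul]
  have h2 : c * y * c⁻¹ * (c * y * c⁻¹) ≠ 1 := by
    have : c * y * c⁻¹ * (c * y * c⁻¹) = c * (y * y) * c⁻¹ := by group
    rw [this]
    exact ne_one_of_inv ((ord_cj _ _).trans hy)
  have : k % 4 = 0 ∨ k % 4 = 1 ∨ k % 4 = 2 ∨ k % 4 = 3 := by omega
  rcases this with e | e | e | e <;> rw [e] at hk'
  · exact absurd (by rw [hk']; simp) h2
  · left; rw [hk', zpow_one]
  · exact absurd (by rw [hk', ← h4]; group) h2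
  · right; rw [hk', zpow_ofNat]; simp only [pow_succ, pow_zero, one_mul, mul_assoc]

theorem inverts {t x u : G} (ht : orderOf t = 2) (hx : x ∈ 𝒞[t]) (ho : Odd (orderOf x))
    (x1 : x ≠ 1) (hu : orderOf u = 2) (hut : u ∈ 𝒞[t]) (hne : 𝒞[u] ≠ 𝒞[t]) :
    Inverts u (zpowers x) := by
  refine inverts_of_fix_eq_bot (mul_self_of_inv hu) (h.odd ht hx ho x1 ▸ hut) ?_
  by_contra h0
  obtain ⟨y, hy, y1⟩ := ne_bot_iff_exists.1 h0
  have hyo : Odd (orderOf y) := ho.of_dvd_nat (orderOf_dvd_of_mem_zpowers hy.1)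
  exact hne ((h.odd hu hy.2 hyo y1).symm.trans (h.odd ht (zpowers_le.2 hx hy.1) hyo y1))

theorem cent_eq {t x s : G} (ht : orderOf t = 2) (hx : x ∈ 𝒞[t]) (ho : Odd (orderOf x))
    (x1 : x ≠ 1) (hs : orderOf s = 2) (hsx : s ∈ 𝒞(zpowers x)) : 𝒞[s] = 𝒞[t] :=
  (h.odd hs (le_cent1_iff.2 hsx (mem_zpowers x)) ho x1).symm.trans (h.odd ht hx ho x1)

theorem exists_out (hs : SS G) (hG : ¬ Group.IsSolvable G) {t x : G} (ht : orderOf t = 2)
    (hx : x ∈ 𝒞[t]) (ho : Odd (orderOf x)) (x1 : x ≠ 1) :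
    ∃ u ∈ 𝒞[t], orderOf u = 2 ∧ ¬ 𝒞[u] ≤ 𝒞[t] := by
  by_contra hno
  push Not at hno
  have hCC : ∀ y ∈ 𝒞[t], y ≠ 1 → 𝒞[y] ≤ 𝒞[t] := by
    intro y hy y1
    by_cases hyo : Odd (orderOf y)
    · rw [← h.odd ht hy hyo y1, ← cent_zpowers]; exact cent_le_norm _
    · obtain ⟨s, hs, s2⟩ := exists_inv_pow hyo
      rw [← cent_zpowers]
      exact (cent_le_cent1 hs).trans (hno s (zpowers_le.2 hy hs) s2)
  obtain ⟨g, hg, hne⟩ := hs.noiso ht
  have h1 : g ∈ 𝒩(𝒞[t]) :=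
    mem_norm_of_cj_le (by rw [cj_cent1]; exact hno _ hg ((ord_cj g t).trans ht))
  have h2 := H25.nilpotent_of_cc hCC h1 fun h3 => hne (cj_of h3)
  have h3 := (H25.cit_of_cc_nilpotent hG hCC h2 ht (self_mem_cent1 t) fun hn =>
    ne_one_of_inv ht (mem_bot.1 (hs _ hn (solvable_of_nilpotent h2) ▸ self_mem_cent1 t))).2.1
  exact x1 (eq_one_of_odd_of_two (isPi_of_isPGroup Nat.prime_two (h3 t ht)) hx ho)

variable {t x u : G} (ht : orderOf t = 2) (hx : x ∈ 𝒞[t]) (ho : Odd (orderOf x)) (x1 : x ≠ 1)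
  (hut : u ∈ 𝒞[t]) (hu : orderOf u = 2) (hne : ¬ 𝒞[u] ≤ 𝒞[t])
include ht hx ho x1 hut hu hne

theorem uniq {s : G} (hs : orderOf s = 2) (hst : 𝒞[s] = 𝒞[t]) : s = t := by
  by_contra hs'
  have hr : Refl t s := ⟨hs, hs', mem_cent1.1 (hst ▸ self_mem_cent1 t)⟩
  have hts := hr.mul_inv ht
  have hcx : ∀ r, 𝒞[r] = 𝒞[t] → r ∈ 𝒞(zpowers x) := fun r hr =>
    le_cent1_iff.1 (zpowers_le.2 (hr ▸ hx))
  have hst' : 𝒞[t * s] = 𝒞[t] := h.cent_eq ht hx ho x1 hts (mul_mem (hcx t rfl) (hcx s hst))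
  have htK : t ∈ 𝒞[u] := mem_cent1_comm.1 hut
  have hsK : s ∈ 𝒞[u] := mem_cent1_comm.1 (hst ▸ hut)
  have hne' : 𝒞[t] ≠ 𝒞[u] := fun e => hne e.ge
  have hK : IsPi {2} 𝒞[u] := pi_two_of_no_odd fun y hy hyo => by
    by_contra y1
    exact hne' (hst'.symm.trans (h.cent_eq hu hy hyo y1 hts
      ((h.inverts hu hy hyo y1 ht htK hne').mul_mem_cent
        (h.inverts hu hy hyo y1 hs hsK (hst ▸ hne')))))
  obtain ⟨g, hg, hg'⟩ := SetLike.exists_of_lt (lt_inf_norm_of_nilpotent hK.nilpotent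
    (lt_of_le_of_ne (inf_le_left : 𝒞[u] ⊓ 𝒞[t] ≤ 𝒞[u]) fun e => hne (e.ge.trans inf_le_right)))
  have hgN : g ∈ 𝒩(𝒞[t]) := by
    have key : ∀ r, 𝒞[r] = 𝒞[t] → 𝒞[g * r * g⁻¹] = 𝒞[t] → g ∈ 𝒩(𝒞[t]) := fun r h1 h2 =>
      mem_norm_iff_cj.2 (by rw [← cj_cent1, h1] at h2; exact h2)
    have m1 : g * t * g⁻¹ ∈ 𝒞[t] :=
      (conj_mem_of_norm le_rfl hg.2 (mem_inf.2 ⟨htK, self_mem_cent1 t⟩)).2
    have m2 : g * s * g⁻¹ ∈ 𝒞[t] :=
      (conj_mem_of_norm le_rfl hg.2 (mem_inf.2 ⟨hsK, hst ▸ self_mem_cent1 s⟩)).2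
    by_cases a1 : 𝒞[g * t * g⁻¹] = 𝒞[t]
    · exact key t rfl a1
    by_cases a2 : 𝒞[g * s * g⁻¹] = 𝒞[t]
    · exact key s hst a2
    refine key _ hst' (h.cent_eq ht hx ho x1 ((ord_cj _ _).trans hts) ?_)
    have : g * (t * s) * g⁻¹ = g * t * g⁻¹ * (g * s * g⁻¹) := by group
    rw [this]
    exact (h.inverts ht hx ho x1 ((ord_cj _ _).trans ht) m1 a1).mul_mem_cent
      (h.inverts ht hx ho x1 ((ord_cj _ _).trans hs) m2 a2)
  have htW : t ∈ 𝒞[u] ⊓ 𝒞(𝒞[t]) := mem_inf.2 ⟨htK, le_cent1_iff.1 le_rfl⟩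
  obtain ⟨w, hw, w1⟩ := ne_bot_iff_exists.1 (inf_center_ne_bot_of_nilpotent
    (K := 𝒞[u] ⊓ 𝒩(𝒞[t])) (N := 𝒞[u] ⊓ 𝒞(𝒞[t])) (hK.inf_left _).nilpotent
    (inf_le_inf_left _ (cent_le_norm _)) (norm_inf (norm_of_le inf_le_left) (norm_cent inf_le_right))
    (ne_bot_iff_exists.2 ⟨t, htW, ne_one_of_inv ht⟩))
  obtain ⟨r, hr, r2⟩ := exists_inv_pow fun hwo => w1 (eq_one_of_odd_of_two hK hw.1.1 hwo)
  have h1 := h.cent_eq ht hx ho x1 r2 (cent_anti (zpowers_le.2 hx) (zpowers_le.2 hw.1.2 hr))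
  refine hg' (mem_inf.2 ⟨hg.1, h1 ▸ mem_cent1_comm.1 ?_⟩)
  exact zpowers_le.2 (cent_le_cent1 (mem_inf.2 ⟨hg.1, hgN⟩) hw.2) hr

theorem no_odd {y : G} (hy : y ∈ 𝒞[t] ⊓ 𝒞[u]) (hyo : Odd (orderOf y)) : y = 1 := by
  by_contra y1
  exact hne ((h.odd hu hy.2 hyo y1).symm.trans (h.odd ht hy.1 hyo y1)).le

theorem inv_cases {s : G} (hs : s ∈ 𝒞[t] ⊓ 𝒞[u]) (s2 : orderOf s = 2) :
    s = t ∨ s = u ∨ s = t * u := by
  by_cases a1 : 𝒞[s] = 𝒞[t]
  · exact Or.inl (h.uniq ht hx ho x1 hut hu hne s2 a1)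
  have h1 := (h.inverts ht hx ho x1 s2 hs.1 a1).mul_mem_cent
    (h.inverts ht hx ho x1 hu hut fun e => hne e.le)
  by_cases a2 : s = u
  · exact Or.inr (Or.inl a2)
  have h2 := (Refl.mul_inv ⟨hu, Ne.symm a2, mem_cent1.1 hs.2⟩ s2)
  have h3 := h.uniq ht hx ho x1 hut hu hne h2 (h.cent_eq ht hx ho x1 h2 h1)
  exact Or.inr (Or.inr (by rw [← h3, mul_assoc, mul_self_of_inv hu, mul_one]))

theorem not_sq_t {y : G} (hy : y ∈ 𝒞[t] ⊓ 𝒞[u]) (hyt : y * y = t) : False := by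
  have key : ∀ y : G, y * y = t → y ∈ 𝒞(zpowers x) := by
    intro y hyt
    have y1 : y ≠ 1 := by rintro rfl; exact ne_one_of_inv ht (by rw [← hyt, mul_one])
    have h1 := h y t (hyt ▸ mul_mem (mem_zpowers y) (mem_zpowers y)) ht y (mem_zpowers y) y1
    have h2 : IsPi {2} (zpowers y) := isPi_of_isPGroup Nat.prime_two
      (IsPGroup.of_card_dvd_pow (n := 2) (by
        rw [Nat.card_zpowers, orderOf_dvd_iff_pow_eq_one, ← mul_self_of_inv ht, ← hyt,
          show 2 ^ 2 = 4 from rfl]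
        simp only [pow_succ, pow_zero, one_mul, mul_assoc]))
    refine h2.cent_of_norm (isPi_odd_iff.2 (by rwa [Nat.card_zpowers])) ?_ ?_ (mem_zpowers y)
    · rw [h.odd ht hx ho x1, zpowers_le, ← hyt]
      exact mem_cent1.2 (mul_assoc _ _ _).symm
    · rw [h1, zpowers_le]; exact hx
  have h1 := key (y * u) (by
    rw [mul_assoc, ← mul_assoc u, ← mem_cent1.1 hy.2, mul_assoc, mul_self_of_inv hu, mul_one, hyt])
  have h2 : u ∈ 𝒞(zpowers x) := by simpa using mul_mem (inv_mem (key y hyt)) h1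
  exact hne (h.cent_eq ht hx ho x1 hu h2).le

theorem not_sq_v (hs : SS G) {v y : G} (hv : v = u ∨ v = t * u) (hy : y ∈ 𝒞[t] ⊓ 𝒞[u])
    (hyv : y * y = v) : False := by
  have hr : Refl t u := ⟨hu, fun e => hne (e ▸ le_rfl), (mem_cent1.1 hut).symm⟩
  have htt := mul_self_of_inv ht
  have hrv : Refl t v := by
    rcases hv with rfl | rfl
    · exact hr
    · exact hr.mul ht
  have hvv := mul_self_of_inv hrv.inv
  have hW : ∀ m ∈ 𝒞[t], m ∈ 𝒞[v] → m ∈ 𝒞[t] ⊓ 𝒞[u] := by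
    intro m h1 h2
    rcases hv with rfl | rfl
    · exact ⟨h1, h2⟩
    · refine ⟨h1, mem_cent1_comm.1 ?_⟩
      simpa using mul_mem (inv_mem (mem_cent1_comm.1 h1)) (mem_cent1_comm.1 h2)
  have hinv : ∀ s ∈ 𝒞[t] ⊓ 𝒞[u], orderOf s = 2 → s = t ∨ s = v ∨ s = t * v := by
    intro s h1 h2
    have := h.inv_cases ht hx ho x1 hut hu hne h1 h2
    rcases hv with rfl | rfl
    · exact this
    · rw [← mul_assoc, htt, one_mul]; tauto
  have hout : ¬ (𝒞[v] ≤ 𝒞[t] ∧ 𝒞[t * v] ≤ 𝒞[t]) := by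
    rcases hv with rfl | rfl
    · exact fun e => hne e.1
    · rw [← mul_assoc, htt, one_mul]; exact fun e => hne e.2
  have hty : t * y = y * t := (mem_cent1.1 hy.1).symm
  have hyt : y * t * (y * t) = v := by
    rw [mul_assoc, ← mul_assoc t, hty, mul_assoc, htt, mul_one, hyv]
  have hvy : v * y = y * v := by rw [← hyv, mul_assoc]
  have act : ∀ m ∈ 𝒞[v], (m * y * m⁻¹ = y ∨ m * y * m⁻¹ = y * v) ∧
      (m * (y * t) * m⁻¹ = y * t ∨ m * (y * t) * m⁻¹ = y * t * v) := fun m hm =>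
    ⟨hyv ▸ h.four (hyv ▸ hrv.inv) (hyv ▸ hm), hyt ▸ h.four (hyt ▸ hrv.inv) (hyt ▸ hm)⟩
  have h1 : ∀ m ∈ 𝒞[v], m * t * m⁻¹ = t ∨ m * t * m⁻¹ = t * v := by
    intro m hm
    have e : m * t * m⁻¹ = (m * y * m⁻¹)⁻¹ * (m * (y * t) * m⁻¹) := by group
    have hvi := inv_eq_of_inv hrv.inv
    rcases act m hm with ⟨a | a, b | b⟩ <;> rw [e, a, b]
    · left; group
    · right; group
    · right; rw [mul_inv_rev, hvi, hrv.comm]; group
    · left
      rw [mul_inv_rev, hvi, mul_assoc y, hrv.comm, mul_assoc, inv_mul_cancel_left, ← mul_assoc, hvv,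
        one_mul]
  have h2 : ∀ m ∈ 𝒞[v], m * m ∈ 𝒞[t] ⊓ 𝒞[u] := by
    intro m hm
    refine hW _ (of_cj ?_) (mul_mem hm hm)
    have e : m * m * t * (m * m)⁻¹ = m * (m * t * m⁻¹) * m⁻¹ := by group
    rcases h1 m hm with a | a
    · rw [e, a, a]
    · have e2 : m * (t * v) * m⁻¹ = m * t * m⁻¹ * (m * v * m⁻¹) := by group
      rw [e, a, e2, a, cj_of hm, mul_assoc, hvv, mul_one]
  have h3 : ¬ IsConj t v := by
    intro hc
    obtain ⟨g, hg⟩ := isConj_iff.1 hc
    have m1 : g * x * g⁻¹ ∈ 𝒞[v] := by rw [← hg, ← cj_cent1]; exact conj_mem_cj.2 hx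
    have m2 := h.no_odd ht hx ho x1 hut hu hne (h2 _ m1) (by
      rw [← pow_two]
      exact ((ord_cj g x).symm ▸ ho).of_dvd_nat (orderOf_pow_dvd 2))
    have m3 := H23.eq_one_of_odd_of_sq ((ord_cj g x).symm ▸ ho) m2
    exact x1 (by simpa using m3)
  obtain ⟨g, hg, hgv⟩ := hs.noiso hrv.inv
  have hc : IsConj v (g * v * g⁻¹) := isConj_iff.2 ⟨g, rfl⟩
  have g2 := (ord_cj g v).trans hrv.inv
  rcases h1 _ hg with a | a
  · rcases hinv _ (hW _ (of_cj a) hg) g2 with b | b | b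
    · exact h3 (b ▸ hc).symm
    · exact hgv b
    · have h4 : 𝒞[v] ≤ 𝒞[t] := fun m hm => of_cj ((h1 m hm).resolve_right fun c =>
        h3 ((isConj_iff.2 ⟨m, c⟩).trans (b ▸ hc).symm))
      refine hout ⟨h4, le_trans (eq_of_le_of_card_eq (fun m hm => ?_) ?_).ge h4⟩
      · exact mem_cent1_comm.1 (mul_mem (mem_cent1_comm.1 (h4 hm)) (mem_cent1_comm.1 hm))
      · rw [← b, ← cj_cent1]; exact Nat.card_congr (cjEquiv g _).toEquiv
  · obtain ⟨y', hy', hc'⟩ : ∃ y', y' * y' = v ∧ y' ∈ 𝒞[g * v * g⁻¹] := by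
      rcases (act _ hg).1 with b | b
      · exact ⟨y, hyv, mem_cent1_comm.1 (of_cj b)⟩
      · refine ⟨y * t, hyt, mem_cent1_comm.1 (of_cj ?_)⟩
        have e : ∀ c : G, c * (y * t) * c⁻¹ = c * y * c⁻¹ * (c * t * c⁻¹) := fun c => by group
        rw [e, a, b, hrv.comm, mul_assoc, ← mul_assoc v, hvv, one_mul]
    have m1 : g⁻¹ * y' * g ∈ 𝒞[v] := by rw [← cj_cent1] at hc'; exact mem_cj.1 hc'
    have m2 := h2 _ m1
    have e : g⁻¹ * y' * g * (g⁻¹ * y' * g) = g⁻¹ * v * g⁻¹⁻¹ := by rw [← hy']; group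
    rw [e] at m2
    have hc2 : IsConj v (g⁻¹ * v * g⁻¹⁻¹) := isConj_iff.2 ⟨g⁻¹, rfl⟩
    rcases hinv _ m2 ((ord_cj _ v).trans hrv.inv) with b | b | b
    · exact h3 (b ▸ hc2).symm
    · exact hgv (by nth_rw 1 [← b]; group)
    · exact h3 ((isConj_iff.2 ⟨_, a⟩).trans (b ▸ hc2).symm)

theorem selfcent (hs : SS G) : 𝒞[t] ⊓ 𝒞[u] ≤ GW.four t u := by
  have hr : Refl t u := ⟨hu, fun e => hne (e ▸ le_rfl), (mem_cent1.1 hut).symm⟩
  have key : ∀ w ∈ 𝒞[t] ⊓ 𝒞[u], w * w = 1 → w = 1 ∨ w = t ∨ w = u ∨ w = t * u := fun w hw h2 => by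
    by_cases w1 : w = 1
    · exact Or.inl w1
    · exact Or.inr (h.inv_cases ht hx ho x1 hut hu hne hw (inv_of_mul_self h2 w1))
  have h2 : ∀ k : ℕ, ∀ w ∈ 𝒞[t] ⊓ 𝒞[u], w ^ 2 ^ k = 1 → w * w = 1 := by
    intro k
    induction k with
    | zero => intro w _ hw; rw [pow_zero, pow_one] at hw; rw [hw, mul_one]
    | succ k ih =>
      intro w hw hk
      rcases key _ (mul_mem hw hw) (ih _ (mul_mem hw hw) (by
        rw [← pow_two, ← pow_mul, ← pow_succ', hk])) with a | a | a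
      · exact a
      · exact (h.not_sq_t ht hx ho x1 hut hu hne hw a).elim
      · exact (h.not_sq_v ht hx ho x1 hut hu hne hs (a.imp Eq.symm Eq.symm |>.imp Eq.symm Eq.symm)
          hw rfl).elim
  intro w hw
  obtain ⟨k, hk⟩ := (pi_two_of_no_odd fun y hy hyo =>
    h.no_odd ht hx ho x1 hut hu hne hy hyo).isPGroup Nat.prime_two ⟨w, hw⟩
  exact (hr.mem_four ht).2 (key w hw (h2 k w hw (congrArg Subtype.val hk)))

end NC

theorem NC.dihed (h : NC G) {U : Subgroup G} (hU : ∀ x ∈ U, x * x = 1) (h4 : Nat.card U = 4)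
    (hC : 𝒞(U) ≤ U) : Dihed G := by
  have hUp : IsPGroup 2 U := IsPGroup.of_card (n := 2) h4
  obtain ⟨S, hS⟩ := hUp.exists_le_sylow
  have hU1 : U ≠ ⊥ := fun e => by rw [e, card_bot] at h4; omega
  obtain ⟨z, hz, z1⟩ := ne_bot_iff_exists.1 (center_ne_bot_of_nilpotent
    (isPi_of_isPGroup Nat.prime_two S.isPGroup').nilpotent (ne_bot_mono hS hU1))
  have hzU : z ∈ U := hC (cent_anti hS hz.2)
  have z2 := inv_of_mul_self (hU z hzU) z1
  obtain ⟨w, hw, hw'⟩ := SetLike.exists_of_lt (lt_of_le_of_ne (zpowers_le.2 hzU) fun e => by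
    rw [← e, Nat.card_zpowers, z2] at h4; omega)
  have w1 : w ≠ 1 := fun e => hw' (e ▸ one_mem _)
  have hr : Refl z w := ⟨inv_of_mul_self (hU w hw) w1, fun e => hw' (e ▸ mem_zpowers _),
    (hz.2 w (hS hw)).symm⟩
  have hUe : GW.four z w = U := eq_of_le_of_card_eq (four_le hzU hw) (by rw [hr.card_four z2, h4])
  have hc : Nat.card (centralizer ({⟨w, hS hw⟩} : Set S)) ≤ 4 := by
    rw [← h4, ← card_map_of_injective (S : Subgroup G).subtype_injective]
    refine card_le_of_le ?_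
    rintro _ ⟨c, hc, rfl⟩
    refine hC ?_
    rw [← hUe, Refl.cent_four_eq]
    exact ⟨mem_cent1.2 (hz.2 c c.2), mem_cent1.2 (congrArg Subtype.val (mem_cent1.1 hc))⟩
  have hq : ¬ (IsCyclic S ∨ ∃ n : ℕ, Nonempty (S ≃* QuaternionGroup n)) := fun hq => by
    obtain ⟨k, hk⟩ := H69.mem_zpowers_of_cyclic_or_quaternion S.isPGroup' hq (x := ⟨z, hz.1⟩)
      (y := ⟨w, hS hw⟩) (fun e => z1 (congrArg Subtype.val e))
      (Subtype.ext (by simpa [pow_two] using hU z hzU)) (Subtype.ext (by simpa [pow_two] using hU w hw))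
    exact hw' ⟨k, congrArg Subtype.val hk⟩
  rcases H18.two_group_cases S.isPGroup' _ hc with a | ⟨n, hn, a⟩ | ⟨n, a⟩ | ⟨n, hn, -, a, b, ha, hb, hab⟩
  · exact (hq (Or.inl a)).elim
  · exact ⟨S, n, hn, a⟩
  · exact (hq (Or.inr ⟨_, a⟩)).elim
  exfalso
  obtain ⟨k, rfl⟩ : ∃ k, n = k + 3 := ⟨n - 3, by omega⟩
  have ha' : orderOf (a : G) = 2 ^ (k + 3) := by rw [← ha, Subgroup.orderOf_coe]
  have hb' : (b : G) * b = 1 := mul_self_of_inv ((Subgroup.orderOf_coe b).trans hb)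
  have hab' : (b : G) * a * (b : G)⁻¹ = (a : G) ^ (2 ^ (k + 2) - 1) := congrArg Subtype.val hab
  have hk : 1 ≤ 2 ^ k := Nat.one_le_two_pow
  have k2 : 2 ^ (k + 2) = 4 * 2 ^ k := by ring
  have k3 : 2 ^ (k + 3) = 8 * 2 ^ k := by ring
  have h1 : (a : G) * b * (a * b) = (a : G) ^ 2 ^ (k + 2) := by
    rw [mul_assoc, ← mul_assoc (b : G)]
    nth_rw 2 [← inv_eq_of_mul_eq_one_right hb']
    rw [hab', ← pow_succ', Nat.sub_add_cancel Nat.one_le_two_pow]
  have h2 : orderOf ((a : G) * b * (a * b)) = 2 := by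
    rw [h1, orderOf_pow_of_dvd (by positivity) (ha' ▸ pow_dvd_pow 2 (by omega)), ha', pow_succ,
      Nat.mul_div_cancel_left _ (by positivity)]
  rcases h.four h2 (c := a) (h1 ▸ mem_cent1.2 (Commute.self_pow _ _).eq) with c | c
  · have h3 : (b : G) * a * (b : G)⁻¹ = a := by
      rw [mul_inv_eq_iff_eq_mul, mul_assoc] at c
      rw [mul_inv_eq_iff_eq_mul, ← mul_left_cancel c]
    rw [hab'] at h3
    have h5 := pow_eq_pow_iff_modEq.1 (h3.trans (pow_one _).symm)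
    rw [ha', k3, k2] at h5
    have := Nat.le_of_dvd (by omega) ((Nat.modEq_iff_dvd' (by omega)).1 h5.symm)
    omega
  · have h3 : (a : G) ^ 2 = 1 := by
      calc _ = a * (a * b) * (a : G)⁻¹ * (a * b) * ((b : G) * b)⁻¹ := by rw [pow_two]; group
        _ = a * b * (a * b) * (a * b * (a * b)) := by rw [c, hb']; group
        _ = 1 := mul_self_of_inv h2
    have h5 := orderOf_dvd_of_pow_eq_one h3
    rw [ha', k3] at h5
    have := Nat.le_of_dvd (by omega) h5
    omega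

theorem NC.not_a7 (h : NC G) {L : Subgroup G} (e : L ≃* alternatingGroup (Fin 7)) : False := by
  let f : alternatingGroup (Fin 7) →* G := L.subtype.comp e.symm.toMonoidHom
  have hf : Function.Injective f := L.subtype_injective.comp e.symm.injective
  let t : alternatingGroup (Fin 7) := ⟨Equiv.swap 0 1 * Equiv.swap 2 3, Equiv.Perm.mem_alternatingGroup.2 (by decide)⟩
  let x : alternatingGroup (Fin 7) := ⟨Equiv.swap 4 5 * Equiv.swap 5 6, Equiv.Perm.mem_alternatingGroup.2 (by decide)⟩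
  let c : alternatingGroup (Fin 7) := ⟨Equiv.swap 0 1 * Equiv.swap 1 2, Equiv.Perm.mem_alternatingGroup.2 (by decide)⟩
  have ht : orderOf (f t) = 2 := by
    rw [orderOf_injective f hf]; exact orderOf_eq_prime (by decide) (by decide)
  have hx : orderOf (f x) = 3 := by
    rw [orderOf_injective f hf]; exact orderOf_eq_prime (by decide) (by decide)
  have h1 := h.odd ht (x := f x) (mem_cent1.2 (by rw [← map_mul, ← map_mul]; congr 1; decide))
    (by rw [hx]; decide) (fun e => by rw [e, orderOf_one] at hx; omega)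
  have h2 : f c ∈ 𝒞[f t] := by
    rw [← h1]
    refine cent_le_norm _ ?_
    rw [cent_zpowers]
    exact mem_cent1.2 (by rw [← map_mul, ← map_mul]; congr 1; decide)
  have h3 := mem_cent1.1 h2
  rw [← map_mul, ← map_mul] at h3
  exact absurd (hf h3) (by decide)

theorem NC.of_dihed (h : NC G) (hs : SS G) (hG : ¬ Group.IsSolvable G) (hD : Dihed G) :
    ∃ (F : Type) (_ : Field F) (_ : Fintype F), 3 < Fintype.card F ∧
      (Nonempty (G ≃* PSL(2, F)) ∨ Nonempty (G ≃* Matrix.ProjGenLinGroup (Fin 2) F)) := by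
  obtain ⟨L, hL, -, -, hLD, hC, ⟨F, _, _, hFo, hF3, ⟨e⟩⟩ | ⟨⟨e⟩, -⟩⟩ := H22.gw_nonsolv hD
    (hs _ inferInstance (solvable_of_odd H8.odd_card_pPrimeCore)) hG
  swap
  · exact (h.not_a7 e).elim
  refine ⟨F, inferInstance, inferInstance, hF3, ?_⟩
  obtain ⟨φ, hφ, -, hLφ⟩ := H22.exists_aut_embedding L hC e
  obtain ⟨τ, m, p, -, hpg⟩ := H23.Pgl.exists_pg F (by rwa [Nat.card_eq_fintype_card])
    (by rwa [Nat.card_eq_fintype_card])
  rw [← hLφ] at hpg
  set P := (H23.Pgl.iota F).range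
  have hinv : ∀ g : G, g * g = 1 → φ g ∈ P := by
    intro g hg
    by_contra hgP
    obtain ⟨_, ⟨a, ha, rfl⟩, _, ⟨b, hb, rfl⟩, a2, b2, a1, b1, hab, c1, c2, c3⟩ :=
      hpg.field_two (φ g) hgP (by rw [← map_mul, hg, map_one])
    rw [← map_mul] at a2 b2 c1 c2 c3
    rw [← map_mul] at c1 c2 c3
    rw [← map_one φ] at a2 b2
    have hr : Refl a b := ⟨inv_of_mul_self (hφ b2) fun e => b1 (by rw [e, map_one]),
      fun e => hab (by rw [e]), hφ c1⟩
    have := hD.mem_four (inv_of_mul_self (hφ a2) fun e => a1 (by rw [e, map_one])) hr hg (hφ c2)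
      (hφ c3)
    exact hgP (hpg.L_le ⟨g, four_le ha hb this, rfl⟩)
  have htwo : ∀ R : Subgroup G, IsPGroup 2 R → R ≤ P.comap φ := by
    intro R hR
    obtain ⟨S, x, y, hd, -, hRS⟩ := hD.exists_dih_ge hR
    have hy : y ∉ zpowers x := by simpa using hd.mul_y_notMem (one_mem _)
    have hyS : y ∈ (S : Subgroup G) := by
      obtain ⟨-, h1, -⟩ := hd
      exact h1
    have h1 : y ∈ P.comap φ := hinv y (hd.out_sq hyS hy)
    have h2 : x * y ∈ P.comap φ := hinv _ (hd.out_sq (mul_mem (hd.A_le (mem_zpowers x)) hyS)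
      (hd.mul_y_notMem (mem_zpowers x)))
    exact hRS.trans (hd.le_of_mem (by simpa using mul_mem h2 (inv_mem h1)) hyS hy h1)
  obtain ⟨t, htL, -, -, ht, -⟩ := H22.exists_refl_mem hLD
  have htP : φ t ∈ P := hinv t (mul_self_of_inv ht)
  have t2 : φ t * φ t = 1 := by rw [← map_mul, mul_self_of_inv ht, map_one]
  have t1 : φ t ≠ 1 := fun e => ne_one_of_inv ht (hφ (e.trans (map_one φ).symm))
  have hcent : 𝒞[t] ≤ P.comap φ := by
    refine le_of_sylowOf_le fun r hr _ => ?_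
    obtain ⟨R, hR⟩ := exists_sylowOf r 𝒞[t]
    refine ⟨R, hR, ?_⟩
    by_cases r2 : r = 2
    · exact htwo R (r2 ▸ hR.pi.isPGroup hr)
    have key : ∀ k : ℕ, ∀ g ∈ 𝒞[t], g ^ r ^ k = 1 → φ g ∈ P := by
      intro k
      induction k with
      | zero => intro g _ hg; rw [pow_zero, pow_one] at hg; rw [hg, map_one]; exact one_mem _
      | succ k ih =>
        intro g hg hk
        by_cases g1 : g = 1
        · rw [g1, map_one]; exact one_mem _
        have hgo : Odd (orderOf g) :=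
          (hr.odd_of_ne_two r2).pow.of_dvd_nat (orderOf_dvd_of_pow_eq_one hk)
        refine hpg.mem_P_of_commutator htP t2 t1 hr r2
          (map_pow φ g r ▸ ih _ (pow_mem hg r) (by rw [← pow_mul, ← pow_succ', hk]))
          (by rwa [orderOf_injective φ hφ]) (by rw [← map_mul, mem_cent1.1 hg, map_mul]) ?_
        rintro _ ⟨hy, y, -, rfl⟩
        have h1 : y ∈ 𝒩(zpowers g) := by
          rw [h.odd ht hg hgo g1]
          exact mem_cent1.2 (hφ (by rw [map_mul, map_mul]; exact hpg.comm_of_mem _ htP _ hy))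
        obtain ⟨i, hi⟩ := mul_mem (mem_zpowers g)
          (conj_mem_of_norm le_rfl h1 (inv_mem (mem_zpowers g)))
        refine ⟨k + 1, ?_⟩
        have h2 : φ g * φ y * (φ g)⁻¹ * (φ y)⁻¹ = φ (g ^ i) := by
          simp only at hi
          rw [hi]; simp [mul_assoc]
        rw [h2, ← map_pow, ← zpow_natCast, ← zpow_mul, mul_comm, zpow_mul, zpow_natCast, hk,
          one_zpow, map_one]
    intro g hg
    obtain ⟨k, hk⟩ := hR.pi.isPGroup hr ⟨g, hg⟩
    exact key k g (hR.le hg) (congrArg Subtype.val hk)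
  have hall : φ.range ≤ P := by
    rintro _ ⟨g, rfl⟩
    have hgt : g * t * g⁻¹ ∈ L := (inferInstance : L.Normal).conj_mem t htL g
    have g2 := (ord_cj g t).trans ht
    obtain ⟨_, ⟨l, hl, rfl⟩, hlt⟩ := hpg.conj_inv (φ t) htP t2 t1 (φ (g * t * g⁻¹))
      (hpg.L_le ⟨_, hgt, rfl⟩) (by rw [← map_mul, mul_self_of_inv g2, map_one])
      (fun e => ne_one_of_inv g2 (hφ (e.trans (map_one φ).symm)))
      ⟨_, mul_mem htL hgt, map_mul φ _ _⟩
    rw [← map_inv, ← map_mul, ← map_mul] at hlt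
    have h1 : l⁻¹ * g ∈ 𝒞[t] := of_cj (by
      calc _ = l⁻¹ * (g * t * g⁻¹) * l := by group
        _ = t := by rw [← hφ hlt]; group)
    have h2 : g = l * (l⁻¹ * g) := by group
    rw [h2, map_mul]
    exact mul_mem (hpg.L_le ⟨l, hl, rfl⟩) (hcent h1)
  have h1 := relIndex_mul_relIndex _ _ _ (map_le_range φ L) hall
  rw [hpg.relIndex] at h1
  rcases (Nat.dvd_prime Nat.prime_two).1 (Dvd.intro _ h1) with a | a
  · left
    have h2 : L = ⊤ := by
      rw [eq_top_iff, ← map_le_map_iff_of_injective hφ, ← MonoidHom.range_eq_map]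
      exact relIndex_eq_one.1 a
    exact ⟨(topEquiv.symm.trans (MulEquiv.subgroupCongr h2.symm)).trans e⟩
  · right
    rw [a] at h1
    have h2 : φ.range = P := le_antisymm hall (relIndex_eq_one.1 (by omega))
    exact ⟨((MonoidHom.ofInjective hφ).trans (MulEquiv.subgroupCongr h2)).trans
      (MonoidHom.ofInjective H23.Pgl.iota_inj).symm⟩

theorem NC.not_sz (h : NC G) : ¬ Cfsg.Lie.IsoSuzuki G := by
  rintro ⟨F, _, _, m, hm, hF, ⟨e⟩⟩
  let _ := H13.titsOfCard hF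
  let M := (H13.lieModel (H13.titsOfCard_θ hF)).ofEquiv e
  obtain ⟨a, ha⟩ := H13.exists_sq_ne (H13.two_lt_card hm hF)
  have h1 : M.u 1 0 * M.u 1 0 = M.u 0 1 := by rw [← pow_two, M.u_sq]; simp
  have h2 : orderOf (M.u 0 1) = 2 :=
    orderOf_eq_prime (by rw [M.u_sq]; simp) (by rw [Ne, M.u_eq_one]; simp)
  rcases h.four (h1 ▸ h2) (c := M.u a 0) (h1 ▸ mem_cent1.2 (by simp [M.u_mul_u])) with c | c
  · rw [mul_inv_eq_iff_eq_mul, M.u_mul_u, M.u_mul_u, M.u_inj] at c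
    have h3 : H13.Tits.θ a = a := by simpa using c.2
    rcases H13.θ_eq_self h3 with rfl | rfl <;> simp at ha
  · rw [mul_inv_eq_iff_eq_mul, h1, M.u_mul_u, M.u_mul_u, M.u_mul_u, M.u_inj] at c
    have h3 : H13.Tits.θ a = 1 + a := by simpa using c.2
    have h4 := congrArg H13.Tits.θ h3
    rw [H13.Tits.θθ, map_add, map_one, h3] at h4
    have := H13.charP_of_card hF
    exact ha (by rw [h4, ← add_assoc, CharTwo.add_self_eq_zero, zero_add])

theorem NC.not_confL (h : NC G) {V A : Subgroup G} (c : H12.ConfL V A) : False := by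
  have out : ∀ {V A : Subgroup G}, Nat.card V = 16 → Nat.card ↥(V ⊓ A) = 4 → ∃ v ∈ V, v ∉ A :=
    fun h1 h2 => by
      by_contra hno
      push Not at hno
      rw [inf_eq_left.2 hno] at h2
      omega
  obtain ⟨a, ha, haV⟩ := out c.card' (by rw [inf_comm]; exact c.card_inf)
  have hVc : ∀ x ∈ V, ∀ y ∈ V, x * y = y * x := fun x hx y hy =>
    (c.cent.ge hy x hx)
  have hAc : ∀ x ∈ A, ∀ y ∈ A, x * y = y * x := fun x hx y hy =>
    (c.cent'.ge hy x hx)
  have hai := c.ea'.inv_eq ha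
  have hZ : ∀ v ∈ V, v * a * (v * a) ∈ V ⊓ A := fun v hv => by
    constructor
    · have : v * a * (v * a) = v * (a * v * a⁻¹) := by rw [hai]; group
      rw [this]
      exact mul_mem hv (conj_mem_of_norm c.norm ha hv)
    · have : v * a * (v * a) = v * a * v⁻¹ * a := by rw [c.ea.inv_eq hv]; group
      rw [this]
      exact mul_mem (conj_mem_of_norm c.norm' hv ha) ha
  have hne : ∀ v ∈ V, v * a * (v * a) = 1 → v ∈ A := fun v hv h1 =>
    (c.comm v hv a ha (by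
      rw [eq_inv_of_mul_eq_one_left h1, mul_inv_rev, hai, c.ea.inv_eq hv])).resolve_right haV
  obtain ⟨v, hv, hvA⟩ := out c.card c.card_inf
  have h2 : orderOf (v * a * (v * a)) = 2 :=
    inv_of_mul_self (c.ea _ (hZ v hv).1) fun e => hvA (hne v hv e)
  have h3 : A.relIndex V = 2 := by
    refine relIndex_eq_two_iff_exists_notMem_and'.2 ⟨v, hv, hvA, fun b hb => ?_⟩
    have hbi := c.ea.inv_eq hb
    rcases h.four h2 (c := b) (mem_cent1.2 (hVc b hb _ (hZ v hv).1)) with e | e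
    · right
      refine (c.comm b hb a ha ?_).resolve_right haV
      rw [mul_inv_eq_iff_eq_mul, ← mul_assoc, hVc b hb v hv, mul_assoc, mul_assoc] at e
      exact mul_left_cancel e
    · left
      refine hne _ (mul_mem hv hb) ?_
      have e2 : a * v * a * b = b * (a * v * a) := by
        have := conj_mem_of_norm c.norm ha hv
        rw [hai] at this
        exact hVc _ this b hb
      have e3 : v * b * a * b = v * a * v * a * v * a := by
        rw [← hVc b hb v hv]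
        calc _ = b * (v * a) * b⁻¹ := by rw [hbi]; group
          _ = _ := by rw [e]; group
      calc _ = v * b * a * v * b * a := by group
        _ = (v * b * a * b) * v * a := by rw [mul_assoc _ v b, hVc v hv b hb]; group
        _ = v * a * (v * a) * (v * a * (v * a)) := by rw [e3]; group
        _ = 1 := mul_self_of_inv h2
  have h4 := card_inf_mul_relIndex A V
  rw [h3, inf_comm, c.card_inf, c.card] at h4
  omega

end

/-- Let G be a nontrivial finite group with no nontrivial solvable normal subgroup, such that for every cyclic subgroup X of even order and every nontrivial subgroup Y of X one has N_G(X) = N_G(Y) (every nontrivial subgroup of a cyclic subgroup of even order has the same normalizer as the whole cyclic subgroup). Then G is isomorphic to PSL(2, q) or to PGL(2, q) for some prime power q > 3. -/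
theorem result
    {G : Type*} [Group G] [Finite G] [Nontrivial G]
    (hss : ∀ N : Subgroup G, N.Normal → Group.IsSolvable ↥N → N = ⊥)
    (hii : ∀ X : Subgroup G, IsCyclic ↥X → Even (Nat.card ↥X) → ∀ Y : Subgroup G, Y ≤ X → Y ≠ ⊥ →
      Subgroup.normalizer (X : Set G) = Subgroup.normalizer (Y : Set G)) :
    ∃ (F : Type) (_ : Field F) (_ : Fintype F), 3 < Fintype.card F ∧
      (Nonempty (G ≃* Matrix.ProjectiveSpecialLinearGroup (Fin 2) F) ∨
        Nonempty (G ≃* Matrix.ProjGenLinGroup (Fin 2) F)) := by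
  have hG : ¬ Group.IsSolvable G := fun h => top_ne_bot (hss ⊤ inferInstance inferInstance)
  have h : NC G := by
    intro w s hs s2 y hy y1
    have he : Even (Nat.card (zpowers w)) :=
      even_iff_two_dvd.2 (s2 ▸ (zpowers w).orderOf_dvd_natCard hs)
    rw [← hii _ inferInstance he _ (zpowers_le.2 hy) (by rwa [Ne, zpowers_eq_bot]),
      hii _ inferInstance he _ (zpowers_le.2 hs) (by rw [Ne, zpowers_eq_bot]; exact ne_one_of_inv s2),
      norm_inv s2]
  have hD : ∀ U U' : Subgroup G, H12.ConfD U U' → Dihed G := fun U U' c =>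
    h.dihed c.ea c.card c.cent.le
  by_cases hc : H12.IsCIT G
  · have hO : Cfsg.pCore 2 G = ⊥ :=
      hss _ inferInstance (H25.solvable_of_isPGroup H44.pCore_isPGroup)
    by_cases hTI : H12.TISyl G
    · rcases H25.cit_ti_iso hG hc hTI with ⟨n, hn, e⟩ | e
      · let _ := Fintype.ofFinite (GaloisField 2 n)
        refine ⟨GaloisField 2 n, inferInstance, inferInstance, ?_, Or.inl e⟩
        rw [← Nat.card_eq_fintype_card, GaloisField.card 2 n (by omega)]
        calc 3 < 2 ^ 2 := by norm_num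
          _ ≤ 2 ^ n := Nat.pow_le_pow_right (by norm_num) hn
      · exact (h.not_sz e).elim
    · rcases H25.cit_simple_or_m10 hG hc hO with hs | ⟨-, U, U', c⟩
      · rcases hc.local_structure hO hTI with ⟨U, U', c⟩ | ⟨V, A, c⟩ | ⟨-, N, hN⟩
        · exact h.of_dihed hss hG (hD U U' c)
        · exact (h.not_confL c).elim
        · refine (H25.not_index_two_of_simple ?_ N hN).elim
          by_contra hno
          push Not at hno
          exact hG (Group.isSolvable_of_comm hno)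
      · exact h.of_dihed hss hG (hD U U' c)
  · obtain ⟨t, ht, x, hx, ho, x1⟩ : ∃ t : G, orderOf t = 2 ∧ ∃ x ∈ 𝒞[t], Odd (orderOf x) ∧ x ≠ 1 := by
      by_contra hno
      push Not at hno
      exact hc fun t ht => (pi_two_of_no_odd (hno t ht)).isPGroup Nat.prime_two
    obtain ⟨u, hut, hu, hne⟩ := h.exists_out hss hG ht hx ho x1
    have hr : Refl t u := ⟨hu, fun e => hne (e ▸ le_rfl), (mem_cent1.1 hut).symm⟩
    refine h.of_dihed hss hG (h.dihed (U := GW.four t u) (fun y hy => ?_) (hr.card_four ht) ?_)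
    · rcases (hr.mem_four ht).1 hy with rfl | rfl | rfl | rfl
      · exact mul_one 1
      · exact mul_self_of_inv ht
      · exact mul_self_of_inv hu
      · exact mul_self_of_inv (hr.mul_inv ht)
    · rw [Refl.cent_four_eq]
      exact h.selfcent ht hx ho x1 hut hu hne hss

end Cfsg.Agent.S3730
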