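import Cfsg.Statements.S3756
import Cfsg.Agent.H4.PP2
import Cfsg.Agent.H51.GoldD
import Cfsg.Agent.S3751

set_option autoImplicit false
open Cfsg

namespace Cfsg.Agent.S3756

open Subgroup Cfsg.Agent.H70 Cfsg.Agent.H92 Cfsg.Agent.H4

/-- Let G be a finite group of even order with O₂(G) = 1 such that every 2-local subgroup of G is solvable, of characteristic 2, and has no section isomorphic to the symmetric group of degree 4. Then every maximal 2-local subgroup of G is strongly embedded in G. -/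
theorem result {G : Type*} [Group G] [Finite G] (heven : Even (Nat.card G)) (hO : Cfsg.pCore 2 G = ⊥) (hloc : ∀ M : Subgroup G, Cfsg.IsTwoLocal M → Group.IsSolvable M ∧ Cfsg.IsOfCharacteristicTwo ↥M ∧ ¬ Cfsg.Involves (Equiv.Perm (Fin 4)) ↥M) (M : Subgroup G) (hM : Cfsg.IsMaximalTwoLocal M) : Cfsg.IsStronglyEmbedded M := by
  rcases S3751.result (p := 2) ⟨heven.two_dvd, fun T a b => (hloc _ ⟨T, a, b, rfl⟩).2.1⟩ hO with
    ⟨M₁, M₂, hne, hP, c1, c2, h⟩ | h
  · have h0 := pp_of (P := fun _ => True) hne hP c1 c2 h (fun _ => trivial) fun _ => trivial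
    have key : ∀ {U : Subgroup G}, IsChar 2 U → pCoreOf 2 U ≠ ⊥ → ∀ g,
        IsChar 2 (cj g U) ∧ pCoreOf 2 (cj g U) ≠ ⊥ := fun a b g =>
      ⟨a.cj g, fun e => b (cj_eq_bot_iff.1 ((cj_pCoreOf g _).trans e))⟩
    refine (PP.not_sf (fun U a => ?_) (pp_of (P := fun U => IsChar 2 U ∧ pCoreOf 2 U ≠ ⊥) hne hP c1 c2
      h (key h0.c1 h0.q_ne_bot) (key h0.c2 h0.symm.q_ne_bot))).elim
    obtain ⟨s, -, f⟩ := hloc _ ⟨_, pCoreOf_isPGroup U, a.2, rfl⟩
    exact ⟨solvable_of_solvable_injective (inclusion_injective (le_norm_pCoreOf (p := 2) U)), fun b =>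
      not_involves_mono (le_norm_pCoreOf U) f (H51.involves_s4_of_charTwo (isChar_iff.1 a.1) b)⟩
  · obtain ⟨a, b, c⟩ := h M hM.1 hM.2
    exact ⟨a, even_iff_two_dvd.2 b, fun g hg => Nat.not_even_iff_odd.1 fun e => c g hg e.two_dvd⟩

end Cfsg.Agent.S3756
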