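import Cfsg.Statements.S3782
import Cfsg.Agent.H19.FixBound
import Cfsg.Agent.S3779
import Cfsg.Agent.S3781
import Cfsg.Agent.S4218
import Cfsg.Agent.H22.Core

set_option autoImplicit false
open Cfsg

namespace Cfsg.Agent.S3782

theorem ds_ext {G : Type*} [Group G] (N : Subgroup G) {a b : ℕ} (h1 : derivedSeries G a ≤ N)
    (h2 : derivedSeries N b = ⊥) : derivedSeries G (a + b) = ⊥ := by
  have h : ∀ k, derivedSeries G (a + k) ≤ (derivedSeries N k).map N.subtype := by
    intro k
    induction k with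
    | zero => simpa [← MonoidHom.range_eq_map] using h1
    | succ k ih =>
      rw [← add_assoc, derivedSeries_succ, derivedSeries_succ, Subgroup.map_commutator]
      exact Subgroup.commutator_mono ih ih
  rw [eq_bot_iff]
  simpa [h2] using h b

theorem ds_ext' {G : Type*} [Group G] (N : Subgroup G) [N.Normal] {a b : ℕ}
    (h1 : derivedSeries (G ⧸ N) a = ⊥) (h2 : derivedSeries N b = ⊥) :
    derivedSeries G (a + b) = ⊥ := by
  refine ds_ext N ?_ h2
  have := map_derivedSeries_le_derivedSeries (QuotientGroup.mk' N) a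
  rwa [h1, le_bot_iff, Subgroup.map_eq_bot_iff, QuotientGroup.ker_mk'] at this

theorem ds_card {G : Type*} [Group G] [Finite G] [Group.IsSolvable G] {m : ℕ}
    (h : Nat.card G ≤ m) : derivedSeries G m = ⊥ := by
  have h1 : ∀ k, derivedSeries G k = ⊥ ∨ Nat.card (derivedSeries G k) + k ≤ Nat.card G := by
    intro k
    induction k with
    | zero => right; simp
    | succ k ih =>
      by_cases hk : derivedSeries G k = ⊥
      · left; rw [derivedSeries_succ, hk, Subgroup.commutator_bot_left]
      · right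
        have h2 := Group.IsSolvable.commutator_lt_of_ne_bot hk
        have h3 : Nat.card (derivedSeries G (k + 1)) < Nat.card (derivedSeries G k) :=
          lt_of_le_of_ne (Subgroup.card_le_of_le h2.le) fun h =>
            h2.ne (Subgroup.eq_of_le_of_card_ge h2.le h.ge)
        have := ih.resolve_left hk
        omega
  refine (h1 m).resolve_right ?_
  have : 0 < Nat.card (derivedSeries G m) := Nat.card_pos
  omega

theorem inj_of_iterate {G : Type*} {p : ℕ} (hp : p.Prime) {α : G → G} (hα : ∀ x, α^[p] x = x) :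
    Function.Injective α := by
  intro x y h
  obtain ⟨q, rfl⟩ : ∃ q, p = q + 1 := ⟨p - 1, by have := hp.pos; omega⟩
  rw [← hα x, ← hα y, Function.iterate_succ_apply, Function.iterate_succ_apply, h]

theorem exists_restrict {G : Type*} [Group G] [Finite G] {p : ℕ} (α : G →* G)
    (hα : ∀ x, α^[p] x = x) (A : Subgroup G) (hA : ∀ x ∈ A, α x ∈ A) :
    ∃ β : A →* A, (∀ x, (β x : G) = α x) ∧ (∀ x, β^[p] x = x) ∧
      Nat.card {v : A // β v = v} ≤ Nat.card {v : G // α v = v} := by
  let β : A →* A := (α.comp A.subtype).codRestrict A fun x => hA x x.2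
  refine ⟨β, fun _ => rfl, fun x => Subtype.ext ?_, ?_⟩
  · rw [← H19.iterate_comm_of_comm Subtype.val β α (fun _ => rfl), hα]
  · exact Nat.card_le_card_of_injective (fun x => ⟨x.1.1, congrArg Subtype.val x.2⟩) fun x y h =>
      Subtype.ext (Subtype.ext (Subtype.mk.inj h))

theorem exists_quot {G : Type*} [Group G] [Finite G] {p : ℕ} (α : G →* G)
    (hα : ∀ x, α^[p] x = x) (A : Subgroup G) [A.Normal] (hA : ∀ x ∈ A, α x ∈ A) :
    ∃ β : G ⧸ A →* G ⧸ A, (∀ x : G, β x = (α x : G)) ∧ (∀ x, β^[p] x = x) ∧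
      Nat.card {v : G ⧸ A // β v = v} ≤ Nat.card {v : G // α v = v} := by
  let β : G ⧸ A →* G ⧸ A := QuotientGroup.map A A α hA
  have hβ : ∀ x, β (QuotientGroup.mk' A x) = QuotientGroup.mk' A (α x) := fun x => rfl
  refine ⟨β, fun _ => rfl, fun x => ?_,
    H19.card_fixed_le_of_surjective _ (QuotientGroup.mk'_surjective A) α β hβ⟩
  obtain ⟨x, rfl⟩ := QuotientGroup.mk'_surjective A x
  rw [H19.iterate_comm_of_comm _ α β hβ, hα]

universe u

theorem fpf_case {G : Type u} [Group G] [Finite G] {p c : ℕ} (hp : p.Prime)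
    (hc : H19.GradedNil.{u} p c) (α : G →* G) (hα : ∀ x, α^[p] x = x)
    (hfpf : ∀ g : G, α g = g → g = 1) : derivedSeries G c = ⊥ := by
  haveI := Fact.mk hp
  let a : MulAut G := MulEquiv.ofBijective α
    (Finite.injective_iff_bijective.mp (inj_of_iterate hp hα))
  by_cases ha : a = 1
  · rw [eq_bot_iff]
    intro x _
    exact hfpf x (congrArg (fun b : MulAut G => b x) ha)
  · rw [eq_bot_iff, ← S3779.gam_eq_bot hp hc a (orderOf_eq_prime ?_ ha) hfpf]
    · exact Subgroup.derived_le_lower_central c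
    · ext x
      rw [← S3779.iterate_eq]
      exact hα x

theorem section_exp {G : Type u} [Group G] [Finite G] {p c n : ℕ} [hp : Fact p.Prime]
    (hc : H19.GradedNil.{u} p c) (hG : IsPGroup p G) (α : G →* G) (hα : ∀ x, α^[p] x = x)
    (hfix : Nat.card {v : G // α v = v} ≤ p ^ n) :
    ∀ x ∈ H19.gam G c, x ^ p ^ (n + 1 + c) ∈ H19.gam G (c + 1) := by
  rw [pow_add, pow_succ]
  refine H19.group_transfer hc α hα (p ^ n) fun j x _ hx => ?_
  obtain ⟨β, h1, -, h3⟩ := exists_quot α hα (H19.gam G (j + 1)) fun x hx => H19.map_mem_gam α hx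
  let S : Subgroup (G ⧸ H19.gam G (j + 1)) := β.eqLocus (MonoidHom.id _)
  obtain ⟨a, ha⟩ := ((hG.to_quotient (H19.gam G (j + 1))).to_subgroup S).exists_card_eq
  have h4 : p ^ a ≤ p ^ n := ha ▸ h3.trans hfix
  rw [Nat.pow_le_pow_iff_right hp.out.one_lt] at h4
  have h5 : (x : G ⧸ H19.gam G (j + 1)) ∈ S := (h1 x).trans (QuotientGroup.eq.mpr hx)
  have h6 := congrArg Subtype.val (pow_card_eq_one' (x := (⟨_, h5⟩ : S)))
  rw [ha] at h6
  rw [← QuotientGroup.eq_one_iff, QuotientGroup.mk_pow, ← Nat.add_sub_cancel' h4, pow_add, pow_mul]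
  rw [show (x : G ⧸ H19.gam G (j + 1)) ^ p ^ a = 1 from h6, one_pow]

theorem pgroup_case {G : Type u} [Group G] [Finite G] {p c n : ℕ} [hp : Fact p.Prime]
    (hc : H19.GradedNil.{u} p c) (hG : IsPGroup p G) (α : G →* G) (hα : ∀ x, α^[p] x = x)
    (hfix : Nat.card {v : G // α v = v} ≤ p ^ n) :
    derivedSeries G (n * (p * (n + 1 + c)) + (c + 1)) = ⊥ := by
  set N := H19.gam G (n * (p * (n + 1 + c)))
  refine ds_ext N (Subgroup.derived_le_lower_central _) ?_
  obtain ⟨β, -, h2, h3⟩ := exists_restrict α hα N fun x hx => H19.map_mem_gam α hx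
  have h4 := H19.relIndex_le_pow_fixed hp.out β h2 (H19.gam N c) (H19.gam N (c + 1))
    (fun x hx => H19.map_mem_gam β hx) (fun x hx => H19.map_mem_gam β hx)
    (fun x _ y hy => by
      have := H19.comm_mem_gam_succ (inv_mem hy) x⁻¹
      simpa [commutatorElement_def, mul_assoc] using this) (n + 1 + c)
    (section_exp hc (hG.to_subgroup N) β h2 (h3.trans hfix))
  haveI := H83.lowerCentralSeries_normal N c
  have h5 := S3781.aux hG _ (N.lowerCentralSeries c) N le_rfl (by
    rw [← Subgroup.lowerCentralSeries_succ, ← Subgroup.top_subtype_lowerCentralSeries N (c + 1),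
      ← Subgroup.top_subtype_lowerCentralSeries N c,
      Subgroup.relIndex_map_map_of_injective _ _ N.subtype_injective]
    refine (h4.trans (Nat.pow_le_pow_left (h3.trans hfix) _)).trans_lt ?_
    rw [← pow_mul]
    exact Nat.pow_lt_pow_right hp.out.one_lt (Nat.lt_succ_self _))
  rw [← Subgroup.lowerCentralSeries_succ, ← Subgroup.top_subtype_lowerCentralSeries,
    Subgroup.map_eq_bot_iff_of_injective _ N.subtype_injective] at h5
  rw [eq_bot_iff, ← h5]
  exact Subgroup.derived_le_lower_central _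

theorem core_case {G : Type u} [Group G] [Finite G] [Group.IsSolvable G] {p c n : ℕ}
    [hp : Fact p.Prime] (hc : H19.GradedNil.{u} p c) (hO : pPrimeCore p G = ⊥) (α : G →* G)
    (hα : ∀ x, α^[p] x = x) (hfix : Nat.card {v : G // α v = v} ≤ p ^ n) :
    derivedSeries G (((p ^ n) ^ p).factorial + (n * (p * (n + 1 + c)) + (c + 1))) = ⊥ := by
  have hs : Function.Surjective α := Finite.injective_iff_surjective.mp (inj_of_iterate hp.out hα)
  set Q := pCore p G
  have hQ : ∀ x ∈ Q, α x ∈ Q := fun x hx => H22.map_pCore_le_of_surjective α hs ⟨x, hx, rfl⟩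
  obtain ⟨β, h1, h2, h3⟩ := exists_restrict α hα Q hQ
  refine ds_ext Q ?_ (pgroup_case hc H22.isPGroup_pCore β h2 (h3.trans hfix))
  haveI : (H49.frattiniOf Q).Normal := inferInstanceAs ((frattini Q).map Q.subtype).Normal
  have h4 := H19.relIndex_le_pow_fixed hp.out α hα Q (H49.frattiniOf Q) hQ
    (by
      rintro _ ⟨x, hx, rfl⟩
      exact ⟨β x, frattini_le_comap_frattini_of_surjective
        (Finite.injective_iff_surjective.mp (inj_of_iterate hp.out h2)) hx, h1 x⟩)
    (fun x hx y hy => by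
      have := H50.der_le_frattiniOf H22.isPGroup_pCore
        (Subgroup.commutator_mem_commutator (inv_mem hy) (inv_mem hx))
      simpa [commutatorElement_def, mul_assoc] using this) 1
    (fun x hx => by rw [pow_one]; exact H50.pow_mem_frattiniOf H22.isPGroup_pCore hx)
  set f := QuotientGroup.mk' (H49.frattiniOf Q)
  haveI : (Q.map f).Normal := Subgroup.Normal.map inferInstance _ (QuotientGroup.mk'_surjective _)
  let φ : G →* MulAut (Q.map f) := MulAut.conjNormal.comp f
  have h5 : φ.ker ≤ Q := by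
    intro g hg
    refine S4218.aux H22.isPSolvable_of_isSolvable hO g fun x hx => ?_
    have := congrArg (fun b : MulAut (Q.map f) => (b ⟨f x, x, hx, rfl⟩ : G ⧸ H49.frattiniOf Q)) hg
    rw [← QuotientGroup.eq_one_iff]
    change f (g * x * g⁻¹ * x⁻¹) = 1
    rw [map_mul, map_inv, mul_inv_eq_one, map_mul, map_mul, map_inv]
    exact this
  have h6 : Nat.card (G ⧸ φ.ker) ≤ ((p ^ n) ^ p).factorial := by
    rw [← Subgroup.index_eq_card, Subgroup.index_ker]
    refine (Subgroup.card_le_card_group _).trans ((Nat.card_le_card_of_injective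
      (MulAut.toPerm (Q.map f)) fun a b h => MulEquiv.toEquiv_injective h).trans ?_)
    rw [Nat.card_perm, ← Subgroup.relIndex_ker, QuotientGroup.ker_mk']
    rw [mul_one] at h4
    exact Nat.factorial_le (h4.trans (Nat.pow_le_pow_left hfix _))
  have := map_derivedSeries_le_derivedSeries (QuotientGroup.mk' φ.ker) ((p ^ n) ^ p).factorial
  rw [ds_card h6, le_bot_iff, Subgroup.map_eq_bot_iff, QuotientGroup.ker_mk'] at this
  exact this.trans h5

/-- Alperin's Theorem: for each prime p and each n ≥ 0 there is an integer l such that every finite solvable group admitting an automorphism of order p with exactly p^n fixed points has derived length at most l. -/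
theorem result (p : ℕ) (hp : p.Prime) (n : ℕ) : ∃ l : ℕ, ∀ (G : Type) [Group G] [Finite G], Group.IsSolvable G → ∀ α : MulAut G, orderOf α = p → Nat.card {g : G // α g = g} = p ^ n → derivedSeries G l = ⊥ := by
  haveI := Fact.mk hp
  obtain ⟨c, hc⟩ : ∃ c, H19.GradedNil.{0} p c := ⟨_, H19.gradedNil_hkk p⟩
  refine ⟨(((p ^ n) ^ p).factorial + (n * (p * (n + 1 + c)) + (c + 1))) + c,
    fun G _ _ _ α hα hfix => ?_⟩
  have h1 : ∀ x, (α : G →* G)^[p] x = x := fun x => by
    rw [S3779.iterate_eq, ← hα, pow_orderOf_eq_one]; rfl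
  have hO : ∀ x ∈ pPrimeCore p G, (α : G →* G) x ∈ pPrimeCore p G := fun x hx =>
    H22.map_pPrimeCore_le_of_surjective (α : G →* G) α.surjective ⟨x, hx, rfl⟩
  obtain ⟨β, -, h2, h3⟩ := exists_quot (α : G →* G) h1 _ hO
  obtain ⟨γ, h4, h5, -⟩ := exists_restrict (α : G →* G) h1 _ hO
  refine ds_ext' (pPrimeCore p G)
    (core_case hc H22.pPrimeCore_quotient_pPrimeCore β h2 (h3.trans hfix.le))
    (fpf_case hp hc γ h5 fun g hg => ?_)
  let S : Subgroup G := (α : G →* G).eqLocus (MonoidHom.id G)
  have h6 : IsPGroup p S := IsPGroup.of_card hfix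
  have h7 := H22.inf_eq_bot_of_pgroup_coprime h6 (H22.coprime_card_pPrimeCore (p := p) (G := G))
  have h8 : (g : G) ∈ S ⊓ pPrimeCore p G := ⟨(h4 g).symm.trans (congrArg Subtype.val hg), g.2⟩
  rw [h7] at h8
  exact Subtype.ext h8

end Cfsg.Agent.S3782
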