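import Cfsg.Statements.S3806
import Cfsg.Agent.H62.MaxCl4
import Cfsg.Agent.H85.SecRank

set_option autoImplicit false
set_option linter.style.haveILetI false
open Cfsg

namespace Cfsg.Agent.S3806

/-- Let p be a prime and S a finite p-group of order pⁿ (n ≥ 2) of maximal nilpotency class n − 1 whose sectional p-rank is exactly k (every section has p-rank at most k, and some section has p-rank k). If p ≥ k + 2 then the order of S is at most p^(2k). -/
theorem result {S : Type*} [Group S] [Finite S] (p : ℕ) [Fact p.Prime] (hS : IsPGroup p S) [Group.IsNilpotent S]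
    (n : ℕ) (hn : 2 ≤ n) (hcard : Nat.card S = p ^ n) (hmax : Group.nilpotencyClass S = n - 1)
    (k : ℕ) (hk : 1 ≤ k) (hsr : Cfsg.SectionalPRankLE p k S ∧ ¬ Cfsg.SectionalPRankLE p (k - 1) S)
    (hpk : k + 2 ≤ p) : Nat.card S ≤ p ^ (2 * k) := by
  have hp := (Fact.out : p.Prime).one_lt
  rw [hcard, Nat.pow_le_pow_iff_right hp]
  by_contra hc
  have h := H62.mc_of_class hcard (by omega) hmax
  rcases hk.eq_or_lt with rfl | hk
  · have := H85.ElemSec.relIndex_le hsr.1 (K := ⊤) (N := H62.LL S 1)
      ⟨le_top, fun x hx y _ => H62.LL_comm' (i := 0) hx y, fun x _ => h.pow_mem_one x⟩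
    rw [Subgroup.relIndex_top_right, h.index_LL_one, Nat.pow_le_pow_iff_right hp] at this
    omega
  have hle : H62.LL S (2 * k) ≤ H62.LL S (k - 1) := H62.LL_anti (by omega)
  have h1 := H85.ElemSec.relIndex_le hsr.1 (K := H62.LL S (k - 1)) (N := H62.LL S (2 * k))
    ⟨hle, fun x hx y hy => H62.LL_anti (by omega)
      (h.comm_self_le (by omega) (Subgroup.commutator_mem_commutator hx hy)),
      fun x hx => H62.LL_anti (by omega) (h.pow_mem_LL (by omega) hx)⟩
  have h2 := ((H62.LL S (2 * k)).subgroupOf (H62.LL S (k - 1))).index_mul_card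
  rw [Nat.card_congr (Subgroup.subgroupOfEquivOfLe hle).toEquiv, h.card_LL (by omega) (by omega),
    h.card_LL (by omega) (by omega)] at h2
  have h3 := h2.ge.trans (Nat.mul_le_mul_right _ h1)
  rw [← pow_add, Nat.pow_le_pow_iff_right hp] at h3
  omega

end Cfsg.Agent.S3806
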