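import Cfsg.Statements.S3808
import Cfsg.Agent.H3.PGroup
import Cfsg.Agent.H79.Duality

set_option autoImplicit false
open Cfsg

namespace Cfsg.Agent.S3808

open Subgroup
theorem center_map_le {S : Type*} [Group S] [Finite S] (p : ℕ) [Fact p.Prime] (hS : IsPGroup p S)
    (Q : Subgroup S) [Q.Normal] (hQ : Nat.card (center Q) = p) :
    (center Q).map Q.subtype ≤ center S := by
  have hp := (Fact.out : p.Prime)
  have hc : Nat.card ((center Q).map Q.subtype) = p := by
    rw [Subgroup.card_map_of_injective Q.subtype_injective, hQ]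
  have hne : (center Q).map Q.subtype ≠ ⊥ := by
    intro h; rw [h, Subgroup.card_bot] at hc; exact hp.one_lt.ne hc
  obtain ⟨z, hz, hzc, hzo⟩ := H3.exists_mem_center_orderOf_eq hS _ hne
  have : zpowers z = (center Q).map Q.subtype :=
    Subgroup.eq_of_le_of_card_ge (zpowers_le.2 hz) (by rw [hc, Nat.card_zpowers, hzo])
  rw [← this]; exact zpowers_le.2 hzc

/-- Let S be a finite p-group with an extraspecial subgroup Q of index p. Then either Z(S) = Z(Q), or S = Q·Z(S) and Z(S) has order p². -/
theorem result {S : Type*} [Group S] [Finite S] (p : ℕ) [Fact p.Prime] (hS : IsPGroup p S) (Q : Subgroup S) (hQ : Cfsg.IsExtraspecial p ↥Q) (hQi : Q.index = p) :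
    Subgroup.center S = (Subgroup.center ↥Q).map Q.subtype ∨
      (Q ⊔ Subgroup.center S = ⊤ ∧ Nat.card (Subgroup.center S) = p ^ 2) := by
  have hp := (Fact.out : p.Prime)
  haveI := H3.normal_of_index_eq hS hQi
  have h1 := center_map_le p hS Q hQ.2
  have h2 : center S ⊓ Q = (center Q).map Q.subtype := by
    refine le_antisymm ?_ (le_inf h1 (map_subtype_le _))
    rintro x ⟨hx, hxQ⟩
    exact ⟨⟨x, hxQ⟩, mem_center_iff.2 fun g => Subtype.ext (mem_center_iff.1 hx g), rfl⟩
  by_cases h : center S ≤ Q
  · left; rw [← h2, inf_eq_left.2 h]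
  · right
    have hsup : Q ⊔ center S = ⊤ := by
      have hd : (Q ⊔ center S).index ∣ p := hQi ▸ index_dvd_of_le le_sup_left
      rcases (Nat.dvd_prime hp).1 hd with h3 | h3
      · exact index_eq_one.1 h3
      · exfalso; apply h
        have h4 := relIndex_mul_index (le_sup_left : Q ≤ Q ⊔ center S)
        rw [h3, hQi] at h4
        have h5 : Q.relIndex (Q ⊔ center S) = 1 := by
          have := hp.pos
          nlinarith [Nat.eq_of_mul_eq_mul_right hp.pos (h4.trans (one_mul p).symm)]
        exact le_sup_right.trans (relIndex_eq_one.1 h5)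
    refine ⟨hsup, ?_⟩
    have h3 : Q.relIndex (center S) = p := by
      rw [← relIndex_sup_left, hsup, relIndex_top_right, hQi]
    have h4 := Subgroup.card_mul_index (Q.subgroupOf (center S))
    have h5 : Nat.card (Q.subgroupOf (center S)) = p := by
      rw [← Subgroup.card_map_of_injective (center S).subtype_injective, subgroupOf_map_subtype,
        inf_comm, h2, Subgroup.card_map_of_injective Q.subtype_injective, hQ.2]
    rw [← h4, h5, pow_two]
    exact congrArg _ h3

end Cfsg.Agent.S3808
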