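import Cfsg.Statements.S3809
import Cfsg.Agent.H3.PGroup
import Cfsg.Agent.S0095

set_option autoImplicit false
open Cfsg

namespace Cfsg.Agent.S3809

open Subgroup

/-- Let S be a finite p-group with an extraspecial subgroup of index p. Then S has order p^(2+2n) for some n ≥ 1, derived length at most 3, and exponent dividing p³. -/
theorem result {S : Type*} [Group S] [Finite S] (p : ℕ) [Fact p.Prime] (hS : IsPGroup p S) (Q : Subgroup S) (hQ : Cfsg.IsExtraspecial p ↥Q) (hQi : Q.index = p) :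
    (∃ n : ℕ, 1 ≤ n ∧ Nat.card S = p ^ (2 + 2 * n)) ∧ derivedSeries S 3 = ⊥ ∧ ∀ x : S, x ^ (p ^ 3) = 1 := by
  have hp := (Fact.out : p.Prime)
  haveI := H3.normal_of_index_eq hS hQi
  refine ⟨?_, ?_, fun x => ?_⟩
  · obtain ⟨n, hn, hc⟩ := S0095.result hQ
    refine ⟨n, hn, ?_⟩
    rw [← Q.card_mul_index, hc, hQi]; ring
  · have h1 : derivedSeries S 1 ≤ Q := H3.commutator_le_of_normal_index_prime hQi
    have h2 : derivedSeries S 2 ≤ (center Q).map Q.subtype := by
      rw [← hQ.1.2.2, map_subtype_commutator]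
      exact commutator_mono h1 h1
    rw [eq_bot_iff]
    refine (commutator_mono h2 h2).trans (le_of_eq ?_)
    rw [← map_commutator, commutator_eq_bot_iff_le_centralizer.2, Subgroup.map_bot]
    exact center_le_centralizer _
  · have h1 : x ^ p ∈ Q := hQi ▸ Q.pow_index_mem x
    have h2 : (⟨_, h1⟩ : Q) ^ p ∈ center Q := hQ.1.2.1 ▸ H3.pow_mem_frattini hQ.1.1 _
    have h3' : ∀ y : center Q, y ^ p = 1 := fun y => by rw [← hQ.2]; exact pow_card_eq_one'
    have h3 := h3' ⟨_, h2⟩
    have h4 := congrArg (fun y : center Q => ((y : Q) : S)) h3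
    simp only [SubgroupClass.coe_pow, OneMemClass.coe_one] at h4
    rw [← h4, ← pow_mul, ← pow_mul]; congr 1; ring

end Cfsg.Agent.S3809
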