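import Cfsg.Statements.S3810
import Cfsg.Agent.H3.PGroup
import Cfsg.Agent.H4.SCN
import Cfsg.Agent.S0095

set_option autoImplicit false
open Cfsg

namespace Cfsg.Agent.S3810

open Subgroup
theorem card_le_of_abelian {Q : Type*} [Group Q] [Finite Q] {p : ℕ} [Fact p.Prime]
    (hQ : Cfsg.IsExtraspecial p Q) (B : Subgroup Q) (hB : IsMulCommutative B) (hi : B.index ≤ p) :
    Nat.card Q ≤ p ^ 3 := by
  have hp := (Fact.out : p.Prime)
  have hne : B ≠ ⊤ := by
    rintro rfl
    have h1 : center Q = ⊤ := by
      rw [eq_top_iff]; intro x _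
      exact mem_center_iff.2 fun g =>
        congrArg Subtype.val (hB.is_comm.comm (⟨g, trivial⟩ : (⊤ : Subgroup Q)) ⟨x, trivial⟩)
    have h2 : commutator Q = ⊥ := by
      rw [commutator_def, commutator_eq_bot_iff_le_centralizer, ← h1]
      exact center_le_centralizer _
    have h3 := hQ.2
    rw [← hQ.1.2.2, h2, Subgroup.card_bot] at h3
    exact hp.one_lt.ne h3
  obtain ⟨k, hk⟩ := hQ.1.1.index B
  have hk1 : k = 1 := by
    have h1 : k ≤ 1 := (Nat.pow_le_pow_iff_right hp.one_lt).mp (by rw [← hk]; simpa using hi)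
    have h2 : k ≠ 0 := by
      rintro rfl; exact hne (index_eq_one.1 (by simpa using hk))
    omega
  rw [hk1, pow_one] at hk
  obtain ⟨x, hx⟩ : ∃ x, x ∉ B := by
    by_contra! h; exact hne (eq_top_iff.2 fun x _ => h x)
  have hsup : B ⊔ zpowers x = ⊤ := by
    have hd : (B ⊔ zpowers x).index ∣ p := hk ▸ index_dvd_of_le le_sup_left
    rcases (Nat.dvd_prime hp).1 hd with h3 | h3
    · exact index_eq_one.1 h3
    · exfalso; apply hx
      have h4 := relIndex_mul_index (le_sup_left : B ≤ B ⊔ zpowers x)
      rw [h3, hk] at h4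
      have h5 : B.relIndex (B ⊔ zpowers x) = 1 :=
        Nat.eq_of_mul_eq_mul_right hp.pos (h4.trans (one_mul p).symm)
      exact relIndex_eq_one.1 h5 (le_sup_right (a := B) (mem_zpowers x))
  have h1 : (centralizer {x}).relIndex B ≤ Nat.card (center Q) :=
    H4.relIndex_centralizer_le fun c _ => hQ.1.2.2 ▸ commutator_mem_commutator (mem_top _) (mem_top _)
  have h2 : centralizer {x} ⊓ B ≤ center Q := by
    rintro y ⟨hy, hyB⟩
    have : (⊤ : Subgroup Q) ≤ centralizer {y} := by
      rw [← hsup, sup_le_iff, zpowers_le]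
      refine ⟨fun b hb => mem_centralizer_singleton_iff.2 ?_, mem_centralizer_singleton_iff.2 ?_⟩
      · exact congrArg Subtype.val (hB.is_comm.comm (⟨b, hb⟩ : B) ⟨y, hyB⟩)
      · exact (mem_centralizer_singleton_iff.1 hy).symm
    exact mem_center_iff.2 fun g => mem_centralizer_singleton_iff.1 (this (mem_top g))
  have h3 : Nat.card ↥(centralizer {x} ⊓ B) ≤ p := hQ.2 ▸ Subgroup.card_le_of_le h2
  have h4 := Subgroup.card_mul_index ((centralizer {x}).subgroupOf B)
  rw [← Subgroup.card_map_of_injective B.subtype_injective, subgroupOf_map_subtype] at h4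
  rw [hQ.2] at h1
  rw [← B.card_mul_index, hk, ← h4]
  calc _ ≤ p * p * p := Nat.mul_le_mul_right _ (Nat.mul_le_mul h3 h1)
    _ = p ^ 3 := by ring

/-- Let S be a finite p-group with an extraspecial subgroup of index p. Then S has an abelian subgroup of index p if and only if S has order p⁴. -/
theorem result {S : Type*} [Group S] [Finite S] (p : ℕ) [Fact p.Prime] (hS : IsPGroup p S) (Q : Subgroup S) (hQ : Cfsg.IsExtraspecial p ↥Q) (hQi : Q.index = p) :
    (∃ A : Subgroup S, IsMulCommutative ↥A ∧ A.index = p) ↔ Nat.card S = p ^ 4 := by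
  have hp := (Fact.out : p.Prime)
  haveI := H3.normal_of_index_eq hS hQi
  obtain ⟨n, hn, hc⟩ := S0095.result hQ
  constructor
  · rintro ⟨A, hA, hAi⟩
    haveI := H3.normal_of_index_eq hS hAi
    have h1 : (A.subgroupOf Q).index ≤ p :=
      Nat.le_of_dvd hp.pos (hAi ▸ relIndex_dvd_index_of_normal A Q)
    have h2 := card_le_of_abelian hQ (A.subgroupOf Q) inferInstance h1
    rw [hc] at h2
    have h3 := (Nat.pow_le_pow_iff_right hp.one_lt).mp h2
    have : n = 1 := by omega
    subst this
    rw [← Q.card_mul_index, hc, hQi]; ring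
  · intro h
    obtain ⟨A, hAn, hAc, -, hmax⟩ := H4.exists_maximal_abelian (⊥ : Subgroup S)
    have hC := H4.centralizer_le_of_maximal_abelian hS A hmax
    obtain ⟨a, ha⟩ := (hS.to_subgroup A).exists_card_eq
    obtain ⟨b, hb⟩ := hS.index A
    have hab : a + b = 4 := by
      have := A.card_mul_index
      rw [ha, hb, h, ← pow_add] at this
      exact Nat.pow_right_injective hp.two_le this
    have hi := H4.index_centralizer_le hS a A ha
    have hi2 : A.index ≤ p ^ a.choose 2 :=
      le_trans (Nat.le_of_dvd (Nat.pos_of_ne_zero Subgroup.index_ne_zero_of_finite)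
        (Subgroup.index_dvd_of_le hC)) hi
    rw [hb] at hi2
    have h3 := (Nat.pow_le_pow_iff_right hp.one_lt).mp hi2
    have hb0 : b ≠ 0 := by
      rintro rfl
      have hA : A = ⊤ := index_eq_one.1 (by simpa using hb)
      subst hA
      have h1 : center Q = ⊤ := by
        rw [eq_top_iff]; intro x _
        refine mem_center_iff.2 fun g => Subtype.ext ?_
        exact congrArg (fun y : (⊤ : Subgroup S) => (y : S))
          (hAc.is_comm.comm (⟨g, trivial⟩ : (⊤ : Subgroup S)) ⟨x, trivial⟩)
      have h4 := hQ.2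
      rw [h1, Subgroup.card_top, hc] at h4
      have := Nat.pow_right_injective hp.two_le (h4.trans (pow_one p).symm)
      omega
    have hb1 : b = 1 := by
      have : a ≤ 4 := by omega
      interval_cases a <;> simp [Nat.choose] at h3 <;> omega
    exact ⟨A, hAc, by rw [hb, hb1, pow_one]⟩

end Cfsg.Agent.S3810
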