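import Cfsg.Statements.S3811
import Cfsg.Agent.H50.Narrow
import Cfsg.Agent.H70.Conj
import Cfsg.Agent.H69.Cores
import Cfsg.Agent.H3.Frobenius
import Cfsg.Agent.H73.DerLen
import Cfsg.Agent.H2.Basic
import Cfsg.Agent.H3.PGroup

set_option autoImplicit false
open Cfsg

namespace Cfsg.Agent.S3811


open Subgroup H70
open scoped H49

universe u

section
variable {G : Type u} [Group G] [Finite G] {p : ℕ} [hp : Fact p.Prime]

structure Soft (p : ℕ) (E : Subgroup G) : Prop where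
  ab : E ≤ 𝒞(E)
  sc : 𝒞(E) ≤ E
  idx : E.relIndex 𝒩(E) = p

omit [Finite G] hp in
theorem rel_cj (g : G) (X Y : Subgroup G) : (cj g X).relIndex (cj g Y) = X.relIndex Y :=
  relIndex_map_map_of_injective X Y (MulAut.conj g).injective

omit [Finite G] hp in
theorem Soft.cj {E : Subgroup G} (h : Soft p E) (g : G) : Soft p (cj g E) :=
  ⟨by rw [← cj_centralizer]; exact cj_mono g h.ab, by rw [← cj_centralizer]; exact cj_mono g h.sc,
    by rw [← cj_normalizer, rel_cj, h.idx]⟩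

theorem up (hG : IsPGroup p G) {A X : Subgroup G} (h : A.relIndex 𝒩(A) = p) (hX : A < X) :
    𝒩(A) ≤ X := by
  have h1 := H3.lt_inf_normalizer_of_lt (hG.to_subgroup X) hX
  rw [← H50.sup_eq_of_relIndex_prime hp.out le_normalizer inf_le_right h h1.not_ge]
  exact sup_le inf_le_left hX.le

theorem chain (hG : IsPGroup p G) {X Y : Subgroup G}
    (h : X ⊓ Y < X → (X ⊓ Y).relIndex 𝒩(X ⊓ Y) = p) : X ≤ Y ∨ Y ≤ X := by
  by_contra! hc
  have h1 : X ⊓ Y < X := inf_lt_left.2 hc.1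
  have h2 : X ⊓ Y < Y := inf_lt_right.2 hc.2
  have h3 := h h1
  rw [relIndex_eq_one.2 (le_inf (up hG h3 h1) (up hG h3 h2))] at h3
  exact hp.out.one_lt.ne h3

theorem exists_coatom (hG : IsPGroup p G) {N K : Subgroup G} (h : N < K) :
    ∃ K', N ≤ K' ∧ K' < K ∧ K'.relIndex K = p := by
  obtain ⟨M, hM, h1⟩ := (eq_top_or_exists_le_coatom (N.subgroupOf K)).resolve_left
    (fun h1 => h.not_ge (subgroupOf_eq_top.1 h1))
  have h2 : (M.map K.subtype).relIndex K = p := by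
    rw [relIndex, subgroupOf, comap_map_eq_self_of_injective K.subtype_injective]
    exact H3.index_eq_of_isCoatom (hG.to_subgroup K) hM
  refine ⟨M.map K.subtype, ?_, lt_of_le_of_ne (map_subtype_le _) fun h3 => ?_, h2⟩
  · rw [← map_subgroupOf_eq_of_le h.le]; exact map_mono h1
  · rw [h3, relIndex_self] at h2; exact hp.out.one_lt.ne h2

theorem exists_norm (hG : IsPGroup p G) {K : Subgroup G} (h : K ≠ ⊤) : ∃ g ∈ 𝒩(K), g ∉ K := by
  obtain ⟨g, h1, h2⟩ := SetLike.exists_of_lt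
    (H3.lt_inf_normalizer_of_lt (hG.to_subgroup ⊤) (lt_top_iff_ne_top.2 h))
  exact ⟨g, h1.2, h2⟩

theorem class_one (hG : IsPGroup p G) {X : Subgroup G} (h : X ≤ 𝒞(X)) (h0 : X ≠ ⊥) :
    Group.nilpotencyClass X = 1 := by
  have := (hG.to_subgroup X).isNilpotent
  have := (nontrivial_iff_ne_bot X).2 h0
  refine le_antisymm (Group.IsNilpotent.nilpotencyClass_le_one_iff.2
    ⟨⟨fun a b => Subtype.ext (h b.2 a a.2)⟩⟩) (Nat.pos_of_ne_zero fun h1 => ?_)
  exact not_subsingleton X (Group.nilpotencyClass_zero_iff_subsingleton.1 h1)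

theorem base (hG : IsPGroup p G) {E : Subgroup G} (hE : Soft p E) (h : 𝒩(E) ≠ ⊤) :
    ∃ Z ≤ 𝒩(E) ⊓ 𝒞(𝒩(E)), ⁅𝒩(E), 𝒩(E)⁆ ≤ Z ∧ Z.relIndex 𝒩(E) ≤ p ^ 2 := by
  obtain ⟨g, hg, hgL⟩ := exists_norm hG h
  have h1 : 𝒩(cj g E) = 𝒩(E) := by rw [← cj_normalizer, cj_eq_self hg]
  have h2 := hE.cj g
  have h3 : (cj g E).relIndex 𝒩(E) = p := h1 ▸ h2.idx
  have h4 : ¬ cj g E ≤ E := fun h5 => hgL (mem_normalizer_of_cj_le h5)
  have h5 := H50.sup_eq_of_relIndex_prime hp.out le_normalizer (h1 ▸ le_normalizer) hE.idx h4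
  refine ⟨cj g E ⊓ E, le_inf (inf_le_right.trans le_normalizer) ?_, le_inf
    (H50.der_le_of_relIndex_prime hp.out h1.ge h3)
    (H50.der_le_of_relIndex_prime hp.out le_rfl hE.idx), ?_⟩
  · rw [← h5, cent_sup]; exact inf_le_inf h2.ab hE.ab
  · rw [_root_.sq]; exact relIndex_inf_le.trans (by rw [h3, hE.idx])

theorem stepB (hG : IsPGroup p G) {K : Subgroup G} (hK : K ≠ ⊤)
    (ih : ∀ M < K, ∀ E, Soft p E → E ≤ M →
      M.relIndex 𝒩(M) = p ∧ (𝒩(E) ≤ M → ⁅𝒩(E), 𝒩(E)⁆ ≤ 𝒞(M)))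
    {E : Subgroup G} (hE : Soft p E) (hL : 𝒩(E) ≤ K) : ⁅𝒩(E), 𝒩(E)⁆ ≤ 𝒞(K) := by
  rcases hL.eq_or_lt with rfl | hlt
  · obtain ⟨Z, h1, h2, -⟩ := base hG hE hK
    exact h2.trans (h1.trans inf_le_right)
  obtain ⟨M, m1, m2, m3⟩ := exists_coatom hG hlt
  obtain ⟨a1, a2⟩ := ih M m2 E hE (le_normalizer.trans m1)
  have hNM : 𝒩(M) = K := by
    refine le_antisymm (up hG a1 m2) ?_
    have h1 := relIndex_mul_relIndex _ _ _ le_normalizer (up hG a1 m2)
    rw [a1, m3] at h1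
    exact relIndex_eq_one.1 ((mul_eq_left₀ hp.out.ne_zero).1 h1)
  obtain ⟨h, hh, hhK⟩ := exists_norm hG hK
  have hM2 : cj h M ≤ K := cj_le_of_mem_norm hh m2.le
  have hne : ¬ cj h M ≤ M := fun h1 => hhK (hNM.le (mem_normalizer_of_cj_le h1))
  have hE2 := hE.cj h
  have hEM : cj h E ≤ cj h M := cj_mono h (le_normalizer.trans m1)
  have hY : K ≤ 𝒩(M ⊓ 𝒞(M)) := norm_inf hNM.ge (norm_centralizer hNM.ge)
  have hC : ⁅𝒩(E), 𝒩(E)⁆ ≤ M ⊓ 𝒞(M) := le_inf ((commutator_le_self _).trans m1) (a2 m1)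
  by_cases hY2 : M ⊓ 𝒞(M) ≤ cj h E
  · have h1 : ¬ cj h E ≤ M := fun h1 => by
      rcases chain hG (X := M) (Y := cj h M) (fun h2 =>
        (ih _ (h2.trans m2) _ hE2 (le_inf h1 hEM)).1) with h2 | h2
      · exact hne (eq_of_le_of_card_ge h2 (card_cj h M).le).ge
      · exact hne h2
    rw [← H50.sup_eq_of_relIndex_prime hp.out m2.le (hEM.trans hM2) m3 h1, cent_sup]
    exact le_inf ((hC.trans hY2).trans hE2.ab) (a2 m1)
  have h1 := up hG hE2.idx (right_lt_sup.2 hY2)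
  have hE2K : cj h E ≤ 𝒩(M ⊓ 𝒞(M)) := (hEM.trans hM2).trans hY
  have h2 : ⁅(M ⊓ 𝒞(M)) ⊔ cj h E, (M ⊓ 𝒞(M)) ⊔ cj h E⁆ ≤ M ⊓ 𝒞(M) := by
    refine comm_sup_le le_normalizer hE2K
      (commutator_le_left_of_norm (sup_le le_normalizer hE2K)) ?_
    exact comm_sup_le' le_normalizer hE2K (commutator_le_right_of_norm hE2K)
      ((comm_le_bot_iff.2 hE2.ab).trans bot_le)
  have h3 : cj h ⁅𝒩(E), 𝒩(E)⁆ ≤ cj h 𝒞(K) := by
    rw [cj_centralizer, cj_eq_self hh,
      ← H50.sup_eq_of_relIndex_prime hp.out m2.le hM2 m3 hne, cent_sup]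
    refine le_inf ?_ ?_
    · rw [← cj_centralizer]; exact cj_mono h (a2 m1)
    · rw [cj_commutator, cj_normalizer]
      exact ((commutator_mono h1 h1).trans h2).trans inf_le_right
  exact (cj_le_cj_iff h).1 h3

end

def T (p : ℕ) (G : Type u) [Group G] : Prop :=
  ∀ E K : Subgroup G, Soft p E → E ≤ K → K ≠ ⊤ →
    K.relIndex 𝒩(K) = p ∧ ∀ i, E.relIndex K = p ^ i → Group.nilpotencyClass K = i + 1

theorem main {p : ℕ} [hp : Fact p.Prime] (G : Type u) [Group G] [Finite G] :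
    IsPGroup p G → T p G := by
  refine H2.card_induction (P := fun G _ _ => IsPGroup p G → T p G) G ?_
  intro G _ _ IH hG
  suffices h : ∀ K : Subgroup G, K ≠ ⊤ → ∀ E, Soft p E → E ≤ K →
      (K.relIndex 𝒩(K) = p ∧ (𝒩(E) ≤ K → ⁅𝒩(E), 𝒩(E)⁆ ≤ 𝒞(K))) ∧
      ∀ i, E.relIndex K = p ^ i → Group.nilpotencyClass K = i + 1 from
    fun E K hE h1 h2 => ⟨(h K h2 E hE h1).1.1, (h K h2 E hE h1).2⟩
  intro K
  induction K using WellFoundedLT.induction with
  | ind K ih =>
  intro hK E hE hEK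
  have hE0 : E ≠ ⊥ := by
    rintro rfl
    exact hK (top_le_iff.1 ((cent_comm.1 bot_le).trans (hE.sc.trans hEK)))
  have hEL : ¬ 𝒩(E) ≤ E := fun h => by
    have := hE.idx
    rw [relIndex_eq_one.2 h] at this
    exact hp.out.one_lt.ne this
  rcases hEK.eq_or_lt with rfl | hlt
  · refine ⟨⟨hE.idx, fun h => absurd h hEL⟩, fun i hi => ?_⟩
    rw [relIndex_self] at hi
    rw [(Nat.pow_eq_one.1 hi.symm).resolve_left hp.out.one_lt.ne', class_one hG hE.ab hE0]
  have hL := up hG hE.idx hlt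
  have hB := stepB hG hK (fun M hM E' h1 h2 => (ih M hM (hM.trans_le le_top).ne E' h1 h2).1) hE hL
  set L := 𝒩(E) with hLd
  set H := 𝒩(K) with hHd
  set Z := K ⊓ 𝒞(K) with hZd
  have hKH : K ≤ H := le_normalizer
  have hZE : Z ≤ E := inf_le_right.trans ((cent_anti hEK).trans hE.sc)
  have hZn : (Z.subgroupOf H).Normal :=
    normal_subgroupOf_of_le_normalizer (norm_inf le_rfl (norm_centralizer le_rfl))
  set f := QuotientGroup.mk' (Z.subgroupOf H)
  have hf : Function.Surjective f := QuotientGroup.mk'_surjective _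
  have hQ : IsPGroup p (H ⧸ Z.subgroupOf H) := (hG.to_subgroup H).to_quotient _
  let bar : Subgroup G → Subgroup (H ⧸ Z.subgroupOf H) := fun X => (X.subgroupOf H).map f
  have b1 : ∀ X, Z ≤ X → (bar X).comap f = X.subgroupOf H := fun X hX =>
    comap_map_eq_self (by rw [QuotientGroup.ker_mk']; exact comap_mono hX)
  have b2 : ∀ X Y, Z ≤ X → Y ≤ H → (bar X).relIndex (bar Y) = X.relIndex Y := fun X Y hX hY => by
    rw [← relIndex_comap, b1 X hX, relIndex_subgroupOf hY]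
  have b3 : bar H = ⊤ := by
    simp only [bar]; rw [subgroupOf_self, map_top_of_surjective f hf]
  have hZL : Z ≤ L := hZE.trans le_normalizer
  have hZK : Z ≤ K := inf_le_left
  have hab : bar L ≤ 𝒞(bar L) := by
    rintro _ ⟨x, hx, rfl⟩ _ ⟨y, hy, rfl⟩
    rw [← commutatorElement_eq_one_iff_mul_comm, ← map_commutatorElement]
    have h1 := commutator_mem_commutator (show (y : G) ∈ L from hy) (show (x : G) ∈ L from hx)
    exact (QuotientGroup.eq_one_iff _).2 ⟨hL (commutator_le_self L h1), hB h1⟩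
  have hsc : 𝒞(bar L) ≤ bar L := by
    intro y hy
    obtain ⟨x, rfl⟩ := hf y
    refine ⟨x, mem_normalizer_of_cj_le (cj_le_iff.2 fun e he => ?_), rfl⟩
    have h1 := hy (f ⟨e, hKH (hEK he)⟩) ⟨_, le_normalizer he, rfl⟩
    have h2 : f (x * ⟨e, hKH (hEK he)⟩ * x⁻¹ * (⟨e, hKH (hEK he)⟩ : H)⁻¹) = 1 := by
      simp only [map_mul, map_inv]; rw [← h1]; group
    have h3 : (x : G) * e * (x : G)⁻¹ * e⁻¹ ∈ E := 
      hZE ((QuotientGroup.eq_one_iff (N := Z.subgroupOf H) _).1 h2 :)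
    simpa using E.mul_mem h3 he
  have hHK : ¬ H ≤ K := by
    obtain ⟨g, h1, h2⟩ := exists_norm hG hK
    exact fun h => h2 (h h1)
  have hcl : Group.nilpotencyClass K = Group.nilpotencyClass (bar K) + 1 := by
    have := (hG.to_subgroup K).isNilpotent
    have := (hQ.to_subgroup (bar K)).isNilpotent
    have := (nontrivial_iff_ne_bot K).2 fun h => hE0 (le_bot_iff.1 (hEK.trans h.le))
    let φ : K →* bar K := (f.comp (inclusion hKH)).codRestrict _ fun x => ⟨_, x.2, rfl⟩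
    have h1 : Function.Surjective φ := by
      rintro ⟨_, x, hx, rfl⟩
      exact ⟨⟨x, hx⟩, rfl⟩
    have h2 : center K = φ.ker := by
      ext x
      rw [MonoidHom.mem_ker, Subtype.ext_iff, mem_center_iff]
      refine Iff.trans ?_ (QuotientGroup.eq_one_iff (N := Z.subgroupOf H) (inclusion hKH x)).symm
      exact ⟨fun h => ⟨x.2, fun y hy => congrArg Subtype.val (h ⟨y, hy⟩)⟩,
        fun h y => Subtype.ext (h.2 y y.2)⟩
    let e := (QuotientGroup.quotientMulEquivOfEq h2).trans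
      (QuotientGroup.quotientKerEquivOfSurjective φ h1)
    rw [Group.nilpotencyClass_eq_quotient_center_plus_one, le_antisymm
      (Group.nilpotencyClass_le_of_surjective e.symm.toMonoidHom e.symm.surjective)
      (Group.nilpotencyClass_le_of_surjective e.toMonoidHom e.surjective)]
  rcases hL.eq_or_lt with hLK | hLK
  · obtain ⟨Z0, z1, -, z3⟩ := base hG hE (hLK.trans_ne hK)
    have h1 : Nat.card (bar L) ≤ p ^ 2 := by
      rw [← relIndex_bot_left, ← show bar Z = ⊥ from (Subgroup.map_eq_bot_iff _).2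
        (QuotientGroup.ker_mk' _).ge, b2 Z L le_rfl (hL.trans hKH)]
      refine le_trans (Nat.le_of_dvd (Nat.pos_of_ne_zero index_ne_zero_of_finite)
        (relIndex_dvd_of_le_left _ ?_)) z3
      rw [hZd, ← hLK]; exact z1
    have h2 : (bar L).Normal := by
      rw [hLK]
      exact (normal_subgroupOf_of_le_normalizer le_rfl).map f hf
    have h3 := H50.relIndex_cent_le_of_p2 (hQ.to_subgroup ⊤) (hQ.to_subgroup (bar L))
      norm_of_normal h1
    rw [le_antisymm hsc hab, ← b3, b2 L H hZL le_rfl, hLK] at h3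
    refine ⟨⟨H50.relIndex_eq_p_of_le (hG.to_subgroup H) h3 hHK, fun _ => hB⟩, fun i hi => ?_⟩
    rw [← hLK, hE.idx] at hi
    obtain rfl : 1 = i := Nat.pow_right_injective hp.out.two_le (by simpa using hi)
    rw [hcl, ← hLK, class_one hQ hab]
    intro h4
    have h5 := b1 L hZL
    rw [h4, MonoidHom.comap_bot, QuotientGroup.ker_mk'] at h5
    refine hEL fun x hx => hZE ?_
    exact (h5.ge (show (⟨x, hKH (hL hx)⟩ : H) ∈ L.subgroupOf H from hx) :)
  have a1 := (ih L hLK (hLK.trans_le le_top).ne E hE le_normalizer).1.1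
  have hNL : 𝒩(L) ≤ K := up hG a1 hLK
  have hsoft : Soft p (bar L) := ⟨hab, hsc, by
    have : 𝒩(bar L) = bar 𝒩(L) := by
      apply comap_injective hf
      rw [comap_normalizer_eq_of_surjective _ hf, b1 L hZL, b1 _ (hZL.trans le_normalizer),
        subgroupOf_normalizer_eq (hL.trans hKH)]
    rw [this, b2 _ _ hZL (hNL.trans hKH), a1]⟩
  have hZ0 : Z.subgroupOf H ≠ ⊥ := by
    have h1 := H69.inf_centralizer_ne_bot (hG.to_subgroup K) (hG.to_subgroup K) le_normalizer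
      fun h => hE0 (le_bot_iff.1 (hEK.trans h.le))
    intro h2
    apply h1
    rw [← hZd, ← map_subgroupOf_eq_of_le (hZK.trans hKH), h2, Subgroup.map_bot]
  have hKn : (bar K).Normal := (normal_subgroupOf_of_le_normalizer le_rfl).map f hf
  obtain ⟨c1, c2⟩ := IH _ ((H73.card_quot_lt hZ0).trans_le (card_le_card_group H)) hQ (bar L) (bar K)
    hsoft (map_mono (comap_mono hL)) (fun h => hHK (relIndex_eq_one.1 (by
      rw [← b2 K H hZK le_rfl, h]; exact relIndex_eq_one.2 le_top)))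
  rw [normalizer_eq_top, ← b3, b2 K H hZK le_rfl] at c1
  refine ⟨⟨c1, fun _ => hB⟩, fun i hi => ?_⟩
  have h1 := relIndex_mul_relIndex _ _ _ (le_normalizer : E ≤ L) hL
  rw [hE.idx, hi] at h1
  rcases i with _ | i
  · exact absurd (Nat.eq_one_of_mul_eq_one_right h1) hp.out.one_lt.ne'
  rw [pow_succ'] at h1
  rw [hcl, c2 i (by rw [b2 L K hZL hKH]; exact Nat.eq_of_mul_eq_mul_left hp.out.pos h1)]


/-- Let P be a finite p-group and E an abelian subgroup of P that contains its centralizer, has index p in its normalizer, and has index at least p² in P. Then the subgroups of P containing E are totally ordered by inclusion, each proper one has index p in its normalizer (so they form the normalizer tower of E, with all steps of index p), and the i-th member of the tower above E has nilpotency class i + 1 whenever it is a proper subgroup of P. -/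
theorem result {P : Type*} [Group P] [Finite P] (p : ℕ) [Fact p.Prime] (hP : IsPGroup p P)
    (E : Subgroup P) (hEab : IsMulCommutative ↥E) (hC : Subgroup.centralizer (E : Set P) ≤ E)
    (hN : (E.subgroupOf (Subgroup.normalizer (E : Set P))).index = p) (hidx : p ^ 2 ≤ E.index) :
    (∀ K L : Subgroup P, E ≤ K → E ≤ L → K ≤ L ∨ L ≤ K) ∧
      (∀ K : Subgroup P, E ≤ K → K ≠ ⊤ → (K.subgroupOf (Subgroup.normalizer (K : Set P))).index = p) ∧
      ∀ (i : ℕ) (K : Subgroup P) [Group.IsNilpotent ↥K], E ≤ K → K ≠ ⊤ → K.index * p ^ i = E.index →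
        Group.nilpotencyClass ↥K = i + 1 := by
  have hE : Soft p E := ⟨fun a ha b hb => congrArg Subtype.val (hEab.is_comm.comm (⟨b, hb⟩ : E) ⟨a, ha⟩),
    hC, hN⟩
  have h := main P hP E
  refine ⟨fun K L hK hL => chain hP fun h1 =>
    (h _ hE (le_inf hK hL) (h1.trans_le le_top).ne).1, fun K h1 h2 => (h K hE h1 h2).1,
    fun i K _ h1 h2 h3 => (h K hE h1 h2).2 i ?_⟩
  rw [← relIndex_mul_index h1, mul_comm] at h3
  exact (Nat.eq_of_mul_eq_mul_right (Nat.pos_of_ne_zero index_ne_zero_of_finite) h3).symm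

end Cfsg.Agent.S3811
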