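import Cfsg.Statements.S3817
import Cfsg.Agent.F2C.Main

set_option autoImplicit false
open Cfsg

namespace Cfsg.Agent.S3817

/-- Let G be a finite group and write F₂(X) for the second term of the upper Fitting chain of a finite group X: the preimage in X of the Fitting subgroup of X/F(X). Then an element x of G lies in F₂(G) if and only if x lies in F₂(⟨x, y⟩) for every y ∈ G. -/
theorem result {G : Type*} [Group G] [Finite G]
    [hF : (Cfsg.fittingSubgroup G).Normal]
    (hK : ∀ K : Subgroup G, (Cfsg.fittingSubgroup ↥K).Normal) (x : G) :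
    x ∈ (Cfsg.fittingSubgroup (G ⧸ Cfsg.fittingSubgroup G)).comap (QuotientGroup.mk' (Cfsg.fittingSubgroup G)) ↔
      ∀ y : G, ∀ hx : x ∈ Subgroup.closure ({x, y} : Set G),
        haveI := hK (Subgroup.closure ({x, y} : Set G));
        (⟨x, hx⟩ : ↥(Subgroup.closure ({x, y} : Set G))) ∈
          (Cfsg.fittingSubgroup (↥(Subgroup.closure ({x, y} : Set G)) ⧸ Cfsg.fittingSubgroup ↥(Subgroup.closure ({x, y} : Set G)))).comap
            (QuotientGroup.mk' (Cfsg.fittingSubgroup ↥(Subgroup.closure ({x, y} : Set G)))) := by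
  constructor
  · intro h y hx
    haveI := hK (Subgroup.closure ({x, y} : Set G))
    refine F2C.mem_of_pparts fun p n hp pe => (F2C.good_iff hp pe).mpr ?_
    have pe' : F2C.PE p (x ^ n) := by
      obtain ⟨k, hk⟩ := pe
      exact ⟨k, by simpa using congrArg Subtype.val hk⟩
    have h1 := (F2C.good_iff hp pe').mp (pow_mem h n)
    refine F2C.Good.of_map (Subgroup.closure ({x, y} : Set G)).subtype (Subgroup.subtype_injective _) ?_
    rw [← MonoidHom.range_eq_map, Subgroup.range_subtype]
    exact h1.mono le_top (pow_mem hx n)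
  · intro h
    refine F2C.mem_of_pparts fun p n hp pe => (F2C.good_iff hp pe).mpr (F2C.main hp pe fun y => ?_)
    have hx : x ∈ Subgroup.closure ({x, y} : Set G) := Subgroup.subset_closure (Or.inl rfl)
    haveI := hK (Subgroup.closure ({x, y} : Set G))
    have pe' : F2C.PE p ((⟨x, hx⟩ : Subgroup.closure ({x, y} : Set G)) ^ n) := by
      obtain ⟨k, hk⟩ := pe
      exact ⟨k, Subtype.ext (by simpa using hk)⟩
    have h1 := ((F2C.good_iff hp pe').mp (pow_mem (h y hx) n)).map
      (Subgroup.closure ({x, y} : Set G)).subtype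
    rw [← MonoidHom.range_eq_map, Subgroup.range_subtype] at h1
    refine h1.mono ?_ (Subgroup.subset_closure (Or.inl rfl))
    rw [Subgroup.closure_le]
    rintro t (rfl | rfl)
    · exact pow_mem hx n
    · exact Subgroup.subset_closure (Or.inr rfl)

end Cfsg.Agent.S3817
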