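import Cfsg.Statements.S3824
import Cfsg.Agent.H5.Burnside

set_option autoImplicit false
open Cfsg

namespace Cfsg.Agent.S3824

universe u
theorem aux (n : ℕ) : ∀ (G : Type u) [Group G] [Finite G], Nat.card G = n →
    ∀ (A : Subgroup G), IsMulCommutative A → (∃ k : ℕ, A.index ∣ 2 ^ k) → Group.IsSolvable G := by
  induction n using Nat.strong_induction_on with
  | _ n ih =>
  intro G _ _ hn A hA ⟨k, hk⟩
  rcases subsingleton_or_nontrivial G with hG | hG
  · infer_instance
  by_cases hs : IsSimpleGroup G
  · by_cases hA1 : A = ⊥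
    · rw [hA1, Subgroup.index_bot] at hk
      exact H5.isSolvable_of_card_dvd_prime_pow_mul Nat.prime_two Nat.prime_two (a := k) (b := 0)
        (by simpa using hk)
    · obtain ⟨⟨z, hz⟩, hz1⟩ := Subgroup.ne_bot_iff_exists_ne_one.mp hA1
      have hle : A ≤ Subgroup.centralizer {z} := fun x hx => by
        rw [Subgroup.mem_centralizer_singleton_iff]
        exact congrArg Subtype.val (hA.is_comm.comm (⟨x, hx⟩ : A) ⟨z, hz⟩)
      obtain ⟨c, -, hc⟩ := (Nat.dvd_prime_pow Nat.prime_two).mp
        ((Subgroup.index_dvd_of_le hle).trans hk)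
      have key := H5.prime_card_of_simple_of_index_eq_prime_pow Nat.prime_two
        (fun h => hz1 (Subtype.ext h)) hc
      have : Fact (Nat.card G).Prime := ⟨key⟩
      have := isCyclic_of_prime_card (α := G) rfl
      exact Group.isSolvable_of_comm fun x y => IsCyclic.commGroup.mul_comm x y
  · obtain ⟨N, hN, hN0, hN1⟩ : ∃ N : Subgroup G, N.Normal ∧ N ≠ ⊥ ∧ N ≠ ⊤ := by
      by_contra! hc
      exact hs ⟨fun N hN => (eq_or_ne N ⊥).imp_right (hc N hN)⟩
    have hmul := N.card_mul_index
    have h1 : 1 < Nat.card N := N.one_lt_card_iff_ne_bot.mpr hN0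
    have h2 : 1 < N.index := N.one_lt_index_of_ne_top hN1
    have hs1 := ih (Nat.card N) (by nlinarith) N rfl (A.subgroupOf N)
      inferInstance
      ⟨k, by
        have e1 : A.relIndex N = A.relIndex (A ⊔ N) := by
          have h3 := Subgroup.relIndex_sup_right (H := A) (K := N)
          have h4 := Subgroup.relIndex_mul_index (le_sup_left : A ≤ A ⊔ N)
          have h5 := Subgroup.relIndex_mul_index (le_sup_right : N ≤ A ⊔ N)
          have h6 := Subgroup.relIndex_mul_index (inf_le_left : A ⊓ N ≤ A)
          have h7 := Subgroup.relIndex_mul_index (inf_le_right : A ⊓ N ≤ N)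
          rw [Subgroup.inf_relIndex_left] at h6
          rw [Subgroup.inf_relIndex_right] at h7
          have h8 : (A ⊔ N).index ≠ 0 := Subgroup.index_ne_zero_of_finite
          have h9 : N.relIndex A ≠ 0 := Subgroup.index_ne_zero_of_finite
          have : A.relIndex N * N.relIndex A * (A ⊔ N).index =
              A.relIndex (A ⊔ N) * N.relIndex A * (A ⊔ N).index := by
            calc _ = A.relIndex N * (N.relIndex (A ⊔ N) * (A ⊔ N).index) := by rw [h3]; ring
              _ = N.relIndex A * A.index := by rw [h5, h7, h6]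
              _ = _ := by rw [← h4]; ring
          exact Nat.eq_of_mul_eq_mul_right (Nat.pos_of_ne_zero h9)
            (Nat.eq_of_mul_eq_mul_right (Nat.pos_of_ne_zero h8) this)
        change A.relIndex N ∣ _
        rw [e1]
        exact (Subgroup.relIndex_dvd_index_of_le le_sup_left).trans hk⟩
    have hs2 := ih N.index (by nlinarith) (G ⧸ N) rfl (A.map (QuotientGroup.mk' N)) inferInstance
      ⟨k, (Subgroup.index_map_dvd _ (QuotientGroup.mk'_surjective N)).trans hk⟩
    exact (Group.isSolvable_iff_subgroup_quotient N).mpr ⟨hs1, hs2⟩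

/-- Every finite group having an abelian subgroup whose index is a power of 2 is solvable. -/
theorem result {G : Type*} [Group G] [Finite G]
    (A : Subgroup G) (hA : IsMulCommutative A) (hidx : ∃ k : ℕ, A.index = 2 ^ k) : Group.IsSolvable G := by
  obtain ⟨k, hk⟩ := hidx
  exact aux _ G rfl A hA ⟨k, hk ▸ dvd_rfl⟩

end Cfsg.Agent.S3824
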