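import Cfsg.Statements.S3856
import Cfsg.Agent.H12.GK2
import Cfsg.Agent.H77.Factor
import Cfsg.Agent.H54.FT

set_option autoImplicit false
open Cfsg

namespace Cfsg.Agent.S3856

open Subgroup H1 S3857 H12.GK

variable {G : Type*} [Group G] [Finite G] {π : Set ℕ}

theorem exists_inv (h : ¬ Group.IsSolvable G) : ∃ a : G, orderOf a = 2 :=
  exists_prime_orderOf_dvd_card' 2 (by
    by_contra h2
    exact h (H54.odd_order_solvable (Nat.not_even_iff_odd.1 fun e => h2 e.two_dvd)))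

omit [Finite G] in
theorem ne_one_of_prime {x : G} {p : ℕ} (hp : p.Prime) (h : orderOf x = p) : x ≠ 1 :=
  fun e => hp.ne_one (by rw [← h, e, orderOf_one])

theorem simple_of_min (h : Disc π G) (h2 : 2 ∈ π) {N : Subgroup G} (hN : H77.MinNormal N)
    (hc : ¬ IsMulCommutative N) {n : G} (hn : n ∈ N) {u : ℕ} (hu : u.Prime) (huπ : u ∉ π)
    (ho : orderOf n = u) : IsSimpleGroup N := by
  obtain ⟨T, hT⟩ := H77.exists_factor hN.ne_bot
  by_cases hne : T = N
  · exact hne ▸ hT.simple hN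
  have inv : ∀ U, H77.Factor N U → ∀ x : G, (∀ s ∈ U, x * s = s * x) → PiNum π (orderOf x) := by
    intro U hU x hx
    have := hU.simple hN
    obtain ⟨a, ha⟩ := exists_inv (G := U) fun e =>
      hU.not_comm hN hc ⟨⟨IsSimpleGroup.comm_iff_isSolvable.2 e⟩⟩
    rw [← orderOf_coe] at ha
    exact pi_of_comm h (hx a a.2).symm (ha ▸ piNum_prime Nat.prime_two h2)
      (ne_one_of_prime Nat.prime_two ha)
  obtain ⟨t, ht, c, -, hcT, rfl⟩ := hT.decomp hN hn
  refine absurd (?_ : PiNum π (orderOf (t * c))) fun e => huπ (e u hu (dvd_of_eq ho.symm))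
  by_cases hc1 : c = 1
  · obtain ⟨g, hg⟩ := hT.exists_cj_ne hN hne
    rw [hc1, mul_one]
    exact inv _ (hT.conj hN.normal g) t
      (((hT.eq_or_comm (hT.conj hN.normal g)).resolve_left hg.symm) t ht)
  · exact pi_of_comm h (Commute.mul_right (hcT t ht) (Commute.refl c)) (inv T hT c hcT) hc1

theorem index_cent (h : Disc π G) (h2 : 2 ∈ π) {V : Subgroup G} [V.Normal] (hV : PiNum πᶜ (Nat.card V))
    {z : G} (hz : orderOf z = 2) : PiNum π (centralizer (V : Set G)).index ∨ V = ⊥ := by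
  refine or_iff_not_imp_right.2 fun hV1 q hq hd => by_contra fun hqπ => ?_
  have hz1 := ne_one_of_prime Nat.prime_two hz
  have hzπ : PiNum π (orderOf z) := hz ▸ piNum_prime Nat.prime_two h2
  have hz2 : z * z = 1 := by rw [← sq, ← hz, pow_orderOf_eq_one]
  obtain ⟨⟨c, hc⟩, hc1⟩ := ne_bot_iff_exists_ne_one.1 hV1
  have hc1 : c ≠ 1 := fun e => hc1 (Subtype.ext e)
  have hcπ : PiNum πᶜ (orderOf c) := hV.of_dvd (V.orderOf_dvd_natCard hc)
  have hi : ∀ x ∈ V, z * x * z⁻¹ = x⁻¹ := H71.inverts_of_fpf hz2 (le_normalizer_of_normal (mem_top z))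
    (eq_bot_iff.2 fun x hx => h.eq_one (mem_centralizer_singleton_iff.1 hx.1).symm hzπ
      (hV.of_dvd (V.orderOf_dvd_natCard hx.2)) hz1)
  obtain ⟨y, -, hy1, hy2⟩ := big_top hq hd
  have hw := H71.commutator_mem_centralizer_of_inverts hi (le_normalizer_of_normal (mem_top y))
  have hwc : y * z * y⁻¹ * z⁻¹ ∈ centralizer ({c} : Set G) :=
    mem_centralizer_singleton_iff.2 (hw c hc).symm
  obtain ⟨k, hk⟩ := exists_sqrt (Nat.not_even_iff_odd.1 fun e =>
    pi_of_comm h.compl (mem_centralizer_singleton_iff.1 hwc).symm hcπ hc1 2 Nat.prime_two e.two_dvd h2)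
  set v := (y * z * y⁻¹ * z⁻¹) ^ k
  have hv := inv_all h h2 hz2 hz1 hcπ hc1 (hi c hc) v⁻¹ (inv_mem (pow_mem hwc k))
  have hvT : v ∈ centralizer (V : Set G) := pow_mem hw k
  have h3 : Big (centralizer (V : Set G)) q (centralizer ({z} : Set G)) := by
    refine ⟨v⁻¹ * y, mem_centralizer_singleton_iff.2 ?_,
      fun e => hy1 ((Subgroup.mul_mem_cancel_left _ (inv_mem hvT)).1 e), ?_⟩
    · rw [inv_inv] at hv
      calc v⁻¹ * y * z = v⁻¹ * (y * z * y⁻¹ * z⁻¹) * z * y := by group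
        _ = (z * v⁻¹ * z⁻¹) * z * y := by rw [← hk, hv]; group
        _ = z * (v⁻¹ * y) := by group
    · rw [← QuotientGroup.eq_one_iff] at hy2 ⊢
      rwa [QuotientGroup.mk_pow, QuotientGroup.mk_mul, (QuotientGroup.eq_one_iff _).2 (inv_mem hvT),
        one_mul, ← QuotientGroup.mk_pow]
  obtain ⟨x, hx, hxs⟩ := h3.exists_ord hq
  exact ne_one_of_prime hq hxs (h.eq_one (mem_centralizer_singleton_iff.1 hx).symm hzπ
    (hxs ▸ piNum_prime (π := πᶜ) hq hqπ) hz1)

theorem main (h : Disc π G) (h2 : 2 ∈ π) (h1 : ¬ PiNum π (Nat.card G)) (hG : ¬ Group.IsSolvable G) :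
    (∃ C : Subgroup G, IsFrobeniusComplement C) ∨
    (∃ (H K : Subgroup G) (_ : H.Normal), K.Normal ∧ H < K ∧
      (∃ C : Subgroup K, IsFrobeniusComplement C ∧ frobeniusKernel C = (H.subgroupOf K : Set K)) ∧
      (∃ C : Subgroup (G ⧸ H), IsFrobeniusComplement C ∧
        frobeniusKernel C = (K.map (QuotientGroup.mk' H) : Set (G ⧸ H)))) ∨
    (∃ (N M : Subgroup G) (_ : N.Normal) (_ : M.Normal), N ≤ M ∧ PiNum π (Nat.card N) ∧
      PiNum π (Nat.card (G ⧸ M)) ∧
      IsSimpleGroup (M ⧸ N.subgroupOf M) ∧ ¬ IsMulCommutative (M ⧸ N.subgroupOf M)) := by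
  obtain ⟨H, hHn, hH, hHm⟩ := exists_core π G
  have hH2 : H ≠ ⊤ := fun e => h1 (card_top (G := G) ▸ e ▸ hH)
  have hs := QuotientGroup.mk'_surjective H
  have key : ∀ N : Subgroup (G ⧸ H), N.Normal → PiNum π (Nat.card N) → N = ⊥ := fun N hN h => by
    have h2 := hHm (N.comap (QuotientGroup.mk' H)) inferInstance (card_comap_mk' H N ▸ h.mul hH)
    rw [← map_comap_eq_self_of_surjective hs N, Subgroup.map_eq_bot_iff, QuotientGroup.ker_mk']
    exact h2
  have := QuotientGroup.nontrivial_iff.2 hH2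
  obtain ⟨M, hMn, hM1, hmin⟩ := H2.exists_minimal_normal (G := G ⧸ H)
  obtain ⟨u, hu, hud, huπ⟩ : ∃ u, u.Prime ∧ u ∣ Nat.card M ∧ u ∉ π := by
    by_contra hc
    exact hM1 (key M hMn fun p hp hd => by_contra fun h3 => hc ⟨p, hp, hd, h3⟩)
  have := Fact.mk hu
  obtain ⟨n, hn⟩ := exists_prime_orderOf_dvd_card' u hud
  rw [← orderOf_coe] at hn
  by_cases hc : IsMulCommutative M
  · obtain ⟨p, hp, hMp⟩ := H2.minimal_normal_exponent_of_comm M hc hM1 hmin
    obtain rfl : u = p := (Nat.prime_dvd_prime_iff_eq hu hp).1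
      (hn ▸ orderOf_dvd_of_pow_eq_one (hMp n n.2))
    have hM : PiNum πᶜ (Nat.card M) :=
      piNum_of_isPGroup hu huπ (H2.isPGroup_of_forall_pow_eq_one hMp)
    obtain ⟨x, hx⟩ := exists_prime_orderOf_dvd_card' (G := G) u
      ((hud.trans (card_subgroup_dvd_card M)).trans (card_quotient_dvd_card H))
    have := nil_of_fpf (K := H) (le_normalizer_of_normal (mem_top x)) (hx ▸ hu) fun k hk e =>
      by_contra fun hk1 => ne_one_of_prime hu hx (h.eq_one e (hH.of_dvd (H.orderOf_dvd_natCard hk))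
        (hx ▸ piNum_prime (π := πᶜ) hu huπ) hk1)
    obtain ⟨z, hz⟩ := exists_inv (G := G ⧸ H) fun e =>
      hG ((Group.isSolvable_iff_subgroup_quotient H).2 ⟨inferInstance, e⟩)
    have hi := (index_cent (h.quot H) h2 hM hz).resolve_right hM1
    set K := centralizer (M : Set (G ⧸ H))
    have hK : PiNum πᶜ (Nat.card K) := fun q hq hd => by
      have := Fact.mk hq
      obtain ⟨y, hy⟩ := exists_prime_orderOf_dvd_card' q hd
      rw [← orderOf_coe] at hy
      exact pi_of_comm (h.quot H).compl (y.2 n n.2) (hn ▸ piNum_prime (π := πᶜ) hu huπ)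
        (ne_one_of_prime hu hn) q hq (dvd_of_eq hy.symm)
    have hK1 : K ≠ ⊥ := fun e => hM1 (eq_bot_iff.2 (e ▸ le_centralizer M))
    have hK2 : K ≠ ⊤ := fun e => hK 2 Nat.prime_two
      (hz ▸ K.orderOf_dvd_natCard (e ▸ mem_top z)) h2
    have hi' : PiNum πᶜᶜ K.index := by rwa [compl_compl]
    by_cases hH1 : H = ⊥
    · refine Or.inl ((frob h.compl (K.comap (QuotientGroup.mk' H)) ?_ ?_ (fun e => hK1 ?_)
        fun e => hK2 ?_).imp fun _ h => h.1)
      · rwa [card_comap_mk', card_eq_one.2 hH1, mul_one]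
      · rwa [index_comap_of_surjective _ hs]
      · rw [← map_comap_eq_self_of_surjective hs K, e, Subgroup.map_bot]
      · rw [← map_comap_eq_self_of_surjective hs K, e, map_top_of_surjective _ hs]
    have hHK : H < K.comap (QuotientGroup.mk' H) :=
      lt_of_le_of_ne (QuotientGroup.le_comap_mk' H K) fun e =>
        hK1 (by rw [← map_comap_eq_self_of_surjective hs K, ← e, QuotientGroup.map_mk'_self])
    have hrel : (H.subgroupOf (K.comap (QuotientGroup.mk' H))).index = Nat.card K := by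
      have h2 := relIndex_ker (K.comap (QuotientGroup.mk' H)) (QuotientGroup.mk' H)
      rwa [QuotientGroup.ker_mk', map_comap_eq_self_of_surjective hs] at h2
    refine Or.inr (Or.inl ⟨H, K.comap (QuotientGroup.mk' H), hHn, inferInstance, hHK,
      frob (h.sub _) _ (H2.card_subgroupOf_of_le hHK.le ▸ hH) (hrel ▸ hK)
        (by rwa [Ne, subgroupOf_eq_bot, disjoint_iff, inf_eq_left.2 hHK.le])
        (by rw [Ne, subgroupOf_eq_top]; exact hHK.not_ge), ?_⟩)
    rw [map_comap_eq_self_of_surjective hs]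
    exact frob (h.quot H).compl K hK hi' hK1 hK2
  · have hS := simple_of_min (h.quot H) h2 ⟨hMn, hM1, hmin⟩ hc n.2 hu huπ hn
    let f := (QuotientGroup.mk' H).subgroupComap M
    have hf : f.ker = H.subgroupOf (M.comap (QuotientGroup.mk' H)) := by
      ext x
      rw [MonoidHom.mem_ker, mem_subgroupOf, ← QuotientGroup.eq_one_iff, Subtype.ext_iff]
      rfl
    let e := (QuotientGroup.quotientMulEquivOfEq hf.symm).trans
      (QuotientGroup.quotientKerEquivOfSurjective f
        ((QuotientGroup.mk' H).subgroupComap_surjective_of_surjective M hs))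
    refine Or.inr (Or.inr ⟨H, M.comap (QuotientGroup.mk' H), hHn, inferInstance,
      QuotientGroup.le_comap_mk' H M, hH, fun q hq hd => by_contra fun hqπ => ?_,
      e.isSimpleGroup, fun hcm => hc ⟨⟨fun a b => e.symm.injective ?_⟩⟩⟩)
    · rw [← index, index_comap_of_surjective _ hs] at hd
      obtain ⟨a, ha⟩ := exists_inv (G := M) fun e => hc ⟨⟨IsSimpleGroup.comm_iff_isSolvable.2 e⟩⟩
      rw [← orderOf_coe] at ha
      obtain ⟨N, h3, h4, h5⟩ := two_core (h.quot H) h2 hq hqπ hd a.2 ha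
      rw [key N h3 (piNum_of_isPGroup Nat.prime_two h2 h4)] at h5
      exact ne_one_of_prime Nat.prime_two ha h5
    · rw [map_mul, map_mul, hcm.is_comm.comm]

/-- Structure of finite groups with disconnected prime graph. The prime graph of a finite group G has the prime divisors of |G| as vertices, two distinct primes p, q being joined when G has an element of order pq. If G has even order and its prime graph is disconnected then, writing π₁ for the set of primes joined to 2 by a path: either G is a Frobenius group; or G is a 2-Frobenius group (there are normal subgroups H < K of G with K a Frobenius group with kernel H and G/H a Frobenius group with kernel K/H); or G has normal subgroups N ≤ M such that every prime divisor of |N| and of |G/M| lies in π₁ and M/N is a non-abelian simple group. -/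
theorem result {G : Type*} [Group G] [Finite G] (heven : Even (Nat.card G))
    (hdisc : (∃ A : Set ℕ, (∃ a ∈ A, a.Prime ∧ a ∣ Nat.card G) ∧ (∃ b ∉ A, b.Prime ∧ b ∣ Nat.card G) ∧
      ∀ a ∈ A, ∀ b ∉ A, a.Prime → b.Prime → a ∣ Nat.card G → b ∣ Nat.card G → ¬ ∃ g : G, orderOf g = a * b)) :
    (∃ C : Subgroup G, Cfsg.IsFrobeniusComplement C) ∨
    (∃ (H K : Subgroup G) (_ : H.Normal), K.Normal ∧ H < K ∧
      (∃ C : Subgroup ↥K, Cfsg.IsFrobeniusComplement C ∧ Cfsg.frobeniusKernel C = (H.subgroupOf K : Set ↥K)) ∧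
      (∃ C : Subgroup (G ⧸ H), Cfsg.IsFrobeniusComplement C ∧ Cfsg.frobeniusKernel C = (K.map (QuotientGroup.mk' H) : Set (G ⧸ H)))) ∨
    (∃ (N M : Subgroup G) (_ : N.Normal) (_ : M.Normal), N ≤ M ∧
      (∀ p : ℕ, p.Prime → p ∣ Nat.card ↥N → Relation.ReflTransGen (fun a b : ℕ => a.Prime ∧ b.Prime ∧ a ≠ b ∧ a ∣ Nat.card G ∧ b ∣ Nat.card G ∧ ∃ g : G, orderOf g = a * b) 2 p) ∧
      (∀ p : ℕ, p.Prime → p ∣ Nat.card (G ⧸ M) → Relation.ReflTransGen (fun a b : ℕ => a.Prime ∧ b.Prime ∧ a ≠ b ∧ a ∣ Nat.card G ∧ b ∣ Nat.card G ∧ ∃ g : G, orderOf g = a * b) 2 p) ∧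
      IsSimpleGroup (↥M ⧸ N.subgroupOf M) ∧ ¬ IsMulCommutative (↥M ⧸ N.subgroupOf M)) := by
  by_cases hG : Group.IsSolvable G
  · exact (S3857.result hG hdisc).imp_right Or.inl
  obtain ⟨A, ⟨a, ha, hap, had⟩, ⟨b, hb, hbp, hbd⟩, h⟩ := hdisc
  let π : Set ℕ := {p | Relation.ReflTransGen (fun a b : ℕ => a.Prime ∧ b.Prime ∧ a ≠ b ∧
    a ∣ Nat.card G ∧ b ∣ Nat.card G ∧ ∃ g : G, orderOf g = a * b) 2 p}
  have hD : Disc π G := fun a ha b hb hap hbp g hg => by
    have h1 := hg.trans (orderOf_dvd_natCard g)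
    refine hb (Relation.ReflTransGen.tail ha ⟨hap, hbp, fun e => hb (e ▸ ha),
      dvd_of_mul_right_dvd h1, dvd_of_mul_left_dvd h1, g ^ (orderOf g / (a * b)), ?_⟩)
    rw [orderOf_pow_orderOf_div (orderOf_pos g).ne' hg]
  have hA : ∀ p ∈ π, (p ∈ A ↔ 2 ∈ A) := fun p hp => by
    induction hp with
    | refl => rfl
    | tail _ h1 ih =>
      obtain ⟨h2, h3, -, h4, h5, g, hg⟩ := h1
      rw [← ih]
      exact ⟨fun h6 => by_contra fun h7 => h _ h6 _ h7 h3 h2 h5 h4 ⟨g, by rw [hg, mul_comm]⟩,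
        fun h6 => by_contra fun h7 => h _ h6 _ h7 h2 h3 h4 h5 ⟨g, hg⟩⟩
  exact main hD Relation.ReflTransGen.refl
    (fun e => hb ((hA b (e b hbp hbd)).2 ((hA a (e a hap had)).1 ha))) hG

end Cfsg.Agent.S3856
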