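import Cfsg.Statements.S3859
import Cfsg.Agent.H80.Misc

set_option autoImplicit false
open Cfsg

namespace Cfsg.Agent.S3859

open Subgroup

theorem normalizer_ne_top {G : Type*} [Group G] [Finite G] (T : Subgroup G) [T.Normal] (hT : IsSimpleGroup T)
    (hna : ¬ IsMulCommutative T) {r : ℕ} [Fact r.Prime] (R : Sylow r G) (hR0 : (R : Subgroup G) ⊓ T ≠ ⊥) :
    normalizer (((R : Subgroup G) ⊓ T : Subgroup G) : Set G) ≠ ⊤ := by
  intro h
  have hn : ((R : Subgroup G) ⊓ T).Normal := normalizer_eq_top_iff.1 h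
  rcases (hn.subgroupOf T).eq_bot_or_eq_top with h1 | h1
  · rw [subgroupOf_eq_bot, disjoint_iff, inf_assoc, inf_idem] at h1
    exact hR0 h1
  · rw [subgroupOf_eq_top, le_inf_iff] at h1
    exact hna (H80.comm_of_isSimpleGroup_of_isPGroup (R.isPGroup'.to_le h1.1))

theorem normalizer_le {G : Type*} [Group G] (T R : Subgroup G) [T.Normal] :
    normalizer (R : Set G) ≤ normalizer ((R ⊓ T : Subgroup G) : Set G) := by
  refine le_trans ?_ (inf_normalizer_le_normalizer_inf)
  rw [normalizer_eq_top T, inf_top_eq]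

/-- Let G be a finite group with a normal non-abelian simple subgroup T whose centralizer is trivial (G almost simple with socle T), r a prime and R a Sylow r-subgroup of G meeting T nontrivially. If R lies in exactly one maximal subgroup of G, then G/T is an r-group. -/
theorem result {G : Type*} [Group G] [Finite G] (T : Subgroup G) [T.Normal] (hT : IsSimpleGroup T) (hna : ¬ IsMulCommutative T)
    (hC : Subgroup.centralizer (T : Set G) = ⊥) {r : ℕ} [Fact r.Prime] (R : Sylow r G) (hR0 : (R : Subgroup G) ⊓ T ≠ ⊥)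
    (huniq : ∃! M : Subgroup G, IsCoatom M ∧ (R : Subgroup G) ≤ M) : IsPGroup r (G ⧸ T) := by
  obtain ⟨M, ⟨hM, hRM⟩, hu⟩ := huniq
  have key : ∀ K : Subgroup G, (R : Subgroup G) ≤ K → K ≠ ⊤ → K ≤ M := by
    intro K hK hK1
    obtain ⟨M', hM', hKM⟩ := (eq_top_or_exists_le_coatom K).resolve_left hK1
    rwa [hu M' ⟨hM', hK.trans hKM⟩] at hKM
  have h1 : (R : Subgroup G) ⊔ T = ⊤ := by
    by_contra h
    have h2 : T ≤ M := le_sup_right.trans (key _ le_sup_left h)
    have h3 := key _ (le_normalizer.trans (normalizer_le T R)) (normalizer_ne_top T hT hna R hR0)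
    apply hM.1
    rw [eq_top_iff]
    intro g _
    have hS : H4.IsSylowIn r ((R : Subgroup G) ⊓ T) T :=
      (H4.isSylowIn_top R).inf_of_normalizes le_top (by rw [normalizer_eq_top T])
    obtain ⟨n, hn, hng⟩ := hS.frattini (g := g) (by rw [normalizer_eq_top T]; trivial)
    exact (mul_mem_cancel_left (h2 hn)).1 (h3 hng)
  have h2 : (R : Subgroup G).map (QuotientGroup.mk' T) = ⊤ := by
    have := congrArg (Subgroup.map (QuotientGroup.mk' T)) h1
    rwa [Subgroup.map_sup, QuotientGroup.map_mk'_self, sup_bot_eq,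
      map_top_of_surjective _ (QuotientGroup.mk'_surjective T)] at this
  have h3 := R.isPGroup'.map (QuotientGroup.mk' T)
  rw [h2] at h3
  exact h3.of_equiv topEquiv

end Cfsg.Agent.S3859
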