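import Cfsg.Statements.S3865
import Cfsg.Agent.H59.MaxFus

set_option autoImplicit false
open Cfsg

namespace Cfsg.Agent.S3865

open Subgroup Cfsg.Agent.H62 Cfsg.Agent.H49 Cfsg.Agent.H59.MF

/-- Let G be a finite group whose Sylow p-subgroup P has order p ^ n with n ≥ 2 and nilpotency class n - 1 (maximal class), whose largest normal subgroup of order prime to p is trivial, and which has no proper normal subgroup of index prime to p. Then either some x ∈ P has a centralizer in G whose order has p-part p ^ 2, or G is quasisimple with centre of order at most p. -/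
theorem result {G : Type*} [Group G] [Finite G] (p : ℕ) [Fact p.Prime] (P : Sylow p G) (n : ℕ) (hP : Nat.card P = p ^ n) (hn : 2 ≤ n) (hmax : Group.nilpotencyClass ↥(P : Subgroup G) = n - 1) (hcore : Cfsg.pPrimeCore p G = ⊥) (hres : ∀ N : Subgroup G, N.Normal → (N.index).Coprime p → N = ⊤) : (∃ x ∈ (P : Subgroup G), (Nat.card (Subgroup.centralizer ({x} : Set G))).factorization p = 2) ∨ (Cfsg.IsQuasisimple G ∧ Nat.card (Subgroup.center G) ≤ p) := by
  have hp : p.Prime := Fact.out
  have hS := sylowOf_top hp P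
  rcases hn.eq_or_lt with rfl | h3
  · refine Or.inl ⟨1, one_mem _, ?_⟩
    have : centralizer ({1} : Set G) = ⊤ := eq_top_iff.2 fun y _ => mem_cent1.2 (by simp)
    rw [this, card_top, P.card_eq_multiplicity] at *
    exact Nat.pow_right_injective hp.two_le hP
  have h := mc_of_class hP h3 hmax
  refine or_iff_not_imp_left.2 fun hx => ?_
  have top : ∀ E : Subgroup G, E.Normal → (P : Subgroup G) ≤ E → E = ⊤ := fun E hE hle =>
    hres E hE ((hp.coprime_iff_not_dvd.2 fun hd => P.not_dvd_index (hd.trans (index_dvd_of_le hle))).symm)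
  have core : ∀ E : Subgroup G, E.Normal → piCoreOf {p}ᶜ E = ⊥ := fun E hE => eq_bot_iff.2
    ((piCoreOf_le_of_normal _ le_top (normal_iff_top_le_norm.1 hE)).trans
      ((pPrimeCore_eq_piCoreOf_top hp).symm.trans hcore).le)
  have big : ∀ E : Subgroup G, E.Normal → p ^ 2 ≤ Nat.card ↥(E ⊓ P) → E = ⊤ := fun E hE hc =>
    top E hE (by_contra fun hle => hx (fact_cent P h E hc hle))
  have small : ∀ E : Subgroup G, E.Normal → E ≠ ⊤ → E ≤ center G ∧ Nat.card E ≤ p := by
    intro E hE hne
    obtain ⟨k, hk⟩ := (isPiNat_singleton hp (card_pos' _).ne').1 (sylow_inf P E).pi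
    rcases k with _ | _ | k
    · have e := piCoreOf_eq_self (card_eq_one.1 hk ▸ sylow_inf P E).compl_of_eq_bot
      rw [← e, core E hE, card_bot]
      exact ⟨bot_le, hp.one_le⟩
    swap
    · exact (hne (big E hE (hk ▸ Nat.pow_le_pow_right hp.pos (by omega)))).elim
    rw [zero_add, pow_one] at hk
    have b := (burnside hp (sylow_inf P E) (norm_le_cent P h E hk)).isProd.sup_eq
    rw [core E hE, bot_sup_eq] at b
    obtain ⟨h1, -⟩ := small_normal h (E.subgroupOf P) (by rwa [card_subgroupOf])
    have c1 : (P : Subgroup G) ≤ 𝒞(E) := fun v hv r hr => (congrArg Subtype.val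
      (mem_center_iff.1 (h1 (x := ⟨r, (b.ge hr).2⟩) hr) ⟨v, hv⟩)).symm
    have c2 := top 𝒞(E) inferInstance c1
    exact ⟨fun r hr => mem_center_iff.2 fun g => ((c2.ge (mem_top g)) r hr).symm, (b ▸ hk).le⟩
  have hZ : center G ≠ ⊤ := fun e => h.ne_bot (eq_bot_iff.2 ((LL_anti (show 1 ≤ n - 2 by omega)).trans
    (commutator_le.2 fun a _ b _ => mem_bot.2 (commutatorElement_eq_one_iff_mul_comm.2
      (Subtype.ext (mem_center_iff.1 (e.ge (mem_top (b : G))) a))))))
  refine ⟨⟨⟨by_contra fun hc => ?_⟩, ?_⟩, (small _ inferInstance hZ).2⟩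
  · obtain ⟨c1, c2⟩ := small _ inferInstance hc
    obtain ⟨T, hT⟩ := Sylow.exists_subgroup_card_pow_prime_of_le_card hp P.isPGroup'
      (n := 2) (hP ▸ Nat.pow_le_pow_right hp.pos h3.le)
    have hT' : Nat.card (T.map (P : Subgroup G).subtype) = p ^ 2 := by rw [card_subtype, hT]
    have e := big (_root_.commutator G ⊔ T.map (P : Subgroup G).subtype)
      (Normal.of_commutator_le G le_sup_left)
      (hT' ▸ card_le_of_le (le_inf le_sup_right (map_subtype_le T)))
    have e2 : ⊤ ≤ 𝒞(T.map (P : Subgroup G).subtype) := e ▸ sup_le (c1.trans (center_le_centralizer _))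
      (abelian_iff.1 (IsPGroup.isMulCommutative_of_card_eq_prime_sq hT'))
    refine hZ (eq_top_iff.2 (e ▸ sup_le c1 fun t ht => mem_center_iff.2 fun g => ?_))
    exact (e2 (mem_top g) t ht).symm
  · haveI : Nontrivial (G ⧸ center G) := QuotientGroup.nontrivial_iff.2 hZ
    refine ⟨fun N hN => ?_⟩
    by_cases e : N.comap (QuotientGroup.mk' (center G)) = ⊤
    · exact Or.inr (comap_injective (QuotientGroup.mk'_surjective _) (e.trans (comap_top _).symm))
    · refine Or.inl (eq_bot_iff.2 fun x hx => ?_)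
      obtain ⟨g, rfl⟩ := QuotientGroup.mk'_surjective _ x
      exact (QuotientGroup.eq_one_iff g).2 ((small _ (hN.comap _) e).1 hx)

end Cfsg.Agent.S3865
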