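import Cfsg.Statements.S3869
import Cfsg.Agent.H80.IrrDim
import Cfsg.Agent.H80.Misc
import Cfsg.Agent.H4.SCN
import Cfsg.Agent.H23.Basic
import Cfsg.Agent.H3.PComplement
import Cfsg.Agent.H2.Basic

set_option autoImplicit false
open Cfsg

namespace Cfsg.Agent.S3869

open Subgroup
open scoped commutatorElement

theorem isPClosed_of_isPGroup {G : Type*} [Group G] {p : ℕ} (h : IsPGroup p G) : Cfsg.IsPClosed p G := by
  intro P
  rw [← P.is_maximal' (h.to_subgroup ⊤) le_top]
  infer_instance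

theorem isPClosed_of_not_dvd {G : Type*} [Group G] [Finite G] {p : ℕ} [Fact p.Prime] (h : ¬ p ∣ Nat.card G) :
    Cfsg.IsPClosed p G := by
  intro P
  by_cases h1 : (P : Subgroup G) = ⊥
  · rw [h1]; infer_instance
  · exact absurd ((P.isPGroup'.card_eq_or_dvd.resolve_left (mt card_eq_one.1 h1)).trans
      (card_subgroup_dvd_card _)) h

theorem sup_eq_top {G : Type*} [Group G] [Finite G] {p : ℕ} (hp : p.Prime) {A H : Subgroup G} (hidx : A.index = p)
    (h : ¬ H ≤ A) : A ⊔ H = ⊤ :=
  (H3.isCoatom_of_index_prime (hidx ▸ hp)).2 _ (left_lt_sup.2 h)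

/-- Let p and q be distinct primes and G a finite non-abelian group with a normal elementary abelian q-subgroup A that is a minimal normal subgroup of G and has index p. Then A has order q^e with e the multiplicative order of q modulo p, and G is minimal non-p-closed: its Sylow p-subgroups are not normal, while in every proper subgroup and in every proper quotient of G the Sylow p-subgroups are normal. -/
theorem result {G : Type*} [Group G] [Finite G] {p q : ℕ} [Fact p.Prime] (hq : q.Prime) (hpq : q ≠ p)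
    (hna : ¬ IsMulCommutative G) (A : Subgroup G) [A.Normal] (hA : Cfsg.IsElementaryAbelian q A) (hidx : A.index = p)
    (hmin : ∀ B : Subgroup G, B.Normal → B ≤ A → B = ⊥ ∨ B = A) :
    Nat.card ↥A = q ^ orderOf (q : ZMod p) ∧ ¬ Cfsg.IsPClosed p G ∧ (∀ H : Subgroup G, H ≠ ⊤ → Cfsg.IsPClosed p ↥H) ∧
      ∀ (N : Subgroup G) [N.Normal], N ≠ ⊥ → Cfsg.IsPClosed p (G ⧸ N) := by
  have hp : p.Prime := Fact.out
  have hnot : ∀ y : G, orderOf y = p → y ∉ A := by
    intro y hy hyA
    have := orderOf_dvd_of_pow_eq_one (hA.2 y hyA)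
    rw [hy, Nat.prime_dvd_prime_iff_eq hp hq] at this
    exact hpq this.symm
  have hcen : ∀ y : G, y ∉ A → y ∉ centralizer (A : Set G) := by
    intro y hy hyc
    have := hA.1
    have h1 := H4.isMulCommutative_sup_zpowers hyc
    rw [sup_eq_top hp hidx (zpowers_le.not.2 hy)] at h1
    exact hna ⟨⟨fun a b => H23.comm_of_mem h1 (mem_top a) (mem_top b)⟩⟩
  have hinv : ∀ y : G, y ∉ A → ∀ W : Subgroup G, W ≤ A → (∀ w ∈ W, y * w * y⁻¹ ∈ W) → W = ⊥ ∨ W = A := by
    intro y hy W hW h
    refine hmin W ?_ hW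
    rw [← normalizer_eq_top_iff, eq_top_iff, ← sup_eq_top hp hidx (zpowers_le.not.2 hy), sup_le_iff]
    refine ⟨fun a ha => H4.mem_normalizer_of_conj_mem fun w hw => ?_,
      zpowers_le.2 (H4.mem_normalizer_of_conj_mem h)⟩
    rwa [H23.comm_of_mem hA.1 ha (hW hw), mul_inv_cancel_right]
  obtain ⟨x, hx⟩ := exists_prime_orderOf_dvd_card' (G := G) p (hidx ▸ A.index_dvd_card)
  have hdisj : ∀ N : Subgroup G, N.Normal → N ≠ ⊥ → A ≤ N := by
    intro N hN hN1
    rcases hmin (N ⊓ A) inferInstance inf_le_right with h | h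
    · exfalso
      obtain ⟨⟨y, hy⟩, hy1⟩ := ne_bot_iff_exists_ne_one.1 hN1
      have hyA : y ∉ A := fun h2 => hy1 (Subtype.ext (mem_bot.1 (h ▸ (⟨hy, h2⟩ : y ∈ N ⊓ A))))
      exact hcen y hyA fun a ha =>
        (commute_of_normal_of_disjoint N A hN inferInstance (disjoint_iff.2 h) y a hy ha).eq.symm
    · exact inf_eq_right.1 h
  have hAq : IsPGroup q A := fun a => ⟨1, Subtype.ext (by simpa using hA.2 a a.2)⟩
  refine ⟨H80.card_of_irreducible hp hq hA.1 hA.2 (x := x) (by rw [normalizer_eq_top]; trivial)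
    (by rw [← hx, pow_orderOf_eq_one]; exact one_mem _) (hcen x (hnot x hx)) (hinv x (hnot x hx)), ?_, ?_, ?_⟩
  · intro h
    obtain ⟨P, hP⟩ := (IsPGroup.of_card (G := zpowers x) (n := 1)
      (by rw [Nat.card_zpowers, hx, pow_one])).exists_le_sylow
    have hx1 : x ≠ 1 := fun e => hnot x hx (e ▸ one_mem _)
    have h1 := hdisj P (h P) (fun e => hx1 (mem_bot.1 (e ▸ hP (mem_zpowers x))))
    have := Fact.mk hq
    have h2 := IsPGroup.disjoint_of_ne p q hpq.symm _ _ P.isPGroup' hAq
    have h3 : A = ⊥ := h2.symm.eq_bot_of_le h1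
    exact hcen x (hnot x hx) fun a ha => by rw [h3] at ha; rw [mem_bot.1 ha]; simp
  · intro H hH
    by_cases h : p ∣ Nat.card H
    · obtain ⟨y, hy⟩ := exists_prime_orderOf_dvd_card' (G := H) p h
      rw [← orderOf_coe] at hy
      rcases hinv y (hnot y hy) (H ⊓ A) inf_le_right (fun w hw => ⟨H.mul_mem (H.mul_mem y.2 hw.1) (H.inv_mem y.2),
        Normal.conj_mem inferInstance _ hw.2 _⟩) with h1 | h1
      · apply isPClosed_of_isPGroup
        have h2 : IsPGroup p (G ⧸ A) := IsPGroup.of_card (n := 1) (by rw [pow_one]; exact hidx)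
        refine h2.of_injective ((QuotientGroup.mk' A).comp H.subtype) ?_
        rw [injective_iff_map_eq_one]
        intro z hz
        exact Subtype.ext (mem_bot.1 (h1 ▸ (⟨z.2, (QuotientGroup.eq_one_iff _).1 hz⟩ : (z : G) ∈ H ⊓ A)))
      · exfalso
        apply hH
        rw [eq_top_iff, ← sup_eq_top hp hidx (zpowers_le.not.2 (hnot y hy)), sup_le_iff]
        exact ⟨inf_eq_right.1 h1, zpowers_le.2 y.2⟩
    · exact isPClosed_of_not_dvd h
  · intro N hN hN1
    apply isPClosed_of_isPGroup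
    obtain ⟨k, -, hk⟩ := (Nat.dvd_prime_pow hp).1
      (show N.index ∣ p ^ 1 by rw [pow_one, ← hidx]; exact index_dvd_of_le (hdisj N hN hN1))
    exact IsPGroup.of_card hk

end Cfsg.Agent.S3869
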