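import Cfsg.Statements.S3868
import Cfsg.Agent.S3869
import Cfsg.Agent.H2.MinNormal
import Cfsg.Agent.H46.PAction
import Cfsg.Agent.H44.Cores

set_option autoImplicit false
open Cfsg

namespace Cfsg.Agent.S3868

open Subgroup
open scoped commutatorElement

theorem core {G : Type*} [Group G] [Finite G] {p : ℕ} [hp : Fact p.Prime] (N : Subgroup G) [N.Normal]
    (hmin : ∀ L : Subgroup G, L.Normal → L ≤ N → L = ⊥ ∨ L = N) (hN : ¬ p ∣ Nat.card N) {x : G}
    (hx : orderOf x = p) (hxc : x ∉ centralizer (N : Set G))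
    (hL : ∀ Q : Subgroup G, Q ≤ N → x ∈ normalizer (Q : Set G) → Q ⊔ zpowers x ≠ ⊤ →
      x ∈ centralizer (Q : Set G)) :
    ∃ q : ℕ, q.Prime ∧ q ≠ p ∧ Nat.card G = p * q ^ orderOf (q : ZMod p) ∧
      ∃ A : Subgroup G, A.Normal ∧ Nat.card ↥A = q ^ orderOf (q : ZMod p) ∧ Cfsg.IsElementaryAbelian q A ∧
        ∀ B : Subgroup G, B.Normal → B ≤ A → B = ⊥ ∨ B = A := by
  have hxp : IsPGroup p (zpowers x) := IsPGroup.of_card (n := 1) (by rw [Nat.card_zpowers, hx, pow_one])
  have hcard : ∀ Q : Subgroup G, Q ≤ N → x ∈ normalizer (Q : Set G) → Q ⊔ zpowers x = ⊤ →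
      Nat.card G = p * Nat.card Q := by
    intro Q hQ hxQ h
    have h1 := H23.card_sup_mul_card_inf (zpowers_le.2 hxQ)
    rw [sup_comm, h, card_top, Nat.card_zpowers, hx, H3.inf_eq_bot_of_isPGroup_of_coprime hxp
      ((Nat.Prime.coprime_iff_not_dvd hp.out).2 (H46.not_dvd_card_of_le hN hQ)).symm, card_bot, mul_one] at h1
    exact h1
  have hxN : x ∈ normalizer (N : Set G) := by rw [normalizer_eq_top]; trivial
  have h1 : Nat.card G = p * Nat.card N := hcard N le_rfl hxN (by_contra fun h => hxc (hL N le_rfl hxN h))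
  have hsol : Group.IsSolvable N := by
    by_contra hs
    apply hxc
    have : N ≤ centralizer {x} := by
      apply H44.le_of_sylow_le
      intro q _ _
      obtain ⟨Q, hQ⟩ := H46.exists_invariant_sylow hxp hN (zpowers_le.2 hxN) q
      refine ⟨Q, ?_⟩
      have h2 := hL _ (map_subtype_le _) (hQ (mem_zpowers x)) (fun h => hs (by
        have h3 := hcard _ (map_subtype_le _) (hQ (mem_zpowers x)) h
        rw [h1] at h3
        have h4 := eq_of_le_of_card_ge (map_subtype_le (Q : Subgroup N))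
          (Nat.eq_of_mul_eq_mul_left hp.out.pos h3).le
        have h5 := Q.isPGroup'.map N.subtype
        rw [h4] at h5
        have := h5.isNilpotent
        infer_instance))
      intro y hy
      exact mem_centralizer_singleton_iff.2 (h2 y hy)
    intro y hy
    exact mem_centralizer_singleton_iff.1 (this hy)
  have hN1 : N ≠ ⊥ := by
    rintro rfl
    exact hxc fun y hy => by rw [mem_bot.1 hy]; simp
  obtain ⟨hc, q, hq, hqN⟩ := H2.minimal_normal_elementary_abelian N hsol hN1 hmin
  have hqp : q ≠ p := by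
    rintro rfl
    exact hN ((H2.isPGroup_of_forall_pow_eq_one hqN).card_eq_or_dvd.resolve_left (mt card_eq_one.1 hN1))
  have hidx : N.index = p := by
    have := N.card_mul_index
    rw [h1, mul_comm p] at this
    exact Nat.eq_of_mul_eq_mul_left Nat.card_pos this
  have h2 := (S3869.result hq hqp (fun h => hxc fun y _ => h.is_comm.comm y x) N ⟨hc, hqN⟩ hidx hmin).1
  exact ⟨q, hq, hqp, by rw [h1, h2], N, inferInstance, h2, ⟨hc, hqN⟩, hmin⟩

theorem exists_min {G : Type*} [Group G] [Finite G] [Nontrivial G] (hns : ¬ IsSimpleGroup G) :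
    ∃ N : Subgroup G, N.Normal ∧ N ≠ ⊥ ∧ N ≠ ⊤ ∧ ∀ L : Subgroup G, L.Normal → L ≤ N → L = ⊥ ∨ L = N := by
  obtain ⟨N, h1, h2, h3⟩ := H2.exists_minimal_normal (G := G)
  refine ⟨N, h1, h2, ?_, h3⟩
  rintro rfl
  exact hns ⟨fun L hL => h3 L hL le_top⟩

/-- Structure of the non-simple minimal non-p-closed groups. Call a finite group p-closed when its Sylow p-subgroups are normal, and minimal non-p-closed when it is not p-closed but every proper subgroup and every proper quotient is. If such a group G is not simple, then there is a prime q ≠ p such that G has order p · q^e, where e is the multiplicative order of q modulo p, and G has a normal subgroup A of order q^e that is elementary abelian and is a minimal normal subgroup of G (so G is the semidirect product of A by a group of order p acting irreducibly). -/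
theorem result {G : Type*} [Group G] [Finite G] {p : ℕ} [Fact p.Prime]
    (hnc : ¬ Cfsg.IsPClosed p G) (hsub : ∀ H : Subgroup G, H ≠ ⊤ → Cfsg.IsPClosed p ↥H)
    (hquo : ∀ (N : Subgroup G) [N.Normal], N ≠ ⊥ → Cfsg.IsPClosed p (G ⧸ N)) (hns : ¬ IsSimpleGroup G) :
    ∃ q : ℕ, q.Prime ∧ q ≠ p ∧ Nat.card G = p * q ^ orderOf (q : ZMod p) ∧
      ∃ A : Subgroup G, A.Normal ∧ Nat.card ↥A = q ^ orderOf (q : ZMod p) ∧ Cfsg.IsElementaryAbelian q A ∧
        ∀ B : Subgroup G, B.Normal → B ≤ A → B = ⊥ ∨ B = A := by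
  have hp : p.Prime := Fact.out
  have hdvd : p ∣ Nat.card G := by_contra fun h => hnc (S3869.isPClosed_of_not_dvd h)
  obtain ⟨x, hx⟩ := exists_prime_orderOf_dvd_card' (G := G) p hdvd
  have hx1 : x ≠ 1 := by
    rintro rfl
    rw [orderOf_one] at hx
    exact hp.ne_one hx.symm
  have : Nontrivial G := ⟨⟨x, 1, hx1⟩⟩
  obtain ⟨N, hNn, hN1, hN2, hmin⟩ := exists_min hns
  obtain ⟨P, hP⟩ := (IsPGroup.of_card (G := zpowers x) (n := 1)
      (by rw [Nat.card_zpowers, hx, pow_one])).exists_le_sylow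
  have hPn : ¬ (P : Subgroup G).Normal := by
    intro h
    apply hnc
    intro Q
    have := P.unique_of_normal h
    rwa [Subsingleton.elim Q P]
  have hsupn : ∀ (M : Subgroup G) [M.Normal], M ≠ ⊥ → ((P : Subgroup G) ⊔ M).Normal := by
    intro M _ hM
    have := (hquo M hM (P.mapSurjective (QuotientGroup.mk'_surjective M))).comap (QuotientGroup.mk' M)
    rwa [Sylow.coe_mapSurjective, comap_map_eq, QuotientGroup.ker_mk'] at this
  have hK : ∀ (M : Subgroup G) [M.Normal], M ≠ ⊤ → ¬ p ∣ Nat.card M := by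
    intro M _ hM hd
    obtain ⟨S⟩ : Nonempty (Sylow p M) := inferInstance
    have := S.characteristic_of_normal (hsub M hM S)
    have h1 : ((S : Subgroup M).map M.subtype).Normal := inferInstance
    have h2 : (S : Subgroup M).map M.subtype ≠ ⊥ := by
      rw [Ne, map_eq_bot_iff_of_injective _ M.subtype_injective]
      exact S.ne_bot_of_dvd_card hd
    have h3 := hsupn _ h2
    rw [sup_eq_left.2 ((S.isPGroup'.map _).le_sylow_of_normal P)] at h3
    exact hPn h3
  have hxM : ∀ (M : Subgroup G) [M.Normal], x ∈ M → M = ⊤ := by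
    intro M _ hxM
    by_contra h
    exact hK M h (hx ▸ M.orderOf_dvd_natCard hxM)
  refine core N hmin (hK N hN2) hx ?_ ?_
  · intro h
    have h1 := hxM _ h
    have := hsupn N hN1
    have h2 := hxM ((P : Subgroup G) ⊔ N) (mem_sup_left (hP (mem_zpowers x)))
    apply hPn
    rw [← normalizer_eq_top_iff, eq_top_iff, ← h2, sup_le_iff]
    refine ⟨le_normalizer, fun n hn => centralizer_le_normalizer _ fun y _ => ?_⟩
    exact ((h1 ▸ mem_top y : y ∈ centralizer (N : Set G)) n hn).symm
  · intro Q hQ hxQ h y hy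
    obtain ⟨S, hS⟩ := (IsPGroup.of_card (G := zpowers (⟨x, mem_sup_right (mem_zpowers x)⟩ : ↥(Q ⊔ zpowers x))) (n := 1)
      (by rw [Nat.card_zpowers, orderOf_mk, hx, pow_one])).exists_le_sylow
    have hSn := hsub _ h S
    have h1 := mul_mem (hSn.conj_mem _ (hS (mem_zpowers _)) ⟨y, mem_sup_left hy⟩) (inv_mem (hS (mem_zpowers _)))
    have h2 : y * x * y⁻¹ * x⁻¹ ∈ (S : Subgroup ↥(Q ⊔ zpowers x)).map (Q ⊔ zpowers x).subtype ⊓ N := by
      refine ⟨⟨_, h1, rfl⟩, ?_⟩
      rw [mul_assoc, mul_assoc, ← mul_assoc x]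
      exact N.mul_mem (hQ hy) (hNn.conj_mem _ (N.inv_mem (hQ hy)) x)
    rw [H3.inf_eq_bot_of_isPGroup_of_coprime (S.isPGroup'.map _)
      ((Nat.Prime.coprime_iff_not_dvd hp).2 (hK N hN2)).symm, mem_bot, mul_inv_eq_one, mul_inv_eq_iff_eq_mul] at h2
    exact h2

end Cfsg.Agent.S3868
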