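import Cfsg.Statements.S3870
import Cfsg.Agent.H4.Basic

set_option autoImplicit false
open Cfsg

namespace Cfsg.Agent.S3870

open Subgroup

/-- Let G be a finite simple group whose Sylow p-subgroups are not normal but such that every proper subgroup of G has a normal Sylow p-subgroup. Then any two distinct Sylow p-subgroups of G intersect trivially, and for every Sylow p-subgroup P the normalizer of every non-identity subgroup of P lies in the normalizer of P. -/
theorem result {G : Type*} [Group G] [Finite G] [IsSimpleGroup G] {p : ℕ} [Fact p.Prime]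
    (hnc : ¬ Cfsg.IsPClosed p G) (hsub : ∀ H : Subgroup G, H ≠ ⊤ → Cfsg.IsPClosed p ↥H) :
    (∀ P Q : Sylow p G, P ≠ Q → (P : Subgroup G) ⊓ (Q : Subgroup G) = ⊥) ∧
      ∀ (P : Sylow p G) (R : Subgroup G), R ≤ P → R ≠ ⊥ →
        Subgroup.normalizer (R : Set G) ≤ Subgroup.normalizer ((P : Subgroup G) : Set G) := by
  have h1 : ∀ P Q : Sylow p G, P ≠ Q → (P : Subgroup G) ⊓ (Q : Subgroup G) = ⊥ := by
    have key : ∀ D : Subgroup G, D ≠ ⊥ → ∀ P Q : Sylow p G, D ≤ P → D ≤ Q → P = Q := by
      intro D
      induction D using WellFoundedGT.induction with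
      | ind D ih =>
      intro hD P Q hP hQ
      by_contra hPQ
      have hN : normalizer (D : Set G) ≠ ⊤ := by
        intro h
        rcases (normalizer_eq_top_iff.1 h).eq_bot_or_eq_top with h2 | h2
        · exact hD h2
        · apply hnc
          intro R
          have : IsPGroup p (⊤ : Subgroup G) := h2 ▸ P.isPGroup'.to_le hP
          rw [← R.is_maximal' this le_top]
          infer_instance
      have hlt : ∀ P Q : Sylow p G, P ≠ Q → D ≤ P → D ≤ Q → D < (P : Subgroup G) ⊓ normalizer (D : Set G) := by
        intro P Q hPQ hP hQ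
        apply H4.lt_inf_normalizer P.isPGroup'
        refine lt_of_le_of_ne hP fun h => hPQ ?_
        exact Sylow.ext (P.is_maximal' Q.isPGroup' (h ▸ hQ)).symm
      obtain ⟨S⟩ : Nonempty (Sylow p (normalizer (D : Set G))) := inferInstance
      have hS := hsub _ hN S
      obtain ⟨R, hR⟩ := (S.isPGroup'.map (normalizer (D : Set G)).subtype).exists_le_sylow
      have hle : ∀ P : Sylow p G, (P : Subgroup G) ⊓ normalizer (D : Set G) ≤ R := by
        intro P
        refine le_trans ?_ hR
        have h3 : IsPGroup p (((P : Subgroup G) ⊓ normalizer (D : Set G)).subgroupOf (normalizer (D : Set G))) :=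
          (P.isPGroup'.to_le inf_le_left).comap_of_injective _ (subtype_injective _)
        obtain ⟨S', hS'⟩ := h3.exists_le_sylow
        have := S.unique_of_normal hS
        rw [Subsingleton.elim S' S] at hS'
        intro y hy
        exact ⟨⟨y, hy.2⟩, hS' hy, rfl⟩
      have e1 := hlt P Q hPQ hP hQ
      have e2 := hlt Q P (Ne.symm hPQ) hQ hP
      exact hPQ ((ih _ e1 (ne_bot_of_gt e1) P R inf_le_left (hle P)).trans
        (ih _ e2 (ne_bot_of_gt e2) Q R inf_le_left (hle Q)).symm)
    intro P Q hPQ
    by_contra h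
    exact hPQ (key _ h P Q inf_le_left inf_le_right)
  refine ⟨h1, fun P R hRP hR g hg => ?_⟩
  refine Sylow.smul_eq_iff_mem_normalizer.1 ?_
  by_contra h
  apply hR
  rw [eq_bot_iff, ← h1 _ _ h, le_inf_iff, H4.coe_sylow_smul]
  refine ⟨?_, hRP⟩
  rw [← H4.map_conj_eq_iff.2 hg]
  exact map_mono hRP

end Cfsg.Agent.S3870
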