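import Cfsg.Statements.S3873
import Cfsg.Agent.S3868

set_option autoImplicit false
open Cfsg

namespace Cfsg.Agent.S3873

open Subgroup

theorem mul_pow_of {G : Type*} [Group G] {p : ℕ} (h : ∃ H : Subgroup G, (H : Set G) = {g : G | g ^ p = 1})
    {x y : G} (hx : x ^ p = 1) (hy : y ^ p = 1) : (x * y) ^ p = 1 := by
  obtain ⟨H, hH⟩ := h
  have h1 : ∀ g, g ∈ H ↔ g ^ p = 1 := fun g => Set.ext_iff.1 hH g
  exact (h1 _).1 (mul_mem ((h1 x).2 hx) ((h1 y).2 hy))

theorem mul_pow_of' {G : Type*} [Group G] {p : ℕ} {K : Subgroup G}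
    (h : ∃ H : Subgroup K, (H : Set K) = {g : K | g ^ p = 1})
    {x y : G} (hxK : x ∈ K) (hyK : y ∈ K) (hx : x ^ p = 1) (hy : y ^ p = 1) : (x * y) ^ p = 1 :=
  congrArg Subtype.val (mul_pow_of h (x := ⟨x, hxK⟩) (y := ⟨y, hyK⟩) (Subtype.ext hx) (Subtype.ext hy))

theorem exists_pair {G : Type*} [Group G] {p : ℕ} (h : ¬ ∃ H : Subgroup G, (H : Set G) = {g : G | g ^ p = 1}) :
    ∃ x y : G, x ^ p = 1 ∧ y ^ p = 1 ∧ (x * y) ^ p ≠ 1 := by
  by_contra h1
  push Not at h1
  exact h ⟨{ carrier := {g | g ^ p = 1}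
             one_mem' := one_pow p
             mul_mem' := fun ha hb => h1 _ _ ha hb
             inv_mem' := fun ha => by rw [Set.mem_setOf_eq, inv_pow, ha, inv_one] }, rfl⟩

theorem quot_pow {G : Type*} [Group G] {p : ℕ} (N : Subgroup G) [N.Normal]
    (h : ∃ H : Subgroup (G ⧸ N), (H : Set (G ⧸ N)) = {g : G ⧸ N | g ^ p = 1}) {x y : G} (hx : x ^ p = 1)
    (hy : y ^ p = 1) (hxy : closure ({x, y} : Set G) = ⊤) (g : G) : g ^ p ∈ N := by
  obtain ⟨H, hH⟩ := h
  have h1 : ∀ g, g ∈ H ↔ g ^ p = 1 := fun g => Set.ext_iff.1 hH g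
  have h2 : closure ({x, y} : Set G) ≤ H.comap (QuotientGroup.mk' N) := by
    rw [closure_le]
    rintro _ (rfl | rfl) <;> refine (h1 _).2 ?_ <;> rw [← map_pow] <;> simp [*]
  rw [hxy] at h2
  rw [← QuotientGroup.eq_one_iff, QuotientGroup.mk_pow]
  exact (h1 _).1 (h2 (mem_top g))

/-- Say that a finite group is p-exponent closed when its elements of order dividing p form a subgroup. Let G be a finite group that is not p-exponent closed, but all of whose proper subgroups and proper quotients are, and suppose G is neither simple nor a p-group. Then there is a prime q ≠ p such that G has order p · q^e, where e is the multiplicative order of q modulo p, and G has a normal elementary abelian subgroup of order q^e that is a minimal normal subgroup of G. -/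
theorem result {G : Type*} [Group G] [Finite G] {p : ℕ} [Fact p.Prime]
    (hnc : ¬ (∃ H : Subgroup G, (H : Set G) = {g : G | g ^ p = 1})) (hsub : ∀ K : Subgroup G, K ≠ ⊤ → (∃ H : Subgroup ↥K, (H : Set ↥K) = {g : ↥K | g ^ p = 1}))
    (hquo : ∀ (N : Subgroup G) [N.Normal], N ≠ ⊥ → (∃ H : Subgroup (G ⧸ N), (H : Set (G ⧸ N)) = {g : (G ⧸ N) | g ^ p = 1}))
    (hns : ¬ IsSimpleGroup G) (hnp : ¬ IsPGroup p G) :
    ∃ q : ℕ, q.Prime ∧ q ≠ p ∧ Nat.card G = p * q ^ orderOf (q : ZMod p) ∧
      ∃ A : Subgroup G, A.Normal ∧ Nat.card ↥A = q ^ orderOf (q : ZMod p) ∧ Cfsg.IsElementaryAbelian q A ∧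
        ∀ B : Subgroup G, B.Normal → B ≤ A → B = ⊥ ∨ B = A := by
  have hp : p.Prime := Fact.out
  obtain ⟨x, y, hx, hy, hxy⟩ := exists_pair hnc
  have hgen : closure ({x, y} : Set G) = ⊤ := by
    by_contra h
    exact hxy (mul_pow_of' (hsub _ h) (subset_closure (by simp)) (subset_closure (by simp)) hx hy)
  have : Nontrivial G := by
    by_contra h
    rw [not_nontrivial_iff_subsingleton] at h
    exact hxy (Subsingleton.elim _ _)
  obtain ⟨N, hNn, hN1, hN2, hmin⟩ := S3868.exists_min hns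
  have hq := quot_pow N (hquo N hN1) hx hy hgen
  have hN : ¬ p ∣ Nat.card N := by
    intro hd
    let W : Subgroup G :=
      { carrier := {g | g ∈ N ∧ g ^ p = 1}
        one_mem' := ⟨one_mem _, one_pow p⟩
        mul_mem' := fun ha hb => ⟨mul_mem ha.1 hb.1, mul_pow_of' (hsub N hN2) ha.1 hb.1 ha.2 hb.2⟩
        inv_mem' := fun ha => ⟨inv_mem ha.1, by rw [inv_pow, ha.2, inv_one]⟩ }
    have hW : W.Normal := ⟨fun n hn g => ⟨hNn.conj_mem _ hn.1 g, by rw [conj_pow, hn.2]; simp⟩⟩
    rcases hmin W hW (fun g hg => hg.1) with h | h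
    · obtain ⟨z, hz⟩ := exists_prime_orderOf_dvd_card' (G := N) p hd
      have h1 : (z : G) ∈ W := ⟨z.2, by rw [← hz, ← orderOf_coe, pow_orderOf_eq_one]⟩
      rw [h, mem_bot] at h1
      rw [← orderOf_coe, h1, orderOf_one] at hz
      exact hp.ne_one hz.symm
    · apply hnp
      intro g
      refine ⟨2, ?_⟩
      rw [sq, pow_mul]
      exact (h ▸ hq g : g ^ p ∈ W).2
  have hL : ∀ x : G, x ^ p = 1 → ∀ Q : Subgroup G, Q ≤ N → x ∈ normalizer (Q : Set G) → Q ⊔ zpowers x ≠ ⊤ →
      x ∈ centralizer (Q : Set G) := by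
    intro x hx Q hQ _ h z hz
    have hxK : x ∈ Q ⊔ zpowers x := mem_sup_right (mem_zpowers x)
    have hzK : z ∈ Q ⊔ zpowers x := mem_sup_left hz
    have h1 := mul_pow_of' (hsub _ h) (mul_mem (mul_mem hzK hxK) (inv_mem hzK)) (inv_mem hxK)
      (by rw [conj_pow, hx]; simp) (by rw [inv_pow, hx, inv_one])
    have h2 : z * x * z⁻¹ * x⁻¹ ∈ N := by
      rw [mul_assoc, mul_assoc, ← mul_assoc x]
      exact N.mul_mem (hQ hz) (hNn.conj_mem _ (N.inv_mem (hQ hz)) x)
    have h3 : orderOf (z * x * z⁻¹ * x⁻¹) = 1 := by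
      rcases (Nat.dvd_prime hp).1 (orderOf_dvd_of_pow_eq_one h1) with h4 | h4
      · exact h4
      · exact absurd (h4 ▸ N.orderOf_dvd_natCard h2) hN
    rwa [orderOf_eq_one_iff, mul_inv_eq_one, mul_inv_eq_iff_eq_mul] at h3
  have hord : ∀ x : G, x ^ p = 1 → x ∉ centralizer (N : Set G) → orderOf x = p := fun x hx h =>
    orderOf_eq_prime hx (by rintro rfl; exact h (one_mem _))
  by_cases h1 : x ∈ centralizer (N : Set G)
  · by_cases h2 : y ∈ centralizer (N : Set G)
    · exfalso
      have h3 : centralizer (N : Set G) = ⊤ := by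
        rw [eq_top_iff, ← hgen, closure_le]
        rintro _ (rfl | rfl) <;> assumption
      obtain ⟨P⟩ : Nonempty (Sylow p G) := inferInstance
      have h4 : (P : Subgroup G) ⊔ N = ⊤ := by
        rw [eq_top_iff, ← H3.sylow_sup_pResidual P]
        refine sup_le_sup_left (H3.pResidual_le_of_isPGroup_quotient N fun g => ⟨1, ?_⟩) _
        obtain ⟨g, rfl⟩ := QuotientGroup.mk_surjective g
        rw [pow_one, ← QuotientGroup.mk_pow, QuotientGroup.eq_one_iff]
        exact hq g
      have hPn : (P : Subgroup G).Normal := by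
        rw [← normalizer_eq_top_iff, eq_top_iff, ← h4, sup_le_iff]
        refine ⟨le_normalizer, fun n hn => centralizer_le_normalizer _ fun y _ => ?_⟩
        exact ((h3 ▸ mem_top y : y ∈ centralizer (N : Set G)) n hn).symm
      have h5 : ∀ z : G, z ^ p = 1 → z ∈ (P : Subgroup G) := by
        intro z hz
        have h6 : IsPGroup p (zpowers z) := by
          obtain ⟨k, -, hk⟩ := (Nat.dvd_prime_pow hp).1 (show orderOf z ∣ p ^ 1 by
            rw [pow_one]; exact orderOf_dvd_of_pow_eq_one hz)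
          exact IsPGroup.of_card (by rw [Nat.card_zpowers, hk])
        obtain ⟨Q, hQ⟩ := h6.exists_le_sylow
        have := P.unique_of_normal hPn
        rw [Subsingleton.elim Q P] at hQ
        exact hQ (mem_zpowers z)
      have h7 : (P : Subgroup G) = ⊤ := by
        rw [eq_top_iff, ← hgen, closure_le]
        rintro _ (rfl | rfl) <;> exact h5 _ (by assumption)
      have h8 := P.isPGroup'
      rw [h7] at h8
      exact hnp (h8.of_equiv topEquiv)
    · exact S3868.core N hmin hN (hord y hy h2) h2 (hL y hy)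
  · exact S3868.core N hmin hN (hord x hx h1) h1 (hL x hx)

end Cfsg.Agent.S3873
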