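import Cfsg.Statements.S3872
import Cfsg.Agent.S3873
import Cfsg.Agent.H2.FpfCyclic
import Cfsg.Agent.S4209
import Cfsg.Agent.S4225
import Cfsg.Agent.H4.MaxClass
import Cfsg.Agent.H46.NormalFour

set_option autoImplicit false
open Cfsg

namespace Cfsg.Agent.S3872

open Subgroup S3873

/-- Say that a finite group is p-exponent closed when its elements of order dividing p form a subgroup. Let G be a finite p-group that is not p-exponent closed, but all of whose proper subgroups and proper quotients are. Then G is generated by two elements, has nilpotency class at least p, has exponent p², has cyclic center, and has order at least p^(p+1). -/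
theorem result {G : Type*} [Group G] [Finite G] {p : ℕ} [Fact p.Prime] (hG : IsPGroup p G)
    (hnc : ¬ (∃ H : Subgroup G, (H : Set G) = {g : G | g ^ p = 1})) (hsub : ∀ K : Subgroup G, K ≠ ⊤ → (∃ H : Subgroup ↥K, (H : Set ↥K) = {g : ↥K | g ^ p = 1}))
    (hquo : ∀ (N : Subgroup G) [N.Normal], N ≠ ⊥ → (∃ H : Subgroup (G ⧸ N), (H : Set (G ⧸ N)) = {g : (G ⧸ N) | g ^ p = 1})) :
    (∃ x y : G, Subgroup.closure ({x, y} : Set G) = ⊤) ∧ (⊤ : Subgroup G).lowerCentralSeries (p - 1) ≠ ⊥ ∧
      Monoid.exponent G = p ^ 2 ∧ IsCyclic ↥(Subgroup.center G) ∧ p ^ (p + 1) ≤ Nat.card G := by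
  have hp : p.Prime := Fact.out
  obtain ⟨x, y, hx, hy, hxy⟩ := exists_pair hnc
  have hgen : closure ({x, y} : Set G) = ⊤ := by
    by_contra h
    exact hxy (mul_pow_of' (hsub _ h) (subset_closure (by simp)) (subset_closure (by simp)) hx hy)
  have key : ∀ z ∈ center G, z ≠ 1 → ∀ g : G, g ^ p ∈ zpowers z := by
    intro z hz hz1
    have : (zpowers z).Normal := ⟨fun a ha g => by
      rwa [mem_center_iff.1 (zpowers_le.2 hz ha) g, mul_inv_cancel_right]⟩
    exact quot_pow _ (hquo _ (by rwa [Ne, zpowers_eq_bot])) hx hy hgen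
  have hne : ∀ {H : Type _} [Group H] {z : H}, orderOf z = p → z ≠ 1 := by
    rintro H _ _ h rfl
    exact hp.ne_one (h.symm.trans orderOf_one)
  have hcl : (⊤ : Subgroup G).lowerCentralSeries (p - 1) ≠ ⊥ := fun h => by
    obtain ⟨H, -, hH⟩ := S4225.result (S4209.result hG h) 1
    exact hnc ⟨H, by simpa using hH⟩
  have : Nontrivial G := by
    by_contra h
    rw [not_nontrivial_iff_subsingleton] at h
    exact hxy (Subsingleton.elim _ _)
  refine ⟨⟨x, y, hgen⟩, hcl, ?_, ?_, ?_⟩
  · obtain ⟨z, -, hz, hzo⟩ := H3.exists_mem_center_orderOf_eq hG ⊤ top_ne_bot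
    have h1 : Monoid.exponent G ∣ p ^ 2 := Monoid.exponent_dvd_of_forall_pow_eq_one fun g => by
      obtain ⟨k, hk⟩ := key z hz (hne hzo) g
      rw [sq, pow_mul, ← hk, ← zpow_natCast, zpow_comm, zpow_natCast, ← hzo, pow_orderOf_eq_one, one_zpow]
    obtain ⟨k, hk, h2⟩ := (Nat.dvd_prime_pow hp).1 h1
    rcases hk.eq_or_lt with rfl | hk
    · exact h2
    · refine absurd (orderOf_dvd_iff_pow_eq_one.1 ((Monoid.order_dvd_exponent _).trans ?_)) hxy
      rw [h2]
      exact (pow_dvd_pow p (Nat.lt_succ_iff.1 hk)).trans (pow_one p).dvd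
  · refine H46.isCyclic_of_comm_of_unique (hG.to_subgroup _) fun a b ha hb => ?_
    by_cases hb1 : b = 1
    · exact hb1 ▸ one_mem _
    have hb2 := orderOf_eq_prime hb hb1
    rw [← orderOf_coe] at ha hb2
    have h1 := H2.zpowers_eq_of_mem_of_prime (ha ▸ hp) (key a a.2 (hne ha) (x * y)) hxy
    have h2 := H2.zpowers_eq_of_mem_of_prime (hb2 ▸ hp) (key b b.2 (hne hb2) (x * y)) hxy
    obtain ⟨k, hk⟩ : (b : G) ∈ zpowers (a : G) := h1 ▸ h2 ▸ mem_zpowers _
    exact ⟨k, Subtype.ext hk⟩
  · have := hG.isNilpotent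
    rw [Ne, Subgroup.lowerCentralSeries_eq_bot_iff_nilpotencyClass_le] at hcl
    have h2 := H4.pow_le_card_lowerCentralSeries hG (p - 1) 1 (by omega)
    have h3 := H4.sq_le_index_commutator hG fun h => hxy (by
      rw [(show Commute x y from IsMulCommutative.is_comm.comm x y).mul_pow, hx, hy, one_mul])
    have h4 := Nat.mul_le_mul h2 h3
    change _ ≤ Nat.card (commutator G) * _ at h4
    have := hp.one_lt
    rwa [card_mul_index, ← pow_add, show p - 1 + 2 = p + 1 by omega] at h4

end Cfsg.Agent.S3872
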