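import Cfsg.Statements.S3875
import Cfsg.Agent.H35.B43
import Cfsg.Agent.S3868
import Cfsg.Agent.H9.SLBasic
import Mathlib.FieldTheory.Finite.GaloisField
import Mathlib.LinearAlgebra.Projectivization.PSL.PSL2

set_option autoImplicit false
open Cfsg

namespace Cfsg.Agent.S3875

open Subgroup H35

theorem lower (p : ℕ) [hp : Fact p.Prime] (m : ℕ)
    (hleast : ∀ k : ℕ, IsPrimePow k → k % p = 1 → m ≤ k) (n : ℕ) :
    ∀ (H : Type) [Group H] [Finite H], Nat.card H = n → ¬ IsPClosed p H →
      min (p * m) (p * (p ^ 2 - 1) / 2) ≤ n := by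
  induction n using Nat.strong_induction_on with
  | _ n ih =>
  intro H _ _ hn hH
  subst hn
  by_cases hsub : ∀ K : Subgroup H, K ≠ ⊤ → IsPClosed p K
  swap
  · push Not at hsub
    obtain ⟨K, h1, h2⟩ := hsub
    have := (K.card_le_card_group).lt_of_ne (mt (eq_top_of_card_eq K) h1)
    exact (ih _ this K rfl h2).trans this.le
  by_cases hquo : ∀ (N : Subgroup H) [N.Normal], N ≠ ⊥ → IsPClosed p (H ⧸ N)
  swap
  · push Not at hquo
    obtain ⟨N, _, h1, h2⟩ := hquo
    have : Nat.card (H ⧸ N) < Nat.card H := by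
      rw [N.card_eq_card_quotient_mul_card_subgroup]
      exact lt_mul_of_one_lt_right Nat.card_pos (N.one_lt_card_iff_ne_bot.mpr h1)
    exact (ih _ this _ rfl h2).trans this.le
  by_cases hs : IsSimpleGroup H
  swap
  · obtain ⟨q, hq, hqp, h1, -⟩ := S3868.result hH hsub hquo hs
    have h2 : (q : ZMod p) ≠ 0 := fun h =>
      hqp ((Nat.prime_dvd_prime_iff_eq hp.out hq).mp ((ZMod.natCast_eq_zero_iff _ _).mp h)).symm
    rw [h1]
    refine (min_le_left _ _).trans (Nat.mul_le_mul_left p (hleast _ (hq.isPrimePow.pow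
      (ZMod.orderOf_dvd_card_sub_one h2 |> ne_zero_of_dvd_ne_zero (by have := hp.out.two_le; omega)))
      ?_))
    rw [← Nat.mod_eq_of_lt hp.out.one_lt, ← ZMod.natCast_eq_natCast_iff', Nat.cast_pow,
      pow_orderOf_eq_one, Nat.cast_one]
  refine (min_le_right _ _).trans ?_
  by_contra! hlt
  have h1 : Nat.card (Sylow p H) ≠ 1 := fun h => hH fun P =>
    have := (Nat.card_eq_one_iff_unique.mp h).1
    P.normal_of_subsingleton
  have h2 : Nat.card H < p ^ 3 := hlt.trans_le ((Nat.div_le_self _ _).trans (by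
    rw [pow_succ' p 2]; exact Nat.mul_le_mul_left p (Nat.sub_le _ _)))
  obtain ⟨x, hx⟩ := exists_prime_orderOf_dvd_card' (G := H) p (by
    by_contra h
    refine hH fun P => ?_
    obtain ⟨k, hk⟩ := P.isPGroup'.exists_card_eq
    rcases k with _ | k
    · rw [eq_bot_of_card_eq _ hk]; infer_instance
    · exact absurd ((dvd_pow_self p k.succ_ne_zero).trans (hk ▸ card_subgroup_dvd_card _)) h)
  obtain ⟨S, -⟩ := exists_setup hx (not_sq_dvd_of_lt_cube h2 h1)
  obtain ⟨h3, -⟩ := simple_perfect (G := H) fun h => by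
    have := Fact.mk h
    have := isCyclic_of_prime_card (α := H) rfl
    exact hH fun P => Subgroup.normal_of_isMulCommutative _
  obtain ⟨h4, h5⟩ := S.brauer43_core h3 ((Normal.eq_bot_or_eq_top inferInstance).resolve_right
    fun h => Setup.not_dvd_core (G := H) (p := p) (by
      rw [h, card_top, ← hx]; exact orderOf_dvd_natCard x)) (S.not_bForm_of_lt_cube h3 h2)
  have h6 : p ≠ 4 := by rintro rfl; exact absurd hp.out (by norm_num)
  obtain ⟨r, rfl⟩ : ∃ r, p = r + 5 := ⟨p - 5, by omega⟩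
  rw [Nat.lt_div_iff_mul_lt' ?_, show (r + 5) ^ 2 - 1 = (r + 4) * (r + 6) from
    Nat.sub_eq_of_eq_add (by ring)] at hlt
  · rcases h5 with ⟨h, -⟩ | ⟨h, -⟩
    · rw [h, mul_assoc] at hlt
      exact lt_irrefl _ hlt
    · rw [h, show r + 5 - 1 = r + 4 by omega, show r + 5 - 2 = r + 3 by omega] at hlt
      nlinarith [Nat.zero_le (r * r * r), Nat.zero_le (r * r)]
  · rw [← Nat.one_pow 2, Nat.sq_sub_sq, ← mul_assoc]
    exact (Nat.even_mul_succ_self _).two_dvd.mul_right _

theorem exists_affine (p : ℕ) [hp : Fact p.Prime] (m : ℕ) (hm : IsPrimePow m) (hm1 : m % p = 1) :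
    ∃ (H : Type) (_ : Group H) (_ : Finite H), Nat.card H = p * m ∧ ¬ IsPClosed p H := by
  obtain ⟨r, k, hr, hk, rfl⟩ := (isPrimePow_nat_iff _).mp hm
  have := Fact.mk hr
  have hF := GaloisField.card r k hk.ne'
  obtain ⟨ζ, hζ⟩ := exists_prime_orderOf_dvd_card' (G := (GaloisField r k)ˣ) p (by
    rw [Nat.card_units, hF]
    exact (Nat.modEq_iff_dvd' hm.pos).mp (hm1.trans (Nat.mod_eq_of_lt hp.out.one_lt).symm).symm)
  let φ : zpowers ζ →* MulAut (Multiplicative (GaloisField r k)) :=
    ((MulAutMultiplicative _).symm.toMonoidHom.comp (DistribMulAction.toAddAut _ _)).comp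
      (zpowers ζ).subtype
  have hc : Nat.card (Multiplicative (GaloisField r k) ⋊[φ] zpowers ζ) = p * r ^ k := by
    rw [SemidirectProduct.card, Nat.card_zpowers, hζ, mul_comm, ← hF]
    rfl
  have := Nat.finite_of_card_ne_zero (hc ▸ mul_ne_zero hp.out.ne_zero hm.ne_zero)
  refine ⟨_, inferInstance, this, hc, fun h => ?_⟩
  have h1 : orderOf (SemidirectProduct.inr (φ := φ) ⟨ζ, mem_zpowers ζ⟩) = p := by
    rw [orderOf_injective _ SemidirectProduct.inr_injective, ← hζ, orderOf_mk]
  obtain ⟨P, hP⟩ := exists_sylow_eq_zpowers h1 (by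
    rw [hc, pow_two]
    intro h
    have := Nat.eq_zero_of_dvd_of_lt (Nat.dvd_mod_iff dvd_rfl |>.mpr
      (Nat.dvd_of_mul_dvd_mul_left hp.out.pos h)) (Nat.mod_lt _ hp.out.pos)
    omega)
  have h2 := (h P).conj_mem _ (hP ▸ mem_zpowers _) (SemidirectProduct.inl (Multiplicative.ofAdd 1))
  rw [hP] at h2
  obtain ⟨u, hu⟩ := (zpowers_le.mpr (MonoidHom.mem_range.mpr ⟨_, rfl⟩) :
    _ ≤ (SemidirectProduct.inr (φ := φ)).range) h2
  have h3 := congrArg (fun g => g.left.toAdd) hu
  have h4 : (ζ : GaloisField r k) = 1 := by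
    simp only [SemidirectProduct.left_inr, toAdd_one, SemidirectProduct.mul_left,
      SemidirectProduct.left_inl, SemidirectProduct.right_inl, map_one, mul_one, ← map_inv,
      SemidirectProduct.mul_right, SemidirectProduct.right_inr, one_mul] at h3
    change 0 = 1 + (ζ : GaloisField r k) * -1 at h3
    linear_combination h3
  exact hp.out.ne_one (by rw [← hζ, show ζ = 1 from Units.ext h4, orderOf_one])


/-- Let p be an odd prime and let m be the least prime power congruent to 1 modulo p. Then the least order of a finite group whose Sylow p-subgroups are not normal is the smaller of p · m and p(p² − 1)/2: every finite group whose Sylow p-subgroups are not normal has at least that order, and some group of exactly that order has non-normal Sylow p-subgroups. -/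
theorem result (p : ℕ) [Fact p.Prime] (hp : p ≠ 2) (m : ℕ) (hm : IsPrimePow m) (hm1 : m % p = 1)
    (hleast : ∀ k : ℕ, IsPrimePow k → k % p = 1 → m ≤ k) :
    (∀ (H : Type) [Group H] [Finite H], ¬ Cfsg.IsPClosed p H → min (p * m) (p * (p ^ 2 - 1) / 2) ≤ Nat.card H) ∧
      ∃ (H : Type) (_ : Group H) (_ : Finite H), Nat.card H = min (p * m) (p * (p ^ 2 - 1) / 2) ∧ ¬ Cfsg.IsPClosed p H := by
  have hp' : p.Prime := Fact.out
  refine ⟨fun H _ _ h => lower p m hleast _ H rfl h, ?_⟩
  rcases le_or_gt (p * m) (p * (p ^ 2 - 1) / 2) with h | h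
  · rw [min_eq_left h]
    exact exists_affine p m hm hm1
  rw [min_eq_right h.le]
  have h3 : p ≠ 3 := by
    rintro rfl
    have := hleast 4 ⟨2, 2, Nat.prime_two.prime, two_pos, rfl⟩ rfl
    omega
  have h4 := hp'.two_le
  have h5 := H9.gcd_mul_card_psl_two (F := ZMod p)
  rw [ZMod.card, Nat.gcd_eq_left (hp'.even_sub_one hp).two_dvd] at h5
  refine ⟨Matrix.ProjectiveSpecialLinearGroup (Fin 2) (ZMod p), inferInstance, inferInstance,
    by omega, fun hc => ?_⟩
  have : IsSimpleGroup (Matrix.ProjectiveSpecialLinearGroup (Fin 2) (ZMod p)) :=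
    Matrix.ProjectiveSpecialLinearGroup.rank_two_simple (by rw [Nat.card_zmod]; omega)
  obtain ⟨c, hc'⟩ : 2 ∣ p ^ 2 - 1 := (Nat.Odd.sub_odd (hp'.odd_of_ne_two hp).pow odd_one).two_dvd
  rw [hc', mul_left_comm, Nat.mul_right_inj two_ne_zero] at h5
  have h6 : p ^ 2 = 2 * c + 1 := by have := pow_pos hp'.pos 2; omega
  obtain ⟨n, -, rfl, -, h8, -⟩ := simple_prime_sylow h5 (fun h => hp'.not_dvd_one
    ((Nat.dvd_add_right (h.mul_left 2)).mp (h6 ▸ dvd_pow_self p two_ne_zero))) (by
      rintro rfl; nlinarith)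
  obtain ⟨P⟩ : Nonempty (Sylow p (Matrix.ProjectiveSpecialLinearGroup (Fin 2) (ZMod p))) :=
    inferInstance
  have := P.unique_of_normal (hc P)
  exact h8 Nat.card_unique

end Cfsg.Agent.S3875
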