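import Cfsg.Statements.S3884
import Cfsg.Agent.H80.MCPow
import Cfsg.Agent.H2.Basic

set_option autoImplicit false
open Cfsg

namespace Cfsg.Agent.S3884

open Subgroup H80

theorem mem_zpowers_of_coprime {G : Type*} [Group G] [Finite G] {z x : G} {u : ℕ}
    (hu : (orderOf z).Coprime u) (hx : x ∈ zpowers z) : ∃ i : ℕ, z ^ (u * i) = x := by
  have : zpowers (z ^ u) = zpowers z := by
    apply eq_of_le_of_card_ge
    · rw [zpowers_le]; exact pow_mem (mem_zpowers _) _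
    · rw [Nat.card_zpowers, Nat.card_zpowers, hu.orderOf_pow]
  rw [← this] at hx
  obtain ⟨i, hi⟩ := mem_powers_iff_mem_zpowers.2 hx
  exact ⟨i, by rw [pow_mul]; exact hi⟩

theorem dvd_of_pow_mem {G : Type*} [Group G] [Finite G] {a : G} {d x : ℕ} (hd : d ∣ orderOf a)
    (h : a ^ x ∈ zpowers (a ^ d)) : d ∣ x := by
  obtain ⟨i, hi⟩ := mem_powers_iff_mem_zpowers.2 h
  simp only at hi
  rw [← pow_mul, pow_eq_pow_iff_modEq] at hi
  exact ((hi.of_dvd hd).dvd_iff dvd_rfl).1 (Dvd.intro _ rfl)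

theorem geo_prime_pow {p : ℕ} (hp : p.Prime) (hp2 : p ≠ 2) {s : ℕ} (hs : p ∣ s) (v : ℕ) :
    ∃ u : ℕ, geo (1 + s) (p ^ v) = p ^ v * u ∧ ¬ p ∣ u := by
  obtain ⟨u, hu⟩ := (pow_dvd_geo_iff hp hp2 hs v (p ^ v)).2 dvd_rfl
  refine ⟨u, hu, fun h => ?_⟩
  have : p ^ (v + 1) ∣ geo (1 + s) (p ^ v) := by
    rw [hu, pow_succ]; exact Nat.mul_dvd_mul_left _ h
  rw [pow_dvd_geo_iff hp hp2 hs, pow_dvd_pow_iff hp.ne_zero (by simpa using hp.ne_one)] at this
  omega

/-- Let p be an odd prime and G a finite metacyclic p-group (G has a cyclic normal subgroup with cyclic quotient). Then G is the product of two cyclic subgroups with trivial intersection: there are cyclic subgroups A and B with A ∩ B = 1 and |A| · |B| = |G|. -/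
theorem result {G : Type*} [Group G] [Finite G] {p : ℕ} [Fact p.Prime] (hp : p ≠ 2) (hG : IsPGroup p G) (hmc : Cfsg.IsMetacyclic G) : ∃ A B : Subgroup G, IsCyclic ↥A ∧ IsCyclic ↥B ∧ A ⊓ B = ⊥ ∧ Nat.card ↥A * Nat.card ↥B = Nat.card G := by
  obtain ⟨M⟩ := exists_MC hG hmc
  have hpp : p.Prime := Fact.out
  have hN := M.zpowers_a_normal
  obtain ⟨ma, hma⟩ := (IsPGroup.iff_orderOf.1 hG) M.a
  obtain ⟨mb, hmb⟩ := (IsPGroup.iff_orderOf.1 hG) M.b
  obtain ⟨v, h1, h2⟩ := exists_eq_zpowers_pow_prime_pow hma (H := zpowers M.b ⊓ zpowers M.a) inf_le_right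
  obtain ⟨μ, h3, h4⟩ := exists_eq_zpowers_pow_prime_pow hmb (H := zpowers M.b ⊓ zpowers M.a) inf_le_left
  have htop : zpowers M.b ⊔ zpowers M.a = ⊤ := by
    rw [eq_top_iff]
    intro g _
    obtain ⟨i, j, rfl⟩ := M.gen g
    exact mul_mem (mem_sup_right (pow_mem (mem_zpowers _) _)) (mem_sup_left (pow_mem (mem_zpowers _) _))
  have h5 := H2.card_sup_mul_card_inf_of_normal (zpowers M.b) (zpowers M.a)
  rw [htop, card_top, Nat.card_zpowers, Nat.card_zpowers] at h5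
  by_cases hbot : zpowers M.b ⊓ zpowers M.a = ⊥
  · refine ⟨_, _, inferInstance, inferInstance, hbot, ?_⟩
    rw [hbot, card_bot, mul_one] at h5
    rw [h5, Nat.card_zpowers, Nat.card_zpowers]
  have hcop : ∀ (x : G) (u : ℕ), ¬ p ∣ u → (orderOf x).Coprime u := by
    intro x u hu
    obtain ⟨k, hk⟩ := (IsPGroup.iff_orderOf.1 hG) x
    rw [hk]
    exact Nat.Coprime.pow_left _ ((Nat.Prime.coprime_iff_not_dvd hpp).2 hu)
  have hbz : (M.b ^ p ^ μ)⁻¹ ∈ zpowers (M.a ^ p ^ v) := by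
    rw [← h1, h3]; exact inv_mem (mem_zpowers _)
  rcases le_total v μ with hv | hv
  · obtain ⟨d, rfl⟩ := Nat.exists_eq_add_of_le hv
    obtain ⟨u, hu, hpu⟩ := geo_prime_pow hpp hp (M.dvd_mul_br (p ^ d)) v
    obtain ⟨i, hi⟩ := mem_zpowers_of_coprime (hcop _ u hpu) hbz
    have hpi : ¬ p ∣ i := by
      intro h
      have e1 : orderOf ((M.a ^ p ^ v) ^ (u * i)) = orderOf (M.a ^ p ^ v) := by
        rw [hi, orderOf_inv, ← Nat.card_zpowers, ← Nat.card_zpowers, ← h3, ← h1]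
      rw [orderOf_pow] at e1
      have e2 : p ∣ orderOf (M.a ^ p ^ v) := by
        obtain ⟨k, hk⟩ := (IsPGroup.iff_orderOf.1 hG) (M.a ^ p ^ v)
        rcases k with _ | k
        · rw [pow_zero, orderOf_eq_one_iff] at hk
          exact absurd (by rw [h1, hk, zpowers_one_eq_bot]) hbot
        · rw [hk]; exact dvd_pow_self _ (Nat.succ_ne_zero _)
      have e3 : p ∣ Nat.gcd (orderOf (M.a ^ p ^ v)) (u * i) := Nat.dvd_gcd e2 (Dvd.dvd.mul_left h _)
      rcases Nat.div_eq_self.1 e1 with e4 | e4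
      · exact (orderOf_pos _).ne' e4
      · rw [e4] at e3; exact hpp.ne_one (Nat.dvd_one.1 e3)
    set y := M.a ^ i * M.b ^ p ^ d with hy
    have hy1 : y ^ p ^ v = 1 := by
      rw [hy, M.pow_eq, M.r_pow, hu, ← pow_add, add_comm d v, ← eq_inv_iff_mul_eq_one, ← hi, ← pow_mul]
      congr 1; ring
    have hy2 : ∀ k : ℕ, y ^ k ∈ zpowers M.b → p ^ v ∣ k := by
      intro k hk
      rw [hy, M.pow_eq, mul_mem_cancel_right (pow_mem (mem_zpowers _) _)] at hk
      have e1 : M.a ^ (i * geo ((1 + M.s) ^ p ^ d) k) ∈ zpowers (M.a ^ p ^ v) := by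
        rw [← h1]; exact mem_inf.2 ⟨hk, pow_mem (mem_zpowers _) _⟩
      have e2 := dvd_of_pow_mem (Dvd.intro_left _ h2) e1
      rw [M.r_pow, pow_dvd_mul_geo_iff hpp hp (M.dvd_mul_br _)] at e2
      exact (Nat.Coprime.pow_left _ ((Nat.Prime.coprime_iff_not_dvd hpp).2 hpi)).dvd_of_dvd_mul_left e2
    have hy3 : orderOf y = p ^ v :=
      Nat.dvd_antisymm (orderOf_dvd_of_pow_eq_one hy1) (hy2 _ (by rw [pow_orderOf_eq_one]; exact one_mem _))
    refine ⟨zpowers y, zpowers M.b, inferInstance, inferInstance, ?_, ?_⟩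
    · rw [eq_bot_iff]
      intro x hx
      obtain ⟨k, rfl⟩ := mem_powers_iff_mem_zpowers.2 (mem_inf.1 hx).1
      exact mem_bot.2 (orderOf_dvd_iff_pow_eq_one.1 (hy3 ▸ hy2 k (mem_inf.1 hx).2))
    · rw [Nat.card_zpowers, Nat.card_zpowers, hy3]
      rw [← h2] at h5
      apply Nat.eq_of_mul_eq_mul_right (Nat.card_pos (α := ↥(zpowers M.b ⊓ zpowers M.a)))
      rw [h5]; ring
  · obtain ⟨d, rfl⟩ := Nat.exists_eq_add_of_le hv
    obtain ⟨u, hu, hpu⟩ := geo_prime_pow hpp hp M.dvd μ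
    obtain ⟨i, hi⟩ := mem_zpowers_of_coprime (hcop _ u hpu) hbz
    set y := M.a ^ (p ^ d * i) * M.b ^ 1 with hy
    have hy1 : y ^ p ^ μ = 1 := by
      rw [hy, M.pow_eq, pow_one, hu, one_mul, ← eq_inv_iff_mul_eq_one, ← hi, ← pow_mul]
      congr 1; ring
    have hy2 : ∀ k : ℕ, y ^ k ∈ zpowers M.a → p ^ μ ∣ k := by
      intro k hk
      rw [hy, M.pow_eq, mul_mem_cancel_left (pow_mem (mem_zpowers _) _), one_mul] at hk
      have e1 : M.b ^ k ∈ zpowers (M.b ^ p ^ μ) := by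
        rw [← h3]; exact mem_inf.2 ⟨pow_mem (mem_zpowers _) _, hk⟩
      exact dvd_of_pow_mem (Dvd.intro_left _ h4) e1
    have hy3 : orderOf y = p ^ μ :=
      Nat.dvd_antisymm (orderOf_dvd_of_pow_eq_one hy1) (hy2 _ (by rw [pow_orderOf_eq_one]; exact one_mem _))
    refine ⟨zpowers y, zpowers M.a, inferInstance, inferInstance, ?_, ?_⟩
    · rw [eq_bot_iff]
      intro x hx
      obtain ⟨k, rfl⟩ := mem_powers_iff_mem_zpowers.2 (mem_inf.1 hx).1
      exact mem_bot.2 (orderOf_dvd_iff_pow_eq_one.1 (hy3 ▸ hy2 k (mem_inf.1 hx).2))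
    · rw [Nat.card_zpowers, Nat.card_zpowers, hy3]
      rw [← h4] at h5
      apply Nat.eq_of_mul_eq_mul_right (Nat.card_pos (α := ↥(zpowers M.b ⊓ zpowers M.a)))
      rw [h5]; ring

end Cfsg.Agent.S3884
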