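import Cfsg.Statements.S3890
import Cfsg.Agent.H80.Cover

set_option autoImplicit false
open Cfsg

namespace Cfsg.Agent.S3890

open Subgroup

/-- A cover of a group is a finite set of proper subgroups whose union is the whole group; it is minimal when no cover has fewer members, and nilpotent when all its members are nilpotent. Let G be a finite group with trivial center admitting a nilpotent minimal cover 𝓐, and let P be an abelian Sylow p-subgroup of G that is not normal. Then either P is elementary abelian of order greater than p, or P is a Sylow p-subgroup of some member A of 𝓐, the normalizer N of P is a maximal subgroup of G, N meets each of its conjugates by elements outside N in a subgroup of order prime to p, and the centralizer of P equals A. -/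
theorem result {G : Type*} [Group G] [Finite G] (hZ : Subgroup.center G = ⊥) (𝓐 : Finset (Subgroup G))
    (h𝓐 : ((∀ A ∈ 𝓐, A ≠ ⊤) ∧ (∀ g : G, ∃ A ∈ 𝓐, g ∈ A)) ∧ (∀ 𝓑 : Finset (Subgroup G), (∀ A ∈ 𝓑, A ≠ ⊤) ∧ (∀ g : G, ∃ A ∈ 𝓑, g ∈ A) → 𝓐.card ≤ 𝓑.card) ∧ (∀ A ∈ 𝓐, Group.IsNilpotent ↥A)) {p : ℕ} [Fact p.Prime] (P : Sylow p G) (hab : IsMulCommutative ↥(P : Subgroup G))
    (hnn : ¬ (P : Subgroup G).Normal) :
    (Cfsg.IsElementaryAbelian p (P : Subgroup G) ∧ p < Nat.card ↥(P : Subgroup G)) ∨
    (∃ A ∈ 𝓐, (P : Subgroup G) ≤ A ∧ ¬ p ∣ ((P : Subgroup G).subgroupOf A).index ∧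
      IsCoatom (Subgroup.normalizer ((P : Subgroup G) : Set G)) ∧
      (∀ g : G, g ∉ Subgroup.normalizer ((P : Subgroup G) : Set G) →
        ¬ p ∣ Nat.card ↥(Subgroup.normalizer ((P : Subgroup G) : Set G) ⊓
          (Subgroup.normalizer ((P : Subgroup G) : Set G)).map (MulAut.conj g).toMonoidHom)) ∧
      Subgroup.centralizer ((P : Subgroup G) : Set G) = A) := by
  refine (em _).imp_right fun hne => ?_
  obtain ⟨h1, h2, h3⟩ := H80.NilCover.sylow_structure h𝓐 hZ P hab hnn hne
  have hP : (P : Subgroup G) ≤ centralizer ((P : Subgroup G) : Set G) := fun x hx y hy =>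
    congrArg Subtype.val (hab.is_comm.comm (⟨y, hy⟩ : P) ⟨x, hx⟩)
  refine ⟨_, h1, hP, fun h => P.not_dvd_index (h.trans (relIndex_dvd_index_of_le hP)), ⟨?_, fun M hM => ?_⟩,
    fun g hg h => ?_, rfl⟩
  · rwa [Ne, normalizer_eq_top_iff]
  · by_contra h
    exact hM.not_ge (h2 M h ((centralizer_le_normalizer _).trans hM.le))
  · obtain ⟨x, hx⟩ := exists_prime_orderOf_dvd_card' p h
    rw [← orderOf_coe] at hx
    have key : ∀ y ∈ normalizer ((P : Subgroup G) : Set G), y ^ p ^ 1 = 1 → y ∈ P := by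
      intro y hy h1
      have h4 : zpowers y ⊓ normalizer ((P : Subgroup G) : Set G) = zpowers y ⊓ P :=
        (H80.isPGroup_zpowers_of_pow h1).inf_normalizer_sylow P
      exact (h4.le (mem_inf.2 ⟨mem_zpowers y, hy⟩)).2
    have hxp : (x : G) ^ p ^ 1 = 1 := orderOf_dvd_iff_pow_eq_one.1 (by rw [pow_one, hx])
    obtain ⟨y, hy, hyx⟩ := x.2.2
    refine hg (h3 g x (key _ x.2.1 hxp) ⟨y, key y hy ?_, hyx⟩ ?_)
    · rw [← hyx, ← map_pow] at hxp
      exact (MulAut.conj g).injective (hxp.trans (map_one _).symm)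
    · intro e
      rw [e, orderOf_one] at hx
      exact (Fact.out : p.Prime).ne_one hx.symm

end Cfsg.Agent.S3890
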