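import Cfsg.Statements.S3892
import Cfsg.Agent.H80.Cover

set_option autoImplicit false
open Cfsg

namespace Cfsg.Agent.S3892

open Subgroup Equiv H80

theorem exists_fpf {β : Type*} [Fintype β] [DecidableEq β] (h : 4 ≤ Fintype.card β) :
    ∃ g : alternatingGroup β, ∀ x, (g : Perm β) x ≠ x := by
  suffices h1 : ∃ g : Perm β, g.cycleType.sum = Fintype.card β ∧ Even (Fintype.card β + g.cycleType.card) by
    obtain ⟨g, h1, h2⟩ := h1
    refine ⟨⟨g, ?_⟩, fun x => ?_⟩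
    · rw [Perm.mem_alternatingGroup, Perm.sign_of_cycleType, h1, h2.neg_one_pow]
    · rw [Perm.sum_cycleType, Finset.card_eq_iff_eq_univ] at h1
      exact Perm.mem_support.1 (h1 ▸ Finset.mem_univ x)
  rcases Nat.even_or_odd (Fintype.card β) with h1 | h1
  · obtain ⟨g, hg⟩ := (Perm.exists_with_cycleType_iff β (m := {2, Fintype.card β - 2})).2
      ⟨by simp; omega, by simp; omega⟩
    exact ⟨g, by simp [hg]; omega, by simpa [hg] using h1.add even_two⟩
  · obtain ⟨g, hg⟩ := (Perm.exists_with_cycleType_iff β (m := {Fintype.card β})).2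
      ⟨by simp, by simp; omega⟩
    exact ⟨g, by simp [hg], by simpa [hg] using h1.add_one⟩

theorem big {G α : Type*} [Group G] [Fintype α] [DecidableEq α] (φ : G →* Perm α) (ω : α)
    (ψ : alternatingGroup {x // x ≠ ω} →* G) (hψ : ∀ g, φ (ψ g) = Perm.ofSubtype g.1)
    (hα : 6 ≤ Fintype.card α) (hω : stab φ ω ≠ ⊤) (𝓐 : Finset (Subgroup G)) : ¬ NilCover 𝓐 := by
  intro h
  have hc : Fintype.card {x // x ≠ ω} = Fintype.card α - 1 := by simp
  have key : ∀ g : alternatingGroup {x // x ≠ ω}, (∀ x, g.1 x ≠ x) → ∀ ω', φ (ψ g) ω' = ω' ↔ ω' = ω := by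
    intro g hg ω'
    rw [hψ]
    by_cases h1 : ω' = ω
    · simp [h1, Perm.ofSubtype_apply_of_not_mem]
    · rw [Perm.ofSubtype_apply_of_mem (p := fun x => x ≠ ω) _ h1]
      exact ⟨fun e => absurd (Subtype.ext e) (hg ⟨ω', h1⟩), fun e => absurd e h1⟩
  obtain ⟨g, hg⟩ := exists_fpf (β := {x // x ≠ ω}) (by omega)
  obtain ⟨A, hA, -, hA2⟩ := h.exists_mem_fix φ hω (key g hg)
  have hs := alternatingGroup.isSimpleGroup (α := {x // x ≠ ω}) (by rw [Nat.card_eq_fintype_card]; omega)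
  have h1 : normalClosure {g} ≤ A.comap ψ := by
    rw [normalClosure, closure_le]
    intro y hy
    obtain ⟨_, rfl, hy'⟩ := Group.mem_conjugatesOfSet_iff.1 hy
    obtain ⟨c, rfl⟩ := isConj_iff.1 hy'
    refine hA2 _ (key _ fun x e => hg (c.1⁻¹ x) ?_)
    rw [Perm.eq_inv_iff_eq]
    exact e
  have h2 : normalClosure {g} = ⊤ := (hs.eq_bot_or_eq_top_of_normal _ inferInstance).resolve_left (by
    intro e
    have h3 : g ∈ normalClosure {g} := subset_normalClosure rfl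
    rw [e, mem_bot] at h3
    obtain ⟨x⟩ : Nonempty {x // x ≠ ω} := Fintype.card_pos_iff.1 (by omega)
    exact hg x (by rw [h3]; rfl))
  have := h.2.2 A hA
  have h3 : Group.IsNilpotent (alternatingGroup {x // x ≠ ω}) :=
    Subgroup.isNilpotent_of_ker_le_center (ψ.codRestrict A fun y => h1 (h2 ▸ mem_top y)) (by
      intro y hy
      have h4 : ψ y = 1 := congrArg Subtype.val hy
      have h5 := hψ y
      rw [h4, map_one, ← map_one (Perm.ofSubtype (p := fun x => x ≠ ω))] at h5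
      rw [show y = 1 from Subtype.ext (Perm.ofSubtype_injective h5).symm]
      exact one_mem _)
  exact Group.IsNilpotent.center_ne_bot _ (alternatingGroup.center_eq_bot (α := {x // x ≠ ω}) (by
    rw [Nat.card_eq_fintype_card]; omega))

theorem comm_sylow {G : Type*} [Group G] [Finite G] (h : ¬ 3 ^ 2 ∣ Nat.card G) {A : Subgroup G}
    (hA : Group.IsNilpotent A) {x : G} (hx : x ∈ A) (h3 : x ^ 3 = 1) : A ≤ centralizer {x} := by
  obtain ⟨P⟩ : Nonempty (Sylow 3 G) := inferInstance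
  have hP : IsCyclic P := by
    obtain ⟨k, hk⟩ := IsPGroup.iff_card.1 P.isPGroup'
    rcases k with _ | _ | k
    · have := (Nat.card_eq_one_iff_unique.1 hk).1
      infer_instance
    · exact isCyclic_of_prime_card (p := 3) hk
    · exact absurd ((pow_dvd_pow 3 (by omega)).trans (hk ▸ card_subgroup_dvd_card _)) h
  exact fun a ha => mem_centralizer_singleton_iff.2
    (comm_of_nilpotent_of_abelian_sylow P inferInstance hA hx (k := 1) h3 ha)

theorem five_alt (𝓐 : Finset (Subgroup (alternatingGroup (Fin 5)))) : ¬ NilCover 𝓐 := by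
  intro h
  have hω : stab (alternatingGroup (Fin 5)).subtype 4 ≠ ⊤ := by
    intro e
    have : (⟨swap 0 4 * swap 1 2, Perm.mem_alternatingGroup.2 (by decide)⟩ : alternatingGroup (Fin 5)) ∈
      stab (alternatingGroup (Fin 5)).subtype 4 := e ▸ mem_top _
    revert this
    rw [mem_stab]
    decide
  obtain ⟨A, hA, hA1, hA2⟩ := h.exists_mem_fix (alternatingGroup (Fin 5)).subtype hω
    (x := ⟨swap 0 1 * swap 2 3, Perm.mem_alternatingGroup.2 (by decide)⟩) (by decide)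
  obtain ⟨B, hB, hy⟩ := h.1.2 ⟨swap 0 1 * swap 1 2, Perm.mem_alternatingGroup.2 (by decide)⟩
  have h1 := comm_sylow (by rw [nat_card_alternatingGroup]; simp [Nat.factorial]) (h.2.2 B hB) hy (by decide)
  have h2 : ∀ g : Perm (Fin 5), Perm.sign g = 1 → g * (swap 0 1 * swap 1 2) = swap 0 1 * swap 1 2 * g →
    g 4 = 4 := by decide +kernel
  have h3 := h.eq_of_le hA hB hω hA1 fun g hg =>
    h2 g g.2 (congrArg Subtype.val (mem_centralizer_singleton_iff.1 (h1 hg)))
  have h4 := mem_centralizer_singleton_iff.1 (h1 (h3 ▸ hA2 ⟨swap 0 1 * swap 2 3, Perm.mem_alternatingGroup.2 (by decide)⟩ (by decide)))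
  revert h4
  decide

theorem five_sym (𝓐 : Finset (Subgroup (Perm (Fin 5)))) : ¬ NilCover 𝓐 := by
  intro h
  have hω : stab (MonoidHom.id (Perm (Fin 5))) 4 ≠ ⊤ := by
    intro e
    have : swap 0 4 ∈ stab (MonoidHom.id (Perm (Fin 5))) 4 := e ▸ mem_top _
    revert this
    rw [mem_stab]
    decide
  obtain ⟨A, hA, hA1, hA2⟩ := h.exists_mem_fix (MonoidHom.id (Perm (Fin 5))) hω
    (x := swap 0 1 * swap 2 3) (by decide)
  have h1 := comm_sylow (by rw [Nat.card_perm]; simp [Nat.factorial]) (h.2.2 A hA)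
    (mul_mem (hA2 (swap 0 1 * swap 1 2 * swap 2 3) (by decide))
      (hA2 (swap 0 1 * swap 1 3 * swap 3 2) (by decide))) (by decide)
  have h4 := mem_centralizer_singleton_iff.1 (h1 (hA2 (swap 0 1 * swap 2 3) (by decide)))
  revert h4
  decide

theorem four_sym (𝓐 : Finset (Subgroup (Perm (Fin 4)))) : ¬ NilCover 𝓐 := by
  intro h
  obtain ⟨A, hA, hx⟩ := h.1.2 (swap 0 1 * swap 1 2)
  obtain ⟨B, hB, hy⟩ := h.1.2 (swap 0 1 * swap 1 3)
  have h0 : ¬ 3 ^ 2 ∣ Nat.card (Perm (Fin 4)) := by rw [Nat.card_perm]; simp [Nat.factorial]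
  have h1 := comm_sylow h0 (h.2.2 A hA) hx (by decide)
  have h2 := comm_sylow h0 (h.2.2 B hB) hy (by decide)
  have h3 : ∀ g : Perm (Fin 4), g * (swap 0 1 * swap 1 2) = swap 0 1 * swap 1 2 * g → Perm.sign g = 1 := by
    decide +kernel
  have h4 : ∀ g : Perm (Fin 4), g * (swap 0 1 * swap 1 3) = swap 0 1 * swap 1 3 * g → Perm.sign g = 1 := by
    decide +kernel
  have h5 := h.eq_of_le hA hB (M := alternatingGroup (Fin 4)) (by
    intro e
    have : swap 0 1 ∈ alternatingGroup (Fin 4) := e ▸ mem_top _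
    rw [Perm.mem_alternatingGroup] at this
    revert this
    decide) (fun g hg => h3 g (mem_centralizer_singleton_iff.1 (h1 hg)))
    fun g hg => h4 g (mem_centralizer_singleton_iff.1 (h2 hg))
  have h6 := mem_centralizer_singleton_iff.1 (h2 (h5 ▸ hx))
  revert h6
  decide

/-- A cover of a group is a finite set of proper subgroups whose union is the whole group; it is minimal when no cover has fewer members, and nilpotent when all its members are nilpotent. The alternating groups of degree at least 5 and the symmetric groups of degree at least 4 have no nilpotent minimal cover. -/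
theorem result (n : ℕ) :
    (5 ≤ n → ¬ ∃ 𝓐 : Finset (Subgroup ↥(alternatingGroup (Fin n))), ((∀ A ∈ 𝓐, A ≠ ⊤) ∧ (∀ g : ↥(alternatingGroup (Fin n)), ∃ A ∈ 𝓐, g ∈ A)) ∧ (∀ 𝓑 : Finset (Subgroup ↥(alternatingGroup (Fin n))), (∀ A ∈ 𝓑, A ≠ ⊤) ∧ (∀ g : ↥(alternatingGroup (Fin n)), ∃ A ∈ 𝓑, g ∈ A) → 𝓐.card ≤ 𝓑.card) ∧ (∀ A ∈ 𝓐, Group.IsNilpotent ↥A)) ∧
    (4 ≤ n → ¬ ∃ 𝓐 : Finset (Subgroup (Equiv.Perm (Fin n))), ((∀ A ∈ 𝓐, A ≠ ⊤) ∧ (∀ g : (Equiv.Perm (Fin n)), ∃ A ∈ 𝓐, g ∈ A)) ∧ (∀ 𝓑 : Finset (Subgroup (Equiv.Perm (Fin n))), (∀ A ∈ 𝓑, A ≠ ⊤) ∧ (∀ g : (Equiv.Perm (Fin n)), ∃ A ∈ 𝓑, g ∈ A) → 𝓐.card ≤ 𝓑.card) ∧ (∀ A ∈ 𝓐, Group.IsNilpotent ↥A)) := by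
  refine ⟨fun hn ⟨𝓐, h⟩ => ?_, fun hn ⟨𝓐, h⟩ => ?_⟩
  · rcases hn.eq_or_lt with rfl | hn
    · exact five_alt 𝓐 h
    refine big (alternatingGroup (Fin n)).subtype ⟨0, by omega⟩
      ((Perm.ofSubtype.comp (Subgroup.subtype _)).codRestrict _ fun g => ?_) (fun _ => rfl)
      (by rw [Fintype.card_fin]; omega) ?_ 𝓐 h
    · exact (Perm.sign_ofSubtype g.1).trans g.2
    · intro e
      have : (⟨swap ⟨1, by omega⟩ ⟨2, by omega⟩ * swap ⟨0, by omega⟩ ⟨1, by omega⟩, by
        simp [Perm.mem_alternatingGroup, Fin.ext_iff]⟩ : alternatingGroup (Fin n)) ∈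
        stab (alternatingGroup (Fin n)).subtype ⟨0, by omega⟩ := e ▸ mem_top _
      simp [mem_stab] at this
  · rcases hn.eq_or_lt with rfl | hn
    · exact four_sym 𝓐 h
    rcases (Nat.succ_le_of_lt hn).eq_or_lt with rfl | hn
    · exact five_sym 𝓐 h
    refine big (MonoidHom.id (Perm (Fin n))) ⟨0, by omega⟩
      (Perm.ofSubtype.comp (Subgroup.subtype _)) (fun _ => rfl) (by rw [Fintype.card_fin]; omega) ?_ 𝓐 h
    intro e
    have : swap ⟨0, by omega⟩ ⟨1, by omega⟩ ∈ stab (MonoidHom.id (Perm (Fin n))) ⟨0, by omega⟩ :=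
      e ▸ mem_top _
    simp [mem_stab] at this

end Cfsg.Agent.S3892
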