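import Cfsg.Statements.S3893
import Cfsg.Agent.H13.SzPart

set_option autoImplicit false
open Cfsg

namespace Cfsg.Agent.S3893

open Cfsg.Agent.H13
set_option linter.style.haveILetI false

theorem exists_central {G : Type*} [Group G] (A : Subgroup G) (hA : Group.IsNilpotent A) {x : G}
    (hx : x ∈ A) (h1 : x ≠ 1) : ∃ z ∈ A, z ≠ 1 ∧ ∀ y ∈ A, y * z = z * y := by
  haveI : Nontrivial A := ⟨⟨⟨x, hx⟩, 1, fun h => h1 (congrArg Subtype.val h)⟩⟩
  obtain ⟨⟨⟨z, hz⟩, hzc⟩, hz1⟩ := Subgroup.ne_bot_iff_exists_ne_one.1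
    (Group.IsNilpotent.center_ne_bot A)
  refine ⟨z, hz, fun h => hz1 (Subtype.ext (Subtype.ext h)), fun y hy => ?_⟩
  exact congrArg Subtype.val (Subgroup.mem_center_iff.1 hzc ⟨y, hy⟩)

/-- A cover of a group is a finite set of proper subgroups whose union is the whole group; it is minimal when no cover has fewer members, and nilpotent when all its members are nilpotent. The Suzuki groups Sz(q), q = 2^(2m+1) with m ≥ 1, have no nilpotent minimal cover. -/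
theorem result {F : Type*} [Field F] [Fintype F] (m : ℕ) (hm : 1 ≤ m) (hF : Fintype.card F = 2 ^ (2 * m + 1)) :
    ¬ ∃ 𝓐 : Finset (Subgroup ↥(Cfsg.Lie.Sz F (2 ^ (m + 1)))), ((∀ A ∈ 𝓐, A ≠ ⊤) ∧ (∀ g : ↥(Cfsg.Lie.Sz F (2 ^ (m + 1))), ∃ A ∈ 𝓐, g ∈ A)) ∧ (∀ 𝓑 : Finset (Subgroup ↥(Cfsg.Lie.Sz F (2 ^ (m + 1)))), (∀ A ∈ 𝓑, A ≠ ⊤) ∧ (∀ g : ↥(Cfsg.Lie.Sz F (2 ^ (m + 1))), ∃ A ∈ 𝓑, g ∈ A) → 𝓐.card ≤ 𝓑.card) ∧ (∀ A ∈ 𝓐, Group.IsNilpotent ↥A) := by
  classical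
  letI := titsOfCard hF
  have Q := par_of_card hm hF
  set M := lieModel (titsOfCard_θ hF)
  rintro ⟨𝓐, ⟨hne, hcov⟩, hmin, hnil⟩
  obtain ⟨s, hs⟩ := exists_unit_ne_one Q.hy
  have hs1 : M.h s ≠ 1 := by rwa [Ne, M.h_eq_one]
  have hu1 : M.u 0 1 ≠ 1 := by simp [M.u_eq_one]
  obtain ⟨A, hA, huA⟩ := hcov (M.u 0 1)
  obtain ⟨C, hC, hhC⟩ := hcov (M.h s)
  have hAU : A ≤ M.U := by
    obtain ⟨z, hz, hz1, hc⟩ := exists_central A (hnil A hA) huA hu1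
    have hzU := M.mem_U_of_commute (M.u_mem_U 0 1) hu1 (hc _ huA).symm
    exact fun y hy => M.mem_U_of_commute hzU hz1 (hc y hy)
  have hCH : C ≤ M.H := by
    obtain ⟨z, hz, hz1, hc⟩ := exists_central C (hnil C hC) hhC hs1
    have hzH := M.isCC_H.mem (M.h_mem_H s) hs1 (hc _ hhC).symm
    exact fun y hy => M.isCC_H.mem hzH hz1 (hc y hy)
  have hAC : A ≠ C := by
    rintro rfl
    obtain ⟨t, ht⟩ := M.mem_H.1 (hCH huA)
    have := M.u_mul_h_inj (a := 0) (b := 1) (c := 0) (d := 0) (s := 1) (t := t) (by simpa using ht)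
    simp at this
  let f : Subgroup (Cfsg.Lie.Sz F (2 ^ (m + 1))) → Subgroup (Cfsg.Lie.Sz F (2 ^ (m + 1))) :=
    fun K => if K ≤ M.B then M.B else K
  have hle : ∀ K, K ≤ f K := by
    intro K; simp only [f]; split_ifs with h
    exacts [h, le_rfl]
  have h1 := hmin (𝓐.image f) ⟨?_, ?_⟩
  · have h2 : (𝓐.image f).card = 𝓐.card := le_antisymm Finset.card_image_le h1
    rw [Finset.card_image_iff] at h2
    apply hAC
    apply h2 hA hC
    simp only [f, if_pos (hAU.trans M.U_le_B), if_pos (hCH.trans M.H_le_B)]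
  · intro K hK
    obtain ⟨L, hL, rfl⟩ := Finset.mem_image.1 hK
    simp only [f]; split_ifs with h
    exacts [M.B_ne_top, hne L hL]
  · intro g
    obtain ⟨K, hK, hg⟩ := hcov g
    exact ⟨f K, Finset.mem_image_of_mem f hK, hle K hg⟩

end Cfsg.Agent.S3893
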