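import Cfsg.Statements.S3894
import Cfsg.Agent.H80.Cover

set_option autoImplicit false
open Cfsg

namespace Cfsg.Agent.S3894

open Subgroup H80 Matrix Projectivization
open scoped MatrixGroups LinearAlgebra.Projectivization

section
variable {ι F : Type*} [Fintype ι] [DecidableEq ι] [Field F]

theorem smul_eq_iff (γ : GL ι F) {v w : ι → F} (hv : v ≠ 0) (hw : w ≠ 0) :
    γ • Projectivization.mk F v hv = Projectivization.mk F w hw ↔ ∃ c : F, c • w = γ.1 *ᵥ v := by
  rw [smul_mk, mk_eq_mk_iff']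
  rfl

/-- The action of `PGL` on points twisted by an endomorphism of `GL`. -/
def rho (τ : GL ι F →* GL ι F)
    (hτ : ∀ u, ∃ c : F, (τ (GeneralLinearGroup.scalar ι u)).1 = c • 1) :
    PGL(ι, F) →* Equiv.Perm (ℙ F (ι → F)) :=
  ProjGenLinGroup.lift ((MulAction.toPermHom _ _).comp τ) (by
    ext u ω
    induction ω using Projectivization.ind with | h v hv =>
    obtain ⟨c, hc⟩ := hτ u
    exact (smul_eq_iff _ hv hv).2 ⟨c, by
      change _ = (τ (GeneralLinearGroup.scalar ι u)).1 *ᵥ v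
      rw [hc, smul_mulVec, one_mulVec]⟩)

/-- Inverse transpose. -/
def tau : GL ι F →* GL ι F where
  toFun g := ⟨(g⁻¹).1ᵀ, g.1ᵀ, by rw [← transpose_mul]; simp, by rw [← transpose_mul]; simp⟩
  map_one' := Units.ext (by simp)
  map_mul' g h := Units.ext (by simp)

/-- The standard action. -/
def rho1 : PGL(ι, F) →* Equiv.Perm (ℙ F (ι → F)) :=
  rho (MonoidHom.id _) fun u => ⟨u, by simp [scalar_apply, smul_one_eq_diagonal]⟩

/-- The dual action. -/
def rho2 : PGL(ι, F) →* Equiv.Perm (ℙ F (ι → F)) :=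
  rho tau fun u => ⟨(u⁻¹ : Fˣ), by
    change ((GeneralLinearGroup.scalar ι u)⁻¹).1ᵀ = _
    rw [← map_inv]
    generalize u⁻¹ = w
    simp [scalar_apply, smul_one_eq_diagonal]⟩

theorem rho1_fix (γ : GL ι F) {v : ι → F} (hv : v ≠ 0) :
    rho1 (ProjGenLinGroup.mk γ) (Projectivization.mk F v hv) = Projectivization.mk F v hv ↔
      ∃ c : F, c • v = γ.1 *ᵥ v := smul_eq_iff γ hv hv

theorem rho2_fix (γ : GL ι F) {v : ι → F} (hv : v ≠ 0) :
    rho2 (ProjGenLinGroup.mk γ) (Projectivization.mk F v hv) = Projectivization.mk F v hv ↔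
      ∃ c : F, c • v = γ.1ᵀ *ᵥ v := by
  change tau γ • Projectivization.mk F v hv = _ ↔ _
  rw [smul_eq_iff_eq_inv_smul, eq_comm, smul_eq_iff]
  rfl

theorem rho1_sl (s : SpecialLinearGroup ι F) (ω : ℙ F (ι → F)) :
    rho1 (SpecialLinearGroup.toPGL s) ω = s • ω := by
  induction ω using Projectivization.ind with | h v hv => rfl

end

variable {F : Type*} [Field F] {m : ℕ}

/-- The Jordan block. -/
def jord (m : ℕ) (F : Type*) [Field F] : SpecialLinearGroup (Fin (m + 1)) F :=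
  ⟨1 + Matrix.of fun i j : Fin (m + 1) => if (j : ℕ) = i + 1 then (1 : F) else 0, by
    rw [det_of_isUpperTriangular]
    · simp
    · intro i j hij
      have : (j : ℕ) < i := hij
      rw [Matrix.add_apply, one_apply_ne (ne_of_gt this : i ≠ j), of_apply, if_neg (by omega), add_zero]⟩

theorem single_ne (i : Fin (m + 1)) : (Pi.single i 1 : Fin (m + 1) → F) ≠ 0 := by simp

theorem jord_castSucc (v : Fin (m + 1) → F) (i : Fin m) :
    ((jord m F).1 *ᵥ v) i.castSucc = v i.castSucc + v i.succ := by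
  have : ∀ j : Fin (m + 1), ((j : ℕ) = i + 1) = (j = i.succ) := fun j => by simp [Fin.ext_iff]
  simp [jord, mulVec, dotProduct, this, add_mul, Finset.sum_add_distrib, one_apply]

theorem jord_last (v : Fin (m + 1) → F) : ((jord m F).1 *ᵥ v) (Fin.last m) = v (Fin.last m) := by
  have : ∀ j : Fin (m + 1), ((j : ℕ) = m + 1) = False := fun j => by simp [j.2.ne]
  simp [jord, mulVec, dotProduct, this, one_apply]

theorem jordT_succ (v : Fin (m + 1) → F) (i : Fin m) :
    ((jord m F).1ᵀ *ᵥ v) i.succ = v i.succ + v i.castSucc := by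
  have : ∀ j : Fin (m + 1), ((i : ℕ) = j) = (j = i.castSucc) := fun j => by simp [Fin.ext_iff, eq_comm]
  simp [jord, mulVec, dotProduct, this, add_mul, Finset.sum_add_distrib, one_apply]

theorem jordT_zero (v : Fin (m + 1) → F) : ((jord m F).1ᵀ *ᵥ v) 0 = v 0 := by
  simp [jord, mulVec, dotProduct, one_apply]

theorem jord_fix (ω : ℙ F (Fin (m + 1) → F)) :
    rho1 (SpecialLinearGroup.toPGL (jord m F)) ω = ω ↔ ω = Projectivization.mk F _ (single_ne 0) := by
  induction ω using Projectivization.ind with | h v hv =>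
  refine (rho1_fix _ hv).trans ?_
  rw [mk_eq_mk_iff']
  change (∃ c : F, c • v = (jord m F).1 *ᵥ v) ↔ _
  constructor
  · rintro ⟨c, hc⟩
    have h1 : ∀ i : Fin m, c * v i.castSucc = v i.castSucc + v i.succ := fun i =>
      (congrFun hc _).trans (jord_castSucc v i)
    have h2 : c * v (Fin.last m) = v (Fin.last m) := (congrFun hc _).trans (jord_last v)
    by_cases h : c = 1
    · refine ⟨v 0, funext fun i => ?_⟩
      induction i using Fin.cases with
      | zero => simp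
      | succ i => simpa [h, eq_comm] using h1 i
    · refine absurd (funext fun i => ?_) hv
      induction i using Fin.reverseInduction with
      | last => exact (mul_left_eq_self₀.1 h2).resolve_left h
      | cast i ih =>
        have h3 := h1 i
        rw [show v i.succ = 0 from ih, add_zero] at h3
        exact (mul_left_eq_self₀.1 h3).resolve_left h
  · rintro ⟨c, rfl⟩
    refine ⟨1, funext fun i => ?_⟩
    induction i using Fin.reverseInduction with
    | last => rw [jord_last, one_smul]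
    | cast i ih => rw [jord_castSucc, one_smul]; simp

theorem jord_fix2 (ω : ℙ F (Fin (m + 1) → F)) :
    rho2 (SpecialLinearGroup.toPGL (jord m F)) ω = ω ↔
      ω = Projectivization.mk F _ (single_ne (Fin.last m)) := by
  induction ω using Projectivization.ind with | h v hv =>
  refine (rho2_fix _ hv).trans ?_
  rw [mk_eq_mk_iff']
  change (∃ c : F, c • v = (jord m F).1ᵀ *ᵥ v) ↔ _
  constructor
  · rintro ⟨c, hc⟩
    have h1 : ∀ i : Fin m, c * v i.succ = v i.succ + v i.castSucc := fun i =>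
      (congrFun hc _).trans (jordT_succ v i)
    have h2 : c * v 0 = v 0 := (congrFun hc _).trans (jordT_zero v)
    by_cases h : c = 1
    · refine ⟨v (Fin.last m), funext fun i => ?_⟩
      induction i using Fin.lastCases with
      | last => simp
      | cast i => simpa [h, eq_comm, Fin.castSucc_ne_last] using h1 i
    · refine absurd (funext fun i => ?_) hv
      induction i using Fin.induction with
      | zero => exact (mul_left_eq_self₀.1 h2).resolve_left h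
      | succ i ih =>
        have h3 := h1 i
        rw [show v i.castSucc = 0 from ih, add_zero] at h3
        exact (mul_left_eq_self₀.1 h3).resolve_left h
  · rintro ⟨c, rfl⟩
    refine ⟨1, funext fun i => ?_⟩
    induction i using Fin.induction with
    | zero => rw [jordT_zero, one_smul]
    | succ i ih => rw [jordT_succ, one_smul]; simp [Fin.castSucc_ne_last]

theorem stab_ne (G : Subgroup PGL(Fin (m + 2), F)) (hG : ∀ s, SpecialLinearGroup.toPGL s ∈ G)
    (ω : ℙ F (Fin (m + 2) → F)) : stab (rho1.comp G.subtype) ω ≠ ⊤ := by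
  intro e
  have h1 : ∀ ω', ω' = ω := fun ω' => by
    obtain ⟨s, rfl⟩ := MulAction.exists_smul_eq (SpecialLinearGroup (Fin (m + 2)) F) ω ω'
    rw [← rho1_sl]
    exact (e ▸ mem_top _ : (⟨_, hG s⟩ : G) ∈ stab (rho1.comp G.subtype) ω)
  have h2 := (h1 (Projectivization.mk F _ (single_ne 0))).trans (h1 (Projectivization.mk F _ (single_ne 1))).symm
  rw [mk_eq_mk_iff'] at h2
  obtain ⟨c, hc⟩ := h2
  simpa using congrFun hc 0

theorem big (G : Subgroup PGL(Fin (m + 3), F)) (hG : ∀ s, SpecialLinearGroup.toPGL s ∈ G)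
    (𝓐 : Finset (Subgroup G)) : ¬ NilCover 𝓐 := by
  intro h
  have hne : Fin.last (m + 2) ≠ 1 := by simp [Fin.ext_iff]
  let g : G := ⟨_, hG (SpecialLinearGroup.transvection hne 1)⟩
  let x : G := ⟨_, hG (jord (m + 2) F)⟩
  obtain ⟨A, hA, -, hA2⟩ := h.exists_mem_fix (rho1.comp G.subtype) (stab_ne G hG _) (x := x) jord_fix
  have h1 := le_stab_of_nilpotent (rho2.comp G.subtype) (h.2.2 A hA) (hA2 x jord_fix) jord_fix2
  have h2 : (rho1.comp G.subtype) g (Projectivization.mk F _ (single_ne 0)) =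
      Projectivization.mk F _ (single_ne 0) := (rho1_fix _ _).2 ⟨1, by
    change _ = transvection _ _ _ *ᵥ _
    rw [transvection, add_mulVec, single_mulVec, one_mulVec]
    simp⟩
  have h3 := hA2 (g * x * g⁻¹) fun ω => by rw [fix_conj (rho1.comp G.subtype) (x := x) jord_fix, h2]
  have h4 := (fix_conj (rho2.comp G.subtype) (x := x) jord_fix2 g _).1 (h1 h3)
  obtain ⟨c, hc⟩ := (rho2_fix _ _).1 h4.symm
  change _ = (transvection _ _ _)ᵀ *ᵥ _ at hc
  have h5 := congrFun hc 1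
  simp [transvection, hne.symm] at h5

theorem eig_iff (M : Matrix (Fin 2) (Fin 2) F) (c : F) :
    (∃ v ≠ 0, c • v = M *ᵥ v) ↔ c ^ 2 - M.trace * c + M.det = 0 := by
  have h1 : (M - c • 1).det = c ^ 2 - M.trace * c + M.det := by
    simp [det_fin_two, trace_fin_two]; ring
  rw [← h1, ← exists_mulVec_eq_zero_iff]
  simp only [sub_mulVec, smul_mulVec, one_mulVec, sub_eq_zero, eq_comm]

theorem comm_fix {X Z : Matrix (Fin 2) (Fin 2) F} (h : X * Z = Z * X) {c : F} (hZ : Z ≠ c • 1)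
    {v : Fin 2 → F} (hv : v ≠ 0) (hc : c • v = Z *ᵥ v) : ∃ d : F, d • v = X *ᵥ v := by
  have h1 : c • (X *ᵥ v) = Z *ᵥ (X *ᵥ v) := by rw [mulVec_mulVec, ← h, ← mulVec_mulVec, ← hc, mulVec_smul]
  generalize X *ᵥ v = w at h1
  have h2 : v 0 * w 1 = v 1 * w 0 := by
    by_contra h2
    apply hZ
    have a0 := congrFun hc 0
    have a1 := congrFun hc 1
    have b0 := congrFun h1 0
    have b1 := congrFun h1 1
    simp only [mulVec, dotProduct, Fin.sum_univ_two, Pi.smul_apply, smul_eq_mul] at a0 a1 b0 b1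
    have h3 := sub_ne_zero.2 h2
    ext i j
    fin_cases i <;> fin_cases j <;> simp <;> apply mul_left_cancel₀ h3
    · linear_combination v 1 * b0 - w 1 * a0
    · linear_combination w 0 * a0 - v 0 * b0
    · linear_combination v 1 * b1 - w 1 * a1
    · linear_combination w 0 * a1 - v 0 * b1
  by_cases h0 : v 0 = 0
  · have h3 : v 1 ≠ 0 := fun e => hv (by ext i; fin_cases i <;> simp [h0, e])
    refine ⟨w 1 / v 1, ?_⟩
    ext i
    fin_cases i
    · simpa [h0, h3, eq_comm] using h2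
    · simp [h3]
  · refine ⟨w 0 / v 0, ?_⟩
    ext i
    fin_cases i
    · simp [h0]
    · simp; field_simp; linear_combination -h2

theorem exists_eps {X Z : GL (Fin 2) F}
    (h : ProjGenLinGroup.mk X * ProjGenLinGroup.mk Z = ProjGenLinGroup.mk Z * ProjGenLinGroup.mk X) :
    ∃ e : F, e • (X.1 * Z.1) = Z.1 * X.1 := by
  rw [← map_mul, ← map_mul, ProjGenLinGroup.mk_eq_mk_iff] at h
  obtain ⟨u, hu⟩ := h
  refine ⟨u, ?_⟩
  have := congrArg Units.val hu
  simpa [scalar_apply, smul_eq_mul_diagonal] using this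

theorem trace_zero {X Z : GL (Fin 2) F} {e : F} (h : e • (X.1 * Z.1) = Z.1 * X.1) (he : e ≠ 1) :
    X.1.trace = 0 ∧ Z.1.trace = 0 := by
  have h1 := congrArg (fun M => trace (M * (X⁻¹).1)) h
  have h2 := congrArg (fun M => trace ((Z⁻¹).1 * M)) h
  simp only [smul_mul_assoc, mul_smul_comm, trace_smul, smul_eq_mul, Units.mul_inv_cancel_right,
    Units.inv_mul_cancel_left] at h1 h2
  rw [trace_mul_comm, Units.inv_mul_cancel_left] at h1
  rw [trace_mul_comm, Units.mul_inv_cancel_right] at h2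
  exact ⟨(mul_left_eq_self₀.1 h2).resolve_left he, (mul_left_eq_self₀.1 h1).resolve_left he⟩

theorem mk_eq_one_of {Z : GL (Fin 2) F} {c : F} (h : Z.1 = c • 1) : ProjGenLinGroup.mk Z = 1 := by
  rw [ProjGenLinGroup.mk_eq_one, mem_center_iff]
  exact fun g => Units.ext (by simp [h])

theorem upper {X Z : GL (Fin 2) F} (h1 : X.1 1 0 = 0) (h2 : X.1 0 0 = X.1 1 1)
    (h3 : ProjGenLinGroup.mk X ≠ 1)
    (h : ProjGenLinGroup.mk X * ProjGenLinGroup.mk Z = ProjGenLinGroup.mk Z * ProjGenLinGroup.mk X) :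
    Z.1 1 0 = 0 ∧ Z.1 0 0 = Z.1 1 1 := by
  obtain ⟨e, he⟩ := exists_eps h
  have hX := X.det_ne_zero
  have hZ := Z.det_ne_zero
  rw [det_fin_two] at hX hZ
  have h4 : X.1 0 1 ≠ 0 := fun e => h3 (mk_eq_one_of (c := X.1 0 0) (by
    ext i j
    fin_cases i <;> fin_cases j <;> simp [h1, h2, e]))
  have h5 : X.1 1 1 ≠ 0 := fun e => hX (by simp [h1, e])
  have a0 := congrFun (congrFun he 0) 0
  have a1 := congrFun (congrFun he 0) 1
  have a2 := congrFun (congrFun he 1) 0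
  simp only [Matrix.smul_apply, Matrix.mul_apply, Fin.sum_univ_two, smul_eq_mul, h1, h2] at a0 a1 a2
  have h6 : Z.1 1 0 = 0 := by
    by_contra h6
    have h7 : e = 1 := mul_right_cancel₀ (mul_ne_zero h5 h6) (by linear_combination a2)
    exact mul_ne_zero h4 h6 (by rw [h7] at a0; linear_combination a0)
  have h7 : Z.1 0 0 ≠ 0 := fun e => hZ (by simp [h6, e])
  have h8 : e = 1 := mul_right_cancel₀ (mul_ne_zero h5 h7) (by rw [h6] at a0; linear_combination a0)
  exact ⟨h6, mul_right_cancel₀ h4 (by rw [h8] at a1; linear_combination -a1)⟩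

theorem unip {G : Subgroup PGL(Fin 2, F)} (hG : ∀ s, SpecialLinearGroup.toPGL s ∈ G) {A : Subgroup G}
    (hA : Group.IsNilpotent A) (s : SL(2, F))
    (hx : ⟨_, hG s⟩ * ⟨_, hG (jord 1 F)⟩ * (⟨_, hG s⟩ : G)⁻¹ ∈ A) {γ : GL (Fin 2) F}
    {hγ : ProjGenLinGroup.mk γ ∈ G} (h : ⟨_, hγ⟩ ∈ A) : ∃ c : F, γ.1.det = c ^ 2 ∧ γ.1.trace = 2 * c := by
  have hJ : SpecialLinearGroup.toPGL (jord 1 F) ≠ 1 := by
    intro e
    have h1 := (jord_fix (F := F) (Projectivization.mk F _ (single_ne (m := 1) 1))).1 (by rw [e, map_one]; rfl)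
    rw [mk_eq_mk_iff'] at h1
    obtain ⟨c, hc⟩ := h1
    simpa using congrFun hc 1
  obtain ⟨⟨z, hzG⟩, hz, hz1, hc⟩ := exists_central_of_nilpotent A hA hx (by
    rw [Ne, mul_inv_eq_one, mul_eq_left]
    exact fun e => hJ (congrArg Subtype.val e))
  obtain ⟨Z, rfl⟩ := ProjGenLinGroup.mk_surjective z
  let S : GL (Fin 2) F := SpecialLinearGroup.toGL s
  have h1 := upper (X := SpecialLinearGroup.toGL (jord 1 F)) (Z := S⁻¹ * Z * S)
    (show (jord 1 F).1 1 0 = 0 by simp [jord]) (show (jord 1 F).1 0 0 = (jord 1 F).1 1 1 by simp [jord]) hJ (by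
      have h2 : ProjGenLinGroup.mk S * ProjGenLinGroup.mk (SpecialLinearGroup.toGL (jord 1 F)) *
        (ProjGenLinGroup.mk S)⁻¹ * ProjGenLinGroup.mk Z = ProjGenLinGroup.mk Z * (ProjGenLinGroup.mk S *
        ProjGenLinGroup.mk (SpecialLinearGroup.toGL (jord 1 F)) * (ProjGenLinGroup.mk S)⁻¹) :=
        congrArg Subtype.val (hc _ hx)
      simp only [map_mul, map_inv]
      rw [← mul_right_inj (ProjGenLinGroup.mk S), ← mul_left_inj (ProjGenLinGroup.mk S)⁻¹]
      simpa only [mul_assoc, mul_inv_cancel_left, mul_inv_cancel, mul_one] using h2)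
  have h2 := upper (X := S⁻¹ * Z * S) (Z := S⁻¹ * γ * S) h1.1 h1.2 (by
      rw [map_mul, map_mul, map_inv, Ne, mul_assoc, inv_mul_eq_one, eq_comm, mul_eq_right]
      exact fun e => hz1 (Subtype.ext e)) (by
      have h2 : ProjGenLinGroup.mk γ * ProjGenLinGroup.mk Z = ProjGenLinGroup.mk Z * _ :=
        congrArg Subtype.val (hc _ h)
      simp only [map_mul, map_inv, mul_assoc, mul_inv_cancel_left, mul_right_inj]
      rw [← mul_assoc, ← h2, mul_assoc])
  refine ⟨(S⁻¹ * γ * S).1 1 1, ?_, ?_⟩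
  · rw [← det_units_conj' S γ.1, ← Units.val_mul, ← Units.val_mul, det_fin_two, h2.1, h2.2]; ring
  · rw [← trace_units_conj' S γ.1, ← Units.val_mul, ← Units.val_mul, trace_fin_two, h2.2]; ring

theorem small [Fintype F] (hF : 4 ≤ Fintype.card F) (G : Subgroup PGL(Fin 2, F))
    (hG : ∀ s, SpecialLinearGroup.toPGL s ∈ G) (𝓐 : Finset (Subgroup G)) : ¬ NilCover 𝓐 := by
  intro h
  have h1 : ∀ ω, ∃ s : SL(2, F), ∀ ω', (rho1.comp G.subtype)
      (⟨_, hG s⟩ * ⟨_, hG (jord 1 F)⟩ * (⟨_, hG s⟩ : G)⁻¹) ω' = ω' ↔ ω' = ω := fun ω => by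
    obtain ⟨s, rfl⟩ := MulAction.exists_smul_eq SL(2, F) (Projectivization.mk F _ (single_ne (m := 1) 0)) ω
    exact ⟨s, fix_conj (rho1.comp G.subtype) (x := ⟨_, hG (jord 1 F)⟩) jord_fix ⟨_, hG s⟩⟩
  have h2 : ∀ ω, ∃ A ∈ 𝓐, A ≤ stab (rho1.comp G.subtype) ω ∧
      (∀ ω', A ≤ stab (rho1.comp G.subtype) ω' → ω' = ω) ∧ ∀ (γ : GL (Fin 2) F)
      (hγ : ProjGenLinGroup.mk γ ∈ G), ⟨_, hγ⟩ ∈ A → ∃ c : F, γ.1.det = c ^ 2 ∧ γ.1.trace = 2 * c := by
    intro ω
    obtain ⟨s, hs⟩ := h1 ω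
    obtain ⟨A, hA, hA1, hA2⟩ := h.exists_mem_fix _ (stab_ne G hG ω) hs
    exact ⟨A, hA, hA1, fun ω' h' => (hs ω').1 (h' (hA2 _ hs)),
      fun γ hγ h' => unip hG (h.2.2 A hA) s (hA2 _ hs) h'⟩
  have h3 : ∀ g ∈ G, ∃ s, SpecialLinearGroup.toPGL s = g := by
    by_contra hn
    have h4 : (SpecialLinearGroup.toPGL.range).subgroupOf G ≠ ⊤ := by
      rw [Ne, subgroupOf_eq_top]
      exact hn
    have h5 : ∀ A : Subgroup G, (∀ (γ : GL (Fin 2) F) (hγ : ProjGenLinGroup.mk γ ∈ G), ⟨_, hγ⟩ ∈ A →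
        ∃ c : F, γ.1.det = c ^ 2 ∧ γ.1.trace = 2 * c) → A ≤ (SpecialLinearGroup.toPGL.range).subgroupOf G := by
      rintro A hA ⟨g, hg⟩ hgA
      obtain ⟨γ, rfl⟩ := ProjGenLinGroup.mk_surjective g
      obtain ⟨c, hc, -⟩ := hA γ hg hgA
      have hc0 : c ≠ 0 := fun e => γ.det_ne_zero (by simp [hc, e])
      refine ⟨⟨c⁻¹ • γ.1, by simp [hc, hc0]⟩, ProjGenLinGroup.mk_eq_mk_iff.2 ⟨Units.mk0 c hc0, Units.ext ?_⟩⟩
      change c⁻¹ • γ.1 * scalar _ c = γ.1
      simp [scalar_apply, ← smul_eq_mul_diagonal, smul_smul, hc0]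
    obtain ⟨A, hA, hA1, hA2, hA3⟩ := h2 (Projectivization.mk F _ (single_ne (m := 1) 0))
    obtain ⟨B, hB, hB1, -, hB3⟩ := h2 (Projectivization.mk F _ (single_ne (m := 1) 1))
    have h6 := hA2 _ (h.eq_of_le hA hB h4 (h5 A hA3) (h5 B hB3) ▸ hB1)
    rw [mk_eq_mk_iff'] at h6
    obtain ⟨c, hc⟩ := h6
    simpa using congrFun hc 1
  obtain ⟨a, ha0, ha⟩ : ∃ a : F, a ≠ 0 ∧ a ^ 2 ≠ 1 := by
    classical
    by_contra hn
    push Not at hn
    have h4 : (Finset.univ : Finset F) ⊆ {0, 1, -1} := fun a _ => by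
      by_cases h0 : a = 0
      · simp [h0]
      · simp [sq_eq_one_iff.1 (hn a h0)]
    have := (Finset.card_le_card h4).trans Finset.card_le_three
    rw [Finset.card_univ] at this
    omega
  let Y : SL(2, F) := ⟨!![a, 0; 0, a⁻¹], by simp [det_fin_two, ha0]⟩
  have hY : ∀ c : F, Y.1 ≠ c • 1 := fun c e => by
    have e1 := congrFun (congrFun e 0) 0
    have e2 := congrFun (congrFun e 1) 1
    simp [Y] at e1 e2
    exact ha (by rw [sq]; nth_rw 2 [e1]; rw [← e2, mul_inv_cancel₀ ha0])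
  obtain ⟨C, hC, hy⟩ := h.1.2 ⟨_, hG Y⟩
  obtain ⟨⟨z, hzG⟩, hz, hz1, hc⟩ := exists_central_of_nilpotent C (h.2.2 C hC) hy (by
    intro e
    have e1 : ProjGenLinGroup.mk (SpecialLinearGroup.toGL Y) = 1 := congrArg Subtype.val e
    rw [ProjGenLinGroup.mk_eq_one, GeneralLinearGroup.center_eq_range_scalar] at e1
    obtain ⟨u, hu⟩ := e1
    exact hY u (by rw [smul_one_eq_diagonal]; exact (congrArg Units.val hu).symm))
  obtain ⟨Z, rfl⟩ := h3 z hzG
  have hZ : ∀ c : F, Z.1 ≠ c • 1 := fun c e =>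
    hz1 (Subtype.ext (mk_eq_one_of (Z := SpecialLinearGroup.toGL Z) e))
  obtain ⟨d, v, hv, hd⟩ : ∃ d : F, ∃ v ≠ 0, d • v = Z.1 *ᵥ v := by
    obtain ⟨e, he⟩ := exists_eps (X := SpecialLinearGroup.toGL Y) (Z := SpecialLinearGroup.toGL Z)
      (congrArg Subtype.val (hc _ hy))
    by_cases h1 : e = 1
    · rw [h1, one_smul] at he
      obtain ⟨d, hd⟩ := comm_fix he.symm (hY a) (single_ne (m := 1) 0) (by
        change _ = Y.1 *ᵥ _
        ext i; fin_cases i <;> simp [Y])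
      exact ⟨d, _, single_ne 0, hd⟩
    · obtain ⟨h4, h5⟩ := trace_zero he h1
      refine ⟨a, (eig_iff _ _).2 ?_⟩
      change Z.1.trace = 0 at h5
      change Y.1.trace = 0 at h4
      have h6 : a + a⁻¹ = 0 := by simpa [Y] using h4
      rw [h5, Z.2, zero_mul, sub_zero, ← mul_inv_cancel₀ ha0, sq, ← mul_add, h6, mul_zero]
  obtain ⟨ω, hω⟩ := h.exists_le_stab _ (stab_ne G hG) (fun ω => (h1 ω).elim fun s hs => ⟨_, hs⟩) hC (by
    rintro ⟨g, hgG⟩ hg
    obtain ⟨X, rfl⟩ := h3 g hgG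
    suffices h4 : ∃ c : F, ∃ w ≠ 0, c • w = X.1 *ᵥ w by
      obtain ⟨c, w, hw, h4⟩ := h4
      exact ⟨Projectivization.mk F w hw, (rho1_fix _ hw).2 ⟨c, h4⟩⟩
    obtain ⟨e, he⟩ := exists_eps (X := SpecialLinearGroup.toGL X) (Z := SpecialLinearGroup.toGL Z)
      (congrArg Subtype.val (hc _ hg))
    by_cases h1 : e = 1
    · rw [h1, one_smul] at he
      obtain ⟨c, hc⟩ := comm_fix he (hZ d) hv hd
      exact ⟨c, v, hv, hc⟩
    · obtain ⟨h4, h5⟩ := trace_zero he h1
      change X.1.trace = 0 at h4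
      change Z.1.trace = 0 at h5
      have h6 := (eig_iff _ _).1 ⟨v, hv, hd⟩
      refine ⟨d, (eig_iff _ _).2 ?_⟩
      rw [h5, Z.2] at h6
      rwa [h4, X.2])
  obtain ⟨A, hA, hA1, -, hA3⟩ := h2 ω
  obtain ⟨c, h4, h5⟩ := hA3 (SpecialLinearGroup.toGL Y) (hG Y)
    (h.eq_of_le hC hA (stab_ne G hG ω) hω hA1 ▸ hy)
  change Y.1.det = _ at h4
  change Y.1.trace = _ at h5
  rw [Y.2] at h4
  have h6 : a + a⁻¹ = 2 * c := by simpa [Y] using h5
  have h7 : (a ^ 2 - 1) ^ 2 = 0 := by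
    have h8 : a ^ 2 + 1 = 2 * c * a := by rw [← h6]; field_simp
    linear_combination (a ^ 2 + 1 + 2 * c * a) * h8 - 4 * a ^ 2 * h4
  exact ha (sub_eq_zero.1 (pow_eq_zero_iff two_ne_zero |>.1 h7))

/-- A cover of a group is a finite set of proper subgroups whose union is the whole group; it is minimal when no cover has fewer members, and nilpotent when all its members are nilpotent. Let F be a finite field with q elements and n ≥ 3, or n = 2 and q ≥ 4. Then no subgroup of PGL_n(F) = GL_n(F)/Z(GL_n(F)) containing the image of SL_n(F) has a nilpotent minimal cover. -/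
theorem result {F : Type*} [Field F] [Fintype F] (n : ℕ) (hn : 3 ≤ n ∨ (n = 2 ∧ 4 ≤ Fintype.card F))
    (G : Subgroup (GL (Fin n) F ⧸ Subgroup.center (GL (Fin n) F)))
    (hG : ((Matrix.SpecialLinearGroup.toGL : Matrix.SpecialLinearGroup (Fin n) F →* GL (Fin n) F).range).map
      (QuotientGroup.mk' (Subgroup.center (GL (Fin n) F))) ≤ G) :
    ¬ ∃ 𝓐 : Finset (Subgroup ↥G), ((∀ A ∈ 𝓐, A ≠ ⊤) ∧ (∀ g : ↥G, ∃ A ∈ 𝓐, g ∈ A)) ∧ (∀ 𝓑 : Finset (Subgroup ↥G), (∀ A ∈ 𝓑, A ≠ ⊤) ∧ (∀ g : ↥G, ∃ A ∈ 𝓑, g ∈ A) → 𝓐.card ≤ 𝓑.card) ∧ (∀ A ∈ 𝓐, Group.IsNilpotent ↥A) := by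
  rintro ⟨𝓐, h⟩
  rcases hn with hn | ⟨rfl, hF⟩
  · obtain ⟨m, rfl⟩ := Nat.exists_eq_add_of_le' hn
    exact big G (fun s => hG ⟨_, ⟨s, rfl⟩, rfl⟩) 𝓐 h
  · exact small hF G (fun s => hG ⟨_, ⟨s, rfl⟩, rfl⟩) 𝓐 h

end Cfsg.Agent.S3894
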