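import Cfsg.Statements.S3896
import Cfsg.Agent.H19.HalfK3
import Cfsg.Agent.H22.GWGen
import Cfsg.Agent.H21.AbPsl
import Cfsg.Agent.H42.Local

set_option autoImplicit false
open Cfsg

namespace Cfsg.Agent.S3896

open Subgroup Cfsg.Agent.H49 Cfsg.Agent.H19

theorem le_center {G : Type*} [Group G] [Finite G] (P : Sylow 2 G) {g u v : G}
    (h : Half (P : Subgroup G) g u v) {K : Subgroup G} [K.Normal] (hK : K ⊓ pResidual 2 G = ⊥) :
    K ≤ center G := by
  have h1 : IsPGroup 2 K := fun x => by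
    obtain ⟨k, hk⟩ := H3.isPGroup_quotient_pResidual (p := 2) (G := G) ((x : G) : G ⧸ pResidual 2 G)
    rw [← QuotientGroup.mk_pow, QuotientGroup.eq_one_iff] at hk
    exact ⟨k, Subtype.ext (mem_bot.1 (hK ▸ mem_inf.2 ⟨pow_mem x.2 _, hk⟩))⟩
  intro x hx
  have h2 := commute_of_normal_of_disjoint K (pResidual 2 G) inferInstance inferInstance
    (disjoint_iff.2 hK) x g hx (H3.mem_pResidual_of_coprime (Nat.coprime_two_right.2 h.odd))
  exact h.mem_center_of_comm (h1.le_sylow_of_normal P hx) (by rw [← h2.eq, mul_inv_cancel_right])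

theorem solv_case {G : Type*} [Group G] [Finite G] (P : Sylow 2 G) (hO : pPrimeCore 2 G = ⊥)
    {g u v : G} (h : Half (P : Subgroup G) g u v) (h12 : Nat.card (pResidual 2 G) = 12) :
    Nonempty (G ⧸ center G ≃* ↥(alternatingGroup (Fin 4))) ∨
      Nonempty (G ⧸ center G ≃* Equiv.Perm (Fin 4)) := by
  set H := pResidual 2 G with hH
  have hodd : ∀ K : Subgroup G, K ≤ H → H ≤ 𝒩(K) → (Nat.card K).Coprime 2 → K = ⊥ := by
    intro K h1 h2 h3
    have := (le_piCoreOf h1 h2 ((isPi_compl_singleton_iff_coprime Nat.prime_two).2 h3)).trans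
      (piCoreOf_le_of_normal _ le_top (normal_iff_top_le_norm.1 inferInstance))
    rwa [← pPrimeCore_eq_piCoreOf_top Nat.prime_two, hO, le_bot_iff] at this
  obtain ⟨T, hT⟩ := exists_sylowOf 3 H
  have hT3 : Nat.card T = 3 := by
    obtain ⟨k, hk⟩ := hT.pi.exists_card_eq_pow Nat.prime_three
    have h1 := card_mul_relIndex hT.le
    have h2 := ((sylowOf_iff Nat.prime_three).1 hT).2.2
    rw [h12, hk] at h1
    rcases k with _ | _ | k
    · exact absurd ⟨4, by omega⟩ h2
    · exact hk
    · exact absurd (Dvd.intro (3 ^ k * T.relIndex H) (by rw [← h1]; ring) : 9 ∣ 12) (by norm_num)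
  have hF := frattini_arg le_top (normal_iff_top_le_norm.1 inferInstance) hT
  rw [top_inf_eq] at hF
  have hi := hF.relIndex_eq
  rw [relIndex_top_right] at hi
  have c1 := card_inf_mul_relIndex 𝒩(T) H
  have c2 := card_mul_relIndex (le_inf le_normalizer hT.le : T ≤ 𝒩(T) ⊓ H)
  rw [← c2, hT3, h12] at c1
  have n1 : 𝒩(T).relIndex H ≠ 1 := fun e => by
    have := hodd T hT.le (relIndex_eq_one.1 e) (by rw [hT3]; norm_num)
    rw [this, card_bot] at hT3
    omega
  have n2 : 𝒩(T).relIndex H ≠ 2 := H42.index_ne_two_pResidual _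
  have h4 : 𝒩(T).relIndex H = 4 ∧ T.relIndex (𝒩(T) ⊓ H) = 1 := by
    have d : 𝒩(T).relIndex H ∣ 2 ^ 2 := Dvd.intro_left (T.relIndex (𝒩(T) ⊓ H)) (by linarith)
    obtain ⟨j, hj, e⟩ := (Nat.dvd_prime_pow Nat.prime_two).1 d
    interval_cases j
    · exact absurd e n1
    · exact absurd e n2
    · rw [e] at c1 ⊢
      omega
  have hK : 𝒩(T).normalCore ⊓ H = ⊥ := hodd _ inf_le_right
    (le_top.trans (normal_iff_top_le_norm.1 inferInstance))
    (Nat.Coprime.coprime_dvd_left (card_dvd_of_le ((inf_le_inf_right H (normalCore_le _)).trans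
      (relIndex_eq_one.1 h4.2))) (by rw [hT3]; norm_num))
  have hKZ : 𝒩(T).normalCore = center G := le_antisymm (le_center P h hK)
    (normal_le_normalCore.2 (center_le_normalizer _))
  have hc : Nat.card (G ⧸ 𝒩(T)) = 4 := by rw [← index_eq_card, ← hi, h4.1]
  obtain ⟨e⟩ : Nonempty (G ⧸ 𝒩(T) ≃ Fin 4) := Finite.card_eq.1 (by rw [hc]; simp)
  let ψ : G →* Equiv.Perm (Fin 4) :=
    e.permCongrHom.toMonoidHom.comp (MulAction.toPermHom G (G ⧸ 𝒩(T)))
  have hker : ψ.ker = center G := by
    rw [← hKZ, normalCore_eq_ker, ← MonoidHom.comap_ker,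
      (MonoidHom.ker_eq_bot_iff _).2 e.permCongrHom.injective, MonoidHom.comap_bot]
  let f : G ⧸ center G ≃* ψ.range :=
    (QuotientGroup.quotientMulEquivOfEq hker.symm).trans (QuotientGroup.quotientKerEquivRange ψ)
  have hle : 12 ≤ Nat.card ψ.range := by
    have e1 : Nat.card (H.map ψ) = 12 := by
      have := relIndex_ker H ψ
      rw [← this, hker, ← hKZ, ← inf_relIndex_right, hK, relIndex_bot_left, h12]
    rw [← e1]
    exact card_le_of_le (map_le_range ψ H)
  have hm := ψ.range.card_mul_index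
  rw [Nat.card_perm, Nat.card_eq_fintype_card (α := Fin 4), Fintype.card_fin] at hm
  have h24 : Nat.factorial 4 = 24 := rfl
  have hi2 : ψ.range.index ≤ 2 := by nlinarith
  have hi0 : ψ.range.index ≠ 0 := index_ne_zero_of_finite
  rcases (by omega : ψ.range.index = 1 ∨ ψ.range.index = 2) with e1 | e1
  · exact Or.inr ⟨f.trans ((MulEquiv.subgroupCongr (index_eq_one.1 e1)).trans topEquiv)⟩
  · exact Or.inl ⟨f.trans (MulEquiv.subgroupCongr
      (Equiv.Perm.eq_alternatingGroup_of_index_eq_two e1))⟩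

/-- Let G be a finite group whose largest normal subgroup of odd order is trivial, let P be a Sylow 2-subgroup of G, and suppose the number of conjugacy classes of G consisting of 2-elements (elements of 2-power order, the identity included) is exactly |P|/2. Then G/Z(G) is isomorphic to the alternating or the symmetric group of degree 4, or G/Z(G) has a normal non-abelian simple subgroup with trivial centralizer that is isomorphic to PSL₂(q) for some prime power q > 3 with q ≡ 3 or 5 (mod 8). -/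
theorem result {G : Type*} [Group G] [Finite G] (P : Sylow 2 G) (hO : Cfsg.pPrimeCore 2 G = ⊥)
    (hk : 2 * Nat.card {c : ConjClasses G // ∀ x ∈ c.carrier, ∃ k : ℕ, orderOf x = 2 ^ k} = Nat.card ↥(P : Subgroup G)) :
    Nonempty (G ⧸ Subgroup.center G ≃* ↥(alternatingGroup (Fin 4))) ∨ Nonempty (G ⧸ Subgroup.center G ≃* Equiv.Perm (Fin 4)) ∨
    ∃ S : Subgroup (G ⧸ Subgroup.center G), S.Normal ∧ IsSimpleGroup ↥S ∧ ¬ IsMulCommutative ↥S ∧
      Subgroup.centralizer (S : Set (G ⧸ Subgroup.center G)) = ⊥ ∧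
      ∃ (F : Type) (_ : Field F) (_ : Fintype F), 3 < Fintype.card F ∧ (Fintype.card F % 8 = 3 ∨ Fintype.card F % 8 = 5) ∧
        Nonempty (↥S ≃* Matrix.ProjectiveSpecialLinearGroup (Fin 2) F) := by
  obtain ⟨g, u, v, h⟩ := exists_half P hO hk
  obtain ⟨Q⟩ : Nonempty (Sylow 2 (pResidual 2 G)) := inferInstance
  obtain ⟨e⟩ := H42.sylow_pResidual_equiv P Q
  rw [h.inf_res P] at e
  haveI := h.isKleinFour_U
  obtain ⟨e2⟩ : Nonempty (h.U ≃* DihedralGroup 2) := IsKleinFour.nonempty_mulEquiv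
  have hD : GW.Dihed (pResidual 2 G) := ⟨Q, 2, le_rfl, ⟨e.trans e2⟩⟩
  have hQ4 : Nat.card (Q : Subgroup (pResidual 2 G)) = 4 := (Nat.card_congr e.toEquiv).trans h.card_U
  have hO' : pPrimeCore 2 (pResidual 2 G) = ⊥ := H8.core_eq_bot_of_normal hO _
  have hg : g ∈ pResidual 2 G := H3.mem_pResidual_of_coprime (Nat.coprime_two_right.2 h.odd)
  by_cases hs : Group.IsSolvable (pResidual 2 G)
  · have h2 : ¬ IsPGroup 2 (pResidual 2 G) := fun h2 => by
      have : g ∈ (⊥ : Subgroup G) := mem_of_odd_pow_mem h2 hg h.odd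
        (by rw [pow_orderOf_eq_one]; exact one_mem _)
      have h3 := h.gu
      rw [mem_bot.1 this, one_mul, inv_one, mul_one] at h3
      exact h.u_ne_v h3
    obtain ⟨L, -, -, h3, h4, -⟩ := H22.gw_solv hD hO' h2
    have h5 : L.index = 1 :=
      ((Nat.dvd_prime Nat.prime_two).1 h3).resolve_right (H42.index_ne_two_pResidual L)
    rw [index_eq_one.1 h5, card_top] at h4
    rcases solv_case P hO h h4 with k | k
    · exact Or.inl k
    · exact Or.inr (Or.inl k)
  obtain ⟨L, hL, hp, -, -, hC, hcase⟩ := H22.gw_nonsolv hD hO' hs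
  have hab : H21.Ab2 (pResidual 2 G) := H21.Ab2.of_sylow Q
    (IsPGroup.isMulCommutative_of_card_eq_prime_sq (p := 2) hQ4)
  rcases hcase with ⟨F, _, _, f1, f2, ⟨f⟩⟩ | ⟨⟨f⟩, -⟩
  swap
  · exfalso
    have c1 : Nat.card L = 2520 := by
      rw [Nat.card_congr f.toEquiv, nat_card_alternatingGroup]
      simp [Nat.factorial]
    have c2 : 2 ^ 3 ∣ Nat.card (pResidual 2 G) :=
      Dvd.dvd.trans (by rw [c1]; norm_num) (card_subgroup_dvd_card L)
    have c3 := Q.pow_dvd_card_of_pow_dvd_card c2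
    rw [hQ4] at c3
    norm_num at c3
  refine Or.inr (Or.inr ?_)
  have hsimp : IsSimpleGroup (Matrix.ProjectiveSpecialLinearGroup (Fin 2) F) :=
    Matrix.ProjectiveSpecialLinearGroup.rank_two_simple (by rwa [Nat.card_eq_fintype_card])
  set L' := L.map (pResidual 2 G).subtype with hL'
  haveI hn : L'.Normal := ConjAct.normal_of_characteristic_of_normal
  have hL'H : L' ≤ pResidual 2 G := map_subtype_le L
  have hp' : ⁅L', L'⁆ = L' := by rw [hL', ← map_commutator, hp]
  have hC' : 𝒞(L') ⊓ pResidual 2 G = ⊥ := by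
    rw [eq_bot_iff]
    intro x hx
    have : (⟨x, hx.2⟩ : pResidual 2 G) ∈ centralizer (L : Set (pResidual 2 G)) :=
      mem_centralizer_iff.2 fun y hy => Subtype.ext
        (mem_centralizer_iff.1 hx.1 y (mem_map_of_mem _ hy))
    rw [hC] at this
    exact mem_bot.2 (congrArg Subtype.val (mem_bot.1 this))
  have hCZ : 𝒞(L') ≤ center G := le_center P h hC'
  have hLZ : L' ⊓ center G = ⊥ := eq_bot_iff.2
    ((le_inf (inf_le_right.trans (center_le_centralizer _)) (inf_le_left.trans hL'H)).trans hC'.le)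
  have hinj : Function.Injective ((QuotientGroup.mk' (center G)).domRestrict L') := by
    rw [← MonoidHom.ker_eq_bot_iff, MonoidHom.ker_domRestrict, QuotientGroup.ker_mk',
      subgroupOf_eq_bot, disjoint_iff, inf_comm, hLZ]
  let φ : L'.map (QuotientGroup.mk' (center G)) ≃* Matrix.ProjectiveSpecialLinearGroup (Fin 2) F :=
    (((MulEquiv.subgroupCongr (MonoidHom.domRestrict_range _ _).symm).trans
      (MonoidHom.ofInjective hinj).symm).trans
      (L.equivMapOfInjective _ (subtype_injective _)).symm).trans f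
  refine ⟨L'.map (QuotientGroup.mk' (center G)), hn.map _ (QuotientGroup.mk'_surjective _),
    φ.isSimpleGroup, fun hc => ?_, ?_, F, inferInstance, inferInstance, f2,
    H21.mod_eight_of_ab2_psl f1 f2 ((hab.sub L).of_injective f.symm.toMonoidHom f.symm.injective),
    ⟨φ⟩⟩
  · have h1 := H49.commutator_eq_bot_iff.2 (abelian_iff.1 hc)
    rw [← map_commutator, hp'] at h1
    have := φ.isSimpleGroup.toNontrivial
    rw [h1] at this
    exact not_nontrivial _ this
  · rw [eq_bot_iff]
    intro y hy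
    obtain ⟨x, rfl⟩ := QuotientGroup.mk'_surjective _ y
    have h1 : ⁅zpowers x, L'⁆ ≤ center G := by
      have : ⁅zpowers x, L'⁆.map (QuotientGroup.mk' (center G)) = ⊥ := by
        rw [map_commutator, MonoidHom.map_zpowers, H49.commutator_eq_bot_iff, zpowers_le]
        exact hy
      rwa [Subgroup.map_eq_bot_iff, QuotientGroup.ker_mk'] at this
    have h2 : ⁅zpowers x, L'⁆ = ⊥ := eq_bot_iff.2
      ((le_inf (commutator_le_right _ _) h1).trans hLZ.le)
    rw [mem_bot, QuotientGroup.mk'_apply, QuotientGroup.eq_one_iff]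
    exact hCZ (H49.commutator_eq_bot_iff.1 h2 (mem_zpowers x))

end Cfsg.Agent.S3896
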