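import Cfsg.Statements.S3900
import Cfsg.Agent.S0205
import Cfsg.Agent.S0044
import Cfsg.Agent.SGJ2.Red
import Cfsg.Agent.H81.Misc
import Cfsg.Agent.H72.SylowIn
import Cfsg.Agent.H83.Comm
import Cfsg.Agent.H19.Nilp

set_option autoImplicit false
open Cfsg

namespace Cfsg.Agent.S3900

open Subgroup H72
open scoped commutatorElement

universe u

variable {G : Type u} [Group G]

/-- left-normed commutator -/
def ev (y : G) (l : List G) : G := l.foldl (fun a b => a * b * a⁻¹ * b⁻¹) y

theorem ev_cons (y g : G) (l : List G) : ev y (g :: l) = ev ⁅y, g⁆ l := rfl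

theorem ev_concat (y g : G) (l : List G) : ev y (l ++ [g]) = ⁅ev y l, g⁆ := by
  rw [ev, List.foldl_append]; rfl

theorem map_ev {H : Type*} [Group H] (f : G →* H) (l : List G) : ∀ y, f (ev y l) = ev (f y) (l.map f) := by
  induction l with
  | nil => intro y; rfl
  | cons g l ih => intro y; rw [List.map_cons, ev_cons, ev_cons, ih, map_commutatorElement]

theorem ev_mem {Q : Subgroup G} (l : List G) (hl : ∀ g ∈ l, g ∈ normalizer (Q : Set G)) :
    ∀ y ∈ Q, ev y l ∈ Q := by
  induction l with
  | nil => intro y hy; exact hy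
  | cons g l ih =>
    intro y hy
    rw [ev_cons]
    refine ih (fun a ha => hl a (List.mem_cons_of_mem _ ha)) _ ?_
    have := Q.mul_mem hy (conj_mem_of_mem_normalizer (hl g List.mem_cons_self) (Q.inv_mem hy))
    rwa [← mul_assoc, ← mul_assoc] at this

theorem mem_ucs (k : ℕ) : ∀ y : G, (∀ l : List G, l.length = k → ev y l = 1) →
    y ∈ Subgroup.upperCentralSeries G k := by
  induction k with
  | zero => intro y h; exact h [] rfl
  | succ k ih =>
    intro y h
    exact Subgroup.mem_upperCentralSeries_succ_iff.2 fun g => ih _ fun l hl => h (g :: l) (by simp [hl])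

theorem ev_ne {t : G} {p : ℕ} (hp : Odd p) (k : ℕ) : ∀ c : G, c ≠ 1 → c ^ p = 1 → t * c * t⁻¹ = c⁻¹ →
    ev c (List.replicate k t) ≠ 1 := by
  induction k with
  | zero => intro c h _ _; exact h
  | succ k ih =>
    intro c h1 h2 h3
    have e : ⁅c, t⁆ = c ^ 2 := by
      rw [commutatorElement_def, mul_assoc, mul_assoc, ← mul_assoc t, ← inv_inv (t * c⁻¹ * t⁻¹)]
      rw [show (t * c⁻¹ * t⁻¹)⁻¹ = t * c * t⁻¹ by group, h3, inv_inv, pow_two]
    rw [List.replicate_succ, ev_cons, e]
    refine ih _ (fun e => h1 ?_) (by rw [← pow_mul, mul_comm, pow_mul, h2, one_pow])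
      (by rw [← conj_pow, h3, inv_pow])
    obtain ⟨m, rfl⟩ := hp
    rwa [pow_succ, pow_mul, e, one_pow, one_mul] at h2

/-- commutator values -/
def Val (k : ℕ) (x : G) : Prop := ∃ (y : G) (l : List G), l.length = k ∧ x = ev y l

theorem val_iff {k : ℕ} {x : G} : (∃ f : Fin (k + 1) → G,
    x = ((List.ofFn f).tail).foldl (fun a b => a * b * a⁻¹ * b⁻¹) (f 0)) ↔ Val k x := by
  constructor
  · rintro ⟨f, rfl⟩
    exact ⟨f 0, _, by simp, rfl⟩
  · rintro ⟨y, l, rfl, rfl⟩
    refine ⟨Fin.cons y l.get, ?_⟩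
    rw [List.ofFn_succ]
    simp [ev]

theorem Val.succ {k : ℕ} {x : G} (h : Val k x) (g : G) : Val (k + 1) ⁅x, g⁆ := by
  obtain ⟨y, l, rfl, rfl⟩ := h
  exact ⟨y, l ++ [g], by simp, (ev_concat _ _ _).symm⟩

theorem Val.drop {k : ℕ} {x : G} (h : Val (k + 1) x) : Val k x := by
  obtain ⟨y, l, e, rfl⟩ := h
  cases l with
  | nil => simp at e
  | cons g l => exact ⟨_, l, by simpa using e, ev_cons _ _ _⟩

theorem Val.pred {k : ℕ} {x : G} (h : Val (k + 1) x) : ∃ a g : G, Val k a ∧ x = ⁅a, g⁆ := by
  obtain ⟨y, l, e, rfl⟩ := h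
  rcases List.eq_nil_or_concat l with rfl | ⟨l, g, rfl⟩
  · simp at e
  · exact ⟨_, g, ⟨y, l, by simpa using e, rfl⟩, by rw [List.concat_eq_append, ev_concat]⟩

theorem Val.map {H : Type*} [Group H] (f : G →* H) {k : ℕ} {x : G} (h : Val k x) : Val k (f x) := by
  obtain ⟨y, l, rfl, rfl⟩ := h
  exact ⟨_, l.map f, by simp, map_ev f l y⟩

theorem Val.inv {k : ℕ} {x : G} (h : Val k x) : Val k x⁻¹ := by
  cases k with
  | zero => exact ⟨_, [], rfl, rfl⟩
  | succ k =>
    obtain ⟨a, g, ha, rfl⟩ := h.pred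
    have := (ha.map (MulAut.conj g).toMonoidHom).succ g⁻¹
    convert this using 1
    simp only [commutatorElement_def, MulEquiv.coe_toMonoidHom, MulAut.conj_apply]
    group

theorem Val.mem {k : ℕ} : ∀ {x : G}, Val k x → x ∈ (⊤ : Subgroup G).lowerCentralSeries k := by
  induction k with
  | zero => intro x _; exact mem_top x
  | succ k ih =>
    intro x h
    obtain ⟨a, g, ha, rfl⟩ := h.pred
    exact commutator_mem_commutator (ih ha) (mem_top g)

variable (G) in
/-- the consequence of the hypothesis that is used -/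
def Hyp (k : ℕ) : Prop :=
  ∀ x y : G, Val k x → (orderOf x).Coprime (orderOf ⁅x, y⁆) → ⁅x, y⁆ = 1

theorem Hyp.sub {k : ℕ} (h : Hyp G k) (H : Subgroup G) : Hyp H k := fun x y hx c =>
  Subtype.ext (h x y (hx.map H.subtype) (by
    rw [orderOf_coe x, show ⁅(x : G), (y : G)⁆ = ((⁅x, y⁆ : H) : G) from rfl, orderOf_coe]; exact c))

theorem Hyp.cent {k : ℕ} (h : Hyp G k) {q r : ℕ} [hq : Fact q.Prime] [hr : Fact r.Prime] (ne : q ≠ r)
    {Q N : Subgroup G} (hQ : IsPGroup q Q) (hN : IsPGroup r N) {x : G} (hx : Val k x) (xQ : x ∈ Q)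
    (xN : x ∈ normalizer (N : Set G)) : x ∈ centralizer (N : Set G) := by
  intro y hy
  have m : ⁅x, y⁆ ∈ N := N.mul_mem (conj_mem_of_mem_normalizer xN hy) (N.inv_mem hy)
  obtain ⟨a, ha⟩ := IsPGroup.iff_orderOf.1 hQ ⟨x, xQ⟩
  obtain ⟨b, hb⟩ := IsPGroup.iff_orderOf.1 hN ⟨_, m⟩
  rw [← orderOf_coe] at ha hb
  refine (commutatorElement_eq_one_iff_mul_comm.1 (h x y hx ?_)).symm
  rw [ha, hb]
  exact Nat.Coprime.pow _ _ ((Nat.coprime_primes hq.out hr.out).2 ne)

theorem lcs_bot (j : ℕ) : ∀ i, (⊤ : Subgroup G).lowerCentralSeries i ≤ Subgroup.upperCentralSeries G j →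
    (⊤ : Subgroup G).lowerCentralSeries (i + j) = ⊥ := by
  induction j with
  | zero => intro i h; exact le_bot_iff.1 h
  | succ j ih =>
    intro i h
    rw [show i + (j + 1) = i + 1 + j by ring]
    exact ih _ ((commutator_mono h le_rfl).trans (commutator_upperCentralSeries_top_le (G := G) j))

variable [Finite G]

theorem lift {H : Type*} [Group H] [Finite H] {f : G →* H} (hf : Function.Surjective f) {q : ℕ}
    [Fact q.Prime] {B : Subgroup H} (hB : IsPGroup q B) {Q : Subgroup G}
    (hQ : IsSylowIn q Q (B.comap f)) {b : H} (hb : b ∈ B) : ∃ y ∈ Q, f y = b := by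
  have := hQ.map f
  rw [map_comap_eq_self_of_surjective hf] at this
  rwa [← this.eq_of_isPGroup hB] at hb

theorem solv [Group.IsSolvable G] {k : ℕ} (h : Hyp G k) :
    (⊤ : Subgroup G).lowerCentralSeries k ≤ fittingSubgroup G := by
  let f := QuotientGroup.mk' (fittingSubgroup G)
  have hf : Function.Surjective f := QuotientGroup.mk'_surjective _
  have hk : f.ker = fittingSubgroup G := QuotientGroup.ker_mk' _
  have key : fittingSubgroup (G ⧸ fittingSubgroup G) ≤ Subgroup.upperCentralSeries _ k := by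
    refine H44.fitting_eq_iSup_pCore.le.trans (iSup_le fun q => ?_)
    have : Fact (q : ℕ).Prime := ⟨Nat.prime_of_mem_primeFactors q.2⟩
    generalize (q : ℕ) = q at *
    obtain ⟨Q, hQ⟩ := exists_isSylowIn q ((pCore q (G ⧸ fittingSubgroup G)).comap f)
    have up := fun b hb => lift hf H44.pCore_isPGroup hQ (b := b) hb
    have fr : ∀ g : G, ∃ r ∈ fittingSubgroup G, ∃ x ∈ normalizer (Q : Set G), g = r * x := by
      intro g
      obtain ⟨n, hn, x, hx, rfl⟩ := hQ.frattini (H := ⊤) (by rw [normalizer_eq_top]) (mem_top g)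
      obtain ⟨y, hy, e⟩ := up _ hn
      refine ⟨n * y⁻¹, ?_, y * x, mul_mem (le_normalizer hy) hx, by group⟩
      rw [← hk, MonoidHom.mem_ker, map_mul, map_inv, e, mul_inv_cancel]
    let D : Subgroup G := ⨅ r : {r : ℕ // r.Prime ∧ r ≠ q}, centralizer (pCore r G : Set G)
    have nD : D.Normal := normal_iInf_normal fun _ => inferInstance
    have n1 : normalizer (Q : Set G) ≤ normalizer ((Q ⊓ D : Subgroup G) : Set G) := fun g hg =>
      mem_normalizer_fintype fun a ha => ⟨conj_mem_of_mem_normalizer hg ha.1, nD.conj_mem a ha.2 g⟩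
    have n2 : fittingSubgroup G ≤ normalizer ((Q ⊓ D : Subgroup G) : Set G) := by
      refine H44.fitting_eq_iSup_pCore.le.trans (iSup_le fun r => ?_)
      by_cases e : (r : ℕ) = q
      · rw [e]
        refine (hQ.le_of_normalizes H44.pCore_isPGroup ?_ (by rw [normalizer_eq_top]; exact le_top)).trans
          (le_normalizer.trans n1)
        exact (H44.pCore_le_fitting.trans hk.ge).trans (ker_le_comap f _)
      · refine fun g hg => centralizer_le_normalizer _ fun a ha => ?_
        exact ((mem_iInf.1 ha.2 ⟨r, Nat.prime_of_mem_primeFactors r.2, e⟩) g hg).symm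
    have nK : (Q ⊓ D).Normal := normalizer_eq_top_iff.1 (eq_top_iff.2 fun g _ => by
      obtain ⟨r, hr, x, hx, rfl⟩ := fr g
      exact mul_mem (n2 hr) (n1 hx))
    have le : Q ⊓ D ≤ fittingSubgroup G :=
      (H44.le_pCore nK (hQ.isPGroup.to_le inf_le_left)).trans H44.pCore_le_fitting
    have : ∀ b : G ⧸ fittingSubgroup G, ∃ x ∈ normalizer (Q : Set G), f x = b := fun b => by
      obtain ⟨g, rfl⟩ := hf b
      obtain ⟨r, hr, x, hx, rfl⟩ := fr g
      exact ⟨x, hx, by rw [map_mul, MonoidHom.mem_ker.1 (hk.ge hr), one_mul]⟩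
    choose s hs1 hs2 using this
    intro b hb
    obtain ⟨y, hy, rfl⟩ := up b hb
    refine mem_ucs k _ fun l hl => ?_
    have m : ev y (l.map s) ∈ Q := ev_mem _ (by
      intro g hg
      obtain ⟨c, -, rfl⟩ := List.mem_map.1 hg
      exact hs1 c) y hy
    have m2 : ev y (l.map s) ∈ D := mem_iInf.2 fun r => by
      have : Fact (r : ℕ).Prime := ⟨r.2.1⟩
      exact h.cent r.2.2.symm hQ.isPGroup H44.pCore_isPGroup ⟨y, _, by simp [hl], rfl⟩ m
        (by rw [normalizer_eq_top]; exact mem_top _)
    have := MonoidHom.mem_ker.1 (hk.ge (le ⟨m, m2⟩))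
    rwa [map_ev, List.map_map, show f ∘ s = id from funext hs2, List.map_id] at this
  have a1 : (⊤ : Subgroup (G ⧸ fittingSubgroup G)).lowerCentralSeries k ≤ Subgroup.upperCentralSeries _ k := by
    refine le_trans ?_ (S0044.result.trans key)
    rw [← commutator_eq_bot_iff_le_centralizer, commutator_comm, eq_bot_iff]
    refine (commutator_mono (key.trans (Subgroup.upperCentralSeries_mono _ (show k ≤ 0 + k + 1 by omega))) le_rfl).trans
      (H83.commutator_ucs_lcs_le k 0)
  have a2 : Group.IsNilpotent (G ⧸ fittingSubgroup G) :=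
    Subgroup.nilpotent_iff_lowerCentralSeries.2 ⟨_, lcs_bot k k a1⟩
  rw [H44.fitting_eq_top_iff.2 a2, top_le_iff,
    ← lowerCentralSeries_eq_bot_iff_upperCentralSeries_eq_top] at key
  rw [← hk, ← Subgroup.map_eq_bot_iff, map_lowerCentralSeries, map_top_of_surjective f hf, key]

section
variable {H : Type u} [Group H] [Finite H] [IsSimpleGroup H] {f : G →* H}
  (hf : Function.Surjective f) (hH : ¬ Group.IsSolvable H)
include hf hH

theorem invol (j : ℕ) : ∃ x : G, Val j x ∧ IsPGroup 2 (zpowers x) ∧ orderOf (f x) = 2 := by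
  have : Fact (Nat.Prime 2) := ⟨Nat.prime_two⟩
  have ev2 : 2 ∣ Nat.card H := by
    by_contra e
    exact hH (S0205.result (Nat.odd_iff.2 (by omega)))
  induction j with
  | zero =>
    obtain ⟨t, ht⟩ := exists_prime_orderOf_dvd_card' 2 ev2
    obtain ⟨x, rfl, a, ha⟩ := H81.exists_pElt_lift f hf Nat.prime_two (y := t) ⟨1, by simp [ht]⟩
    exact ⟨x, ⟨x, [], rfl, rfl⟩, H81.isPGroup_zpowers_of_orderOf ha, ht⟩
  | succ j ih =>
    obtain ⟨x, hx, h2, ht⟩ := ih
    have c2 : 2 < Nat.card H := by
      by_contra e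
      have e' : Nat.card H = 2 := le_antisymm (not_lt.1 e) (Nat.le_of_dvd Nat.card_pos ev2)
      have := (IsPGroup.of_card (p := 2) (n := 1) (by simpa using e')).isNilpotent
      exact hH inferInstance
    obtain ⟨g, n, c⟩ := H88.JJ.exists_comm_conj ht c2
    obtain ⟨g, rfl⟩ := hf g
    have t2 := H8.mul_self_of_orderOf_two ht
    have s2 : f g * f x * (f g)⁻¹ * (f g * f x * (f g)⁻¹) = 1 := by rw [conj_mul, t2]; simp
    have hE := H8.isPGroup_closure_pair_of_commute t2 s2 c.symm
    obtain ⟨S, hS, xS⟩ := exists_isSylowIn_ge h2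
      (H := (closure {f x, f g * f x * (f g)⁻¹}).comap f) (zpowers_le.2 (subset_closure (by simp)))
    obtain ⟨d, hd, e⟩ := hS.exists_cj_le (IsPGroup_cj g h2) (by
      rw [cj_zpowers, zpowers_le]
      exact subset_closure (by simp))
    have m : d * (g * x * g⁻¹) * d⁻¹ ∈ S := e (conj_mem_cj (conj_mem_cj (mem_zpowers x)))
    have e1 : ⁅x, d * g⁆ = x * (d * (g * x * g⁻¹) * d⁻¹)⁻¹ := by rw [commutatorElement_def]; group
    have dc : f d ∈ centralizer ({f g * f x * (f g)⁻¹} : Set H) :=
      (closure_le _).2 (by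
        rintro _ (rfl | rfl)
        · exact mem_centralizer_singleton_iff.2 c.symm
        · exact mem_centralizer_singleton_iff.2 rfl) hd
    refine ⟨_, hx.succ (d * g), hS.isPGroup.to_le (zpowers_le.2 ?_), ?_⟩
    · rw [e1]; exact S.mul_mem (xS (mem_zpowers x)) (S.inv_mem m)
    · rw [e1]
      simp only [map_mul, map_inv]
      rw [mem_centralizer_singleton_iff.1 dc, mul_inv_cancel_right, inv_eq_of_mul_eq_one_right s2]
      refine H8.orderOf_two_of ?_ fun e => n ?_
      · generalize f g * f x * (f g)⁻¹ = s at *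
        rw [mul_assoc, ← mul_assoc s, c, mul_assoc, s2, mul_one, t2]
      · rw [eq_inv_of_mul_eq_one_right e, inv_eq_of_mul_eq_one_right t2]

theorem nonsolv (a : ∀ K : Subgroup G, K.map f = ⊤ → K = ⊤) {k : ℕ} (h : Hyp G k) : False := by
  have : Fact (Nat.Prime 2) := ⟨Nat.prime_two⟩
  obtain ⟨x, hx, h2, ht⟩ := invol hf hH k
  obtain ⟨b, p, hp, p2, ob, inv⟩ := H81.exists_inverted_of_not_mem_pCore
    (H8.mul_self_of_orderOf_two ht) (fun e => by
      rcases (inferInstance : (pCore 2 H).Normal).eq_bot_or_eq_top with e' | e'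
      · rw [e'] at e; exact H8.ne_one_of_orderOf_two ht e
      · have := (H44.pCore_eq_top_iff.1 e').isNilpotent
        exact hH inferInstance)
  have : Fact p.Prime := ⟨hp⟩
  have b1 : b ≠ 1 := fun e => hp.one_lt.ne (by rw [← ob, e, orderOf_one])
  have hB : IsPGroup p (zpowers b) := H81.isPGroup_zpowers_of_orderOf (k := 1) (by simp [ob])
  obtain ⟨P, hP⟩ := exists_isSylowIn p ((zpowers b).comap f)
  have up := fun c hc => lift hf hB hP (b := c) hc
  obtain ⟨y, hy, rfl⟩ := up b (mem_zpowers b)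
  have tn : f x ∈ normalizer (zpowers (f y) : Set H) :=
    H81.mem_normalizer_zpowers_of_conj_mem (by rw [inv]; exact inv_mem (mem_zpowers _))
  obtain ⟨n, hn, x', hx', e⟩ := hP.frattini (H := zpowers x) (zpowers_le.2 (mem_normalizer_fintype
    fun c hc => by
      rw [SetLike.mem_coe, mem_comap, map_mul, map_mul, map_inv]
      exact conj_mem_of_mem_normalizer tn hc)) (mem_zpowers x)
  have inv' : f x' * f y * (f x')⁻¹ = (f y)⁻¹ := by
    obtain ⟨i, hi⟩ := hn
    have : f x' = (f y ^ i)⁻¹ * f x := by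
      simp only at hi
      rw [hi, e, map_mul, inv_mul_cancel_left]
    rw [this]
    calc _ = (f y ^ i)⁻¹ * (f x * f y * (f x)⁻¹) * f y ^ i := by group
      _ = _ := by rw [inv]; group
  have vP : ev y (List.replicate k x') ∈ P :=
    ev_mem _ (fun g hg => by rw [List.eq_of_mem_replicate hg]; exact hx') y hy
  have vV : Val k (ev y (List.replicate k x')) := ⟨y, _, by simp, rfl⟩
  have v1 : f (ev y (List.replicate k x')) ≠ 1 := by
    rw [map_ev, List.map_replicate]
    exact ev_ne (hp.odd_of_ne_two p2) k _ b1 (by rw [← ob, pow_orderOf_eq_one]) inv'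
  generalize ev y (List.replicate k x') = v at vP vV v1
  have RN : f.ker ≤ normalizer (P : Set G) := by
    refine H44.le_of_sylow_le fun r _ _ => ?_
    by_cases e : r = p
    · subst e
      obtain ⟨S, hS⟩ := (hP.inf_normal (ker_le_comap f _)
        (by rw [normalizer_eq_top]; exact le_top)).exists_sylow_map
      exact ⟨S, hS.le.trans (inf_le_left.trans le_normalizer)⟩
    · obtain ⟨S, hS⟩ := exists_isSylowIn r f.ker
      have nS : S.Normal := normalizer_eq_top_iff.1 (a _ (eq_top_iff.2 fun c _ => by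
        obtain ⟨g, rfl⟩ := hf c
        obtain ⟨m, hm, w, hw, rfl⟩ := hS.frattini (H := ⊤) (by rw [normalizer_eq_top]) (mem_top g)
        exact ⟨w, hw, by rw [map_mul, MonoidHom.mem_ker.1 hm, one_mul]⟩))
      have vC := h.cent (Ne.symm e) hP.isPGroup hS.isPGroup vV vP
        (by rw [normalizer_eq_top]; exact mem_top _)
      have := a (centralizer (S : Set G)) (((inferInstance : (centralizer (S : Set G)).Normal).map f
        hf).eq_bot_or_eq_top.resolve_left fun e => v1 (mem_bot.1 (e ▸ mem_map_of_mem f vC)))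
      obtain ⟨T, hT⟩ := hS.exists_sylow_map
      refine ⟨T, hT.le.trans (fun s hs => centralizer_le_normalizer _ fun w _ => ?_)⟩
      exact ((this.ge (mem_top w)) s hs).symm
  have xN : x ∈ normalizer (P : Set G) := by
    obtain ⟨w, hw, e'⟩ := up _ hn
    rw [e, show n = n * w⁻¹ * w by group]
    refine mul_mem (mul_mem (RN ?_) (le_normalizer hw)) hx'
    rw [MonoidHom.mem_ker, map_mul, map_inv, e', mul_inv_cancel]
  have c := congrArg f (h.cent p2.symm h2 hP.isPGroup hx (mem_zpowers x) xN y hy)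
  rw [map_mul, map_mul] at c
  rw [← c, mul_inv_cancel_right] at inv
  have : p ∣ 2 := ob ▸ orderOf_dvd_of_pow_eq_one (by rw [pow_two]; exact mul_eq_one_iff_eq_inv.2 inv)
  exact p2 ((Nat.prime_dvd_prime_iff_eq hp Nat.prime_two).1 this)

end

theorem solvable (k n : ℕ) : ∀ (G : Type u) [Group G] [Finite G], Nat.card G = n → Hyp G k →
    Group.IsSolvable G := by
  induction n using Nat.strong_induction_on with
  | _ n ih =>
  intro G _ _ hn h
  by_contra hG
  have pr : ∀ K : Subgroup G, K ≠ ⊤ → Group.IsSolvable K := fun K hK =>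
    ih _ (hn ▸ lt_of_le_of_ne K.card_le_card_group fun e => hK (eq_top_of_card_eq K e)) K rfl (h.sub K)
  let f := QuotientGroup.mk' (H44.solRad G)
  have hf : Function.Surjective f := QuotientGroup.mk'_surjective _
  have hH : ¬ Group.IsSolvable (G ⧸ H44.solRad G) := fun e => by
    have := H44.solRad_isSolvable (G := G)
    exact hG (Group.isSolvable_of_ker_le_range (H44.solRad G).subtype f (by
      rw [QuotientGroup.ker_mk', range_subtype]))
  have a : ∀ K : Subgroup G, K.map f = ⊤ → K = ⊤ := fun K e => by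
    by_contra hK
    have := pr K hK
    exact hH (Group.isSolvable_of_surjective (f := f.comp K.subtype) (by
      rw [← MonoidHom.range_eq_top, MonoidHom.range_comp, range_subtype, e]))
  have : Nontrivial (G ⧸ H44.solRad G) := by
    by_contra e
    have := not_nontrivial_iff_subsingleton.1 e
    exact hH inferInstance
  have : IsSimpleGroup (G ⧸ H44.solRad G) := ⟨fun N hN => by
    by_cases e : N.comap f = ⊤
    · right; rw [← map_comap_eq_self_of_surjective hf N, e, map_top_of_surjective f hf]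
    · left
      rw [← map_comap_eq_self_of_surjective hf N, Subgroup.map_eq_bot_iff, QuotientGroup.ker_mk']
      exact H44.le_solRad (hN.comap f) (pr _ e)⟩
  exact nonsolv hf hH a h

/-- A criterion of Baumslag–Wiegold type for a term of the lower central series. Let G be a finite group and k ≥ 0; call an element a left-normed commutator value of length k + 1 when it has the form [[…[x₀, x₁], …], x_k] with k + 1 entries (for k = 0, any element), where [a, b] = aba⁻¹b⁻¹. Then the (k+1)-st term γ_{k+1}(G) of the lower central series (γ₁(G) = G) is nilpotent if and only if for every two such values x, y of coprime orders, either every prime dividing o(x)·o(y) divides o(xy), or o(x)·o(y) ≤ o(xy). -/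
theorem result {G : Type*} [Group G] [Finite G] (k : ℕ) :
    Group.IsNilpotent ↥((⊤ : Subgroup G).lowerCentralSeries k) ↔
      ∀ x y : G, (∃ f : Fin (k + 1) → G, x = ((List.ofFn f).tail).foldl (fun a b => a * b * a⁻¹ * b⁻¹) (f 0)) → (∃ f : Fin (k + 1) → G, y = ((List.ofFn f).tail).foldl (fun a b => a * b * a⁻¹ * b⁻¹) (f 0)) → (orderOf x).Coprime (orderOf y) →
        (∀ r : ℕ, r.Prime → r ∣ orderOf x * orderOf y → r ∣ orderOf (x * y)) ∨ orderOf x * orderOf y ≤ orderOf (x * y) := by
  simp only [val_iff]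
  constructor
  · intro h x y hx hy c
    right
    have e : x * y = y * x := congrArg Subtype.val (H19.commute_of_coprime_pow
      (G := (⊤ : Subgroup G).lowerCentralSeries k) c ⟨x, hx.mem⟩ ⟨y, hy.mem⟩
      (Subtype.ext (pow_orderOf_eq_one x)) (Subtype.ext (pow_orderOf_eq_one y)))
    exact (Commute.orderOf_mul_eq_mul_orderOf_of_coprime e c).ge
  · intro H
    have h : Hyp G k := fun x y hx c => by
      have e : orderOf (x⁻¹ * ⁅x, y⁆) = orderOf x := by
        rw [show x⁻¹ * ⁅x, y⁆ = y * x⁻¹ * y⁻¹ by rw [commutatorElement_def]; group,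
          H8.orderOf_conj', orderOf_inv]
      have := H x⁻¹ ⁅x, y⁆ hx.inv (hx.succ y).drop (by rwa [orderOf_inv])
      rw [e, orderOf_inv] at this
      rw [← orderOf_eq_one_iff]
      rcases this with t | t
      · by_contra n
        obtain ⟨r, hr, d⟩ := Nat.exists_prime_and_dvd n
        exact hr.one_lt.ne' (Nat.eq_one_of_dvd_coprimes c (t r hr (d.mul_left _)) d)
      · have p1 := orderOf_pos x
        have p2 := orderOf_pos ⁅x, y⁆
        nlinarith
    have := solvable k _ G rfl h
    exact H44.isNilpotent_of_le_fitting (solv h)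

end Cfsg.Agent.S3900
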