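import Cfsg.Statements.S3901
import Cfsg.Agent.S0205
import Cfsg.Agent.H81.Misc
import Cfsg.Agent.H71.Invert
import Cfsg.Agent.H46.PAction
import Cfsg.Agent.H70.Syl
import Cfsg.Agent.H5.Burnside
import Cfsg.Agent.H44.Cores
import Cfsg.Agent.H73.DerLen

set_option autoImplicit false
open Cfsg

namespace Cfsg.Agent.S3901

open Subgroup H92

universe u v

section
variable {G : Type*} [Group G] [Finite G]

omit [Finite G] in
theorem pow_of_dvd {n s : ℕ} (h : IsPrimePow n) (hs : s.Prime) (hd : s ∣ n) : ∃ i, n = s ^ i := by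
  obtain ⟨p, k, hp, -, rfl⟩ := (isPrimePow_nat_iff n).1 h
  exact ⟨k, by rw [(Nat.prime_dvd_prime_iff_eq hs hp).1 (hs.dvd_of_dvd_pow hd)]⟩

omit [Finite G] in
theorem triv {a c : G} {s t i j : ℕ} (hs : s.Prime) (ht : t.Prime) (hst : s ≠ t)
    (hac : Commute a c) (ha : orderOf a = s ^ i) (ha1 : a ≠ 1) (hc : orderOf c = t ^ j)
    (h : IsPrimePow (orderOf (a * c))) : c = 1 := by
  rw [hac.orderOf_mul_eq_mul_orderOf_of_coprime
    (by rw [ha, hc]; exact Nat.coprime_pow_primes _ _ hs ht hst), ha, hc] at h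
  have hi : i ≠ 0 := by
    rintro rfl
    exact ha1 (orderOf_eq_one_iff.1 (by simpa using ha))
  obtain ⟨k, hk⟩ := pow_of_dvd h hs ((dvd_pow_self s hi).mul_right _)
  by_contra hc1
  have hj : j ≠ 0 := by
    rintro rfl
    exact hc1 (orderOf_eq_one_iff.1 (by simpa using hc))
  have : t ∣ s ^ k := hk ▸ (dvd_pow_self t hj).mul_left _
  exact hst ((Nat.prime_dvd_prime_iff_eq ht hs).1 (ht.dvd_of_dvd_pow this)).symm

theorem key {K : Type*} [Group K] (f : G →* K) (hf : Function.Surjective f)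
    (h : ∀ x, f x ≠ 1 → IsPrimePow (orderOf x)) (N : Subgroup G) [N.Normal] (hN : N ≤ f.ker)
    {r p : ℕ} (hr : r.Prime) (hp : p.Prime) (hr2 : r ≠ 2) (hp2 : p ≠ 2) (hrp : r ≠ p)
    (hrN : r ∣ Nat.card N) {xb yb : K} (hx : orderOf xb = p) (hy : yb * yb = 1) (hy1 : yb ≠ 1)
    (hinv : yb * xb * yb⁻¹ = xb⁻¹) : False := by
  have := Fact.mk hr
  have := Fact.mk hp
  have := Fact.mk Nat.prime_two
  obtain ⟨R, hR⟩ := exists_sylIn r N
  have hR1 : R ≠ ⊥ := by
    rintro rfl
    exact hR.not_dvd_relIndex (by rwa [relIndex_bot_left])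
  set L := normalizer (R : Set G) with hL
  have lift : ∀ k : K, ∃ g ∈ L, f g = k := fun k => by
    obtain ⟨g, rfl⟩ := hf k
    obtain ⟨n, hn, hng⟩ := hR.frattini (g := g) (by rw [normalizer_eq_top]; trivial)
    exact ⟨n * g, hng, by rw [map_mul, MonoidHom.mem_ker.1 (hN hn), one_mul]⟩
  have hxp : IsPGroup p (zpowers xb) := IsPGroup.of_card (n := 1) (by rw [Nat.card_zpowers, hx, pow_one])
  have hx1 : xb ≠ 1 := by
    rintro rfl
    exact hp.one_lt.ne (by rw [← hx, orderOf_one])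
  have hyn : yb ∈ normalizer (zpowers xb : Set K) := by
    have : Finite (zpowers xb) := Nat.finite_of_card_ne_zero (by rw [Nat.card_zpowers, hx]; exact hp.ne_zero)
    refine mem_normalizer_fintype fun n hn => ?_
    obtain ⟨k, rfl⟩ := hn
    exact ⟨-k, by simp only [← conj_zpow, hinv, inv_zpow, zpow_neg]⟩
  set O := L ⊓ (zpowers xb).comap f with hO
  obtain ⟨P, hP⟩ := exists_sylIn p O
  obtain ⟨y0, hy0, rfl⟩ := lift yb
  obtain ⟨o, ho, hoy⟩ := hP.frattini (g := y0) (by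
    refine mem_normalizer_fintype fun n hn => ⟨L.mul_mem (L.mul_mem hy0 hn.1) (L.inv_mem hy0), ?_⟩
    change f _ ∈ zpowers xb
    rw [map_mul, map_mul, map_inv]
    exact (mem_normalizer_iff.1 hyn _).1 hn.2)
  set y := o * y0 with hyd
  have hyL : y ∈ L := L.mul_mem ho.1 hy0
  obtain ⟨k, hk⟩ : f o ∈ zpowers xb := ho.2
  have hk' : f y = xb ^ k * f y0 := by rw [hyd, map_mul, ← hk]
  have inv2 : ∀ m : ℤ, xb ^ m * f y0 * (xb ^ m * f y0) = 1 := fun m => by
    have : f y0 * xb ^ m * (f y0)⁻¹ = (xb ^ m)⁻¹ := by rw [← conj_zpow, hinv, inv_zpow]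
    calc xb ^ m * f y0 * (xb ^ m * f y0) = xb ^ m * (f y0 * xb ^ m * (f y0)⁻¹) * (f y0 * f y0) := by group
      _ = 1 := by rw [this, hy]; group
  have ne1 : ∀ m : ℤ, xb ^ m * f y0 ≠ 1 := fun m e => by
    have h1 : f y0 ∈ zpowers xb := ⟨-m, by simp only [zpow_neg]; exact inv_eq_of_mul_eq_one_right e⟩
    have h2 := orderOf_dvd_of_mem_zpowers h1
    rw [hx, orderOf_eq_prime (p := 2) (by rw [_root_.sq, hy]) hy1] at h2
    exact hp2 ((Nat.prime_dvd_prime_iff_eq Nat.prime_two hp).1 h2).symm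
  have two : ∀ g : G, ∀ m : ℤ, f g = xb ^ m * f y0 → ∃ i, orderOf g = 2 ^ i := fun g m e => by
    refine pow_of_dvd (h g (e ▸ ne1 m)) Nat.prime_two ?_
    have := orderOf_map_dvd f g
    rwa [e, orderOf_eq_prime (p := 2) (by rw [_root_.sq, inv2]) (ne1 m)] at this
  obtain ⟨i, hi⟩ := two y k hk'
  obtain ⟨x0, hx0, hfx0⟩ : xb ∈ P.map f := by
    have h1 := hP.map f
    have h2 : O.map f = zpowers xb := by
      refine le_antisymm (map_le_iff_le_comap.2 inf_le_right) (zpowers_le.2 ?_)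
      obtain ⟨g, hg, e⟩ := lift xb
      exact ⟨g, ⟨hg, by change f g ∈ zpowers xb; rw [e]; exact mem_zpowers _⟩, e⟩
    rw [h2] at h1
    rw [h1.eq_of_isPGroup hxp]; exact mem_zpowers _
  have hA : IsPGroup 2 (zpowers (y * y)) := by
    have : IsPGroup 2 (zpowers y) := IsPGroup.of_card (by rw [Nat.card_zpowers, hi])
    exact this.to_le (zpowers_le.2 (mul_mem (mem_zpowers _) (mem_zpowers _)))
  have hyy : f (y * y) = 1 := by rw [map_mul, hk', inv2]
  have hAP : zpowers (y * y) ≤ normalizer (P : Set G) := zpowers_le.2 (mul_mem hoy hoy)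
  have odd : ∀ Q : Subgroup G, IsPGroup p Q → ¬ 2 ∣ Nat.card Q := fun Q hQ hd => by
    obtain ⟨m, hm⟩ := hQ.exists_card_eq
    exact hp2 ((Nat.prime_dvd_prime_iff_eq Nat.prime_two hp).1
      (Nat.prime_two.dvd_of_dvd_pow (hm ▸ hd))).symm
  obtain ⟨n, hn, hxn⟩ := H46.exists_mul_mem_centralizer hA (N := P ⊓ f.ker)
    (odd _ (hP.pgroup.to_le inf_le_left)) (H70.norm_inf hAP H70.norm_of_normal) (x := x0)
    (fun a ha => ⟨P.mul_mem (P.inv_mem hx0) (H70.conj_mem_of_le_norm hAP ha hx0), by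
      have : f a = 1 := MonoidHom.mem_ker.1 ((zpowers_le.2 (MonoidHom.mem_ker.2 hyy) :
        zpowers (y * y) ≤ f.ker) ha)
      change f _ = 1
      simp [this]⟩)
  set x := x0 * n with hxd
  have hxP : x ∈ P := P.mul_mem hx0 hn.1
  have hfx : f x = xb := by rw [hxd, map_mul, hfx0, MonoidHom.mem_ker.1 hn.2, mul_one]
  have hx1' : x ≠ 1 := fun e => hx1 (by rw [← hfx, e, map_one])
  have pel : ∀ {q : ℕ} [Fact q.Prime] {Q : Subgroup G}, IsPGroup q Q → ∀ c ∈ Q, ∃ j, orderOf c = q ^ j :=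
    fun hQ c hc => by
      obtain ⟨j, hj⟩ := IsPGroup.iff_orderOf.1 hQ ⟨c, hc⟩
      exact ⟨j, by rw [← hj, orderOf_mk]⟩
  obtain ⟨j, hj⟩ := pel hP.pgroup x hxP
  obtain ⟨i', hi'⟩ := pel hA (y * y) (mem_zpowers _)
  have hy2 : y * y = 1 := triv hp Nat.prime_two hp2 (hxn _ (mem_zpowers _)).symm hj hx1' hi'
    (h _ (by rw [map_mul, hyy, mul_one, hfx]; exact hx1))
  have fpf : ∀ {q : ℕ} [Fact q.Prime] {Q : Subgroup G}, q ≠ 2 → IsPGroup q Q → Q ≤ (zpowers xb).comap f →
      ∀ g : G, ∀ m : ℤ, f g = xb ^ m * f y0 → centralizer ({g} : Set G) ⊓ Q = ⊥ := by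
    intro q hq Q hq2 hQ hQf g m e
    refine eq_bot_iff.2 fun c hc => ?_
    obtain ⟨a, ha⟩ := two g m e
    obtain ⟨b, hb⟩ := pel hQ c hc.2
    have hcg := mem_centralizer_singleton_iff.1 hc.1
    refine mem_bot.2 (triv Nat.prime_two hq.out hq2.symm hcg.symm ha
      (fun e' => ne1 m (by rw [← e, e', map_one])) hb (h _ ?_))
    obtain ⟨l, hl⟩ : f c ∈ zpowers xb := hQf hc.2
    rw [← hcg, map_mul, e, ← hl, ← mul_assoc]
    simpa only [zpow_add] using ne1 (l + m)
  have hRf : R ≤ (zpowers xb).comap f := fun c hc => by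
    change f c ∈ zpowers xb
    rw [MonoidHom.mem_ker.1 (hN (hR.le hc))]; exact one_mem _
  have e1 := H71.inverts_of_fpf hy2 hoy (fpf hp2 hP.pgroup (hP.le.trans inf_le_right) y k hk') x hxP
  have hxL : x ∈ L := (hP.le hxP).1
  have e2 := H71.inverts_of_fpf hy2 hyL (fpf hr2 hR.pgroup hRf y k hk')
  have e3 := H71.inverts_of_fpf (z := x * y) (by
      calc x * y * (x * y) = x * (y * x * y⁻¹) * (y * y) := by group
        _ = 1 := by rw [e1, hy2]; group) (L.mul_mem hxL hyL)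
    (fpf hr2 hR.pgroup hRf (x * y) (1 + k) (by rw [map_mul, hk', hfx, zpow_add, zpow_one, mul_assoc]))
  obtain ⟨c, hc, hc1⟩ := (bot_or_exists_ne_one R).resolve_left hR1
  obtain ⟨b, hb⟩ := pel hR.pgroup c hc
  have hcm : Commute x c⁻¹ := by
    have := e3 c hc
    rw [show x * y * c * (x * y)⁻¹ = x * (y * c * y⁻¹) * x⁻¹ by group, e2 c hc] at this
    exact mul_inv_eq_iff_eq_mul.1 this
  refine hc1 (inv_eq_one.1 (triv hp hr hrp.symm hcm hj hx1' (by rw [orderOf_inv, hb]) (h _ ?_)))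
  rw [map_mul, map_inv, MonoidHom.mem_ker.1 (hN (hR.le hc)), inv_one, mul_one, hfx]; exact hx1

theorem main (N : Subgroup G) [N.Normal] (hns : ¬ Group.IsSolvable N) (K : Type v) [Group K] [Finite K] :
    ∀ f : G →* K, Function.Surjective f → (∀ x, f x ≠ 1 → IsPrimePow (orderOf x)) → N ≤ f.ker →
      Group.IsSolvable K := by
  refine H2.card_induction (P := fun K _ _ => ∀ f : G →* K, Function.Surjective f →
    (∀ x, f x ≠ 1 → IsPrimePow (orderOf x)) → N ≤ f.ker → Group.IsSolvable K) K ?_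
  intro K _ _ ih f hf h hN
  have := Fact.mk Nat.prime_two
  by_cases hO : pCore 2 K = ⊥
  · by_contra hK
    have h2 : 2 ∣ Nat.card K := by
      by_contra h2
      exact hK (S0205.result (Nat.odd_iff.2 (by omega)))
    obtain ⟨t, ht⟩ := exists_prime_orderOf_dvd_card' 2 h2
    have ht1 : t ≠ 1 := by rintro rfl; simp at ht
    have htt : t * t = 1 := by rw [← _root_.sq, ← ht, pow_orderOf_eq_one]
    obtain ⟨x, p, hp, hp2, hx, hinv⟩ := H81.exists_inverted_of_not_mem_pCore htt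
      (by rw [hO]; exact fun e => ht1 (mem_bot.1 e))
    refine hns (H5.isSolvable_of_card_dvd_prime_pow_mul Nat.prime_two hp
      (a := Nat.card N) (b := Nat.card N) ?_)
    refine (Nat.dvd_iff_prime_pow_dvd_dvd _ _).2 fun r k hr hk => ?_
    rcases Nat.eq_zero_or_pos k with rfl | hk0
    · simp
    have hkN : k ≤ Nat.card N :=
      ((Nat.lt_pow_self hr.one_lt).le).trans (Nat.le_of_dvd Nat.card_pos hk)
    by_cases h1 : r = 2
    · subst h1; exact (pow_dvd_pow _ hkN).mul_right _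
    by_cases h3 : r = p
    · subst h3; exact (pow_dvd_pow _ hkN).mul_left _
    exact (key f hf h N hN hr hp h1 hp2 h3 ((dvd_pow_self r hk0.ne').trans hk) hx htt ht1 hinv).elim
  · have hn : (pCore 2 K).Normal := inferInstance
    have h1 := ih (K ⧸ pCore 2 K) (H73.card_quot_lt hO) ((QuotientGroup.mk' _).comp f)
      ((QuotientGroup.mk'_surjective _).comp hf)
      (fun x hx => h x fun e => hx (by simp [e])) (fun x hx => by
        simp [MonoidHom.mem_ker, MonoidHom.mem_ker.1 (hN hx)])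
    have h2 : Group.IsSolvable (pCore 2 K) := by
      have := (H44.pCore_isPGroup (p := 2) (G := K)).isNilpotent
      infer_instance
    exact Group.isSolvable_of_ker_le_range (pCore 2 K).subtype (QuotientGroup.mk' (pCore 2 K)) (by simp)

end


/-- Let N be a non-trivial normal subgroup of the finite group G such that every element of G outside N has prime power order. If N is not solvable, then G/N is solvable. -/
theorem result {G : Type*} [Group G] [Finite G] (N : Subgroup G) [N.Normal] (hN : N ≠ ⊥) (hns : ¬ Group.IsSolvable ↥N)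
    (h : ∀ x : G, x ∉ N → IsPrimePow (orderOf x)) : Group.IsSolvable (G ⧸ N) := by
  exact main N hns (G ⧸ N) (QuotientGroup.mk' N) (QuotientGroup.mk'_surjective N)
    (fun x hx => h x fun e => hx ((QuotientGroup.eq_one_iff x).2 e)) (by simp)

end Cfsg.Agent.S3901
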