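import Cfsg.Statements.S3904
import Cfsg.Agent.H80.MaxCent

set_option autoImplicit false
open Cfsg

namespace Cfsg.Agent.S3904

open Subgroup H80
open scoped commutatorElement

theorem eq_of_le_of_index_eq' {G : Type*} [Group G] [Finite G] {A B : Subgroup G} {q : ℕ}
    (h : (A ⊔ B).index = q) (h' : A.index = q) : A ⊔ B ≤ A := by
  have h1 := relIndex_mul_index (le_sup_left : A ≤ A ⊔ B)
  rw [h, h'] at h1
  have h2 : q ≠ 0 := h' ▸ index_ne_zero_of_finite
  exact relIndex_eq_one.1 (by
    have := Nat.eq_of_mul_eq_mul_right (Nat.pos_of_ne_zero h2) (h1.trans (one_mul q).symm); exact this)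

/-- Let G be a non-abelian finite group in which the centralizer of every non-central element is a maximal subgroup. Then G/Z(G) is either an elementary abelian p-group for some prime p, or a minimal non-abelian group (non-abelian with all proper subgroups abelian) of order p^a · q for distinct primes p, q with a normal Sylow p-subgroup. -/
theorem result {G : Type*} [Group G] [Finite G] (hna : ¬ IsMulCommutative G)
    (h : ∀ x : G, x ∉ Subgroup.center G → IsCoatom (Subgroup.centralizer ({x} : Set G))) :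
    (∃ p : ℕ, p.Prime ∧ Cfsg.IsElementaryAbelian p (⊤ : Subgroup (G ⧸ Subgroup.center G))) ∨
    (¬ IsMulCommutative (G ⧸ Subgroup.center G) ∧ (∀ H : Subgroup (G ⧸ Subgroup.center G), H ≠ ⊤ → IsMulCommutative ↥H) ∧
      ∃ p q a : ℕ, p.Prime ∧ q.Prime ∧ p ≠ q ∧ Nat.card (G ⧸ Subgroup.center G) = p ^ a * q ∧
        ∀ P : Subgroup (G ⧸ Subgroup.center G), Nat.card ↥P = p ^ a → P.Normal) := by
  let f := QuotientGroup.mk' (center G)
  have hf : Function.Surjective f := QuotientGroup.mk'_surjective _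
  have h0 : centralizer ((⊤ : Subgroup G) : Set G) = center G := by rw [coe_top, centralizer_univ]
  have h1 : ∀ a : G, f a = 1 ↔ a ∈ center G := QuotientGroup.eq_one_iff
  have h2 : ∀ a b : G, Commute (f a) (f b) ↔ ⁅a, b⁆ ∈ center G := fun a b => by
    rw [← commutatorElement_eq_one_iff_commute, ← map_commutatorElement, h1]
  have h3 := MaxCent.structure (N := (⊤ : Subgroup G)) fun x _ hx => h x (h0 ▸ hx)
  rw [h0, top_inf_eq] at h3
  rcases h3 with ⟨p, hp, h3, h4⟩ | ⟨p, q, K, y, hp, hq, hpq, hK, hZK, hsup, hy, hyq, hKe, hKc, hfpf, hmin⟩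
  · refine Or.inl ⟨p, hp, H2.isMulCommutative_of_forall fun a _ b _ => ?_, fun a _ => ?_⟩
    · obtain ⟨a, rfl⟩ := hf a
      obtain ⟨b, rfl⟩ := hf b
      exact (h2 a b).2 (h4 a trivial b trivial)
    · obtain ⟨a, rfl⟩ := hf a
      rw [← map_pow, h1]
      exact h3 a trivial
  have hn : (K.map f).Normal := hK.map f hf
  have h3 : ∀ a ∈ K.map f, a ^ p = 1 := by
    rintro _ ⟨a, ha, rfl⟩
    rw [← map_pow, h1]
    exact hKe a ha
  have h4 : ∀ a ∈ K.map f, Commute a (f y) → a = 1 := by
    rintro _ ⟨a, ha, rfl⟩ hc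
    exact (h1 a).2 (hfpf a ha (commute_of_commutator_mem (N := ⊤) hp hq hpq trivial trivial
      (h0 ▸ hKe a ha) (h0 ▸ hyq) (h0 ▸ (h2 _ _).1 hc)))
  have h5 : K.map f ≠ ⊥ := by
    obtain ⟨a, ha, h⟩ := SetLike.exists_of_lt hZK
    exact fun e => h ((h1 a).1 (e.le ⟨_, ha, rfl⟩))
  have h6 := (frob_of_prime hp hq hpq (K.map f) (y := f y) h5 (by
    rw [← MonoidHom.map_zpowers, ← Subgroup.map_sup, hsup, map_top_of_surjective f hf])
    (fun e => hy (hZK.le ((h1 _).1 e))) (by rw [← map_pow, h1]; exact hyq) h3 h4).2.2.1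
  have hc : ∀ a ∈ K.map f, ∀ b ∈ K.map f, a * b = b * a := by
    rintro _ ⟨a, ha, rfl⟩ _ ⟨b, hb, rfl⟩
    exact (hKc a ha b hb).map f
  have := Fact.mk hp
  have := Fact.mk hq
  obtain ⟨a, ha⟩ := (H2.isPGroup_of_forall_pow_eq_one h3).exists_card_eq
  refine Or.inr ⟨fun e => h5 (eq_bot_iff.2 fun a ha => h4 a ha (e.is_comm.comm _ _)), fun H hH => ?_,
    p, q, a, hp, hq, hpq, by rw [← (K.map f).card_mul_index, ha, h6], fun P hP => ?_⟩
  · by_cases h7 : H ≤ K.map f
    · exact H2.isMulCommutative_of_forall fun a ha b hb => hc a (h7 ha) b (h7 hb)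
    have h8 : K.map f ⊔ H = ⊤ := by
      rcases (Nat.dvd_prime hq).1 (h6 ▸ index_dvd_of_le (le_sup_left : K.map f ≤ K.map f ⊔ H)) with e | e
      · exact index_eq_one.1 e
      · exact absurd (le_sup_right.trans (eq_of_le_of_index_eq' e h6)) h7
    have h9 : (K.map f ⊓ H).Normal := normalizer_eq_top_iff.1 (eq_top_iff.2 (h8.ge.trans (sup_le
      (fun c hc' => H4.mem_normalizer_of_conj_mem fun a ha => by rwa [hc c hc' a ha.1, mul_inv_cancel_right])
      fun c hc' => H4.mem_normalizer_of_conj_mem fun a ha => mem_inf.2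
        ⟨hn.conj_mem a ha.1 c, mul_mem (mul_mem hc' (mem_inf.1 ha).2) (inv_mem hc')⟩)))
    have h10 : f.ker ≤ K := (QuotientGroup.ker_mk' _).le.trans hZK.le
    rcases hmin ((K.map f ⊓ H).comap f) inferInstance (QuotientGroup.le_comap_mk' _ _)
      ((comap_mono inf_le_left).trans (by rw [comap_map_eq, sup_eq_left.2 h10])) with h11 | h11
    · have h12 := H2.card_inf_mul_relIndex (K.map f) H
      rw [← map_comap_eq_self_of_surjective hf (K.map f ⊓ H), h11, QuotientGroup.map_mk'_self, card_bot,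
        one_mul] at h12
      have := isCyclic_of_card_dvd_prime (p := q) (h12 ▸ h6 ▸ relIndex_dvd_index_of_normal _ H)
      infer_instance
    · rw [← h11, map_comap_eq_self_of_surjective hf] at h8
      exact absurd (by rwa [sup_eq_right.2 inf_le_right] at h8) hH
  · rw [eq_of_le_of_card_ge (H19.le_normal_of_coprime_index P (K.map f) (by
      rw [hP, h6]; exact ((Nat.coprime_primes hp hq).2 hpq).pow_left a)) (by rw [hP, ha])]
    exact hn

end Cfsg.Agent.S3904
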