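import Cfsg.Statements.S3905
import Cfsg.Agent.H80.MaxCent

set_option autoImplicit false
open Cfsg

namespace Cfsg.Agent.S3905

open Subgroup H80
open scoped commutatorElement

/-- Let N be a normal subgroup of the finite group G such that for every element x of N outside the center of N the centralizer C_G(x) is a maximal subgroup of G. Then N/Z(N) is either an elementary abelian p-group for some prime p, or a Frobenius group whose kernel is an elementary abelian normal subgroup and whose complement has prime order. -/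
theorem result {G : Type*} [Group G] [Finite G] (N : Subgroup G) [N.Normal]
    (h : ∀ x : G, x ∈ N → x ∉ Subgroup.centralizer (N : Set G) → IsCoatom (Subgroup.centralizer ({x} : Set G))) :
    (∃ p : ℕ, p.Prime ∧ Cfsg.IsElementaryAbelian p (⊤ : Subgroup (↥N ⧸ Subgroup.center ↥N))) ∨
    (∃ (Q K : Subgroup (↥N ⧸ Subgroup.center ↥N)) (p : ℕ), p.Prime ∧ Cfsg.IsFrobeniusComplement Q ∧ (Nat.card ↥Q).Prime ∧
      K.Normal ∧ (K : Set (↥N ⧸ Subgroup.center ↥N)) = Cfsg.frobeniusKernel Q ∧ Cfsg.IsElementaryAbelian p K) := by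
  let f := QuotientGroup.mk' (center N)
  have hf : Function.Surjective f := QuotientGroup.mk'_surjective _
  have h1 : ∀ a : N, f a = 1 ↔ (a : G) ∈ centralizer (N : Set G) := fun a =>
    (QuotientGroup.eq_one_iff a).trans ⟨fun h n hn => congrArg Subtype.val (mem_center_iff.1 h ⟨n, hn⟩),
      fun h => mem_center_iff.2 fun n => Subtype.ext (h n n.2)⟩
  have h2 : ∀ a b : N, Commute (f a) (f b) ↔ ⁅(a : G), (b : G)⁆ ∈ centralizer (N : Set G) := fun a b => by
    rw [← commutatorElement_eq_one_iff_commute, ← map_commutatorElement, h1]; rfl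
  rcases MaxCent.structure h with ⟨p, hp, h3, h4⟩ | ⟨p, q, K, y, hp, hq, hpq, hK, hZK, hsup, hy, hyq, hKe, hKc, hfpf, -⟩
  · refine Or.inl ⟨p, hp, H2.isMulCommutative_of_forall fun a _ b _ => ?_, fun a _ => ?_⟩
    · obtain ⟨a, rfl⟩ := hf a
      obtain ⟨b, rfl⟩ := hf b
      exact (h2 a b).2 (h4 a a.2 b b.2)
    · obtain ⟨a, rfl⟩ := hf a
      rw [← map_pow, h1]
      exact h3 a a.2
  have hyN : y ∈ N := hsup ▸ mem_sup_right (mem_zpowers y)
  have hKN : K ≤ N := hsup ▸ le_sup_left
  have hn : ((K.subgroupOf N).map f).Normal := Normal.map inferInstance f hf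
  have h3 : ∀ a ∈ (K.subgroupOf N).map f, a ^ p = 1 := by
    rintro _ ⟨a, ha, rfl⟩
    rw [← map_pow, h1]
    exact hKe a ha
  obtain ⟨h4, h5, -, h6⟩ := frob_of_prime hp hq hpq ((K.subgroupOf N).map f) (y := f ⟨y, hyN⟩) (by
      obtain ⟨a, ha, h⟩ := SetLike.exists_of_lt hZK
      exact fun e => h ⟨hKN ha, (h1 ⟨a, hKN ha⟩).1 (e.le ⟨_, ha, rfl⟩)⟩) (by
      rw [← MonoidHom.map_zpowers, ← Subgroup.map_sup, ← map_top_of_surjective f hf]
      congr 1
      refine map_injective N.subtype_injective ?_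
      rw [Subgroup.map_sup, MonoidHom.map_zpowers, subgroupOf_map_subtype, inf_eq_left.2 hKN,
        ← MonoidHom.range_eq_map, range_subtype]
      exact hsup) (fun e => hy (hZK.le ⟨hyN, (h1 _).1 e⟩)) (by rw [← map_pow, h1]; exact hyq) h3 (by
      rintro _ ⟨a, ha, rfl⟩ hc
      exact (h1 a).2 (hfpf a ha (commute_of_commutator_mem hp hq hpq a.2 hyN (hKe a ha) hyq ((h2 _ _).1 hc))))
  refine Or.inr ⟨_, _, p, hp, h4, h5 ▸ hq, hn, h6, H2.isMulCommutative_of_forall ?_, h3⟩
  rintro _ ⟨a, ha, rfl⟩ _ ⟨b, hb, rfl⟩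
  exact (h2 a b).2 (by rw [(hKc a ha b hb).commutator_eq]; exact one_mem _)

end Cfsg.Agent.S3905
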