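import Cfsg.Statements.S3913
import Cfsg.Agent.H80.BGroup4
import Cfsg.Agent.H44.Cores
import Cfsg.Agent.H19.Nilp
import Cfsg.Agent.S3859

set_option autoImplicit false
open Cfsg

namespace Cfsg.Agent.S3913

open Subgroup H42 H80
open scoped commutatorElement

universe u

theorem card_inf_of_hall {G : Type*} [Group G] [Finite G] (W : Subgroup G) [W.Normal]
    (hW : (Nat.card W).Coprime W.index) (A : Subgroup G) :
    Nat.card ↥(A ⊓ W) = Nat.gcd (Nat.card A) (Nat.card W) := by
  apply Nat.dvd_antisymm (Nat.dvd_gcd (card_dvd_of_le inf_le_left) (card_dvd_of_le inf_le_right))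
  have h1 := card_map_mk'_mul A W
  have h2 : Nat.card (A.map (QuotientGroup.mk' W)) ∣ W.index := card_subgroup_dvd_card _
  have h3 : (Nat.gcd (Nat.card A) (Nat.card W)).Coprime (Nat.card (A.map (QuotientGroup.mk' W))) :=
    (hW.coprime_dvd_right h2).coprime_dvd_left (Nat.gcd_dvd_right _ _)
  exact h3.dvd_of_dvd_mul_left (h1 ▸ Nat.gcd_dvd_left _ _)

theorem exists_le_not_mem {G : Type*} [Group G] [Finite G] {r : ℕ} [hr : Fact r.Prime] {M U : Subgroup G}
    (hM : IsMulCommutative M) (hMe : ∀ x ∈ M, x ^ r = 1) (hU : U < M) (hU1 : U ≠ ⊥) {w v : G} (hw : w ∈ M)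
    (hv : v ∈ M) (hvw : v ∉ zpowers w) (hw1 : w ≠ 1) :
    ∃ K : Subgroup G, K ≤ M ∧ w ∈ K ∧ v ∉ K ∧ Nat.card K = Nat.card U := by
  have hMp : IsPGroup r M := H2.isPGroup_of_forall_pow_eq_one hMe
  obtain ⟨H, -, -, hHi, hwH, hvH⟩ := H3.exists_isCoatom_of_elementary_quotient (G := M) (p := r)
    (N := (zpowers w).subgroupOf M) (by
      rw [commutator_def, commutator_le]
      intro x _ y _
      rw [commutatorElement_eq_one_iff_mul_comm.2 (hM.is_comm.comm x y)]; exact one_mem _)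
    (fun x => by
      have : x ^ r = 1 := Subtype.ext (hMe x x.2)
      rw [this]; exact one_mem _) (x := ⟨v, hv⟩) hvw
  obtain ⟨k, hk⟩ := IsPGroup.iff_card.1 (hMp.to_le hU.le)
  obtain ⟨m, hm⟩ := IsPGroup.iff_card.1 (hMp.to_subgroup H)
  have h1 := H.card_mul_index
  have h2 := H23.card_lt_of_lt hU
  rw [← h1, hHi, hm, hk, ← pow_succ, Nat.pow_lt_pow_iff_right hr.out.one_lt] at h2
  have hk1 : 1 ≤ k := by
    rcases k with _ | k
    · exact absurd (card_eq_one.1 hk) hU1
    · omega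
  obtain ⟨K, hK, hK2⟩ := Sylow.exists_subgroup_card_pow_prime_le (G := H) r (n := 1) (m := k)
    (hm ▸ pow_dvd_pow r (by omega)) (zpowers ⟨⟨w, hw⟩, hwH (mem_zpowers w)⟩)
    (by rw [Nat.card_zpowers, orderOf_mk, orderOf_mk, orderOf_eq_prime (hMe w hw) hw1, pow_one]) hk1
  refine ⟨(K.map H.subtype).map M.subtype, map_subtype_le _, ⟨_, ⟨_, hK2 (mem_zpowers _), rfl⟩, rfl⟩, ?_, ?_⟩
  · rintro ⟨_, ⟨y, -, rfl⟩, e⟩
    have : (y : M) = ⟨v, hv⟩ := Subtype.ext e
    exact hvH (this ▸ y.2)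
  · rw [card_map_of_injective M.subtype_injective, card_map_of_injective H.subtype_injective, hK, hk]

theorem finish {G : Type*} [Group G] [Finite G] (hs : Group.IsSolvable G) (W : Subgroup G) [W.Normal]
    (hW : (Nat.card W).Coprime W.index) (hWc : IsMulCommutative W) {A B : Subgroup G}
    (hAB : Nat.card A = Nat.card B) (hU : A ⊓ W = B ⊓ W) (h : A ⊔ W = B ⊔ W) : ∃ g, B = cj g A := by
  have key : ∀ A : Subgroup G, ∃ T : Subgroup G, (A ⊓ W) ⊔ T = A ∧ T ⊔ W = A ⊔ W ∧
      (Nat.card T).Coprime (Nat.card W) ∧ Nat.card T * Nat.card ↥(A ⊓ W) = Nat.card A := by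
    intro A
    have h1 : (A ⊓ W).relIndex A ∣ W.index := by
      rw [inf_relIndex_left]; exact relIndex_dvd_index_of_normal W A
    obtain ⟨T, hT1, hT2, hT3⟩ := exists_compl_rel (inf_le_left : A ⊓ W ≤ A)
      (le_normalizer.trans (S3859.normalizer_le W A))
      ((hW.coprime_dvd_right h1).coprime_dvd_left (card_dvd_of_le inf_le_right))
    refine ⟨T, hT2, ?_, hT3 ▸ (hW.coprime_dvd_right h1).symm, by
      rw [hT3, H23.card_eq_relIndex_mul (inf_le_left : A ⊓ W ≤ A)]⟩
    refine le_antisymm (sup_le_sup_right hT1 W) (sup_le (hT2.ge.trans ?_) le_sup_right)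
    exact sup_le (inf_le_right.trans le_sup_right) le_sup_left
  obtain ⟨T, h1, h2, h3, h4⟩ := key A
  obtain ⟨T', h1', h2', h3', h4'⟩ := key B
  obtain ⟨g, hg, e⟩ := conj_of_sup_eq hs (h2.trans (h.trans h2'.symm)) h3 (by
    rw [hU, hAB, ← h4'] at h4
    exact Nat.eq_of_mul_eq_mul_right Nat.card_pos h4)
  refine ⟨g, ?_⟩
  rw [← h1, ← h1', cj_sup, ← e, ← hU, cj_eq_iff_mem_normalizer.2]
  exact centralizer_le_normalizer _ fun y hy => H23.comm_of_mem hWc hy.2 hg

theorem main (G : Type u) [Group G] [Finite G] : BG G → Group.IsSolvable G →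
    ∀ A B : Subgroup G, Nat.card A = Nat.card B → ∃ g, B = cj g A := by
  induction hn : Nat.card G using Nat.strong_induction_on generalizing G with
  | _ n ih =>
  subst hn
  intro hB hs A B hAB
  have step : ∀ (M : Subgroup G) [M.Normal], M ≠ ⊥ → ∀ A B : Subgroup G, Nat.card A = Nat.card B →
      ((M ≤ A ∧ M ≤ B) ∨ (Nat.card A).Coprime (Nat.card M)) → ∃ g, B = cj g A :=
    fun M _ hM A B hAB h => conj_step hs M
      (ih _ (H2.card_quotient_lt M hM) _ rfl (hB.quot hs M) inferInstance) hAB h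
  obtain ⟨W, -, ⟨hWn, hWc, hW⟩, hmax⟩ := Finite.exists_le_maximal
    (p := fun W : Subgroup G => W.Normal ∧ IsMulCommutative W ∧ (Nat.card W).Coprime W.index) (a := ⊥)
    ⟨inferInstance, inferInstance, by simp⟩
  have hsylW : ∀ (q : ℕ) [Fact q.Prime] (Q : Sylow q G), q ∣ Nat.card W → (Q : Subgroup G) ≤ W := by
    intro q hq Q hd
    obtain ⟨k, hk⟩ := IsPGroup.iff_card.1 Q.isPGroup'
    exact H19.le_normal_of_coprime_index _ _ (hk ▸ Nat.Coprime.pow_left _ (hW.coprime_dvd_left hd))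
  have hexp : ∀ (q : ℕ) [Fact q.Prime] (Q : Sylow q G), (∀ x ∈ (Q : Subgroup G), x ^ q = 1) →
      ¬ IsCyclic (Q : Subgroup G) → (Q : Subgroup G) ≤ W := by
    intro q hq Q h1 h2
    obtain ⟨h3, h4⟩ := BG.normal_of_exponent G hB hs Q h1 h2
    by_cases hd : q ∣ Nat.card W
    · exact hsylW q Q hd
    have h5 : (Q : Subgroup G) ⊓ W = ⊥ :=
      H22.inf_eq_bot_of_pgroup_coprime Q.isPGroup' ((Nat.Prime.coprime_iff_not_dvd hq.out).2 hd).symm
    refine le_sup_left.trans (hmax ⟨inferInstance, H23.isMulCommutative_sup h4 hWc fun x hx y hy =>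
      (commute_of_normal_of_disjoint _ _ h3 hWn (disjoint_iff.2 h5) x y hx hy).eq.symm, ?_⟩ le_sup_right)
    obtain ⟨k, hk⟩ := IsPGroup.iff_card.1 Q.isPGroup'
    refine Nat.Coprime.coprime_dvd_left (H22.card_sup_dvd _ _) (Nat.Coprime.mul_left ?_ ?_)
    · rw [hk]
      exact Nat.Coprime.pow_left _ ((Nat.Prime.coprime_iff_not_dvd hq.out).2
        (not_dvd_index_of_sylow_le Q le_sup_left))
    · exact hW.coprime_dvd_right (index_dvd_of_le le_sup_right)
  -- reduce to `A ⊓ W = B ⊓ W`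
  suffices H : ∀ A B : Subgroup G, Nat.card A = Nat.card B → A ⊓ W = B ⊓ W → ∃ g, B = cj g A by
    obtain ⟨g, hg⟩ := hB (A ⊓ W) (B ⊓ W) (H23.isMulCommutative_of_le hWc inf_le_right)
      (H23.isMulCommutative_of_le hWc inf_le_right)
      (by rw [card_inf_of_hall W hW, card_inf_of_hall W hW, hAB])
    obtain ⟨k, hk⟩ := H (cj g A) B (by rwa [card_cj]) (by
      rw [hg, ← cj, cj_inf, show cj g W = W from map_conj_of_normal W g])
    exact ⟨k * g, by rw [hk, cj_cj]⟩
  clear hAB A B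
  intro A B hAB hU
  let N := normalizer ((A ⊓ W : Subgroup G) : Set G)
  have hAN : A ≤ N := le_normalizer.trans (S3859.normalizer_le W A)
  have hBN : B ≤ N := by
    change B ≤ normalizer ((A ⊓ W : Subgroup G) : Set G)
    rw [hU]; exact le_normalizer.trans (S3859.normalizer_le W B)
  have hWN : W ≤ N := fun g hg => centralizer_le_normalizer _ fun y hy => H23.comm_of_mem hWc hy.2 hg
  let π := QuotientGroup.mk' W
  by_cases hZ : IsZGroup (N.map π)
  · obtain ⟨⟨_, n, hn, rfl⟩, hg⟩ := conj_of_isZGroup _ hZ ((A.map π).subgroupOf (N.map π))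
      ((B.map π).subgroupOf (N.map π)) (by
        rw [H2.card_subgroupOf_of_le (map_mono hAN), H2.card_subgroupOf_of_le (map_mono hBN)]
        apply Nat.eq_of_mul_eq_mul_right (Nat.card_pos (α := ↥(A ⊓ W)))
        rw [card_map_mk'_mul, hU, card_map_mk'_mul, hAB])
    have h1 := congrArg (fun X => comap π (Subgroup.map (N.map π).subtype X)) hg
    simp only [cj] at h1
    rw [map_conj_map, map_subgroupOf_eq_of_le (map_mono hAN), map_subgroupOf_eq_of_le (map_mono hBN)] at h1
    change _ = comap π (Subgroup.map (MulAut.conj (π n)).toMonoidHom _) at h1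
    rw [← map_conj_map, comap_map_eq, comap_map_eq, QuotientGroup.ker_mk'] at h1
    obtain ⟨k, hk⟩ := finish hs W hW hWc (A := cj n A) (B := B) (by rwa [card_cj]) (by
      rw [← hU, ← cj_eq_iff_mem_normalizer.2 hn, cj_inf, show cj n W = W from map_conj_of_normal W n]) h1.symm
    exact ⟨k * n, by rw [hk, cj_cj]⟩
  rw [isZGroup_iff] at hZ
  push Not at hZ
  obtain ⟨q, hq, S, hS⟩ := hZ
  have := Fact.mk hq
  obtain ⟨S, rfl⟩ := Sylow.mapSurjective_surjective (π.subgroupMap_surjective N) q S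
  have hS1 : ¬ IsCyclic ((S : Subgroup N).map N.subtype) := by
    intro h
    have : IsCyclic (S : Subgroup N) := isCyclic_of_injective
      ((S : Subgroup N).equivMapOfInjective _ N.subtype_injective).toMonoidHom (MulEquiv.injective _)
    exact hS (isCyclic_of_surjective _ ((π.subgroupMap N).subgroupMap_surjective S))
  have hS2 : ¬ (S : Subgroup N).map N.subtype ≤ W := by
    intro h
    apply hS
    have : ((S.mapSurjective (π.subgroupMap_surjective N) : Sylow q (N.map π)) : Subgroup (N.map π)) = ⊥ := by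
      rw [eq_bot_iff]
      rintro _ ⟨x, hx, rfl⟩
      exact Subtype.ext ((QuotientGroup.eq_one_iff _).2 (h ⟨x, hx, rfl⟩))
    rw [this]; infer_instance
  have hS3 := S.isPGroup'.map N.subtype
  have hS4 : (S : Subgroup N).map N.subtype ≤ N := map_subtype_le _
  generalize (S : Subgroup N).map N.subtype = T at hS1 hS2 hS3 hS4
  clear hS S
  obtain ⟨P, hP⟩ := hS3.exists_le_sylow
  have hPc : ¬ IsCyclic (P : Subgroup G) := fun _ => hS1 (isCyclic_of_le hP)
  have hPu := (hB.sylow_cases P.isPGroup').resolve_left fun h => hS2 (hP.trans (hexp q P h hPc))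
  obtain ⟨rfl, k, ⟨e⟩⟩ := (S0016.result q P.isPGroup' hPu).resolve_left hPc
  have hk0 : ∀ {X : Subgroup G} {j : ℕ}, ¬ IsCyclic X → (X ≃* QuaternionGroup (2 ^ j)) → j ≠ 0 := by
    rintro X j hX e rfl
    have : IsCyclic (QuaternionGroup (2 ^ 0)) := QuaternionGroup.quaternionGroup_one_isCyclic
    exact hX (isCyclic_of_injective e.toMonoidHom e.injective)
  obtain rfl : k = 1 := by
    have := hB.quaternion_le hs P e
    have := hk0 hPc e
    omega
  have hTP : T = P := by
    have hTu : ∀ H K : Subgroup T, Nat.card H = 2 → Nat.card K = 2 → H = K := fun H K hH hK =>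
      map_injective (inclusion_injective hP) (hPu _ _
        (by rwa [card_map_of_injective (inclusion_injective hP)])
        (by rwa [card_map_of_injective (inclusion_injective hP)]))
    obtain ⟨-, j, ⟨e'⟩⟩ := (S0016.result 2 hS3 hTu).resolve_left hS1
    refine eq_of_le_of_card_ge hP ?_
    rw [card_of_quaternion e, card_of_quaternion e']
    exact Nat.mul_le_mul_left _ (Nat.pow_le_pow_right two_pos (Nat.pos_of_ne_zero (hk0 hS1 e')))
  subst hTP
  have hW2 : (Nat.card W).Coprime 2 :=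
    ((Nat.Prime.coprime_iff_not_dvd hq).2 fun h => hS2 (hsylW 2 P h)).symm
  have hcases : ∀ (r : ℕ) [Fact r.Prime], r ≠ 2 → ∀ R : Sylow r G, IsCyclic (R : Subgroup G) ∨
      (¬ IsCyclic (R : Subgroup G) ∧ ∀ x ∈ (R : Subgroup G), x ^ r = 1) := by
    intro r _ hr2 R
    by_cases h : IsCyclic (R : Subgroup G)
    · exact Or.inl h
    refine Or.inr ⟨h, (hB.sylow_cases R.isPGroup').resolve_right fun h1 => ?_⟩
    exact h ((S0016.result r R.isPGroup' h1).resolve_right fun h => hr2 h.1)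
  have hPW : ((P : Subgroup G) ⊔ W).Normal := by
    apply normal_sup_of_quot
    refine BG.quaternion_normal' _ (hB.quot hs W) inferInstance ?_ _
      ⟨(sylowQuotEquiv P W (H22.inf_eq_bot_of_pgroup_coprime P.isPGroup' hW2)).symm.trans e⟩
    intro r hr hr2 R
    have := Fact.mk hr
    obtain ⟨R, rfl⟩ := Sylow.mapSurjective_surjective (QuotientGroup.mk'_surjective W) r R
    rcases hcases r hr2 R with h | ⟨h1, h2⟩
    · exact isCyclic_of_surjective _ ((QuotientGroup.mk' W).subgroupMap_surjective R)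
    · have : ((R.mapSurjective (QuotientGroup.mk'_surjective W) : Sylow r (G ⧸ W)) : Subgroup (G ⧸ W)) = ⊥ := by
        rw [eq_bot_iff]
        rintro _ ⟨x, hx, rfl⟩
        exact (QuotientGroup.eq_one_iff _).2 (hexp r R h2 h1 hx)
      rw [this]; infer_instance
  obtain ⟨a, ha, b, hb, h1, h2, h3, h4, h5⟩ := exists_gens_of_quaternion e
  have hz : ⁅a, b⁆ = a ^ 2 := by
    rw [commutatorElement_def, mul_assoc, mul_assoc, ← mul_assoc b, ← conj_inv, h3, inv_inv, sq]
  have hz2 : orderOf (a ^ 2) = 2 := orderOf_pow_of_eq_mul two_ne_zero h1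
  by_cases hzW : a ^ 2 ∈ centralizer (W : Set G)
  · have hzc : (P : Subgroup G) ⊔ W ≤ centralizer {a ^ 2} := by
      refine sup_le ?_ fun y hy => mem_centralizer_singleton_iff.2 (hzW y hy)
      rw [h5]
      refine sup_le (zpowers_le.2 (mem_centralizer_singleton_iff.2 ((Commute.refl a).pow_right 2)))
        (zpowers_le.2 (mem_centralizer_singleton_iff.2 ?_))
      rw [show a ^ 2 = b * b from h2.symm, mul_assoc]
    have hMn : (zpowers (a ^ 2)).Normal := by
      constructor
      rintro _ ⟨i, rfl⟩ g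
      simp only
      rw [← conj_zpow]
      refine zpow_mem ?_ i
      have ho : orderOf (g * a ^ 2 * g⁻¹) = 2 := (MulEquiv.orderOf_eq (MulAut.conj g) _).trans hz2
      obtain ⟨x, hx, hx2⟩ := (H4.IsSylowIn.of_sylow_le P (K := (P : Subgroup G) ⊔ W) le_sup_left).exists_conj
        (Q := zpowers (g * a ^ 2 * g⁻¹)) (IsPGroup.of_card (n := 1) (by rw [Nat.card_zpowers, ho, pow_one]))
        (zpowers_le.2 (hPW.conj_mem _ (mem_sup_left (pow_mem ha 2)) g))
      have h6 := hx2 _ (mem_zpowers _)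
      have h7 := hPu (zpowers ⟨_, h6⟩) (zpowers ⟨_, pow_mem ha 2⟩)
        (by rw [Nat.card_zpowers, orderOf_mk]; exact (MulEquiv.orderOf_eq (MulAut.conj x) _).trans ho)
        (by rw [Nat.card_zpowers, orderOf_mk, hz2])
      obtain ⟨j, hj⟩ : (⟨_, h6⟩ : (P : Subgroup G)) ∈ zpowers ⟨_, pow_mem ha 2⟩ := h7 ▸ mem_zpowers _
      have hj' : (a ^ 2) ^ j = x * (g * a ^ 2 * g⁻¹) * x⁻¹ := congrArg Subtype.val hj
      have h8 : Commute x ((a ^ 2) ^ j) := Commute.zpow_right (mem_centralizer_singleton_iff.1 (hzc hx)) j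
      refine ⟨j, ?_⟩
      simp only
      calc (a ^ 2) ^ j = x⁻¹ * (x * (a ^ 2) ^ j) := by group
        _ = _ := by rw [h8.eq, hj']; group
    refine step (zpowers (a ^ 2)) (by
      rw [Ne, zpowers_eq_bot]; intro e; rw [e, orderOf_one] at hz2; exact absurd hz2 (by norm_num)) A B hAB ?_
    by_cases hd : 2 ∣ Nat.card A
    · left
      have key : ∀ A : Subgroup G, 2 ∣ Nat.card A → zpowers (a ^ 2) ≤ A := by
        intro A hA
        obtain ⟨x, hx⟩ := exists_prime_orderOf_dvd_card' (G := A) 2 hA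
        rw [← orderOf_coe] at hx
        have h6 := hB.mem_of_orderOf _ (mem_zpowers (a ^ 2)) (hz2.trans hx.symm)
        rw [← eq_of_le_of_card_ge (zpowers_le.2 h6) (by rw [Nat.card_zpowers, Nat.card_zpowers, hx, hz2])]
        exact zpowers_le.2 x.2
      exact ⟨key A hd, key B (hAB ▸ hd)⟩
    · right
      rw [Nat.card_zpowers, hz2]
      exact ((Nat.Prime.coprime_iff_not_dvd hq).2 hd).symm
  obtain ⟨r, hr, hrW, R, hR⟩ : ∃ r : ℕ, r.Prime ∧ r ∣ Nat.card W ∧ ∃ R : Sylow r G,
      a ^ 2 ∉ centralizer ((R : Subgroup G) : Set G) := by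
    by_contra h
    push Not at h
    apply hzW
    have : W ≤ centralizer {a ^ 2} := by
      apply H44.le_of_sylow_le
      intro r hr hd
      obtain ⟨R⟩ : Nonempty (Sylow r W) := inferInstance
      obtain ⟨R', hR'⟩ := (R.isPGroup'.map W.subtype).exists_le_sylow
      exact ⟨R, fun y hy => mem_centralizer_singleton_iff.2 (h r hr.out hd R' y (hR' hy))⟩
    exact fun y hy => mem_centralizer_singleton_iff.1 (this hy)
  have := Fact.mk hr
  have hRW := hsylW r R hrW
  have hRc := H23.isMulCommutative_of_le hWc hRW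
  have hr2 : r ≠ 2 := by
    rintro rfl
    exact hS2 (hsylW 2 P hrW)
  have hRn : (R : Subgroup G).Normal := by
    have := normal_of_sup_normal_of_centralizes R (M := W) (by rw [sup_eq_right.2 hRW]; exact hWn)
      fun x hx y hy => H23.comm_of_mem hWc hy (hRW hx)
    exact this
  obtain ⟨-, hRe⟩ := (hcases r hr2 R).resolve_left fun h =>
    hR (hz ▸ commutator_mem_centralizer_of_isCyclic h a b)
  have hR1 : (R : Subgroup G) ≠ ⊥ := by
    intro e
    exact hR fun y hy => by rw [e] at hy; rw [mem_bot.1 hy]; simp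
  have hUR : A ⊓ W ⊓ R = A ⊓ R := by rw [inf_assoc, inf_eq_right.2 hRW]
  by_cases hc1 : (R : Subgroup G) ≤ A
  · refine step _ hR1 A B hAB (Or.inl ⟨hc1, ?_⟩)
    exact (le_inf hc1 hRW).trans (hU ▸ inf_le_left)
  by_cases hc2 : A ⊓ R = ⊥
  · refine step _ hR1 A B hAB (Or.inr ?_)
    rw [Nat.Coprime, ← card_inf_of_hall _ R.card_coprime_index, hc2, card_bot]
  exfalso
  apply hR
  have hnorm : (P : Subgroup G) ⊔ W ≤ normalizer ((A ⊓ R : Subgroup G) : Set G) :=
    (sup_le hS4 hWN).trans (hUR ▸ S3859.normalizer_le (R : Subgroup G) (A ⊓ W))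
  have hall : ∀ x ∈ (P : Subgroup G), ∀ w ∈ (R : Subgroup G), x * w * x⁻¹ ∈ zpowers w := by
    intro x hx w hw
    by_contra hv
    obtain ⟨K, hK1, hK2, hK3, hK4⟩ := exists_le_not_mem hRc hRe (inf_lt_right.2 hc1) hc2 hw
      (hRn.conj_mem w hw x) hv (by rintro rfl; simp at hv)
    obtain ⟨g, rfl⟩ := hB (A ⊓ R) K (H23.isMulCommutative_of_le hRc inf_le_right)
      (H23.isMulCommutative_of_le hRc hK1) hK4.symm
    refine hK3 (conj_mem_of_mem_normalizer ?_ hK2)
    rw [← cj_normalizer]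
    refine cj_mono g hnorm ?_
    rw [show cj g ((P : Subgroup G) ⊔ W) = _ from map_conj_of_normal ((P : Subgroup G) ⊔ W) g]
    exact mem_sup_left hx
  intro w hw
  have := commutator_centralizes (hall _ (inv_mem ha) w hw) (hall _ (inv_mem hb) w hw)
  rwa [inv_inv, inv_inv, hz] at this

/-- If G is a finite solvable group in which any two abelian subgroups of the same order are conjugate, then any two subgroups of G of the same order are conjugate. -/
theorem result {G : Type*} [Group G] [Finite G] (hB : ∀ A B : Subgroup G, IsMulCommutative ↥A → IsMulCommutative ↥B → Nat.card ↥A = Nat.card ↥B → ∃ g : G, B = A.map (MulAut.conj g).toMonoidHom) (hsol : Group.IsSolvable G) (A B : Subgroup G)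
    (h : Nat.card ↥A = Nat.card ↥B) : ∃ g : G, B = A.map (MulAut.conj g).toMonoidHom := by
  exact main G hB hsol A B h

end Cfsg.Agent.S3913
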