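import Cfsg.Statements.S3915
import Cfsg.Agent.S0205
import Cfsg.Agent.H44.Components

set_option autoImplicit false
set_option linter.style.haveILetI false
open Cfsg

namespace Cfsg.Agent.S3915

open Subgroup Cfsg.Agent.H44

theorem not_solvable_quot {K : Type*} [Group K] (h : IsQuasisimple K) :
    ¬ Group.IsSolvable (K ⧸ center K) := by
  intro hs
  haveI := h.1
  haveI := h.2
  haveI : Group.IsPerfect (K ⧸ center K) := inferInstance
  exact Group.IsPerfect.not_isSolvable (K ⧸ center K) hs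

theorem exists_two_elt {G : Type*} [Group G] [Finite G] {K : Subgroup G} (h : IsComponent K) :
    ∃ x ∈ K, x ∉ centralizer (K : Set G) ∧ ∃ k : ℕ, orderOf x = 2 ^ k := by
  haveI : Fact (Nat.Prime 2) := ⟨Nat.prime_two⟩
  obtain ⟨t, ht⟩ := exists_prime_orderOf_dvd_card' (G := K ⧸ center K) 2
    (Nat.not_odd_iff_even.1 fun h' => not_solvable_quot h.2 (S0205.result h')).two_dvd
  obtain ⟨y, rfl⟩ := QuotientGroup.mk_surjective t
  obtain ⟨k, m, hm, hkm⟩ := Nat.exists_eq_two_pow_mul_odd (orderOf_pos y).ne'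
  refine ⟨(y ^ m : K), (y ^ m).2, fun hc => ?_, ?_⟩
  · have h1 : y ^ m ∈ center K := mem_center_iff.2 fun g => Subtype.ext (hc g g.2)
    rw [← QuotientGroup.eq_one_iff, QuotientGroup.mk_pow, ← orderOf_dvd_iff_pow_eq_one, ht] at h1
    exact hm.not_two_dvd_nat h1
  · rw [orderOf_coe]
    refine (Nat.dvd_prime_pow Nat.prime_two (m := k)).1 (orderOf_dvd_of_pow_eq_one ?_) |>.imp
      fun _ h => h.2
    rw [← pow_mul, mul_comm, ← hkm, pow_orderOf_eq_one]


/-- Let G be a finite group in which, for every prime p, any two cyclic p-subgroups of the same order are conjugate. If the layer E(G), the subgroup generated by the components of G, is non-trivial, then E(G)/Z(E(G)) is a non-abelian simple group. -/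
theorem result {G : Type*} [Group G] [Finite G] (hP : ∀ (p : ℕ), p.Prime → ∀ A B : Subgroup G, IsCyclic ↥A → IsCyclic ↥B → IsPGroup p ↥A → Nat.card ↥A = Nat.card ↥B → ∃ g : G, B = A.map (MulAut.conj g).toMonoidHom) (hE : Cfsg.layer G ≠ ⊥) :
    IsSimpleGroup (↥(Cfsg.layer G) ⧸ Subgroup.center ↥(Cfsg.layer G)) ∧ ¬ IsMulCommutative (↥(Cfsg.layer G) ⧸ Subgroup.center ↥(Cfsg.layer G)) := by
  haveI : Fact (Nat.Prime 2) := ⟨Nat.prime_two⟩
  obtain ⟨K, hK⟩ : ∃ K : Subgroup G, IsComponent K := by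
    by_contra! h
    exact hE (sSup_eq_bot.2 fun K hK => absurd hK (h K))
  have key : ∀ K L : Subgroup G, IsComponent K → IsComponent L → K ≠ L → ∀ x ∈ K, ∀ y ∈ L,
      x ∉ centralizer (K : Set G) → y ∉ centralizer (L : Set G) → ∀ a b : ℕ, orderOf x = 2 ^ a →
      orderOf y = 2 ^ b → b ≤ a → False := by
    intro K L hK hL hne x hx y hy hxc hyc a b ha hb hab
    have hcomm : ∀ {K L : Subgroup G}, IsComponent K → IsComponent L → K ≠ L →
        L ≤ centralizer (K : Set G) := fun hK hL hne => commutator_eq_bot_iff_le_centralizer.1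
      ((comp_top_iff.2 hL).commutator_eq_bot_of_ne (comp_top_iff.2 hK) hne.symm)
    have hxy : Commute x y := hcomm hK hL hne hy x hx
    have h1 : (x * y) ^ 2 ^ a = 1 := by
      rw [hxy.mul_pow, ← ha, pow_orderOf_eq_one, one_mul, ha]
      exact orderOf_dvd_iff_pow_eq_one.1 (hb ▸ pow_dvd_pow 2 hab)
    obtain ⟨c, hc, hc'⟩ := (Nat.dvd_prime_pow Nat.prime_two).1 (orderOf_dvd_of_pow_eq_one h1)
    have h2 : orderOf (x ^ 2 ^ (a - c)) = 2 ^ c := by
      rw [orderOf_pow_of_dvd (by positivity) (ha ▸ pow_dvd_pow 2 (Nat.sub_le a c)), ha,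
        Nat.pow_div (Nat.sub_le a c) two_pos]
      congr 1
      omega
    obtain ⟨g, hg⟩ := hP 2 Nat.prime_two (zpowers (x ^ 2 ^ (a - c))) (zpowers (x * y))
      inferInstance inferInstance (IsPGroup.of_card (by rw [Nat.card_zpowers, h2]))
      (by rw [Nat.card_zpowers, Nat.card_zpowers, h2, hc'])
    have h3 : x * y ∈ K.map (MulAut.conj g).toMonoidHom :=
      map_mono (zpowers_le.2 (pow_mem hx _)) (hg ▸ mem_zpowers (x * y))
    have h4 : IsComponent (K.map (MulAut.conj g).toMonoidHom) :=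
      comp_top_iff.1 ((comp_top_iff.2 hK).conj (by rw [normalizer_eq_top]; trivial))
    by_cases h5 : K = K.map (MulAut.conj g).toMonoidHom
    · rw [← h5] at h3
      exact hyc (hcomm hL hK hne.symm ((mul_mem_cancel_left hx).1 h3))
    · exact hxc ((mul_mem_cancel_right (hcomm hK hL hne hy)).1 (hcomm hK h4 h5 h3))
  have huniq : ∀ L : Subgroup G, IsComponent L → L = K := by
    intro L hL
    by_contra hne
    obtain ⟨x, hx, hxc, a, ha⟩ := exists_two_elt hK
    obtain ⟨y, hy, hyc, b, hb⟩ := exists_two_elt hL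
    rcases le_total a b with h | h
    · exact key L K hL hK hne y hy x hx hyc hxc b a hb ha h
    · exact key K L hK hL (Ne.symm hne) x hx y hy hxc hyc a b ha hb h
  have hEK : Cfsg.layer G = K :=
    le_antisymm (sSup_le fun L hL => (huniq L hL).le) (le_sSup hK)
  rw [hEK]
  exact ⟨hK.2.2, fun h => not_solvable_quot hK.2 (Group.isSolvable_of_comm h.is_comm.comm)⟩

end Cfsg.Agent.S3915
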