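import Cfsg.Statements.S3916
import Cfsg.Agent.CSC.B
import Cfsg.Agent.H77.Factor
import Cfsg.Agent.S0205
-- import your own Cfsg.Agent.* helpers here

set_option autoImplicit false
set_option linter.style.haveILetI false
open Cfsg

namespace Cfsg.Agent.S3916

open Subgroup Cfsg.Agent.CSC Cfsg.Agent.H77

theorem simple_of_min {X : Type*} [Group X] [Finite X] (h : C2 X) {T : Subgroup X} (hT : MinNormal T)
    (hc : ¬ IsMulCommutative T) : IsSimpleGroup T := by
  haveI : Fact (Nat.Prime 2) := ⟨Nat.prime_two⟩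
  obtain ⟨U, hU⟩ := exists_factor hT.ne_bot
  haveI := hU.simple hT
  by_cases e : U = T
  · exact e ▸ hU.simple hT
  obtain ⟨g, hg⟩ := hU.exists_cj_ne hT e
  have hU' := hU.conj hT.normal g
  obtain ⟨⟨t, tU⟩, ht⟩ := exists_prime_orderOf_dvd_card' (G := U) 2
    (Nat.not_odd_iff_even.1 fun h' => hU.not_comm hT hc
      ⟨⟨IsSimpleGroup.comm_iff_isSolvable.2 (S0205.result h')⟩⟩).two_dvd
  rw [← orderOf_coe] at ht
  have t2 : t * t = 1 := by rw [← pow_two, ← ht]; exact pow_orderOf_eq_one t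
  have t1 : t ≠ 1 := fun e => by rw [show (⟨t, tU⟩ : U).1 = 1 from e, orderOf_one] at ht; omega
  have cm := (hU'.eq_or_comm hU).resolve_left hg
  have sU : g * t * g⁻¹ ∈ cj g U := conj_mem_cj tU
  have ne : ∀ {s}, s ∈ cj g U → s ∈ U → s = 1 := fun hs hs' => hU.eq_one_of_comm hT hc hs' (cm _ hs)
  have s1 : g * t * g⁻¹ ∉ U := fun hs => t1 (conj_eq_one_iff.1 (ne sU hs))
  have o : orderOf (t * (g * t * g⁻¹)) = 2 := orderOf_eq_prime (by
    rw [pow_two, mul_assoc, ← mul_assoc (g * t * g⁻¹), cm _ sU _ tU, mul_assoc t, ← mul_assoc, t2, one_mul,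
      conj_mul, t2, mul_one, mul_inv_cancel]) fun e => s1 ((mul_mem_cancel_left tU).1 (e ▸ one_mem U))
  obtain ⟨k, hk⟩ := h 1 _ t o ht
  have m : t * (g * t * g⁻¹) ∈ cj k⁻¹ U := mem_cj.2 (by rw [inv_inv]; exact zpowers_le.2 tU hk)
  rcases (hU.conj hT.normal k⁻¹).eq_or_comm hU with e | e
  · exact absurd ((mul_mem_cancel_left tU).1 (e ▸ m)) s1
  · refine absurd (hU.eq_one_of_comm hT hc tU fun s hs => ?_) t1
    have := e _ m s hs
    rw [mul_assoc, cm _ sU s hs, ← mul_assoc t s, ← mul_assoc s t] at this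
    exact mul_right_cancel this

/-- Let G be a finite group in which, for every prime p, any two cyclic p-subgroups of the same order are conjugate. If G is not solvable, then G has normal subgroups K ≤ L such that K is solvable, L/K is a non-abelian simple group, and G/L is solvable. -/
theorem result {G : Type*} [Group G] [Finite G] (hP : ∀ (p : ℕ), p.Prime → ∀ A B : Subgroup G, IsCyclic ↥A → IsCyclic ↥B → IsPGroup p ↥A → Nat.card ↥A = Nat.card ↥B → ∃ g : G, B = A.map (MulAut.conj g).toMonoidHom) (hns : ¬ Group.IsSolvable G) :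
    ∃ (K L : Subgroup G) (_ : K.Normal) (_ : L.Normal), K ≤ L ∧ Group.IsSolvable ↥K ∧ Group.IsSolvable (G ⧸ L) ∧
      IsSimpleGroup (↥L ⧸ K.subgroupOf L) ∧ ¬ IsMulCommutative (↥L ⧸ K.subgroupOf L) := by
  have h0 : C2 G := fun k x y hx hy => by
    haveI : Fact (Nat.Prime 2) := ⟨Nat.prime_two⟩
    obtain ⟨g, hg⟩ := hP 2 Nat.prime_two (zpowers x) (zpowers y) inferInstance inferInstance
      (IsPGroup.of_card (by rw [Nat.card_zpowers, hx])) (by rw [Nat.card_zpowers, Nat.card_zpowers, hx, hy])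
    exact ⟨g, hg ▸ ⟨x, mem_zpowers x, rfl⟩⟩
  obtain ⟨K, ⟨hK, sK⟩, mK⟩ := exists_maximal_of_wellFoundedGT
    (fun K : Subgroup G => K.Normal ∧ Group.IsSolvable K) ⟨⊥, inferInstance, inferInstance⟩
  let π := QuotientGroup.mk' K
  have hs : Function.Surjective π := QuotientGroup.mk'_surjective K
  have hker : π.ker = K := QuotientGroup.ker_mk' K
  have KL : ∀ T : Subgroup (G ⧸ K), K ≤ T.comap π := fun T => hker.ge.trans (ker_le_comap π T)
  have kr : ∀ T : Subgroup (G ⧸ K), (π.subgroupComap T).ker = K.subgroupOf (T.comap π) := fun T => by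
    ext x
    rw [MonoidHom.mem_ker, Subtype.ext_iff, mem_subgroupOf]
    exact QuotientGroup.eq_one_iff _
  have ne : (⊤ : Subgroup (G ⧸ K)) ≠ ⊥ := fun e => hns (by
    haveI : Subsingleton (G ⧸ K) := ⟨fun a b => by
      rw [mem_bot.1 (e.le (mem_top a)), mem_bot.1 (e.le (mem_top b))]⟩
    exact Group.isSolvable_of_ker_le_range K.subtype π (by rw [hker, range_subtype]))
  obtain ⟨T, ⟨hTn, hT0⟩, hT⟩ := exists_minimal_of_wellFoundedLT
    (fun T : Subgroup (G ⧸ K) => T.Normal ∧ T ≠ ⊥) ⟨⊤, inferInstance, ne⟩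
  have mT : MinNormal T := ⟨hTn, hT0, fun M hM hle => or_iff_not_imp_left.2 fun h => le_antisymm hle (hT ⟨hM, h⟩ hle)⟩
  have ns : ¬ Group.IsSolvable T := fun h => hT0 (by
    have : Group.IsSolvable (T.comap π) := Group.isSolvable_of_ker_le_range (inclusion (KL T)) (π.subgroupComap T)
      (by rw [kr, inclusion_range])
    rw [← map_comap_eq_self_of_surjective hs T, Subgroup.map_eq_bot_iff, hker]
    exact mK ⟨inferInstance, this⟩ (KL T))
  have hc : ¬ IsMulCommutative T := fun h => ns (Group.isSolvable_of_comm fun a b => h.is_comm.comm a b)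
  have h1 := h0.quot K
  haveI := simple_of_min h1 mT hc
  have odd := h1.odd_index (T := T) ((mT.min ⁅T, T⁆ inferInstance (commutator_le_left T T)).resolve_left
    fun e => hc ⟨⟨fun a b => Subtype.ext (commutator_eq_bot_iff_le_centralizer.1 e b.2 a a.2)⟩⟩).ge
    (Nat.not_odd_iff_even.1 fun h' => ns (S0205.result h')).two_dvd
  let e : ↥(T.comap π) ⧸ K.subgroupOf (T.comap π) ≃* T := (QuotientGroup.quotientMulEquivOfEq (kr T).symm).trans
    (QuotientGroup.quotientKerEquivOfSurjective _ (π.subgroupComap_surjective_of_surjective T hs))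
  refine ⟨K, T.comap π, hK, inferInstance, KL T, sK, S0205.result ?_, e.isSimpleGroup, fun h => hc ⟨⟨fun a b => ?_⟩⟩⟩
  · rw [← index, index_comap_of_surjective _ hs]
    exact Nat.odd_iff.2 (Nat.two_dvd_ne_zero.1 odd)
  · rw [← e.apply_symm_apply a, ← e.apply_symm_apply b, ← map_mul, h.is_comm.comm, map_mul]

end Cfsg.Agent.S3916
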