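import Cfsg.Statements.S3919
import Cfsg.Agent.H80.BGroup3
import Cfsg.Agent.H4.MaxClass
import Cfsg.Agent.S0112
import Cfsg.Agent.H43.Dih
import Cfsg.Agent.H42.Isolated

set_option autoImplicit false
open Cfsg

namespace Cfsg.Agent.S3919

open Subgroup H42

/-- Say that a group has self-centralizing non-cyclic subgroups when every non-cyclic subgroup H satisfies C_G(H) ≤ H. A finite non-abelian 2-group G of order 2^n has self-centralizing non-cyclic subgroups if and only if G has nilpotency class n − 1 (that is, G is dihedral, semidihedral or generalized quaternion). -/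
theorem result {G : Type*} [Group G] [Finite G] (hna : ¬ IsMulCommutative G) (n : ℕ) (hG : Nat.card G = 2 ^ n) :
    (∀ H : Subgroup G, ¬ IsCyclic ↥H → Subgroup.centralizer (H : Set G) ≤ H) ↔ (⊤ : Subgroup G).lowerCentralSeries (n - 2) ≠ ⊥ := by
  have hp : IsPGroup 2 G := IsPGroup.of_card hG
  have hnil := hp.isNilpotent
  have hnc : ¬ IsCyclic G := fun h => hna inferInstance
  have hn : 3 ≤ n := by
    by_contra h
    apply hna
    have h6 : n = 0 ∨ n = 1 ∨ n = 2 := by omega
    rcases h6 with rfl | rfl | rfl
    · have := (Nat.card_eq_one_iff_unique.1 hG).1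
      infer_instance
    · have := isCyclic_of_prime_card (p := 2) hG
      infer_instance
    · exact IsPGroup.isMulCommutative_of_card_eq_prime_sq (p := 2) hG
  rw [Ne, Subgroup.lowerCentralSeries_eq_bot_iff_nilpotencyClass_le]
  constructor
  · intro h
    suffices h1 : Group.nilpotencyClass G = n - 1 by omega
    by_cases hu : ∀ H K : Subgroup G, Nat.card H = 2 → Nat.card K = 2 → H = K
    · obtain ⟨-, k, ⟨e⟩⟩ := (S0016.result 2 hp hu).resolve_left hnc
      obtain ⟨a, ha, b, hb, h1, h2, h3, h4, h5⟩ := exists_gens_of_quaternion (X := ⊤) (topEquiv.trans e)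
      have hb4 := (H80.quat_out h1 (by positivity) h2 h3 h5 hb h4).2
      refine H4.nilpotencyClass_eq_of_card_centralizer_le n (by omega) G hG b ?_
      have key : ∀ x ∈ zpowers a, x * b = b * x → x ∈ zpowers b := by
        rintro _ ⟨i, rfl⟩ hx
        simp only at hx ⊢
        rw [zpow_mul_of_inverts h3, mul_right_inj, zpow_neg, inv_eq_iff_mul_eq_one] at hx
        by_cases h6 : a ^ i = 1
        · rw [h6]; exact one_mem _
        have h7 : orderOf (a ^ 2 ^ k) = 2 := orderOf_pow_of_eq_mul (by positivity) (by rw [h1, mul_comm])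
        rw [H43.eq_of_inv_of_mem_zpowers (zpow_mem (mem_zpowers a) i) (pow_mem (mem_zpowers a) (2 ^ k)) hx
          (mul_self_of_orderOf_two h7) h6 (by
            intro e; rw [e, orderOf_one] at h7; exact absurd h7 (by norm_num)), ← h2]
        exact mul_mem (mem_zpowers b) (mem_zpowers b)
      have : centralizer {b} ≤ zpowers b := by
        intro x hx
        rw [mem_centralizer_singleton_iff] at hx
        have h6 := mem_top x
        rw [h5, mem_sup_zpowers (mem_normalizer_zpowers_of_inverts h3) (h2 ▸ pow_mem (mem_zpowers a) _)] at h6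
        rcases h6 with h6 | h6
        · exact key x h6 hx
        · refine (mul_mem_cancel_right (inv_mem (mem_zpowers b))).1 (key _ h6 ?_)
          rw [← mul_assoc, ← hx]; simp
      exact (card_le_of_le this).trans (by rw [Nat.card_zpowers, hb4]; norm_num)
    · obtain ⟨z, -, hz, hzo⟩ := H3.exists_mem_center_orderOf_eq hp ⊤ (by
        intro e
        have := card_eq_one.2 e
        rw [card_top, hG, Nat.pow_eq_one] at this
        omega)
      obtain ⟨H, hH, hHz⟩ : ∃ H : Subgroup G, Nat.card H = 2 ∧ H ≠ zpowers z := by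
        by_contra h1
        push Not at h1
        exact hu fun H K h2 h3 => (h1 H h2).trans (h1 K h3).symm
      obtain ⟨t, ht⟩ := exists_prime_orderOf_dvd_card' (G := H) 2 hH.symm.dvd
      rw [← orderOf_coe] at ht
      have h1 : zpowers (t : G) = H := eq_of_le_of_card_ge (zpowers_le.2 t.2) (by rw [Nat.card_zpowers, ht, hH])
      have hK := H43.isKleinFour_sup (mul_self_of_orderOf_two hzo) (mul_self_of_orderOf_two ht)
        (by intro e; rw [e, orderOf_one] at hzo; exact absurd hzo (by norm_num))
        (fun h2 => hHz (h1 ▸ eq_of_le_of_card_ge (zpowers_le.2 h2)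
          (by rw [Nat.card_zpowers, Nat.card_zpowers, ht, hzo]))) (mem_center_iff.1 hz t).symm
      exact S0112.result n hG _ hK.card_four (le_antisymm (h _ IsKleinFour.not_isCyclic)
        fun x hx y hy => klein_comm hK hy hx)
  · intro h H hH
    have h1 : Group.nilpotencyClass G = n - 1 := by
      have h2 := H4.pow_le_card_lowerCentralSeries hp (Group.nilpotencyClass G - 1) 1 (by omega)
      have h3 := H4.sq_le_index_commutator hp hnc
      have h4 := Nat.mul_le_mul h2 h3
      change _ ≤ Nat.card (commutator G) * _ at h4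
      rw [card_mul_index, hG, ← pow_add, Nat.pow_le_pow_iff_right one_lt_two] at h4
      omega
    have h4 := H4.index_commutator_of_maximal_class hn hG h1
    obtain ⟨a, ha⟩ := H4.exists_index_zpowers_eq_two G hp h4
    obtain ⟨b, hbH, hb⟩ : ∃ b ∈ H, b ∉ zpowers a := by
      by_contra h2
      push Not at h2
      exact hH (isCyclic_of_le h2)
    have h5 := H4.card_centralizer_le_four h4 ha hb
    have h6 : H ⊓ zpowers a ≠ ⊥ := by
      intro e
      have := card_eq_two_mul_card_inf (relIndex_top_right (zpowers a) ▸ ha) le_top hbH hb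
      rw [e, card_bot] at this
      exact hH (isCyclic_of_prime_card (p := 2) this)
    obtain ⟨z, hz⟩ := exists_prime_orderOf_dvd_card' (G := ↥(H ⊓ zpowers a)) 2
      ((hp.to_subgroup _).card_eq_or_dvd.resolve_left (mt card_eq_one.1 h6))
    rw [← orderOf_coe] at hz
    obtain ⟨m, hm⟩ := IsPGroup.iff_orderOf.1 hp a
    rcases m with _ | m
    · rw [pow_zero, orderOf_eq_one_iff] at hm
      exact absurd (by rw [hm, zpowers_one_eq_bot, inf_bot_eq]) h6
    have h7 := (H4.pow_half_mem_center ha hm).2
    rw [← H4.eq_pow_half hm z.2.2 hz] at h7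
    have h8 : 2 < Nat.card ↥(centralizer {b} ⊓ H) := by
      have := Fintype.ofFinite ↥(centralizer {b} ⊓ H)
      rw [Nat.card_eq_fintype_card, Fintype.two_lt_card_iff]
      refine ⟨1, ⟨z, mem_centralizer_singleton_iff.2 (mem_center_iff.1 h7 b).symm, z.2.1⟩,
        ⟨b, mem_centralizer_singleton_iff.2 rfl, hbH⟩, ?_, ?_, ?_⟩
      · intro e
        have : (1 : G) = z := congrArg Subtype.val e
        rw [← this, orderOf_one] at hz
        exact absurd hz (by norm_num)
      · intro e
        have : (1 : G) = b := congrArg Subtype.val e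
        exact hb (this ▸ one_mem _)
      · intro e
        have : (z : G) = b := congrArg Subtype.val e
        exact hb (this ▸ z.2.2)
    have h9 := H22.pow_succ_le_card_of_lt (hp.to_subgroup _) (k := 1) h8
    have h10 := eq_of_le_of_card_ge (inf_le_left : centralizer {b} ⊓ H ≤ _) (h5.trans h9)
    exact (centralizer_le (Set.singleton_subset_iff.2 hbH)).trans (inf_eq_left.1 h10)

end Cfsg.Agent.S3919
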