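import Cfsg.Statements.S3921
import Cfsg.Agent.H52.NonCycCent
import Cfsg.Agent.H25.CITCor
-- import your own Cfsg.Agent.* helpers here

set_option autoImplicit false
open Cfsg

namespace Cfsg.Agent.S3921

/-- Say that a group has self-centralizing non-cyclic subgroups when every non-cyclic subgroup H satisfies C_G(H) ≤ H. A non-abelian finite simple group has self-centralizing non-cyclic subgroups if and only if it is isomorphic to PSL₂(q) with q = 4, q = 9, or q a prime of the form 2^k + 1 or 2^k − 1. -/
theorem result {G : Type*} [Group G] [Finite G] [IsSimpleGroup G] (hna : ¬ IsMulCommutative G) :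
    (∀ H : Subgroup G, ¬ IsCyclic ↥H → Subgroup.centralizer (H : Set G) ≤ H) ↔ ∃ (F : Type) (_ : Field F) (_ : Fintype F),
      (Fintype.card F = 4 ∨ Fintype.card F = 9 ∨ ((Fintype.card F).Prime ∧ ∃ k : ℕ, Fintype.card F = 2 ^ k + 1 ∨ Fintype.card F = 2 ^ k - 1)) ∧
      Nonempty (G ≃* Matrix.ProjectiveSpecialLinearGroup (Fin 2) F) := by
  constructor
  · intro h
    have hG : ∃ a b : G, a * b ≠ b * a := by
      by_contra hc
      push Not at hc
      exact hna ⟨⟨hc⟩⟩
    obtain ⟨t, -, ht⟩ := H8.exists_involution_of_even (⊤ : Subgroup G)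
      (by rw [Subgroup.card_top]; exact H25.even_card_of_simple hG)
    obtain ⟨u, hu, hut, hc⟩ := H52.exists_commuting_invol hna ht
    have hK := H52.klein_of_commuting ht hu hut hc
    obtain ⟨F, iF, fF, hF, e⟩ := H12.psl2_of_four (H52.NCC.isCIT h hna)
      (fun x hx => H8.klein_mul_self hK hx) hK.card_four (H52.NCC.cent_klein h hK)
    refine ⟨F, iF, fF, Or.inr (hF.imp id fun h1 => ⟨h1.1, h1.2.imp fun k hk => ?_⟩), e⟩
    omega
  · rintro ⟨F, iF, fF, hF, ⟨e⟩⟩
    refine H52.NCC.of_equiv (H52.ncc_psl2 ?_ fun h2 => ?_) e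
    · rcases hF with h | h | h
      · exact Or.inr ⟨2, Nat.prime_two, h⟩
      · exact Or.inr ⟨3, Nat.prime_three, h⟩
      · exact Or.inl h.1
    · have hodd := H66.odd_card_of_two_ne h2
      rcases hF with h | h | ⟨hp, k, h | h⟩
      · omega
      · exact ⟨3, fun _ => by omega, fun _ => by omega⟩
      · by_cases h4 : Fintype.card F % 4 = 1
        · exact ⟨k, fun _ => by omega, fun h' => absurd h4 h'⟩
        · refine ⟨2, fun h' => absurd h' h4, fun _ => ?_⟩
          rcases k with _ | _ | k
          · omega
          · omega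
          · rw [pow_succ, pow_succ] at h
            omega
      · have := hp.two_le
        refine ⟨k, fun h' => ?_, fun _ => by omega⟩
        rcases k with _ | _ | k
        · omega
        · omega
        · rw [pow_succ, pow_succ] at h
          omega

end Cfsg.Agent.S3921
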