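import Cfsg.Statements.S3946
import Cfsg.Agent.H84.Kegel

set_option autoImplicit false
set_option linter.style.haveILetI false
open Cfsg

namespace Cfsg.Agent.S3946

open Subgroup Cfsg.Agent.H84

theorem pow_eq_one_of_coset {G : Type*} [Group G] [Finite G] {p : ℕ} (hp : p.Prime) (N : Subgroup G)
    [hN : N.Normal] (x : G) (h : ∀ n ∈ N, (n * x) ^ p = 1) (i : ℕ) (hi : ¬ p ∣ i) (n : G)
    (hn : n ∈ N) : (n * x ^ i) ^ p = 1 := by
  have h3 : ∀ f : N, ((f : G) * x) ^ i * (x ^ i)⁻¹ ∈ N := fun f => by
    rw [← QuotientGroup.eq_one_iff]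
    simp [(QuotientGroup.eq_one_iff (f : G)).2 f.2]
  let e : N → N := fun f => ⟨_, h3 f⟩
  have he : Function.Surjective e := by
    apply Finite.injective_iff_surjective.1
    intro a b hab
    have := mul_right_cancel (congrArg Subtype.val hab)
    exact Subtype.ext (mul_right_cancel (eq_of_pow_eq_pow_prime hp hi (h a a.2) (h b b.2) this))
  obtain ⟨f, hf⟩ := he ⟨n, hn⟩
  have : n = ((f : G) * x) ^ i * (x ^ i)⁻¹ := (congrArg Subtype.val hf).symm
  rw [this, inv_mul_cancel_right, ← pow_mul, mul_comm, pow_mul, h f f.2, one_pow]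


/-- Call an automorphism α of order n of a group G splitting when x · α(x) · α²(x) ⋯ α^(n−1)(x) = 1 for every x ∈ G. A finite group admitting a splitting automorphism of prime order is nilpotent (this contains the case of a fixed-point-free automorphism of prime order). -/
theorem result {G : Type*} [Group G] [Finite G] (α : MulAut G) (hp : (orderOf α).Prime)
    (hsplit : ∀ x : G, (((List.range (orderOf α)).map (fun i : ℕ => (α ^ i) x)).prod = 1)) : Group.IsNilpotent G := by
  let φ : zpowers α →* MulAut G := (zpowers α).subtype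
  let a : zpowers α := ⟨α, mem_zpowers α⟩
  haveI : Finite (G ⋊[φ] zpowers α) := Finite.of_equiv _ SemidirectProduct.equivProd.symm
  let N : Subgroup (G ⋊[φ] zpowers α) := (SemidirectProduct.rightHom).ker
  have hN : N = (SemidirectProduct.inl : G →* G ⋊[φ] zpowers α).range :=
    SemidirectProduct.range_inl_eq_ker_rightHom.symm
  have h1 : ∀ (g : G) (n : ℕ), (SemidirectProduct.inl g * SemidirectProduct.inr a :
      G ⋊[φ] zpowers α) ^ n = SemidirectProduct.inl
        ((List.range n).map (fun i : ℕ => (α ^ i) g)).prod * SemidirectProduct.inr (a ^ n) := by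
    intro g n
    induction n with
    | zero => simp
    | succ n ih =>
      rw [pow_succ, ih, List.range_succ, List.map_append, List.prod_append, map_mul, pow_succ,
        map_mul]
      have : (α ^ n) g = φ (a ^ n) g := rfl
      simp only [List.map_cons, List.map_nil, List.prod_cons, List.prod_nil, mul_one]
      rw [this, SemidirectProduct.inl_aut]
      simp [mul_assoc]
  have ha : a ^ orderOf α = 1 := Subtype.ext (pow_orderOf_eq_one α)
  have h2 : ∀ n ∈ N, (n * SemidirectProduct.inr a) ^ orderOf α = 1 := by
    rw [hN]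
    rintro _ ⟨g, rfl⟩
    rw [h1, hsplit, ha]
    simp
  haveI := isNilpotent_of_outside_pow hp N (fun h => by
    have h3 : SemidirectProduct.inr a ∈ N := by rw [h]; trivial
    rw [MonoidHom.mem_ker, SemidirectProduct.rightHom_inr] at h3
    have h4 : α = 1 := congrArg Subtype.val h3
    rw [h4, orderOf_one] at hp
    exact Nat.not_prime_one hp) (by
      intro g hg
      obtain ⟨i, hi⟩ := mem_powers_iff_mem_zpowers.2 (show (g.right : MulAut G) ∈ zpowers α from g.right.2)
      have h3 : g.right = a ^ i := Subtype.ext hi.symm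
      rw [← SemidirectProduct.inl_left_mul_inr_right g, h3, map_pow]
      refine pow_eq_one_of_coset hp N _ h2 i ?_ _ (hN ▸ ⟨_, rfl⟩)
      rintro ⟨j, rfl⟩
      apply hg
      rw [MonoidHom.mem_ker, SemidirectProduct.rightHom_eq_right, h3, pow_mul, ha, one_pow])
  rw [hN] at this
  exact Group.nilpotent_of_mulEquiv (MonoidHom.ofInjective
    (f := (SemidirectProduct.inl : G →* G ⋊[φ] zpowers α)) SemidirectProduct.inl_injective).symm

end Cfsg.Agent.S3946
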