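import Cfsg.Statements.S3999
import Cfsg.Agent.H81.NearCyclic
import Cfsg.Agent.H44.Cores
import Cfsg.Agent.S0034
import Cfsg.Agent.S0035
import Cfsg.Agent.S0039
import Cfsg.Agent.S0040
import Cfsg.Agent.S0042
import Mathlib.GroupTheory.SchurZassenhaus

set_option autoImplicit false
open Cfsg

namespace Cfsg.Agent.S3999


theorem transfer {F G : Type*} [Group F] [Finite F] [Group G] [Finite G] (C : Subgroup F)
    (hC : Cfsg.IsFrobeniusComplement C)
    (hT : ∀ m : ℕ, Nat.card {g : F // orderOf g = m} = Nat.card {h : G // orderOf h = m}) :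
    (∃ D : Subgroup G, Cfsg.IsFrobeniusComplement D) ∧
      (Group.IsSolvable F → Group.IsSolvable G) := by
  obtain ⟨K, hK, hKn, hc⟩ := S0035.result C hC
  obtain ⟨K', hK', -, hnil⟩ := S0042.result C hC
  have hKK : K' = K := SetLike.coe_injective (hK'.trans hK.symm)
  subst hKK
  have hKb : K' ≠ ⊥ := by
    rintro rfl
    exact hC.2.1 (by simpa using hc.sup_eq_top)
  have hfpf := (S0039.result K' C hc hKb hC.1).1 hC
  have hidx : C.index = Nat.card K' := hc.index_eq_card
  have hidx' : K'.index = Nat.card C := hc.symm.index_eq_card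
  have hcop : Nat.Coprime (Nat.card K') (Nat.card C) := by
    have h1 : Nat.ModEq (Nat.card C) C.index 1 := (S0034.result C hC).2
    have := h1.gcd_eq
    rw [hidx, Nat.gcd_one_left] at this
    exact this
  obtain ⟨e, he⟩ := H81.exists_equiv_of_orderType hT
  have hcard : Nat.card F = Nat.card G := Nat.card_congr e
  have hFcard : Nat.card K' * Nat.card C = Nat.card F := hc.card_mul
  have hordF : ∀ g : F, orderOf g ∣ Nat.card K' ∨ orderOf g ∣ Nat.card C := by
    intro g
    by_cases hg : g ∈ K'
    · exact Or.inl (K'.orderOf_dvd_natCard hg)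
    · right
      rw [← SetLike.mem_coe, hK] at hg
      simp only [Cfsg.frobeniusKernel, Set.mem_setOf_eq, not_or, not_forall, not_not] at hg
      obtain ⟨-, x, hx⟩ := hg
      rw [Subgroup.mem_pointwise_smul_iff_inv_smul_mem] at hx
      have := C.orderOf_dvd_natCard hx
      rwa [MulAut.smul_def, MulEquiv.orderOf_eq] at this
  have hordG : ∀ g : G, orderOf g ∣ Nat.card K' ∨ orderOf g ∣ Nat.card C := by
    intro g
    obtain ⟨f, rfl⟩ := e.surjective g
    rw [he]; exact hordF f
  have hnot : ∀ r : ℕ, r.Prime → r ∣ Nat.card C → ¬ r ∣ Nat.card K' := fun r hr h1 h2 =>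
    hr.one_lt.ne' (Nat.eq_one_of_dvd_coprimes hcop h2 h1)
  -- Sylow subgroups for primes dividing the kernel are normal
  have hsyl : ∀ (p : ℕ) [Fact p.Prime], p ∣ Nat.card K' → ∀ Q : Sylow p G,
      (Q : Subgroup G).Normal := by
    intro p hp hpK Q
    obtain ⟨P⟩ : Nonempty (Sylow p K') := inferInstance
    have hPc : (P : Subgroup K').Characteristic := P.characteristic_of_normal inferInstance
    have hPn : ((P : Subgroup K').map K'.subtype).Normal := inferInstance
    have hPi : ¬ p ∣ ((P : Subgroup K').map K'.subtype).index := by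
      rw [Subgroup.index_map_subtype, hidx']
      intro h
      rcases (Nat.Prime.dvd_mul hp.out).1 h with h | h
      · exact P.not_dvd_index h
      · exact hnot p hp.out h hpK
    let P' : Sylow p F := (P.isPGroup'.map K'.subtype).toSylow hPi
    apply H81.normal_of_piCard
    rw [← H81.piCard_eq_of_orderType hT, H81.piCard_of_normal P' hPn, P'.card_eq_multiplicity,
      Q.card_eq_multiplicity, hcard]
  let N : Subgroup G := H44.rad (H44.PiC {r | r ∣ Nat.card K'}) G
  have hNn : N.Normal := inferInstance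
  have hNpi : ∀ r : ℕ, r.Prime → r ∣ Nat.card N → r ∣ Nat.card K' :=
    (H44.eclass_PiC {r | r ∣ Nat.card K'}).fclass.rad_mem (G := G)
  have hQN : ∀ (p : ℕ) [Fact p.Prime], p ∣ Nat.card K' → ∀ Q : Sylow p G,
      (Q : Subgroup G) ≤ N := by
    intro p hp hpK Q
    refine H44.le_rad (hsyl p hpK Q) fun r hr hd => ?_
    rw [Q.card_eq_multiplicity] at hd
    rw [(Nat.prime_dvd_prime_iff_eq hr hp.out).1 (hr.dvd_of_dvd_pow hd)]
    exact hpK
  have hquot : Nat.card (F ⧸ K') = Nat.card C := hidx'
  have hpiF : H81.piCard (· ∣ Nat.card K') F = Nat.card K' := by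
    rw [H81.piCard_quotient _ K' (fun r _ h => h), H81.piCard_of_forall_not, one_mul]
    intro r hr hd
    exact hnot r hr (hquot ▸ hd)
  have hNcard : Nat.card N = Nat.card K' := by
    apply le_antisymm
    · rw [← hpiF, H81.piCard_eq_of_orderType hT]
      refine Nat.card_le_card_of_injective
        (fun n : N => (⟨n.1, fun r hr hd => hNpi r hr (hd.trans (N.orderOf_dvd_natCard n.2))⟩ :
          {g : G // ∀ r : ℕ, r.Prime → r ∣ orderOf g → r ∣ Nat.card K'})) ?_
      intro a b hab
      exact Subtype.ext (by simpa using hab)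
    · refine Nat.le_of_dvd Nat.card_pos ?_
      rw [Nat.dvd_iff_prime_pow_dvd_dvd]
      intro p k hp hk
      rcases Nat.eq_zero_or_pos k with rfl | hk0
      · simp
      have := Fact.mk hp
      obtain ⟨Q⟩ : Nonempty (Sylow p G) := inferInstance
      refine Dvd.dvd.trans ?_ (Subgroup.card_dvd_of_le (hQN p ((dvd_pow_self p hk0.ne').trans hk) Q))
      rw [Q.card_eq_multiplicity]
      refine pow_dvd_pow p ((hp.pow_dvd_iff_le_factorization Nat.card_pos.ne').1 ?_)
      rw [← hcard, ← hFcard]
      exact hk.mul_right _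
  have hNidx : N.index = Nat.card C := by
    have := N.card_mul_index
    rw [hNcard, ← hcard, ← hFcard] at this
    exact Nat.eq_of_mul_eq_mul_left Nat.card_pos this
  have hNsol : Group.IsSolvable N := by
    have hle : N ≤ Cfsg.fittingSubgroup G := by
      refine H44.le_of_sylow_le fun p hp hd => ?_
      obtain ⟨P⟩ : Nonempty (Sylow p N) := inferInstance
      obtain ⟨Q, hQ⟩ := (P.isPGroup'.map N.subtype).exists_le_sylow
      exact ⟨P, hQ.trans (H44.le_fitting (hsyl p (hNcard ▸ hd) Q) Q.isPGroup'.isNilpotent)⟩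
    have := H44.fitting_isNilpotent (G := G)
    exact Group.isSolvable_of_isSolvable_injective (Subgroup.inclusion_injective hle)
  constructor
  · obtain ⟨D, hD⟩ := Subgroup.exists_right_complement'_of_coprime (N := N)
      (by rw [hNidx, hNcard]; exact hcop)
    have hDcard : Nat.card D = Nat.card C := by rw [← hNidx, hD.symm.index_eq_card]
    refine ⟨D, (S0039.result N D hD ?_ ?_).2 fun h hh hh1 => ?_⟩
    · rw [← Subgroup.one_lt_card_iff_ne_bot] at hKb ⊢
      rwa [hNcard]
    · have := hC.1
      rw [← Subgroup.one_lt_card_iff_ne_bot] at this ⊢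
      rwa [hDcard]
    · rw [eq_bot_iff]
      rintro n ⟨hn, hnh⟩
      have hcomm : Commute n h := Subgroup.mem_centralizer_singleton_iff.1 hnh
      have h1 : orderOf n ∣ Nat.card K' := hNcard ▸ N.orderOf_dvd_natCard hn
      have h2 : orderOf h ∣ Nat.card C := hDcard ▸ D.orderOf_dvd_natCard hh
      have h3 := hcomm.orderOf_mul_eq_mul_orderOf_of_coprime
        (Nat.Coprime.coprime_dvd_left h1 (Nat.Coprime.coprime_dvd_right h2 hcop))
      rcases hordG (n * h) with h4 | h4
      · rw [h3] at h4
        exact absurd (orderOf_eq_one_iff.1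
          (Nat.eq_one_of_dvd_coprimes hcop ((Dvd.intro_left _ rfl).trans h4) h2)) hh1
      · rw [h3] at h4
        exact orderOf_eq_one_iff.1
          (Nat.eq_one_of_dvd_coprimes hcop h1 ((Dvd.intro _ rfl).trans h4))
  · intro hsol
    refine (Group.isSolvable_iff_subgroup_quotient N).2 ⟨hNsol, ?_⟩
    have hnc : H81.NearCyclic C :=
      H81.nearCyclic_of_sylow fun r _ R => S0040.result K' C hc hKb hfpf r R
    have hsurj : Function.Surjective ((QuotientGroup.mk' K').comp C.subtype) := by
      intro q
      obtain ⟨g, rfl⟩ := QuotientGroup.mk'_surjective K' q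
      have hg : g ∈ K' ⊔ C := by rw [hc.sup_eq_top]; trivial
      obtain ⟨k, hk, c, hcm, rfl⟩ := Subgroup.mem_sup_of_normal_left.1 hg
      refine ⟨⟨c, hcm⟩, ?_⟩
      simp [(QuotientGroup.eq_one_iff k).2 hk]
    refine H81.isSolvable_of_piCard_eq_of_nearCyclic (G := F ⧸ K')
      ((Group.isSolvable_iff_subgroup_quotient K').1 hsol).2 (hnc.of_surjective _ hsurj) fun t => ?_
    have e1 := H81.piCard_quotient (fun r => r ∣ Nat.card K' ∨ t ≤ r) K' fun r _ h => Or.inl h
    have e2 := H81.piCard_quotient (fun r => r ∣ Nat.card K' ∨ t ≤ r) N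
      fun r _ h => Or.inl (hNcard ▸ h)
    rw [H81.piCard_eq_of_orderType hT, e2, hNcard] at e1
    have e3 := Nat.eq_of_mul_eq_mul_right Nat.card_pos e1
    have hquot' : Nat.card (G ⧸ N) = Nat.card C := hNidx
    rw [H81.piCard_congr (σ := (t ≤ ·)), H81.piCard_congr (G := F ⧸ K') (σ := (t ≤ ·))] at e3
    · exact e3.symm
    · intro r hr hd
      simp [hnot r hr (hquot ▸ hd)]
    · intro r hr hd
      simp [hnot r hr (hquot' ▸ hd)]

/-- Let F be a finite Frobenius group (it has a Frobenius complement) and G a finite group with the same order type as F (for every m the same number of elements of order m). Then G is a Frobenius group; moreover G is solvable if and only if F is. -/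
theorem result {F G : Type*} [Group F] [Finite F] [Group G] [Finite G] (hF : (∃ C : Subgroup F, Cfsg.IsFrobeniusComplement C)) (hT : (∀ m : ℕ, Nat.card {g : F // orderOf g = m} = Nat.card {h : G // orderOf h = m})) :
    (∃ C : Subgroup G, Cfsg.IsFrobeniusComplement C) ∧ (Group.IsSolvable G ↔ Group.IsSolvable F) := by
  obtain ⟨C, hC⟩ := hF
  obtain ⟨⟨D, hD⟩, h⟩ := transfer C hC hT
  exact ⟨⟨D, hD⟩, (transfer D hD fun m => (hT m).symm).2, h⟩

end Cfsg.Agent.S3999
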