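import Cfsg.Statements.S4001
import Cfsg.Agent.H81.FrobKit
import Cfsg.Agent.H81.Eppo
import Cfsg.Agent.H84.Frob
import Cfsg.Agent.S0040
import Cfsg.Agent.S0042
import Cfsg.Agent.S0050
import Cfsg.Agent.S0666
import Cfsg.Agent.H3.NilpotentHall
import Mathlib.GroupTheory.SpecificGroups.ZGroup

set_option autoImplicit false
open Cfsg

namespace Cfsg.Agent.S4001


open Subgroup

theorem nilp {G : Type*} [Group G] [Finite G] {C N : Subgroup G} (hC : IsFrobeniusComplement C)
    (hN : frobeniusKernel C = (N : Set G)) : Group.IsNilpotent N := by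
  obtain ⟨K, hK, -, h⟩ := S0042.result C hC
  rwa [← SetLike.coe_injective (hK.trans hN)]

theorem exists_of_map {G G' : Type*} [Group G] [Finite G] [Group G'] (f : G →* G')
    (hf : Function.Surjective f) {n : ℕ} (h : ∃ y : G', orderOf y = n) : ∃ g : G, orderOf g = n := by
  obtain ⟨y, rfl⟩ := h
  obtain ⟨g, rfl⟩ := hf y
  obtain ⟨x, -, hx⟩ := H81.exists_orderOf_eq_of_dvd (orderOf_map_dvd f g)
  exact ⟨x, hx⟩

theorem exists_of_isCyclic {G : Type*} [Group G] [Finite G] (h : IsCyclic G) {n : ℕ}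
    (hn : n ∣ Nat.card G) : ∃ g : G, orderOf g = n := by
  obtain ⟨g, hg⟩ := h.exists_generator
  obtain ⟨x, -, hx⟩ := H81.exists_orderOf_eq_of_dvd (x := g) (n := n)
    (by rwa [orderOf_eq_card_of_forall_mem_zpowers hg])
  exact ⟨x, hx⟩

/-- Let G be a 2-Frobenius group: it has normal subgroups H < K with K a Frobenius group with kernel H and G/H a Frobenius group with kernel K/H. Then G is solvable; K/H has odd order coprime to the order of H and to the order of G/K (it is the image of an odd-order Hall subgroup); G/K is cyclic; and the prime graph of G has exactly two connected components, both complete: for distinct primes p, q dividing the order of G, G has an element of order pq exactly when p and q either both divide the order of K/H or both do not. -/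
theorem result {G : Type*} [Group G] [Finite G] (H K : Subgroup G) [H.Normal] [K.Normal] (hlt : H < K)
    (hK : ∃ C : Subgroup ↥K, Cfsg.IsFrobeniusComplement C ∧ Cfsg.frobeniusKernel C = (H.subgroupOf K : Set ↥K))
    (hGH : ∃ C : Subgroup (G ⧸ H), Cfsg.IsFrobeniusComplement C ∧ Cfsg.frobeniusKernel C = (K.map (QuotientGroup.mk' H) : Set (G ⧸ H))) :
    Group.IsSolvable G ∧ Odd (Nat.card (↥K ⧸ H.subgroupOf K)) ∧
      Nat.Coprime (Nat.card (↥K ⧸ H.subgroupOf K)) (Nat.card ↥H * Nat.card (G ⧸ K)) ∧ IsCyclic (G ⧸ K) ∧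
      ∀ p q : ℕ, p.Prime → q.Prime → p ≠ q → p ∣ Nat.card G → q ∣ Nat.card G →
        ((∃ g : G, orderOf g = p * q) ↔ (p ∣ Nat.card (↥K ⧸ H.subgroupOf K) ↔ q ∣ Nat.card (↥K ⧸ H.subgroupOf K))) := by
  obtain ⟨C, hC, hCk⟩ := hK
  obtain ⟨D, hD, hDk⟩ := hGH
  obtain ⟨-, hc1, hb1, hcop1, hf1, hg1⟩ := H81.frob_kit hC hCk
  obtain ⟨hn2, hc2, hb2, hcop2, hf2, hg2⟩ := H81.frob_kit hD hDk
  set K' := K.map (QuotientGroup.mk' H) with hK'
  have e0 : H.subgroupOf K ≃* H := subgroupOfEquivOfLe hlt.le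
  have e1 : K ⧸ H.subgroupOf K ≃* C := hc1.symm.QuotientMulEquiv
  have e2 : G ⧸ K ≃* D :=
    (QuotientGroup.quotientQuotientEquivQuotient H K hlt.le).symm.trans hc2.symm.QuotientMulEquiv
  have e3 : K ⧸ H.subgroupOf K ≃* K' :=
    (QuotientGroup.quotientMulEquivOfEq (by
      ext x
      rw [MonoidHom.mem_ker, mem_subgroupOf, ← QuotientGroup.eq_one_iff, Subtype.ext_iff]
      rfl)).trans (QuotientGroup.quotientKerEquivOfSurjective _
        ((QuotientGroup.mk' H).subgroupMap_surjective K))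
  have c1 : Nat.card (K ⧸ H.subgroupOf K) = Nat.card C := Nat.card_congr e1.toEquiv
  have c2 : Nat.card (G ⧸ K) = Nat.card D := Nat.card_congr e2.toEquiv
  have c3 : Nat.card (K ⧸ H.subgroupOf K) = Nat.card K' := Nat.card_congr e3.toEquiv
  have c0 : Nat.card (H.subgroupOf K) = Nat.card H := Nat.card_congr e0.toEquiv
  have hG : Nat.card G = Nat.card K' * (Nat.card H * Nat.card D) := by
    rw [card_eq_card_quotient_mul_card_subgroup H, ← hc2.card_mul]; ring
  have hodd : Odd (Nat.card K') := by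
    rw [← Nat.not_even_iff_odd, even_iff_two_dvd]
    intro h2
    obtain ⟨t, ht⟩ := exists_prime_orderOf_dvd_card' 2 h2
    obtain ⟨⟨d, hd⟩, hd1⟩ := ne_bot_iff_exists_ne_one.1 hD.1
    have hd1' : d ≠ 1 := fun e => hd1 (Subtype.ext e)
    let e := e3.symm.trans e1
    have h3 : orderOf (⟨d * t * d⁻¹, hn2.conj_mem _ t.2 d⟩ : K') = 2 := by
      rw [Subgroup.orderOf_mk, H8.orderOf_conj', Subgroup.orderOf_coe, ht]
    have h4 := H81.involution_unique_of_fpf hb1 hf1 (e ⟨_, hn2.conj_mem _ t.2 d⟩).2 (e t).2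
      (by rw [Subgroup.orderOf_coe, e.orderOf_eq, h3]) (by rw [Subgroup.orderOf_coe, e.orderOf_eq, ht])
    have h5 : d * t * d⁻¹ = t := congrArg Subtype.val (e.injective (Subtype.ext h4))
    have h6 : (t : G ⧸ H) ∈ K' ⊓ centralizer {d} :=
      ⟨t.2, mem_centralizer_singleton_iff.2 (mul_inv_eq_iff_eq_mul.1 h5).symm⟩
    rw [hf2 d hd hd1', mem_bot] at h6
    rw [show t = 1 from Subtype.ext h6, orderOf_one] at ht
    omega
  have hZ : IsZGroup C := ⟨fun p hp P => by
    have := Fact.mk hp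
    rcases S0040.result _ C hc1 hb1 hf1 p P with h | ⟨n, ⟨e⟩⟩
    · exact h
    · exfalso
      have h1 := card_subgroup_dvd_card (P : Subgroup C)
      rw [Nat.card_congr e.toEquiv, Nat.card_eq_fintype_card, QuaternionGroup.card, ← c1, c3] at h1
      exact Nat.not_even_iff_odd.2 hodd (even_iff_two_dvd.2
        (Dvd.dvd.trans (Dvd.dvd.mul_right (by decide) _) h1))⟩
  have hnK : Group.IsNilpotent K' := nilp hD hDk
  have hnH' := nilp hC hCk
  have hnH : Group.IsNilpotent H := Group.nilpotent_of_mulEquiv e0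
  have hnC : Group.IsNilpotent C := Group.nilpotent_of_mulEquiv (e3.symm.trans e1)
  have hcC : IsCyclic C := inferInstance
  have hcK : IsCyclic K' := isCyclic_of_surjective (e1.symm.trans e3) (e1.symm.trans e3).surjective
  have hDc : IsMulCommutative D := by
    refine H2.isMulCommutative_of_forall fun x hx y hy => ?_
    by_contra hne
    apply hb2
    rw [← hf2 (x * y * (y * x)⁻¹) (mul_mem (mul_mem hx hy) (inv_mem (mul_mem hy hx)))
      (fun e => hne (mul_inv_eq_one.1 e)), left_eq_inf]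
    have h1 : (MulAut.conjNormal (H := K')) (x * y * (y * x)⁻¹) = 1 := by
      apply (IsCyclic.mulAutMulEquiv K').injective
      simp only [map_mul, map_inv, map_one]
      rw [mul_comm (IsCyclic.mulAutMulEquiv K' _), mul_inv_cancel]
    intro k hk
    have h2 : x * y * (y * x)⁻¹ * k * (x * y * (y * x)⁻¹)⁻¹ = k :=
      congrArg Subtype.val (congrArg (· (⟨k, hk⟩ : K')) h1)
    exact mem_centralizer_singleton_iff.2 (mul_inv_eq_iff_eq_mul.1 h2).symm
  have hcD : IsCyclic D := S0041.result D K' hb2 le_normalizer_of_normal hf2 (Or.inl hDc)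
  have hcGK : IsCyclic (G ⧸ K) := isCyclic_of_surjective e2.symm e2.symm.surjective
  have hsolK : Group.IsSolvable K := by
    have : IsCyclic (K ⧸ H.subgroupOf K) := isCyclic_of_surjective e1.symm e1.symm.surjective
    exact (Group.isSolvable_iff_subgroup_quotient (H.subgroupOf K)).2 ⟨inferInstance,
      Group.isSolvable_of_comm mul_comm'⟩
  have hcopH : Nat.Coprime (Nat.card K') (Nat.card H) := by rw [← c3, c1, ← c0]; exact hcop1.symm
  refine ⟨(Group.isSolvable_iff_subgroup_quotient K).2 ⟨hsolK, Group.isSolvable_of_comm mul_comm'⟩,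
    c3 ▸ hodd, by rw [c3, c2]; exact Nat.Coprime.mul_right hcopH hcop2, hcGK, ?_⟩
  rw [c3]
  have hno : ∀ p q : ℕ, p.Prime → q.Prime → p ∣ Nat.card K' → ¬ q ∣ Nat.card K' →
      ∀ g : G, orderOf g ≠ p * q := by
    intro p q hp hq h1 h2 g hg
    obtain ⟨x, ⟨i, rfl⟩, hx⟩ := H81.exists_orderOf_eq_of_dvd (x := g) (n := p) (hg ▸ Dvd.intro _ rfl)
    obtain ⟨y, ⟨j, rfl⟩, hy⟩ := H81.exists_orderOf_eq_of_dvd (x := g) (n := q)
      (hg ▸ Dvd.intro_left _ rfl)
    simp only at hx hy
    have hxy : g ^ j * g ^ i = g ^ i * g ^ j := (Commute.zpow_zpow_self g j i).eq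
    have hxH : g ^ i ∉ H := fun h => hp.one_lt.ne'
      (Nat.eq_one_of_dvd_coprimes hcopH h1 (hx ▸ H.orderOf_dvd_natCard h))
    have hxK : g ^ i ∈ K := by
      rw [← QuotientGroup.eq_one_iff, ← orderOf_eq_one_iff]
      refine Nat.eq_one_of_dvd_coprimes hcop2 (Dvd.dvd.trans ?_ h1) (c2 ▸ orderOf_dvd_natCard _)
      rw [← hx]; exact orderOf_map_dvd (QuotientGroup.mk' K) _
    have h3 : QuotientGroup.mk' H (g ^ j) ∈ K' := by
      by_contra h
      exact hxH ((QuotientGroup.eq_one_iff _).1 (hg2 _ h (QuotientGroup.mk' H (g ^ i))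
        (mem_map_of_mem _ hxK) (by rw [← map_mul, ← map_mul, hxy])))
    have hyH : g ^ j ∈ H := by
      rw [← QuotientGroup.eq_one_iff, ← orderOf_eq_one_iff]
      refine Nat.eq_one_of_dvd_coprimes ((Nat.Prime.coprime_iff_not_dvd hq).2 h2) ?_
        (K'.orderOf_dvd_natCard h3)
      rw [← hy]; exact orderOf_map_dvd (QuotientGroup.mk' H) _
    have h4 := hg1 ⟨_, hxK⟩ hxH ⟨_, hlt.le hyH⟩ hyH (Subtype.ext hxy.symm)
    rw [show g ^ j = 1 from congrArg Subtype.val h4, orderOf_one] at hy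
    exact hq.one_lt.ne hy
  have hmix : ∀ p q : ℕ, p.Prime → q.Prime → p ≠ q → p ∣ Nat.card H → q ∣ Nat.card D →
      ∃ g : G, orderOf g = p * q := by
    intro p q hp hq hpq h1 h2
    have := Fact.mk hp
    have := Fact.mk hq
    let C₀ := C.map K.subtype
    have hC₀ : Nat.card C₀ = Nat.card C := card_map_of_injective K.subtype_injective
    let F := normalizer (C₀ : Set G)
    have hHC : H ⊔ C₀ = K := by
      have := congrArg (map K.subtype) hc1.sup_eq_top
      rwa [Subgroup.map_sup, map_subgroupOf_eq_of_le hlt.le, ← MonoidHom.range_eq_map,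
        range_subtype] at this
    have h3 : K ⊔ F = ⊤ := S0050.result K hsolK C₀ (map_subtype_le _) (by
      rw [hC₀, relIndex, show C₀.subgroupOf K = C from
        comap_map_eq_self_of_injective K.subtype_injective C, hc1.index_eq_card]
      exact hcop1.symm)
    have h4 : H ⊔ F = ⊤ := by
      rw [← h3, ← hHC, sup_assoc, sup_eq_right.2 (le_normalizer (H := C₀))]
    have hinj : ∀ x ∈ F, x ∈ H → x = 1 := by
      intro x hxF hxH
      obtain ⟨⟨c, hc⟩, hc1'⟩ := ne_bot_iff_exists_ne_one.1 hC.1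
      have hc1'' : c ≠ 1 := fun e => hc1' (Subtype.ext e)
      have h5 : x * c * x⁻¹ ∈ C₀ := (mem_normalizer_iff.1 hxF c).1 ⟨c, hc, rfl⟩
      obtain ⟨c', hc', hcc⟩ := h5
      have h6 : c' * c⁻¹ ∈ H.subgroupOf K ⊓ C := by
        refine ⟨?_, C.mul_mem hc' (C.inv_mem hc)⟩
        show (c' : G) * (c : G)⁻¹ ∈ H
        rw [show (c' : G) = x * c * x⁻¹ from hcc, mul_assoc, mul_assoc]
        exact mul_mem hxH (by
          simpa [mul_assoc] using (inferInstance : H.Normal).conj_mem _ (inv_mem hxH) c)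
      rw [hc1.disjoint.eq_bot, mem_bot, mul_inv_eq_one] at h6
      have h7 : (⟨x, hlt.le hxH⟩ : K) ∈ H.subgroupOf K ⊓ centralizer {c} := by
        refine ⟨hxH, mem_centralizer_singleton_iff.2 (Subtype.ext ?_)⟩
        rw [h6] at hcc
        exact (mul_inv_eq_iff_eq_mul.1 (show x * c * x⁻¹ = c from hcc.symm))
      rw [hf1 c hc hc1'', mem_bot] at h7
      exact congrArg Subtype.val h7
    have hbij : Function.Bijective ((QuotientGroup.mk' H).comp F.subtype) := by
      constructor
      · rw [injective_iff_map_eq_one]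
        intro x hx
        exact Subtype.ext (hinj x x.2 ((QuotientGroup.eq_one_iff _).1 hx))
      · intro y
        obtain ⟨g, rfl⟩ := QuotientGroup.mk'_surjective H y
        obtain ⟨a, ha, b, hb, rfl⟩ := mem_sup_of_normal_left.1 (h4 ▸ mem_top g : g ∈ H ⊔ F)
        exact ⟨⟨b, hb⟩, by simp [(QuotientGroup.eq_one_iff a).2 ha]⟩
    let e : F ≃* G ⧸ H := MulEquiv.ofBijective _ hbij
    obtain ⟨P⟩ : Nonempty (Sylow p H) := inferInstance
    have hPc : (P : Subgroup H).Characteristic := P.characteristic_of_normal inferInstance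
    obtain ⟨V, r, -, hVn, hV, hVle, hVc, -⟩ := H2.exists_minimal_normal_le_of_solvable
      ((P : Subgroup H).map H.subtype) inferInstance
      (H81.isSolvable_of_isPGroup (P.isPGroup'.map _)) (by
        rw [Ne, map_eq_bot_iff_of_injective _ H.subtype_injective]
        exact P.ne_bot_of_dvd_card h1)
    have hVH : V ≤ H := hVle.trans (map_subtype_le _)
    have hVp : IsPGroup p V := (P.isPGroup'.map _).to_le hVle
    have hker := H84.frobeniusKernel_map e.symm D
    rw [hDk] at hker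
    have h5 := S0666.result V F hVc hV le_normalizer_of_normal _ (H84.isFrob_map e.symm hD) (by
      rw [hker, Nat.card_congr (Equiv.Set.image _ _ e.symm.injective).symm]
      exact (Nat.Coprime.coprime_dvd_right (card_dvd_of_le hVH) hcopH).symm) (by
      rw [hker, eq_bot_iff]
      rintro v ⟨hv, hvc⟩
      obtain ⟨⟨k, hk⟩, hk1⟩ := ne_bot_iff_exists_ne_one.1 hb2
      have h6 : QuotientGroup.mk' H (e.symm k) = k := e.apply_symm_apply k
      have h7 : ((e.symm k : F) : G) ∈ K := by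
        have := mem_comap.2 (h6.symm ▸ hk : QuotientGroup.mk' H (e.symm k) ∈ K')
        rwa [hK', comap_map_eq, QuotientGroup.ker_mk', sup_eq_left.2 hlt.le] at this
      have h8 := hg1 ⟨_, h7⟩ (fun h => hk1 (Subtype.ext
        (h6.symm.trans ((QuotientGroup.eq_one_iff _).2 h)))) ⟨v, hlt.le (hVH hv)⟩ (hVH hv)
        (Subtype.ext (mem_centralizer_iff.1 hvc _ ⟨_, ⟨k, hk, rfl⟩, rfl⟩))
      exact congrArg Subtype.val h8)
    obtain ⟨⟨v, hv, hvc⟩, hv1⟩ := ne_bot_iff_exists_ne_one.1 h5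
    obtain ⟨d, hd⟩ := exists_prime_orderOf_dvd_card' q h2
    obtain ⟨g, -, hg⟩ := H81.exists_orderOf_eq_mul_of_commute (x := v) (y := (e.symm d : F))
      (p := p) (q := q)
      (mem_centralizer_iff.1 hvc _ ⟨_, ⟨d, d.2, rfl⟩, rfl⟩).symm ((Nat.coprime_primes hp hq).2 hpq)
      (by
        obtain ⟨s, hs, hd'⟩ := Nat.exists_prime_and_dvd
          (mt orderOf_eq_one_iff.1 (fun e => hv1 (Subtype.ext e) : v ≠ 1))
        exact H81.forall_prime_of_mem_isPGroup hp hVp hv s hs hd' ▸ hd')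
      (by rw [Subgroup.orderOf_coe, e.symm.orderOf_eq, Subgroup.orderOf_coe, hd])
    exact ⟨g, hg⟩
  intro p q hp hq hpq h1 h2
  have hcpq := (Nat.coprime_primes hp hq).2 hpq
  constructor
  · rintro ⟨g, hg⟩
    constructor
    · intro h; by_contra h'; exact hno p q hp hq h h' g hg
    · intro h; by_contra h'; exact hno q p hq hp h h' g (hg.trans (mul_comm _ _))
  · intro h
    by_cases hpK : p ∣ Nat.card K'
    · obtain ⟨y, hy⟩ := exists_of_isCyclic hcK (hcpq.mul_dvd_of_dvd_of_dvd hpK (h.1 hpK))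
      exact exists_of_map _ (QuotientGroup.mk'_surjective H) ⟨y, by rw [Subgroup.orderOf_coe, hy]⟩
    have hqK : ¬ q ∣ Nat.card K' := fun h' => hpK (h.2 h')
    rw [hG] at h1 h2
    rcases (Nat.Prime.dvd_mul hp).1 (((Nat.Prime.dvd_mul hp).1 h1).resolve_left hpK) with h3 | h3 <;>
    rcases (Nat.Prime.dvd_mul hq).1 (((Nat.Prime.dvd_mul hq).1 h2).resolve_left hqK) with h4 | h4
    · have := Fact.mk hp
      have := Fact.mk hq
      obtain ⟨x, hx⟩ := exists_prime_orderOf_dvd_card' p h3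
      obtain ⟨y, hy⟩ := exists_prime_orderOf_dvd_card' q h4
      obtain ⟨g, -, hg⟩ := H81.exists_orderOf_eq_mul_of_commute
        (H3.commute_of_coprime_orderOf x y (by rwa [hx, hy])) hcpq hx.symm.dvd hy.symm.dvd
      exact ⟨g, by rw [Subgroup.orderOf_coe, hg]⟩
    · exact hmix p q hp hq hpq h3 h4
    · rw [mul_comm]; exact hmix q p hq hp hpq.symm h4 h3
    · exact exists_of_map _ (QuotientGroup.mk'_surjective K)
        (exists_of_isCyclic hcGK (c2 ▸ hcpq.mul_dvd_of_dvd_of_dvd h3 h4))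

end Cfsg.Agent.S4001
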