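import Cfsg.Statements.S4016
import Cfsg.Agent.H81.CycSyl
import Cfsg.Agent.H81.Friend
import Cfsg.Agent.H54.FT
import Cfsg.Agent.H8.InvAbProd
import Cfsg.Agent.S0144
import Cfsg.Agent.H44.Cores
import Cfsg.Agent.H1.Hall

set_option autoImplicit false
open Cfsg

namespace Cfsg.Agent.S4016

open Subgroup

universe u

variable {G : Type u} [Group G] [Finite G] {p : ℕ} [hp : Fact p.Prime]

/-- The configuration of a minimal counterexample. -/
structure Cex (p : ℕ) (G : Type u) [Group G] : Prop where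
  cyc : ∀ P : Sylow p G, IsCyclic P
  ab : ∀ H : Subgroup G, ¬ p ∣ Nat.card H → IsMulCommutative H
  nnpc : ¬ HasNormalPComplement p G
  nn : ∀ P : Sylow p G, ¬ (P : Subgroup G).Normal
  ih : ∀ (P : Sylow p G) (L : Subgroup G), L ≠ ⊤ → (P : Subgroup G) ≤ L →
    HasNormalPComplement p L ∨ L ≤ normalizer (P : Set G)
  core : ∀ M : Subgroup G, M.Normal → ¬ p ∣ Nat.card M → M = ⊥

theorem exists_reg (h : ¬ HasNormalPComplement p G) (P : Sylow p G) :
    ∃ y ∈ normalizer (P : Set G), y ∉ centralizer (P : Set G) := by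
  by_contra hc
  push Not at hc
  exact h (H3.hasNormalPComplement_of_normalizer_le_centralizer P hc)

theorem commutator_mem (hab : ∀ H : Subgroup G, ¬ p ∣ Nat.card H → IsMulCommutative H)
    (P : Sylow p G) {a b : G} (ha : a ∈ normalizer (P : Set G)) (hb : b ∈ normalizer (P : Set G)) :
    a * b * a⁻¹ * b⁻¹ ∈ (P : Subgroup G) := by
  let N := normalizer (P : Set G)
  let Q : Subgroup N := (P : Subgroup G).subgroupOf N
  have : Q.Normal := normal_in_normalizer
  have hQ : ¬ p ∣ Q.index := (P.subtype le_normalizer).not_dvd_index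
  obtain ⟨k, hk⟩ := IsPGroup.iff_card.1 (P.subtype le_normalizer).isPGroup'
  obtain ⟨H, hH⟩ := exists_right_complement'_of_coprime (N := Q)
    (hk ▸ ((Nat.Prime.coprime_iff_not_dvd hp.out).2 hQ).pow_left k)
  have h1 := hab (H.map N.subtype) (by
    rw [card_map_of_injective N.subtype_injective, ← hH.symm.index_eq_card]; exact hQ)
  have h2 : ∀ x y : H, x * y = y * x := fun x y => Subtype.ext (Subtype.ext
    (H2.mul_comm_of_mem h1 (mem_map_of_mem N.subtype x.2) (mem_map_of_mem N.subtype y.2)))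
  have h3 : ∀ x y : N ⧸ Q, x * y = y * x := fun x y => hH.symm.QuotientMulEquiv.injective
    (by rw [map_mul, map_mul, h2])
  have h4 : (⟨a, ha⟩ * ⟨b, hb⟩ * ⟨a, ha⟩⁻¹ * ⟨b, hb⟩⁻¹ : N) ∈ Q := by
    rw [← QuotientGroup.eq_one_iff]
    simp only [QuotientGroup.mk_mul, QuotientGroup.mk_inv]
    rw [h3 (QuotientGroup.mk ⟨a, ha⟩), mul_inv_cancel_right, mul_inv_cancel]
  exact h4

namespace Cex

theorem eq_normalizer (h : Cex p G) (P : Sylow p G) {L : Subgroup G} (hL : L ≠ ⊤)
    (h1 : normalizer (P : Set G) ≤ L) : L = normalizer (P : Set G) := by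
  refine le_antisymm ((h.ih P L hL (le_normalizer.trans h1)).resolve_left fun hc => ?_) h1
  obtain ⟨y, hy, hy'⟩ := exists_reg h.nnpc P
  obtain ⟨z, hz⟩ := H33.exists_isPPart hp.out y
  have h2 := H33.IsPPart.mem_of_mem hp.out hz _ hy
  have := h.cyc P
  have h3 : z ∈ centralizer (P : Set G) :=
    (P : Subgroup G).le_centralizer (H81.mem_sylow_of_mem_normalizer P h2 (H33.IsPPart.pElt hz))
  have h4 := mul_mem (inv_mem h2) hy
  have h5 := H3.mem_centralizer_of_hasNormalPComplement hc (P.subtype (le_normalizer.trans h1)).2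
    (g := ⟨_, h1 h4⟩) (by
      rw [mem_normalizer_iff]
      exact fun x => mem_normalizer_iff.1 h4 x)
    (by
      rw [← Subgroup.orderOf_coe]
      exact ((Nat.Prime.coprime_iff_not_dvd hp.out).2 (H33.IsPPart.regular hz)).symm)
  have h6 : z⁻¹ * y ∈ centralizer (P : Set G) := fun x hx =>
    congrArg Subtype.val (h5 ⟨x, h1 (le_normalizer hx)⟩ hx)
  exact hy' (by simpa using mul_mem h3 h6)

theorem eq_top (h : Cex p G) (P : Sylow p G) (L : Subgroup G) [L.Normal]
    (h1 : (P : Subgroup G) ≤ L) : L = ⊤ := by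
  by_contra hL
  refine h.nn P (H81.sylow_normal_of_le_normalizer P L h1 ((h.ih P L hL h1).elim
    (fun hc => ?_) id))
  have h2 := h.core ((pResidual p L).map L.subtype) inferInstance (by
    rw [card_map_of_injective L.subtype_injective, ← Nat.Prime.coprime_iff_not_dvd hp.out]
    exact (H3.hasNormalPComplement_iff_coprime.1 hc).symm)
  rw [Subgroup.map_eq_bot_iff_of_injective _ L.subtype_injective, H3.pResidual_eq_bot_iff] at h2
  rw [P.is_maximal' h2 h1]
  exact le_normalizer

theorem normalizer_zpowers (h : Cex p G) (P : Sylow p G) {x : G} (hx : x ∈ (P : Subgroup G))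
    (hx1 : x ≠ 1) : normalizer (zpowers x : Set G) = normalizer (P : Set G) := by
  refine h.eq_normalizer P (fun e => ?_) (H47.cyc_norm (h.cyc P) (zpowers_le.2 hx))
  have := normalizer_eq_top_iff.1 e
  have := h.cyc P
  have h1 := h.eq_top P (centralizer (zpowers x : Set G)) ((P : Subgroup G).le_centralizer.trans
    (H72.centralizer_anti (zpowers_le.2 hx)))
  obtain ⟨y, hy, hy'⟩ := exists_reg h.nnpc P
  exact hy' (H81.mem_centralizer_of_isCyclic_sylow P (h.cyc P) hy hx hx1
    (mem_centralizer_iff.1 (h1 ▸ mem_top y) x (mem_zpowers x)).symm)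

theorem centralizer_eq (h : Cex p G) (P : Sylow p G) {z : G} (hz : z ∈ centralizer (P : Set G))
    (hz1 : z ≠ 1) (hzp : ¬ p ∣ orderOf z) :
    centralizer ({z} : Set G) = normalizer (P : Set G) := by
  refine h.eq_normalizer P (fun e => hz1 ?_) fun g hg => ?_
  · have h1 : z ∈ center G := mem_center_iff.2 fun g =>
      mem_centralizer_singleton_iff.1 (e ▸ mem_top g)
    exact zpowers_eq_bot.1 (h.core _ (H81.normal_zpowers_of_mem_center h1)
      (by rwa [Nat.card_zpowers]))
  · have h1 := commutator_mem h.ab P hg (centralizer_le_normalizer _ hz)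
    have h2 : Commute (g * z * g⁻¹ * z⁻¹) z := mem_centralizer_iff.1 hz _ h1
    have h3 : (g * z * g⁻¹ * z⁻¹) ^ orderOf z = 1 := by
      have h4 := h2.mul_pow (orderOf z)
      rw [inv_mul_cancel_right, conj_pow, pow_orderOf_eq_one, mul_one, mul_one,
        mul_inv_cancel] at h4
      exact h4.symm
    have h4 := H33.eq_one_of_pElt_of_regular (H81.exists_pow_eq_one_of_forall_prime hp.out
      (H81.forall_prime_of_mem_isPGroup hp.out P.isPGroup' h1))
      fun e => hzp (e.trans (orderOf_dvd_of_pow_eq_one h3))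
    rw [mul_inv_eq_one, mul_inv_eq_iff_eq_mul] at h4
    exact mem_centralizer_singleton_iff.2 h4

theorem eq_bot (h : Cex p G) {r : ℕ} (hr : r.Prime) (M : Subgroup G) [M.Normal]
    (hM : IsPGroup r M) : M = ⊥ := by
  have := Fact.mk hr
  by_cases hrp : r = p
  · subst hrp
    obtain ⟨P, hP⟩ := hM.exists_le_sylow
    by_contra hne
    obtain ⟨⟨x, hx⟩, hx1⟩ := ne_bot_iff_exists_ne_one.1 hne
    have := h.cyc P
    have h1 := H47.cyc_norm (isCyclic_of_le hP) (zpowers_le.2 hx)
    rw [h.normalizer_zpowers P (hP hx) fun e => hx1 (Subtype.ext e)] at h1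
    exact h.nn P (normalizer_eq_top_iff.1 (top_le_iff.1 ((normalizer_eq_top M).ge.trans h1)))
  · obtain ⟨k, hk⟩ := IsPGroup.iff_card.1 hM
    exact h.core M inferInstance fun e => hrp
      ((Nat.prime_dvd_prime_iff_eq hp.out hr).1 (hp.out.dvd_of_dvd_pow (hk ▸ e))).symm

theorem not_solvable (h : Cex p G) : ¬ Group.IsSolvable G := by
  intro hs
  obtain ⟨P⟩ : Nonempty (Sylow p G) := inferInstance
  rcases subsingleton_or_nontrivial G with hG | hG
  · exact h.nn P (by rw [Subsingleton.elim (P : Subgroup G) ⊥]; infer_instance)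
  obtain ⟨M, r, hr, _, h1, -, h2, -⟩ := H2.exists_minimal_normal_of_solvable (G := G)
  exact h1 (h.eq_bot hr M h2)

theorem exists_mem (h : Cex p G) (P : Sylow p G) : ∃ x ∈ (P : Subgroup G), orderOf x = p := by
  obtain ⟨x, hx⟩ := exists_prime_orderOf_dvd_card' p (P.isPGroup'.card_eq_or_dvd.resolve_left
    fun e => h.nn P (by rw [card_eq_one.1 e]; infer_instance))
  exact ⟨x, x.2, by rwa [Subgroup.orderOf_coe]⟩

theorem ne_two (h : Cex p G) : p ≠ 2 := by
  rintro rfl
  obtain ⟨P⟩ : Nonempty (Sylow 2 G) := inferInstance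
  obtain ⟨x, hx, hx2⟩ := h.exists_mem P
  obtain ⟨y, hy, hy'⟩ := exists_reg h.nnpc P
  have hx1 := H8.ne_one_of_orderOf_two hx2
  refine hy' (H81.mem_centralizer_of_isCyclic_sylow P (h.cyc P) hy hx hx1 ?_)
  rw [← h.normalizer_zpowers P hx hx1] at hy
  classical
  obtain ⟨k, hk, hk'⟩ := Finset.mem_image.1 ((mem_zpowers_iff_mem_range_orderOf).1
    ((mem_normalizer_iff.1 hy x).1 (mem_zpowers x)))
  rw [hx2, Finset.mem_range] at hk
  interval_cases k
  · exact absurd (by simpa using hk'.symm) hx1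
  · exact mul_inv_eq_iff_eq_mul.1 (by simpa using hk'.symm)

theorem eq_of_inv (h : Cex p G) {t x : G} (ht : orderOf t = 2) {r : ℕ} (hr : r.Prime) (hr2 : r ≠ 2)
    (hx : orderOf x = r) (e : t * x * t⁻¹ = x⁻¹) : r = p := by
  by_contra hne
  have h1 := H81.card_sup_zpowers_prime (E := zpowers x) Nat.prime_two ht (fun hc => hr2
    ((Nat.prime_dvd_prime_iff_eq Nat.prime_two hr).1 (by
      rw [← ht, ← hx]; exact orderOf_dvd_of_mem_zpowers hc)).symm)
    (H81.mem_normalizer_zpowers_of_conj_mem (e ▸ inv_mem (mem_zpowers x)))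
  rw [Nat.card_zpowers, hx] at h1
  have h2 := h.ab _ (by
    rw [h1, hp.out.dvd_mul, Nat.prime_dvd_prime_iff_eq hp.out hr,
      Nat.prime_dvd_prime_iff_eq hp.out Nat.prime_two]
    exact fun e => e.elim (fun e => hne e.symm) h.ne_two)
  rw [H2.mul_comm_of_mem h2 (mem_sup_right (mem_zpowers t)) (mem_sup_left (mem_zpowers x)),
    mul_inv_cancel_right] at e
  have h3 : orderOf x ∣ 2 := orderOf_dvd_of_pow_eq_one (by
    rw [pow_two]; nth_rewrite 1 [e]; exact inv_mul_cancel x)
  exact hr2 ((Nat.prime_dvd_prime_iff_eq hr Nat.prime_two).1 (hx ▸ h3))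

theorem ne_inv (h : Cex p G) {x : G} (hx : ∃ k, orderOf x = p ^ k) (hx1 : x ≠ 1) : x ≠ x⁻¹ := by
  intro e
  have h3 : orderOf x ∣ 2 := orderOf_dvd_of_pow_eq_one (by
    rw [pow_two]; nth_rewrite 1 [e]; exact inv_mul_cancel x)
  exact hx1 (H33.eq_one_of_pElt_of_regular hx fun hd =>
    h.ne_two ((Nat.prime_dvd_prime_iff_eq hp.out Nat.prime_two).1 (hd.trans h3)))

theorem mem_of_inv (h : Cex p G) {t x : G} (hx : ∃ k, orderOf x = p ^ k) (hx1 : x ≠ 1)
    (e : t * x * t⁻¹ = x⁻¹) (P : Sylow p G) (hxP : x ∈ (P : Subgroup G)) :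
    t ∈ normalizer (P : Set G) ∧ t ∉ centralizer (P : Set G) := by
  refine ⟨?_, fun hc => h.ne_inv hx hx1 ?_⟩
  · rw [← h.normalizer_zpowers P hxP hx1]
    exact H81.mem_normalizer_zpowers_of_conj_mem (e ▸ inv_mem (mem_zpowers x))
  · rwa [← mem_centralizer_iff.1 hc x hxP, mul_inv_cancel_right] at e

theorem exists_inv (h : Cex p G) {t : G} (ht : orderOf t = 2) :
    ∃ x : G, orderOf x = p ∧ t * x * t⁻¹ = x⁻¹ := by
  obtain ⟨x, r, hr, hr2, hx, e⟩ := H81.exists_inverted_of_not_mem_pCore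
    (H8.mul_self_of_orderOf_two ht) (by
      rw [h.eq_bot Nat.prime_two (pCore 2 G) H44.pCore_isPGroup]
      exact H8.ne_one_of_orderOf_two ht)
  exact ⟨x, hx.trans (h.eq_of_inv ht hr hr2 hx e), e⟩

theorem exists_sylow (h : Cex p G) {t : G} (ht : orderOf t = 2) :
    ∃ P : Sylow p G, t ∈ normalizer (P : Set G) ∧ t ∉ centralizer (P : Set G) := by
  obtain ⟨x, hx, e⟩ := h.exists_inv ht
  obtain ⟨P, hP⟩ := (H81.isPGroup_zpowers_of_orderOf (k := 1) (hx.trans (pow_one p).symm)).exists_le_sylow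
  exact ⟨P, h.mem_of_inv ⟨1, by rwa [pow_one]⟩ (fun e => hp.out.one_lt.ne' (by simpa [e] using hx.symm))
    e P (hP (mem_zpowers x))⟩

theorem inverts (h : Cex p G) (P : Sylow p G) {t : G} (ht : orderOf t = 2)
    (h1 : t ∈ normalizer (P : Set G)) (h2 : t ∉ centralizer (P : Set G)) {x : G}
    (hx : x ∈ (P : Subgroup G)) : t * x * t⁻¹ = x⁻¹ := by
  refine H81.conj_eq_inv_of_fpf h1 (H8.mul_self_of_orderOf_two ht) (fun k hk e => ?_) hx
  by_contra hk1
  exact h2 (H81.mem_centralizer_of_isCyclic_sylow P (h.cyc P) h1 hk hk1 e)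

theorem mul_mem_centralizer (h : Cex p G) (P : Sylow p G) {s t : G} (hs : orderOf s = 2)
    (ht : orderOf t = 2) (h1 : s ∈ normalizer (P : Set G)) (h2 : s ∉ centralizer (P : Set G))
    (h3 : t ∈ normalizer (P : Set G)) (h4 : t ∉ centralizer (P : Set G)) :
    s * t ∈ centralizer (P : Set G) := by
  intro x hx
  have h5 := h.inverts P hs h1 h2 (inv_mem hx)
  rw [inv_inv, ← h.inverts P ht h3 h4 hx] at h5
  nth_rewrite 1 [← h5]
  simp [mul_assoc]

theorem sylow_two_comm (h : Cex p G) (S : Sylow 2 G) : IsMulCommutative (S : Subgroup G) := by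
  obtain ⟨k, hk⟩ := IsPGroup.iff_card.1 S.isPGroup'
  exact h.ab _ fun e => h.ne_two
    ((Nat.prime_dvd_prime_iff_eq hp.out Nat.prime_two).1 (hp.out.dvd_of_dvd_pow (hk ▸ e)))

theorem two_dvd (h : Cex p G) : 2 ∣ Nat.card G := by
  by_contra hc
  exact h.not_solvable (H54.odd_order_solvable (Nat.not_even_iff_odd.1 fun e => hc e.two_dvd))

theorem caseA (h : Cex p G) (hA : ∀ t : G, orderOf t = 2 → ¬ p ∣ Nat.card (centralizer ({t} : Set G))) :
    False := by
  have h1 : H8.AbC G := fun t x y ht hx hy => H2.mul_comm_of_mem (h.ab _ (hA t ht))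
    (mem_centralizer_singleton_iff.2 hx) (mem_centralizer_singleton_iff.2 hy)
  obtain ⟨t, ht⟩ := exists_prime_orderOf_dvd_card' 2 h.two_dvd
  obtain ⟨x, hx, e⟩ := h.exists_inv ht
  have hx1 : x ≠ 1 := fun e => hp.out.one_lt.ne' (by simpa [e] using hx.symm)
  have hx2 := h.ne_inv ⟨1, by rwa [pow_one]⟩ hx1
  have ht2 := H8.mul_self_of_orderOf_two ht
  have ht3 := H8.inv_eq_of_orderOf_two ht
  have h2 : ¬ Commute t (x * t) := fun hc => hx2 (by
    rw [← e, ht3, mul_assoc, hc.eq, mul_assoc, ht2, mul_one])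
  have h3 : H8.NonComm G := ⟨t, x * t, ht, H8.orderOf_two_of
    (by rw [mul_assoc, ← mul_assoc t, ← congrArg (t * x * ·) ht3, e, mul_inv_cancel])
    (fun e => h2 (e ▸ Commute.one_right t)), h2⟩
  obtain ⟨S⟩ : Nonempty (Sylow 2 G) := inferInstance
  have h4 : H8.TwoComm G := by
    refine H8.twoComm_of_not_isCyclic S.2 (fun x hx y hy =>
      H2.mul_comm_of_mem (h.sylow_two_comm S) hx hy) fun hc => ?_
    have h5 := hc.isComplement' (P := S) (Nat.minFac_eq_two_iff _ |>.2 h.two_dvd)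
    have h6 : Odd (Nat.card (MonoidHom.transferSylow S
        (hc.normalizer_le_centralizer (Nat.minFac_eq_two_iff _ |>.2 h.two_dvd))).ker) := by
      rw [← h5.index_eq_card, ← Nat.not_even_iff_odd, even_iff_two_dvd]
      exact S.not_dvd_index
    refine h.not_solvable (Group.isSolvable_iff_subgroup_quotient _ |>.2
      ⟨H54.odd_order_solvable h6, H81.isSolvable_of_isPGroup (p := 2) ?_⟩)
    exact S.isPGroup'.of_equiv h5.symm.QuotientMulEquiv.symm
  have h5 : center G = ⊥ := by
    by_contra hc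
    obtain ⟨r, hr, z, hz, hzr⟩ := H2.exists_mem_prime_orderOf hc
    have := H81.normal_zpowers_of_mem_center hz
    have h6 := h.eq_bot hr _ (H81.isPGroup_zpowers_of_orderOf (k := 1) (hzr.trans (pow_one r).symm))
    rw [zpowers_eq_bot.1 h6, orderOf_one] at hzr
    exact hr.one_lt.ne hzr
  obtain ⟨K, _, _, hK, -, ⟨f⟩⟩ := h1.sl2_of_center h4 h3 h5
  obtain ⟨a, b, hab⟩ := H81.exists_eq_pow_mul_pow (Nat.card_pos (α := G)).ne' Nat.prime_two
    (q := p) fun r hr hd => or_iff_not_imp_left.2 fun hr2 => by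
      have := Fact.mk hr
      obtain ⟨z, hz⟩ := exists_prime_orderOf_dvd_card' r hd
      obtain ⟨s, hs, hs'⟩ := H8.sl2e_exists_inverting (CharTwo.two_eq_zero (R := K)) (f z)
      exact h.eq_of_inv (t := f.symm s) (by rwa [MulEquiv.orderOf_eq]) hr hr2 hz
        (f.injective (by simpa using hs'))
  exact h.not_solvable (S0144.result _ _ a b Nat.prime_two hp.out hab)

theorem not_dvd_two (h : Cex p G) {t : G} (ht : orderOf t = 2) : ¬ p ∣ orderOf t := fun e =>
  h.ne_two ((Nat.prime_dvd_prime_iff_eq hp.out Nat.prime_two).1 (ht ▸ e))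

omit [Finite G] hp in
theorem conj_mem_centralizer (P : Sylow p G) (g : G) {u : G} :
    g * u * g⁻¹ ∈ centralizer ((g • P : Sylow p G) : Set G) ↔ u ∈ centralizer (P : Set G) := by
  rw [← H72.conj_mem_cj_iff (g := g) (x := u)]
  exact (H72.cj_centralizer g (P : Subgroup G)).symm ▸ Iff.rfl

omit [Finite G] hp in
theorem conj_mem_normalizer (P : Sylow p G) (g : G) {u : G} :
    g * u * g⁻¹ ∈ normalizer ((g • P : Sylow p G) : Set G) ↔ u ∈ normalizer (P : Set G) := by
  rw [← H72.conj_mem_cj_iff (g := g) (x := u)]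
  exact (H72.cj_normalizer g (P : Subgroup G)).symm ▸ Iff.rfl

theorem sylow_eq (h : Cex p G) {P Q : Sylow p G} {z : G} (hz1 : z ≠ 1)
    (h1 : z ∈ centralizer (P : Set G)) (h2 : z ∈ centralizer (Q : Set G)) : P = Q := by
  have key : normalizer (P : Set G) = normalizer (Q : Set G) := by
    by_cases hz : p ∣ orderOf z
    · obtain ⟨x, hx, hx'⟩ := H81.exists_orderOf_eq_of_dvd hz
      have hx1 : x ≠ 1 := fun e => hp.out.one_lt.ne' (by simpa [e] using hx'.symm)
      rw [← h.normalizer_zpowers P (H81.mem_sylow_of_mem_normalizer P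
        (centralizer_le_normalizer _ (zpowers_le.2 h1 hx)) ⟨1, by rwa [pow_one]⟩) hx1,
        h.normalizer_zpowers Q (H81.mem_sylow_of_mem_normalizer Q
        (centralizer_le_normalizer _ (zpowers_le.2 h2 hx)) ⟨1, by rwa [pow_one]⟩) hx1]
    · rw [← h.centralizer_eq P h1 hz1 hz, h.centralizer_eq Q h2 hz1 hz]
  refine Sylow.ext (P.is_maximal' Q.isPGroup' fun x hx => H81.mem_sylow_of_mem_normalizer Q
    (key ▸ le_normalizer hx) (H81.exists_pow_eq_one_of_forall_prime hp.out
      (H81.forall_prime_of_mem_isPGroup hp.out P.isPGroup' hx))).symm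

theorem inv_unique (h : Cex p G) (P : Sylow p G) {k u : G} (hk : orderOf k = 2)
    (hu : orderOf u = 2) (h1 : k ∈ centralizer (P : Set G)) (h2 : u ∈ centralizer (P : Set G)) :
    k = u := by
  obtain ⟨Q, h3, h4⟩ := h.exists_sylow hk
  obtain ⟨g, rfl⟩ := MulAction.exists_smul_eq G P Q
  have h5 := (conj_mem_centralizer P g).2 h1
  have h6 : orderOf (g * k * g⁻¹) = 2 := (H8.orderOf_conj' g k).trans hk
  have h7 := h.centralizer_eq _ h5 (H8.ne_one_of_orderOf_two h6) (h.not_dvd_two h6)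
  have h8 := h.centralizer_eq _ h1 (H8.ne_one_of_orderOf_two hk) (h.not_dvd_two hk)
  have h9 := h.centralizer_eq _ h2 (H8.ne_one_of_orderOf_two hu) (h.not_dvd_two hu)
  have h10 : g * k * g⁻¹ ∈ centralizer ({u} : Set G) := by
    rw [h9, ← h8, mem_centralizer_singleton_iff]
    exact (mem_centralizer_singleton_iff.1 (h7 ▸ h3)).symm
  have h11 : u ∈ normalizer ((g • P : Sylow p G) : Set G) := by
    rw [← h7, mem_centralizer_singleton_iff]
    exact (mem_centralizer_singleton_iff.1 h10).symm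
  have h12 : ∀ z : G, z ≠ 1 → z ∈ centralizer (P : Set G) →
      z ∉ centralizer ((g • P : Sylow p G) : Set G) := fun z hz ha hb =>
    h4 (h.sylow_eq hz ha hb ▸ h1)
  by_contra hne
  refine h12 (k * u) (fun e => hne ?_) (mul_mem h1 h2) (h.mul_mem_centralizer _ hk hu h3 h4 h11
    (h12 u (H8.ne_one_of_orderOf_two hu) h2))
  rw [eq_inv_of_mul_eq_one_left e, H8.inv_eq_of_orderOf_two hu]

theorem isConj_of (h : Cex p G) (P : Sylow p G) {k t : G} (hk : orderOf k = 2)
    (ht : orderOf t = 2) (h1 : k ∈ centralizer (P : Set G)) : IsConj k t := by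
  obtain ⟨Q, h3, h4⟩ := h.exists_sylow hk
  obtain ⟨g, rfl⟩ := MulAction.exists_smul_eq G Q P
  have h5 := (conj_mem_normalizer Q g).2 h3
  have h6 := mt (conj_mem_centralizer Q g).1 h4
  have hc : IsConj k (g * k * g⁻¹) := isConj_iff.2 ⟨g, rfl⟩
  have h7 : orderOf (g * k * g⁻¹) = 2 := (H8.orderOf_conj' g k).trans hk
  generalize g * k * g⁻¹ = l at h5 h6 h7 hc
  generalize g • Q = P at h1 h5 h6
  have h8 := h.centralizer_eq _ h1 (H8.ne_one_of_orderOf_two hk) (h.not_dvd_two hk)
  have hkl : Commute l k := mem_centralizer_singleton_iff.1 (h8 ▸ h5)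
  have hne : k ≠ l := fun e => h6 (e ▸ h1)
  obtain ⟨S, hS⟩ := (H8.isPGroup_closure_pair_of_commute (H8.mul_self_of_orderOf_two hk)
    (H8.mul_self_of_orderOf_two h7) hkl.symm).exists_le_sylow
  have hkS : k ∈ (S : Subgroup G) := hS (subset_closure (by simp))
  have hlS : l ∈ (S : Subgroup G) := hS (subset_closure (by simp))
  have hcS := h.sylow_two_comm S
  have key : ∀ s ∈ (S : Subgroup G), orderOf s = 2 → s = k ∨ s = l ∨ s = k * l := by
    intro s hs hs2
    by_cases h9 : s ∈ centralizer (P : Set G)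
    · exact Or.inl (h.inv_unique P hs2 hk h9 h1)
    have h10 := h.mul_mem_centralizer P hs2 h7
      (h8 ▸ mem_centralizer_singleton_iff.2 (H2.mul_comm_of_mem hcS hs hkS)) h9 h5 h6
    by_cases h11 : s * l = 1
    · exact Or.inr (Or.inl (by rw [eq_inv_of_mul_eq_one_left h11, H8.inv_eq_of_orderOf_two h7]))
    have h12 := h.inv_unique P (H8.orderOf_two_of (by
      rw [mul_assoc, ← mul_assoc l, H2.mul_comm_of_mem hcS hlS hs, mul_assoc,
        H8.mul_self_of_orderOf_two h7, mul_one, H8.mul_self_of_orderOf_two hs2]) h11) hk h10 h1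
    exact Or.inr (Or.inr (by rw [← h12, mul_assoc, H8.mul_self_of_orderOf_two h7, mul_one]))
  have hkl' : IsConj k (k * l) := by
    obtain ⟨c, hc'⟩ := isConj_iff.1 hc
    obtain ⟨n, hn, hn'⟩ := S.conj_eq_normalizer_conj_of_mem k c⁻¹ hkS (by rwa [inv_inv, hc'])
    rw [inv_inv, hc'] at hn'
    have h9 : n⁻¹ * l * n ∈ (S : Subgroup G) := H72.conj_mem_of_mem_normalizer' hn hlS
    have h10 : IsConj l (n⁻¹ * l * n) := isConj_iff.2 ⟨n⁻¹, by rw [inv_inv]⟩
    rcases key _ h9 ((H8.orderOf_eq_of_isConj h10).symm.trans h7) with e | e | e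
    · exfalso
      obtain ⟨j, hj⟩ := H3.exists_pow_pow_coprime (p := p) n
      have h11 : ∀ i : ℕ, (n ^ (2 * i + 1))⁻¹ * k * n ^ (2 * i + 1) = l := by
        intro i
        induction i with
        | zero => simpa using hn'.symm
        | succ i ih =>
          calc (n ^ (2 * (i + 1) + 1))⁻¹ * k * n ^ (2 * (i + 1) + 1)
              = n⁻¹ * (n⁻¹ * ((n ^ (2 * i + 1))⁻¹ * k * n ^ (2 * i + 1)) * n) * n := by group
            _ = l := by rw [ih, e, hn']
      obtain ⟨i, hi⟩ := (hp.out.odd_of_ne_two h.ne_two).pow (n := j)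
      have h12 := H21.card_sup_mul_card_inf (X := (S : Subgroup G)) (Y := zpowers (n ^ p ^ j))
        (zpowers_le.2 (pow_mem hn _))
      obtain ⟨a, ha⟩ := IsPGroup.iff_card.1 S.isPGroup'
      have h13 := h.ab ((S : Subgroup G) ⊔ zpowers (n ^ p ^ j)) fun hd => by
        have h14 := hd.mul_right (Nat.card ↥((S : Subgroup G) ⊓ zpowers (n ^ p ^ j)))
        rw [h12, ha, Nat.card_zpowers, hp.out.dvd_mul] at h14
        rcases h14 with h14 | h14
        · exact h.ne_two ((Nat.prime_dvd_prime_iff_eq hp.out Nat.prime_two).1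
            (hp.out.dvd_of_dvd_pow h14))
        · exact (Nat.Prime.coprime_iff_not_dvd hp.out).1 hj.symm h14
      have h14 := h11 i
      rw [← hi, mul_assoc, H2.mul_comm_of_mem h13 (mem_sup_left hkS)
        (mem_sup_right (mem_zpowers _)), inv_mul_cancel_left] at h14
      exact hne h14
    · nth_rewrite 2 [hn'] at e
      exact absurd (mul_left_cancel (mul_right_cancel e)).symm hne
    · exact e ▸ hc.trans h10
  obtain ⟨T, hT⟩ := (H81.isPGroup_zpowers_of_orderOf (p := 2) (k := 1) ht).exists_le_sylow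
  obtain ⟨c, rfl⟩ := MulAction.exists_smul_eq G S T
  have h9 : c⁻¹ * t * c ∈ (S : Subgroup G) := H72.mem_cj.1 (hT (mem_zpowers t))
  have h10 : IsConj (c⁻¹ * t * c) t := isConj_iff.2 ⟨c, by simp [mul_assoc]⟩
  rcases key _ h9 ((H8.orderOf_eq_of_isConj h10).trans ht) with e | e | e
  · exact e ▸ h10
  · exact hc.trans (e ▸ h10)
  · exact hkl'.trans (e ▸ h10)

theorem caseB (h : Cex p G) {k : G} (hk : orderOf k = 2)
    (hB : p ∣ Nat.card (centralizer ({k} : Set G))) : False := by
  obtain ⟨⟨x, hxk⟩, hx⟩ := exists_prime_orderOf_dvd_card' p hB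
  rw [Subgroup.orderOf_mk] at hx
  have hx1 : x ≠ 1 := fun e => hp.out.one_lt.ne' (by simpa [e] using hx.symm)
  obtain ⟨P, hP⟩ := (H81.isPGroup_zpowers_of_orderOf (k := 1)
    (hx.trans (pow_one p).symm)).exists_le_sylow
  have hxP := hP (mem_zpowers x)
  have hxk' : Commute k x := (mem_centralizer_singleton_iff.1 hxk).symm
  have h1 : k ∈ centralizer (P : Set G) := H81.mem_centralizer_of_isCyclic_sylow P (h.cyc P)
    (h.normalizer_zpowers P hxP hx1 ▸ H81.mem_normalizer_zpowers_of_conj_mem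
      (by rw [hxk'.eq, mul_inv_cancel_right]; exact mem_zpowers x)) hxP hx1 hxk'
  have hall : ∀ u : G, orderOf u = 2 → ∃ Q : Sylow p G, u ∈ centralizer (Q : Set G) := by
    intro u hu
    obtain ⟨c, rfl⟩ := isConj_iff.1 (h.isConj_of P hk hu h1)
    exact ⟨c • P, (conj_mem_centralizer P c).2 h1⟩
  have hcent : ∀ (u : G) (Q : Sylow p G), orderOf u = 2 → u ∈ centralizer (Q : Set G) →
      centralizer ({u} : Set G) = normalizer (Q : Set G) := fun u Q hu hQ =>
    h.centralizer_eq Q hQ (H8.ne_one_of_orderOf_two hu) (h.not_dvd_two hu)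
  have : Nonempty {u : G // orderOf u = 2} := ⟨⟨k, hk⟩⟩
  refine H81.friendship_regular (V := {u : G // orderOf u = 2})
    (fun u v => u ≠ v ∧ Commute u.1 v.1) (fun u v e => ⟨e.1.symm, e.2.symm⟩) (fun u e => e.1 rfl)
    (Nat.card {v : {u : G // orderOf u = 2} // ⟨k, hk⟩ ≠ v ∧ Commute k v.1}) ?_ ?_ ?_
  · obtain ⟨Q, h3, h4⟩ := h.exists_sylow hk
    obtain ⟨g, rfl⟩ := MulAction.exists_smul_eq G Q P
    have h5 := (conj_mem_normalizer Q g).2 h3
    have h6 := mt (conj_mem_centralizer Q g).1 h4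
    have h7 : orderOf (g * k * g⁻¹) = 2 := (H8.orderOf_conj' g k).trans hk
    generalize g * k * g⁻¹ = l at h5 h6 h7
    generalize g • Q = P at h1 h5 h6 hxP
    have := h.cyc P
    have h8 : ∀ y : zpowers x, y.1 * l ∉ centralizer (P : Set G) := fun y e => h6 (by
      simpa using mul_mem (inv_mem ((P : Subgroup G).le_centralizer (zpowers_le.2 hxP y.2))) e)
    have h9 : ∀ y : zpowers x, orderOf (y.1 * l) = 2 := fun y => H8.orderOf_two_of (by
      rw [mul_assoc, ← mul_assoc l, ← congrArg (l * y.1 * ·) (H8.inv_eq_of_orderOf_two h7),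
        h.inverts P h7 h5 h6 (zpowers_le.2 hxP y.2), mul_inv_cancel]) fun e => h8 y (e ▸ one_mem _)
    refine le_trans ?_ (Nat.card_le_card_of_injective (fun y : zpowers x =>
      (⟨⟨y.1 * l, h9 y⟩, fun e => h8 y ((show k = y.1 * l from congrArg Subtype.val e) ▸ h1),
        (mem_centralizer_singleton_iff.1 (hcent k P hk h1 ▸
          mul_mem (le_normalizer (zpowers_le.2 hxP y.2)) h5)).symm⟩ :
        {v : {u : G // orderOf u = 2} // ⟨k, hk⟩ ≠ v ∧ Commute k v.1})) fun y z e =>
          Subtype.ext (mul_right_cancel (congrArg (fun w => w.1.1) e)))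
    rw [Nat.card_zpowers, hx]
    exact Nat.succ_le_of_lt (lt_of_le_of_ne hp.out.two_le h.ne_two.symm)
  · rintro ⟨u, hu⟩
    obtain ⟨c, rfl⟩ := isConj_iff.1 (h.isConj_of P hk hu h1)
    refine (Nat.card_congr (Equiv.subtypeEquiv ((MulAut.conj c).toEquiv.subtypeEquiv fun y => ?_)
      fun y => and_congr ?_ ?_)).symm
    · exact (H8.orderOf_conj' c y).symm ▸ Iff.rfl
    · simp [Subtype.ext_iff]
    · exact (commute_map_iff (MulAut.conj c).injective).symm
  · rintro ⟨s, hs⟩ ⟨t, ht⟩ hst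
    have hs2 := H8.mul_self_of_orderOf_two hs
    have ht2 := H8.mul_self_of_orderOf_two ht
    have hst1 : s * t ≠ 1 := fun e => hst (Subtype.ext (by
      simp only; rw [eq_inv_of_mul_eq_one_left e, H8.inv_eq_of_orderOf_two ht]))
    refine existsUnique_of_exists_of_unique ?_ ?_
    · rcases Nat.even_or_odd (orderOf (s * t)) with he | ho
      · obtain ⟨h2, h3, h4⟩ := H8.central_involution hs2 ht2 he
        refine ⟨⟨_, h2⟩, ⟨fun e => H8.not_mem_zpowers_mul hs ht ?_, h3.symm⟩, fun e => ?_, h4.symm⟩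
        · have := npow_mem_zpowers (s * t) (orderOf (s * t) / 2)
          rwa [← Subtype.mk.inj e] at this
        · refine H8.not_mem_zpowers_mul hs ht ?_
          have h5 : t ∈ zpowers (s * t) := by
            have := npow_mem_zpowers (s * t) (orderOf (s * t) / 2)
            rwa [← Subtype.mk.inj e] at this
          simpa using mul_mem (mem_zpowers (s * t)) (inv_mem h5)
      · obtain ⟨r, hr, hd⟩ := Nat.exists_prime_and_dvd (mt orderOf_eq_one_iff.1 hst1)
        obtain ⟨_, ⟨i, rfl⟩, hy⟩ := H81.exists_orderOf_eq_of_dvd hd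
        dsimp only at hy
        have e1 : s * (s * t) ^ i * s⁻¹ = ((s * t) ^ i)⁻¹ := by
          rw [H8.conj_mul_zpow hs2 ht2, zpow_neg]
        have e2 : t * (s * t) ^ i * t⁻¹ = ((s * t) ^ i)⁻¹ := by
          rw [← conj_zpow, ← inv_zpow, mul_inv_rev, H8.inv_eq_of_orderOf_two hs]
          simp [mul_assoc, H8.inv_eq_of_orderOf_two ht, ht2]
        obtain rfl := h.eq_of_inv hs hr (fun e => (Nat.not_even_iff_odd.2 ho)
          (even_iff_two_dvd.2 (e ▸ hd))) hy e1
        have hy1 : (s * t) ^ i ≠ 1 := fun e => hp.out.one_lt.ne' (by simpa [e] using hy.symm)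
        obtain ⟨Q, hQ⟩ := (H81.isPGroup_zpowers_of_orderOf (k := 1)
          (hy.trans (pow_one r).symm)).exists_le_sylow
        obtain ⟨h2, h3⟩ := h.mem_of_inv ⟨1, by rwa [pow_one]⟩ hy1 e1 Q (hQ (mem_zpowers _))
        obtain ⟨h4, h5⟩ := h.mem_of_inv ⟨1, by rwa [pow_one]⟩ hy1 e2 Q (hQ (mem_zpowers _))
        obtain ⟨c, rfl⟩ := MulAction.exists_smul_eq G P Q
        have h6 := (conj_mem_centralizer P c).2 h1
        have h7 : orderOf (c * k * c⁻¹) = 2 := (H8.orderOf_conj' c k).trans hk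
        exact ⟨⟨_, h7⟩, ⟨fun e => h3 (by rwa [← Subtype.mk.inj e] at h6),
          mem_centralizer_singleton_iff.1 (hcent _ _ h7 h6 ▸ h2)⟩,
          fun e => h5 (by rwa [← Subtype.mk.inj e] at h6),
          mem_centralizer_singleton_iff.1 (hcent _ _ h7 h6 ▸ h4)⟩
    · have key : ∀ (u : {u : G // orderOf u = 2}) (Q : Sylow p G), u.1 ∈ centralizer (Q : Set G) →
          (⟨s, hs⟩ ≠ u ∧ Commute s u.1) ∧ (⟨t, ht⟩ ≠ u ∧ Commute t u.1) →
          s * t ∈ centralizer (Q : Set G) := fun u Q hQ ⟨⟨h2, h3⟩, h4, h5⟩ =>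
        h.mul_mem_centralizer Q hs ht (hcent _ Q u.2 hQ ▸ mem_centralizer_singleton_iff.2 h3)
          (fun e => h2 (Subtype.ext (h.inv_unique Q hs u.2 e hQ)))
          (hcent _ Q u.2 hQ ▸ mem_centralizer_singleton_iff.2 h5)
          (fun e => h4 (Subtype.ext (h.inv_unique Q ht u.2 e hQ)))
      intro u v hu hv
      obtain ⟨Q, hQ⟩ := hall u.1 u.2
      obtain ⟨R, hR⟩ := hall v.1 v.2
      obtain rfl := h.sylow_eq hst1 (key u Q hQ hu) (key v R hR hv)
      exact Subtype.ext (h.inv_unique Q u.2 v.2 hQ hR)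

theorem false (h : Cex p G) : False := h.caseA fun _ ht hd => h.caseB ht hd

end Cex

theorem aux (n : ℕ) : ∀ (G : Type u) [Group G] [Finite G], Nat.card G = n → ∀ P : Sylow p G,
    IsCyclic P → (∀ H : Subgroup G, ¬ p ∣ Nat.card H → IsMulCommutative H) →
    HasNormalPComplement p G ∨ (P : Subgroup G).Normal := by
  induction n using Nat.strong_induction_on with
  | _ n ih =>
  intro G _ _ hn P hcyc hab
  by_contra hc
  rw [not_or] at hc
  have hcyc' : ∀ Q : Sylow p G, IsCyclic Q := fun Q =>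
    isCyclic_of_surjective (P.equiv Q) (P.equiv Q).surjective
  refine Cex.false (p := p) (G := G) ⟨hcyc', hab, hc.1, fun Q hQ => ?_, fun Q L hL hQ => ?_,
    fun M hM hpM => ?_⟩
  · obtain ⟨g, rfl⟩ := MulAction.exists_smul_eq G Q P
    exact hc.2 (by rwa [H72.cj_sylow, H72.cj_eq_of_normal])
  · refine (ih _ (hn ▸ H2.card_lt_of_ne_top hL) L rfl (Q.subtype hQ) ?_ fun H hH => ?_).imp_right
      fun e => (normal_subgroupOf_iff_le_normalizer hQ).1 e
    · have := hcyc' Q
      exact isCyclic_of_surjective (subgroupOfEquivOfLe hQ).symm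
        (subgroupOfEquivOfLe hQ).symm.surjective
    · have h1 := hab (H.map L.subtype) (by rwa [card_map_of_injective L.subtype_injective])
      exact H2.isMulCommutative_of_forall fun x hx y hy => Subtype.ext
        (H2.mul_comm_of_mem h1 (mem_map_of_mem L.subtype hx) (mem_map_of_mem L.subtype hy))
  · by_contra hne
    have hf := QuotientGroup.mk'_surjective M
    have hab' : ∀ H : Subgroup (G ⧸ M), ¬ p ∣ Nat.card H → IsMulCommutative H := by
      intro H hH
      have h1 := hab (H.comap (QuotientGroup.mk' M)) (by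
        rw [H1.card_comap_mk', hp.out.dvd_mul]
        exact fun e => e.elim hH hpM)
      refine H2.isMulCommutative_of_forall fun x hx y hy => ?_
      obtain ⟨x, rfl⟩ := hf x
      obtain ⟨y, rfl⟩ := hf y
      rw [← map_mul, ← map_mul, H2.mul_comm_of_mem h1 hx hy]
    rcases ih _ (hn ▸ H2.card_quotient_lt M hne) (G ⧸ M) rfl (P.mapSurjective hf)
      (isCyclic_of_surjective _ ((QuotientGroup.mk' M).subgroupMap_surjective P)) hab'
      with h1 | h1
    · exact hc.1 (H3.hasNormalPComplement_of_quotient_coprime M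
        ((Nat.Prime.coprime_iff_not_dvd hp.out).2 hpM).symm h1)
    · have h2 := h1.comap (QuotientGroup.mk' M)
      rw [Sylow.coe_mapSurjective, comap_map_eq, QuotientGroup.ker_mk'] at h2
      have h3 := Sylow.normalizer_sup_eq_top' P (N := (P : Subgroup G) ⊔ M) le_sup_left
      obtain ⟨y, hy, hy'⟩ := exists_reg hc.1 P
      obtain ⟨z, hz⟩ := H33.exists_isPPart hp.out y
      have h4 := H33.IsPPart.mem_of_mem hp.out hz _ hy
      have h5 : z ∈ centralizer (P : Set G) := (P : Subgroup G).le_centralizer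
        (H81.mem_sylow_of_mem_normalizer P h4 (H33.IsPPart.pElt hz))
      have h6 := H33.IsPPart.regular hz
      have h7 := mul_mem (inv_mem h4) hy
      have h8 : z⁻¹ * y ∉ centralizer (P : Set G) := fun e => hy' (by simpa using mul_mem h5 e)
      generalize z⁻¹ * y = w at h6 h7 h8
      have h9 := H21.card_sup_mul_card_inf (X := M) (Y := zpowers w) le_normalizer_of_normal
      have h10 := hab (M ⊔ zpowers w) fun hd => by
        have h14 := hd.mul_right (Nat.card ↥(M ⊓ zpowers w))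
        rw [h9, Nat.card_zpowers, hp.out.dvd_mul] at h14
        exact h14.elim hpM h6
      have h11 : zpowers w ≤ centralizer (M : Set G) := zpowers_le.2 fun m hm =>
        H2.mul_comm_of_mem h10 (mem_sup_left hm) (mem_sup_right (mem_zpowers w))
      obtain ⟨a, ha⟩ := IsPGroup.iff_card.1 P.isPGroup'
      rcases P.isPGroup'.commutator_eq_bot_or_commutator_eq_self (K := zpowers w)
        (zpowers_le.2 h7) (by
          rw [ha, Nat.card_zpowers]
          exact ((Nat.Prime.coprime_iff_not_dvd hp.out).2 h6).pow_left a) with h12 | h12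
      · exact h8 (commutator_eq_bot_iff_le_centralizer.1 h12 (mem_zpowers w))
      · have h13 : (P : Subgroup G) ≤ centralizer (M : Set G) :=
          h12.ge.trans ((commutator_mono h11 le_top).trans (commutator_le_left _ _))
        exact hc.2 (normalizer_eq_top_iff.1 ((sup_eq_left.2 (sup_le le_normalizer
          ((le_centralizer_iff.1 h13).trans (centralizer_le_normalizer _)))).symm.trans h3))

/-- Let G be a finite group and p a prime such that a Sylow p-subgroup P of G is cyclic and every subgroup of G of order prime to p is abelian. Then G has a normal p-complement or P is normal in G. -/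
theorem result {G : Type*} [Group G] [Finite G] {p : ℕ}
    [Fact p.Prime] (P : Sylow p G) (hcyc : IsCyclic P)
    (hab : ∀ H : Subgroup G, ¬ p ∣ Nat.card H → IsMulCommutative H) :
    Cfsg.HasNormalPComplement p G ∨ (P : Subgroup G).Normal := by
  exact aux _ G rfl P hcyc hab

end Cfsg.Agent.S4016
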