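import Cfsg.Statements.S4018
import Cfsg.Agent.H81.Friend
import Cfsg.Agent.H81.OrderType
import Cfsg.Agent.S0111

set_option autoImplicit false
open Cfsg

namespace Cfsg.Agent.S4018


theorem orderOf_conj {G : Type*} [Group G] (g x : G) : orderOf (g * x * g⁻¹) = orderOf x := by
  simpa using (MulAut.conj g).orderOf_eq x

theorem mul_self_of_orderOf {G : Type*} [Group G] {x : G} (hx : orderOf x = 2) : x * x = 1 := by
  rw [← pow_two, ← hx, pow_orderOf_eq_one]

theorem ne_one_of_orderOf {G : Type*} [Group G] {x : G} (hx : orderOf x = 2) : x ≠ 1 := by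
  rintro rfl
  simp at hx

theorem conj_mul_eq_inv {G : Type*} [Group G] {x y : G} (hx : x * x = 1) (hy : y * y = 1) :
    x * (x * y) * x⁻¹ = (x * y)⁻¹ ∧ y * (x * y) * y⁻¹ = (x * y)⁻¹ := by
  have h1 : x⁻¹ = x := inv_eq_of_mul_eq_one_right hx
  have h2 : y⁻¹ = y := inv_eq_of_mul_eq_one_right hy
  rw [mul_inv_rev, h1, h2]
  constructor
  · rw [← mul_assoc, hx, one_mul]
  · rw [mul_assoc, mul_assoc, hy, mul_one]

/-- Let G be a finite group with an abelian Sylow 3-subgroup P such that the normalizer of P has order 4·#P, the centralizer C of P has order 2·#P, C meets each of its conjugates by elements outside its normalizer trivially, and every proper subgroup of G of even order has order dividing 4·#P. Then G is not simple. -/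
theorem result {G : Type*} [Group G] [Finite G]
    (P : Sylow 3 G) (hab : IsMulCommutative P)
    (hN : Nat.card (Subgroup.normalizer ((P : Subgroup G) : Set G)) = 4 * Nat.card P)
    (hC : Nat.card (Subgroup.centralizer (P : Set G)) = 2 * Nat.card P)
    (hTI : Cfsg.IsTISubset (Subgroup.centralizer (P : Set G) : Set G))
    (heven : ∀ H : Subgroup G, H ≠ ⊤ → 2 ∣ Nat.card H → Nat.card H ∣ 4 * Nat.card P) :
    ¬ IsSimpleGroup G := by
  intro hs
  set C := Subgroup.centralizer (P : Set G) with hCdef
  set N := Subgroup.normalizer ((P : Subgroup G) : Set G) with hNdef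
  have hn0 : 0 < Nat.card P := Nat.card_pos
  have hnodd : Nat.Coprime 2 (Nat.card P) := by
    rw [P.card_eq_multiplicity]
    exact Nat.Coprime.pow_right _ (by decide)
  have hPsq : ∀ x ∈ (P : Subgroup G), x * x = 1 → x = 1 := by
    intro x hx h
    refine orderOf_eq_one_iff.1 (Nat.eq_one_of_dvd_coprimes hnodd ?_
      ((P : Subgroup G).orderOf_dvd_natCard hx))
    rw [orderOf_dvd_iff_pow_eq_one, pow_two, h]
  have hPC : (P : Subgroup G) ≤ C := fun x hx => Subgroup.mem_centralizer_iff.2 fun y hy =>
    congrArg Subtype.val (hab.is_comm.comm (⟨y, hy⟩ : (P : Subgroup G)) ⟨x, hx⟩)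
  have hCN : C ≤ N := Subgroup.centralizer_le_normalizer _
  have hPN : (P : Subgroup G) ≤ N := hPC.trans hCN
  have hrel : ∀ {A B : Subgroup G}, A ≤ B → Nat.card B = 2 * Nat.card A → A.relIndex B = 2 := by
    intro A B hAB h
    have h1 := (A.subgroupOf B).index_mul_card
    rw [Nat.card_congr (Subgroup.subgroupOfEquivOfLe hAB).toEquiv, h] at h1
    exact Nat.eq_of_mul_eq_mul_right Nat.card_pos h1
  have hmul2 : ∀ {A B : Subgroup G}, A.relIndex B = 2 → ∀ a ∈ B, ∀ b ∈ B, a ∉ A → b ∉ A →
      a * b ∈ A := by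
    intro A B h a ha b hb ha' hb'
    have := (Subgroup.mul_mem_iff_of_index_two h (a := ⟨a, ha⟩) (b := ⟨b, hb⟩)).2
      (by simp [Subgroup.mem_subgroupOf, ha', hb'])
    exact this
  have hPC2 : (P : Subgroup G).relIndex C = 2 := hrel hPC hC
  have hCN2 : C.relIndex N = 2 := hrel hCN (by rw [hN, hC]; ring)
  obtain ⟨t₀, ht₀⟩ := exists_prime_orderOf_dvd_card' (G := C) 2 (by rw [hC]; exact Dvd.intro _ rfl)
  obtain ⟨t, htC⟩ := t₀
  have ht : orderOf t = 2 := by rw [← ht₀]; exact Subgroup.orderOf_mk t htC ▸ rfl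
  have htt := mul_self_of_orderOf ht
  have ht1 := ne_one_of_orderOf ht
  have htP : t ∉ (P : Subgroup G) := fun h => ht1 (hPsq t h htt)
  have huniq : ∀ c ∈ C, orderOf c = 2 → c = t := by
    intro c hc hc2
    have hcc := mul_self_of_orderOf hc2
    have hcP : c ∉ (P : Subgroup G) := fun h => ne_one_of_orderOf hc2 (hPsq c h hcc)
    have h1 := hmul2 hPC2 c hc t htC hcP htP
    have h2 : c * t * t = t * (c * t) := Subgroup.mem_centralizer_iff.1 htC _ h1
    have h3 : c * t * (c * t) = 1 := by
      rw [mul_assoc c t, ← h2, mul_assoc c t t, htt, mul_one, hcc]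
    have h4 := hPsq _ h1 h3
    calc c = c * t * t := by rw [mul_assoc, htt, mul_one]
      _ = t := by rw [h4, one_mul]
  have hNt : N ≤ Subgroup.centralizer {t} := by
    intro g hg
    rw [Subgroup.mem_centralizer_singleton_iff]
    have h1 : g * t * g⁻¹ ∈ C := by
      rw [Subgroup.mem_centralizer_iff]
      intro y hy
      have hy' : g⁻¹ * y * g ∈ (P : Subgroup G) := by
        have := (Subgroup.mem_normalizer_iff''.1 hg y).1 hy
        exact this
      have := Subgroup.mem_centralizer_iff.1 htC _ hy'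
      calc y * (g * t * g⁻¹) = g * (g⁻¹ * y * g * t) * g⁻¹ := by group
        _ = g * (t * (g⁻¹ * y * g)) * g⁻¹ := by rw [this]
        _ = g * t * g⁻¹ * y := by group
    have h2 := huniq _ h1 (by rw [orderOf_conj, ht])
    calc g * t = g * t * g⁻¹ * g := by group
      _ = t * g := by rw [h2]
  have hNC : N ≠ C := by
    intro h
    rw [h, hC] at hN
    omega
  have hCt : Subgroup.centralizer ({t} : Set G) ≠ ⊤ := by
    intro h
    have h1 : t ∈ Subgroup.center G := Subgroup.mem_center_iff.2 fun g =>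
      Subgroup.mem_centralizer_singleton_iff.1 (h ▸ Subgroup.mem_top g)
    rcases (inferInstance : (Subgroup.center G).Normal).eq_bot_or_eq_top with h2 | h2
    · rw [h2] at h1; exact ht1 h1
    · apply hNC
      refine le_antisymm (fun g _ => Subgroup.mem_centralizer_iff.2 fun y _ => ?_) hCN
      exact Subgroup.mem_center_iff.1 (h2 ▸ Subgroup.mem_top g) y
  have hCtN : Subgroup.centralizer ({t} : Set G) = N := by
    symm
    refine Subgroup.eq_of_le_of_card_ge hNt ?_
    rw [hN]
    refine Nat.le_of_dvd (by omega) (heven _ hCt ?_)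
    refine Dvd.dvd.trans ?_ (Subgroup.card_dvd_of_le hNt)
    rw [hN]; exact Dvd.dvd.mul_right (by decide) _
  have hTI' : ∀ g x : G, x ∈ C → x ≠ 1 → g * x * g⁻¹ ∈ C → g * t = t * g := by
    intro g x hx hx1 hgx
    have hg : g ∈ Subgroup.normalizer (C : Set G) := by
      by_contra hg
      exact hx1 (hTI g hg x hx hgx)
    have h1 : g * t * g⁻¹ ∈ C := (Subgroup.mem_normalizer_iff.1 hg t).1 htC
    have h2 := huniq _ h1 (by rw [orderOf_conj, ht])
    calc g * t = g * t * g⁻¹ * g := by group
      _ = t * g := by rw [h2]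
  have hP1 : (P : Subgroup G) ≠ ⊥ := by
    intro h
    apply hNC
    refine le_antisymm (fun g _ => Subgroup.mem_centralizer_iff.2 fun y hy => ?_) hCN
    have : y ∈ (P : Subgroup G) := hy
    rw [h, Subgroup.mem_bot] at this
    simp [this]
  have h3P : 3 ∣ Nat.card P := by
    rcases P.isPGroup'.card_eq_or_dvd with h | h
    · exact absurd (Subgroup.card_eq_one.1 h) hP1
    · exact h
  have h4G : 4 * Nat.card P ∣ Nat.card G := hN ▸ Subgroup.card_subgroup_dvd_card N
  -- all involutions are conjugate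
  have hconj : ∀ u : G, orderOf u = 2 → ∃ g : G, u = g * t * g⁻¹ := by
    intro u hu
    have h2 : ∀ v : G, orderOf v = 2 → IsPGroup 2 (Subgroup.zpowers v) := fun v hv =>
      IsPGroup.of_card (n := 1) (by rw [Nat.card_zpowers, hv, pow_one])
    obtain ⟨S, hS⟩ := (h2 t ht).exists_le_sylow
    obtain ⟨T, hT⟩ := (h2 u hu).exists_le_sylow
    obtain ⟨g, rfl⟩ := MulAction.exists_smul_eq G S T
    have hu' : g⁻¹ * u * g⁻¹⁻¹ ∈ (S : Subgroup G) := by
      have := hT (Subgroup.mem_zpowers u)
      rw [Sylow.coe_subgroup_smul, Subgroup.mem_pointwise_smul_iff_inv_smul_mem] at this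
      simpa using this
    have hS4 : Nat.card S = 4 := by
      obtain ⟨k, hk⟩ := IsPGroup.iff_card.1 S.isPGroup'
      apply Nat.dvd_antisymm
      · have h1 : (S : Subgroup G) ≠ ⊤ := by
          intro h
          have h3 : 3 ∣ Nat.card S := by
            rw [h, Subgroup.card_top]
            exact (h3P.mul_left 4).trans h4G
          rw [hk] at h3
          exact absurd (Nat.Prime.dvd_of_dvd_pow Nat.prime_three h3) (by decide)
        have h3 := heven _ h1 (by
          have := Subgroup.card_dvd_of_le hS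
          rwa [Nat.card_zpowers, ht] at this)
        rw [hk] at h3 ⊢
        exact (Nat.Coprime.pow_left k hnodd).dvd_of_dvd_mul_right h3
      · rw [S.card_eq_multiplicity]
        refine (pow_dvd_pow 2 (?_ : 2 ≤ _))
        exact (Nat.prime_two.pow_dvd_iff_le_factorization Nat.card_pos.ne').1
          ((Dvd.intro _ rfl).trans h4G)
    have key : ∀ v : G, orderOf v = 2 → v ∈ Subgroup.zpowers t → v = t := fun v hv hvt =>
      huniq v ((Subgroup.zpowers_le.2 htC) hvt) hv
    have hord : orderOf (g⁻¹ * u * g⁻¹⁻¹) = 2 := by rw [orderOf_conj, hu]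
    by_cases hut : g⁻¹ * u * g⁻¹⁻¹ ∈ Subgroup.zpowers t
    · exact ⟨g, by rw [← key _ hord hut]; group⟩
    rcases S0111.result S (Subgroup.zpowers t) hS
      (hrel hS (by rw [hS4, Nat.card_zpowers, ht])) _ hord hu' hut with ⟨M, hMn, hMi, -⟩ | ⟨h, hh⟩
    · exfalso
      rcases hMn.eq_bot_or_eq_top with h | h
      · rw [h, Subgroup.index_bot] at hMi
        rw [hMi] at h4G
        have := Nat.le_of_dvd (by decide) h4G
        omega
      · rw [h, Subgroup.index_top] at hMi
        omega
    · refine ⟨g * h⁻¹, ?_⟩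
      rw [← key _ (by rw [orderOf_conj, hord]) hh]; group
  have hF : ∀ a b : G, orderOf a = 2 → orderOf b = 2 → a * t = t * a → b * t = t * b → a ≠ t →
      b ≠ t → a * b ∈ C := by
    intro a b ha hb hat hbt ha' hb'
    refine hmul2 hCN2 a ?_ b ?_ (fun h => ha' (huniq a h ha)) (fun h => hb' (huniq b h hb))
    · rw [← hCtN]; exact Subgroup.mem_centralizer_singleton_iff.2 hat
    · rw [← hCtN]; exact Subgroup.mem_centralizer_singleton_iff.2 hbt
  let V := {x : G // orderOf x = 2}
  let adj : V → V → Prop := fun x y => x ≠ y ∧ x.1 * y.1 = y.1 * x.1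
  have : Nonempty V := ⟨⟨t, ht⟩⟩
  have hfr : ∀ x y : V, x ≠ y → ∃! z, adj x z ∧ adj y z := by
    rintro ⟨x, hx⟩ ⟨y, hy⟩ hxy
    have hxy' : x ≠ y := fun h => hxy (Subtype.ext h)
    have hxx := mul_self_of_orderOf hx
    have hyy := mul_self_of_orderOf hy
    have hxy1 : x * y ≠ 1 := fun h => hxy' (by
      calc x = x * y * y := by rw [mul_assoc, hyy, mul_one]
        _ = y := by rw [h, one_mul])
    obtain ⟨hinvx, hinvy⟩ := conj_mul_eq_inv hxx hyy
    refine existsUnique_of_exists_of_unique ?_ ?_
    · rcases Nat.even_or_odd' (orderOf (x * y)) with ⟨k, hk | hk⟩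
      · have hk0 : k ≠ 0 := by
          rintro rfl
          exact (orderOf_pos (x * y)).ne' hk
        have hz : orderOf ((x * y) ^ k) = 2 := by
          rw [orderOf_pow' _ hk0, hk, Nat.gcd_eq_right (Dvd.intro_left _ rfl),
            Nat.mul_div_cancel _ (Nat.pos_of_ne_zero hk0)]
        have hzz := mul_self_of_orderOf hz
        have hcz : ∀ a : G, a * (x * y) * a⁻¹ = (x * y)⁻¹ → a * (x * y) ^ k = (x * y) ^ k * a := by
          intro a ha
          have : a * (x * y) ^ k * a⁻¹ = (x * y) ^ k := by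
            rw [← conj_pow, ha, inv_pow, inv_eq_of_mul_eq_one_right hzz]
          calc a * (x * y) ^ k = a * (x * y) ^ k * a⁻¹ * a := (inv_mul_cancel_right _ _).symm
            _ = _ := by rw [this]
        have hne : ∀ a : G, a * (x * y) * a⁻¹ = (x * y)⁻¹ → a = (x * y) ^ k → a = x * y := by
          intro a ha hak
          have h1 : (x * y)⁻¹ = x * y := by
            rw [← ha, hak, ← ((Commute.refl (x * y)).pow_right k).eq, mul_inv_cancel_right]
          have h2 : orderOf (x * y) ∣ 2 := by
            rw [orderOf_dvd_iff_pow_eq_one, pow_two]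
            nth_rewrite 1 [← h1]
            exact inv_mul_cancel _
          rw [hk] at h2
          have := Nat.le_of_dvd (by decide) h2
          have : k = 1 := by omega
          rw [hak, this, pow_one]
        refine ⟨⟨_, hz⟩, ⟨fun h => ?_, hcz x hinvx⟩, ⟨fun h => ?_, hcz y hinvy⟩⟩
        · have := hne x hinvx (congrArg Subtype.val h)
          exact ne_one_of_orderOf hy (by simpa using this)
        · have := hne y hinvy (congrArg Subtype.val h)
          exact ne_one_of_orderOf hx (by simpa using this)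
      · have hcop : Nat.Coprime (orderOf (x * y)) 2 := by
          rw [hk]; simp
        have hxN : x ∈ Subgroup.normalizer (Subgroup.zpowers (x * y) : Set G) := by
          refine Subgroup.mem_normalizer_fintype ?_
          rintro _ ⟨i, rfl⟩
          refine ⟨-i, ?_⟩
          simp only
          rw [← conj_zpow, hinvx, inv_zpow, zpow_neg]
        have hprop : Subgroup.normalizer (Subgroup.zpowers (x * y) : Set G) ≠ ⊤ := by
          intro h
          rcases (Subgroup.normalizer_eq_top_iff.1 h).eq_bot_or_eq_top with h1 | h1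
          · exact hxy1 (Subgroup.zpowers_eq_bot.1 h1)
          · have h2 : orderOf x ∣ orderOf (x * y) := by
              rw [← Nat.card_zpowers (x * y)]
              exact Subgroup.orderOf_dvd_natCard _ (h1 ▸ Subgroup.mem_top x)
            rw [hx, hk] at h2
            omega
        have h1 := heven _ hprop (hx ▸ Subgroup.orderOf_dvd_natCard _ hxN)
        have h2 : orderOf (x * y) ∣ Nat.card P := by
          have h3 := (Subgroup.orderOf_dvd_natCard _
            (Subgroup.le_normalizer (Subgroup.mem_zpowers (x * y)))).trans h1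
          exact (Nat.Coprime.pow_right 2 hcop).dvd_of_dvd_mul_left h3
        have h3 : IsPGroup 3 (Subgroup.zpowers (x * y)) := by
          rw [P.card_eq_multiplicity] at h2
          obtain ⟨j, -, hj⟩ := (Nat.dvd_prime_pow Nat.prime_three).1 h2
          exact IsPGroup.of_card (by rw [Nat.card_zpowers, hj])
        obtain ⟨T, hT⟩ := h3.exists_le_sylow
        obtain ⟨g, rfl⟩ := MulAction.exists_smul_eq G P T
        have hw : g⁻¹ * (x * y) * g ∈ (P : Subgroup G) := by
          have := hT (Subgroup.mem_zpowers _)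
          rw [Sylow.coe_subgroup_smul, Subgroup.mem_pointwise_smul_iff_inv_smul_mem,
            ← map_inv, MulAut.smul_def, MulAut.conj_apply, inv_inv] at this
          exact this
        have hw1 : g⁻¹ * (x * y) * g ≠ 1 := fun h => hxy1 (by
          calc x * y = g * (g⁻¹ * (x * y) * g) * g⁻¹ := by group
            _ = 1 := by rw [h]; group)
        have key : ∀ a : G, a * (x * y) * a⁻¹ = (x * y)⁻¹ →
            a ≠ g * t * g⁻¹ ∧ a * (g * t * g⁻¹) = g * t * g⁻¹ * a := by
          intro a ha
          constructor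
          · rintro rfl
            have h4 : g⁻¹ * (x * y) * g * t = t * (g⁻¹ * (x * y) * g) :=
              Subgroup.mem_centralizer_iff.1 htC _ hw
            have h5 : (x * y)⁻¹ = x * y := by
              rw [← ha]
              calc g * t * g⁻¹ * (x * y) * (g * t * g⁻¹)⁻¹
                  = g * (t * (g⁻¹ * (x * y) * g)) * t⁻¹ * g⁻¹ := by group
                _ = x * y := by rw [← h4]; group
            have h6 : orderOf (x * y) ∣ 2 := by
              rw [orderOf_dvd_iff_pow_eq_one, pow_two]
              nth_rewrite 1 [← h5]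
              exact inv_mul_cancel _
            exact hxy1 (orderOf_eq_one_iff.1 (Nat.eq_one_of_dvd_coprimes hcop dvd_rfl h6))
          · have h4 := hTI' (g⁻¹ * a * g) _ (hPC hw) hw1 (by
              have : g⁻¹ * a * g * (g⁻¹ * (x * y) * g) * (g⁻¹ * a * g)⁻¹
                  = (g⁻¹ * (x * y) * g)⁻¹ := by
                calc _ = g⁻¹ * (a * (x * y) * a⁻¹) * g := by group
                  _ = _ := by rw [ha]; group
              rw [this]
              exact C.inv_mem (hPC hw))
            calc a * (g * t * g⁻¹) = g * (g⁻¹ * a * g * t) * g⁻¹ := by group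
              _ = g * t * g⁻¹ * a := by rw [h4]; group
        refine ⟨⟨g * t * g⁻¹, by rw [orderOf_conj, ht]⟩,
          ⟨fun h => (key x hinvx).1 (congrArg Subtype.val h), (key x hinvx).2⟩,
          ⟨fun h => (key y hinvy).1 (congrArg Subtype.val h), (key y hinvy).2⟩⟩
    · have key : ∀ g : G, x ≠ g * t * g⁻¹ → x * (g * t * g⁻¹) = g * t * g⁻¹ * x →
          y ≠ g * t * g⁻¹ → y * (g * t * g⁻¹) = g * t * g⁻¹ * y → g⁻¹ * (x * y) * g ∈ C := by
        intro g h1 h2 h3 h4
        have aux : ∀ a : G, orderOf a = 2 → a ≠ g * t * g⁻¹ → a * (g * t * g⁻¹) = g * t * g⁻¹ * a →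
            orderOf (g⁻¹ * a * g) = 2 ∧ g⁻¹ * a * g * t = t * (g⁻¹ * a * g) ∧ g⁻¹ * a * g ≠ t := by
          intro a ha ha1 ha2
          refine ⟨by simpa [ha] using orderOf_conj g⁻¹ a, ?_, fun h => ha1 (by rw [← h]; group)⟩
          calc g⁻¹ * a * g * t = g⁻¹ * (a * (g * t * g⁻¹)) * g := by group
            _ = _ := by rw [ha2]; group
        obtain ⟨a1, a2, a3⟩ := aux x hx h1 h2
        obtain ⟨b1, b2, b3⟩ := aux y hy h3 h4
        have := hF _ _ a1 b1 a2 b2 a3 b3
        convert this using 1
        group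
      rintro ⟨z, hz⟩ ⟨w, hw⟩ ⟨⟨z1, z2⟩, z3, z4⟩ ⟨⟨w1, w2⟩, w3, w4⟩
      obtain ⟨g, rfl⟩ := hconj z hz
      obtain ⟨h, rfl⟩ := hconj w hw
      have e1 := key g (fun e => z1 (Subtype.ext e)) z2 (fun e => z3 (Subtype.ext e)) z4
      have e2 := key h (fun e => w1 (Subtype.ext e)) w2 (fun e => w3 (Subtype.ext e)) w4
      have e3 := hTI' (h⁻¹ * g) _ e1 (fun e => hxy1 (by
        calc x * y = g * (g⁻¹ * (x * y) * g) * g⁻¹ := by group
          _ = 1 := by rw [e]; group)) (by convert e2 using 1; group)
      apply Subtype.ext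
      calc g * t * g⁻¹ = h * (h⁻¹ * g * t) * g⁻¹ := by group
        _ = h * t * h⁻¹ := by rw [e3]; group
  refine H81.friendship_regular adj (fun x y h => ⟨h.1.symm, h.2.symm⟩) (fun x h => h.1 rfl)
    (Nat.card {y // adj ⟨t, ht⟩ y}) ?_ ?_ hfr
  · obtain ⟨g, hg⟩ : ∃ g : G, g ∉ Subgroup.centralizer ({t} : Set G) := by
      by_contra h
      push Not at h
      exact hCt (eq_top_iff.2 fun g _ => h g)
    obtain ⟨⟨u, hu⟩, ⟨⟨hu1, hu2⟩, -⟩, -⟩ := hfr ⟨t, ht⟩ ⟨g * t * g⁻¹, by rw [orderOf_conj, ht]⟩
      (fun h => hg (Subgroup.mem_centralizer_singleton_iff.2 (by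
        have : t = g * t * g⁻¹ := congrArg Subtype.val h
        calc g * t = g * t * g⁻¹ * g := by group
          _ = t * g := by rw [← this])))
    have hu1' : t ≠ u := fun h => hu1 (Subtype.ext h)
    have hu2' : t * u = u * t := hu2
    have hcent : ∀ x ∈ (P : Subgroup G), x * u = u * x → x = 1 := by
      intro x hx hxu
      by_contra hx1
      obtain ⟨h, rfl⟩ := hconj u hu
      have h1 : h⁻¹ * x * h ∈ N := by
        rw [← hCtN, Subgroup.mem_centralizer_singleton_iff]
        calc h⁻¹ * x * h * t = h⁻¹ * (x * (h * t * h⁻¹)) * h := by group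
          _ = _ := by rw [hxu]; group
      obtain ⟨k, hk⟩ := P.isPGroup' ⟨x, hx⟩
      have hk' : x ^ 3 ^ k = 1 := congrArg Subtype.val hk
      have h2 : (⟨h⁻¹ * x * h, h1⟩ : N) ∈ ((P.subtype hPN : Sylow 3 N) : Subgroup N) := by
        refine H81.mem_sylow_of_normal (P.subtype hPN) ?_ (k := k) (Subtype.ext ?_)
        · rw [Sylow.coe_subtype]; infer_instance
        · have := conj_pow (a := h⁻¹) (b := x) (i := 3 ^ k)
          rw [hk', inv_inv] at this
          simpa using this
      have h3 := hTI' h⁻¹ x (hPC hx) hx1 (by rw [inv_inv]; exact hPC h2)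
      apply hu1'
      calc t = h * (h⁻¹ * t) := by group
        _ = h * t * h⁻¹ := by rw [h3]; group
    let f : ↥(P : Subgroup G) → {y // adj ⟨t, ht⟩ y} := fun x =>
      ⟨⟨x * u * (x : G)⁻¹, by rw [orderOf_conj, hu]⟩, fun h => hu1' (by
        have h1 : t = x * u * (x : G)⁻¹ := congrArg Subtype.val h
        have h2 : (x : G) * t = t * x := Subgroup.mem_centralizer_iff.1 htC _ x.2
        calc t = (x : G)⁻¹ * (x * t) := by group
          _ = (x : G)⁻¹ * (t * x) := by rw [h2]
          _ = u := by rw [h1]; group), by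
        have h2 : (x : G) * t = t * x := Subgroup.mem_centralizer_iff.1 htC _ x.2
        have h3 : (x : G)⁻¹ * t = t * (x : G)⁻¹ := Subgroup.mem_centralizer_iff.1 htC _ (inv_mem x.2)
        calc t * (x * u * (x : G)⁻¹) = t * x * u * (x : G)⁻¹ := by group
          _ = x * (t * u) * (x : G)⁻¹ := by rw [← h2]; group
          _ = x * u * (t * (x : G)⁻¹) := by rw [hu2']; group
          _ = x * u * (x : G)⁻¹ * t := by rw [← h3]; group⟩
    have hf : Function.Injective f := by
      intro a b hab
      have h1 : (a : G) * u * (a : G)⁻¹ = b * u * (b : G)⁻¹ :=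
        congrArg (fun z : {y // adj ⟨t, ht⟩ y} => z.1.1) hab
      have h2 := hcent ((b : G)⁻¹ * a) (mul_mem (inv_mem b.2) a.2) (by
        calc (b : G)⁻¹ * a * u = (b : G)⁻¹ * (a * u * (a : G)⁻¹) * a := by group
          _ = _ := by rw [h1]; group)
      exact Subtype.ext (inv_mul_eq_one.1 h2).symm
    exact (Nat.le_of_dvd hn0 h3P).trans (Nat.card_le_card_of_injective f hf)
  · rintro ⟨z, hz⟩
    obtain ⟨g, rfl⟩ := hconj z hz
    let e : V ≃ V := (MulAut.conj g).toEquiv.subtypeEquiv fun a => by
      simp [orderOf_conj]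
    symm
    refine Nat.card_congr (e.subtypeEquiv fun y => ?_)
    have h1 : (e y).1 = g * y.1 * g⁻¹ := rfl
    simp only [adj, ne_eq, h1]
    refine and_congr (not_congr (e.injective.eq_iff (a := ⟨t, ht⟩)).symm) ?_
    constructor
    · intro h
      calc _ = g * (t * y.1) * g⁻¹ := by group
        _ = _ := by rw [h]; group
    · intro h
      calc t * y.1 = g⁻¹ * (g * t * g⁻¹ * (g * y.1 * g⁻¹)) * g := by group
        _ = _ := by rw [h]; group

end Cfsg.Agent.S4018
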