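import Cfsg.Statements.S4025
import Cfsg.Agent.H19.EqC
import Cfsg.Agent.H24.Trans5
import Cfsg.Agent.H3.Transfer2
import Cfsg.Agent.H3.PGroup
import Cfsg.Agent.S4208
import Cfsg.Agent.H22.Core

set_option autoImplicit false
open Cfsg

namespace Cfsg.Agent.S4025

set_option linter.style.haveILetI false

open Subgroup Cfsg.Agent.H49 Cfsg.Agent.H19

section Aux

variable {G : Type*} [Group G] [Finite G] {p : ℕ}

/-- exact count of the conjugates of a subgroup of order `p ^ 2` -/
theorem count (h : AP p G) (hp : p.Prime) {T X : Subgroup G} [T.Normal] (hel : IsElementaryAbelian p T)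
    (hX : IsElem p 2 X T) :
    (Nat.card T - 1) * (Nat.card T - p) = (𝒩(X)).index * ((p ^ 2 - 1) * (p ^ 2 - p)) := by
  classical
  rw [← ncard_indep hp hel, ← hX.card, ← ncard_indep hp hX.elem]
  have tr : ∀ (g : G) {u v : G}, u ≠ 1 → v ∉ zpowers u → g * u * g⁻¹ ≠ 1 ∧ g * v * g⁻¹ ∉ zpowers (g * u * g⁻¹) := by
    intro g u v hu hv
    refine ⟨by simpa using hu, ?_⟩
    rintro ⟨k, hk⟩
    refine hv ⟨k, ?_⟩
    change (g * u * g⁻¹) ^ k = _ at hk
    rw [conj_zpow] at hk
    simpa using hk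
  have sp : ∀ {Y : Subgroup G} {u v : G}, IsElem p 2 Y T → (u, v) ∈ indep Y → zpowers u ⊔ zpowers v = Y := by
    rintro Y u v hY ⟨hu, hv, hu1, hvu⟩
    exact (isElem_two_of_indep hp hY.elem hu hv hu1 hvu).eq_of_le hY (sup_le (zpowers_le.2 hu) (zpowers_le.2 hv))
  have hcj : ∀ g : G, IsElem p 2 (cj g X) T := fun g =>
    hX.cj_of_mem_norm (normal_iff_top_le_norm.1 inferInstance (mem_top g))
  let f : (G ⧸ 𝒩(X)) × indep X → indep T := fun s =>
    ⟨(s.1.out * s.2.1.1 * s.1.out⁻¹, s.1.out * s.2.1.2 * s.1.out⁻¹),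
      Normal.conj_mem inferInstance _ (hX.le s.2.2.1) _, Normal.conj_mem inferInstance _ (hX.le s.2.2.2.1) _,
      tr _ s.2.2.2.2.1 s.2.2.2.2.2⟩
  have hf : Function.Bijective f := by
    constructor
    · rintro ⟨q, ⟨u, v⟩, hs⟩ ⟨q', ⟨u', v'⟩, hs'⟩ e
      have e1 : q.out * u * q.out⁻¹ = q'.out * u' * q'.out⁻¹ := congrArg (fun s => s.1.1) e
      have e2 : q.out * v * q.out⁻¹ = q'.out * v' * q'.out⁻¹ := congrArg (fun s => s.1.2) e
      have m : ∀ (g : G) {a b : G}, (a, b) ∈ indep X → (g * a * g⁻¹, g * b * g⁻¹) ∈ indep (cj g X) :=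
        fun g a b hab => ⟨mem_cj.2 (by simpa [mul_assoc] using hab.1), mem_cj.2 (by simpa [mul_assoc] using hab.2.1),
          tr g hab.2.2.1 hab.2.2.2⟩
      have e3 : cj q.out X = cj q'.out X := by
        rw [← sp (hcj _) (m q.out hs), ← sp (hcj _) (m q'.out hs'), e1, e2]
      obtain rfl : q = q' := by
        rw [← q.out_eq', ← q'.out_eq', QuotientGroup.eq, mem_norm_iff_cj, cj_mul, ← e3, ← cj_mul, inv_mul_cancel,
          cj_one]
      simp only [mul_left_inj, mul_right_inj] at e1 e2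
      subst e1 e2
      rfl
    · rintro ⟨⟨u, v⟩, hu, hv, hu1, hvu⟩
      obtain ⟨g, hgX⟩ := h.elem hX (isElem_two_of_indep hp hel hu hv hu1 hvu)
      obtain ⟨c, hc⟩ := QuotientGroup.mk_out_eq_mul (𝒩(X)) g
      have e : cj (g * c) X = zpowers u ⊔ zpowers v := by rw [cj_mul, mem_norm_iff_cj.1 c.2, hgX]
      have t := tr (g * c)⁻¹ hu1 hvu
      rw [inv_inv] at t
      refine ⟨(QuotientGroup.mk g, ⟨((g * c)⁻¹ * u * (g * c), (g * c)⁻¹ * v * (g * c)),
        mem_cj.1 (e.ge (mem_sup_left (mem_zpowers u))), mem_cj.1 (e.ge (mem_sup_right (mem_zpowers v))), t⟩), ?_⟩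
      refine Subtype.ext (Prod.ext ?_ ?_) <;> simp only [f, hc] <;> group
  rw [← Nat.card_coe_set_eq, ← Nat.card_congr (Equiv.ofBijective f hf), Nat.card_prod, Nat.card_coe_set_eq]
  rfl

theorem arith {p n : ℕ} (hp : p.Prime) (h2 : p ≠ 2) (hn : 3 ≤ n) (h : p ^ n - 1 ∣ (n + 1) * (p ^ 2 - 1)) : False := by
  have h3 : 3 ≤ p := by have := hp.two_le; omega
  have h9 : 9 ≤ p ^ 2 := by nlinarith
  have hle := Nat.le_of_dvd (Nat.mul_pos (by omega) (by omega)) h
  obtain ⟨m, rfl⟩ := Nat.exists_eq_add_of_le' hn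
  have e : p ^ (m + 3) = p ^ (m + 1) * p ^ 2 := by ring
  have key : ∀ k, k + 4 < p ^ (k + 1) → k = m → False := by
    rintro k hk rfl
    rw [e] at hle
    obtain ⟨a, ha⟩ := Nat.exists_eq_add_of_le' (show 1 ≤ p ^ 2 by omega)
    rw [ha] at hle
    simp only [Nat.add_sub_cancel] at hle
    have : (k + 5) * (a + 1) ≤ p ^ (k + 1) * (a + 1) := Nat.mul_le_mul_right _ hk
    have : (k + 5) * (a + 1) = (k + 3 + 1) * a + a + k + 5 := by ring
    omega
  rcases Nat.eq_zero_or_pos m with rfl | hm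
  · rcases Nat.lt_or_ge p 5 with h5 | h5
    · interval_cases p
      · norm_num at h
      · norm_num at hp
    · exact key 0 (by rw [zero_add, zero_add, pow_one]; omega) rfl
  · refine key m ?_ rfl
    refine lt_of_lt_of_le ?_ (Nat.pow_le_pow_left h3 _)
    clear h hle e key hn
    induction m, hm using Nat.le_induction with
    | base => norm_num
    | succ k _ ih => rw [pow_succ]; omega

/-- the exceptional size `81` does not occur -/
theorem not81 [Group.IsSolvable G] {T : Subgroup G} [T.Normal] (hel : IsElementaryAbelian 3 T) (hC : 𝒞(T) ≤ T)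
    (hc : Nat.card T = 3 ^ 4) (h : 65 ∣ Nat.card G) : False := by
  have : Fact (Nat.Prime 5) := ⟨by norm_num⟩
  have : Fact (Nat.Prime 13) := ⟨by norm_num⟩
  have hN : ∀ K : Subgroup G, K ≤ 𝒩(T) := fun K => le_top.trans (normal_iff_top_le_norm.1 inferInstance)
  obtain ⟨H, hH⟩ := exists_hall (M := (⊤ : Subgroup G)) inferInstance {5, 13}
  have hfr : frattini T = ⊥ := by
    have := hel.1
    refine le_bot_iff.1 ((H3.frattini_le_iff (IsPGroup.of_card hc)).2 ⟨?_, fun x => Subtype.ext (hel.2 _ x.2)⟩)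
    rw [le_bot_iff, commutator_eq_bot_iff_center_eq_top, eq_top_iff]
    exact fun x _ => mem_center_iff.2 fun y => this.is_comm.comm y x
  have hA := S4208.result hc (r := 4) (by rw [hfr, index_bot, hc])
  have hinj : Function.Injective ((MulAut.conjNormal (H := T)).comp H.subtype) := by
    rw [injective_iff_map_eq_one]
    intro x hx
    have hxT : (x : G) ∈ T := hC (mem_centralizer_iff.2 fun t ht => by
      have h0 : MulAut.conjNormal (H := T) (x : G) ⟨t, ht⟩ = ⟨t, ht⟩ := DFunLike.congr_fun hx ⟨t, ht⟩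
      have : (x : G) * t * (x : G)⁻¹ = t := congrArg Subtype.val h0
      exact (mul_inv_eq_iff_eq_mul.1 this).symm)
    by_contra hx1
    have o3 : orderOf (x : G) = 3 := orderOf_eq_prime (hel.2 _ hxT) fun e => hx1 (Subtype.ext e)
    have := hH.2.1 3 Nat.prime_three (o3 ▸ H.orderOf_dvd_natCard x.2)
    simp at this
  have hd := (card_dvd_of_injective _ hinj).trans hA
  have h65 : Nat.card H ∣ 65 := by
    refine Nat.Coprime.dvd_of_dvd_mul_right (k := Nat.card H) (n := 373248) ?_ (by norm_num at hd ⊢; exact hd)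
    refine Nat.coprime_of_dvd fun r hr h1 h2 => ?_
    rcases hH.2.1 r hr h1 with rfl | rfl <;> norm_num at h2
  have d5 : 5 ∣ Nat.card H := hH.dvd_card (by norm_num) (by simp) (by rw [card_top]; exact Dvd.dvd.trans (by norm_num) h)
  have d13 : 13 ∣ Nat.card H :=
    hH.dvd_card (by norm_num) (by simp) (by rw [card_top]; exact Dvd.dvd.trans (by norm_num) h)
  have hH65 : Nat.card H = 65 := Nat.dvd_antisymm h65 (Nat.Coprime.mul_dvd_of_dvd_of_dvd (by norm_num) d5 d13)
  obtain ⟨x, hx⟩ := exists_prime_orderOf_dvd_card' 13 d13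
  obtain ⟨y, hy⟩ := exists_prime_orderOf_dvd_card' 5 d5
  have hi : (zpowers x).index = 5 := by
    have := (zpowers x).card_mul_index
    rw [Nat.card_zpowers, hx, hH65] at this
    omega
  have hn : (zpowers x).Normal := normal_of_index_eq_minFac_card (by rw [hi, hH65]; norm_num)
  have p5 : IsPGroup 5 (zpowers y) := IsPGroup.of_card (n := 1) (by rw [Nat.card_zpowers, hy]; rfl)
  have hxy : zpowers y ≤ 𝒞(zpowers x) :=
    H3.le_centralizer_of_not_dvd_pow_sub_one (p := 13) (by norm_num) p5 (le_normalizer_of_normal) (m := 1)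
      (by rw [Nat.card_zpowers, hx]; rfl) fun i h1 h2 => by interval_cases i; norm_num
  have cxy : (x : G) * y = y * x :=
    congrArg Subtype.val (mem_centralizer_iff.1 (hxy (mem_zpowers y)) x (mem_zpowers x))
  have ox : orderOf (x : G) = 13 := by rw [orderOf_coe, hx]
  have oy : orderOf (y : G) = 5 := by rw [orderOf_coe, hy]
  have px : IsPGroup 13 (zpowers (x : G)) := IsPGroup.of_card (n := 1) (by rw [Nat.card_zpowers, ox]; rfl)
  have py : IsPGroup 5 (zpowers (y : G)) := IsPGroup.of_card (n := 1) (by rw [Nat.card_zpowers, oy]; rfl)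
  have pw : ∀ K : Subgroup G, ∃ k ≤ 4, Nat.card ↥(T ⊓ K) = 3 ^ k := fun K =>
    (Nat.dvd_prime_pow Nat.prime_three).1 (hc ▸ card_dvd_of_le inf_le_left)
  have nt : ∀ {z : G} {r : ℕ}, orderOf z = r → r ≠ 1 → r ≠ 3 → Nat.card ↥(T ⊓ 𝒞(zpowers z)) ≠ 3 ^ 4 := by
    intro z r hz h1 h3 e
    have e' : T ⊓ 𝒞(zpowers z) = T := eq_of_le_of_card_ge inf_le_left (by rw [e, hc])
    have hzT : z ∈ T := hC (le_centralizer_iff.1 (inf_eq_left.1 e') (mem_zpowers z))
    have := (Nat.dvd_prime Nat.prime_three).1 (hz ▸ orderOf_dvd_of_pow_eq_one (hel.2 _ hzT))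
    omega
  have m1 := H3.card_modEq_card_inf_centralizer px (hN _)
  have m2 := H3.card_modEq_card_inf_centralizer py (hN _)
  obtain ⟨k, hk, ek⟩ := pw 𝒞(zpowers (x : G))
  obtain ⟨j, hj, ej⟩ := pw 𝒞(zpowers (y : G))
  have n1 := nt ox (by norm_num) (by norm_num)
  have n2 := nt oy (by norm_num) (by norm_num)
  rw [hc, ek] at m1
  rw [hc, ej] at m2
  rw [ek] at n1
  rw [ej] at n2
  obtain rfl : k = 1 := by
    interval_cases k <;> first | rfl | exact absurd rfl n1 | exact absurd m1 (by decide)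
  obtain rfl : j = 0 := by
    interval_cases j <;> first | rfl | exact absurd rfl n2 | exact absurd m2 (by decide)
  have hyx : zpowers (y : G) ≤ 𝒞(zpowers (x : G)) := by
    rw [zpowers_le, mem_centralizer_iff]
    rintro _ ⟨n, rfl⟩
    exact (Commute.zpow_left cxy n).eq
  have h1 : zpowers (y : G) ≤ 𝒞(T ⊓ 𝒞(zpowers (x : G))) :=
    H3.le_centralizer_of_not_dvd_pow_sub_one (p := 3) (by norm_num) py
      (norm_inf (hN _) (hyx.trans le_normalizer)) ek fun i h1 h2 => by interval_cases i; norm_num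
  have h2 := card_le_of_le (le_inf inf_le_left (le_centralizer_iff.1 h1) : T ⊓ 𝒞(zpowers (x : G)) ≤ T ⊓ _)
  rw [ek, ej] at h2
  norm_num at h2

/-- for odd `p`: rank `3` and field coordinates -/
theorem odd_case [Group.IsSolvable G] [hp : Fact p.Prime] (h2 : p ≠ 2) (h : AP p G) {T : Subgroup G} [T.Normal]
    (hel : IsElementaryAbelian p T) (hC : 𝒞(T) ≤ T) {n : ℕ} (hn : 3 ≤ n) (hc : Nat.card T = p ^ n) :
    n = 3 ∧ ∃ (K : Type) (_ : Field K) (_ : Fintype K) (φ : K → G), Function.Injective φ ∧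
      (∀ u, u ∈ T ↔ ∃ x, φ x = u) ∧ (∀ x y, φ (x + y) = φ x * φ y) ∧
      ∀ g ∈ 𝒩(T), ∃ c : K, c ≠ 0 ∧ ∃ θ : K ≃+* K, ∀ x, g * φ x * g⁻¹ = φ (c * θ x) := by
  have hTe : IsElem p n T T := ⟨le_rfl, hel, hc⟩
  obtain ⟨X, hX⟩ := hTe.sub hp.out (show 2 ≤ n by omega)
  have hcount := count h hp.out hel hX
  letI : CommGroup T := { (inferInstance : Group T) with mul_comm := hel.1.is_comm.comm }
  letI : Module (ZMod p) (Additive T) := AddCommGroup.zmodModule fun x =>
    congrArg Additive.ofMul (Subtype.ext (hel.2 _ x.toMul.2) : x.toMul ^ p = 1)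
  let α : G → Additive T →+ Additive T := fun g => MonoidHom.toAdditive (MulAut.conjNormal (H := T) g).toMonoidHom
  letI : MulAction (G × (ZMod p)ˣ) (Additive T) :=
    { smul := fun γ v => (γ.2 : ZMod p) • α γ.1 v
      one_smul := fun v => by
        change ((1 : (ZMod p)ˣ) : ZMod p) • α 1 v = v
        simp [α]
      mul_smul := fun γ δ v => by
        change ((γ.2 * δ.2 : (ZMod p)ˣ) : ZMod p) • α (γ.1 * δ.1) v = (γ.2 : ZMod p) • α γ.1 ((δ.2 : ZMod p) • α δ.1 v)
        rw [ZMod.map_smul, smul_smul, Units.val_mul]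
        simp [α] }
  let f := MulAction.toPermHom (G × (ZMod p)ˣ) (Additive T)
  have hf : ∀ γ v, f γ v = (γ.2 : ZMod p) • α γ.1 v := fun _ _ => rfl
  have hsm : ∀ (c : ZMod p) (v : Additive T), ((c • v).toMul : G) = (v.toMul : G) ^ c.val := fun c v => by
    conv_lhs => rw [← ZMod.natCast_zmod_val c, Nat.cast_smul_eq_nsmul]
    rfl
  letI : DistribMulAction f.range (Additive T) :=
    { smul_zero := by rintro ⟨_, γ, rfl⟩; change f γ 0 = 0; simp [hf]
      smul_add := by rintro ⟨_, γ, rfl⟩ v w; change f γ _ = f γ _ + f γ _; simp [hf] }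
  have hs : Group.IsSolvable f.range := Group.isSolvable_of_surjective f.rangeRestrict_surjective
  have hnt : Nontrivial (Additive T) := by
    rw [← Finite.one_lt_card_iff_nontrivial]
    change 1 < Nat.card T
    rw [hc]; exact Nat.one_lt_pow (by omega) hp.out.one_lt
  have ht : ∀ v w : Additive T, v ≠ 0 → w ≠ 0 → ∃ g : f.range, g • v = w := by
    intro v w hv hw
    have hv1 : (v.toMul : G) ≠ 1 := fun e => hv (congrArg Additive.ofMul (Subtype.ext e : v.toMul = 1))
    have hw1 : (w.toMul : G) ≠ 1 := fun e => hw (congrArg Additive.ofMul (Subtype.ext e : w.toMul = 1))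
    obtain ⟨g, hg⟩ := h.elem (isElem_zpowers' hp.out v.toMul.2 (hel.2 _ v.toMul.2) hv1)
      (isElem_zpowers' hp.out w.toMul.2 (hel.2 _ w.toMul.2) hw1)
    obtain ⟨k, hk⟩ := mem_cj.1 (hg.ge (mem_zpowers _))
    have e : (k : ZMod p) • α g v = w := by
      rw [Int.cast_smul_eq_zsmul, ← map_zsmul]
      apply Additive.toMul.injective
      apply Subtype.ext
      change g * (v.toMul : G) ^ k * g⁻¹ = _
      simp only at hk
      rw [hk]; group
    have hk0 : (k : ZMod p) ≠ 0 := fun e0 => hw (by rw [← e, e0, zero_smul])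
    exact ⟨⟨f (g, Units.mk0 _ hk0), _, rfl⟩, e⟩
  -- the index of the normalizer of `X` in the linear group
  have hker : f.rangeRestrict.ker ≤ (𝒩(X)).prod ⊤ := by
    rintro ⟨g, c⟩ hγ
    refine mem_prod.2 ⟨(inv_mem_iff (H := 𝒩(X))).1 (mem_normalizer_fintype fun u hu => ?_), trivial⟩
    have e : f (g, c) (Additive.ofMul ⟨g⁻¹ * u * g⁻¹⁻¹, Normal.conj_mem inferInstance _ (hX.le hu) _⟩) = _ :=
      DFunLike.congr_fun (congrArg Subtype.val hγ) _
    have e' := congrArg (fun v : Additive T => (v.toMul : G)) e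
    simp only [hf, hsm] at e'
    change (g * (g⁻¹ * u * g⁻¹⁻¹) * g⁻¹) ^ _ = g⁻¹ * u * g⁻¹⁻¹ at e'
    rw [← e']
    refine pow_mem ?_ _
    simpa [mul_assoc] using hu
  have hdv : (p - 1) * (𝒩(X)).index ∣ Nat.card f.range := by
    rw [← (((𝒩(X)).prod ⊤).map f.rangeRestrict).card_mul_index,
      index_map_eq _ f.rangeRestrict_surjective hker, index_prod, index_top, mul_one]
    refine mul_dvd_mul_right ?_ _
    have hi : Function.Injective (f.rangeRestrict.comp (MonoidHom.inr G (ZMod p)ˣ)) := by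
      rw [injective_iff_map_eq_one]
      intro c hc1
      obtain ⟨v, hv⟩ := exists_ne (0 : Additive T)
      have e : (c : ZMod p) • α 1 v = v := DFunLike.congr_fun (congrArg Subtype.val hc1) v
      have e1 : α 1 v = v := by simp [α]
      rw [e1, ← sub_eq_zero] at e
      nth_rewrite 2 [← one_smul (ZMod p) v] at e
      rw [← sub_smul] at e
      by_contra hc1
      have h0 : (c : ZMod p) - 1 ≠ 0 := fun e0 => hc1 (Units.ext (sub_eq_zero.1 e0))
      exact hv (by rw [← one_smul (ZMod p) v, ← inv_mul_cancel₀ h0, mul_smul, e, smul_zero])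
    have := card_dvd_of_le (show (f.rangeRestrict.comp (MonoidHom.inr G (ZMod p)ˣ)).range ≤
      ((𝒩(X)).prod ⊤).map f.rangeRestrict by
        rintro _ ⟨c, rfl⟩; exact ⟨(1, c), ⟨one_mem _, trivial⟩, rfl⟩)
    rwa [← Nat.card_congr (MonoidHom.ofInjective hi).toEquiv, Nat.card_units, Nat.card_zmod] at this
  rcases H24.huppert ht with ⟨K, _, _, e, he⟩ | h81
  · have he' : ∀ σ : f.range, ∃ c : K, c ≠ 0 ∧ ∃ θ : K ≃+* K, ∀ v, e (σ • v) = c * θ (e v) := fun σ => by
      obtain ⟨a, θ, ha⟩ := he σ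
      refine ⟨a, fun a0 => ?_, θ, ha⟩
      obtain ⟨v, hv⟩ := exists_ne (0 : Additive T)
      have := ha v
      rw [a0, zero_mul, map_eq_zero_iff _ e.injective, smul_eq_zero_iff_eq] at this
      exact hv this
    have hK : Nat.card K = p ^ n := by rw [← Nat.card_congr e.toEquiv]; exact hc
    constructor
    · by_contra h3
      let ι : f.range →* Equiv.Perm K :=
        (e.toEquiv.permCongrHom : Equiv.Perm (Additive T) →* Equiv.Perm K).comp f.range.subtype
      have hι : Function.Injective ι := e.toEquiv.permCongrHom.injective.comp f.range.subtype_injective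
      have hr : ι.range ≤ semiaffineGroup K ⊓ MulAction.stabilizer (Equiv.Perm K) (0 : K) := by
        rintro _ ⟨σ, rfl⟩
        obtain ⟨c, hc0, θ, h5⟩ := he' σ
        have h6 : ∀ x, ι σ x = c * θ x := fun x => by
          have := h5 (e.symm x)
          rwa [e.apply_symm_apply] at this
        exact mem_inf.2 ⟨⟨Units.mk0 c hc0, 0, θ, fun x => by simp [h6]⟩, by simp [h6]⟩
      have hd := card_dvd_of_le hr
      rw [← Nat.card_congr (MonoidHom.ofInjective hι).toEquiv, card_semilinear, Nat.card_units, hK,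
        H29.card_ringAut (p := p) (f := n) (by rw [← Nat.card_eq_fintype_card, hK])] at hd
      obtain ⟨m, hm⟩ := hdv.trans hd
      obtain ⟨k, rfl⟩ := Nat.exists_eq_add_of_le' (show 1 ≤ n by omega)
      refine arith hp.out h2 (show 3 ≤ k by omega) ⟨m, ?_⟩
      have e1 : p ^ (k + 1) - p = p * (p ^ k - 1) := by rw [Nat.mul_sub, mul_one, pow_succ']
      have e2 : p ^ 2 - p = p * (p - 1) := by rw [Nat.mul_sub, mul_one, pow_two]
      rw [hc, e1, e2] at hcount
      have h0 : 0 < (p ^ (k + 1) - 1) * p :=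
        Nat.mul_pos (Nat.sub_pos_of_lt (Nat.one_lt_pow (by omega) hp.out.one_lt)) hp.out.pos
      refine Nat.eq_of_mul_eq_mul_left h0 ?_
      calc (p ^ (k + 1) - 1) * p * ((k + 1) * (p ^ 2 - 1)) = (p ^ (k + 1) - 1) * (k + 1) * (p * (p ^ 2 - 1)) := by ring
        _ = (𝒩(X)).index * ((p ^ 2 - 1) * (p * (p - 1))) * m := by rw [hm]; ring
        _ = _ := by rw [← hcount]; ring
    · refine ⟨K, inferInstance, inferInstance, fun x => ((e.symm x).toMul : G), fun x y hxy => ?_, fun u => ?_,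
        fun x y => by simp, fun g _ => ?_⟩
      · exact e.symm.injective (Additive.toMul.injective (Subtype.ext hxy))
      · exact ⟨fun hu => ⟨e (Additive.ofMul ⟨u, hu⟩), by simp⟩, by rintro ⟨x, rfl⟩; exact (e.symm x).toMul.2⟩
      · obtain ⟨c, hc0, θ, h5⟩ := he' ⟨f (g, 1), _, rfl⟩
        refine ⟨c, hc0, θ, fun x => ?_⟩
        have := h5 (e.symm x)
        rw [e.apply_symm_apply] at this
        simp only [← this, e.symm_apply_apply]
        change _ = ((f (g, 1) (e.symm x)).toMul : G)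
        rw [hf]
        simp [α]
  · exfalso
    change Nat.card T ∈ _ at h81
    have sq : ∀ r : ℕ, r.Prime → p ^ n ≠ r ^ 2 := fun r hr e => by
      have := ((Nat.Prime.pow_inj' hp.out hr (by omega) (by omega) e)).2
      omega
    rw [hc] at h81
    simp only [Set.mem_insert_iff, Set.mem_singleton_iff] at h81
    rcases h81 with e | e | e | e | e | e
    · exact sq 3 (by norm_num) e
    · exact sq 5 (by norm_num) e
    · exact sq 7 (by norm_num) e
    · exact sq 11 (by norm_num) e
    · exact sq 23 (by norm_num) e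
    · obtain ⟨rfl, rfl⟩ := Nat.Prime.pow_inj' hp.out Nat.prime_three (by omega) (by omega : 4 ≠ 0) e
      rw [hc] at hcount
      have : (𝒩(X)).index = 130 := by norm_num at hcount; omega
      exact not81 hel hC hc (Dvd.dvd.trans (by rw [this]; norm_num) (index_dvd_card 𝒩(X)))

end Aux

/-- Let p be a prime and G a finite group in which any two p-subgroups of the same order are conjugate, and suppose a Sylow p-subgroup P of G is elementary abelian of order pⁿ with n ≥ 3. Let N be the normalizer of P and K the largest normal subgroup of N of order prime to p, and assume N/K is solvable. Then either n = 3 and N/K embeds in the one-dimensional semi-affine group over the field with p³ elements (and for p = 2 it is isomorphic to the affine or the semi-affine group over the field with 8 elements), or n = 5, p = 2 and N/K is isomorphic to the one-dimensional semi-affine group over the field with 32 elements. -/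
theorem result {G : Type*} [Group G] [Finite G]
    {p : ℕ} [Fact p.Prime] (hC : ∀ H K : Subgroup G, IsPGroup p H → IsPGroup p K → Nat.card H = Nat.card K →
      ∃ g : G, K = H.map (MulAut.conj g).toMonoidHom) (P : Sylow p G) (n : ℕ) (hn : 3 ≤ n)
    (hel : Cfsg.IsElementaryAbelian p (P : Subgroup G)) (hcard : Nat.card P = p ^ n)
    (N : Subgroup G) (hN : N = Subgroup.normalizer ((P : Subgroup G) : Set G))
    (hsolv : Group.IsSolvable (↥N ⧸ Cfsg.pPrimeCore p ↥N)) :
    (n = 3 ∧ (∃ f : ↥N ⧸ Cfsg.pPrimeCore p ↥N →* ↥(Cfsg.semiaffineGroup (GaloisField p 3)), Function.Injective f) ∧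
      (p = 2 → Nonempty (↥N ⧸ Cfsg.pPrimeCore p ↥N ≃* Cfsg.semiaffineGroup (GaloisField 2 3)) ∨
               Nonempty (↥N ⧸ Cfsg.pPrimeCore p ↥N ≃* Cfsg.affineGroup (GaloisField 2 3)))) ∨
    (n = 5 ∧ p = 2 ∧ Nonempty (↥N ⧸ Cfsg.pPrimeCore p ↥N ≃* Cfsg.semiaffineGroup (GaloisField 2 5))) := by
  have hp : p.Prime := Fact.out
  subst hN
  have hP := sylowOf_top hp P
  have hPN : (P : Subgroup G) ≤ 𝒩((P : Subgroup G)) := le_normalizer
  set N := 𝒩((P : Subgroup G))
  have hP' : IsSylowOf p ((P : Subgroup G).subgroupOf N) ⊤ := (hall_subgroupOf_top hPN).2 (hP.sub hPN le_top)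
  have hD : ∀ A B : Subgroup N, IsPGroup p A → IsPGroup p B → Nat.card A = Nat.card B →
      ∃ g : N, B = A.map (MulAut.conj g).toMonoidHom := by
    intro A B hA hB hAB
    have le : ∀ {C : Subgroup N}, IsPGroup p C → C.map N.subtype ≤ P := fun hC =>
      hP.le_of_norm le_top ((isPi_singleton_iff hp).2 (hC.map _)) (Or.inl (map_subtype_le _))
    obtain ⟨g, hg⟩ := hC _ _ (hA.map N.subtype) (hB.map N.subtype) (by rw [card_subtype, card_subtype, hAB])
    obtain ⟨m, hm, e⟩ := burnside_ab hP hel.1 (le hA) (le hB) (g := g) hg.symm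
    refine ⟨⟨m, hm⟩, map_injective N.subtype_injective ?_⟩
    rw [← e]
    exact (map_subtype_cj ⟨m, hm⟩ A).symm
  let π := QuotientGroup.mk' (pPrimeCore p N)
  have hπ : Function.Surjective π := QuotientGroup.mk'_surjective _
  have hAP : AP p (N ⧸ pPrimeCore p N) := fun A B hA hB _ _ hAB => by
    obtain ⟨g, hg⟩ := pconj_map hp hD π hπ A B hA hB hAB
    exact ⟨g, hg.symm⟩
  let T := ((P : Subgroup G).subgroupOf N).map π
  have hT : IsSylowOf p T ⊤ := by
    have := hP'.map π
    rwa [map_top_of_surjective _ hπ] at this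
  have : T.Normal := Normal.map inferInstance π hπ
  have hTe : IsElementaryAbelian p T := by
    refine ⟨⟨⟨?_⟩⟩, ?_⟩
    · rintro ⟨_, a, ha, rfl⟩ ⟨_, b, hb, rfl⟩
      refine Subtype.ext ?_
      change π a * π b = π b * π a
      rw [← map_mul, ← map_mul]
      have h0 : (a : G) * b = b * a := congrArg Subtype.val (hel.1.is_comm.comm ⟨a, ha⟩ ⟨b, hb⟩)
      exact congrArg π (Subtype.ext h0)
    · rintro _ ⟨a, ha, rfl⟩
      rw [← map_pow, show a ^ p = 1 from Subtype.ext (hel.2 _ ha), map_one]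
  have hTc : Nat.card T = p ^ n := by
    rw [← hcard, ← Nat.card_congr (subgroupOfEquivOfLe hPN).toEquiv]
    refine (Nat.card_congr (MulEquiv.ofBijective (π.subgroupMap _) ⟨?_, π.subgroupMap_surjective _⟩).toEquiv).symm
    rw [injective_iff_map_eq_one]
    intro x hx
    have h1 : (x : N) ∈ pPrimeCore p N := (QuotientGroup.eq_one_iff _).1 (congrArg Subtype.val hx)
    have h2 : (x : N) ^ p = 1 := Subtype.ext (hel.2 _ x.2)
    have h3 := (H22.coprime_card_pPrimeCore (p := p) (G := N)).coprime_dvd_left (orderOf_dvd_natCard _ h1)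
    exact Subtype.ext (orderOf_eq_one_iff.1 (h3.eq_one_of_dvd (orderOf_dvd_of_pow_eq_one h2)))
  have hO := H22.pPrimeCore_quotient_pPrimeCore (p := p) (G := N)
  have hCT := cent_le_of_normal_sylow hp hT hTe.1 hO
  by_cases h2 : p = 2
  · subst h2
    have h8 : 2 ^ 3 ≤ 2 ^ n := Nat.pow_le_pow_right (by norm_num) hn
    have hG := T.card_mul_index
    have hodd : ¬ 2 ∣ T.index := by simpa using hT.2.2 2 hp rfl
    have key : ∀ {m k : ℕ}, Nat.card (N ⧸ pPrimeCore 2 N) = 2 ^ m * k → ¬ 2 ∣ k → n = m := by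
      intro m k e hk
      have := congrArg (padicValNat 2) (hG.trans e)
      rwa [hTc, padicValNat.mul (by positivity) (by rintro h; simp [h] at hodd),
        padicValNat.mul (by positivity) (by rintro rfl; simp at hk), padicValNat.prime_pow, padicValNat.prime_pow,
        padicValNat.eq_zero_of_not_dvd hodd, padicValNat.eq_zero_of_not_dvd hk] at this
    have hA : ∀ m : ℕ, m ≠ 0 → Nat.card (RingAut (GaloisField 2 m)) = m := fun m hm => by
      have := Fintype.ofFinite (GaloisField 2 m)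
      exact H29.card_ringAut (p := 2) (by rw [← Nat.card_eq_fintype_card, GaloisField.card 2 m hm])
    rcases hAP.affine_case hT hTe hO (by rw [hTc]; omega) with ⟨⟨e⟩⟩ | ⟨⟨e⟩⟩ | ⟨⟨e⟩⟩ | ⟨⟨e⟩⟩
    · have := key (m := 2) (k := 3) (by
        rw [Nat.card_congr e.toEquiv, nat_card_alternatingGroup]; simp [Nat.factorial]) (by norm_num)
      omega
    · have hle : affineGroup (GaloisField 2 3) ≤ semiaffineGroup (GaloisField 2 3) := by
        rintro σ ⟨a, b, h⟩
        exact ⟨a, b, RingEquiv.refl _, h⟩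
      exact Or.inl ⟨key (k := 7) (by
        rw [Nat.card_congr e.toEquiv, card_affine, Nat.card_units, GaloisField.card 2 3 (by norm_num)]; norm_num)
        (by norm_num), ⟨(inclusion hle).comp e.toMonoidHom, (inclusion_injective hle).comp e.injective⟩,
        fun _ => Or.inr ⟨e⟩⟩
    · exact Or.inl ⟨key (k := 21) (by
        rw [Nat.card_congr e.toEquiv, card_semiaffine, Nat.card_units, GaloisField.card 2 3 (by norm_num),
          hA 3 (by norm_num)]; norm_num) (by norm_num), ⟨e.toMonoidHom, e.injective⟩, fun _ => Or.inl ⟨e⟩⟩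
    · exact Or.inr ⟨key (k := 155) (by
        rw [Nat.card_congr e.toEquiv, card_semiaffine, Nat.card_units, GaloisField.card 2 5 (by norm_num),
          hA 5 (by norm_num)]; norm_num) (by norm_num), rfl, ⟨e⟩⟩
  · obtain ⟨rfl, K, _, _, φ, h3, h4, h5, h6⟩ := odd_case h2 hAP hTe hCT hn hTc
    obtain ⟨ρ, h7, h8⟩ := exists_semiaffine_hom hT hCT h3 h4 h5 h6
    obtain ⟨e⟩ := nonempty_galois (by norm_num) ((card_eq_of_coords h3 h4).trans hTc)
    let ι : Equiv.Perm K →* Equiv.Perm (GaloisField p 3) := e.toEquiv.permCongrHom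
    have hι : Function.Injective (ι.comp ρ) := e.toEquiv.permCongrHom.injective.comp h7
    exact Or.inl ⟨rfl, ⟨(ι.comp ρ).codRestrict _ fun g => semiaffine_map_le e ⟨ρ g, h8 ⟨g, rfl⟩, rfl⟩,
      fun a b hab => hι (congrArg Subtype.val hab)⟩, fun h => absurd h h2⟩

end Cfsg.Agent.S4025
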