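import Cfsg.Statements.S4038
import Cfsg.Agent.H84.ClassTwo
import Cfsg.Agent.S0205
import Cfsg.Agent.H49.Prod
import Cfsg.Agent.H21.Basic

set_option autoImplicit false
set_option linter.style.haveILetI false
open Cfsg

namespace Cfsg.Agent.S4038

open Subgroup Cfsg.Agent.H4 Cfsg.Agent.H84

universe u

theorem aux {A : Type*} [Group A] [Finite A] (n : ℕ) : ∀ (G : Type u) [Group G] [Finite G]
    [MulDistribMulAction A G], Nat.card G = n → (Nat.card A).Coprime (Nat.card G) →
    ∀ (M Q : Subgroup G), M ≠ ⊤ → AInv A M → (∀ H : Subgroup G, M ≤ H → H ≠ ⊤ → AInv A H → H = M) →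
      Group.IsNilpotent M → IsSylowIn 2 Q M → ⁅⁅Q, Q⁆, Q⁆ = ⊥ → Group.IsSolvable G := by
  induction n using Nat.strong_induction_on with
  | _ n ih =>
  intro G _ _ _ hn hcop M Q hMtop hMinv hmax hnil hQ hcl
  haveI : Fact (Nat.Prime 2) := ⟨Nat.prime_two⟩
  by_cases hcore : ∃ N : Subgroup G, N.Normal ∧ N ≠ ⊥ ∧ N ≤ M ∧ AInv A N
  · obtain ⟨N, hN, hN0, hNM, hNA⟩ := hcore
    letI := H85.quotAction N hNA
    have hk : (QuotientGroup.mk' N).ker ≤ M := by rwa [QuotientGroup.ker_mk']
    haveI := ih _ (hn ▸ H19.card_quotient_lt hN0) (G ⧸ N) rfl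
      (hcop.coprime_dvd_right (card_quotient_dvd_card N)) (M.map (QuotientGroup.mk' N))
      (Q.map (QuotientGroup.mk' N))
      (fun h => hMtop (by rw [← comap_map_eq_self hk, h, comap_top])) (hNA.map_mk hMinv)
      (fun H h1 h2 h3 => by
        rw [← hmax (H.comap (QuotientGroup.mk' N)) (map_le_iff_le_comap.1 h1) (fun h => h2 (by
          rw [← map_comap_eq_self_of_surjective (QuotientGroup.mk'_surjective N) H, h,
            map_top_of_surjective _ (QuotientGroup.mk'_surjective N)])) (hNA.comap_mk h3),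
          map_comap_eq_self_of_surjective (QuotientGroup.mk'_surjective N)])
      (Group.nilpotent_of_surjective _ (MonoidHom.subgroupMap_surjective _ M))
      (isSylowIn_map _ hQ) (by rw [← map_commutator, ← map_commutator, hcl, Subgroup.map_bot])
    haveI : Group.IsSolvable N :=
      Group.isSolvable_of_isSolvable_injective (inclusion_injective hNM)
    exact Group.isSolvable_of_ker_le_range N.subtype (QuotientGroup.mk' N) (by simp)
  have hnorm : ∀ X : Subgroup G, X ≠ ⊥ → X ≤ M → M ≤ normalizer (X : Set G) → AInv A X →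
      normalizer (X : Set G) = M := fun X hX hXM hMX hXA =>
    hmax _ hMX (fun h => hcore ⟨X, normalizer_eq_top_iff.1 h, hX, hXM, hXA⟩) hXA.normalizer
  have hinv : ∀ (p : ℕ) [Fact p.Prime] (P : Subgroup G), IsSylowIn p P M → AInv A P :=
    fun p _ P hP => hMinv.of_sylowIn_normal hP (le_normalizer_of_sylowIn_nilpotent hP)
  have hsyl : ∀ (p : ℕ) [Fact p.Prime] (P : Subgroup G), IsSylowIn p P M → P ≠ ⊥ →
      ∃ S : Sylow p G, (S : Subgroup G) = P := by
    intro p _ P hP hP0
    obtain ⟨S, hS⟩ := hP.isPGroup.exists_le_sylow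
    refine ⟨S, ?_⟩
    by_contra h
    have h1 := lt_inf_normalizer S.isPGroup' (lt_of_le_of_ne hS (Ne.symm h))
    rw [hnorm P hP0 hP.le (le_normalizer_of_sylowIn_nilpotent hP) (hinv p P hP)] at h1
    exact h1.ne (hP.eq_of_le S.isPGroup'.to_inf_left inf_le_right h1.le).symm
  have hne : ∀ (p : ℕ) [Fact p.Prime] (P : Subgroup G), IsSylowIn p P M → p ∣ Nat.card M →
      P ≠ ⊥ := by
    rintro p _ P hP hp rfl
    exact hP.not_dvd (by rwa [relIndex_bot_left])
  have hHall : (Nat.card M).Coprime M.index := by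
    apply Nat.coprime_of_dvd
    intro p hp hpM hpi
    haveI := Fact.mk hp
    obtain ⟨P, hP, -⟩ := IsSylowIn.exists_le (p := p) IsPGroup.of_bot (bot_le (a := M))
    obtain ⟨S, rfl⟩ := hsyl p P hP (hne p P hP hpM)
    exact S.not_dvd_index (hpi.trans (index_dvd_of_le hP.le))
  have hodd : 2 ∣ Nat.card G → Odd (Nat.card A) := fun h =>
    Nat.coprime_two_right.1 (hcop.coprime_dvd_right h)
  have hcomp : ∀ p : ℕ, p.Prime → p ∣ Nat.card M → HasNormalPComplement p G := by
    intro p hp hpM
    haveI := Fact.mk hp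
    by_cases hp2 : p = 2
    · subst hp2
      have hQ0 := hne 2 Q hQ hpM
      have hQA := hinv 2 Q hQ
      obtain ⟨S, rfl⟩ := hsyl 2 Q hQ hQ0
      haveI := S.isPGroup'.isNilpotent
      have hZ0 := center_inf_ne_bot hQ0
      have hNZ := hnorm _ hZ0 (inf_le_left.trans hQ.le)
        (le_centralizer_of_sylowIn_nilpotent hQ inf_le_left fun t ht =>
          centralizer_le_normalizer _ fun z hz => (hz.2 t ht).symm) (hQA.inf hQA.centralizer)
      have hCZ := (centralizer_le_normalizer _).trans hNZ.le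
      have hM2 : ∀ X : Subgroup G, IsPGroup 2 X → X ≤ M → X ≤ S := fun X h1 h2 =>
        le_of_sylowIn_normal hQ (le_normalizer_of_sylowIn_nilpotent hQ) h1 h2
      have hD : ∀ D : Subgroup G, (S : Subgroup G) ⊓ centralizer (S : Set G) ≤ D → D ≤ S →
          normalizer (D : Set G) ≤ M := by
        intro D h1 h2
        by_cases hMS : M ≤ S
        · have h3 : M = S := le_antisymm hMS hQ.le
          by_contra h4
          exact not_bad (hodd (hpM.trans (card_subgroup_dvd_card M))) S hcl hQA hQ0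
            (fun X k1 k2 k3 k4 => (hnorm X k1 (k2.trans hQ.le) (hMS.trans k3) k4).le.trans hMS) D
            ⟨h1, h2, h3 ▸ h4⟩
        obtain ⟨r, hr, hrd⟩ := Nat.exists_prime_and_dvd
          (fun h => hMS (relIndex_eq_one.1 h) : (S : Subgroup G).relIndex M ≠ 1)
        haveI := Fact.mk hr
        have hr2 : r ≠ 2 := by rintro rfl; exact hQ.not_dvd hrd
        obtain ⟨R, hR, -⟩ := IsSylowIn.exists_le (p := r) IsPGroup.of_bot (bot_le (a := M))
        have hNR := hnorm R (hne r R hR (hrd.trans (relIndex_dvd_card _ _))) hR.le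
          (le_normalizer_of_sylowIn_nilpotent hR) (hinv r R hR)
        have hCD : centralizer (D : Set G) ≤ M := (centralizer_le h1).trans hCZ
        have hRC : R ≤ centralizer (D : Set G) := by
          intro x hx d hd
          obtain ⟨j, hj⟩ := IsPGroup.iff_orderOf.1 S.isPGroup' ⟨d, h2 hd⟩
          obtain ⟨i, hi⟩ := IsPGroup.iff_orderOf.1 hR.isPGroup ⟨x, hx⟩
          rw [← orderOf_coe] at hi hj
          exact congrArg Subtype.val (H3.commute_of_coprime_orderOf (⟨d, hQ.le (h2 hd)⟩ : M)
            ⟨x, hR.le hx⟩ (by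
              rw [← orderOf_coe, ← orderOf_coe, hi, hj]
              exact Nat.coprime_pow_primes _ _ Nat.prime_two hr hr2.symm))
        intro g hg
        obtain ⟨c, hc, hcg⟩ := (hR.mono hRC hCD).frattini
          (H21.normalizer_le_normalizer_centralizer _ hg)
        rw [hNR] at hcg
        exact (mul_mem_cancel_left (hCD hc)).1 hcg
      have huniq : ∀ T : Sylow 2 G, (S : Subgroup G) ⊓ centralizer (S : Set G) ≤ T → T = S := by
        intro T hT
        have h4 := (sylow_le_normalizer_inf S T hcl hM2 hCZ hT).trans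
          (hD _ (le_inf inf_le_left hT) inf_le_left)
        exact Sylow.ext (T.is_maximal' S.isPGroup' (hM2 _ T.isPGroup' h4)).symm
      have h6 := S0078.result S (fun T hT => by rw [huniq T hT]) M hNZ.le
      rw [H3.hasNormalPComplement_iff_inf_eq_bot S, h6]
      apply H3.inf_eq_bot_of_isPGroup_of_coprime S.isPGroup'
      rw [card_map_of_injective M.subtype_injective]
      exact H3.hasNormalPComplement_iff_coprime.1 H3.hasNormalPComplement_of_isNilpotent
    · obtain ⟨P, hP, -⟩ := IsSylowIn.exists_le (p := p) IsPGroup.of_bot (bot_le (a := M))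
      have hP0 := hne p P hP hpM
      have hPA := hinv p P hP
      obtain ⟨S, rfl⟩ := hsyl p P hP hP0
      rw [S0117.result hp2 S, hnorm _ (centerThompsonOf_ne_bot S.isPGroup' hP0)
        ((centerThompsonOf_le p _).trans hP.le) ((le_normalizer_of_sylowIn_nilpotent hP).trans
          (normalizer_le_normalizer_centerThompsonOf p _)) (hPA.centerThompsonOf p)]
      exact H3.hasNormalPComplement_of_isNilpotent
  obtain ⟨N, hN, hNM⟩ := H3.exists_normal_complement_of_forall_hasNormalPComplement M hHall hcomp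
  have hfin : ∀ N : Subgroup G, N.Normal → N ⊔ M = ⊤ → Group.IsSolvable N →
      Group.IsSolvable G := by
    intro N hN h _
    haveI : Group.IsSolvable (G ⧸ N) := Group.isSolvable_of_surjective
      (f := (QuotientGroup.mk' N).comp M.subtype) (by
        intro g
        obtain ⟨g, rfl⟩ := QuotientGroup.mk'_surjective N g
        have hg : g ∈ N ⊔ M := h ▸ mem_top g
        rw [← SetLike.mem_coe, normal_mul] at hg
        obtain ⟨a, ha, b, hb, rfl⟩ := hg
        refine ⟨⟨b, hb⟩, ?_⟩
        simp [(QuotientGroup.eq_one_iff a).2 ha])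
    exact Group.isSolvable_of_ker_le_range N.subtype (QuotientGroup.mk' N) (by simp)
  by_cases hNo : Odd (Nat.card N)
  · exact hfin N hN hNM.sup_eq_top (S0205.result hNo)
  have hN2 : 2 ∣ Nat.card N := (Nat.not_odd_iff_even.1 hNo).two_dvd
  have hMN : (Nat.card M).Coprime (Nat.card N) := by rwa [← hNM.index_eq_card]
  have hNA : AInv A N := by
    refine aInv_of_map_le fun a => ?_
    have h1 : N.map (MulDistribMulAction.toMonoidHom G a) ≤ (QuotientGroup.mk' N).ker := by
      rw [← Subgroup.map_eq_bot_iff]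
      apply eq_bot_of_card_eq
      apply Nat.eq_one_of_dvd_coprimes hMN
      · rw [← hNM.symm.index_eq_card]
        exact card_subgroup_dvd_card _
      · exact (card_map_dvd _ _).trans (card_map_dvd _ _)
    rwa [QuotientGroup.ker_mk'] at h1
  let B : Subgroup (MulAut G) := (MulDistribMulAction.toMulAut A G).range ⊔ M.map MulAut.conj
  have hB : Nat.card B ∣ Nat.card A * Nat.card M := by
    refine (H49.card_sup_dvd (Or.inl ?_)).trans (mul_dvd_mul (card_range_dvd _) (card_map_dvd _ _))
    rintro _ ⟨a, rfl⟩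
    apply H4.mem_normalizer_of_conj_mem
    rintro _ ⟨m, hm, rfl⟩
    refine ⟨a • m, hMinv a m hm, ?_⟩
    ext x
    simp [smul_mul', smul_inv']
  have hBN : ∀ b : B, ∀ x ∈ N, b • x ∈ N := by
    let C : Subgroup (MulAut G) :=
      { carrier := {b | ∀ x, x ∈ N ↔ b x ∈ N}
        one_mem' := fun x => Iff.rfl
        mul_mem' := fun {a b} ha hb x => (hb x).trans (ha _)
        inv_mem' := fun {a} ha x => by
          rw [ha (a⁻¹ x)]; simp }
    have : B ≤ C := sup_le (by
      rintro _ ⟨a, rfl⟩ x
      exact (hNA.smul_mem_iff a x).symm) (by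
      rintro _ ⟨m, -, rfl⟩ x
      exact ⟨fun h => hN.conj_mem x h m, fun h => by simpa [mul_assoc] using hN.conj_mem _ h m⁻¹⟩)
    exact fun b x hx => (this b.2 x).1 hx
  letI := H85.subAction N hBN
  have hAN := hcop.coprime_dvd_right (card_subgroup_dvd_card N)
  have hBc : (Nat.card B).Coprime (Nat.card N) := (hAN.mul_left hMN).coprime_dvd_left hB
  obtain ⟨P, hP⟩ := H85.exists_invariant_sylow (A := B) (G := N) hBc
    (Or.inl (S0205.result (Nat.coprime_two_right.1 (hBc.coprime_dvd_right hN2)))) 2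
  let T : Subgroup G := (P : Subgroup N).map N.subtype
  have hT : ∀ b ∈ B, ∀ x ∈ T, b x ∈ T := by
    rintro b hb _ ⟨x, hx, rfl⟩
    exact ⟨_, hP ⟨b, hb⟩ x hx, rfl⟩
  have hTA : AInv A T := fun a => hT _ (mem_sup_left ⟨a, rfl⟩)
  have hMT : M ≤ normalizer (T : Set G) := fun m hm =>
    H4.mem_normalizer_of_conj_mem (hT _ (mem_sup_right ⟨m, hm, rfl⟩))
  have hTp : IsPGroup 2 T := P.isPGroup'.map _
  have htop : T ⊔ M = ⊤ := by
    by_contra h
    have h1 := hmax _ le_sup_right h (hTA.sup hMinv)
    have h2 : T ≤ N ⊓ M := le_inf (map_subtype_le _) (le_sup_left.trans h1.le)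
    rw [hNM.disjoint.eq_bot, le_bot_iff, map_eq_bot_iff_of_injective _ N.subtype_injective] at h2
    exact P.ne_bot_of_dvd_card hN2 h2
  haveI := hTp.isNilpotent
  exact hfin T (normalizer_eq_top_iff.1 (eq_top_iff.2 (htop ▸ sup_le le_normalizer hMT))) htop
    inferInstance

/-- Let A and G be finite groups of coprime orders with A acting on G by automorphisms. Suppose G has a proper A-invariant subgroup M, maximal among proper A-invariant subgroups, which is nilpotent and whose Sylow 2-subgroups have nilpotency class at most 2. Then G is solvable. -/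
theorem result {G A : Type*} [Group G] [Finite G]
    [Group A] [Finite A] (φ : A →* MulAut G) (hcop : (Nat.card A).Coprime (Nat.card G))
    (M : Subgroup G) (hMtop : M ≠ ⊤) (hMinv : ∀ a : A, ∀ m : G, m ∈ M → φ a m ∈ M)
    (hMmax : ∀ H : Subgroup G, M ≤ H → H ≠ ⊤ → (∀ a : A, ∀ h : G, h ∈ H → φ a h ∈ H) → H = M)
    (hnil : Group.IsNilpotent M) (h2 : ∀ S : Sylow 2 ↥M, Group.nilpotencyClass ↥(S : Subgroup ↥M) ≤ 2) :
    Group.IsSolvable G := by
  letI := MulDistribMulAction.compHom G φ
  haveI : Fact (Nat.Prime 2) := ⟨Nat.prime_two⟩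
  obtain ⟨S⟩ : Nonempty (Sylow 2 M) := inferInstance
  haveI := S.isPGroup'.isNilpotent
  refine aux (A := A) _ G rfl hcop M _ hMtop hMinv hMmax hnil (IsSylowIn.of_sylow S) ?_
  rw [← map_commutator, ← map_commutator]
  have := Subgroup.lowerCentralSeries_eq_bot_of_nilpotencyClass_le (h2 S)
  change ⁅⁅(S : Subgroup M), (S : Subgroup M)⁆, (S : Subgroup M)⁆ = ⊥ at this
  rw [this, Subgroup.map_bot]

end Cfsg.Agent.S4038
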