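import Cfsg.Statements.S4064
import Cfsg.Agent.H8.Nonsolv
import Cfsg.Agent.H8.Engel2
import Cfsg.Agent.H3.FrobQuo
import Cfsg.Agent.H3.NilpotentHall
import Cfsg.Agent.H26.ZassLarge
import Cfsg.Agent.H2.Basic
import Cfsg.Agent.S1147
import Cfsg.Agent.S1476
import Cfsg.Agent.S1477
import Cfsg.Agent.S4066
import Cfsg.Agent.S0035

set_option autoImplicit false
open Cfsg

namespace Cfsg.Agent.S4064

open Subgroup Cfsg.Agent.H69 Cfsg.Agent.H8

section
variable {G : Type*} [Group G]
  (hTI : ∀ x : G, Cfsg.IsTISubset (Subgroup.centralizer ({x} : Set G) : Set G))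
include hTI

theorem norm {x g z : G} (hz : z ≠ 1) (h1 : Commute z x) (h2 : Commute (g * z * g⁻¹) x) :
    g ∈ normalizer (centralizer ({x} : Set G) : Set G) := by
  by_contra hg
  exact hz (hTI x g hg z (mem_centralizer_singleton.2 h1) (mem_centralizer_singleton.2 h2))

theorem engel {z y c : G} (hz : z ≠ 1) (hy : Commute y z) (hc : Commute c z) :
    Commute y (c * y * c⁻¹) :=
  (mem_centralizer_singleton.1 (conj_mem_of_mem_normalizer
    (norm hTI hz hy.symm (by rw [hc.eq, mul_inv_cancel_right]; exact hy.symm))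
    (mem_centralizer_singleton.2 (Commute.refl y)))).symm

theorem cn [Finite G] : Cfsg.IsCNGroup G := fun z hz =>
  isNilpotent_of_commute_conj fun x g => Subtype.ext
    (engel hTI hz (mem_centralizer_singleton.1 x.2) (mem_centralizer_singleton.1 g.2))

theorem not_three_step [Finite G] {p : ℕ} (hp : p.Prime) : ¬ Cfsg.IsThreeStepGroup p G := by
  rintro ⟨h1, A, -, -, -, -, -, h2, ⟨n, hn⟩, -⟩
  have := Fact.mk hp
  obtain ⟨P⟩ : Nonempty (Sylow p G) := inferInstance
  have hP : (P : Subgroup G).Normal := by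
    rw [← normalizer_eq_top_iff, eq_top_iff']
    intro g
    refine Sylow.smul_eq_iff_mem_normalizer.1 ?_
    by_contra hne
    exact h1 (eq_bot_iff.2 ((S4066.result hTI _ _ hne) ▸
      le_inf (H22.pCore_le_sylow _) (H22.pCore_le_sylow _)))
  have h3 := index_dvd_of_le ((H22.le_pCore hP P.2).trans (le_sup_left (b := A)))
  rcases n with _ | n
  · exact h2 (index_eq_one.1 hn)
  · exact P.not_dvd_index ((hn ▸ dvd_pow_self p n.succ_ne_zero : p ∣ _).trans h3)

theorem quat [Finite G] {Q : Subgroup G} {n : ℕ} (e : Q ≃* QuaternionGroup (2 ^ n)) : n ≤ 1 := by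
  by_contra hn
  obtain ⟨m, rfl⟩ : ∃ m, n = m + 2 := ⟨n - 2, by omega⟩
  have h0 : ∀ k : ℕ, (QuaternionGroup.a (k : ZMod (2 * 2 ^ (m + 2))) :
      QuaternionGroup (2 ^ (m + 2))) = 1 → 2 * 2 ^ (m + 2) ∣ k := fun k hk => by
    rw [← QuaternionGroup.orderOf_a_one, orderOf_dvd_iff_pow_eq_one, QuaternionGroup.a_one_pow, hk]
  have hpos : 4 ≤ 2 ^ (m + 2) := by have := Nat.one_le_two_pow (n := m); rw [pow_add]; omega
  have hz : ((e.symm (QuaternionGroup.a ((2 ^ (m + 2) : ℕ) : ZMod (2 * 2 ^ (m + 2)))) : Q) : G) ≠ 1 := by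
    intro h
    have := Nat.le_of_dvd (by positivity) (h0 _ (e.symm.map_eq_one_iff.1 (Subtype.ext h)))
    omega
  have hnn : ((2 ^ (m + 2) : ℕ) : ZMod (2 * 2 ^ (m + 2))) + (2 ^ (m + 2) : ℕ) = 0 := by
    rw [← Nat.cast_add, ← two_mul, ZMod.natCast_self]
  have key := engel hTI hz (y := (e.symm (QuaternionGroup.xa 0) : Q))
    (c := (e.symm (QuaternionGroup.a 1) : Q))
    (congrArg Subtype.val (Commute.map (by
      change _ = _
      rw [QuaternionGroup.xa_mul_a, QuaternionGroup.a_mul_xa]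
      congr 1
      linear_combination hnn) e.symm).eq)
    (congrArg Subtype.val (Commute.map (by
      change _ = _
      rw [QuaternionGroup.a_mul_a, QuaternionGroup.a_mul_a, add_comm (1 : ZMod _)]) e.symm).eq)
  have k2 : Commute (e.symm (QuaternionGroup.xa 0))
      (e.symm (QuaternionGroup.a 1) * e.symm (QuaternionGroup.xa 0) * (e.symm (QuaternionGroup.a 1))⁻¹) :=
    Subtype.ext key
  have k3 := (k2.map e).eq
  simp only [map_mul, map_inv, MulEquiv.apply_symm_apply] at k3
  have hi : (QuaternionGroup.a 1 : QuaternionGroup (2 ^ (m + 2)))⁻¹ = QuaternionGroup.a (-1) := rfl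
  rw [hi] at k3
  simp only [QuaternionGroup.a_mul_xa, QuaternionGroup.xa_mul_a, QuaternionGroup.xa_mul_xa,
    QuaternionGroup.a.injEq] at k3
  have := Nat.le_of_dvd (by positivity) (h0 4 (by
    rw [QuaternionGroup.one_def]; congr 1; push_cast; linear_combination -k3))
  omega

theorem nonsolv [Finite G] (hs : ¬ Group.IsSolvable G) : ∃ n : ℕ, 2 ≤ n ∧
    Nonempty (G ≃* Matrix.ProjectiveSpecialLinearGroup (Fin 2) (GaloisField 2 n)) := by
  classical
  obtain ⟨S⟩ : Nonempty (Sylow 2 G) := inferInstance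
  have hSb : (S : Subgroup G) ≠ ⊥ := fun e =>
    hs (isSolvable_of_sylow_two_normal S (by rw [e]; infer_instance))
  have := (nontrivial_iff_ne_bot _).2 hSb
  obtain ⟨k, hk0, hk⟩ := (S.2.to_subgroup (center (S : Subgroup G))).nontrivial_iff_card.1
    S.2.center_nontrivial
  obtain ⟨⟨z, hzS⟩, hzc, hz⟩ := exists_involution_of_even (center (S : Subgroup G))
    (hk ▸ (Nat.even_pow.2 ⟨even_two, hk0.ne'⟩))
  rw [← orderOf_coe] at hz
  change orderOf z = 2 at hz
  have hz1 := ne_one_of_orderOf_two hz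
  obtain ⟨H, hH⟩ : ∃ H, H = centralizer ({z} : Set G) := ⟨_, rfl⟩
  have mH : ∀ x, x ∈ H ↔ Commute x z := fun x => hH ▸ mem_centralizer_singleton
  have hSH : (S : Subgroup G) ≤ H := fun x hx =>
    (mH x).2 (congrArg Subtype.val (mem_center_iff.1 hzc ⟨x, hx⟩))
  have hzH : z ∈ H := hSH hzS
  have hnil : Group.IsNilpotent H := hH ▸ cn hTI z hz1
  have hHi : Odd H.index := Nat.not_even_iff_odd.1 fun h =>
    S.not_dvd_index (h.two_dvd.trans (index_dvd_of_le hSH))
  have hCC : ∀ x ∈ H, x ≠ 1 → centralizer ({x} : Set G) ≤ H := by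
    refine (S1477.result (cn hTI) H hnil (fun L hL hHL => le_antisymm (fun y hy => ?_) hHL)).2.2
      fun g hg => ?_
    · obtain ⟨a, b, ha, hb, ⟨j, hj⟩, hbo, rfl⟩ := H3.exists_p_part (p := 2) y
      have haL : a ∈ L := zpowers_le.2 hy ha
      have hbL : b ∈ L := zpowers_le.2 hy hb
      refine H.mul_mem (hSH ?_) ((mH b).2 (congrArg Subtype.val
        (H3.commute_of_coprime_orderOf (⟨b, hbL⟩ : L) ⟨z, hHL hzH⟩ (by
          rw [← orderOf_coe, ← orderOf_coe]; exact hz ▸ hbo)).eq))
      have hn : ((S.subtype (hSH.trans hHL) : Sylow 2 L) : Subgroup L).Normal :=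
        (show ∀ (q : ℕ) (_ : Fact q.Prime) (Q : Sylow q L), (Q : Subgroup L).Normal from
          (Group.isNilpotent_of_finite_tfae.out 0 3).mp hL) 2 inferInstance _
      exact mem_sylow_of_mem_normalizer (S.subtype (hSH.trans hHL)) (x := ⟨a, haL⟩) (k := j)
        (Subtype.ext hj) ((normalizer_eq_top_iff.2 hn).ge (mem_top _))
    · rw [eq_bot_iff]
      intro y hy
      by_contra hy1
      refine hg (cj_eq_of_mem_normalizer (hH ▸ norm hTI (z := g⁻¹ * y * g) ?_
        ((mH _).1 (mem_cj.1 hy.2)) (by simpa [mul_assoc] using (mH y).1 hy.1)))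
      intro e
      exact hy1 (by simpa [mul_assoc, mul_inv_eq_one] using congrArg (fun w => g * w * g⁻¹) e)
  have hzc' : ∀ y ∈ H, z * y = y * z := fun y hy => ((mH y).1 hy).symm
  have hsH : Group.IsSolvable H := inferInstance
  have hn : ¬ H.Normal := fun hn =>
    hs ((Group.isSolvable_iff_subgroup_quotient H).2 ⟨hsH, S0205.result hHi⟩)
  obtain ⟨hc1, hc2, hc3⟩ := H12.cc_struct H hCC hz hzH hzc' hn
  rcases H12.zass_of_cc H hCC hz hzH hzc' with h | h | ⟨hZ, hcard, hfix⟩
  · exact absurd h hn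
  · obtain ⟨N, -, hN, hc⟩ := S0035.result H h
    have h1 : Group.IsSolvable N := S0205.result (hc.index_eq_card ▸ hHi)
    have h2 : Group.IsSolvable (G ⧸ N) :=
      Group.isSolvable_of_surjective (f := (QuotientGroup.mk' N).comp H.subtype) fun x => by
        obtain ⟨g, rfl⟩ := QuotientGroup.mk_surjective x
        obtain ⟨⟨a, b⟩, rfl⟩ := hc.2 g
        exact ⟨b, by simp⟩
    exact absurd ((Group.isSolvable_iff_subgroup_quotient N).2 ⟨h1, h2⟩) hs
  have hT := H12.ZT.of_zass hZ
  have hHeven : Even (Nat.card H) := even_card_of_involution hzH hz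
  have hodd : Odd (Nat.card (G ⧸ normalizer (H : Set G))) := hcard ▸ hHeven.add_one
  have hsimple := H12.zass_simple_of_odd hZ hodd
  have hna : ¬ IsMulCommutative G := fun h => hs (Group.isSolvable_of_comm h.is_comm.comm)
  obtain ⟨b, hb⟩ := H12.zass_exists_ne hZ ((1 : G) : G ⧸ normalizer (H : Set G))
  have hst : ∀ u : G, u • ((1 : G) : G ⧸ normalizer (H : Set G)) = (1 : G) ↔
      u ∈ normalizer (H : Set G) := fun u => by
    rw [MulAction.Quotient.smul_coe, smul_eq_mul, mul_one, QuotientGroup.eq]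
    simp
  have hker : H = H12.zker G ((1 : G) : G ⧸ normalizer (H : Set G)) :=
    hT.eq_ker_of_card hb (fun u hu => (hst u).2 (le_normalizer hu)) hcard.symm hfix
  have hab : ∀ x ∈ H, ∀ y ∈ H, x * y = y * x := by
    rcases H26.feit_bound hZ hb.symm with h | ⟨h2, hna2⟩
    · exact hker ▸ (H26.ker_elementary_of_large hT hb.symm le_rfl h).1
    exfalso
    rw [← hker] at h2 hna2
    obtain ⟨n, -, hn1, hΩ, -, hD, -⟩ := S1147.result hZ hb.symm H
      (fun u hu => (hst u).2 (le_normalizer hu))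
      (fun h hh u hu => conj_mem_of_mem_normalizer ((hst h).1 hh) hu)
      (fun c d hc hd => by
        obtain ⟨u, hu, e⟩ := hT.ker_trans hc hd
        exact ⟨⟨u, hker ▸ hu⟩, e, fun v hv => Subtype.ext
          (hT.ker_unique hc (hker ▸ v.2) hu (hv.trans e.symm))⟩) h2 hna2
    have hHc : Nat.card H = 2 ^ (2 * n) := by omega
    have key : ∀ A : Subgroup G, A ≤ H → A ≠ ⊥ → normalizer (H : Set G) ≤ normalizer (A : Set G) →
        ∃ j, j ≠ 0 ∧ Nat.card A = 2 ^ (n * j) := by
      intro A hA hA1 hN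
      have h3 := H3.relIndex_dvd_card_sub_one (K := ⊥) (N := A)
        (L := MulAction.stabilizer G ((1 : G) : G ⧸ normalizer (H : Set G)) ⊓ MulAction.stabilizer G b)
        (fun d hd => hN ((hst d).1 hd.1)) fun u hu hu1 d hd => by
          by_contra hd1
          exact hu1 (hT.ker_eq_one_of_commute hb (hker ▸ hA hu) hd1 hd.1.2
            (mem_centralizer_singleton.1 hd.2))
      obtain ⟨j, hj⟩ := (h2.to_le hA).exists_card_eq
      rw [relIndex_bot_left, hD, hj, ← Nat.gcd_eq_left_iff_dvd, Nat.pow_sub_one_gcd_pow_sub_one] at h3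
      have h4 : 2 ^ Nat.gcd n j = 2 ^ n := by
        have := Nat.one_le_two_pow (n := Nat.gcd n j)
        have := Nat.one_le_two_pow (n := n)
        omega
      obtain ⟨i, rfl⟩ := Nat.gcd_eq_left_iff_dvd.1 (Nat.pow_right_injective le_rfl h4)
      refine ⟨i, fun e => hA1 (card_eq_one.1 ?_), hj⟩
      rw [hj, e, mul_zero, pow_zero]
    obtain ⟨x, hx, y, hy, hxy⟩ := hna2
    have hx1 : x ≠ 1 := fun e => hxy (by rw [e, one_mul, mul_one])
    obtain ⟨i, hi0, hi⟩ := key (H12.OZ H) (H12.OZ_le H) (fun e => hz1 (mem_bot.1 (e ▸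
      H12.mem_OZ.2 ⟨hzH, mul_self_of_orderOf_two hz, hzc'⟩))) (H12.normalizer_le_normalizer_OZ H)
    obtain ⟨j, -, hj⟩ := key (centralizer {x}) (hCC x hx hx1)
      (fun e => hx1 (mem_bot.1 (e ▸ mem_centralizer_singleton.2 (Commute.refl x)))) fun g hg =>
        norm hTI hz1 (hzc' x hx) (hc1 _ (conj_mem_of_mem_normalizer hg hzH)
          (mul_self_of_orderOf_two ((orderOf_conj' g z).trans hz)) x hx)
    have l1 : H12.OZ H < centralizer {x} :=
      lt_of_le_of_ne (fun u hu => mem_centralizer_singleton.2 ((H12.mem_OZ.1 hu).2.2 x hx)) fun e =>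
        hxy ((H12.mem_OZ.1 (e ▸ mem_centralizer_singleton.2 (Commute.refl x))).2.2 y hy)
    have l2 : centralizer {x} < H := lt_of_le_of_ne (hCC x hx hx1) fun e =>
      hxy (mem_centralizer_singleton.1 (e ▸ hy)).symm
    have l3 := H2.card_lt_of_lt l1
    have l4 := H2.card_lt_of_lt l2
    rw [hi, hj, Nat.pow_lt_pow_iff_right (by omega)] at l3
    rw [hj, hHc, Nat.pow_lt_pow_iff_right (by omega), mul_comm 2 n] at l4
    have := Nat.lt_of_mul_lt_mul_left l3
    have := Nat.lt_of_mul_lt_mul_left l4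
    omega
  refine AbC.psl2_of_simple hna fun t x y ht hx hy => ?_
  obtain ⟨g, hg⟩ := exists_conj_mem_sylow_two S ht
  have ht' : g * t * g⁻¹ ≠ 1 := ne_one_of_orderOf_two ((orderOf_conj' g t).trans ht)
  have := hab (g * x * g⁻¹) (hCC _ (hSH hg) ht' (mem_centralizer_singleton.2
      (by simpa only [MulAut.conj_apply] using hx.map (MulAut.conj g))))
    (g * y * g⁻¹) (hCC _ (hSH hg) ht' (mem_centralizer_singleton.2
      (by simpa only [MulAut.conj_apply] using hy.map (MulAut.conj g))))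
  exact (MulAut.conj g).injective (by simpa only [map_mul, MulAut.conj_apply] using this)

end

/-- Let G be a finite group in which the centralizer of every element meets each of its conjugates by elements outside its normalizer trivially. Then G is nilpotent; or G is a Frobenius group with a complement that is cyclic or isomorphic to the direct product of a cyclic group of odd order and the quaternion group of order 8; or G is isomorphic to PSL₂(2ⁿ) for some n ≥ 2. -/
theorem result {G : Type*} [Group G] [Finite G] (hTI : ∀ x : G, Cfsg.IsTISubset (Subgroup.centralizer ({x} : Set G) : Set G)) :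
    Group.IsNilpotent G ∨
    (∃ H : Subgroup G, Cfsg.IsFrobeniusComplement H ∧
      (IsCyclic H ∨ ∃ m : ℕ, Odd m ∧ Nonempty (H ≃* Multiplicative (ZMod m) × QuaternionGroup 2))) ∨
    (∃ n : ℕ, 2 ≤ n ∧ Nonempty (G ≃* Matrix.ProjectiveSpecialLinearGroup (Fin 2) (GaloisField 2 n))) := by
  by_cases hs : Group.IsSolvable G
  swap
  · exact Or.inr (Or.inr (nonsolv hTI hs))
  rcases S1476.result (cn hTI) with h | ⟨K, E, -, -, hE, h⟩ | ⟨p, hp, h⟩
  · exact Or.inl h
  · refine Or.inr (Or.inl ⟨E, hE, ?_⟩)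
    rcases h with h | ⟨C, Q, rfl, hc, hC, ho, n, ⟨e⟩⟩
    · exact Or.inl h
    have hQ : Nat.card Q = 4 * 2 ^ n := by
      rw [Nat.card_congr e.toEquiv, Nat.card_eq_fintype_card, QuaternionGroup.card]
    have hcop : (Nat.card C).Coprime (Nat.card Q) := by
      rw [hQ, show 4 * 2 ^ n = 2 ^ (n + 2) by ring]
      exact (Nat.coprime_two_right.2 ho).pow_right _
    obtain ⟨f⟩ := H8.nonempty_prod_equiv_sup hc (Subgroup.disjoint_of_coprime_natCard hcop).eq_bot
    have hn := quat hTI e
    obtain rfl | rfl : n = 0 ∨ n = 1 := by omega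
    · left
      have : IsCyclic (QuaternionGroup (2 ^ 0)) := QuaternionGroup.quaternionGroup_one_isCyclic
      have : IsCyclic Q := isCyclic_of_surjective _ e.symm.surjective
      have : IsCyclic (C × Q) := Group.isCyclic_prod_iff.2 ⟨hC, this, hcop⟩
      exact isCyclic_of_surjective _ f.surjective
    · exact Or.inr ⟨_, ho, ⟨f.symm.trans ((zmodCyclicMulEquiv hC).symm.prodCongr e)⟩⟩
  · exact absurd h (not_three_step hTI hp)

end Cfsg.Agent.S4064
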