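import Cfsg.Statements.S4068
import Cfsg.Agent.H8.Nonsolv
import Cfsg.Agent.S0144
import Cfsg.Agent.S0494

set_option autoImplicit false
open Cfsg

namespace Cfsg.Agent.S4068

open scoped MatrixGroups in
theorem aux {G : Type*} [Group G] [Finite G] (hns : ¬ Group.IsSolvable G)
    (hp : ∀ g : G, g ≠ 1 → (orderOf g).Prime) : Nonempty (G ≃* alternatingGroup (Fin 5)) := by
  have hw : ∀ w t : G, orderOf t = 2 → Odd (orderOf w) → Commute w t → w = 1 := by
    intro w t ht ho hc
    by_contra h1
    have e : orderOf (w * t) = orderOf w * 2 := by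
      rw [hc.orderOf_mul_eq_mul_orderOf_of_coprime (ht ▸ Nat.coprime_two_right.2 ho), ht]
    have h2 := hp (w * t) fun e' => by rw [e', orderOf_one] at e; omega
    rw [e] at h2
    exact Nat.not_prime_mul (hp w h1).ne_one (by omega) h2
  have hsq : ∀ t x : G, orderOf t = 2 → Commute x t → x * x = 1 := by
    intro t x ht hc
    by_cases h1 : x = 1
    · rw [h1, mul_one]
    rcases (hp x h1).eq_two_or_odd' with h | h
    · exact H8.mul_self_of_orderOf_two h
    · exact absurd (hw x t ht h hc) h1
  have hab : H8.AbC G := fun t x y ht hx hy => by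
    have h1 := hsq t _ ht (hx.mul_left hy)
    have h2 := hsq t _ ht hx
    have h3 := hsq t _ ht hy
    change x * y = y * x
    rw [← inv_eq_of_mul_eq_one_right h1, mul_inv_rev, inv_eq_of_mul_eq_one_right h2,
      inv_eq_of_mul_eq_one_right h3]
  obtain ⟨K, _, _, _, h4, ⟨e⟩⟩ := hab.sl2_of_no_odd (hab.twoComm_of_not_isSolvable hns)
    (hab.nonComm_of_not_isSolvable hns) hw
  have h2 : (2 : K) = 0 := CharP.cast_eq_zero K 2
  have key : ∀ x : SL(2, K), orderOf x ≠ 1 → (orderOf x).Prime := fun x hx => by
    rw [← e.symm.orderOf_eq x] at hx ⊢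
    exact hp _ (mt orderOf_eq_one_iff.2 hx)
  obtain ⟨x, hx⟩ := H8.exists_orderOf_card_sub_one K h4
  obtain ⟨y, hy, -⟩ := H66.exists_nonsplit (F := K)
  have hx' := key x (by omega)
  have hy' := key y (by omega)
  rw [hx] at hx'
  rw [hy] at hy'
  obtain ⟨n, -, hn⟩ := H8.exists_card_eq_two_pow h2
  have h3 : ¬ 3 ∣ Nat.card K := fun h => by
    have := (Nat.prime_dvd_prime_iff_eq Nat.prime_three Nat.prime_two).1
      (Nat.prime_three.dvd_of_dvd_pow (hn ▸ h))
    omega
  have hq : Nat.card K = 4 := by
    by_cases h : 3 ∣ Nat.card K - 1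
    · have := (Nat.prime_dvd_prime_iff_eq Nat.prime_three hx').1 h
      omega
    · have := (Nat.prime_dvd_prime_iff_eq Nat.prime_three hy').1 (by omega)
      omega
  have := H8.sl2e_simple h2 h4
  have := e.isSimpleGroup
  exact S0494.result (by rw [Nat.card_congr e.toEquiv, H8.sl2e_card, hq]; rfl)

/-- A finite non-solvable group on which its automorphism group has exactly four orbits is isomorphic to the alternating group of degree 5. -/
theorem result {G : Type*} [Group G] [Finite G] (hns : ¬ Group.IsSolvable G)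
    (h4 : Nat.card (MulAction.orbitRel.Quotient (MulAut G) G) = 4) : Nonempty (G ≃* alternatingGroup (Fin 5)) := by
  classical
  refine aux hns fun g hg => ?_
  by_contra hng
  have h3 : 3 ≤ (Nat.card G).primeFactors.card := by
    by_contra hlt
    have h0 : Nat.card G ≠ 0 := Nat.card_pos.ne'
    obtain ⟨p, q, hp, hq, hne, hsub⟩ : ∃ p q : ℕ, p.Prime ∧ q.Prime ∧ p ≠ q ∧
        (Nat.card G).primeFactors ⊆ {p, q} := by
      have h2 : (Nat.card G).primeFactors.card = 0 ∨ (Nat.card G).primeFactors.card = 1 ∨
          (Nat.card G).primeFactors.card = 2 := by omega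
      rcases h2 with h | h | h
      · exact ⟨2, 3, Nat.prime_two, Nat.prime_three, by omega, by simp [Finset.card_eq_zero.1 h]⟩
      · obtain ⟨p, hp⟩ := Finset.card_eq_one.1 h
        have hpp : p.Prime := Nat.prime_of_mem_primeFactors (hp ▸ Finset.mem_singleton_self p)
        obtain ⟨q, hq, hqq⟩ := Nat.exists_infinite_primes (p + 1)
        exact ⟨p, q, hpp, hqq, by omega, by simp [hp]⟩
      · obtain ⟨p, q, hne, hp⟩ := Finset.card_eq_two.1 h
        exact ⟨p, q, Nat.prime_of_mem_primeFactors (n := Nat.card G) (by rw [hp]; simp),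
          Nat.prime_of_mem_primeFactors (n := Nat.card G) (by rw [hp]; simp), hne, hp.le⟩
    refine hns (S0144.result p q ((Nat.card G).factorization p) ((Nat.card G).factorization q) hp hq ?_)
    conv_lhs => rw [← Nat.prod_factorization_pow_eq_self h0]
    rw [Finsupp.prod_of_support_subset _ hsub _ (by simp), Finset.prod_pair hne]
  let f : MulAction.orbitRel.Quotient (MulAut G) G → ℕ :=
    Quotient.lift orderOf (by
      rintro a b ⟨σ, rfl⟩
      exact MulEquiv.orderOf_eq σ b)
  have := Fintype.ofFinite (MulAction.orbitRel.Quotient (MulAut G) G)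
  have hsub : insert 1 (insert (orderOf g) (Nat.card G).primeFactors) ⊆ Finset.univ.image f := by
    intro m hm
    simp only [Finset.mem_insert] at hm
    rw [Finset.mem_image]
    rcases hm with rfl | rfl | hm
    · exact ⟨Quotient.mk _ 1, Finset.mem_univ _, orderOf_one⟩
    · exact ⟨Quotient.mk _ g, Finset.mem_univ _, rfl⟩
    · have := Fact.mk (Nat.prime_of_mem_primeFactors hm)
      obtain ⟨x, hx⟩ := exists_prime_orderOf_dvd_card' m (Nat.dvd_of_mem_primeFactors hm)
      exact ⟨Quotient.mk _ x, Finset.mem_univ _, hx⟩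
  have h1 := (Finset.card_le_card hsub).trans Finset.card_image_le
  rw [Finset.card_univ, ← Nat.card_eq_fintype_card, h4, Finset.card_insert_of_notMem,
    Finset.card_insert_of_notMem] at h1
  · omega
  · exact fun h => hng (Nat.prime_of_mem_primeFactors h)
  · simp only [Finset.mem_insert, not_or]
    exact ⟨fun h => hg (orderOf_eq_one_iff.1 h.symm),
      fun h => Nat.not_prime_one (Nat.prime_of_mem_primeFactors h)⟩

end Cfsg.Agent.S4068
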