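import Cfsg.Statements.S4069
import Cfsg.Agent.H30.ZOdd5

set_option autoImplicit false
open Cfsg

namespace Cfsg.Agent.S4069



/-- Let G be a finite non-solvable group whose Sylow subgroups of odd order are cyclic and whose Sylow 2-subgroups contain a cyclic subgroup of index at most 2. Then G has a normal subgroup G₀ of index at most 2 that is an internal direct product X × L of normal subgroups, where X has odd order and is an extension of a cyclic group by a cyclic group, L is isomorphic to PSL₂(p) or SL₂(p) for some prime p ≥ 5, and the orders of X and L are coprime. -/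
theorem result {G : Type*} [Group G] [Finite G] (hns : ¬ Group.IsSolvable G)
    (hodd : ∀ p : ℕ, p.Prime → p ≠ 2 → ∀ P : Sylow p G, IsCyclic P)
    (h2 : ∀ S : Sylow 2 G, ∃ C : Subgroup ↥(S : Subgroup G), IsCyclic C ∧ C.index ∣ 2) :
    ∃ G₀ : Subgroup G, G₀.Normal ∧ G₀.index ∣ 2 ∧
      ∃ X L : Subgroup ↥G₀, X.Normal ∧ L.Normal ∧ X ⊓ L = ⊥ ∧ X ⊔ L = ⊤ ∧ (Nat.card X).Coprime (Nat.card L) ∧
        Odd (Nat.card X) ∧ (∃ (C : Subgroup ↥X) (_ : C.Normal), IsCyclic C ∧ IsCyclic (↥X ⧸ C)) ∧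
        ∃ (p : ℕ) (_ : Fact p.Prime), 5 ≤ p ∧
          (Nonempty (↥L ≃* Matrix.ProjectiveSpecialLinearGroup (Fin 2) (ZMod p)) ∨
           Nonempty (↥L ≃* Matrix.SpecialLinearGroup (Fin 2) (ZMod p))) := by
  have hC : H30.CO G := H30.CO.of_sylow hodd
  have hT : H30.C2 G := by
    obtain ⟨S⟩ : Nonempty (Sylow 2 G) := inferInstance
    obtain ⟨C, hc, hi⟩ := h2 S
    obtain ⟨a, rfl⟩ := (Subgroup.isCyclic_iff_exists_zpowers_eq_top _).1 hc
    refine H30.C2.of_sylow S a.2 ?_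
    rw [← Subgroup.card_mul_index (Subgroup.zpowers a), Nat.card_zpowers, Subgroup.orderOf_coe,
      mul_comm]
    exact Nat.mul_le_mul_right _ (Nat.le_of_dvd two_pos hi)
  obtain ⟨E, _, hE, -, hE0⟩ := H22.exists_residual G
  have hEp := H22.isPerfect_of_commutator_eq hE
  have : Nontrivial E := (Subgroup.nontrivial_iff_ne_bot E).2 fun e => hns (hE0 e)
  obtain ⟨p, hp, h5, e⟩ := (H30.perfect_cases hEp (hC.sub E) (hT.sub E)).resolve_left
    fun ⟨T, h⟩ => H30.no_qd _ E rfl hEp (hC.sub E) T h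
  obtain ⟨L, tor, τ, m, ψ, X, -, hPG, _, hZ⟩ := H30.exists_ZS_of_equiv hC hT hE h5 e
  have := hPG.L_normal
  have hi := hZ.index_dvd
  rw [← Subgroup.relIndex_top_right L, hPG.relIndex] at hi
  let eX := Subgroup.subgroupOfEquivOfLe (le_sup_left : X ≤ X ⊔ E)
  let eE := Subgroup.subgroupOfEquivOfLe (le_sup_right : E ≤ X ⊔ E)
  have ho : Odd (Nat.card (X.subgroupOf (X ⊔ E))) := by
    rw [Nat.card_congr eX.toEquiv]
    exact hZ.odd_X
  have := ((hC.sub _).sub _).isZGroup ho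
  refine ⟨X ⊔ E, inferInstance, hi, X.subgroupOf _, E.subgroupOf _, inferInstance, inferInstance,
    ?_, ?_, ?_, ho, ⟨commutator _, inferInstance, IsZGroup.isCyclic_commutator _,
      IsZGroup.isCyclic_abelianization⟩, p, hp, h5,
    e.imp (fun ⟨e⟩ => ⟨eE.trans e⟩) fun ⟨e⟩ => ⟨eE.trans e⟩⟩
  · rw [Subgroup.subgroupOf, Subgroup.subgroupOf, ← Subgroup.comap_inf, hZ.inf,
      Subgroup.comap_subtype, Subgroup.bot_subgroupOf]
  · rw [← Subgroup.subgroupOf_sup le_sup_left le_sup_right, Subgroup.subgroupOf_self]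
  · rw [Nat.card_congr eX.toEquiv, Nat.card_congr eE.toEquiv]
    exact hZ.cop

end Cfsg.Agent.S4069
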