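import Cfsg.Statements.S4070
import Cfsg.Agent.H65.CzQp
import Cfsg.Agent.H65.CzCol2
import Cfsg.Agent.H65.CzOdd2

set_option autoImplicit false
open Cfsg

namespace Cfsg.Agent.S4070

/-- Let G be a finite solvable group acting faithfully by additive automorphisms on a finite vector space V over the field with p elements, completely reducibly (every G-invariant subspace has a G-invariant complement). Then some vector v ∈ V has stabilizer C_G(v) of derived length at most 9; and if both #G and p are odd, some vector has abelian stabilizer. -/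
theorem result {G V : Type*} [Group G] [Finite G] [Group.IsSolvable G]
    {p : ℕ} [Fact p.Prime] [AddCommGroup V] [Module (ZMod p) V] [Finite V] [DistribMulAction G V] [FaithfulSMul G V]
    (hcr : ∀ W : Submodule (ZMod p) V, (∀ (g : G) (w : V), w ∈ W → g • w ∈ W) →
      ∃ W' : Submodule (ZMod p) V, (∀ (g : G) (w : V), w ∈ W' → g • w ∈ W') ∧ IsCompl W W') :
    (∃ v : V, derivedSeries ↥(MulAction.stabilizer G v) 9 = ⊥) ∧
    (Odd (Nat.card G) → p ≠ 2 → ∃ v : V, IsMulCommutative ↥(MulAction.stabilizer G v)) := by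
  let ρ := DistribMulAction.toModuleAut ℤ V (S := G)
  have : Finite ρ.range := .of_surjective _ ρ.rangeRestrict_surjective
  have hs : Group.IsSolvable ρ.range := Group.isSolvable_of_surjective ρ.rangeRestrict_surjective
  have hc : H33.CR ρ.range V := fun U hU => by
    obtain ⟨W, h1, h2⟩ := hcr (AddSubgroup.toZModSubmodule p U) fun g w hw => hU ⟨_, g, rfl⟩ w hw
    refine ⟨W.toAddSubgroup, by rintro ⟨_, a, rfl⟩; exact h1 a, ?_, ?_⟩
    · exact eq_bot_iff.2 fun x hx => h2.disjoint.le_bot (⟨hx.1, hx.2⟩ : x ∈ AddSubgroup.toZModSubmodule p U ⊓ W)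
    · refine eq_top_iff.2 fun x _ => ?_
      obtain ⟨y, hy, z, hz, e⟩ := Submodule.mem_sup.1 (h2.codisjoint.top_le (Submodule.mem_top (x := x)))
      exact AddSubgroup.mem_sup.2 ⟨y, hy, z, hz, e⟩
  have key : ∀ n, (∃ v : V, H65.Cz.DL (MulAction.stabilizer ρ.range v) n V) →
      ∃ v : V, derivedSeries (MulAction.stabilizer G v) n = ⊥ := fun n ⟨v, hv⟩ =>
    ⟨v, (H65.Cz.DL.comap ρ.rangeRestrict (fun _ _ => rfl) (S := MulAction.stabilizer G v) (fun _ hg => hg) hv).bot⟩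
  refine ⟨key 9 (H65.Cz.cr_vec hc 9 fun W hW h0 hi => ?_), fun hG hp => ?_⟩
  · letI := H65.Cz.invAct hW
    have := (AddSubgroup.nontrivial_iff_ne_bot W).2 h0
    obtain ⟨L, X, Ω, _, _, _, _, _, _, _, ⟨I⟩, _, _, h1, h2, h3, -⟩ := H65.Cz.exists_ind ρ.range W hs hi
    obtain h4 | ⟨h4, h5, w, w', h6, h7, h8⟩ | ⟨P, h4, h5⟩ := H65.Cz.qp_cases L X h1 h2 h3
    · obtain ⟨κ, hκ⟩ := H65.Cz.col2 ρ.range Ω hs
      obtain ⟨w, hw⟩ := exists_ne (0 : X)
      refine ⟨_, I.transfer (fun c : Bool => if c then w else 0) (fun a c c' => ?_) (fun _ => 5) _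
        (fun _ => h4.mono le_top le_rfl) κ hκ fun _ => le_rfl⟩
      cases c <;> cases c' <;> simp [hw, hw.symm, smul_eq_zero_iff_eq]
    · obtain ⟨κ, hκ⟩ := H65.Cz.col3 ρ.range Ω hs
      have h9 : ∀ a : L, a • w' ≠ w := fun a e => h8 a⁻¹ (inv_smul_eq_iff.2 e.symm)
      refine ⟨_, I.transfer ![0, w, w'] (fun a c c' => ?_) ![8, 7, 7] _ (fun c => ?_) κ hκ fun c => ?_⟩
      · fin_cases c <;> fin_cases c' <;> simp [h6, h7, h6.symm, h7.symm, h8, h9, smul_eq_zero_iff_eq]
      · fin_cases c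
        exacts [h4.mono le_top le_rfl, h5 w h6, h5 w' h7]
      · fin_cases c <;> simp
    · obtain ⟨κ, hκ⟩ := H65.Cz.col5 ρ.range Ω hs
      exact ⟨_, I.transfer P h4 (fun _ => 9) _ h5 κ hκ fun _ => le_rfl⟩
  have hV : Odd (Nat.card V) := by
    rw [Module.natCard_eq_pow_finrank (K := ZMod p), Nat.card_zmod]
    exact ((Fact.out : p.Prime).odd_of_ne_two hp).pow
  have hG' := hG.of_dvd_nat (Subgroup.card_range_dvd ρ)
  obtain ⟨v, hv⟩ := key 1 (H65.Cz.cr_vec hc 1 fun W hW h0 hi => by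
    letI := H65.Cz.invAct hW
    have := (AddSubgroup.nontrivial_iff_ne_bot W).2 h0
    obtain ⟨L, X, Ω, _, _, _, _, _, _, _, ⟨I⟩, _, _, h1, h2, h3, h4⟩ := H65.Cz.exists_ind ρ.range W hs hi
    have hL : Odd (Nat.card L) := hG'.of_dvd_nat ((Dvd.intro_left _ rfl).trans h4)
    have hΩ : Odd (Nat.card Ω) := hG'.of_dvd_nat ((Dvd.intro _ rfl).trans h4)
    have hX : Odd (Nat.card X) := (hV.of_dvd_nat W.card_addSubgroup_dvd_card).of_dvd_nat
      (I.card ▸ dvd_pow_self _ hΩ.pos.ne')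
    obtain ⟨w, h5, h6⟩ := H65.Cz.odd_qp L X hL hX h3
    have h7 : ∀ a : L, a • w ≠ -w := fun a e => h5 (by
      have e1 : a • w = w := H33.smul_eq_of_sq hL (by rw [mul_smul, e, smul_neg, e, neg_neg])
      have e2 : addOrderOf w ∣ 2 := addOrderOf_dvd_of_nsmul_eq_zero (by rw [two_nsmul, ← eq_neg_iff_add_eq_zero, ← e, e1])
      exact AddMonoid.addOrderOf_eq_one_iff.1 (Nat.eq_one_of_dvd_coprimes (Nat.coprime_two_left.2 hX) e2
        (addOrderOf_dvd_natCard w)))
    obtain ⟨Δ, hΔ⟩ := H33.gluck (H33.base_all _) _ ρ.range Ω rfl (Nat.lt_succ_self _) hG'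
    classical
    refine ⟨_, I.transfer (fun c : Prop => if c then w else -w) (fun a c c' => ?_) (fun _ => 1) (fun _ => 0)
      (fun c => ?_) (· ∈ Δ) (fun ω g hg => hΔ g (fun x => (hg x).to_iff) ω) fun _ => le_rfl⟩
    · have := h7 a
      by_cases h : c <;> by_cases h' : c' <;> simp [h, h', this, neg_eq_iff_eq_neg]
    · split_ifs
      exacts [h6, h6.mono (fun a ha => by simpa using ha) le_rfl])
  refine ⟨v, ⟨⟨fun a b => commutatorElement_eq_one_iff_mul_comm.1 (Subgroup.mem_bot.1 (hv ▸ ?_))⟩⟩⟩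
  exact Subgroup.commutator_mem_commutator (Subgroup.mem_top a) (Subgroup.mem_top b)

end Cfsg.Agent.S4070
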