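import Cfsg.Statements.S4071
import Cfsg.Agent.H8.SelfNorm
import Cfsg.Agent.H6.Wreath
import Cfsg.Agent.H79.Count

set_option autoImplicit false
open Cfsg

namespace Cfsg.Agent.S4071

open Subgroup

theorem fwd {G : Type*} [Group G] [Finite G]
    [Group.IsSolvable G] (hnn : ¬ Group.IsNilpotent G)
    (h : ∀ H : Subgroup G, ¬ IsMulCommutative H → Subgroup.normalizer (H : Set G) = H) :
    ∃ (x : G) (A : Subgroup G) (p : ℕ), p.Prime ∧ A.Normal ∧ IsMulCommutative A ∧ (∃ k : ℕ, orderOf x = p ^ k) ∧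
      ¬ p ∣ Nat.card A ∧ (Subgroup.zpowers x).IsComplement' A ∧ x ^ p ∈ Subgroup.center G ∧
      ∀ a : G, a ∈ A → a ≠ 1 → x * a * x⁻¹ ≠ a := by
  have hSN : H8.SN G := h
  have : Nontrivial G := by
    by_contra hc
    rw [not_nontrivial_iff_subsingleton] at hc
    exact hnn inferInstance
  obtain ⟨M, hMn, hMp⟩ := H6.exists_normal_index_prime (G := G) inferInstance
  set p := M.index with hp
  have : Fact p.Prime := ⟨hMp⟩
  have hMt : M ≠ ⊤ := fun e => hMp.ne_one (index_eq_one.2 e)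
  have hM : ∀ a ∈ M, ∀ b ∈ M, Commute a b := fun a ha b hb => hSN.comm_of_normal hMt ha hb
  obtain ⟨k, m, hpm, hkm⟩ := Nat.exists_eq_pow_mul_and_not_dvd (Nat.card_pos (α := G)).ne' p hMp.ne_one
  have hcop : Nat.Coprime p m := (Nat.Prime.coprime_iff_not_dvd hMp).2 hpm
  let A : Subgroup G :=
    { carrier := {a | a ∈ M ∧ a ^ m = 1}
      mul_mem' := fun {a b} ha hb => ⟨M.mul_mem ha.1 hb.1, by
        rw [(hM a ha.1 b hb.1).mul_pow, ha.2, hb.2, one_mul]⟩
      one_mem' := ⟨M.one_mem, one_pow _⟩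
      inv_mem' := fun {a} ha => ⟨M.inv_mem ha.1, by rw [inv_pow, ha.2, inv_one]⟩ }
  have hAmem : ∀ a, a ∈ A ↔ a ∈ M ∧ a ^ m = 1 := fun a => Iff.rfl
  have hAn : A.Normal := ⟨fun a ha g => ⟨hMn.conj_mem a ha.1 g, by
    rw [conj_pow, ha.2, mul_one, mul_inv_cancel]⟩⟩
  have hAM : A ≤ M := fun a ha => ha.1
  have hpowM : ∀ g : G, g ^ p ∈ M := fun g => M.pow_index_mem g
  obtain ⟨g, hg⟩ : ∃ g, g ∉ M := by
    by_contra hc
    push Not at hc
    exact hMt ((eq_top_iff' M).2 hc)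
  set x := g ^ m with hx
  have hxM : x ∉ M := by
    intro hxM
    apply hg
    have h1 : (QuotientGroup.mk g : G ⧸ M) ^ m = 1 := by
      rw [← QuotientGroup.mk_pow, QuotientGroup.eq_one_iff]; exact hxM
    have h2 : (QuotientGroup.mk g : G ⧸ M) ^ p = 1 := by
      rw [← QuotientGroup.mk_pow, QuotientGroup.eq_one_iff]; exact hpowM g
    have h3 := Nat.dvd_gcd (orderOf_dvd_of_pow_eq_one h2) (orderOf_dvd_of_pow_eq_one h1)
    rw [hcop.gcd_eq_one, Nat.dvd_one, orderOf_eq_one_iff, QuotientGroup.eq_one_iff] at h3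
    exact h3
  have hxp : x ^ p ^ k = 1 := by
    rw [hx, ← pow_mul, mul_comm, ← hkm, pow_card_eq_one']
  have hMx : M ⊔ zpowers x = ⊤ := H79.sup_zpowers_eq_top_of_index_prime hMp rfl hxM
  have hcent : ∀ a ∈ M, Commute x a → a ∈ center G := by
    intro a ha hxa
    rw [← centralizer_eq_top_iff_subset.trans (Set.singleton_subset_iff (s := (center G : Set G))) |>.trans SetLike.mem_coe, eq_top_iff, ← hMx]
    refine sup_le (fun b hb => ?_) ((zpowers_le).2 ?_)
    · rw [mem_centralizer_singleton_iff]; exact (hM b hb a ha).eq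
    · rw [mem_centralizer_singleton_iff]; exact hxa.eq
  have htriv : ∀ c : G, c ∈ A → c ^ p ^ k = 1 → c = 1 := by
    intro c hc hc'
    have h3 := Nat.dvd_gcd (orderOf_dvd_of_pow_eq_one hc') (orderOf_dvd_of_pow_eq_one hc.2)
    rwa [(hcop.pow_left k).gcd_eq_one, Nat.dvd_one, orderOf_eq_one_iff] at h3
  have hQ : IsPGroup p (G ⧸ A) := by
    intro y
    obtain ⟨y, rfl⟩ := QuotientGroup.mk_surjective y
    refine ⟨k + 1, ?_⟩
    rw [← QuotientGroup.mk_pow, QuotientGroup.eq_one_iff]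
    refine ⟨by rw [pow_succ', pow_mul]; exact M.pow_mem (hpowM y) _, ?_⟩
    rw [← pow_mul, pow_succ', mul_assoc, ← hkm, mul_comm, pow_mul, pow_card_eq_one', one_pow]
  have hnc : ¬ ∀ a ∈ A, Commute x a := by
    intro hc
    apply hnn
    have := hQ.isNilpotent
    refine Subgroup.isNilpotent_of_ker_le_center (QuotientGroup.mk' A) ?_
    rw [QuotientGroup.ker_mk']
    exact fun a ha => hcent a ha.1 (hc a ha)
  have hAx : A ⊔ zpowers x = ⊤ := by
    by_contra hne
    have := hQ.isNilpotent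
    have hlt : (A ⊔ zpowers x).map (QuotientGroup.mk' A) < ⊤ := by
      refine lt_top_iff_ne_top.2 fun e => hne ?_
      have := congrArg (comap (QuotientGroup.mk' A)) e
      rwa [comap_map_eq, QuotientGroup.ker_mk', comap_top, sup_eq_left.2 le_sup_left] at this
    obtain ⟨y, hy1, hy2⟩ := SetLike.exists_of_lt (Group.normalizerCondition_of_isNilpotent _ hlt)
    obtain ⟨y, rfl⟩ := QuotientGroup.mk'_surjective A y
    have hy3 : y ∈ normalizer ((A ⊔ zpowers x : Subgroup G) : Set G) := by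
      have := comap_normalizer_eq_of_surjective ((A ⊔ zpowers x).map (QuotientGroup.mk' A))
        (QuotientGroup.mk'_surjective A)
      rw [comap_map_eq, QuotientGroup.ker_mk', sup_eq_left.2 le_sup_left] at this
      rw [← this]; exact hy1
    exact hnc fun a ha => hSN.comm hy3 (fun e => hy2 (mem_map_of_mem _ e))
      (mem_sup_right (mem_zpowers x)) (mem_sup_left ha)
  have hdisj : ∀ y, y ∈ zpowers x → y ∈ A → y = 1 := by
    rintro y ⟨i, rfl⟩ hy
    refine htriv _ hy ?_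
    show (x ^ i) ^ p ^ k = 1
    rw [← zpow_natCast, ← zpow_mul, mul_comm, zpow_mul, zpow_natCast, hxp, one_zpow]
  have hcomm : commutator G ≤ A := by
    have : IsCyclic (G ⧸ A) := by
      refine ⟨⟨QuotientGroup.mk' A x, fun y => ?_⟩⟩
      have : (⊤ : Subgroup G).map (QuotientGroup.mk' A) = ⊤ :=
        map_top_of_surjective _ (QuotientGroup.mk'_surjective A)
      rw [← hAx, Subgroup.map_sup, MonoidHom.map_zpowers,
        (Subgroup.map_eq_bot_iff _).2 (QuotientGroup.ker_mk' A).ge, bot_sup_eq] at this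
      have h2 : y ∈ zpowers (QuotientGroup.mk' A x) := this ▸ mem_top y
      exact h2
    exact Normal.quotient_commutative_iff_commutator_le.mp inferInstance
  have hK : commutator G ⊔ zpowers x = ⊤ := by
    by_contra hne
    have : (commutator G ⊔ zpowers x).Normal := Normal.of_commutator_le G le_sup_left
    apply hnc
    intro a ha
    have hc : x * a * x⁻¹ * a⁻¹ ∈ commutator G := commutator_mem_commutator (mem_top x) (mem_top a)
    have hxc : Commute x (x * a * x⁻¹ * a⁻¹) :=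
      hSN.comm_of_normal hne (mem_sup_right (mem_zpowers x)) (mem_sup_left hc)
    set c := x * a * x⁻¹ * a⁻¹ with hcdef
    have hxa : x * a = c * a * x := by rw [hcdef]; group
    have hn : ∀ n : ℕ, x ^ n * a = c ^ n * a * x ^ n := by
      intro n
      induction n with
      | zero => simp
      | succ n ih =>
        calc x ^ (n + 1) * a = x * (x ^ n * a) := by rw [pow_succ', mul_assoc]
          _ = (x * c ^ n) * a * x ^ n := by rw [ih]; group
          _ = c ^ n * (x * a) * x ^ n := by rw [(hxc.pow_right n).eq]; group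
          _ = c ^ (n + 1) * a * x ^ (n + 1) := by rw [hxa, pow_succ, pow_succ']; group
    have h1 := hn (p ^ k)
    rw [hxp, one_mul, mul_one] at h1
    have h2 : c ^ p ^ k = 1 := by
      have := congrArg (· * a⁻¹) h1
      simpa using this.symm
    have h3 := htriv c (hcomm hc) h2
    rw [h3, one_mul] at hxa
    exact hxa
  have hAc : A ≤ commutator G := by
    intro a ha
    have : a ∈ ((commutator G ⊔ zpowers x : Subgroup G) : Set G) := by rw [hK]; exact mem_top a
    rw [normal_mul] at this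
    obtain ⟨c, hc, y, hy, rfl⟩ := this
    have hy1 : y ∈ A := by
      have := A.mul_mem (A.inv_mem (hcomm hc)) ha
      simpa using this
    simp only
    rw [hdisj y hy hy1, mul_one]; exact hc
  have hAcomm : IsMulCommutative A := ⟨⟨fun a b => Subtype.ext (hM a a.2.1 b b.2.1).eq⟩⟩
  refine ⟨x, A, p, hMp, hAn, hAcomm, ?_, ?_, ?_, ?_, ?_⟩
  · obtain ⟨j, -, hj⟩ := (Nat.dvd_prime_pow hMp).1 (orderOf_dvd_of_pow_eq_one hxp)
    exact ⟨j, hj⟩
  · intro hd
    obtain ⟨a, ha⟩ := exists_prime_orderOf_dvd_card' p hd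
    apply hpm
    rw [← ha, ← orderOf_coe]
    exact orderOf_dvd_of_pow_eq_one a.2.2
  · refine isComplement'_of_disjoint_and_mul_eq_univ ?_ ?_
    · exact disjoint_def.2 fun {y} h1 h2 => hdisj y h1 h2
    · rw [← mul_normal, sup_comm, hAx]; rfl
  · exact hcent _ (hpowM x) ((Commute.refl x).pow_right p)
  · intro a ha hne he
    apply hne
    have haz : a ∈ center G := hcent a ha.1 (by
      have := congrArg (· * x) he
      show x * a = a * x
      simpa using this)
    let : CommGroup A := { (inferInstance : Group A) with mul_comm := hAcomm.is_comm.comm }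
    have ht := MonoidHom.transfer_eq_pow (MonoidHom.id A) a (fun j g₀ _ => by
      rw [mul_assoc, ← (mem_center_iff.1 (pow_mem haz j) g₀), ← mul_assoc, inv_mul_cancel, one_mul])
    have h1 : MonoidHom.transfer (MonoidHom.id A) a = 1 :=
      Abelianization.commutator_subset_ker _ (hAc ha)
    rw [h1] at ht
    have h2 : a ^ A.index = 1 := (congrArg Subtype.val ht).symm
    obtain ⟨j, hj⟩ := IsPGroup.iff_card.1 hQ
    have h3 := Nat.dvd_gcd (orderOf_dvd_of_pow_eq_one h2) (orderOf_dvd_of_pow_eq_one ha.2)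
    have h4 : A.index = p ^ j := hj
    rwa [h4, (hcop.pow_left j).gcd_eq_one, Nat.dvd_one, orderOf_eq_one_iff] at h3

theorem bwd {G : Type*} [Group G] [Finite G] (x : G) (A : Subgroup G) (p : ℕ) (hp : p.Prime)
    (hAn : A.Normal) (hA : IsMulCommutative A) (k : ℕ) (hk : orderOf x = p ^ k)
    (hc : (Subgroup.zpowers x).IsComplement' A) (hz : x ^ p ∈ Subgroup.center G)
    (hf : ∀ a : G, a ∈ A → a ≠ 1 → x * a * x⁻¹ ≠ a) (H : Subgroup G) (hH : ¬ IsMulCommutative H) :
    Subgroup.normalizer (H : Set G) = H := by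
  have hAc : ∀ a ∈ A, ∀ b ∈ A, a * b = b * a := fun a ha b hb =>
    congrArg Subtype.val (hA.is_comm.comm ⟨a, ha⟩ ⟨b, hb⟩)
  have hdec : ∀ g : G, ∃ (i : ℕ) (a : G), a ∈ A ∧ g = x ^ i * a := by
    intro g
    obtain ⟨⟨⟨y, hy⟩, ⟨a, ha⟩⟩, e, -⟩ := hc.existsUnique g
    obtain ⟨i, rfl⟩ := (mem_powers_iff_mem_zpowers.2 hy)
    exact ⟨i, a, ha, e.symm⟩
  -- an element of `H` of the form `x ^ i * a` with `p ∤ i`
  obtain ⟨i, a, ha, hi, hxa⟩ : ∃ (i : ℕ) (a : G), a ∈ A ∧ ¬ p ∣ i ∧ x ^ i * a ∈ H := by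
    by_contra hcon
    push Not at hcon
    apply hH
    have key : ∀ g ∈ H, ∃ z ∈ center G, ∃ a ∈ A, g = z * a := by
      intro g hg
      obtain ⟨i, a, ha, rfl⟩ := hdec g
      by_cases hi : p ∣ i
      · obtain ⟨j, rfl⟩ := hi
        exact ⟨_, by rw [pow_mul]; exact pow_mem hz j, a, ha, rfl⟩
      · exact absurd hg (hcon i a ha hi)
    refine ⟨⟨fun u v => Subtype.ext ?_⟩⟩
    obtain ⟨z, hz1, a, ha, e1⟩ := key u u.2
    obtain ⟨w, hw1, b, hb, e2⟩ := key v v.2
    show (u : G) * v = v * u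
    rw [e1, e2]
    have c1 := mem_center_iff.1 hz1
    have c2 := mem_center_iff.1 hw1
    calc z * a * (w * b) = z * (a * w) * b := by group
      _ = z * w * (a * b) := by rw [c2 a]; group
      _ = w * z * (b * a) := by rw [c2 z, hAc a ha b hb]
      _ = w * (z * b) * a := by group
      _ = w * b * (z * a) := by rw [← c1 b]; group
  -- hence an element `x * c`
  obtain ⟨c, hcA, hxc⟩ : ∃ c ∈ A, x * c ∈ H := by
    have hcop : Nat.Coprime i (orderOf x) := by
      rw [hk]; exact ((Nat.Prime.coprime_iff_not_dvd hp).2 hi).symm.pow_right k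
    obtain ⟨j, hj⟩ := exists_pow_eq_self_of_coprime hcop
    refine ⟨x⁻¹ * (x ^ i * a) ^ j, ?_, by simpa using H.pow_mem hxa j⟩
    rw [← QuotientGroup.eq, QuotientGroup.mk_pow, QuotientGroup.mk_mul,
      (QuotientGroup.eq_one_iff a).2 ha, mul_one, ← QuotientGroup.mk_pow, hj]
  refine le_antisymm (fun g hg => ?_) le_normalizer
  -- `g = h * b` with `h ∈ H`, `b ∈ A`
  obtain ⟨h0, hh0, b, hb, rfl⟩ : ∃ h0 ∈ H, ∃ b ∈ A, g = h0 * b := by
    obtain ⟨j, d, hd, rfl⟩ := hdec g
    refine ⟨(x * c) ^ j, H.pow_mem hxc j, ((x * c) ^ j)⁻¹ * (x ^ j * d), ?_, by group⟩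
    rw [← QuotientGroup.eq, QuotientGroup.mk_pow, QuotientGroup.mk_mul, QuotientGroup.mk_mul,
      (QuotientGroup.eq_one_iff c).2 hcA, (QuotientGroup.eq_one_iff d).2 hd, mul_one, mul_one,
      QuotientGroup.mk_pow]
  refine H.mul_mem hh0 ?_
  have hbN : b ∈ normalizer (H : Set G) := by
    have := mul_mem (inv_mem (le_normalizer hh0)) hg
    simpa using this
  -- the map `φ y = y * (x c) y⁻¹ (x c)⁻¹`
  set t := x * c with ht
  have hφ : ∀ y ∈ A, t * y * t⁻¹ = x * y * x⁻¹ := by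
    intro y hy
    rw [ht, mul_inv_rev, mul_assoc x c y, hAc c hcA y hy]; group
  have hinj : ∀ y ∈ A, ∀ y' ∈ A, y * (t * y⁻¹ * t⁻¹) = y' * (t * y'⁻¹ * t⁻¹) → y = y' := by
    intro y hy y' hy' e
    by_contra hne
    refine hf (y'⁻¹ * y) (A.mul_mem (A.inv_mem hy') hy) (fun e' => hne (inv_mul_eq_one.1 e').symm) ?_
    rw [← hφ _ (A.mul_mem (A.inv_mem hy') hy)]
    calc t * (y'⁻¹ * y) * t⁻¹ = y'⁻¹ * (y' * (t * y'⁻¹ * t⁻¹)) * (t * y * t⁻¹) := by group
      _ = y'⁻¹ * (y * (t * y⁻¹ * t⁻¹)) * (t * y * t⁻¹) := by rw [e]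
      _ = y'⁻¹ * y := by group
  let f : (A ⊓ H : Subgroup G) → (A ⊓ H : Subgroup G) := fun y =>
    ⟨y * (t * (y : G)⁻¹ * t⁻¹), A.mul_mem y.2.1 (hAn.conj_mem _ (A.inv_mem y.2.1) t),
      H.mul_mem y.2.2 (H.mul_mem (H.mul_mem hxc (H.inv_mem y.2.2)) (H.inv_mem hxc))⟩
  have hfi : Function.Injective f := fun y y' e =>
    Subtype.ext (hinj _ y.2.1 _ y'.2.1 (congrArg Subtype.val e))
  have hmem : b * (t * b⁻¹ * t⁻¹) ∈ A ⊓ H := by
    refine ⟨A.mul_mem hb (hAn.conj_mem _ (A.inv_mem hb) t), ?_⟩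
    have h1 : b * t * b⁻¹ ∈ H := (mem_normalizer_iff.1 hbN t).1 hxc
    have := H.mul_mem h1 (H.inv_mem hxc)
    have e : b * (t * b⁻¹ * t⁻¹) = b * t * b⁻¹ * t⁻¹ := by group
    rw [e]; exact this
  obtain ⟨y, hy⟩ := (Finite.injective_iff_surjective.1 hfi) ⟨_, hmem⟩
  rw [← hinj _ y.2.1 _ hb (congrArg Subtype.val hy)]
  exact y.2.2

/-- Let G be a finite solvable non-nilpotent group. Every non-abelian subgroup of G is self-normalizing if and only if G is a semidirect product ⟨x⟩ ⋉ A in which ⟨x⟩ is a p-group for some prime p, A is a normal abelian subgroup of order prime to p, x^p is central in G, and x acts fixed-point-freely on A (no non-identity element of A commutes with x). -/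
theorem result {G : Type*} [Group G] [Finite G]
    [Group.IsSolvable G] (hnn : ¬ Group.IsNilpotent G) :
    (∀ H : Subgroup G, ¬ IsMulCommutative H → Subgroup.normalizer (H : Set G) = H) ↔
    ∃ (x : G) (A : Subgroup G) (p : ℕ), p.Prime ∧ A.Normal ∧ IsMulCommutative A ∧ (∃ k : ℕ, orderOf x = p ^ k) ∧
      ¬ p ∣ Nat.card A ∧ (Subgroup.zpowers x).IsComplement' A ∧ x ^ p ∈ Subgroup.center G ∧
      ∀ a : G, a ∈ A → a ≠ 1 → x * a * x⁻¹ ≠ a := by
  refine ⟨fwd hnn, ?_⟩
  rintro ⟨x, A, p, hp, hAn, hA, ⟨k, hk⟩, -, hc, hz, hf⟩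
  exact bwd x A p hp hAn hA k hk hc hz hf

end Cfsg.Agent.S4071
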