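import Cfsg.Statements.S4073
import Cfsg.Agent.H8.SelfNormSL2

set_option autoImplicit false
open Cfsg

namespace Cfsg.Agent.S4073

/-- Let G be a finite non-abelian simple group. Every non-abelian subgroup of G is self-normalizing if and only if G is isomorphic to PSL₂(2ⁿ) for some n ≥ 2 with 2ⁿ − 1 prime (this includes the alternating group of degree 5 as PSL₂(4)). -/
theorem result {G : Type*} [Group G] [Finite G] [IsSimpleGroup G]
    (hna : ¬ IsMulCommutative G) :
    (∀ H : Subgroup G, ¬ IsMulCommutative H → Subgroup.normalizer (H : Set G) = H) ↔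
    ∃ n : ℕ, 2 ≤ n ∧ (2 ^ n - 1).Prime ∧ Nonempty (G ≃* Matrix.ProjectiveSpecialLinearGroup (Fin 2) (GaloisField 2 n)) := by
  constructor
  · intro h
    obtain ⟨K, _, _, _, h4, ⟨e⟩⟩ := (H8.SN.abC hna h).sl2_of_simple hna
    have h2 : (2 : K) = 0 := CharP.cast_eq_zero K 2
    obtain ⟨n, hn, hK⟩ := H8.exists_two_le_of_four_le h2 h4
    obtain ⟨e'⟩ := H8.nonempty_sl_equiv_psl_galois h2 (by omega) hK
    exact ⟨n, hn, hK ▸ H8.SN.prime_card_sub_one h2 h4
      (H8.SN.of_injective h e.symm.toMonoidHom e.symm.injective), ⟨e.trans e'⟩⟩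
  · rintro ⟨n, hn, hp, ⟨e⟩⟩
    have h2 : (2 : GaloisField 2 n) = 0 := CharP.cast_eq_zero _ 2
    obtain ⟨e'⟩ := H8.nonempty_sl_equiv_psl _ h2
    exact (H8.sn_of_prime h2 (by rwa [GaloisField.card 2 n (by omega)])).of_injective
      (e.trans e'.symm).toMonoidHom (e.trans e'.symm).injective

end Cfsg.Agent.S4073
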