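import Cfsg.Statements.S4079
import Cfsg.Agent.H80.Rank2
import Cfsg.Agent.H23.Regular
import Cfsg.Agent.S3884
import Cfsg.Agent.S0638
import Cfsg.Agent.S0662

set_option autoImplicit false
open Cfsg

namespace Cfsg.Agent.S4079

open Subgroup H80
open scoped commutatorElement

theorem reg1 {L : Type*} [Group L] [Finite L] {p : ℕ} [hp : Fact p.Prime] (hp2 : p ≠ 2)
    (hL : IsPGroup p L) (M : MC p L) : H23.Reg1 p L := by
  intro a b
  set w := ⁅b, a⁆ with hw
  have key : ∀ s : L, ∃ j : ℕ, s⁻¹ * w * s = w * (w ^ p) ^ j := by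
    intro s
    by_cases h1 : w = 1
    · exact ⟨0, by simp [h1]⟩
    obtain ⟨i, hi⟩ : w ∈ zpowers M.c := M.commutator_eq ▸ commutator_mem_commutator (mem_top _) (mem_top _)
    obtain ⟨k, hk⟩ : s⁻¹ * M.c * s ∈ zpowers M.c := by
      rw [← M.commutator_eq]
      exact Normal.conj_mem' inferInstance _ (M.commutator_eq ▸ mem_zpowers _) s
    have h2 : s⁻¹ * w * s ∈ zpowers w := by
      simp only at hi hk
      have h3 := conj_zpow (a := s⁻¹) (b := M.c) (i := i)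
      rw [inv_inv, ← hk, zpow_comm, hi] at h3
      exact ⟨k, h3⟩
    obtain ⟨r, hr⟩ := mem_powers_iff_mem_zpowers.2 h2
    obtain ⟨_, ⟨j, rfl⟩, rfl⟩ := exists_eq_one_add hL hr.symm h1
    exact ⟨j, by rw [← hr]; simp only [pow_add, pow_one, pow_mul]⟩
  have hn : (zpowers (w ^ p)).Normal := by
    refine ⟨?_⟩
    rintro _ ⟨i, rfl⟩ s
    obtain ⟨j, hj⟩ := key s⁻¹
    rw [inv_inv] at hj
    simp only
    rw [← conj_zpow, ← conj_pow, hj, ← pow_mul, ← pow_succ', ← pow_mul, mul_comm _ p, pow_mul]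
    exact zpow_mem (npow_mem_zpowers _ _) _
  let f := QuotientGroup.mk' (zpowers (w ^ p))
  have h1 : ∀ s, Commute (f s) ⁅f b, f a⁆ := fun s => by
    obtain ⟨j, hj⟩ := key s
    have h2 := congrArg f hj
    rw [map_mul f w, show f ((w ^ p) ^ j) = 1 from (QuotientGroup.eq_one_iff _).2 (npow_mem_zpowers _ j),
      mul_one, map_mul, map_mul, map_inv, mul_assoc, inv_mul_eq_iff_eq_mul] at h2
    rw [← map_commutatorElement]
    exact h2.symm
  have h2 := H3.mul_pow_of_odd_of_commute_commutator (h1 a) (h1 b) (hp.out.odd_of_ne_two hp2) (by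
    rw [← map_commutatorElement, ← map_pow]
    exact (QuotientGroup.eq_one_iff _).2 (mem_zpowers _))
  refine ⟨(a ^ p * b ^ p)⁻¹ * (a * b) ^ p, (?_ : zpowers (w ^ p) ≤ _)
    (QuotientGroup.eq.1 ?_), (mul_inv_cancel_left _ _).symm⟩
  · simpa using H23.pow_mem_powerClosure (p := p) (n := 1)
      (commutator_mem_commutator (H23.right_mem_gen2 a b) (H23.left_mem_gen2 a b))
  · change f _ = f _
    simp only [map_mul, map_pow, h2]

theorem facts {L : Type*} [Group L] [Finite L] {p : ℕ} [hp : Fact p.Prime]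
    (hp2 : p ≠ 2) (hL : IsPGroup p L) (hmc : IsMetacyclic L) :
    (∀ k, ∀ x y : L, x ^ p ^ k = 1 → y ^ p ^ k = 1 → (x * y) ^ p ^ k = 1) ∧
      ∀ x y : L, x ^ p ^ 2 = 1 → y ^ p ^ 2 = 1 → Commute (x ^ p) y := by
  obtain ⟨M⟩ := exists_MC hL hmc
  have h := reg1 hp2 hL M
  refine ⟨fun k x y hx hy => mul_mem (S := Subgroup L) ((h.mem_omegaK hL).2 hx) ((h.mem_omegaK hL).2 hy)
    |> (h.mem_omegaK hL).1, fun x y hx hy => ?_⟩
  obtain ⟨n, hn⟩ := M.exists_orderOf_c hL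
  obtain ⟨M', -⟩ := M.exists_sub hp2 hL hn (h.omegaK hL 2)
  obtain ⟨i, hi⟩ : ⁅(⟨x, (h.mem_omegaK hL).2 hx⟩ : h.omegaK hL 2), ⟨y, (h.mem_omegaK hL).2 hy⟩⁆ ∈
    zpowers M'.c := M'.commutator_eq ▸ commutator_mem_commutator (mem_top _) (mem_top _)
  have h1 : M'.c ^ p = 1 := by
    obtain ⟨j, hj⟩ := M'.dvd
    rw [MC.c, hj, ← pow_mul, mul_right_comm, ← sq, pow_mul,
      show M'.a ^ p ^ 2 = 1 from Subtype.ext ((h.mem_omegaK hL).1 M'.a.2), one_pow]
  have h2 := congrArg (fun g => ((g ^ p : h.omegaK hL 2) : L)) hi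
  simp only at h2
  rw [← zpow_natCast, zpow_comm, zpow_natCast, h1, one_zpow] at h2
  have h3 := (h.pow_comm_iff hL 1 x y).2 (by rw [pow_one]; exact h2.symm)
  rwa [pow_one] at h3

theorem exists_gens {L : Type*} [Group L] [Finite L] [Nontrivial L] {p : ℕ} [hp : Fact p.Prime]
    (hp2 : p ≠ 2) (hL : IsPGroup p L) (hmc : IsMetacyclic L) (hnc : ∀ C : Subgroup L, IsCyclic C → C.index ≠ p) :
    Nat.card (omegaOne p (⊤ : Subgroup L)) = p ^ 2 ∧ p ^ 4 ∣ Nat.card L ∧ ∃ u v : L, u ^ p ^ 2 = 1 ∧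
      v ^ p ^ 2 = 1 ∧ ∀ x : L, x ^ p = 1 → ∃ i j : ℤ, x = (u ^ p) ^ i * (v ^ p) ^ j := by
  have h0 : ¬ IsCyclic L := fun h => by
    obtain ⟨M, hM, -⟩ := (eq_top_or_exists_le_coatom (⊥ : Subgroup L)).resolve_left bot_ne_top
    exact hnc M inferInstance (H3.index_eq_of_isCoatom hL hM)
  obtain ⟨hA, hc⟩ := S0638.result hp2 hL hmc h0
  obtain ⟨A, B, hA1, hB1, hAB, hcard⟩ := S3884.result hp2 hL hmc
  have key : ∀ A B : Subgroup L, IsCyclic A → IsCyclic B → Nat.card A * Nat.card B = Nat.card L →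
      ∃ u ∈ B, orderOf u = p ^ 2 := by
    intro A B hA hB h
    obtain ⟨b, rfl⟩ := (Subgroup.isCyclic_iff_exists_zpowers_eq_top B).1 hB
    obtain ⟨k, hk⟩ := IsPGroup.iff_orderOf.1 hL b
    rw [← A.card_mul_index, Nat.mul_right_inj Nat.card_pos.ne', Nat.card_zpowers, hk] at h
    rcases k with _ | _ | k
    · rw [eq_comm, pow_zero, index_eq_one] at h
      exact absurd ((topEquiv (G := L)).isCyclic.1 (h ▸ hA)) h0
    · exact absurd (h.symm.trans (pow_one p)) (hnc A hA)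
    · refine ⟨b ^ p ^ k, npow_mem_zpowers b _, ?_⟩
      rw [orderOf_pow_of_dvd (pow_pos hp.out.pos k).ne' (hk ▸ pow_dvd_pow p (by omega)), hk,
        Nat.pow_div (by omega) hp.out.pos, show k + 1 + 1 - k = 2 by omega]
  obtain ⟨v, hv, hv2⟩ := key A B hA1 hB1 hcard
  obtain ⟨u, hu, hu2⟩ := key B A hB1 hA1 ((mul_comm _ _).trans hcard)
  have h1 : ∀ u : L, orderOf u = p ^ 2 → orderOf (u ^ p) = p ∧ u ^ p ∈ omegaOne p (⊤ : Subgroup L) :=
    fun u hu => by
      have h1 : orderOf (u ^ p) = p := by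
        rw [orderOf_pow_of_dvd hp.out.ne_zero (hu ▸ dvd_pow_self p two_ne_zero), hu, sq,
          Nat.mul_div_cancel _ hp.out.pos]
      exact ⟨h1, H21.mem_omegaOne (mem_top _) (orderOf_dvd_iff_pow_eq_one.1 h1.dvd)⟩
  refine ⟨hc, ?_, u, v, hu2 ▸ pow_orderOf_eq_one u, hv2 ▸ pow_orderOf_eq_one v, fun x hx => ?_⟩
  · rw [← hcard, show 4 = 2 + 2 from rfl, pow_add]
    exact mul_dvd_mul (hu2 ▸ orderOf_dvd_natCard A hu) (hv2 ▸ orderOf_dvd_natCard B hv)
  have hcomm : Commute (u ^ p) (v ^ p) :=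
    congrArg Subtype.val (hA.1.is_comm.comm ⟨_, (h1 u hu2).2⟩ ⟨_, (h1 v hv2).2⟩)
  let φ : Multiplicative ℤ × Multiplicative ℤ →* L := (zpowersHom L (u ^ p)).noncommCoprod
    (zpowersHom L (v ^ p)) fun i j => hcomm.zpow_zpow _ _
  have h2 := H4.mul_card_le_of_lt (H := zpowers (u ^ p)) (K := φ.range) (hL.to_subgroup _)
    (lt_of_le_of_ne (zpowers_le.2 ⟨(Multiplicative.ofAdd 1, 1), show (u ^ p) ^ (1 : ℤ) * (v ^ p) ^ (0 : ℤ) = _ by simp⟩) fun e => by
      have h2 : v ^ p ∈ A ⊓ B := ⟨zpowers_le.2 (pow_mem hu p)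
        (e.ge ⟨(1, Multiplicative.ofAdd 1), show (u ^ p) ^ (0 : ℤ) * (v ^ p) ^ (1 : ℤ) = _ by simp⟩), pow_mem hv p⟩
      have h3 := (h1 v hv2).1
      rw [hAB, mem_bot] at h2
      rw [h2, orderOf_one] at h3
      exact hp.out.ne_one h3.symm)
  rw [Nat.card_zpowers, (h1 u hu2).1, ← sq, ← hc] at h2
  have h3 := eq_of_le_of_card_ge (show φ.range ≤ _ by
    rintro _ ⟨⟨i, j⟩, rfl⟩
    exact mul_mem (zpow_mem (h1 u hu2).2 _) (zpow_mem (h1 v hv2).2 _)) h2
  obtain ⟨⟨i, j⟩, h4⟩ := h3.ge (H21.mem_omegaOne (mem_top x) hx)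
  exact ⟨i.toAdd, j.toAdd, h4.symm⟩

theorem core {G : Type*} [Group G] [Finite G] {p : ℕ} [hp : Fact p.Prime] (hp2 : p ≠ 2)
    (hG : IsPGroup p G) {A B : Subgroup G} [hAn : A.Normal] [hBn : B.Normal] (hA : Nat.card A = p ^ 2)
    (hle : A ≤ B) (hAB : ∀ b ∈ B, b ∈ A ↔ b ^ p = 1) (hB : ∀ b ∈ B, b ^ p ∈ A)
    (hc : ∀ a ∈ A, ∀ b ∈ B, Commute a b) {s d : G} (hd : d ∈ B) (hds : ¬ Commute (d ^ p) s)
    (hs : s ^ p = 1) : p = 3 ∧ Nat.card ↥(A ⊓ centralizer {s}) ≤ p ∧ ∀ c ∈ B, Commute c s → c ^ p = 1 := by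
  have hT : ∀ b ∈ B, T s b ∈ B := fun b hb => mul_mem (inv_mem hb) (hBn.conj_mem' b hb s)
  have hmul : ∀ x ∈ B, ∀ y ∈ B, (x * y) ^ p = x ^ p * y ^ p := fun x hx y hy =>
    congrArg Subtype.val (pcentral_mul_pow hp2 (hG.to_subgroup B) (fun a ha => mem_center_iff.2 fun b =>
      Subtype.ext (hc a ((hAB a a.2).2 (congrArg Subtype.val ha)) b b.2).symm) ⟨y, hy⟩
      (Subtype.ext ((hAB _ (pow_mem hy p)).1 (hB y hy))) ⟨x, hx⟩)
  have hTp : ∀ b ∈ B, T s b ^ p = T s (b ^ p) := fun b hb => by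
    have h1 : (s⁻¹ * b * s) ^ p = s⁻¹ * b ^ p * s := by
      simpa using (conj_pow (a := s⁻¹) (b := b) (i := p))
    rw [T, hmul _ (inv_mem hb) _ (hBn.conj_mem' b hb s), h1, inv_pow, T]
  have hZ : ∀ a ∈ A, T s a ∈ A ∧ T s a ∈ center G := fun a ha => by
    refine ⟨mul_mem (inv_mem ha) (hAn.conj_mem' a ha s), ?_⟩
    have := Subgroup.mem_upperCentralSeries_succ_iff.mp
      (H22.le_upperCentralSeries_of_normal hG 2 A hA (A.inv_mem ha)) s⁻¹
    rw [Subgroup.upperCentralSeries_one] at this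
    rwa [show T s a = ⁅a⁻¹, s⁻¹⁆ by simp [T, mul_assoc, commutatorElement_def]]
  have he := hT d hd
  have heZ := hTp d hd ▸ hZ _ (hB d hd)
  have he1 : T s d ^ p ≠ 1 := fun e => hds (T_eq_one.1 (hTp d hd ▸ e))
  have hf : T s (T s d) ∈ A := (hAB _ (hT _ he)).2 (by
    rw [hTp _ he, T_eq_one]
    exact (mem_center_iff.1 heZ.2 s).symm)
  have hg := hZ _ hf
  have h1 := conj_pow_formula (conj_eq_T s d) (conj_eq_T s _) (conj_eq_T s _)
    (by rw [mul_assoc, ← mem_center_iff.1 hg.2 s, inv_mul_cancel_left]) (hc _ hf _ he).symm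
    (mem_center_iff.1 hg.2 _) p
  rw [H4.pow_eq_one_of_dvd ((hAB _ (hle hf)).1 hf) (H4.prime_dvd_choose_two hp.out hp2), mul_one, hs,
    inv_one, one_mul, mul_one, mul_assoc, left_eq_mul] at h1
  have h2 : T s (T s (T s d)) ^ p.choose 3 ≠ 1 := fun e => he1 (by rwa [e, mul_one] at h1)
  have h3 : Nat.card ↥(A ⊓ centralizer {s}) ≤ p := by
    have h3 := H4.mul_card_le_of_lt (H := A ⊓ centralizer {s}) (hG.to_subgroup A)
      (lt_of_le_of_ne inf_le_left fun e => hds (mem_centralizer_singleton_iff.1 (e.ge (hB d hd)).2))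
    rw [hA, sq] at h3
    exact Nat.le_of_mul_le_mul_left h3 hp.out.pos
  refine ⟨?_, h3, fun c hcB hcs => ?_⟩
  · by_contra h3
    have := hp.out.two_le
    exact h2 (H4.pow_eq_one_of_dvd ((hAB _ (hle hg.1)).1 hg.1)
      (H4.prime_dvd_choose_three hp.out (by omega)))
  by_contra hc1
  have h4 : zpowers (c ^ p) = A ⊓ centralizer {s} := eq_of_le_of_card_ge (zpowers_le.2
    ⟨hB c hcB, mem_centralizer_singleton_iff.2 (hcs.pow_left p)⟩) (by
      rwa [Nat.card_zpowers, orderOf_eq_prime ((hAB _ (pow_mem hcB p)).1 (hB c hcB)) hc1])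
  obtain ⟨i, hi⟩ := mem_powers_iff_mem_zpowers.2 (h4.ge
    ⟨heZ.1, mem_centralizer_singleton_iff.2 (mem_center_iff.1 heZ.2 s).symm⟩)
  simp only at hi
  have h5 : T s d * (c ^ i)⁻¹ ∈ A := (hAB _ (mul_mem he (inv_mem (pow_mem hcB i)))).2 (by
    rw [hmul _ he _ (inv_mem (pow_mem hcB i)), ← hi, inv_pow, ← pow_mul, ← pow_mul, mul_comm,
      mul_inv_cancel])
  have h6 : T s (T s d) ∈ center G := by
    rw [← inv_mul_cancel_right (T s d) (c ^ i), T_mul, T_eq_one.2 (hcs.pow_left i), mul_one]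
    exact Normal.conj_mem' inferInstance _ (hZ _ h5).2 _
  exact h2 (by rw [T_eq_one.2 (mem_center_iff.1 h6 s).symm, one_pow])

theorem main {L G : Type*} [Group L] [Finite L] [Nontrivial L] [Group G] [Finite G] {p : ℕ}
    [hp : Fact p.Prime] (hp2 : p ≠ 2) (hL : IsPGroup p L) (hmc : IsMetacyclic L)
    (hnc : ∀ C : Subgroup L, IsCyclic C → C.index ≠ p) {m : ℕ} (hm : Nat.card L = p ^ m)
    (hG : Nat.card G = p ^ (m + 1)) (f : L →* G) (hf : Function.Injective f) {s : G} (hs : s ^ p = 1)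
    (hsf : s ∉ f.range) :
    (∃ x : L, orderOf x = p ∧ ¬ Commute (f x) s) ↔ (p = 3 ∧ Group.nilpotencyClass G = m) := by
  have hG' : IsPGroup p G := IsPGroup.of_card hG
  obtain ⟨h1, h2⟩ := facts hp2 hL hmc
  obtain ⟨h3, h4, u, v, hu, hv, h5⟩ := exists_gens hp2 hL hmc hnc
  rw [hm, Nat.pow_dvd_pow_iff_le_right hp.out.one_lt] at h4
  have hi : f.range.index = p := by
    have := f.range.card_mul_index
    rwa [← Nat.card_congr (MonoidHom.ofInjective hf).toEquiv, hm, hG, pow_succ,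
      Nat.mul_right_inj (pow_pos hp.out.pos m).ne'] at this
  have hn := H3.normal_of_index_eq hG' hi
  have hpow : ∀ (x : L) (k : ℕ), f x ^ k = 1 ↔ x ^ k = 1 := fun x k => by
    rw [← map_pow, map_eq_one_iff f hf]
  have h6 : ∀ k, ∀ x ∈ f.range, ∀ y ∈ f.range, x ^ p ^ k = 1 → y ^ p ^ k = 1 → (x * y) ^ p ^ k = 1 := by
    rintro k _ ⟨x, rfl⟩ _ ⟨y, rfl⟩
    rw [← map_mul, hpow, hpow, hpow]
    exact h1 k x y
  let A := H4.omegaOf f.range (p ^ 1) (h6 1)
  let B := H4.omegaOf f.range (p ^ 2) (h6 2)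
  have hAn : A.Normal := H4.omegaOf_normal _ _ _
  have hBn : B.Normal := H4.omegaOf_normal _ _ _
  have hA : ∀ g, g ∈ A ↔ g ∈ f.range ∧ g ^ p = 1 := fun g => by rw [H4.mem_omegaOf, pow_one]
  have hB : ∀ g, g ∈ B ↔ g ∈ f.range ∧ g ^ p ^ 2 = 1 := fun g => H4.mem_omegaOf
  have hAc : Nat.card A = p ^ 2 := by
    rw [← h3, ← card_map_of_injective hf]
    congr 2
    refine le_antisymm (fun g hg => ?_) (map_le_iff_le_comap.2 ((closure_le _).2 fun x hx =>
      (hA _).2 ⟨⟨x, rfl⟩, (hpow _ _).2 hx.2⟩))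
    obtain ⟨⟨x, rfl⟩, hx⟩ := (hA g).1 hg
    exact ⟨x, H21.mem_omegaOne (mem_top x) ((hpow _ _).1 hx), rfl⟩
  have hgen : ∀ g : G, Commute (f u ^ p) g → Commute (f v ^ p) g → ∀ a ∈ A, Commute a g := by
    intro g hgu hgv a ha
    obtain ⟨⟨x, rfl⟩, hx⟩ := (hA a).1 ha
    obtain ⟨i, j, rfl⟩ := h5 x ((hpow _ _).1 hx)
    simp only [map_mul, map_zpow, map_pow]
    exact (hgu.zpow_left i).mul_left (hgv.zpow_left j)
  constructor
  · rintro ⟨x, hx, hxs⟩
    obtain ⟨d, hd, hds⟩ : ∃ d ∈ B, ¬ Commute (d ^ p) s := by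
      by_contra h
      push Not at h
      exact hxs (hgen s (h _ ((hB _).2 ⟨⟨u, rfl⟩, (hpow _ _).2 hu⟩)) (h _ ((hB _).2 ⟨⟨v, rfl⟩, (hpow _ _).2 hv⟩))
        _ ((hA _).2 ⟨⟨x, rfl⟩, (hpow _ _).2 (orderOf_dvd_iff_pow_eq_one.1 hx.dvd)⟩))
    obtain ⟨h7, h8, h9⟩ := core hp2 hG' hAc
      (fun a ha => (hB a).2 ⟨((hA a).1 ha).1, by rw [sq, pow_mul, ((hA a).1 ha).2, one_pow]⟩)
      (fun b hb => by rw [hA, and_iff_right ((hB b).1 hb).1])
      (fun b hb => (hA _).2 ⟨pow_mem ((hB b).1 hb).1 p, by rw [← pow_mul, ← sq, ((hB b).1 hb).2]⟩)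
      (fun a ha b hb => by
        obtain ⟨⟨y, rfl⟩, hy⟩ := (hB b).1 hb
        refine hgen _ ?_ ?_ a ha <;> rw [← map_pow]
        exacts [(h2 u y hu ((hpow _ _).1 hy)).map f, (h2 v y hv ((hpow _ _).1 hy)).map f]) hd hds hs
    refine ⟨h7, H4.nilpotencyClass_eq_of_card_centralizer_le (m + 1) (by omega) G hG s ?_⟩
    rw [← H2.card_inf_mul_relIndex f.range, sq]
    refine Nat.mul_le_mul (le_trans (card_le_of_le fun c hc => mem_inf.2 ⟨(hA c).2 ⟨hc.1, ?_⟩, hc.2⟩) h8)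
      (Nat.le_of_dvd hp.out.pos ((relIndex_dvd_index_of_normal _ _).trans hi.dvd))
    obtain ⟨k, hk⟩ := IsPGroup.iff_orderOf.1 hG' c
    rw [← orderOf_dvd_iff_pow_eq_one, hk]
    rcases k with _ | _ | k
    · simp
    · simp
    have h10 := h9 (c ^ p ^ k) ((hB _).2 ⟨pow_mem hc.1 _, by
      rw [← pow_mul, ← pow_add, ← hk, pow_orderOf_eq_one]⟩)
      (mem_centralizer_singleton_iff.1 (pow_mem hc.2 _))
    rw [← pow_mul, ← pow_succ, ← orderOf_dvd_iff_pow_eq_one, hk,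
      Nat.pow_dvd_pow_iff_le_right hp.out.one_lt] at h10
    omega
  · rintro ⟨-, hcl⟩
    have key : ∀ (N K : Subgroup G) [N.Normal] [K.Normal] (k : ℕ), k ≤ 2 → Nat.card N = p ^ k →
        Nat.card K = p ^ k → N = K := by
      intro N K _ _ k hk hN hK
      have h7 : ∀ N : Subgroup G, Nat.card N = p ^ k → N.index = p ^ (m + 1 - k) := fun N hN => by
        have := N.card_mul_index
        rw [hN, hG, show m + 1 = k + (m + 1 - k) by omega, pow_add,
          Nat.mul_right_inj (pow_pos hp.out.pos k).ne'] at this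
        exact this
      have h8 := (S0662.result (m + 1) hG hcl (by omega)).1
      rw [h8 N _ (by omega) (h7 N hN), h8 K _ (by omega) (h7 K hK)]
    have hnA : ¬ IsCyclic A := H22.not_isCyclic_of_exponent (p := p) (by
      rw [hAc]; simpa using Nat.pow_lt_pow_right hp.out.one_lt one_lt_two) fun a ha => ((hA a).1 ha).2
    obtain ⟨M⟩ := exists_MC hL hmc
    have hc : ⁅f.range, f.range⁆ = zpowers (f M.c) := by
      rw [MonoidHom.range_eq_map, ← map_commutator, ← MonoidHom.map_zpowers, ← M.commutator_eq]; rfl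
    have hcp : M.c ^ p = 1 := by
      obtain ⟨k, hk⟩ := IsPGroup.iff_orderOf.1 hL M.c
      rw [← orderOf_dvd_iff_pow_eq_one, hk]
      rcases k with _ | _ | k
      · simp
      · simp
      obtain ⟨K, hK, hK1, hK2⟩ := H3.exists_normal_le_card_eq hG' ⁅f.range, f.range⁆ 2 (by
        rw [hc, Nat.card_zpowers, orderOf_injective f hf, hk]
        exact Nat.pow_le_pow_right hp.out.pos (by omega))
      rw [key K A 2 le_rfl hK2 hAc, hc] at hK1
      exact absurd (isCyclic_of_le hK1) hnA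
    have h7 : ∀ x y : L, Commute (x ^ p) y := fun x y => by
      obtain ⟨i, hi⟩ : ⁅x, y⁆ ∈ zpowers M.c :=
        M.commutator_eq ▸ commutator_mem_commutator (mem_top _) (mem_top _)
      have h8 := ((reg1 hp2 hL M).pow_comm_iff hL 1 x y).2 (by
        rw [pow_one, ← hi, ← zpow_natCast, zpow_comm, zpow_natCast, hcp, one_zpow])
      rwa [pow_one] at h8
    by_contra h
    push Not at h
    have h8 : A ≤ center G := fun a ha => by
      have h8 : f.range ⊔ zpowers s ≤ centralizer {a} := by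
        refine sup_le ?_ (zpowers_le.2 (mem_centralizer_singleton_iff.2 ?_))
        · rintro _ ⟨y, rfl⟩
          refine mem_centralizer_singleton_iff.2 (hgen _ ?_ ?_ a ha).symm <;> rw [← map_pow]
          exacts [(h7 u y).map f, (h7 v y).map f]
        · obtain ⟨⟨x, rfl⟩, hx⟩ := (hA a).1 ha
          by_cases hx1 : x = 1
          · simp [hx1]
          · exact (h x (orderOf_eq_prime ((hpow _ _).1 hx) hx1)).symm
      rw [H4.sup_zpowers_eq_top_of_index_prime (hi.symm ▸ hp.out) hsf] at h8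
      exact mem_center_iff.2 fun g => mem_centralizer_singleton_iff.1 (h8 (mem_top g))
    refine hnA (isCyclic_of_unique hp2 (hG'.to_subgroup A) fun x y hx hy => ?_)
    have h9 : ∀ x : A, (zpowers (x : G)).Normal := fun x => ⟨fun a ha g => by
      rwa [mem_center_iff.1 (zpowers_le.2 (h8 x.2) ha) g, mul_inv_cancel_right]⟩
    have := h9 x
    have := h9 y
    obtain ⟨i, hi⟩ : (y : G) ∈ zpowers (x : G) := key _ _ 1 one_le_two
      (by rw [Nat.card_zpowers, orderOf_coe, hy, pow_one])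
      (by rw [Nat.card_zpowers, orderOf_coe, hx, pow_one]) ▸ mem_zpowers _
    exact ⟨i, Subtype.ext hi⟩

/-- Let p be an odd prime and L a finite metacyclic p-group with no cyclic subgroup of index p, and let a be an automorphism of L of order p. Then a moves some element of order p of L if and only if p = 3 and the semidirect product L ⋊ ⟨a⟩ (of order 3·#L) has maximal class, i.e. nilpotency class m where #L = 3^m. -/
theorem result {L : Type*} [Group L] [Finite L] {p : ℕ} [Fact p.Prime]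
    (hp : p ≠ 2) (hL : IsPGroup p L) (hmc : Cfsg.IsMetacyclic L) (hnc : ∀ C : Subgroup L, IsCyclic C → C.index ≠ p)
    (a : MulAut L) (ha : orderOf a = p) (m : ℕ) (hm : Nat.card L = p ^ m) :
    (∃ x : L, orderOf x = p ∧ a x ≠ x) ↔
    (p = 3 ∧ Group.nilpotencyClass (SemidirectProduct L ↥(Subgroup.zpowers a) (Subgroup.zpowers a).subtype) = m) := by
  have hp' : p.Prime := Fact.out
  have : Nontrivial L := by
    by_contra h
    rw [not_nontrivial_iff_subsingleton] at h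
    rw [show a = 1 from MulEquiv.ext fun x => Subsingleton.elim _ _, orderOf_one] at ha
    exact hp'.ne_one ha.symm
  have : Finite (SemidirectProduct L ↥(Subgroup.zpowers a) (Subgroup.zpowers a).subtype) :=
    Finite.of_equiv _ SemidirectProduct.equivProd.symm
  rw [← main hp hL hmc hnc hm (by rw [SemidirectProduct.card, hm, Nat.card_zpowers, ha, pow_succ])
    SemidirectProduct.inl SemidirectProduct.inl_injective (s := SemidirectProduct.inr ⟨a, mem_zpowers a⟩)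
    (by rw [← map_pow, show (⟨a, mem_zpowers a⟩ : zpowers a) ^ p = 1 from
      Subtype.ext (orderOf_dvd_iff_pow_eq_one.1 ha.dvd), map_one]) (by
      rintro ⟨x, hx⟩
      have h1 : (1 : MulAut L) = a := congrArg (fun g => (SemidirectProduct.right g).1) hx
      rw [← h1, orderOf_one] at ha
      exact hp'.ne_one ha.symm)]
  refine exists_congr fun x => and_congr_right fun _ => not_congr ?_
  simp [Commute, SemiconjBy, SemidirectProduct.ext_iff, eq_comm]

end Cfsg.Agent.S4079
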