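import Cfsg.Statements.S4081
import Cfsg.Agent.H84.Orb3
import Cfsg.Agent.H84.NilMax
import Cfsg.Agent.S0041
import Cfsg.Agent.H21.ElemMod
import Cfsg.Agent.H5.Burnside
import Cfsg.Agent.H22.Core
import Cfsg.Agent.H2.MinNormal

set_option autoImplicit false
set_option linter.style.haveILetI false
open Cfsg

namespace Cfsg.Agent.S4081

open Subgroup Polynomial Cfsg.Agent.H21

variable {G : Type*} [Group G] [Finite G] {p q : ℕ}

theorem card_eq_three_iff {b c : G} (hb : orderOf b ≠ 1) (hc : orderOf c ≠ 1)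
    (hbc : orderOf b ≠ orderOf c) : Nat.card (MulAction.orbitRel.Quotient (MulAut G) G) = 3 ↔
      ∀ g : G, ∃ α : MulAut G, α g = 1 ∨ α g = b ∨ α g = c := by
  let f : Fin 3 → MulAction.orbitRel.Quotient (MulAut G) G := fun i => Quotient.mk'' (![1, b, c] i)
  have hrel : ∀ x y : G, (Quotient.mk'' x : MulAction.orbitRel.Quotient (MulAut G) G) =
      Quotient.mk'' y ↔ ∃ α : MulAut G, α y = x := fun x y => Quotient.eq''
  have hf : Function.Injective f := by
    intro i j h
    obtain ⟨α, hα⟩ := (hrel _ _).1 h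
    have := congrArg orderOf hα
    rw [MulEquiv.orderOf_eq] at this
    have h1 := hb.symm
    have h2 := hc.symm
    have h3 := hbc.symm
    fin_cases i <;> fin_cases j <;>
      first | rfl | (exfalso; simp only [Fin.reduceFinMk, Matrix.cons_val, orderOf_one] at this; contradiction)
  constructor
  · intro h g
    obtain ⟨i, hi⟩ := ((Nat.bijective_iff_injective_and_card f).2 ⟨hf, by simp [h]⟩).2
      (Quotient.mk'' g)
    obtain ⟨α, hα⟩ := (hrel _ _).1 hi
    refine ⟨α, ?_⟩
    fin_cases i <;> simp_all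
  · intro h
    rw [← Nat.card_congr (Equiv.ofBijective f ⟨hf, fun x => ?_⟩), Nat.card_fin]
    obtain ⟨g, rfl⟩ := Quotient.exists_rep x
    obtain ⟨α, h | h | h⟩ := h g
    exacts [⟨0, (hrel _ _).2 ⟨α, h⟩⟩, ⟨1, (hrel _ _).2 ⟨α, h⟩⟩, ⟨2, (hrel _ _).2 ⟨α, h⟩⟩]

omit [Finite G] in
theorem val_conj_pow {V : Subgroup G} (hV : IsElementaryAbelian p V) {x : G}
    (hx : x ∈ normalizer (V : Set G)) (k : ℕ) (v : EA V hV) :
    EA.val ((EA.conj hV x hx ^ k) v) = x ^ k * EA.val v * (x ^ k)⁻¹ := by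
  induction k with
  | zero => simp
  | succ k ih => rw [pow_succ', Module.End.mul_apply, EA.val_conj, ih, pow_succ']; group

theorem conj_facts [hp : Fact p.Prime] {V : Subgroup G} (hV : IsElementaryAbelian p V) {x : G}
    (hx : x ∈ normalizer (V : Set G)) (hxq : orderOf x = q)
    (hf : ∀ y : G, orderOf y = p → x * y * x⁻¹ ≠ y) :
    EA.conj hV x hx ^ q = 1 ∧ ∀ v, EA.conj hV x hx v = v → v = 0 := by
  refine ⟨LinearMap.ext fun v => EA.val_injective ?_, fun v hv => by_contra fun h => ?_⟩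
  · rw [val_conj_pow, ← hxq, pow_orderOf_eq_one]; simp
  · exact hf _ (orderOf_eq_prime (hV.2 _ (EA.val_mem v)) fun h1 => h (EA.val_eq_one.1 h1))
      (congrArg EA.val hv)

theorem forward [hp : Fact p.Prime] [hq : Fact q.Prime] (hpq : p ≠ q)
    (hord : ∀ g : G, orderOf g = 1 ∨ orderOf g = p ∨ orderOf g = q)
    (hconj : ∀ g h : G, orderOf g = orderOf h → ∃ α : MulAut G, α g = h)
    (hO : pCore p G ≠ ⊥) (hqG : q ∣ Nat.card G) {a b : ℕ} (hab : Nat.card G ∣ p ^ a * q ^ b) :
    ∃ n, 1 ≤ n ∧ Nat.card G = p ^ n * q ∧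
      (∀ P : Sylow p G, (P : Subgroup G).Normal ∧ Cfsg.IsElementaryAbelian p (P : Subgroup G)) ∧
      orderOf (p : ZMod q) = q - 1 ∧
      ∀ x y : G, orderOf x = q → orderOf y = p → x * y * x⁻¹ ≠ y := by
  set O := pCore p G with hOdef
  have hOp : IsPGroup p O := H22.isPGroup_pCore
  have hcop : p.Coprime q := (Nat.coprime_primes hp.out hq.out).2 hpq
  have hpord : ∀ R : Subgroup G, IsPGroup p R → ∀ y ∈ R, y ≠ 1 → orderOf y = p := by
    intro R hR y hy hy1
    obtain ⟨k, hk⟩ := IsPGroup.iff_orderOf.1 hR ⟨y, hy⟩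
    rw [← orderOf_coe] at hk
    rcases hord y with h | h | h
    · exact absurd (orderOf_eq_one_iff.1 h) hy1
    · exact h
    · exact absurd ((Nat.prime_dvd_prime_iff_eq hq.out hp.out).1
        (hq.out.dvd_of_dvd_pow (dvd_of_eq (h.symm.trans hk)))).symm hpq
  have hαO : ∀ α : MulAut G, ∀ y ∈ O, α y ∈ O := fun α y hy =>
    characteristic_iff_map_le.1 inferInstance α ⟨y, hy, rfl⟩
  haveI := hOp.isNilpotent
  obtain ⟨⟨z, hz⟩, hz1⟩ := ne_bot_iff_exists_ne_one.1 (H84.center_inf_ne_bot hO)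
  have hzp := hpord O hOp z hz.1 fun h => hz1 (Subtype.ext h)
  have hall : ∀ y, orderOf y = p → y ∈ O ∧ y ∈ centralizer (O : Set G) := fun y hy => by
    obtain ⟨α, rfl⟩ := hconj z y (hzp.trans hy.symm)
    refine ⟨hαO α z hz.1, fun w hw => ?_⟩
    simpa using congrArg α (hz.2 _ (hαO α⁻¹ w hw))
  have hV : IsElementaryAbelian p O := by
    refine ⟨⟨⟨fun u v => Subtype.ext ?_⟩⟩, fun u hu => ?_⟩
    · by_cases h : (v : G) = 1
      · simp [h]
      · exact (hall v (hpord O hOp v v.2 h)).2 u u.2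
    · by_cases h : u = 1
      · simp [h]
      · rw [← hpord O hOp u hu h, pow_orderOf_eq_one]
  have hPO : ∀ P : Sylow p G, (P : Subgroup G) = O := fun P =>
    le_antisymm (fun y hy => by
      by_cases h : y = 1
      · simp [h]
      · exact (hall y (hpord _ P.isPGroup' y hy h)).1) (H22.pCore_le_sylow P)
  have hf : ∀ x y : G, orderOf x = q → orderOf y = p → x * y * x⁻¹ ≠ y := by
    intro x y hx hy h
    have h1 := (show Commute x y from mul_inv_eq_iff_eq_mul.1 h).orderOf_mul_eq_mul_orderOf_of_coprime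
      (by rw [hx, hy]; exact hcop.symm)
    have := hp.out.two_le
    have := hq.out.two_le
    rcases hord (x * y) with h | h | h <;> rw [h1, hx, hy] at h <;> nlinarith
  have hq2 : ¬ q ^ 2 ∣ Nat.card G := by
    intro h
    obtain ⟨A, hA⟩ := Sylow.exists_subgroup_card_pow_prime q h
    haveI := hV.1
    have hAq : ∀ x ∈ A, x ≠ 1 → orderOf x = q := fun x hx h1 => by
      rcases hord x with h | h | h
      · exact absurd (orderOf_eq_one_iff.1 h) h1
      · exact absurd ((Nat.prime_dvd_prime_iff_eq hp.out hq.out).1 (hp.out.dvd_of_dvd_pow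
          (h ▸ hA ▸ A.orderOf_dvd_natCard hx))) hpq
      · exact h
    obtain ⟨x, hx⟩ := (S0041.result A O hO le_normalizer_of_normal (fun x hx h1 => eq_bot_iff.2
      fun y hy => by_contra fun h2 => hf x y (hAq x hx h1) (hpord O hOp y hy.1 h2)
        (mul_inv_eq_iff_eq_mul.2 (hy.2 x rfl))) (Or.inr ⟨q, q, hq.out, hq.out, by rw [hA, sq]⟩)).exists_ofOrder_eq_natCard
    rw [hA, ← orderOf_coe] at hx
    have := hq.out.two_le
    by_cases h1 : (x : G) = 1
    · rw [h1, orderOf_one] at hx; nlinarith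
    · rw [hAq x x.2 h1] at hx; nlinarith
  obtain ⟨u, v, hu, hv, huv⟩ := Nat.dvd_mul.1 hab
  obtain ⟨n, -, rfl⟩ := (Nat.dvd_prime_pow hp.out).1 hu
  obtain ⟨m, -, rfl⟩ := (Nat.dvd_prime_pow hq.out).1 hv
  obtain rfl : m = 1 := by
    rcases m with _ | _ | m
    · rw [← huv, pow_zero, mul_one] at hqG
      exact absurd ((Nat.prime_dvd_prime_iff_eq hq.out hp.out).1 (hq.out.dvd_of_dvd_pow hqG)).symm hpq
    · rfl
    · exact absurd (huv ▸ Dvd.dvd.mul_left (pow_dvd_pow q (by omega)) _) hq2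
  rw [pow_one] at huv
  refine ⟨n, ?_, huv.symm, fun P => hPO P ▸ ⟨inferInstance, hV⟩, ?_, hf⟩
  · rcases n with _ | n
    · have := orderOf_dvd_natCard z
      rw [hzp, ← huv, pow_zero, one_mul] at this
      exact absurd ((Nat.prime_dvd_prime_iff_eq hp.out hq.out).1 this) hpq
    · omega
  obtain ⟨x, hx⟩ := exists_prime_orderOf_dvd_card' q hqG
  have hxN : x ∈ normalizer (O : Set G) := le_normalizer_of_normal (mem_top x)
  obtain ⟨hT, hTf⟩ := conj_facts hV hxN hx fun y => hf x y hx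
  haveI : Nontrivial (EA O hV) := ⟨⟨EA.mk hV z hz.1, 0, fun h => hz1
    (Subtype.ext (show z = 1 from congrArg EA.val h))⟩⟩
  have htop : O ⊔ zpowers x = ⊤ := by
    obtain ⟨P⟩ : Nonempty (Sylow p G) := inferInstance
    rw [← card_eq_iff_eq_top]
    refine Nat.dvd_antisymm (card_subgroup_dvd_card _) (huv ▸ (hcop.pow_left n).mul_dvd_of_dvd_of_dvd ?_ ?_)
    · refine dvd_trans ?_ (card_dvd_of_le le_sup_left)
      rw [← hPO P, P.card_eq_multiplicity]
      exact pow_dvd_pow p ((hp.out.pow_dvd_iff_le_factorization Nat.card_pos.ne').1 ⟨q, huv.symm⟩)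
    · exact hx ▸ Nat.card_zpowers x ▸ card_dvd_of_le le_sup_right
  refine H84.orderOf_eq_of_conj hpq hT hTf (fun f y hy h0 => ?_) fun i hi hic => ?_
  · set T := EA.conj hV x hxN
    let N : EA O hV → Subgroup G := fun v => normalClosure {EA.val v}
    have hN : ∀ v, EA.val v ∈ N v := fun v => subset_normalClosure rfl
    have hmin : ∀ v w, v ≠ 0 → w ≠ 0 → EA.val w ∈ N v → N w = N v := by
      intro v w hv hw h
      have o : ∀ v : EA O hV, v ≠ 0 → orderOf (EA.val v) = p := fun v hv =>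
        hpord O hOp _ (EA.val_mem v) fun h => hv (EA.val_eq_one.1 h)
      obtain ⟨α, hα⟩ := hconj _ _ ((o v hv).trans (o w hw).symm)
      refine eq_of_le_of_card_ge (normalClosure_le_normal (by simpa using h)) (le_of_eq ?_)
      rw [← card_map_of_injective (f := α.toMonoidHom) α.injective,
        map_normalClosure _ _ α.surjective, Set.image_singleton]
      exact congrArg (fun t => Nat.card (normalClosure {t})) hα
    have hfN : ∀ v, EA.val (aeval T f v) ∈ N v := fun v =>
      aeval_apply_smul_mem_of_le_comap (q := EA.sub hV (N v)) (hN v) f T fun w hw =>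
        (normalClosure_normal).conj_mem _ hw x
    haveI : (EA.toSubgroup (LinearMap.ker (aeval T f))).Normal := by
      rw [← normalizer_eq_top_iff, eq_top_iff, ← htop]
      refine sup_le (fun o ho => centralizer_le_normalizer _ fun w hw => ?_) (zpowers_le.2
        (H4.mem_normalizer_of_conj_mem ?_))
      · exact congrArg Subtype.val (hV.1.1.1 ⟨w, EA.toSubgroup_le _ hw⟩ ⟨o, ho⟩)
      · rintro _ ⟨w, hw, rfl⟩
        refine ⟨T w, ?_, rfl⟩
        have : aeval T f * T = T * aeval T f := by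
          have := congrArg (aeval T) (mul_comm f X)
          simpa using this
        change aeval T f (T w) = 0
        rw [← Module.End.mul_apply, this, Module.End.mul_apply, LinearMap.mem_ker.1 hw, map_zero]
    ext z
    by_contra hz
    have hz0 : z ≠ 0 := fun h => hz (by simp [h])
    have hw : y + z ≠ 0 := fun h => hz (by
      rw [eq_neg_of_add_eq_zero_right h, map_neg, h0]; simp)
    have e1 := hmin _ _ hz0 hz (hfN z)
    have e2 := hmin _ _ hw hz (by simpa [h0] using hfN (y + z))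
    have e3 := hmin z y hz0 hy (by
      have := mul_mem (e1 ▸ e2 ▸ hN (y + z) : EA.val (y + z) ∈ N z) (inv_mem (hN z))
      rwa [EA.val_add, mul_inv_cancel_right] at this)
    exact hz (EA.val_mem_toSubgroup.1 (normalClosure_le_normal
      (N := EA.toSubgroup (LinearMap.ker (aeval T f)))
      (by simpa [EA.val_mem_toSubgroup] using h0) (e3 ▸ hN z : EA.val z ∈ N y)))
  · obtain ⟨α, hα⟩ := hconj x (x ^ i) (by rw [Nat.Coprime.orderOf_pow (by rw [hx]; exact hic.symm)])
    refine ⟨AddMonoidHom.toZModLinearMap p (AddMonoidHom.mk'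
      (fun v => EA.mk hV (α (EA.val v)) (hαO α _ (EA.val_mem v))) fun v w =>
        EA.val_injective (map_mul α _ _)), fun v => ⟨EA.mk hV (α⁻¹ (EA.val v))
          (hαO _ _ (EA.val_mem v)), EA.val_injective (α.apply_symm_apply _)⟩,
      LinearMap.ext fun v => EA.val_injective ?_⟩
    rw [Module.End.mul_apply, Module.End.mul_apply, val_conj_pow, ← hα]
    change α (x * EA.val v * x⁻¹) = α x * α (EA.val v) * (α x)⁻¹
    simp

theorem exists_aut [hq : Fact q.Prime] {V : Subgroup G} [V.Normal] (hV : IsElementaryAbelian p V)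
    {x : G} (hx : x ∈ normalizer (V : Set G)) (hxq : orderOf x = q)
    (hc : V.IsComplement' (zpowers x)) {i : ℕ} (hi : q.Coprime i) (e : EA V hV ≃+ EA V hV)
    (he : ∀ u, e (EA.conj hV x hx u) = (EA.conj hV x hx ^ i) (e u)) :
    ∃ α : MulAut G, α x = x ^ i ∧ ∀ v, α (EA.val v) = EA.val (e v) := by
  let fn : V ≃* V := MulEquiv.mk' (EA.equiv.symm.trans (e.toEquiv.trans EA.equiv)) fun a b =>
    congrArg EA.equiv (e.map_add _ _)
  have hcard : (Nat.card (zpowers x)).Coprime i := by rwa [Nat.card_zpowers, hxq]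
  let fg : zpowers x ≃* zpowers x := MulEquiv.mk' (powCoprime hcard) fun a b =>
    Commute.mul_pow (IsMulCommutative.is_comm.comm a b) i
  have hk : ∀ (k : ℕ) u, e ((EA.conj hV x hx ^ k) u) = (EA.conj hV x hx ^ (i * k)) (e u) := by
    intro k
    induction k with
    | zero => simp
    | succ k ih =>
      intro u
      rw [pow_succ', Module.End.mul_apply, he, ih, mul_add, mul_one, add_comm, pow_add,
        Module.End.mul_apply]
  let Φ := SemidirectProduct.mulEquivSubgroup hc
  let α : MulAut G := Φ.symm.trans ((SemidirectProduct.congr fn fg (by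
    rintro ⟨_, hg⟩
    obtain ⟨k, rfl⟩ := mem_powers_iff_mem_zpowers.2 hg
    ext ⟨v, hv⟩
    have h1 := congrArg EA.val (hk k (EA.mk hV v hv))
    rw [val_conj_pow, mul_comm i k, pow_mul] at h1
    refine Eq.trans (congrArg (fun t => EA.val (e t)) (EA.val_injective ?_)) h1
    rw [val_conj_pow]; rfl)).trans Φ)
  have hα : ∀ (v : V) (k : zpowers x), α (v * k) = fn v * k ^ i := fun v k => by
    have : Φ.symm (v * k) = ⟨v, k⟩ := Φ.symm_apply_eq.2 rfl
    change Φ (SemidirectProduct.congr fn fg _ (Φ.symm (v * k))) = _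
    rw [this]; rfl
  refine ⟨α, by simpa using hα 1 ⟨x, mem_zpowers x⟩, fun v => ?_⟩
  have := hα (EA.equiv v) 1
  simp only [OneMemClass.coe_one, mul_one, one_pow] at this
  exact this

theorem backward [hp : Fact p.Prime] [hq : Fact q.Prime] (hpq : p ≠ q) {n : ℕ} (hn : 1 ≤ n)
    (hG : Nat.card G = p ^ n * q)
    (hP : ∀ P : Sylow p G, (P : Subgroup G).Normal ∧ Cfsg.IsElementaryAbelian p (P : Subgroup G))
    (ho : orderOf (p : ZMod q) = q - 1)
    (hf : ∀ x y : G, orderOf x = q → orderOf y = p → x * y * x⁻¹ ≠ y) :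
    Nat.card (MulAction.orbitRel.Quotient (MulAut G) G) = 3 := by
  obtain ⟨P⟩ : Nonempty (Sylow p G) := inferInstance
  obtain ⟨hPn, hV⟩ := hP P
  have hcop : p.Coprime q := (Nat.coprime_primes hp.out hq.out).2 hpq
  obtain ⟨x, hx⟩ := exists_prime_orderOf_dvd_card' (G := G) q (hG ▸ dvd_mul_left _ _)
  obtain ⟨y, hy⟩ := exists_prime_orderOf_dvd_card' (G := G) p
    (hG ▸ Dvd.dvd.mul_right (dvd_pow_self p (by omega)) _)
  have hPc : Nat.card (P : Subgroup G) = p ^ n := by
    rw [P.card_eq_multiplicity, hG, Nat.factorization_mul (pow_pos hp.out.pos n).ne' hq.out.ne_zero,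
      hp.out.factorization_pow, hq.out.factorization]
    simp [hpq.symm]
  have hPi : (P : Subgroup G).index = q := by
    have := (P : Subgroup G).card_mul_index
    rw [hPc, hG] at this
    exact Nat.eq_of_mul_eq_mul_left (pow_pos hp.out.pos n) this
  have hc : (P : Subgroup G).IsComplement' (zpowers x) := isComplement'_of_coprime
    (by rw [hPc, Nat.card_zpowers, hx, hG])
    (by rw [hPc, Nat.card_zpowers, hx]; exact hcop.pow_left n)
  have hxN : x ∈ normalizer ((P : Subgroup G) : Set G) := le_normalizer_of_normal (mem_top x)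
  obtain ⟨hT, hTf⟩ := conj_facts hV hxN hx fun y => hf x y hx
  obtain ⟨h1, e, he⟩ := H84.exists_equivs_of_orderOf hpq hT hTf ho
  have hyP : y ∈ (P : Subgroup G) := by
    obtain ⟨Q, hQ⟩ := (IsPGroup.iff_card.2 ⟨1, by rw [Nat.card_zpowers, hy, pow_one]⟩ :
      IsPGroup p (zpowers y)).exists_le_sylow
    haveI := Sylow.unique_of_normal P hPn
    exact Subsingleton.elim Q P ▸ hQ (mem_zpowers y)
  rw [card_eq_three_iff (b := y) (c := x) (hy ▸ hp.out.ne_one) (hx ▸ hq.out.ne_one)
    (by rwa [hx, hy])]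
  intro g
  by_cases hg : g ∈ (P : Subgroup G)
  · by_cases hg1 : g = 1
    · exact ⟨1, Or.inl hg1⟩
    obtain ⟨e, h2, h3⟩ := h1 (EA.mk hV g hg) (EA.mk hV y hyP) (fun h => hg1 (congrArg EA.val h))
      (fun h => hp.out.ne_one (by rw [← hy, show y = 1 from congrArg EA.val h, orderOf_one]))
    obtain ⟨α, -, hα⟩ := exists_aut hV hxN hx hc (Nat.coprime_one_right q) e (by simpa using h3)
    exact ⟨α, Or.inr (Or.inl (by simpa [h2, EA.val_mk] using hα (EA.mk hV g hg)))⟩
  obtain ⟨α, hα, -⟩ := exists_aut hV hxN hx hc hcop.symm e he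
  have hgq : orderOf g = q := by
    have h2 : g ^ q ∈ (P : Subgroup G) := hPi ▸ pow_index_mem _ g
    have h3 : g ^ p ∉ (P : Subgroup G) := fun h => hg (by
      have := Nat.gcd_eq_gcd_ab p q
      rw [hcop.gcd_eq_one] at this
      rw [← zpow_one g, ← Nat.cast_one, this, zpow_add, zpow_mul, zpow_mul, zpow_natCast,
        zpow_natCast]
      exact mul_mem (zpow_mem h _) (zpow_mem h2 _))
    refine orderOf_eq_prime (by_contra fun h4 => hf (g ^ p) (g ^ q) (orderOf_eq_prime ?_
      fun h => h3 (h ▸ one_mem _)) (orderOf_eq_prime (hV.2 _ h2) h4) (by group))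
      fun h => hg (h ▸ one_mem _)
    rw [← pow_mul, mul_comm, pow_mul, hV.2 _ h2]
  have hS : ∀ z : G, orderOf z = q → Nat.card (zpowers z) = q ^ (Nat.card G).factorization q :=
    fun z hz => by
      rw [Nat.card_zpowers, hz, hG, Nat.factorization_mul (pow_pos hp.out.pos n).ne' hq.out.ne_zero,
        hp.out.factorization_pow, hq.out.factorization]
      simp [hpq]
  obtain ⟨c, hc⟩ := MulAction.exists_smul_eq G (Sylow.ofCard _ (hS g hgq)) (Sylow.ofCard _ (hS x hx))
  have h2 : c * g * c⁻¹ ∈ zpowers x := by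
    have : c * g * c⁻¹ ∈ c • Sylow.ofCard _ (hS g hgq) := ⟨g, mem_zpowers g, rfl⟩
    rwa [hc] at this
  obtain ⟨i, hi⟩ := mem_powers_iff_mem_zpowers.2 h2
  have hi' : x ^ i = c * g * c⁻¹ := hi
  have hi0 : (i : ZMod q) ≠ 0 := fun h => hg (by
    rw [ZMod.natCast_eq_zero_iff, ← hx, orderOf_dvd_iff_pow_eq_one, hi', conj_eq_one_iff] at h
    exact h ▸ one_mem _)
  haveI : NeZero (q - 1) := ⟨by have := hq.out.two_le; omega⟩
  obtain ⟨j, -, hj⟩ := (ho ▸ IsPrimitiveRoot.orderOf (p : ZMod q)).eq_pow_of_pow_eq_one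
    (ZMod.pow_card_sub_one_eq_one hi0)
  have h3 : ∀ j : ℕ, (α ^ j) x = x ^ p ^ j := fun j => by
    induction j with
    | zero => simp
    | succ j ih => rw [pow_succ', MulAut.mul_apply, ih, map_pow, hα, ← pow_mul, pow_succ']
  refine ⟨(α ^ j)⁻¹ * MulAut.conj c, Or.inr (Or.inr ?_)⟩
  rw [MulAut.mul_apply, MulAut.conj_apply, ← hi', MulAut.inv_apply, MulEquiv.symm_apply_eq, h3,
    pow_eq_pow_iff_modEq, hx, ← ZMod.natCast_eq_natCast_iff, ← hj, Nat.cast_pow]

/-- Let G be a finite group whose order is not a prime power. Then the automorphism group of G has exactly three orbits on G if and only if there are distinct primes p, q with #G = pⁿ·q (n ≥ 1) such that G has a normal elementary abelian Sylow p-subgroup P, p is a primitive root modulo q (the multiplicative order of p mod q is q − 1), and every element of order q of G acts on P without non-identity fixed points. -/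
theorem result {G : Type*} [Group G] [Finite G] (hnpp : ¬ IsPrimePow (Nat.card G)) (hnt : Nat.card G ≠ 1) :
    Nat.card (MulAction.orbitRel.Quotient (MulAut G) G) = 3 ↔
    ∃ (p q n : ℕ) (_ : Fact p.Prime) (_ : Fact q.Prime), p ≠ q ∧ 1 ≤ n ∧ Nat.card G = p ^ n * q ∧
      (∀ P : Sylow p G, (P : Subgroup G).Normal ∧ Cfsg.IsElementaryAbelian p (P : Subgroup G)) ∧
      orderOf (p : ZMod q) = q - 1 ∧
      ∀ x y : G, orderOf x = q → orderOf y = p → x * y * x⁻¹ ≠ y := by
  refine ⟨fun h => ?_, fun ⟨p, q, n, _, _, h1, h2, h3, h4, h5, h6⟩ => backward h1 h2 h3 h4 h5 h6⟩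
  obtain ⟨p, hp, hpG⟩ := Nat.exists_prime_and_dvd hnt
  obtain ⟨q, ⟨hq, hqG⟩, hqp⟩ : ∃ q, (q.Prime ∧ q ∣ Nat.card G) ∧ q ≠ p := by
    by_contra! h1
    exact hnpp (isPrimePow_iff_unique_prime_dvd.2 ⟨p, ⟨hp, hpG⟩, h1⟩)
  haveI := Fact.mk hp
  haveI := Fact.mk hq
  obtain ⟨b, hb⟩ := exists_prime_orderOf_dvd_card' p hpG
  obtain ⟨c, hc⟩ := exists_prime_orderOf_dvd_card' q hqG
  rw [card_eq_three_iff (b := b) (c := c) (hb ▸ hp.ne_one) (hc ▸ hq.ne_one)
    (by rw [hb, hc]; exact hqp.symm)] at h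
  have hord : ∀ g : G, orderOf g = 1 ∨ orderOf g = p ∨ orderOf g = q := fun g => by
    obtain ⟨α, h⟩ := h g
    rw [← α.orderOf_eq]
    rcases h with h | h | h <;> simp [h, hb, hc]
  have hconj : ∀ g k : G, orderOf g = orderOf k → ∃ α : MulAut G, α g = k := fun g k e => by
    obtain ⟨α, h1⟩ := h g
    obtain ⟨β, h2⟩ := h k
    refine ⟨β⁻¹ * α, β.symm_apply_eq.2 ?_⟩
    rw [← α.orderOf_eq g, ← β.orderOf_eq k] at e
    change α g = β k
    have := hp.ne_one
    have := hq.ne_one
    rcases h1 with h1 | h1 | h1 <;> rcases h2 with h2 | h2 | h2 <;> rw [h1, h2] at e ⊢ <;>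
      simp only [hb, hc, orderOf_one] at e <;> omega
  have hab : Nat.card G ∣ p ^ Nat.card G * q ^ Nat.card G := by
    rw [← mul_pow]
    refine (Nat.dvd_pow_self_iff Nat.card_pos.ne' (mul_pos hp.pos hq.pos).ne').2 fun r hr => ?_
    have hr' := Nat.prime_of_mem_primeFactors hr
    haveI := Fact.mk hr'
    obtain ⟨x, hx⟩ := exists_prime_orderOf_dvd_card' r (Nat.dvd_of_mem_primeFactors hr)
    refine Nat.mem_primeFactors.2 ⟨hr', ?_, (mul_pos hp.pos hq.pos).ne'⟩
    rcases hord x with h | h | h <;> rw [← hx, h] <;> simp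
  haveI := H5.isSolvable_of_card_dvd_prime_pow_mul hp hq hab
  haveI : Nontrivial G := Finite.one_lt_card_iff_nontrivial.1
    (lt_of_le_of_ne Nat.card_pos (Ne.symm hnt))
  obtain ⟨M, r, hr, hMn, hM, -, hMr, -⟩ := H2.exists_minimal_normal_of_solvable (G := G)
  haveI := Fact.mk hr
  have hO : pCore r G ≠ ⊥ := fun h => hM (eq_bot_iff.2 (h ▸ H22.le_pCore hMn hMr))
  obtain ⟨x, hx⟩ := exists_prime_orderOf_dvd_card' (G := G) r (by
    obtain ⟨k, hk⟩ := IsPGroup.iff_card.1 hMr
    refine dvd_trans (hk ▸ dvd_pow_self r ?_) (Subgroup.card_subgroup_dvd_card M)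
    rintro rfl
    exact hM (Subgroup.eq_bot_of_card_eq _ hk))
  rcases hord x with h | h | h <;> rw [hx] at h
  · exact absurd h hr.ne_one
  · subst h
    obtain ⟨n, h⟩ := forward hqp.symm hord hconj hO hqG hab
    exact ⟨r, q, n, inferInstance, inferInstance, hqp.symm, h⟩
  · subst h
    obtain ⟨n, h⟩ := forward hqp (fun g => (hord g).imp id Or.symm) hconj hO hpG
      (by rwa [mul_comm])
    exact ⟨r, p, n, inferInstance, inferInstance, hqp, h⟩

end Cfsg.Agent.S4081
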