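import Cfsg.Statements.S4087
import Cfsg.Agent.H52.EppoTop
import Cfsg.Agent.H44.Cores
import Cfsg.Agent.H9.SLBasic
import Cfsg.Agent.S0243
import Cfsg.Agent.S1163
import Cfsg.Agent.S2497
import Cfsg.Agent.S3992
-- import your own Cfsg.Agent.* helpers here

set_option autoImplicit false
open Cfsg

namespace Cfsg.Agent.S4087

/-- Let G be a finite group in which every non-identity element has prime-power order (its prime graph has no edges). Then the order of G has at most four distinct prime divisors; and if it has exactly four, then either G is isomorphic to PSL(3,4), or G has a normal 2-subgroup N with G/N isomorphic to the Suzuki group over the field with 8 or with 32 elements. -/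
theorem result {G : Type*} [Group G] [Finite G] (h : ∀ g : G, g ≠ 1 → IsPrimePow (orderOf g)) :
    (Nat.card G).primeFactors.card ≤ 4 ∧
    ((Nat.card G).primeFactors.card = 4 →
      (∃ (F : Type) (_ : Field F) (_ : Fintype F), Fintype.card F = 4 ∧
        Nonempty (G ≃* Matrix.ProjectiveSpecialLinearGroup (Fin 3) F)) ∨
      (∃ (N : Subgroup G) (_ : N.Normal), IsPGroup 2 ↥N ∧
        ∃ (F : Type) (_ : Field F) (_ : Fintype F),
          (Fintype.card F = 8 ∧ Nonempty (G ⧸ N ≃* ↥(Cfsg.Lie.Sz F 4))) ∨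
          (Fintype.card F = 32 ∧ Nonempty (G ⧸ N ≃* ↥(Cfsg.Lie.Sz F 8))))) := by
  have hE := H81.eppo_of_isPrimePow h
  by_cases hs : Group.IsSolvable G
  · have h2 : (Nat.card G).primeFactors.card ≤ 2 := by
      by_contra hc
      obtain ⟨p, q, r, hp, hq, hr, hpq, hpr, hqr⟩ := Finset.two_lt_card_iff.1 (not_le.1 hc)
      rw [Nat.mem_primeFactors] at hp hq hr
      exact hE.not_three_primes hs hp.1 hq.1 hr.1 hpq hpr hqr hp.2.1 hq.2.1 hr.2.1
    exact ⟨by omega, fun e => by omega⟩
  set R := H44.solRad G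
  have : R.Characteristic := H44.solRad_characteristic
  obtain ⟨⟨p, hp, hRp⟩, ⟨M, hMn, hMs, hMc, hmin⟩, -⟩ := Cfsg.Agent.S3992.result hs h R
    H44.solRad_isSolvable (fun N hN hNs => H44.le_solRad hN hNs)
  have hQ : H81.Eppo (G ⧸ R) := hE.of_surjective _ (QuotientGroup.mk'_surjective R)
  have hM : ∀ g : M, g ≠ 1 → IsPrimePow (orderOf g) := by
    intro g hg
    obtain ⟨q, hq, h1⟩ := Nat.exists_prime_and_dvd (mt orderOf_eq_one_iff.1 hg)
    rw [isPrimePow_iff_unique_prime_dvd]
    exact ⟨q, ⟨hq, h1⟩, fun r hr => (hQ.subgroup M) g r q hr.1 hq hr.2 h1⟩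
  have hnil : ¬ Group.IsNilpotent M := fun hn =>
    hMc ⟨⟨IsSimpleGroup.comm_iff_isSolvable.2 inferInstance⟩⟩
  have hR2 : 2 ∣ Nat.card M → IsPGroup 2 R := by
    intro h2
    by_cases hp2 : p = 2
    · exact hp2 ▸ hRp
    by_cases hR : R = ⊥
    · rw [hR]; exact IsPGroup.of_bot
    exfalso
    have := Fact.mk hp
    obtain ⟨t, ht⟩ := exists_prime_orderOf_dvd_card' (G := G) 2
      ((h2.trans M.card_subgroup_dvd_card).trans R.index_dvd_card)
    have ht1 : t ≠ 1 := by
      rintro rfl
      rw [orderOf_one] at ht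
      omega
    have hfix : R ⊓ Subgroup.centralizer {t} = ⊥ := hE.inf_centralizer_eq_bot hp hRp ht1 (by
      rw [ht]; exact fun hd => hp2 ((Nat.prime_dvd_prime_iff_eq hp Nat.prime_two).1 hd))
    have hinv := H71.inverts_of_fpf (O := R) (z := t) (by rw [← pow_two, ← ht, pow_orderOf_eq_one])
      (Subgroup.le_normalizer_of_normal (Subgroup.mem_top t)) (by rw [inf_comm, hfix])
    have hC : Subgroup.centralizer (R : Set G) ≤ R := by
      obtain ⟨b, hb⟩ := Subgroup.ne_bot_iff_exists_ne_one.1 hR
      obtain ⟨q, hq, h1⟩ := hE.exists_isPGroup_centralizer (b := (b : G))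
        fun e => hb (Subtype.ext e)
      have := Fact.mk hq
      exact H44.le_solRad inferInstance (H81.isSolvable_of_isPGroup
        (h1.to_le (Subgroup.centralizer_le (Set.singleton_subset_iff.2 b.2))))
    have hz : (t : G ⧸ R) ∈ Subgroup.center (G ⧸ R) := by
      refine Subgroup.mem_center_iff.2 fun x => ?_
      obtain ⟨g, rfl⟩ := QuotientGroup.mk_surjective x
      have h1 := (QuotientGroup.eq_one_iff _).2 (hC (H71.commutator_mem_centralizer_of_inverts hinv
        (Subgroup.le_normalizer_of_normal (Subgroup.mem_top g))))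
      simp only [QuotientGroup.mk_mul, QuotientGroup.mk_inv] at h1
      calc (g : G ⧸ R) * t = (g * t * (g : G ⧸ R)⁻¹ * (t : G ⧸ R)⁻¹) * (t * g) := by group
        _ = t * g := by rw [h1, one_mul]
    have hle := hmin (Subgroup.center _) inferInstance fun e => by
      rw [e, Subgroup.mem_bot, QuotientGroup.eq_one_iff] at hz
      have : t ∈ R ⊓ Subgroup.centralizer {t} :=
        ⟨hz, Subgroup.mem_centralizer_singleton_iff.2 rfl⟩
      rw [hfix] at this
      exact ht1 this
    exact hMc ⟨⟨fun a b => Subtype.ext (Subgroup.mem_center_iff.1 (hle b.2) a)⟩⟩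
  have hpf : 2 ∣ Nat.card M → (Nat.card G).primeFactors = (Nat.card M).primeFactors := by
    intro h2
    ext r
    simp only [Nat.mem_primeFactors, ne_eq, Nat.card_pos.ne', not_false_eq_true, and_true]
    refine and_congr_right fun hr => ⟨fun hd => ?_, fun hd =>
      (hd.trans M.card_subgroup_dvd_card).trans R.index_dvd_card⟩
    rw [← R.card_mul_index] at hd
    rcases (Nat.Prime.dvd_mul hr).1 hd with h1 | h1
    · obtain ⟨k, hk⟩ := IsPGroup.iff_card.1 (hR2 h2)
      rw [hk] at h1
      rw [(Nat.prime_dvd_prime_iff_eq hr Nat.prime_two).1 (hr.dvd_of_dvd_pow h1)]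
      exact h2
    · exact H52.eppo_dvd_card hQ M hnil hr h1
  have h3 : ∀ n : ℕ, Nat.card M = n → 2 ∣ n → n.primeFactors.card = 3 →
      (Nat.card G).primeFactors.card = 3 := fun n e h2 hc => by rw [hpf (e ▸ h2), e, hc]
  have h4 : ∀ n : ℕ, Nat.card M = n → 2 ∣ n → n.primeFactors.card = 4 →
      (Nat.card G).primeFactors.card = 4 := fun n e h2 hc => by rw [hpf (e ▸ h2), e, hc]
  have htop : ∀ {X : Type} [Group X], (M ≃* X) → M = ⊤ → Nonempty (G ⧸ R ≃* X) :=
    fun e ht => ⟨(Subgroup.topEquiv.symm.trans (MulEquiv.subgroupCongr ht.symm)).trans e⟩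
  rcases Cfsg.Agent.S2497.result hMc hM with ⟨⟨e⟩⟩ | ⟨F, _, _, hF, ⟨e⟩⟩ | ⟨F, _, _, hF, ⟨e⟩⟩ |
    ⟨F, _, _, ⟨hF, ⟨e⟩⟩ | ⟨hF, ⟨e⟩⟩⟩
  · have := h3 360 (by rw [Nat.card_congr e.toEquiv, nat_card_alternatingGroup]; simp; rfl)
      (by norm_num) (by simp [Nat.primeFactors, Nat.primeFactorsList_ofNat])
    exact ⟨by omega, fun e => by omega⟩
  · have hc := H9.gcd_mul_card_psl_two (F := F)
    rw [← Nat.card_congr e.toEquiv] at hc
    have : (Nat.card G).primeFactors.card = 3 := by
      simp only [Finset.mem_insert, Finset.mem_singleton] at hF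
      rcases hF with hF | hF | hF | hF <;> rw [hF] at hc <;> norm_num at hc
      · exact h3 60 hc (by norm_num) (by simp [Nat.primeFactors, Nat.primeFactorsList_ofNat])
      · exact h3 168 (by omega) (by norm_num)
          (by simp [Nat.primeFactors, Nat.primeFactorsList_ofNat])
      · exact h3 504 hc (by norm_num) (by simp [Nat.primeFactors, Nat.primeFactorsList_ofNat])
      · exact h3 2448 (by omega) (by norm_num)
          (by simp [Nat.primeFactors, Nat.primeFactorsList_ofNat])
    exact ⟨by omega, fun e => by omega⟩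
  · have hc := Cfsg.Agent.S0243.result hF 3 (by norm_num)
    rw [← Nat.card_congr e.toEquiv] at hc
    have hc' : Nat.card M = 20160 := by
      simp [Fin.prod_univ_three] at hc
      omega
    refine ⟨(h4 _ hc' (by norm_num)
      (by simp [Nat.primeFactors, Nat.primeFactorsList_ofNat])).le, fun _ => Or.inl ?_⟩
    have ht : M = ⊤ := H52.eppo_eq_top hQ M hMc (s := 7) (t := 5) (by norm_num) (by norm_num)
      (by rw [hc']; norm_num) (by rw [hc']; norm_num) (by decide +kernel) (by rw [hc']; norm_num)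
      (by rw [hc']; norm_num) (by norm_num) (by norm_num)
    have hR := hR2 (by rw [hc']; norm_num)
    obtain ⟨k, hk⟩ := IsPGroup.iff_card.1 hR
    have hb : R = ⊥ := H52.eppo_eq_bot_of_card hE R hR (k := k) (by
      rw [← R.card_mul_index, hk, Subgroup.index, ← Subgroup.card_top (G := G ⧸ R), ← ht, hc'])
    obtain ⟨e'⟩ := htop e ht
    exact ⟨F, _, _, hF, ⟨(QuotientGroup.quotientBot.symm.trans
      (QuotientGroup.quotientMulEquivOfEq hb.symm)).trans e'⟩⟩
  · have hc := (Cfsg.Agent.S1163.result (F := F) (m := 1) le_rfl hF).1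
    have hc' : Nat.card M = 29120 := by
      rw [Nat.card_congr e.toEquiv]
      exact hc
    refine ⟨(h4 _ hc' (by norm_num)
      (by simp [Nat.primeFactors, Nat.primeFactorsList_ofNat])).le, fun _ => Or.inr ?_⟩
    have ht : M = ⊤ := H52.eppo_eq_top hQ M hMc (s := 7) (t := 5) (by norm_num) (by norm_num)
      (by rw [hc']; norm_num) (by rw [hc']; norm_num) (by decide +kernel) (by rw [hc']; norm_num)
      (by rw [hc']; norm_num) (by norm_num) (by norm_num)
    exact ⟨R, inferInstance, hR2 (by rw [hc']; norm_num), F, _, _, Or.inl ⟨hF, htop e ht⟩⟩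
  · have hc := (Cfsg.Agent.S1163.result (F := F) (m := 2) (by norm_num) hF).1
    have hc' : Nat.card M = 32537600 := by
      rw [Nat.card_congr e.toEquiv]
      exact hc
    refine ⟨(h4 _ hc' (by norm_num)
      (by simp [Nat.primeFactors, Nat.primeFactorsList_ofNat])).le, fun _ => Or.inr ?_⟩
    have ht : M = ⊤ := H52.eppo_eq_top hQ M hMc (s := 31) (t := 41) (by norm_num) (by norm_num)
      (by rw [hc']; norm_num) (by rw [hc']; norm_num) (by decide +kernel) (by rw [hc']; norm_num)
      (by rw [hc']; norm_num) (by norm_num) (by norm_num)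
    exact ⟨R, inferInstance, hR2 (by rw [hc']; norm_num), F, _, _, Or.inr ⟨hF, htop e ht⟩⟩

end Cfsg.Agent.S4087
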