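import Cfsg.Statements.S4112
import Cfsg.Agent.H82.Coset
import Cfsg.Agent.H2.Basic
import Cfsg.Agent.S0049

set_option autoImplicit false
open Cfsg

namespace Cfsg.Agent.S4112

/-- Let G be a finite group and M ≤ N non-trivial proper normal subgroups such that for every g outside N the conjugacy class of g is a union of cosets of M (equivalently gm is conjugate to g for every m ∈ M). Then (1) and (2) below are equivalent, and they imply (3): (1) every g outside N acts fixed-point-freely on M, that is C_G(x) ≤ N for every x ∈ M, x ≠ 1; (2) the index of N in G is coprime to the order of M; (3) there is a subgroup H of G with HN = G and H ∩ M = 1. -/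
theorem result {G : Type*} [Group G] [Finite G] (N M : Subgroup G) [N.Normal] [M.Normal] (hMN : M ≤ N) (hM1 : M ≠ ⊥) (hN2 : N ≠ ⊤)
    (hcam : ∀ g : G, g ∉ N → ∀ m ∈ M, ∃ x : G, x * g * x⁻¹ = g * m) :
    ((∀ x ∈ M, x ≠ 1 → Subgroup.centralizer ({x} : Set G) ≤ N) ↔ N.index.Coprime (Nat.card M)) ∧
    ((∀ x ∈ M, x ≠ 1 → Subgroup.centralizer ({x} : Set G) ≤ N) → ∃ H : Subgroup G, H ⊔ N = ⊤ ∧ H ⊓ M = ⊥) := by
  have h12 : (∀ x ∈ M, x ≠ 1 → Subgroup.centralizer ({x} : Set G) ≤ N) →
      N.index.Coprime (Nat.card M) := by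
    intro h
    apply Nat.coprime_of_dvd
    intro p hp h1 h2
    have := Fact.mk hp
    obtain ⟨P⟩ := (inferInstance : Nonempty (Sylow p G))
    -- P ∩ M is a nontrivial normal subgroup of P
    have hPM : M.subgroupOf (P : Subgroup G) ≠ ⊥ := by
      intro hb
      have h3 : M.relIndex (P : Subgroup G) = Nat.card (P : Subgroup G) := by
        rw [Subgroup.relIndex, hb, Subgroup.index_bot]
      have h4 : M.relIndex (P : Subgroup G) ∣ M.index := Subgroup.relIndex_dvd_index_of_normal _ _
      have h5 : p * Nat.card (P : Subgroup G) ∣ Nat.card G := by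
        rw [← M.card_mul_index, ← h3]
        exact Nat.mul_dvd_mul h2 h4
      rw [← (P : Subgroup G).index_mul_card] at h5
      exact P.not_dvd_index (Nat.dvd_of_mul_dvd_mul_right Nat.card_pos h5)
    have hnil := P.isPGroup'.isNilpotent
    obtain ⟨x, hx, hx1⟩ : ∃ x : (P : Subgroup G), x ∈ M.subgroupOf (P : Subgroup G) ⊓
        Subgroup.center (P : Subgroup G) ∧ x ≠ 1 := by
      let _ : MulAction (P : Subgroup G) (M.subgroupOf (P : Subgroup G)) :=
        MulAction.compHom _ (MulAut.conjNormal (G := (P : Subgroup G))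
          (H := M.subgroupOf (P : Subgroup G)))
      have hd : p ∣ Nat.card (M.subgroupOf (P : Subgroup G)) :=
        ((P.isPGroup'.to_subgroup _).card_eq_or_dvd).resolve_left
          (fun h => hPM (Subgroup.card_eq_one.mp h))
      obtain ⟨b, hb, hb1⟩ := P.isPGroup'.exists_fixed_point_of_prime_dvd_card_of_fixed_point
        (M.subgroupOf (P : Subgroup G)) hd (a := 1) (fun g => map_one (MulAut.conjNormal g))
      refine ⟨b, ⟨b.2, ?_⟩, fun h => hb1 (Subtype.ext h.symm)⟩
      refine Subgroup.mem_center_iff.mpr fun g => ?_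
      have h6 : g * b * g⁻¹ = b := congrArg Subtype.val (hb g)
      exact mul_inv_eq_iff_eq_mul.mp h6
    have h7 := h x hx.1 (fun e => hx1 (Subtype.ext e))
    have h8 : (P : Subgroup G) ≤ N := by
      refine le_trans ?_ h7
      intro g hg
      rw [Subgroup.mem_centralizer_singleton_iff]
      exact congrArg Subtype.val (Subgroup.mem_center_iff.mp hx.2 ⟨g, hg⟩)
    exact P.not_dvd_index (h1.trans (Subgroup.index_dvd_of_le h8))
  refine ⟨⟨h12, ?_⟩, ?_⟩
  · intro hcop x hx hx1 g hg
    by_contra hgN
    obtain ⟨u, v, hu, hv, e, h1, h2⟩ := H82.exists_pi_parts (fun r => r ∣ N.index) g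
    have hvN : v ∈ N := H82.mem_of_coprime_index (Nat.coprime_of_dvd h2)
    have huN : u ∉ N := fun h => hgN (e ▸ N.mul_mem h hvN)
    have huc : Commute u x := by
      have : u ∈ Subgroup.centralizer ({x} : Set G) := (Subgroup.zpowers_le.mpr hg) hu
      exact Subgroup.mem_centralizer_singleton_iff.mp this
    obtain ⟨y, hy⟩ := hcam u huN x hx
    have h3 : orderOf (u * x) = orderOf u := by
      rw [← hy]; exact (MulAut.conj y).orderOf_eq u
    have h4 : (orderOf u).Coprime (orderOf x) := Nat.coprime_of_dvd fun r hr h5 h6 =>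
      hr.one_lt.ne' (Nat.eq_one_of_dvd_coprimes hcop (h1 r hr h5)
        (h6.trans (M.orderOf_dvd_natCard hx)))
    rw [huc.orderOf_mul_eq_mul_orderOf_of_coprime h4] at h3
    have h5 : orderOf x = 1 := by
      have := orderOf_pos u
      nlinarith [orderOf_pos x]
    exact hx1 (orderOf_eq_one_iff.mp h5)
  · intro h
    have hcop := h12 h
    obtain ⟨H, hH, hmin⟩ := (wellFounded_lt (α := Subgroup G)).has_min {H | H ⊔ N = ⊤}
      ⟨⊤, by simp⟩
    refine ⟨H, hH, ?_⟩
    have hfr : N.subgroupOf H ≤ frattini H := by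
      rw [frattini, Order.radical]
      refine le_iInf₂ fun K hK => ?_
      by_contra hle
      have h1 : K ⊔ N.subgroupOf H = ⊤ := hK.2 _ (left_lt_sup.mpr hle)
      have h2 : K.map H.subtype ⊔ N = ⊤ := by
        rw [eq_top_iff, ← show H ⊔ N = ⊤ from hH, sup_le_iff]
        refine ⟨?_, le_sup_right⟩
        have h3 := congrArg (Subgroup.map H.subtype) h1
        rw [Subgroup.map_sup, Subgroup.subgroupOf_map_subtype, ← MonoidHom.range_eq_map,
          Subgroup.range_subtype] at h3
        exact h3.ge.trans (sup_le_sup_left inf_le_left _)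
      apply hmin _ h2
      refine lt_of_le_of_ne (Subgroup.map_subtype_le K) fun e => hK.1 ?_
      apply Subgroup.map_injective H.subtype_injective
      rw [e, ← MonoidHom.range_eq_map, Subgroup.range_subtype]
    apply disjoint_iff.mp
    apply Subgroup.disjoint_of_coprime_natCard
    apply Nat.coprime_of_dvd
    intro p hp h1 h2
    have h3 := (S0049.result p hp h1).trans (Subgroup.index_dvd_of_le hfr)
    have h4 : N.relIndex H ∣ N.index := Subgroup.relIndex_dvd_index_of_normal _ _
    exact hp.one_lt.ne' (Nat.eq_one_of_dvd_coprimes hcop (h3.trans h4) h2)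

end Cfsg.Agent.S4112
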