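import Cfsg.Statements.S4113
import Cfsg.Agent.H49.Prod

set_option autoImplicit false
open Cfsg

namespace Cfsg.Agent.S4113

open Subgroup Cfsg.Agent.H49

/-- Let G be a finite group, M ≤ N non-trivial proper normal subgroups, and H a subgroup with HM = G and H ∩ M = 1. Then every element of G outside N acts fixed-point-freely on M (C_G(x) ≤ N for every x ∈ M, x ≠ 1) if and only if H ∩ gHg⁻¹ ≤ H ∩ N for every g outside H, with H proper and non-trivial and H ∩ N proper in H. -/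
theorem result {G : Type*} [Group G] [Finite G] (N M : Subgroup G) [N.Normal] [M.Normal] (hMN : M ≤ N) (hM1 : M ≠ ⊥) (hN2 : N ≠ ⊤)
    (H : Subgroup G) (hHM : H ⊔ M = ⊤) (hHM' : H ⊓ M = ⊥) :
    (∀ x ∈ M, x ≠ 1 → Subgroup.centralizer ({x} : Set G) ≤ N) ↔
      (H ≠ ⊥ ∧ H ≠ ⊤ ∧ H ⊓ N < H ∧ ∀ g : G, g ∉ H → H ⊓ H.map (MulAut.conj g).toMonoidHom ≤ N) := by
  have hMn : ∀ X : Subgroup G, X ≤ 𝒩(M) := fun X => le_normalizer_of_normal
  have dec : ∀ g : G, ∃ m ∈ M, ∃ h ∈ H, g = m * h := fun g =>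
    (mem_sup_of_norm_left (hMn H)).1 (by rw [sup_comm, hHM]; trivial)
  have one : ∀ y : G, y ∈ H → y ∈ M → y = 1 := fun y h1 h2 => by
    have : y ∈ H ⊓ M := ⟨h1, h2⟩
    rwa [hHM', mem_bot] at this
  constructor
  · intro hc
    refine ⟨?_, ?_, ?_, ?_⟩
    · rintro rfl
      rw [bot_sup_eq] at hHM
      exact hN2 (top_le_iff.1 (hHM ▸ hMN))
    · rintro rfl
      exact hM1 (by simpa using hHM')
    · refine lt_of_le_of_ne inf_le_left fun h => hN2 (top_le_iff.1 ?_)
      rw [← hHM]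
      exact sup_le (inf_eq_left.1 h) hMN
    · intro g hg y ⟨hy, hy'⟩
      obtain ⟨m, hm, h, hh, rfl⟩ := dec g
      have hm1 : m ≠ 1 := by
        rintro rfl
        exact hg (by simpa using hh)
      have h1 : m⁻¹ * y * m ∈ H := by
        have := mul_mem (mul_mem hh (mem_cj.1 hy')) (inv_mem hh)
        convert this using 1; group
      have h2 : y⁻¹ * (m⁻¹ * y * m) = 1 := by
        refine one _ (mul_mem (inv_mem hy) h1) ?_
        have := mul_mem (conj_mem_of_norm' (hMn H) hy (inv_mem hm)) hm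
        convert this using 1; group
      refine hc m hm hm1 (mem_cent1.2 ?_)
      calc y * m = m * y * (y⁻¹ * (m⁻¹ * y * m)) := by group
        _ = m * y := by rw [h2, mul_one]
  · rintro ⟨-, -, -, hc⟩ x hx hx1 y hy
    by_contra hyN
    obtain ⟨m, hm, h, hh, rfl⟩ := dec y
    have hhN : h ∉ N := fun h' => hyN (mul_mem (hMN hm) h')
    have fpf : ∀ z ∈ M, h * z = z * h → z = 1 := by
      intro z hz e
      by_contra hz1
      refine hhN (hc z (fun h' => hz1 (one z h' hz)) ⟨hh, mem_cj.2 ?_⟩)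
      rw [mul_assoc, e, inv_mul_cancel_left]; exact hh
    let f : M → M := fun z => ⟨z * (h * (z : G)⁻¹ * h⁻¹),
      mul_mem z.2 (conj_mem_of_norm (hMn H) hh (inv_mem z.2))⟩
    have finj : Function.Injective f := by
      intro a b hab
      have e : (a : G) * (h * (a : G)⁻¹ * h⁻¹) = b * (h * (b : G)⁻¹ * h⁻¹) := congrArg Subtype.val hab
      have := fpf ((b : G)⁻¹ * a) (mul_mem (inv_mem b.2) a.2) (by
        calc h * ((b : G)⁻¹ * a) = (b : G)⁻¹ * (b * (h * (b : G)⁻¹ * h⁻¹)) * h * a := by group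
          _ = (b : G)⁻¹ * a * h := by rw [← e]; group)
      exact Subtype.ext (inv_mul_eq_one.1 this).symm
    obtain ⟨z, hz⟩ := Finite.surjective_of_injective finj ⟨m, hm⟩
    have e : (z : G) * (h * (z : G)⁻¹ * h⁻¹) = m := congrArg Subtype.val hz
    have hy' := mem_cent1.1 hy
    have := fpf ((z : G)⁻¹ * x * z) (conj_mem_of_norm' (hMn M) z.2 hx) (by
      calc h * ((z : G)⁻¹ * x * z) = (z : G)⁻¹ * (z * (h * (z : G)⁻¹ * h⁻¹) * h * x) * z := by group
        _ = (z : G)⁻¹ * (x * (z * (h * (z : G)⁻¹ * h⁻¹) * h)) * z := by rw [e, hy']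
        _ = _ := by group)
    apply hx1
    calc x = z * ((z : G)⁻¹ * x * z) * (z : G)⁻¹ := by group
      _ = 1 := by rw [this]; group

end Cfsg.Agent.S4113
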