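import Cfsg.Statements.S4118
import Cfsg.Agent.H6.TIHall

set_option autoImplicit false
open Cfsg

namespace Cfsg.Agent.S4118

open Cfsg.Agent Cfsg.Agent.H49 Cfsg.Agent.H6 Subgroup

/-- Let G be a finite group and H a non-normal subgroup meeting each of its conjugates by elements outside N_G(H) trivially, with the order of H coprime to its index in N_G(H); let π be the set of primes dividing the order of H and suppose G is π-separable (it has a chain of normal subgroups from 1 to G each of whose factors has order divisible only by primes in π or coprime to the order of H). Let O be the largest normal subgroup of G of order coprime to the order of H. Then G = O·N_G(H), O·H is normal in G, and G is solvable if and only if O is solvable and H has no subgroup isomorphic to SL₂(5). -/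
theorem result {G : Type*} [Group G] [Finite G] (H : Subgroup G)
    (hTI : Cfsg.IsTISubset (H : Set G)) (hnn : ¬ H.Normal)
    (hHall : (Nat.card H).Coprime (H.subgroupOf (Subgroup.normalizer (H : Set G))).index)
    (hsep : ∃ (n : ℕ) (M : Fin (n + 1) → Subgroup G), M 0 = ⊥ ∧ M (Fin.last n) = ⊤ ∧ Monotone M ∧ (∀ i, (M i).Normal) ∧
      ∀ i : Fin n, (∀ q : ℕ, q.Prime → q ∣ (M i.castSucc).relIndex (M i.succ) → q ∣ Nat.card H) ∨
        ((M i.castSucc).relIndex (M i.succ)).Coprime (Nat.card H))
    (O : Subgroup G) (hO : O = sSup {K : Subgroup G | K.Normal ∧ (Nat.card K).Coprime (Nat.card H)}) :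
    O ⊔ Subgroup.normalizer (H : Set G) = ⊤ ∧ (O ⊔ H).Normal ∧
    (Group.IsSolvable G ↔ Group.IsSolvable O ∧
      ∀ K : Subgroup G, K ≤ H → ¬ Nonempty (K ≃* Matrix.SpecialLinearGroup (Fin 2) (ZMod 5))) := by
  have h0 : H ≠ ⊥ := fun e => hnn (e ▸ inferInstance)
  have hH := ti_hall hTI (IsHallOf.hall ⟨le_normalizer, hHall⟩)
  have hG := ti_sup_norm hTI h0 hH hsep
  rw [sSup_coprime_eq] at hO
  have hOn : ⊤ ≤ 𝒩(O) := hO ▸ le_norm_piCoreOf _ _
  have hG' : O ⊔ 𝒩(H) = ⊤ := hO ▸ hG
  have hf : H24.Fpf H := ti_fpf hTI hOn (hO ▸ piCoreOf_pi _ _) fun h =>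
    hnn (normal_iff_top_le_norm.2 (hG'.ge.trans (sup_le h le_rfl)))
  refine ⟨hG', normal_iff_top_le_norm.2 (hG'.ge.trans (sup_le (norm_of_le le_sup_left)
    (norm_sup (le_top.trans hOn) le_rfl))), fun hs => ⟨inferInstance, fun K _ ⟨e⟩ => ?_⟩,
    fun ⟨h1, h2⟩ => ti_solvable hH hf hG (hO ▸ h1) ?_⟩
  · exact H24.SL5.not_isSolvable (Group.isSolvable_of_surjective (f := e.toMonoidHom) e.surjective)
  · by_contra hs
    obtain ⟨φ, hφ, -⟩ := hf.exists_SL5 hs
    refine h2 (H.subtype.comp φ).range ?_
      ⟨(MonoidHom.ofInjective (f := H.subtype.comp φ) (H.subtype_injective.comp hφ)).symm⟩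
    rintro _ ⟨s, rfl⟩
    exact (φ s).2

end Cfsg.Agent.S4118
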