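import Cfsg.Statements.S4167
import Cfsg.Agent.S0205
import Cfsg.Agent.H83.ClassSize
import Cfsg.Agent.H19.Basic

set_option autoImplicit false
set_option linter.style.haveILetI false
open Cfsg

namespace Cfsg.Agent.S4167

open Subgroup Cfsg.Agent.H83

universe u

theorem aux (n : ℕ) : ∀ (G : Type u) [Group G] [Finite G], Nat.card G = n →
    (∀ x : G, ¬ 4 ∣ cs(x)) → Group.IsSolvable G := by
  classical
  induction n using Nat.strong_induction_on with
  | _ n ih =>
  intro G _ _ hn h
  by_cases hN : ∃ N : Subgroup G, N.Normal ∧ N ≠ ⊥ ∧ N ≠ ⊤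
  · obtain ⟨N, hN, h0, h1⟩ := hN
    haveI := ih _ (hn ▸ H19.card_lt_of_ne_top h1) N rfl fun x hx =>
      h x (hx.trans (cs_normal_dvd N x))
    haveI := ih _ (hn ▸ H19.card_quotient_lt h0) (G ⧸ N) rfl fun x hx => by
      obtain ⟨x, rfl⟩ := QuotientGroup.mk_surjective x
      exact h x (hx.trans (cs_quotient_dvd N x))
    exact Group.isSolvable_of_ker_le_range N.subtype (QuotientGroup.mk' N) (by simp)
  push Not at hN
  by_contra hns
  haveI : Fact (Nat.Prime 2) := ⟨Nat.prime_two⟩
  obtain ⟨t, ht⟩ := exists_prime_orderOf_dvd_card' (G := G) 2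
    (Nat.not_odd_iff_even.1 fun h => hns (S0205.result h)).two_dvd
  have ht2 : t ^ 2 = 1 := by rw [← ht, pow_orderOf_eq_one]
  have hC : centralizer ({t} : Set G) = ⊤ := by
    refine eq_top_of_forall_conj_mem fun x => ?_
    by_contra! hx
    set H := centralizer ({x} : Set G) with hH
    haveI := Fintype.ofFinite (G ⧸ H)
    let σ := MulAction.toPermHom G (G ⧸ H)
    have h1 : (σ t) ^ 2 = 1 := by rw [← map_pow, ht2, map_one]
    haveI : IsEmpty (Function.fixedPoints (σ t)) := ⟨by
      rintro ⟨y, hy⟩
      obtain ⟨g, rfl⟩ := QuotientGroup.mk_surjective y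
      have h2 : ((t * g : G) : G ⧸ H) = g := hy
      rw [QuotientGroup.eq, hH, mem_cent] at h2
      apply hx g
      rw [mem_cent]
      calc g * x * g⁻¹ * t = t * g * ((t * g)⁻¹ * g * x) * g⁻¹ * t := by group
        _ = _ := by rw [h2]; group⟩
    have h2 := Equiv.Perm.sign_of_pow_two_eq_one h1
    have h3 := Equiv.Perm.card_fixedPoints_modEq (f := ((σ t : G ⧸ H → G ⧸ H) : Function.End (G ⧸ H)))
      (p := 2) (n := 1) (congrArg DFunLike.coe h1)
    rw [Fintype.card_eq_zero (α := Function.fixedPoints _)] at h2 h3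
    have h4 := h x
    rw [index, Nat.card_eq_fintype_card] at h4
    have h5 : Odd ((Fintype.card (G ⧸ H) - 0) / 2) := by
      rw [Nat.odd_iff]
      unfold Nat.ModEq at h3
      change ¬ 4 ∣ Fintype.card (G ⧸ H) at h4
      omega
    rw [h5.neg_one_pow] at h2
    let f := Equiv.Perm.sign.comp σ
    by_cases h6 : f.ker = ⊥
    · exact hns (Group.isSolvable_of_isSolvable_injective ((MonoidHom.ker_eq_bot_iff f).1 h6))
    · have h7 : t ∈ f.ker := hN _ inferInstance h6 ▸ mem_top t
      rw [MonoidHom.mem_ker] at h7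
      have : Equiv.Perm.sign (σ t) = 1 := h7
      rw [h2] at this
      exact absurd this (by decide)
  have h1 : center G ≠ ⊥ := by
    intro h1
    have : t ∈ center G := cs_eq_one_iff.1 (by rw [hC, index_top])
    rw [h1, mem_bot] at this
    rw [this, orderOf_one] at ht
    omega
  exact hns (Group.isSolvable_of_comm fun a b =>
    mem_center_iff.1 (hN _ inferInstance h1 ▸ mem_top b) a)


/-- Let G be a finite group in which no conjugacy class has size divisible by 4. Then G is solvable. -/
theorem result {G : Type*} [Group G] [Finite G]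
    (h : ∀ x : G, ¬ 4 ∣ (Subgroup.centralizer ({x} : Set G)).index) : Group.IsSolvable G := by
  exact aux _ G rfl h

end Cfsg.Agent.S4167
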