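import Cfsg.Statements.S4130
import Cfsg.Agent.S4167
import Cfsg.Agent.H84.SqFree

set_option autoImplicit false
set_option linter.style.haveILetI false
open Cfsg

namespace Cfsg.Agent.S4130

/-- Let G be a finite group all of whose conjugacy class sizes are square-free. Then G is supersolvable, G/F(G) and the derived subgroup G′ are cyclic of square-free order (F(G) the Fitting subgroup, which is normal), F(G) has nilpotency class at most 2, and G is metabelian. -/
theorem result {G : Type*} [Group G] [Finite G]
    (h : ∀ x : G, Squarefree (Subgroup.centralizer ({x} : Set G)).index) :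
    Cfsg.IsSupersolvable G ∧ (Cfsg.fittingSubgroup G).Normal ∧
    (∀ _h : (Cfsg.fittingSubgroup G).Normal, IsCyclic (G ⧸ Cfsg.fittingSubgroup G) ∧ Squarefree (Cfsg.fittingSubgroup G).index) ∧
    IsCyclic (commutator G) ∧ Squarefree (Nat.card (commutator G)) ∧
    Subgroup.upperCentralSeries ↥(Cfsg.fittingSubgroup G) 2 = ⊤ ∧ commutator ↥(commutator G) = ⊥ := by
  haveI : Group.IsSolvable G := S4167.result fun x hx =>
    Nat.squarefree_iff_prime_squarefree.1 (h x) 2 Nat.prime_two hx
  have hc := H84.isCyclic_commutator_of_squarefree h
  have hs := H84.squarefree_card_commutator h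
  have hF := H84.fitting_eq_centralizer_commutator hc hs
  haveI := H44.fitting_characteristic (G := G)
  have hDF : commutator G ≤ Cfsg.fittingSubgroup G := H44.le_fitting inferInstance
    (H84.isNilpotent_commutator_aux _ G rfl h)
  have hi : Squarefree (Cfsg.fittingSubgroup G).index := by
    obtain ⟨u, hu⟩ := (Subgroup.isCyclic_iff_exists_zpowers_eq_top _).1 hc
    rw [hF, ← hu, Subgroup.zpowers_eq_closure, Subgroup.centralizer_closure]
    exact h u
  refine ⟨?_, inferInstance, fun _ => ⟨?_, hi⟩, hc, hs, ?_, ?_⟩
  · refine H19.isSupersolvable_of_quotient_cyclic (commutator G) ?_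
    haveI : IsMulCommutative (G ⧸ commutator G) :=
      Subgroup.Normal.quotient_commutative_iff_commutator_le.2 le_rfl
    open scoped IsMulCommutative in
    exact H19.isSupersolvable_of_isNilpotent
  · haveI : IsMulCommutative (G ⧸ Cfsg.fittingSubgroup G) :=
      Subgroup.Normal.quotient_commutative_iff_commutator_le.2 hDF
    haveI : IsZGroup (G ⧸ Cfsg.fittingSubgroup G) := IsZGroup.of_squarefree hi
    open scoped IsMulCommutative in
    infer_instance
  · refine eq_top_iff.2 fun x _ => Subgroup.mem_upperCentralSeries_succ_iff.2 fun y => ?_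
    rw [Subgroup.upperCentralSeries_one]
    refine Subgroup.mem_center_iff.2 fun z => Subtype.ext ?_
    exact ((hF.le z.2) _ (Subgroup.commutator_mem_commutator (Subgroup.mem_top (x : G))
      (Subgroup.mem_top (y : G)))).symm
  · exact (commutator_eq_bot_iff _).2 inferInstance

end Cfsg.Agent.S4130
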