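import Cfsg.Statements.S4133
import Cfsg.Agent.H81.AbHall
import Cfsg.Agent.H77.ONS

set_option autoImplicit false
open Cfsg

namespace Cfsg.Agent.S4133

open Subgroup Cfsg.Agent.H49 Cfsg.Agent.H81.AbHall

/-- Let G be a finite group all of whose Sylow subgroups are abelian, and let 2^a be the largest power of 2 dividing the size of any conjugacy class of G. If some element has a conjugacy class of size exactly 2^a, then G is solvable. -/
theorem result {G : Type*} [Group G] [Finite G]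
    (hA : ∀ (p : ℕ) [Fact p.Prime] (P : Sylow p G), IsMulCommutative (P : Subgroup G))
    (a : ℕ) (hmax : ∀ y : G, ¬ 2 ^ (a + 1) ∣ (Subgroup.centralizer ({y} : Set G)).index) (hx : ∃ x : G, (Subgroup.centralizer ({x} : Set G)).index = 2 ^ a) :
    Group.IsSolvable G := by
  by_contra hns
  obtain ⟨x, hx⟩ := hx
  have hA2 : H21.Ab2 G := H21.Ab2.of_sylow (default : Sylow 2 G) (hA 2 _)
  obtain ⟨K, -, ⟨hK, hKs⟩, hmin⟩ := Finite.exists_le_minimal
    (p := fun K : Subgroup G => K.Normal ∧ ¬ Group.IsSolvable K) (a := ⊤)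
    ⟨inferInstance, fun h => hns (solvable_of_surjective (f := (⊤ : Subgroup G).subtype)
      fun x => ⟨⟨x, trivial⟩, rfl⟩)⟩
  have le : ∀ N : Subgroup G, ∀ _ : N.Normal, Group.IsSolvable (G ⧸ N) → K ≤ N := fun N hN h => by
    refine (hmin ⟨inferInstance, fun h1 => hKs ?_⟩ (inf_le_left : K ⊓ N ≤ K)).trans inf_le_right
    exact solvable_of_ker_le_range (inclusion (inf_le_left : K ⊓ N ≤ K))
      ((QuotientGroup.mk' N).comp K.subtype) fun y hy =>
        ⟨⟨y, y.2, (QuotientGroup.eq_one_iff _).1 hy⟩, rfl⟩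
  have perf : K ≤ ⁅K, K⁆ := hmin ⟨inferInstance, fun h1 => hKs (solvable_of_quo h1 norm_der
    (solvable_of_abelian ((quo_abelian_iff norm_der).2 le_rfl)))⟩ der_le
  have cen : ∀ z ∈ K, z ∈ 𝒞(K) → z = 1 := fun z h1 h2 => by
    by_contra z1
    obtain ⟨p, n, hp, -, on⟩ := JR.X.exists_prime_pow z1
    haveI := Fact.mk hp
    have h3 : (⟨z ^ n, pow_mem h1 n⟩ : K) = 1 := by
      refine eq_one_of_center (p := p) (fun P => ?_)
        (mem_center_iff.2 fun g => Subtype.ext (pow_mem h2 n g g.2)) ?_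
        (IsPGroup.of_card (n := 1) (by rw [Nat.card_zpowers, ← orderOf_coe, on, pow_one]))
      · obtain ⟨Q, hQ⟩ := (P.2.map K.subtype).exists_le_sylow
        exact ⟨⟨fun a b => Subtype.ext (Subtype.ext (abelian_iff.1 (hA p Q)
          (hQ (mem_map_of_mem _ b.2)) _ (hQ (mem_map_of_mem _ a.2))))⟩⟩
      · have h3 : (commutator K).map K.subtype = ⁅K, K⁆ := by
          rw [_root_.commutator_def, map_commutator, ← MonoidHom.range_eq_map, range_subtype]
        obtain ⟨y, hy, e⟩ := h3.ge (perf (pow_mem h1 n))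
        rwa [show y = ⟨z ^ n, pow_mem h1 n⟩ from Subtype.ext e] at hy
    rw [show z ^ n = 1 from congrArg Subtype.val h3, orderOf_one] at on
    exact hp.one_lt.ne on
  have core := le _ inferInstance (solvable_quot_core hA2 (C := 𝒞[x])
    (hx ▸ isPiNat_singleton_pow Nat.prime_two a))
  have KC : K ≤ 𝒞[x] := core.trans (normalCore_le _)
  have nK : (⊤ : Subgroup G) ≤ 𝒩(K) := normal_iff_top_le_norm.1 hK
  obtain ⟨S, hS⟩ := exists_sylowOf 2 K
  obtain ⟨y, hy, ev⟩ : ∃ y ∈ K, 2 ∣ (𝒞[y]).relIndex K := by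
    by_contra hc
    push Not at hc
    have h1 : K ⊓ 𝒞(S) = K := by
      by_contra h
      obtain ⟨y, hy, h2⟩ := H77.exists_not_conj_mem inf_le_left h
      obtain ⟨Q, hQ⟩ := exists_sylowOf 2 (𝒞[y] ⊓ K)
      obtain ⟨g, hg, rfl⟩ := sylowOf_conj hS (hQ.of_index inf_le_right
        ((isPiNat_compl_singleton Nat.prime_two).2 (by rw [inf_relIndex_right]; exact hc y hy)))
      refine h2 g hg ⟨conj_mem_of_norm' le_normalizer hg hy, ?_⟩
      have := le_cent1_iff.1 (hQ.le.trans inf_le_left)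
      rwa [← cj_centralizer, mem_cj] at this
    have h2 : S = ⊥ := eq_bot_iff.2 fun z hz =>
      cen z (hS.le hz) (cent_symm (h1.ge.trans inf_le_right) hz)
    subst h2
    exact hKs (JR.solv_odd (JR.odd_iff_pi.2 hS.compl_of_eq_bot))
  refine hmax (x * y) ?_
  have e : 𝒞[x * y] = 𝒞[y] ⊓ 𝒞[x] := by
    refine le_antisymm (fun g hg => ?_) fun g hg => JR.mem_cent1_mul hg.2 hg.1
    have h1 := mem_cent1.1 hg
    have h2 : x⁻¹ * (g * x * g⁻¹) = y * (g * y * g⁻¹)⁻¹ := by
      calc x⁻¹ * (g * x * g⁻¹) = x⁻¹ * (g * (x * y)) * g⁻¹ * (g * y * g⁻¹)⁻¹ := by group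
        _ = _ := by rw [h1]; group
    have h3 := le_cent1_iff.1 KC
    have h4 := cen _ (mul_mem hy (inv_mem (conj_mem_of_norm nK (mem_top g) hy)))
      (h2 ▸ mul_mem (inv_mem h3) (conj_mem_of_norm (norm_cent nK) (mem_top g) h3))
    rw [h4, inv_mul_eq_one, eq_mul_inv_iff_mul_eq] at h2
    rw [mul_inv_eq_one, eq_mul_inv_iff_mul_eq] at h4
    exact ⟨mem_cent1.2 h4.symm, mem_cent1.2 h2.symm⟩
  rw [e, ← relIndex_mul_index (inf_le_right : 𝒞[y] ⊓ 𝒞[x] ≤ _), hx, pow_succ', inf_relIndex_right]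
  refine Nat.mul_dvd_mul_right (ev.trans ?_) _
  have h1 := relIndex_dvd_relIndex_of_le_right (le_sup_right : 𝒞[y] ⊓ 𝒞[x] ≤ K ⊔ _)
    (sup_le KC inf_le_right)
  rwa [relIndex_sup_of_norm (Or.inr (le_top.trans nK)), inf_relIndex_right,
    ← inf_relIndex_right, inf_assoc, inf_eq_right.2 KC, inf_relIndex_right] at h1

end Cfsg.Agent.S4133
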