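import Cfsg.Statements.S4365
import Cfsg.Agent.H85.Mann
import Cfsg.Agent.S0015

set_option autoImplicit false
open Cfsg

namespace Cfsg.Agent.S4365

open Cfsg.Agent.H85

lemma comm_pow_left {P : Type*} [Group P] {a g : P} (h : a * g * a⁻¹ * g⁻¹ ∈ Subgroup.center P)
    (n : ℕ) : a ^ n * g * (a ^ n)⁻¹ * g⁻¹ = (a * g * a⁻¹ * g⁻¹) ^ n := by
  induction n with
  | zero => simp
  | succ n ih =>
    have h1 := Subgroup.mem_center_iff.mp (Subgroup.pow_mem _ h n) a
    calc a ^ (n + 1) * g * (a ^ (n + 1))⁻¹ * g⁻¹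
        = a * (a ^ n * g * (a ^ n)⁻¹ * g⁻¹) * (g * a⁻¹ * g⁻¹) := by group
      _ = _ := by rw [ih, h1, pow_succ]; group

lemma comm_pow_right {P : Type*} [Group P] {a g : P} (h : a * g * a⁻¹ * g⁻¹ ∈ Subgroup.center P)
    (n : ℕ) : a * g ^ n * a⁻¹ * (g ^ n)⁻¹ = (a * g * a⁻¹ * g⁻¹) ^ n := by
  have h1 : g * a * g⁻¹ * a⁻¹ ∈ Subgroup.center P := by
    have := Subgroup.inv_mem _ h
    simpa [mul_assoc] using this
  have h2 := comm_pow_left h1 n
  have h3 : a * g * a⁻¹ * g⁻¹ = (g * a * g⁻¹ * a⁻¹)⁻¹ := by group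
  rw [h3, inv_pow, ← h2]; group

/-- Let P be a finite p-group whose conjugacy class sizes are exactly 1 and pᵃ for some a ≥ 1. Then every element of P has its p-th power in the center of P (P/Z(P) has exponent p). -/
theorem result {P : Type*} [Group P] [Finite P] (p : ℕ) [Fact p.Prime]
    (hP : IsPGroup p P) (a : ℕ) (ha : 1 ≤ a)
    (hcs : {k : ℕ | ∃ x : P, (Subgroup.centralizer ({x} : Set P)).index = k} = {1, p ^ a}) (x : P) :
    x ^ p ∈ Subgroup.center P := by
  have hpp : p.Prime := Fact.out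
  have := hP.isNilpotent
  have h : ∀ x : P, (Subgroup.centralizer ({x} : Set P)).index = 1 ∨
      (Subgroup.centralizer ({x} : Set P)).index = p ^ a := fun x => by
    have : (Subgroup.centralizer ({x} : Set P)).index ∈ ({1, p ^ a} : Set ℕ) := hcs ▸ ⟨x, rfl⟩
    exact this
  have hpa : 1 < p ^ a := Nat.one_lt_pow (by omega) hpp.one_lt
  obtain ⟨A, hAn, hA, hmax⟩ := exists_maximal_abelian_normal P
  have hCA := S0015.result A hmax
  have hc : ∀ a ∈ A, ∀ b ∈ A, a * b = b * a := fun a ha b hb =>
    congrArg Subtype.val (hA.is_comm.comm (⟨a, ha⟩ : A) ⟨b, hb⟩)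
  have hle : ∀ x, x ∈ centMod A := by
    intro x t ht
    apply commutator_mem_center_of_min A hc ht
    intro y hy
    rcases h x with hx | hx <;> rcases h y with hy' | hy' <;> omega
  have hcen : ∀ y : P, y ^ p ∉ Subgroup.center P → ∀ g, g * y ^ p = y ^ p * g → g * y = y * g := by
    intro y hy g hg
    have h1 : Subgroup.centralizer ({y} : Set P) ≤ Subgroup.centralizer ({y ^ p} : Set P) := by
      intro w hw
      rw [Subgroup.mem_centralizer_singleton_iff] at hw ⊢
      exact (Commute.pow_right hw p).eq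
    have h2 : (Subgroup.centralizer ({y ^ p} : Set P)).index ≠ 1 := fun h3 => hy (by
      rw [Subgroup.index_eq_one, Subgroup.centralizer_eq_top_iff_subset] at h3; exact h3 rfl)
    have h3 := Subgroup.index_dvd_of_le h1
    have h4 : (Subgroup.centralizer ({y} : Set P)).index =
        (Subgroup.centralizer ({y ^ p} : Set P)).index := by
      rcases h y with h5 | h5 <;> rcases h (y ^ p) with h6 | h6
      · omega
      · rw [h5] at h3; exact absurd (Nat.dvd_one.mp h3) h2
      · omega
      · omega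
    have h5 := Subgroup.relIndex_mul_index h1
    rw [h4] at h5
    have h6 : (Subgroup.centralizer ({y} : Set P)).relIndex (Subgroup.centralizer ({y ^ p} : Set P)) = 1 := by
      have : 0 < (Subgroup.centralizer ({y ^ p} : Set P)).index :=
        Nat.pos_of_ne_zero Subgroup.index_ne_zero_of_finite
      nlinarith
    exact Subgroup.mem_centralizer_singleton_iff.mp
      (Subgroup.relIndex_eq_one.mp h6 (Subgroup.mem_centralizer_singleton_iff.mpr hg))
  have hAp : ∀ t ∈ A, t ^ p ∈ Subgroup.center P := by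
    intro t ht
    by_contra hn
    apply hn
    apply Subgroup.pow_mem
    rw [Subgroup.mem_center_iff]
    intro g
    have key : ∀ k : ℕ, ∀ g : P, (t * g * t⁻¹ * g⁻¹) ^ p ^ k = 1 → g * t = t * g := by
      intro k
      induction k with
      | zero =>
        intro g hg
        rw [pow_zero, pow_one, mul_inv_eq_one, mul_inv_eq_iff_eq_mul] at hg
        exact hg.symm
      | succ k ih =>
        intro g hg
        have h1 : (t * g ^ p * t⁻¹ * (g ^ p)⁻¹) ^ p ^ k = 1 := by
          rw [comm_pow_right (hle g t ht), ← pow_mul, ← pow_succ', hg]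
        have h2 := ih _ h1
        apply hcen t hn
        have h3 : (t * g * t⁻¹ * g⁻¹) ^ p = 1 := by
          rw [← comm_pow_right (hle g t ht), ← h2]; group
        rw [← comm_pow_left (hle g t ht), mul_inv_eq_one, mul_inv_eq_iff_eq_mul] at h3
        exact h3.symm
    obtain ⟨k, hk⟩ := hP (t * g * t⁻¹ * g⁻¹)
    exact key k g hk
  by_contra hx
  apply hx
  apply hAp
  rw [← hCA, Subgroup.mem_centralizer_iff]
  intro t ht
  apply hcen x hx
  have hxp : x ^ p ∈ A := by
    rw [← hCA, Subgroup.mem_centralizer_iff]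
    intro s hs
    have h1 := comm_pow_right (hle x s hs) p
    rw [← comm_pow_left (hle x s hs) p, ← Subgroup.mem_center_iff.mp (hAp s hs) x] at h1
    have h2 : s * x ^ p * s⁻¹ * (x ^ p)⁻¹ = 1 := by rw [h1]; group
    rwa [mul_inv_eq_one, mul_inv_eq_iff_eq_mul] at h2
  exact hc t ht _ hxp

end Cfsg.Agent.S4365
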