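import Cfsg.Statements.S4134
import Cfsg.Agent.H8.TwoSizes
import Cfsg.Agent.S4365

set_option autoImplicit false
open Cfsg

namespace Cfsg.Agent.S4134

open Subgroup H83 H8

/-- Let G be a finite group whose conjugacy classes have exactly two sizes, 1 and n > 1. Then n is a power of a prime p and G is the direct product of a p-group and an abelian group of order prime to p: its Sylow p-subgroup P is normal with an abelian normal complement centralizing it; moreover P has an abelian normal subgroup A with P/A of exponent dividing p. -/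
theorem result {G : Type*} [Group G] [Finite G] (n : ℕ) (hn : 1 < n)
    (h : ∀ x : G, (Subgroup.centralizer ({x} : Set G)).index = 1 ∨ (Subgroup.centralizer ({x} : Set G)).index = n) (hex : ∃ x : G, (Subgroup.centralizer ({x} : Set G)).index = n) :
    ∃ (p : ℕ) (_ : Fact p.Prime) (a : ℕ), n = p ^ a ∧ ∀ P : Sylow p G, (P : Subgroup G).Normal ∧
      (∃ N : Subgroup G, N.Normal ∧ N.IsComplement' (P : Subgroup G) ∧ IsMulCommutative N ∧
        ∀ x ∈ N, ∀ y ∈ (P : Subgroup G), x * y = y * x) ∧
      ∃ A : Subgroup (P : Subgroup G), A.Normal ∧ IsMulCommutative A ∧ ∀ y : (P : Subgroup G), y ^ p ∈ A := by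
  obtain ⟨x, hx⟩ := hex
  have hxz : x ∉ center G := fun e => hn.ne' (hx ▸ cs_eq_one_iff.2 e)
  obtain ⟨hnil, p, hp, hq⟩ := exists_prime_of_two_sizes n h ⟨x, hxz⟩
  have hfp := Fact.mk hp
  have hQ := isPGroup_quotient_of_forall (N := center G) hq hp
  obtain ⟨k, hk⟩ := IsPGroup.iff_card.1 hQ
  have hd : n ∣ p ^ k := by
    rw [← hk, ← hx]
    exact index_dvd_of_le (center_le_centralizer _)
  obtain ⟨a, -, ha⟩ := (Nat.dvd_prime_pow hp).1 hd
  refine ⟨p, hfp, a, ha, fun P => ?_⟩
  have hPn : (P : Subgroup G).Normal := inferInstance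
  refine ⟨hPn, ?_, ?_⟩
  · obtain ⟨N, hN⟩ := exists_left_complement'_of_coprime (N := (P : Subgroup G))
      P.card_coprime_index
    have hNz : N ≤ center G := by
      refine le_of_forall_PE fun q hq' v hv hqv => ?_
      by_cases hqp : q = p
      · subst hqp
        have h1 : v ^ Nat.card N = 1 := congrArg Subtype.val (pow_card_eq_one' (x := (⟨v, hv⟩ : N)))
        refine hqv.mem_of_pow_mem (n := Nat.card N) ?_ (h1 ▸ one_mem _)
        rw [← hN.index_eq_card]
        exact (Nat.Prime.coprime_iff_not_dvd hp).2 P.not_dvd_index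
      · exact hq q hq' hqp v hqv
    refine ⟨N, ⟨fun y hy g => ?_⟩, hN, ⟨⟨fun y z => Subtype.ext (mem_center_iff.1 (hNz z.2) y)⟩⟩,
      fun y hy z _ => (mem_center_iff.1 (hNz hy) z).symm⟩
    rwa [mem_center_iff.1 (hNz hy) g, mul_inv_cancel_right]
  · have hsup : ∀ y : G, centralizer ({y} : Set G) ⊔ (P : Subgroup G) = ⊤ := fun y => by
      refine eq_top_iff.2 (le_of_forall_PE fun q hq' v _ hv => ?_)
      by_cases hqp : q = p
      · exact mem_sup_right (mem_of_PE_of_sylow_le P le_rfl (hqp ▸ hv))
      · exact mem_sup_left (center_le_centralizer _ (hq q hq' hqp v hv))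
    have hcs : ∀ y : (P : Subgroup G), cs(y) = cs((y : G)) := fun y => by
      rw [cs_subgroup, index_eq_relIndex_of_sup (hsup y)]
    refine ⟨center _, inferInstance, inferInstance, fun y => ?_⟩
    have ha1 : 1 ≤ a := Nat.one_le_iff_ne_zero.2 (by rintro rfl; exact hn.ne' (by simpa using ha))
    refine S4365.result p P.2 a ha1 ?_ y
    ext k
    constructor
    · rintro ⟨z, rfl⟩
      rw [hcs, ← ha]
      exact h z
    · rintro (rfl | rfl)
      · exact ⟨1, cs_one⟩
      · obtain ⟨q, hq', u, -, hu, huz⟩ := exists_PE_of_not_mem hxz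
        have hqp : q = p := by
          by_contra hne
          exact huz (hq q hq' hne u hu)
        refine ⟨⟨u, mem_of_PE_of_sylow_le P le_rfl (hqp ▸ hu)⟩, ?_⟩
        rw [hcs, ← ha]
        exact (h u).resolve_left fun e => huz (cs_eq_one_iff.1 e)

end Cfsg.Agent.S4134
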