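import Cfsg.Statements.S4137
import Cfsg.Agent.H13.CC3c

set_option autoImplicit false
open Cfsg

namespace Cfsg.Agent.S4137

open Cfsg.Agent.H13
set_option linter.style.haveILetI false

open Subgroup H83 H8

/-- Let G be a finite group with trivial centre and at most three distinct sizes of conjugacy classes other than 1. Then G is solvable or G is isomorphic to PSL₂(2^a) for some a ≥ 1. -/
theorem result {G : Type*} [Group G] [Finite G]
    (hZ : Subgroup.center G = ⊥) (h : Nat.card {n : ℕ | 1 < n ∧ ∃ x : G, (Subgroup.centralizer ({x} : Set G)).index = n} ≤ 3) :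
    Group.IsSolvable G ∨ ∃ a : ℕ, 0 < a ∧ Nonempty (G ≃* Matrix.ProjectiveSpecialLinearGroup (Fin 2) (GaloisField 2 a)) := by
  refine or_iff_not_imp_left.2 fun hs => ?_
  have habc : AbC G := by
    by_contra c
    obtain ⟨x, y, y1, h1, h2⟩ : ∃ x y : G, y ≠ 1 ∧ centralizer {x} ≤ centralizer ({y} : Set G) ∧
        ¬ centralizer {y} ≤ centralizer ({x} : Set G) := by
      by_contra c'
      push Not at c'
      exact c (S3192.abc_of_antichain c')
    have hne : cs(y) ≠ cs(x) := fun e => h2 (S3192.eq_of_cs h1 e.symm).ge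
    set S := {n : ℕ | 1 < n ∧ ∃ x : G, (Subgroup.centralizer ({x} : Set G)).index = n}
    have mem : ∀ z : G, z ≠ 1 → cs(z) ∈ S := fun z hz =>
      ⟨lt_of_le_of_ne (cs_pos z) fun e => hz (mem_bot.1 (hZ ▸ cs_eq_one_iff.1 e.symm)), z, rfl⟩
    have hf : S.Finite := (Set.finite_range fun x : G => cs(x)).subset fun n hn => hn.2
    have hx := mem x fun e => h2 fun g _ => mem_cent.2 (by simp [e])
    obtain ⟨n, hn⟩ : ∃ n, ∀ z : G, z ≠ 1 → cs(z) = cs(y) ∨ cs(z) = cs(x) ∨ cs(z) = n := by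
      by_contra c
      push Not at c
      obtain ⟨z, z1, a1, a2, -⟩ := c 0
      obtain ⟨w, w1, b1, b2, b3⟩ := c cs(z)
      have h4 := Set.ncard_le_ncard (s := {cs(w), cs(z), cs(y), cs(x)}) (t := S) (by
        rintro _ (rfl | rfl | rfl | rfl)
        exacts [mem w w1, mem z z1, mem y y1, hx]) hf
      rw [Set.ncard_insert_of_notMem (by simp [b1, b2, b3]),
        Set.ncard_insert_of_notMem (by simp [a1, a2]), Set.ncard_pair hne] at h4
      rw [Nat.card_coe_set_eq] at h
      omega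
    have H : CC3 G cs(y) cs(x) n := ⟨hZ, index_dvd_of_le h1, hne, hn, ⟨y, y1, rfl⟩, ⟨x, rfl⟩⟩
    exact c (CC3c.abc_of_three (H.cent_eq_bot hs) rfl y1 rfl H.ac hne hn)
  obtain ⟨K, _, _, _, h4, ⟨e⟩⟩ := habc.sl2_of_center (habc.twoComm_of_not_isSolvable hs)
    (habc.nonComm_of_not_isSolvable hs) hZ
  obtain ⟨n, hn, hK⟩ := exists_two_le_of_four_le (CharP.cast_eq_zero K 2) h4
  obtain ⟨e'⟩ := nonempty_sl_equiv_psl_galois (CharP.cast_eq_zero K 2) (by omega) hK
  exact ⟨n, by omega, ⟨e.trans e'⟩⟩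

end Cfsg.Agent.S4137
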