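import Cfsg.Statements.S4138
import Cfsg.Agent.H31.TwoCl2

set_option autoImplicit false
open Cfsg

open Subgroup Cfsg.Agent.H49 Cfsg.Agent.H83

namespace Cfsg.Agent.S4138

theorem result {G : Type*} [Group G] [Finite G] (m n : ℕ) (hmn : n < m) (hn : 1 < n)
    (hcop : m.Coprime n) (htop : ∀ z : G, (Subgroup.centralizer ({z} : Set G)).index ≤ m) (hsecond : ∀ z : G, (Subgroup.centralizer ({z} : Set G)).index < m → (Subgroup.centralizer ({z} : Set G)).index ≤ n)
    (x y : G) (hx : (Subgroup.centralizer ({x} : Set G)).index = n) (hy : (Subgroup.centralizer ({y} : Set G)).index = m) :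
    IsMulCommutative (Subgroup.centralizer ({x} : Set G)) ∧ IsMulCommutative (Subgroup.centralizer ({y} : Set G)) ∧
    Cfsg.IsFrobeniusComplement ((Subgroup.centralizer ({y} : Set G)).map (QuotientGroup.mk' (Subgroup.center G))) ∧
    Cfsg.frobeniusKernel ((Subgroup.centralizer ({y} : Set G)).map (QuotientGroup.mk' (Subgroup.center G))) =
      ((Subgroup.centralizer ({x} : Set G)).map (QuotientGroup.mk' (Subgroup.center G)) : Set (G ⧸ Subgroup.center G)) := by
  have pm : IsPiNat {p | p ∣ m} m := fun p _ h => h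
  have pn : IsPiNat {p | p ∣ m}ᶜ n := fun p hp h1 h2 =>
    hp.one_lt.ne' (Nat.eq_one_of_dvd_coprimes hcop h2 h1)
  have T : H6.TopCl {p | p ∣ m} y := ⟨fun z => hy ▸ htop z, hy ▸ pm⟩
  obtain ⟨a, ha, z, hz, rfl⟩ := T.decomp (hx ▸ pn)
  rw [cent_mul_center hz] at hx ⊢
  have h : H31.Two {p | p ∣ m} m n a := ⟨hn, hmn, pm, pn,
    fun z => (htop z).eq_or_lt.imp_right (hsecond z), ⟨y, hy⟩, hx, ha⟩
  exact ⟨h.abelian, abelian_iff.2 fun g hg => le_cent1_iff.1 (h.le_cent' hy hg), h.frob hy⟩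

end Cfsg.Agent.S4138
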