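import Cfsg.Statements.S4142
import Cfsg.Agent.H83.ClassCount

set_option autoImplicit false
open Cfsg

namespace Cfsg.Agent.S4142

/-- Let G be a finite group and N a normal subgroup. Then the conjugacy class of every element g outside N is a union of cosets of N (gn is conjugate to g for all n ∈ N) if and only if for every g outside N the centralizer of g in G has the same order as the centralizer of gN in G/N. -/
theorem result {G : Type*} [Group G] [Finite G] (N : Subgroup G) [N.Normal] :
    (∀ g : G, g ∉ N → ∀ n ∈ N, ∃ x : G, x * g * x⁻¹ = g * n) ↔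
      ∀ g : G, g ∉ N → Nat.card (Subgroup.centralizer ({g} : Set G)) =
        Nat.card (Subgroup.centralizer ({(QuotientGroup.mk g : G ⧸ N)} : Set (G ⧸ N))) := by
  refine forall_congr' fun g => forall_congr' fun _ => ?_
  have key := H83.card_cent_mul_card_fiber N g
  constructor
  · intro h
    have : Nat.card {n : N // IsConj g (g * n)} = Nat.card N :=
      Nat.card_congr (Equiv.subtypeUnivEquiv fun n => isConj_iff.mpr (h n n.2))
    rw [this, mul_comm] at key
    exact Nat.eq_of_mul_eq_mul_left Nat.card_pos key
  · intro h n hn
    rw [← h, mul_comm] at key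
    have h2 := Nat.eq_of_mul_eq_mul_right Nat.card_pos key
    have h3 : Function.Bijective (Subtype.val : {n : N // IsConj g (g * n)} → N) :=
      (Nat.bijective_iff_injective_and_card _).mpr ⟨Subtype.val_injective, h2⟩
    obtain ⟨⟨m, hm⟩, hm2⟩ := h3.2 ⟨n, hn⟩
    simp only at hm2
    subst hm2
    exact isConj_iff.mp hm

end Cfsg.Agent.S4142
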