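import Cfsg.Statements.S4140
import Cfsg.Agent.H94.EqOrd
import Cfsg.Agent.H1.NilCompl
import Cfsg.Agent.H1.NilComm
import Cfsg.Agent.H1.Frattini
import Cfsg.Agent.H69.UniqueP
import Cfsg.Agent.S4142
import Cfsg.Agent.S4112
import Cfsg.Agent.S0081
import Cfsg.Agent.S0042

set_option autoImplicit false
open Cfsg

namespace Cfsg.Agent.S4140

open Subgroup
open scoped commutatorElement

theorem exists_cam {G : Type*} [Group G] [Finite G] {N : Subgroup G} [N.Normal]
    (hcam : ∀ g : G, g ∉ N → ∀ n ∈ N, ∃ x : G, x * g * x⁻¹ = g * n) {p : ℕ} [hp : Fact p.Prime]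
    (h : p ∣ N.index) (P : Sylow p G) :
    ∃ g ∈ (P : Subgroup G), g ∉ N ∧ g ^ p ∈ N ∧
      ∀ n ∈ (P : Subgroup G) ⊓ N, ∃ x ∈ (P : Subgroup G), x * g * x⁻¹ = g * n := by
  have hP : IsPGroup p ((P : Subgroup G).map (QuotientGroup.mk' N)) := P.isPGroup'.map _
  have h1 : (P : Subgroup G).map (QuotientGroup.mk' N) ≠ ⊥ := fun e => by
    rw [Subgroup.map_eq_bot_iff, QuotientGroup.ker_mk'] at e
    exact P.not_dvd_index (h.trans (index_dvd_of_le e))
  have h2 := H1.inf_centralizer_ne_bot_of_isPGroup hP h1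
  obtain ⟨z, hz⟩ := exists_prime_orderOf_dvd_card' p
    ((hP.to_le inf_le_left).card_eq_or_dvd.resolve_left fun e => h2 (card_eq_one.1 e))
  obtain ⟨_, ⟨g, hg, rfl⟩, hc⟩ := z
  replace hz : orderOf (g : G ⧸ N) = p := (Subgroup.orderOf_coe _).trans hz
  have hgN : g ∉ N := fun e => by
    rw [(QuotientGroup.eq_one_iff _).2 e, orderOf_one] at hz
    exact hp.out.one_lt.ne hz
  refine ⟨g, hg, hgN, (QuotientGroup.eq_one_iff _).1 (by
    rw [QuotientGroup.mk_pow, ← hz, pow_orderOf_eq_one]), ?_⟩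
  letI : MulAction P G := MulAction.compHom G (MulAut.conj.comp (P : Subgroup G).subtype)
  have hsub : MulAction.orbit P g ⊆ (g * ·) '' ((P : Subgroup G) ⊓ N : Subgroup G) := by
    rintro _ ⟨x, rfl⟩
    refine ⟨g⁻¹ * (x * g * x⁻¹), mem_inf.2 ⟨mul_mem (inv_mem hg)
      (mul_mem (mul_mem x.2 hg) (inv_mem x.2)), QuotientGroup.eq.1 ?_⟩, mul_inv_cancel_left _ _⟩
    have := mem_centralizer_iff.1 hc _ ⟨x, x.2, rfl⟩
    exact (mul_inv_eq_iff_eq_mul.2 this).symm
  have hst : Nat.card (MulAction.stabilizer P g) ∣ Nat.card (centralizer ({g} : Set G)) := by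
    rw [← card_map_of_injective (P : Subgroup G).subtype_injective]
    refine card_dvd_of_le ?_
    rintro _ ⟨x, hx, rfl⟩
    exact mem_centralizer_singleton_iff.2 (mul_inv_eq_iff_eq_mul.1 hx)
  obtain ⟨a, ha⟩ := IsPGroup.iff_card.1 (P.isPGroup'.to_subgroup (MulAction.stabilizer P g))
  obtain ⟨b, hb⟩ := IsPGroup.iff_card.1 (P.isPGroup'.to_le (inf_le_left (b := N)))
  have h3 : p ^ (b + a) ∣ Nat.card G := by
    rw [pow_add, ← ha, ← hb, ← N.card_mul_index]
    refine Nat.mul_dvd_mul (card_dvd_of_le inf_le_right) (hst.trans ?_)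
    rw [(S4142.result N).1 hcam g hgN]
    exact card_subgroup_dvd_card _
  have h4 : p ^ (b + a) ≤ Nat.card P := by
    rw [P.card_eq_multiplicity]
    exact Nat.pow_le_pow_right hp.out.pos ((hp.out.pow_dvd_iff_le_factorization
      Nat.card_pos.ne').1 h3)
  rw [← (MulAction.stabilizer P g).index_mul_card, MulAction.index_stabilizer, pow_add, ha,
    ← hb] at h4
  have h5 := Set.eq_of_subset_of_ncard_le hsub (by
    rw [Set.ncard_image_of_injective _ (mul_right_injective g)]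
    exact Nat.le_of_mul_le_mul_right h4 (pow_pos hp.out.pos a))
  intro n hn
  obtain ⟨x, hx⟩ := h5.ge ⟨n, hn, rfl⟩
  exact ⟨x, x.2, hx⟩

/-- Let G be a finite group and N a proper non-trivial normal subgroup such that for every g outside N the conjugacy class of g is a union of cosets of N (equivalently gn is conjugate to g for every n ∈ N). Then either every element of G outside N acts fixed-point-freely on N (C_G(x) ≤ N for all x ∈ N, x ≠ 1, so G is a Frobenius group with kernel N), or N has prime-power order, or G/N has prime-power order. -/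
theorem result {G : Type*} [Group G] [Finite G] (N : Subgroup G) [N.Normal] (hN1 : N ≠ ⊥) (hN2 : N ≠ ⊤)
    (hcam : ∀ g : G, g ∉ N → ∀ n ∈ N, ∃ x : G, x * g * x⁻¹ = g * n) :
    (∀ x ∈ N, x ≠ 1 → Subgroup.centralizer ({x} : Set G) ≤ N) ∨ IsPrimePow (Nat.card N) ∨ IsPrimePow N.index := by
  by_contra hcon
  simp only [not_or] at hcon
  obtain ⟨h1, h2, h3⟩ := hcon
  rw [(S4112.result N N le_rfl hN1 hN2 hcam).1, Nat.Prime.not_coprime_iff_dvd] at h1
  obtain ⟨p, hp, hp1, hp2⟩ := h1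
  haveI := Fact.mk hp
  have heq : ∀ x : G, x ∉ N → ∀ n ∈ N, orderOf (x * n) = orderOf x := fun x hx n hn => by
    obtain ⟨y, hy⟩ := hcam x hx n hn
    rw [← hy]; exact (MulAut.conj y).orderOf_eq x
  obtain ⟨r, hr, hr1, hrp⟩ := H94.exists_two_primes (fun e => hN2 (index_eq_one.1 e))
    index_ne_zero_of_finite h3 p
  haveI := Fact.mk hr
  obtain ⟨R⟩ : Nonempty (Sylow r G) := inferInstance
  obtain ⟨y, hyR, hyN, hyr, hy⟩ := exists_cam hcam hr1 R
  obtain ⟨s, hs, hsp, hsN, hc⟩ : ∃ s, ∃ _ : Fact s.Prime, s ≠ p ∧ s ∣ Nat.card N ∧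
      HasNormalPComplement s N := by
    by_cases hrN : r ∣ Nat.card N
    · refine ⟨r, inferInstance, hrp, hrN, S0081.result R N fun n hn => ?_⟩
      obtain ⟨x, hx, e⟩ := hy n ⟨hn.2, hn.1⟩
      refine ⟨⁅(⟨y, hyR⟩ : (R : Subgroup G))⁻¹, (⟨x, hx⟩ : (R : Subgroup G))⁆, H1.commutator_le_frattini R.isPGroup'
        (commutator_mem_commutator (mem_top _) (mem_top _)), ?_⟩
      show y⁻¹ * x * y⁻¹⁻¹ * x⁻¹ = n
      rw [inv_inv, mul_assoc, mul_assoc, ← mul_assoc x, e, inv_mul_cancel_left]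
    · have hc : ∀ n ∈ N, ∀ k : ℕ, (r ^ k).Coprime (orderOf n) := fun n hn k =>
        Nat.Coprime.pow_left _ (((Nat.Prime.coprime_iff_not_dvd hr).2 hrN).coprime_dvd_right
          (N.orderOf_dvd_natCard hn))
      obtain ⟨k, hk⟩ := H82.orderOf_eq_pow_of_mem R.isPGroup' hyR
      have h4 : orderOf y = r := orderOf_eq_prime (H82.eq_one_of_pow_coprime (hc _ hyr k)
        (by rw [← pow_mul, mul_comm, pow_mul, ← hk, pow_orderOf_eq_one, one_pow])
        (pow_orderOf_eq_one _)) fun e => hyN (e ▸ N.one_mem)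
      have hnil := S0042.nilpotent_of_fpf N (s := y) (h4 ▸ hr) (le_bot_iff.1 fun n hn =>
        H94.eqOrd_eq_one heq hyN hn.1 (mem_centralizer_singleton_iff.1 hn.2).symm
          (hk ▸ hc n hn.1 k) (orderOf_pos y))
      obtain ⟨s, hs, hsN, hsp⟩ := H94.exists_two_primes (fun e => hN1 (card_eq_one.1 e))
        Nat.card_pos.ne' h2 p
      haveI := Fact.mk hs
      exact ⟨s, inferInstance, hsp, hsN, H1.hasNormalPComplement_of_nilpotent hnil s⟩
  obtain ⟨z, hz⟩ := exists_prime_orderOf_dvd_card' p hp2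
  obtain ⟨P, hzP⟩ := H82.exists_sylow_mem (g := (z : G)) (p := p) (k := 1) (by simpa using hz)
  obtain ⟨g, hgP, hgN, hgp, hg⟩ := exists_cam hcam hp1 P
  have hcq : _ ∨ ∃ n, Nonempty (_ ≃* QuaternionGroup n) :=
    (H94.eqOrd_cyclic_or_quaternion heq hsp hsN hc P.isPGroup').imp id fun ⟨_, n, h⟩ => ⟨_, h⟩
  have hb := H1.eq_bot_of_le_commutator_of_nilpotent P.isPGroup'.isNilpotent
    (inf_le_left (b := N)) fun n hn => by
      obtain ⟨x, hx, e⟩ := hg n hn
      have en : n = g⁻¹ * (x * g * x⁻¹) := by rw [e, inv_mul_cancel_left]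
      by_cases hxN : x ∈ N
      · rw [Subgroup.commutator_comm, en]
        convert commutator_mem_commutator (inv_mem hgP) (mem_inf.2 ⟨hx, hxN⟩) using 1
        rw [commutatorElement_def]; group
      · let x' : (P : Subgroup G).map (QuotientGroup.mk' N) := ⟨_, x, hx, rfl⟩
        have hx1 : x' ≠ 1 := fun e => hxN ((QuotientGroup.eq_one_iff _).1 (congrArg Subtype.val e))
        obtain ⟨k, hk⟩ := IsPGroup.iff_orderOf.1 (P.isPGroup'.map (QuotientGroup.mk' N)) x'
        obtain ⟨k, rfl⟩ := Nat.exists_eq_succ_of_ne_zero (n := k) (by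
          rintro rfl; exact hx1 (orderOf_eq_one_iff.1 hk))
        have h4 := H69.mem_zpowers_of_cyclic_or_quaternion (P.isPGroup'.map _) hcq (x := x' ^ p ^ k)
          (y := ⟨_, g, hgP, rfl⟩) (pow_ne_one_of_lt_orderOf (pow_pos hp.pos k).ne'
            (hk ▸ Nat.pow_lt_pow_right hp.one_lt k.lt_succ_self))
          (by rw [← pow_mul, ← pow_succ, ← hk, pow_orderOf_eq_one])
          (Subtype.ext ((QuotientGroup.eq_one_iff (g ^ p)).2 hgp))
        obtain ⟨i, hi⟩ := zpowers_le.2 (pow_mem (mem_zpowers x') _) h4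
        have h5 : (x ^ i)⁻¹ * g ∈ N := QuotientGroup.eq.1 (congrArg Subtype.val hi)
        rw [en]
        convert commutator_mem_commutator (inv_mem (mem_inf.2
          ⟨mul_mem (inv_mem (zpow_mem hx i)) hgP, h5⟩)) hx using 1
        rw [commutatorElement_def]; group
  have : (z : G) = 1 := mem_bot.1 (hb ▸ ⟨hzP, z.2⟩)
  rw [show z = 1 from Subtype.ext this, orderOf_one] at hz
  exact hp.one_lt.ne hz

end Cfsg.Agent.S4140
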