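import Cfsg.Statements.S4150
import Cfsg.Agent.H81.TwoPrimes
import Cfsg.Agent.H81.SmallDeg

set_option autoImplicit false
open Cfsg

namespace Cfsg.Agent.S4150

open MulAction Equiv Equiv.Perm

theorem ncard_orbit_zpowers {G α : Type*} [Group G] [MulAction G α] {g : G} {p : ℕ}
    (hp : p.Prime) (hg : orderOf g = p) {a : α} (ha : g • a ≠ a) :
    (orbit (Subgroup.zpowers g) a).ncard = p := by
  rw [← index_stabilizer]
  have h1 := (stabilizer (Subgroup.zpowers g) a).index_dvd_card
  rw [Nat.card_zpowers, hg] at h1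
  rcases (Nat.dvd_prime hp).1 h1 with h | h
  · exfalso
    rw [Subgroup.index_eq_one] at h
    have : (⟨g, Subgroup.mem_zpowers g⟩ : Subgroup.zpowers g) ∈
        stabilizer (Subgroup.zpowers g) a := by
      rw [h]; trivial
    exact ha this
  · exact h

theorem le_ncard_orbit {G α : Type*} [Group G] [MulAction G α] [Finite α] {g : G} {p : ℕ}
    (hp : p.Prime) (hg : orderOf g = p) {a : α} (ha : g • a ≠ a) :
    p ≤ (orbit G a).ncard := by
  rw [← ncard_orbit_zpowers hp hg ha]
  exact Set.ncard_le_ncard (orbit_subgroup_subset _ _) (Set.toFinite _)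

theorem preprimitive_of_big {G α : Type*} [Group G] [MulAction G α] [Finite α]
    [IsPretransitive G α] {g : G} {p : ℕ}
    (hp : p.Prime) (hg : orderOf g = p) {a : α} (ha : g • a ≠ a) (h : Nat.card α < 2 * p) :
    IsPreprimitive G α := by
  have h1 := ncard_orbit_zpowers hp hg ha
  have : IsPreprimitive (Subgroup.zpowers g) (orbit (Subgroup.zpowers g) a) :=
    IsPreprimitive.of_prime_card (by rw [Nat.card_coe_set_eq, h1]; exact hp)
  let f : orbit (Subgroup.zpowers g) a →ₑ[(Subgroup.zpowers g).subtype] α :=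
    { toFun := Subtype.val
      map_smul' := fun _ _ => rfl }
  refine IsPreprimitive.of_card_lt (f := f) ?_
  have : Set.range f = orbit (Subgroup.zpowers g) a := Subtype.range_coe
  rw [this, h1]
  exact h

theorem mem_alt_of_odd {α : Type*} [Fintype α] [DecidableEq α] {g : Perm α}
    (h : Odd (orderOf g)) : g ∈ alternatingGroup α := by
  rw [mem_alternatingGroup]
  have h1 : sign g ^ orderOf g = 1 := by rw [← map_pow, pow_orderOf_eq_one, map_one]
  rcases Int.units_eq_one_or (sign g) with h2 | h2
  · exact h2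
  · rw [h2, h.neg_one_pow] at h1
    exact absurd h1 (by decide)

theorem core {β : Type*} [Fintype β] [DecidableEq β] {p q : ℕ} (hp : p.Prime) (hq : q.Prime)
    (hp3 : 3 ≤ p) (hpq : p < q) (hd : Fintype.card β ≤ 2 * p)
    (h1 : p + 3 ≤ q ∨ (p = 3 ∧ q = 5) ∨ (p = 5 ∧ q = 7) ∨ (p = 11 ∧ q = 13))
    (h2 : Fintype.card β < 2 * p ∨ q + 3 ≤ Fintype.card β ∨ (p = 3 ∧ q = 5))
    {x y : Perm β} (hx : orderOf x = p) (hy : orderOf y = q) (hs : ∀ a, x a ≠ a ∨ y a ≠ a) :
    ∃ d : ℕ, 5 ≤ d ∧
      Nonempty (Subgroup.closure ({x, y} : Set (Perm β)) ≃* alternatingGroup (Fin d)) := by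
  set G := Subgroup.closure ({x, y} : Set (Perm β)) with hG
  have hxG : x ∈ G := Subgroup.subset_closure (by simp)
  have hyG : y ∈ G := Subgroup.subset_closure (by simp)
  have hx' : orderOf (⟨x, hxG⟩ : G) = p := by rw [Subgroup.orderOf_mk, hx]
  have hy' : orderOf (⟨y, hyG⟩ : G) = q := by rw [Subgroup.orderOf_mk, hy]
  have hy1 : y ≠ 1 := by
    rintro rfl
    rw [orderOf_one] at hy
    omega
  have hx1 : x ≠ 1 := by
    rintro rfl
    rw [orderOf_one] at hx
    omega
  obtain ⟨b, hb⟩ : ∃ b, y b ≠ b := by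
    by_contra hc
    push Not at hc
    exact hy1 (Equiv.ext hc)
  have hob : q ≤ (orbit G b).ncard := le_ncard_orbit hq hy' hb
  have hqd : q ≤ Fintype.card β := by
    refine hob.trans ?_
    rw [← Nat.card_eq_fintype_card]
    exact Set.ncard_le_card _
  have htr : IsPretransitive G β := by
    have key : ∀ a, a ∈ orbit G b := by
      intro a
      have hoa : p ≤ (orbit G a).ncard := by
        rcases hs a with h | h
        · exact le_ncard_orbit hp hx' h
        · exact hpq.le.trans (le_ncard_orbit hq hy' h)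
      by_contra hc
      have hdisj : Disjoint (orbit G a) (orbit G b) := by
        rw [Set.disjoint_left]
        intro c hca hcb
        apply hc
        rw [← orbit_eq_iff.2 hcb, orbit_eq_iff.2 hca]
        exact mem_orbit_self a
      have h3 := Set.ncard_union_eq hdisj
      have h4 := Set.ncard_le_card (orbit G a ∪ orbit G b)
      rw [Nat.card_eq_fintype_card] at h4
      omega
    refine ⟨fun a c => ?_⟩
    obtain ⟨g, hg⟩ := key a
    obtain ⟨k, hk⟩ := key c
    refine ⟨k * g⁻¹, ?_⟩
    rw [← hg, ← hk]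
    simp [mul_smul]
  have hprim : IsPreprimitive G β :=
    preprimitive_of_big hq hy' hb (by rw [Nat.card_eq_fintype_card]; omega)
  have hA : G ≤ alternatingGroup β := by
    rw [hG, Subgroup.closure_le]
    rintro z (rfl | rfl)
    · exact mem_alt_of_odd (hx ▸ hp.odd_of_ne_two (by omega))
    · exact mem_alt_of_odd (hy ▸ hq.odd_of_ne_two (by omega))
  have hq5 : 5 ≤ q := by omega
  have hpG : p ∣ Nat.card G := hx' ▸ orderOf_dvd_natCard _
  have hqG : q ∣ Nat.card G := hy' ▸ orderOf_dvd_natCard _
  have hxp : x ^ p = 1 := hx ▸ pow_orderOf_eq_one x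
  have hyq : y ^ q = 1 := hy ▸ pow_orderOf_eq_one y
  have hsx : x.support.card ≤ Fintype.card β := Finset.card_le_univ _
  have hsy : y.support.card ≤ Fintype.card β := Finset.card_le_univ _
  have main : alternatingGroup β ≤ G ∨ Nonempty (G ≃* alternatingGroup (Fin 5)) := by
    by_cases hq3 : q + 3 ≤ Fintype.card β
    · exact Or.inl (H26.alt_le_of_prime_support G hprim hq hq3 hyG hy1 hyq (by omega))
    by_cases hlt : Fintype.card β < 2 * p
    · left
      by_cases hp3 : p + 3 ≤ Fintype.card β
      · exact H26.alt_le_of_prime_support G hprim hp hp3 hxG hx1 hxp (by omega)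
      rcases h1 with h | ⟨rfl, rfl⟩ | ⟨rfl, rfl⟩ | ⟨rfl, rfl⟩
      · omega
      · have hc : x.IsCycle := isCycle_of_prime_order (hx ▸ hp) (by omega)
        exact H78.alt_le_of_support_le_three hprim hxG hx1 (by rw [← hc.orderOf, hx])
      · exact H81.alt_le_of_degree_seven (by omega) G hpG
      · exact H81.alt_le_of_degree_thirteen (by omega) G hpG
    · obtain ⟨rfl, rfl⟩ : p = 3 ∧ q = 5 := by omega
      exact H81.degree_six (by omega) G hA hqG
  rcases main with h | h
  · refine ⟨Fintype.card β, by omega, ⟨?_⟩⟩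
    rw [le_antisymm hA h]
    exact (Fintype.equivFin β).altCongrHom
  · exact ⟨5, le_rfl, h⟩

theorem reduce {m p q : ℕ} (hp : p.Prime) (hq : q.Prime)
    (hp3 : 3 ≤ p) (hpq : p < q) (hd : m ≤ 2 * p)
    (h1 : p + 3 ≤ q ∨ (p = 3 ∧ q = 5) ∨ (p = 5 ∧ q = 7) ∨ (p = 11 ∧ q = 13))
    (h2 : m < 2 * p ∨ q + 3 ≤ m ∨ (p = 3 ∧ q = 5))
    (x y : alternatingGroup (Fin m)) (hx : orderOf x = p) (hy : orderOf y = q) :
    ∃ d : ℕ, 5 ≤ d ∧ Nonempty (Subgroup.closure ({x, y} : Set (alternatingGroup (Fin m))) ≃*
      alternatingGroup (Fin d)) := by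
  let P : Fin m → Prop := fun a => (x : Perm (Fin m)) a ≠ a ∨ (y : Perm (Fin m)) a ≠ a
  have key : ∀ z : Perm (Fin m), (∀ a, z a ≠ a → P a) → ∀ a, P (z a) ↔ P a := by
    intro z hz a
    by_cases h : z a = a
    · rw [h]
    · exact ⟨fun _ => hz a h, fun _ => hz _ fun e => h (z.injective e)⟩
  have hxP : ∀ a, (x : Perm (Fin m)) a ≠ a → P a := fun a h => Or.inl h
  have hyP : ∀ a, (y : Perm (Fin m)) a ≠ a → P a := fun a h => Or.inr h
  let x' := (x : Perm (Fin m)).subtypePerm (key _ hxP)
  let y' := (y : Perm (Fin m)).subtypePerm (key _ hyP)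
  have ex : ofSubtype x' = x := ofSubtype_subtypePerm _ hxP
  have ey : ofSubtype y' = y := ofSubtype_subtypePerm _ hyP
  have hx' : orderOf x' = p := by
    rw [← orderOf_injective ofSubtype ofSubtype_injective x', ex, Subgroup.orderOf_coe, hx]
  have hy' : orderOf y' = q := by
    rw [← orderOf_injective ofSubtype ofSubtype_injective y', ey, Subgroup.orderOf_coe, hy]
  have hc : Fintype.card (Subtype P) ≤ m := by
    simpa using Fintype.card_subtype_le P
  obtain ⟨d, hd5, ⟨e⟩⟩ := core (β := Subtype P) hp hq hp3 hpq (by omega) h1 (by omega) hx' hy'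
    (fun a => by
      rcases a.2 with h | h
      · exact Or.inl fun e => h (congrArg Subtype.val e)
      · exact Or.inr fun e => h (congrArg Subtype.val e))
  refine ⟨d, hd5, ⟨MulEquiv.trans ?_ e⟩⟩
  have e1 := (Subgroup.closure ({x, y} : Set (alternatingGroup (Fin m)))).equivMapOfInjective
    (alternatingGroup (Fin m)).subtype Subtype.val_injective
  have e2 := (Subgroup.closure ({x', y'} : Set (Perm (Subtype P)))).equivMapOfInjective
    ofSubtype ofSubtype_injective
  rw [MonoidHom.map_closure, Set.image_pair] at e1 e2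
  rw [ex, ey] at e2
  exact e1.trans e2.symm

/-- Let m ≥ 5. Then there are primes p < q with m/2 ≤ p and q ≤ m such that any two elements x, y of the alternating group of degree m with x of order p and y of order q generate a subgroup isomorphic to an alternating group of some degree d ≥ 5. -/
theorem result (m : ℕ) (hm : 5 ≤ m) :
    ∃ p q : ℕ, p.Prime ∧ q.Prime ∧ m ≤ 2 * p ∧ p < q ∧ q ≤ m ∧
      ∀ x y : alternatingGroup (Fin m), orderOf x = p → orderOf y = q →
        ∃ d : ℕ, 5 ≤ d ∧ Nonempty (Subgroup.closure ({x, y} : Set (alternatingGroup (Fin m))) ≃* alternatingGroup (Fin d)) := by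
  by_cases h1 : m ≤ 6
  · exact ⟨3, 5, by norm_num, by norm_num, by omega, by omega, by omega,
      reduce (by norm_num) (by norm_num) (by omega) (by omega) (by omega) (by omega) (by omega)⟩
  by_cases h2 : m ≤ 10
  · exact ⟨5, 7, by norm_num, by norm_num, by omega, by omega, by omega,
      reduce (by norm_num) (by norm_num) (by omega) (by omega) (by omega) (by omega) (by omega)⟩
  by_cases h3 : m ≤ 14
  · exact ⟨7, 11, by norm_num, by norm_num, by omega, by omega, by omega,
      reduce (by norm_num) (by norm_num) (by omega) (by omega) (by omega) (by omega) (by omega)⟩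
  by_cases h4 : m ≤ 16
  · exact ⟨11, 13, by norm_num, by norm_num, by omega, by omega, by omega,
      reduce (by norm_num) (by norm_num) (by omega) (by omega) (by omega) (by omega) (by omega)⟩
  obtain ⟨p, q, hp, hq, h5, h6, h7⟩ := H81.exists_two_primes m (by omega)
  exact ⟨p, q, hp, hq, by omega, by omega, h7,
    reduce hp hq (by omega) (by omega) (by omega) (by omega) (by omega)⟩

end Cfsg.Agent.S4150
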