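import Cfsg.Statements.S4151
import Cfsg.Agent.H6.TIHall

set_option autoImplicit false
open Cfsg

namespace Cfsg.Agent.S4151

open Cfsg.Agent Cfsg.Agent.H49 Cfsg.Agent.H6 Subgroup

/-- Let G be a finite group and H a non-normal subgroup meeting each of its conjugates by elements outside N_G(H) trivially, with the order of H coprime to its index in N_G(H), such that G is π-separable for π the set of primes dividing the order of H (G has a chain of normal subgroups from 1 to G each of whose factors has order divisible only by primes dividing the order of H or coprime to it). Suppose a Sylow 2-subgroup of H is abelian and Q is a complement of H in N_G(H). Then C_H(Q), the subgroup of elements of H commuting with Q, has order coprime to its index in G and has a normal complement in G. -/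
theorem result {G : Type*} [Group G] [Finite G] (H : Subgroup G)
    (hTI : Cfsg.IsTISubset (H : Set G)) (hnn : ¬ H.Normal)
    (hHall : (Nat.card H).Coprime (H.subgroupOf (Subgroup.normalizer (H : Set G))).index)
    (hsep : ∃ (n : ℕ) (M : Fin (n + 1) → Subgroup G), M 0 = ⊥ ∧ M (Fin.last n) = ⊤ ∧ Monotone M ∧ (∀ i, (M i).Normal) ∧
      ∀ i : Fin n, (∀ q : ℕ, q.Prime → q ∣ (M i.castSucc).relIndex (M i.succ) → q ∣ Nat.card H) ∨
        ((M i.castSucc).relIndex (M i.succ)).Coprime (Nat.card H))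
    (h2 : ∀ P : Sylow 2 H, IsMulCommutative (P : Subgroup H))
    (Q : Subgroup G) (hQ : Q ≤ Subgroup.normalizer (H : Set G)) (hQH : Q ⊓ H = ⊥) (hQH' : Q ⊔ H = Subgroup.normalizer (H : Set G)) :
    (Nat.card ↥(H ⊓ Subgroup.centralizer (Q : Set G))).Coprime (H ⊓ Subgroup.centralizer (Q : Set G)).index ∧
    ∃ N : Subgroup G, N.Normal ∧ N.IsComplement' (H ⊓ Subgroup.centralizer (Q : Set G)) := by
  have h0 : H ≠ ⊥ := fun e => hnn (e ▸ inferInstance)
  have hH := ti_hall hTI (IsHallOf.hall ⟨le_normalizer, hHall⟩)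
  have hG := ti_sup_norm hTI h0 hH hsep
  have hOn := le_norm_piCoreOf (primesOf H)ᶜ (⊤ : Subgroup G)
  have hO := piCoreOf_pi (primesOf H)ᶜ (⊤ : Subgroup G)
  generalize piCoreOf (primesOf H)ᶜ (⊤ : Subgroup G) = O at hG hOn hO
  have hf : H24.Fpf H := ti_fpf hTI hOn hO fun h =>
    hnn (normal_iff_top_le_norm.2 (hG.ge.trans (sup_le h le_rfl)))
  have hZ : IsZGroup H := hf.isZGroup_of_two fun P hP => by
    obtain ⟨S, hS⟩ := hP.exists_le_sylow
    have := abelian_of_le (h2 S) hS
    exact (hf.subgroup P).isCyclic_of_comm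
  have hQπ : IsPi (primesOf H)ᶜ Q := by
    have h1 : IsPiNat (primesOf H)ᶜ (H.relIndex 𝒩(H)) := (hH.sub le_normalizer le_top).index
    have h3 := card_inf_mul_relIndex H Q
    rw [← hQH', relIndex_sup_of_norm (Or.inl hQ)] at h1
    rw [inf_comm, hQH, card_bot, one_mul] at h3
    rwa [IsPi, ← h3]
  have hc : (Nat.card Q).Coprime (Nat.card H) := hQπ.coprime' hH.pi
  have hCL := zgroup_coprime_action hf hQ hc
  have hsup := coprime_comm_sup_cent hQ hc (Or.inr inferInstance)
  change (Nat.card ↥(H ⊓ 𝒞(Q))).Coprime (H ⊓ 𝒞(Q)).index ∧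
    ∃ N : Subgroup G, N.Normal ∧ N.IsComplement' (H ⊓ 𝒞(Q))
  have hLQ : 𝒩(H) ≤ 𝒩(⁅H, Q⁆ ⊔ Q) := by
    refine hQH'.ge.trans (sup_le (norm_of_le le_sup_right) ?_)
    refine hsup.ge.trans (sup_le (norm_of_le le_sup_left) ?_)
    exact norm_sup (inf_le_left.trans (le_norm_commutator_left H Q)) (norm_of_cent inf_le_right)
  have hn : (O ⊔ (⁅H, Q⁆ ⊔ Q)).Normal := normal_iff_top_le_norm.2 (hG.ge.trans
    (sup_le (norm_of_le le_sup_left) (norm_sup (le_top.trans hOn) hLQ)))
  have hCπ : IsPi (primesOf H) (H ⊓ 𝒞(Q)) := hH.pi.of_le inf_le_left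
  have hcop : (Nat.card ↥(H ⊓ 𝒞(Q))).Coprime (Nat.card ↥(O ⊔ (⁅H, Q⁆ ⊔ Q))) :=
    ((hCπ.coprime hO).mul_right ((hCL.mul_right (hCπ.coprime hQπ)).coprime_dvd_right
      (card_sup_dvd (Or.inr (le_norm_commutator_right H Q))))).coprime_dvd_right
      (card_sup_dvd (Or.inr (le_top.trans hOn)))
  have htop : O ⊔ (⁅H, Q⁆ ⊔ Q) ⊔ H ⊓ 𝒞(Q) = ⊤ := by
    refine top_le_iff.1 (hG.ge.trans (sup_le (le_sup_left.trans le_sup_left) (hQH'.ge.trans
      (sup_le ?_ (hsup.ge.trans (sup_le ?_ le_sup_right))))))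
    · exact (le_sup_right.trans le_sup_right).trans le_sup_left
    · exact (le_sup_left.trans le_sup_right).trans le_sup_left
  have hcompl : (O ⊔ (⁅H, Q⁆ ⊔ Q)).IsComplement' (H ⊓ 𝒞(Q)) := by
    refine isComplement'_of_disjoint_and_mul_eq_univ
      (disjoint_iff.2 (H49.inf_eq_bot_of_coprime hcop.symm)) ?_
    rw [← normal_mul, htop, coe_top]
  exact ⟨hcompl.index_eq_card ▸ hcop, _, hn, hcompl⟩

end Cfsg.Agent.S4151
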