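import Cfsg.Statements.S4157
import Cfsg.Agent.H84.Kulak

set_option autoImplicit false
set_option linter.style.haveILetI false
open Cfsg

namespace Cfsg.Agent.S4157

/-- Let G be a finite p-group of order p^m that is not cyclic and, when p = 2, not of maximal class (nilpotency class m − 1). Then for every 1 ≤ k < m the number of subgroups of G of order p^k is congruent to 1 + p modulo p². -/
theorem result {G : Type*} [Group G] [Finite G] {p : ℕ} [Fact p.Prime] (m : ℕ)
    (hG : Nat.card G = p ^ m) (hnc : ¬ IsCyclic G) (h2 : p = 2 → Group.nilpotencyClass G ≠ m - 1)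
    (k : ℕ) (hk1 : 1 ≤ k) (hk2 : k < m) :
    Nat.card {H : Subgroup G // Nat.card H = p ^ k} ≡ 1 + p [MOD p ^ 2] := by
  have hp : p.Prime := Fact.out
  have hGp : IsPGroup p G := IsPGroup.of_card hG
  have h1 := H84.card_subgroups_add_cyclic k G hGp (hG ▸ pow_dvd_pow p hk2)
  obtain ⟨t, rfl⟩ : ∃ t, k = t + 1 := ⟨k - 1, by omega⟩
  have h3 : p ^ (t + 2) ∣ Nat.card {x : G // orderOf x = p ^ (t + 2)} := by
    by_cases hp2 : p = 2
    · subst hp2
      refine H84.two_pow_dvd_card_orderOf hGp hnc (fun w => ?_) t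
      by_contra h
      exact h2 rfl (H4.nilpotencyClass_eq_of_card_centralizer_le (p := 2) m (by omega) G hG w
        (not_lt.1 h))
    · exact H81.pow_dvd_card_orderOf_eq hp2 hGp hnc (by omega)
  rw [H84.card_orderOf_eq_cyclic, Nat.totient_prime_pow_succ hp, pow_succ' p (t + 1), ← mul_assoc,
    mul_right_comm] at h3
  have h4 := Nat.dvd_of_mul_dvd_mul_right (pow_pos hp.pos _) h3
  have h5 : p.Coprime (p - 1) := by
    have := hp.pos
    rw [show p = (p - 1) + 1 by omega]
    simp
  obtain ⟨c, hc⟩ := h5.dvd_of_dvd_mul_right h4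
  rw [pow_succ' p (t + 1), hc, Nat.cast_mul, ← mul_assoc, H84.mul_self_zmod, zero_mul, add_zero] at h1
  rw [← ZMod.natCast_eq_natCast_iff, h1]
  push_cast
  rfl

end Cfsg.Agent.S4157
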