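import Cfsg.Statements.S4159
import Cfsg.Agent.S0205
import Cfsg.Agent.S0200
import Cfsg.Agent.H83.ClassSize
import Cfsg.Agent.H4.Basic
import Cfsg.Agent.H22.Core
import Cfsg.Agent.H1.Glauberman

set_option autoImplicit false
set_option linter.style.haveILetI false
open Cfsg

namespace Cfsg.Agent.S4159

open Subgroup Cfsg.Agent.H83 Pointwise

theorem no_inv {G : Type*} [Group G] [Finite G]
    (h : ∀ (H : Subgroup G) (x y : H), 1 < cs(x) → 1 < cs(y) → ¬ (cs(x)).Coprime cs(y))
    (x y : G) (hx : Odd (orderOf x)) (hxy : y * x * y⁻¹ = x⁻¹) : x = 1 := by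
  by_contra hx1
  have hxx : x⁻¹ ≠ x := by
    intro h1
    have h2 : x ^ 2 = 1 := by rw [pow_two]; nth_rw 1 [← h1]; simp
    exact hx1 (orderOf_eq_one_iff.1 (Nat.Coprime.eq_one_of_dvd (Nat.coprime_two_right.2 hx)
      (orderOf_dvd_of_pow_eq_one h2)))
  have hn : zpowers y ≤ normalizer ((zpowers x : Subgroup G) : Set G) := by
    refine zpowers_le.2 (H4.mem_normalizer_of_conj_mem ?_)
    rintro _ ⟨k, rfl⟩
    simp only
    rw [← conj_zpow, hxy]
    exact zpow_mem (inv_mem (mem_zpowers x)) k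
  set H := zpowers y ⊔ zpowers x with hH
  have hxH : x ∈ H := mem_sup_right (mem_zpowers x)
  have hyH : y ∈ H := mem_sup_left (mem_zpowers y)
  have hnc : y * x ≠ x * y := fun h1 => hxx (by rw [← hxy, h1, mul_inv_cancel_right])
  have hlt : ∀ a : H, a ∉ center H → 1 < cs(a) := fun a ha =>
    lt_of_le_of_ne (cs_pos a) fun h => ha (cs_eq_one_iff.1 h.symm)
  have hc : ∀ k : ℤ, y ^ k * x * (y ^ k)⁻¹ = x ∨ y ^ k * x * (y ^ k)⁻¹ = x⁻¹ := by
    have hxy' : y * x⁻¹ * y⁻¹ = x := by rw [← conj_inv, hxy, inv_inv]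
    have h3 : y⁻¹ * x * y = x⁻¹ := by
      calc y⁻¹ * x * y = y⁻¹ * (y * x⁻¹ * y⁻¹) * y := by rw [hxy']
        _ = _ := by group
    have h4 : y⁻¹ * x⁻¹ * y = x := by rw [← hxy]; group
    intro k
    induction k using Int.induction_on with
    | zero => simp
    | succ k ih =>
      have : y ^ ((k : ℤ) + 1) * x * (y ^ ((k : ℤ) + 1))⁻¹ = y * (y ^ (k : ℤ) * x * (y ^ (k : ℤ))⁻¹) * y⁻¹ := by
        group
      rw [this]
      rcases ih with h | h <;> rw [h]
      · exact Or.inr hxy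
      · exact Or.inl hxy'
    | pred k ih =>
      have : y ^ (-(k : ℤ) - 1) * x * (y ^ (-(k : ℤ) - 1))⁻¹ =
          y⁻¹ * (y ^ (-(k : ℤ)) * x * (y ^ (-(k : ℤ)))⁻¹) * y := by group
      rw [this]
      rcases ih with h | h <;> rw [h]
      · exact Or.inr h3
      · exact Or.inl h4
  have hdec : ∀ g ∈ H, ∃ (k l : ℤ), g = y ^ k * x ^ l := fun g hg => by
    have hg' : g ∈ (H : Set G) := hg
    rw [hH, coe_mul_of_left_le_normalizer_right _ _ hn] at hg'
    obtain ⟨_, ⟨k, rfl⟩, _, ⟨l, rfl⟩, rfl⟩ := hg'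
    exact ⟨k, l, rfl⟩
  refine h H ⟨x, hxH⟩ ⟨y, hyH⟩ (hlt _ fun hc => hnc (congrArg Subtype.val
    (mem_center_iff.1 hc ⟨y, hyH⟩))) (hlt _ fun hc => hnc (congrArg Subtype.val
    (mem_center_iff.1 hc ⟨x, hxH⟩)).symm) ?_
  have h1 : cs((⟨x, hxH⟩ : H)) ≤ 2 := by
    rw [← card_isConj]
    let f : {z : H // IsConj (⟨x, hxH⟩ : H) z} → ({x, x⁻¹} : Set G) := fun z => ⟨z.1, by
      obtain ⟨g, hg⟩ := isConj_iff.1 z.2
      obtain ⟨k, l, hkl⟩ := hdec g g.2
      have h2 : (z.1 : G) = y ^ k * x * (y ^ k)⁻¹ := by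
        rw [← hg]
        simp only [coe_mul, coe_inv, hkl]
        group
      rw [h2]
      exact hc k⟩
    refine (Nat.card_le_card_of_injective f fun a b hab =>
      Subtype.ext (Subtype.ext (congrArg (fun w : ({x, x⁻¹} : Set G) => (w : G)) hab))).trans ?_
    rw [Nat.card_coe_set_eq]
    exact (Set.ncard_insert_le _ _).trans (by simp)
  have h2 : cs((⟨y, hyH⟩ : H)) ∣ orderOf x := by
    rw [cs_subgroup]
    refine (relIndex_dvd_of_le_left H (zpowers_le_cent y)).trans ?_
    haveI : ((zpowers x).subgroupOf H).Normal :=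
      (normal_subgroupOf_iff_le_normalizer le_sup_right).2 (sup_le hn le_normalizer)
    have h3 := H2.card_sup_mul_card_inf_of_normal ((zpowers y).subgroupOf H) ((zpowers x).subgroupOf H)
    rw [← subgroupOf_sup le_sup_left le_sup_right, subgroupOf_self, card_top,
      H2.card_subgroupOf_of_le le_sup_left, H2.card_subgroupOf_of_le le_sup_right,
      ← ((zpowers y).subgroupOf H).card_mul_index, H2.card_subgroupOf_of_le le_sup_left,
      mul_assoc, Nat.card_zpowers x] at h3
    exact Dvd.intro _ (Nat.eq_of_mul_eq_mul_left Nat.card_pos h3)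
  have h3 := cs_pos (⟨x, hxH⟩ : H)
  have h4 : cs((⟨x, hxH⟩ : H)) ∣ 2 := by
    interval_cases cs((⟨x, hxH⟩ : H)) <;> simp
  exact Nat.Coprime.coprime_dvd_left h4
    (Nat.Coprime.coprime_dvd_right h2 (Nat.coprime_two_left.2 hx))


/-- Let G be a finite group such that in every subgroup H of G, any two conjugacy classes of H of size greater than 1 have non-coprime sizes. Then G is solvable. -/
theorem result {G : Type*} [Group G] [Finite G]
    (h : ∀ (H : Subgroup G) (x y : H), 1 < (Subgroup.centralizer ({x} : Set H)).index → 1 < (Subgroup.centralizer ({y} : Set H)).index →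
      ¬ ((Subgroup.centralizer ({x} : Set H)).index).Coprime (Subgroup.centralizer ({y} : Set H)).index) : Group.IsSolvable G := by
  haveI : Fact (Nat.Prime 2) := ⟨Nat.prime_two⟩
  set O := pCore 2 G with hO
  have hO2 : IsPGroup 2 O := H22.isPGroup_pCore
  have hodd : Odd (Nat.card (G ⧸ O)) := by
    by_contra hev
    obtain ⟨t, ht⟩ := exists_prime_orderOf_dvd_card' (G := G ⧸ O) 2
      (Nat.not_odd_iff_even.1 hev).two_dvd
    obtain ⟨g, hg1, hg, htg⟩ := S0200.result t ht (fun N hN hN2 htN => by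
      have h1 : t ∈ pCore 2 (G ⧸ O) := H22.le_pCore hN hN2 htN
      rw [H22.pCore_quotient_pCore, mem_bot] at h1
      rw [h1, orderOf_one] at ht
      omega)
    obtain ⟨g, rfl⟩ := QuotientGroup.mk_surjective g
    obtain ⟨t, rfl⟩ := QuotientGroup.mk_surjective t
    obtain ⟨k, m, hm, hkm⟩ := Nat.exists_eq_two_pow_mul_odd (orderOf_pos g).ne'
    set x := g ^ 2 ^ k with hx
    have hxo : Odd (orderOf x) := hm.of_dvd_nat (orderOf_dvd_of_pow_eq_one (by
      rw [hx, ← pow_mul, ← hkm, pow_orderOf_eq_one]))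
    have htx : (t : G ⧸ O) * x * (t : G ⧸ O)⁻¹ = (x : G ⧸ O)⁻¹ := by
      rw [hx, QuotientGroup.mk_pow, ← conj_pow, htg, inv_pow]
    obtain ⟨j, hj⟩ := IsPGroup.iff_card.1 hO2
    have hcop : ∀ z : G, Odd (orderOf z) → (Nat.card (zpowers z)).Coprime (Nat.card O) := by
      intro z hz
      rw [hj, Nat.card_zpowers]
      exact (Nat.coprime_two_right.2 hz).pow_right j
    haveI := hO2.isNilpotent
    obtain ⟨n, hn, hn'⟩ := H1.glauberman_fixed (zpowers (t * x * t⁻¹)) O le_normalizer_of_normal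
      (hcop _ (by
        have := (MulAut.conj t).orderOf_eq x
        rw [MulAut.conj_apply] at this
        rwa [this])) (Or.inr inferInstance) (zpowers x) (by
        rintro _ ⟨l, rfl⟩
        refine ⟨(t * x * t⁻¹) ^ l * x ^ l, ?_, ?_⟩
        · rw [← QuotientGroup.eq_one_iff]
          simp only [QuotientGroup.mk_mul, QuotientGroup.mk_zpow, QuotientGroup.mk_inv, htx]
          simp
        · simp only [mul_inv_rev, inv_mul_cancel_right]
          exact inv_mem (zpow_mem (mem_zpowers x) l))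
    have h1 : n⁻¹ * (t * x * t⁻¹) * n * x ∈ zpowers x ⊓ O := by
      refine mem_inf.2 ⟨mul_mem (hn' _ (mem_zpowers _)) (mem_zpowers x), ?_⟩
      rw [← QuotientGroup.eq_one_iff]
      simp [htx, (QuotientGroup.eq_one_iff n).2 hn]
    rw [(disjoint_of_coprime_natCard (hcop x hxo)).eq_bot, mem_bot] at h1
    have h2 := no_inv h x (n⁻¹ * t) hxo (by
      rw [eq_inv_iff_mul_eq_one, ← h1]; group)
    have h3 : (g : G ⧸ O) ^ 2 ^ k = 1 := by
      rw [← QuotientGroup.mk_pow, ← hx, h2, QuotientGroup.mk_one]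
    exact hg1 (orderOf_eq_one_iff.1 (Nat.Coprime.eq_one_of_dvd
      ((Nat.coprime_two_right.2 hg).pow_right k) (orderOf_dvd_of_pow_eq_one h3)))
  haveI := S0205.result hodd
  haveI := hO2.isNilpotent
  exact Group.isSolvable_of_ker_le_range O.subtype (QuotientGroup.mk' O) (by simp)

end Cfsg.Agent.S4159
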