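import Cfsg.Statements.S4161
import Cfsg.Agent.CG.Base

set_option autoImplicit false
open Cfsg

namespace Cfsg.Agent.S4161

open Subgroup Cfsg.Agent.H83 Cfsg.Agent.CG

theorem aux {G : Type*} [Group G] [Finite G] (hG : ¬ Group.IsSolvable G)
    (p q : ℕ) (hp : p.Prime) (hq : q.Prime) (hp' : ∃ x : G, p ∣ cs(x)) (hq' : ∃ x : G, q ∣ cs(x))
    (hn : ∀ x : G, p ∣ cs(x) → ¬ q ∣ cs(x)) (h : Ab G p) :
    ∃ r : ℕ, r.Prime ∧ r ≠ p ∧ r ≠ q ∧ (∃ x : G, p * r ∣ cs(x)) ∧ ∃ y : G, r * q ∣ cs(y) := by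
  have := Fact.mk hp
  have := Fact.mk hq
  by_cases h' : Ab G q
  · obtain ⟨r, hr, h1, h2, ⟨x, h3, h4⟩, y, h5, h6⟩ := h.common h' hp' hq' hn
    exact ⟨r, hr, h1, h2,
      ⟨x, Nat.Coprime.mul_dvd_of_dvd_of_dvd ((Nat.coprime_primes hp hr).2 h1.symm) h3 h4⟩,
      y, Nat.Coprime.mul_dvd_of_dvd_of_dvd ((Nat.coprime_primes hr hq).2 h2) h6 h5⟩
  · have hz : center (commutator G) ≠ ⊤ := by
      intro hz
      refine hG ⟨⟨2, ?_⟩⟩
      rw [derivedSeries_succ, derivedSeries_one, commutator_eq_bot_iff_le_centralizer]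
      intro a ha b hb
      have : (⟨a, ha⟩ : commutator G) ∈ center (commutator G) := hz ▸ mem_top _
      exact congrArg Subtype.val (mem_center_iff.1 this ⟨b, hb⟩)
    obtain ⟨r, hr, h1, x, h2, h3⟩ := h.exists_nb hp' hz
    have := Fact.mk hr
    have h4 : r ≠ p := fun e => h.not_dvd_comm (e ▸ h1)
    have h5 : r ≠ q := fun e => hn x h2 (e ▸ h3)
    refine ⟨r, hr, h4, h5,
      ⟨x, Nat.Coprime.mul_dvd_of_dvd_of_dvd ((Nat.coprime_primes hp hr).2 h4.symm) h2 h3⟩, ?_⟩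
    by_contra hc
    push Not at hc
    rcases ito hr hq h5 hc with h6 | h6
    · exact h6.not_dvd_comm h1
    · exact h' h6

/-- Let G be a finite non-solvable group and p ≠ q primes each dividing the size of some conjugacy class of G. Then either some class size is divisible by pq, or there is a prime r, different from p and q, such that some class size is divisible by pr and some class size is divisible by rq. -/
theorem result {G : Type*} [Group G] [Finite G] (hG : ¬ Group.IsSolvable G)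
    (p q : ℕ) (hp : p.Prime) (hq : q.Prime) (hpq : p ≠ q) (hp' : ∃ x : G, p ∣ (Subgroup.centralizer ({x} : Set G)).index) (hq' : ∃ x : G, q ∣ (Subgroup.centralizer ({x} : Set G)).index) :
    (∃ x : G, p * q ∣ (Subgroup.centralizer ({x} : Set G)).index) ∨ ∃ r : ℕ, r.Prime ∧ r ≠ p ∧ r ≠ q ∧ (∃ x : G, p * r ∣ (Subgroup.centralizer ({x} : Set G)).index) ∧ (∃ y : G, r * q ∣ (Subgroup.centralizer ({y} : Set G)).index) := by
  by_cases hn : ∃ x : G, p * q ∣ cs(x)
  · exact Or.inl hn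
  right
  push Not at hn
  have hn' : ∀ x : G, p ∣ cs(x) → ¬ q ∣ cs(x) := fun x a b =>
    hn x (Nat.Coprime.mul_dvd_of_dvd_of_dvd ((Nat.coprime_primes hp hq).2 hpq) a b)
  rcases ito hp hq hpq hn with h | h
  · exact aux hG p q hp hq hp' hq' hn' h
  · obtain ⟨r, hr, h1, h2, ⟨x, h3⟩, y, h4⟩ := aux hG q p hq hp hq' hp' (fun x a b => hn' x b a) h
    exact ⟨r, hr, h2, h1, ⟨y, mul_comm r p ▸ h4⟩, x, mul_comm q r ▸ h3⟩

end Cfsg.Agent.S4161
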