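import Cfsg.Statements.S4189
import Cfsg.Agent.H4.MaxClass
import Cfsg.Agent.S1896

set_option autoImplicit false
open Cfsg

namespace Cfsg.Agent.S4189

/-- Let P be a finite non-abelian 2-group whose commutator subgroup has index 4 and whose automorphism group is not a 2-group (some automorphism has order that is not a power of 2). Then P is isomorphic to the quaternion group of order 8. -/
theorem result {P : Type*} [Group P] [Finite P] (hP : IsPGroup 2 P) (hna : ¬ IsMulCommutative P) (h4 : (commutator P).index = 4) (haut : ¬ IsPGroup 2 (MulAut P)) : Nonempty (P ≃* QuaternionGroup 2) := by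
  obtain ⟨a, ha⟩ := H4.exists_index_zpowers_eq_two P hP h4
  have hn : (Subgroup.zpowers a).Normal := Subgroup.normal_of_index_eq_two ha
  have : Fact (Nat.Prime 2) := ⟨Nat.prime_two⟩
  rcases S1896.result hP ⟨_, hn, inferInstance, isCyclic_of_prime_card ha⟩ haut with h | ⟨n, ⟨e⟩⟩
  · exact h
  · exact absurd ⟨⟨fun x y => e.injective (by rw [map_mul, map_mul, mul_comm])⟩⟩ hna

end Cfsg.Agent.S4189
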