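import Cfsg.Statements.S4190
import Cfsg.Agent.H12.KgH

set_option autoImplicit false
open Cfsg

namespace Cfsg.Agent.S4190

universe u
open Subgroup H12.KG

theorem six_le {t : ℕ} (h : 10 ≤ t) : t ^ 6 ≤ 1000 * 2 ^ t := by
  induction t, h using Nat.le_induction with
  | base => norm_num
  | succ t h ih =>
    have := Nat.pow_le_pow_left (show 10 * (t + 1) ≤ 11 * t by omega) 6
    rw [mul_pow, mul_pow] at this
    rw [pow_succ 2]
    omega

theorem aux (p : ℕ) [hp : Fact p.Prime] (n : ℕ) : ∀ (G : Type u) [Group G] [Finite G], Nat.card G = n →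
    Group.IsSolvable G → ∀ P : Sylow p G, ¬ (P : Subgroup G).Normal →
      p ≤ Nat.card (ConjClasses G) * (3 * Real.logb 2 p) := by
  have hL : ∀ t : ℕ, 2 ^ t ≤ p ^ 3 → (t : ℝ) ≤ 3 * Real.logb 2 p := fun t h => by
    have := (Real.le_logb_iff_rpow_le (b := 2) (x := t) (y := (p : ℝ) ^ 3) one_lt_two
      (pow_pos (Nat.cast_pos.2 hp.out.pos) 3)).2 (by exact_mod_cast h)
    rwa [Real.logb_pow] at this
  have h3 := hL 3 (Nat.pow_le_pow_left hp.out.two_le 3)
  induction n using Nat.strong_induction_on with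
  | _ n ih =>
  intro G _ _ hn hG P h
  have : Nontrivial G := not_subsingleton_iff_nontrivial.1 fun _ => h ⟨fun a ha g => by rwa [Subsingleton.elim (_ * _) a]⟩
  obtain ⟨N, r, -, hN, h0, hc, -, -, h4⟩ := H2.exists_minimal_normal_of_solvable (G := G)
  by_cases h1 : ¬ ((P : Subgroup G).map (QuotientGroup.mk' N)).Normal
  · exact (ih _ (hn ▸ H19.card_quotient_lt h0) (G ⧸ N) rfl inferInstance
      (P.mapSurjective (QuotientGroup.mk'_surjective N)) h1).trans (mul_le_mul_of_nonneg_right
        (Nat.cast_le.2 (k_le_of_surj _ (QuotientGroup.mk'_surjective N))) (le_trans (by positivity) h3))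
  have h2 := (not_not.1 h1).comap (QuotientGroup.mk' N)
  rw [comap_map_eq, QuotientGroup.ker_mk'] at h2
  obtain ⟨H, V, _, _, _, _, _, _, _, f, hf, hk, hH, hirr, -, a, h6, h7⟩ := exists_lin hG h0 h4
  have h5 := h2.map f hf
  rw [Subgroup.map_sup, (map_eq_bot_iff N).2 (hk ▸ N.le_centralizer), sup_bot_eq] at h5
  have h8 : (P : Subgroup G).map f ≠ ⊥ := fun e => h (normalizer_eq_top_iff.1 (by
    refine eq_top_iff.2 ((P.normalizer_sup_eq_top' (N := (P : Subgroup G) ⊔ N) le_sup_left).ge.trans (sup_le le_rfl ?_))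
    exact sup_le le_normalizer ((le_centralizer_iff.1 (((Subgroup.map_eq_bot_iff _).1 e).trans hk.le)).trans
      (centralizer_le_normalizer _))))
  obtain ⟨Z, s, hs, hZ, h9, h10, h11, h12, h13, -⟩ := H2.exists_minimal_normal_le_of_solvable _ h5 inferInstance h8
  have := Fact.mk hs
  obtain rfl : p = s := by_contra fun e => h9 (disjoint_self.1 (IsPGroup.disjoint_of_ne p s e Z Z
    ((P.2.map f).to_le h10) h12))
  have h14 : 1 < Nat.card V := Finite.one_lt_card
  have h15 : a ≠ 0 := by rintro rfl; omega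
  have h16 : 1 < Nat.card (ConjClasses H) := not_le.1 fun e =>
    ((one_lt_card_iff_ne_bot Z).2 h9).not_ge ((card_le_card_group Z).trans (card_le_one e))
  by_cases h17 : p < 11
  · have : (3 : ℝ) ≤ Nat.card (ConjClasses G) := by exact_mod_cast (by omega : 3 ≤ Nat.card (ConjClasses G))
    have h18 : p ≠ 10 := by rintro rfl; norm_num at hs
    have : (p : ℝ) ≤ 9 := by exact_mod_cast (by omega : p ≤ 9)
    push_cast at h3
    nlinarith
  obtain ⟨t, h18, h19, h20⟩ := elem_bound hH hirr hs (not_lt.1 h17) h9 h11 h13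
  by_cases h21 : 2 ^ t ≤ p ^ 3
  · have h22 : p ≤ Nat.card (ConjClasses G) * t := by
      have := Nat.mul_le_mul_left t (show Nat.card (ConjClasses H) ≤ Nat.card (ConjClasses G) by omega)
      rw [mul_comm]; omega
    exact (Nat.cast_le.2 h22).trans (by push_cast; gcongr; exact hL t h21)
  have h22 := Nat.pow_le_pow_left (not_lt.1 h17) 3
  have h23 : 10 ≤ t := (Nat.pow_le_pow_iff_right one_lt_two).1 (by omega)
  have h24 : (2 : ℚ) ≤ Nat.card V := by exact_mod_cast h14
  have h25 := amgm (B := t ^ 2 * Nat.card V / 2 ^ t) (by positivity) h6 h7 (by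
    rw [div_mul_eq_mul_div, one_le_div (by positivity), mul_assoc]; exact h20 h23)
  rw [div_mul_eq_mul_div, le_div_iff₀ (by positivity)] at h25
  have h26 : 2 * 2 ^ t ≤ t ^ 2 * Nat.card (ConjClasses G) ^ 2 := by
    rw [← Nat.cast_le (α := ℚ)]
    push_cast
    refine le_of_mul_le_mul_left ?_ (show (0 : ℚ) < Nat.card V by positivity)
    nlinarith [show (0 : ℚ) < 2 ^ t by positivity]
  have h27 : p ≤ Nat.card (ConjClasses G) * 9 := not_lt.1 fun e => by
    have e1 : 162 * 2 ^ t ≤ t ^ 2 * p ^ 2 := by nlinarith [Nat.mul_le_mul_left (t ^ 2) (Nat.pow_le_pow_left e.le 2)]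
    have e2 := (Nat.pow_le_pow_left e1 3).trans ((show _ = t ^ 6 * (p ^ 3) ^ 2 by ring).trans_le
      (Nat.mul_le_mul (six_le h23) (Nat.pow_le_pow_left (not_le.1 h21).le 2)))
    have e3 : 0 < (2 ^ t) ^ 3 := by positivity
    generalize 2 ^ t = x at e2 e3
    rw [mul_pow, mul_assoc, ← pow_succ'] at e2
    simp only [Nat.reduceAdd] at e2
    omega
  exact (Nat.cast_le.2 h27).trans (by push_cast; gcongr; exact_mod_cast hL 9 (by omega))

/-- Let G be a finite solvable group and p a prime dividing the index of the Fitting subgroup of G. Then the number of conjugacy classes of G is at least p/(3·log₂ p). -/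
theorem result {G : Type*} [Group G] [Finite G] (hG : Group.IsSolvable G) (p : ℕ) [Fact p.Prime] (hp : p ∣ (Cfsg.fittingSubgroup G).index) : (p : ℝ) / (3 * Real.logb 2 p) ≤ Nat.card (ConjClasses G) := by
  obtain ⟨P⟩ : Nonempty (Sylow p G) := inferInstance
  have h := Real.logb_pos one_lt_two (Nat.one_lt_cast.2 (Fact.out : p.Prime).one_lt)
  exact (div_le_iff₀ (by positivity)).2 (aux p _ G rfl hG P fun h =>
    P.not_dvd_index (hp.trans (index_dvd_of_le (H44.le_fitting h P.2.isNilpotent))))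

end Cfsg.Agent.S4190
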