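import Cfsg.Statements.S4193
import Cfsg.Agent.H6.RealCentral
import Cfsg.Agent.S0205
import Cfsg.Agent.S3861
import Cfsg.Agent.S3863
import Cfsg.Agent.H83.ClassSize
import Cfsg.Agent.H3.PComplement

set_option autoImplicit false
open Cfsg

namespace Cfsg.Agent.S4193

open Cfsg.Agent Subgroup

theorem solvable_of_normal_odd {G : Type*} [Group G] [Finite G] (N : Subgroup G) [N.Normal]
    (h : (IsPGroup 2 N ∧ Odd N.index) ∨ (Odd (Nat.card N) ∧ IsPGroup 2 (G ⧸ N))) :
    Group.IsSolvable G := by
  have h1 : Group.IsSolvable N ∧ Group.IsSolvable (G ⧸ N) := by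
    rcases h with ⟨h1, h2⟩ | ⟨h1, h2⟩
    · have := h1.isNilpotent
      exact ⟨inferInstance, S0205.result h2⟩
    · have := h2.isNilpotent
      exact ⟨S0205.result h1, inferInstance⟩
  have := h1.1
  have := h1.2
  exact Group.isSolvable_of_ker_le_range N.subtype (QuotientGroup.mk' N) (by simp)

/-- Let G be a finite group in which the conjugacy classes of all non-central real elements (elements conjugate to their inverses) have sizes with the same 2-part, and suppose G has a Sylow 2-subgroup S such that every element of S that is conjugate in S to its inverse lies in the centre of S. Then G is solvable and the subgroup generated by the 2-elements of G (the smallest normal subgroup of odd index) has a normal 2-complement. -/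
theorem result {G : Type*} [Group G] [Finite G] (a : ℕ) (h : ∀ x : G, IsConj x x⁻¹ → x ∉ Subgroup.center G → ((Subgroup.centralizer ({x} : Set G)).index).factorization 2 = a) (S : Sylow 2 G) (hS : ∀ s : ↥(S : Subgroup G), IsConj s s⁻¹ → s ∈ Subgroup.center ↥(S : Subgroup G)) : Group.IsSolvable G ∧ Cfsg.HasNormalPComplement 2 ↥(Subgroup.closure {g : G | ∃ k : ℕ, orderOf g = 2 ^ k}) := by
  by_cases ha : a = 0
  · subst ha
    have hn : (S : Subgroup G).Normal := by
      refine (S3861.result S).mp fun x hx1 hodd hreal => ?_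
      have h2 : x ^ 2 = 1 := by
        refine H83.sq_eq_one_of_isConj_inv ?_ hreal
        by_cases hc : x ∈ center G
        · rw [H83.cs_eq_one_iff.mpr hc]; norm_num
        · have := h x hreal hc
          intro hd
          have h3 := Nat.prime_two.factorization_pos_of_dvd (H83.cs_ne_zero x) hd
          omega
      exact hx1 (H82.eq_one_of_pow_coprime (Nat.coprime_two_left.mpr hodd) h2
        (pow_orderOf_eq_one x))
    refine ⟨solvable_of_normal_odd (S : Subgroup G) (Or.inl ⟨S.isPGroup', ?_⟩), ?_⟩
    · exact Nat.not_even_iff_odd.mp fun he => S.not_dvd_index (even_iff_two_dvd.mp he)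
    · refine H3.hasNormalPComplement_of_isPGroup (S.isPGroup'.to_le ?_)
      rw [closure_le]
      rintro g ⟨k, hk⟩
      obtain ⟨P, hP⟩ := H82.exists_sylow_mem hk
      have := Sylow.unique_of_normal S hn
      rwa [Subsingleton.elim P S] at hP
  · have hc : HasNormalPComplement 2 G := by
      refine H6.hasNormalPComplement_of_real_central fun x t hx ht hxt => ?_
      by_contra hxc
      have h1 := h x (isConj_iff.mpr ⟨t, hxt⟩) hxc
      obtain ⟨k, hk⟩ := hx
      obtain ⟨j, hj⟩ := ht
      have h2 : IsPGroup 2 (zpowers x ⊔ zpowers t : Subgroup G) := by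
        refine (H82.isPGroup_zpowers hk).to_sup_of_normal_left' (H82.isPGroup_zpowers hj) ?_
        rw [zpowers_le]
        refine mem_normalizer_fintype ?_
        rintro _ ⟨i, rfl⟩
        rw [← conj_zpow, hxt]
        exact zpow_mem (inv_mem (mem_zpowers x)) i
      obtain ⟨P, hP⟩ := h2.exists_le_sylow
      obtain ⟨g, rfl⟩ := MulAction.exists_smul_eq G P S
      have hmem : ∀ y ∈ (P : Subgroup G), g * y * g⁻¹ ∈ ((g • P : Sylow 2 G) : Subgroup G) :=
        fun y hy => smul_mem_pointwise_smul y (MulAut.conj g) _ hy
      have hxP := hmem x (hP (mem_sup_left (mem_zpowers x)))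
      have htP := hmem t (hP (mem_sup_right (mem_zpowers t)))
      have h3 := hS ⟨_, hxP⟩ (isConj_iff.mpr ⟨⟨_, htP⟩, Subtype.ext (by
        simp only [coe_mul, coe_inv]
        calc _ = g * (t * x * t⁻¹) * g⁻¹ := by group
          _ = _ := by rw [hxt]; group)⟩)
      have h4 : ¬ 2 ∣ (centralizer ({g * x * g⁻¹} : Set G)).index := by
        rw [H83.not_dvd_index_iff]
        refine ⟨g • P, fun y hy => ?_⟩
        rw [H83.mem_cent]
        exact congrArg Subtype.val (mem_center_iff.mp h3 ⟨y, hy⟩)
      rw [H83.cs_conj] at h4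
      exact ha (h1 ▸ Nat.factorization_eq_zero_of_not_dvd h4)
    refine ⟨?_, H3.hasNormalPComplement_subgroup hc _⟩
    obtain ⟨N, hN, h1, k, hk⟩ := H3.hasNormalPComplement_iff_exists_normal.mp hc
    exact solvable_of_normal_odd N (Or.inr ⟨Nat.coprime_two_right.mp h1, IsPGroup.of_card hk⟩)

end Cfsg.Agent.S4193
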