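import Cfsg.Statements.S4194
import Cfsg.Agent.S4355

set_option autoImplicit false
open Cfsg

namespace Cfsg.Agent.S4194

/-- A finite group G has commutative Sylow 2-subgroups if and only if every 2-element of G (element of order a power of 2) is 2-central, that is, its centralizer contains a Sylow 2-subgroup of G. -/
theorem result {G : Type*} [Group G] [Finite G] (P : Sylow 2 G) :
    IsMulCommutative (P : Subgroup G) ↔ ∀ x : G, (∃ k : ℕ, orderOf x = 2 ^ k) → (∃ Q : Sylow 2 G, (Q : Subgroup G) ≤ Subgroup.centralizer ({x} : Set G)) := by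
  constructor
  · rintro hc x ⟨k, hk⟩
    obtain ⟨Q, hQ⟩ := H82.exists_sylow_mem hk
    obtain ⟨g, rfl⟩ := MulAction.exists_smul_eq G P Q
    have hx : g⁻¹ * x * g ∈ (P : Subgroup G) := H2.mem_conj_smul.mp hQ
    refine ⟨g • P, ?_⟩
    intro y hy
    have hy' : g⁻¹ * y * g ∈ (P : Subgroup G) := H2.mem_conj_smul.mp hy
    have := congrArg Subtype.val (hc.is_comm.comm ⟨_, hy'⟩ ⟨_, hx⟩)
    simp only [Subgroup.coe_mul] at this
    rw [H83.mem_cent]
    calc y * x = g * (g⁻¹ * y * g * (g⁻¹ * x * g)) * g⁻¹ := by group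
      _ = x * y := by rw [this]; group
  · intro h
    exact Cfsg.Agent.S4355.result (fun x hx => H83.not_dvd_index_iff.mpr (h x hx)) P

end Cfsg.Agent.S4194
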