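import Cfsg.Statements.S4235
import Cfsg.Agent.H25.CCNilp
import Cfsg.Agent.H44.Cores
import Cfsg.Agent.H8.CCAb
import Cfsg.Agent.S0215
-- import your own Cfsg.Agent.* helpers here

set_option autoImplicit false
open scoped Pointwise
open Cfsg

namespace Cfsg.Agent.S4235

open Subgroup Cfsg.Agent.H69 Cfsg.Agent.H12 Cfsg.Agent.H25 in
/-- Let G be a finite group. Call a subgroup maximal solvable if it is solvable and not properly contained in a solvable subgroup. Suppose F assigns to each maximal solvable subgroup M a normal subgroup F(M) of M such that: every element of M outside F(M) centralizes no non-identity element of F(M); F(M) meets each conjugate g F(M) g⁻¹ with g outside M trivially; and F(M) is nontrivial unless M is abelian. Then G is solvable, or G is isomorphic to SL(2, K) for a finite field K of characteristic 2 with at least 4 elements, or G is isomorphic to a Suzuki group. -/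
theorem result {G : Type*} [Group G] [Finite G] (F : Subgroup G → Subgroup G)
    (h : ∀ M : Subgroup G, (Group.IsSolvable M ∧ ∀ M' : Subgroup G, M < M' → ¬ Group.IsSolvable M') →
      F M ≤ M ∧ M ≤ Subgroup.normalizer (F M : Set G) ∧
      (∀ a ∈ M, a ∉ F M → ∀ x ∈ F M, x * a = a * x → x = 1) ∧
      (∀ g : G, g ∉ M → F M ⊓ (MulAut.conj g • F M) = ⊥) ∧
      (F M ≠ ⊥ ∨ IsMulCommutative M)) :
    Group.IsSolvable G ∨
      (∃ (K : Type) (_ : Field K) (_ : Fintype K), (∃ n : ℕ, 2 ≤ n ∧ Fintype.card K = 2 ^ n) ∧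
        Nonempty (G ≃* Matrix.SpecialLinearGroup (Fin 2) K)) ∨
      Cfsg.Lie.IsoSuzuki G := by
  refine or_iff_not_imp_left.2 fun hG => ?_
  have := Fact.mk Nat.prime_two
  obtain ⟨P⟩ : Nonempty (Sylow 2 G) := inferInstance
  have hS := sylOf_top P
  have hNS : Group.IsSolvable (normalizer (P : Set G)) := by
    have := (normal_subgroupOf_iff_le_normalizer (H := (P : Subgroup G)) le_normalizer).2 le_rfl
    exact solvable_of_normal_of_sylow_le ((P : Subgroup G).subgroupOf _)
      (solvable_of_isPGroup ((isPGroup_subgroupOf_iff le_normalizer).2 P.isPGroup'))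
      (sylOf_top (hS.mono le_normalizer le_top).toSylow) le_rfl
  obtain ⟨M, ⟨hNM, hMs⟩, hmax⟩ := (inferInstance : WellFoundedGT (Subgroup G)).wf.has_min
    {M : Subgroup G | normalizer (P : Set G) ≤ M ∧ Group.IsSolvable M} ⟨_, le_rfl, hNS⟩
  have hM : ∀ M' : Subgroup G, M < M' → ¬ Group.IsSolvable M' := fun M' h1 h2 =>
    hmax M' ⟨hNM.trans h1.le, h2⟩ h1
  obtain ⟨hKM, hMN, hfpf, hTI, hK⟩ := h M ⟨hMs, hM⟩
  have hPM : (P : Subgroup G) ≤ M := le_normalizer.trans hNM
  have hMtop : M ≠ ⊤ := by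
    rintro rfl
    exact hG (Group.isSolvable_of_surjective (f := (⊤ : Subgroup G).subtype) fun x => ⟨⟨x, trivial⟩, rfl⟩)
  have hTI' : ∀ g : G, ∀ x ∈ F M, x ≠ 1 → g⁻¹ * x * g ∈ F M → g ∈ M := by
    intro g x hx hx1 hg
    by_contra hn
    have : x ∈ F M ⊓ MulAut.conj g • F M :=
      ⟨hx, mem_pointwise_smul_iff_inv_smul_mem.2 (by simpa using hg)⟩
    rw [hTI g hn] at this
    exact hx1 this
  have hCC : ∀ x ∈ F M, x ≠ 1 → centralizer ({x} : Set G) ≤ F M := by
    intro x hx hx1 g hg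
    have e := mem_centralizer_singleton_iff.1 hg
    by_contra hn
    exact hx1 (hfpf g (hTI' g x hx hx1 (by rw [mul_assoc, ← e]; simpa using hx)) hn x hx e.symm)
  have hnorm : ∀ A : Subgroup G, A.Normal → A ≤ F M → A = ⊥ := by
    intro A hA hle
    by_contra hA1
    obtain ⟨x, hx⟩ := ne_bot_iff_exists_ne_one.1 hA1
    exact hMtop (eq_top_iff.2 fun g _ => hTI' g x (hle x.2) (fun e => hx (Subtype.ext e))
      (hle (hA.conj_mem' x x.2 g)))
  by_cases hK1 : F M = ⊥
  · exfalso
    have hc := hK.resolve_left (not_not.2 hK1)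
    have hcomp := MonoidHom.ker_transferSylow_isComplement' P (fun g hg =>
      mem_centralizer_iff.2 fun x hx => H2.mul_comm_of_mem hc (hPM hx) (hNM hg))
    generalize_proofs at hcomp
    generalize MonoidHom.transferSylow P _ = f at hcomp
    refine hG (solvable_of_normal_of_quotient f.ker (Cfsg.Agent.S0205.result ?_)
      (solvable_of_isPGroup (p := 2) ?_))
    · rw [← hcomp.index_eq_card]
      exact Nat.not_even_iff_odd.1 fun e => P.not_dvd_index (even_iff_two_dvd.1 e)
    · obtain ⟨k, hk⟩ := IsPGroup.iff_card.1 P.isPGroup'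
      exact IsPGroup.of_card (n := k) (by rw [← hk, ← hcomp.symm.index_eq_card]; rfl)
  by_cases ht : ∃ t ∈ F M, orderOf t = 2
  · obtain ⟨t, htK, ht⟩ := ht
    have hne : F M ≠ M := fun e => hG (solvable_of_frobenius (H := M)
      ⟨e ▸ hK1, hMtop, fun g hg => by have := hTI g hg; rwa [e] at this⟩ hMs)
    obtain ⟨a, haM, haK⟩ := SetLike.exists_of_lt (lt_of_le_of_ne hKM hne)
    obtain ⟨-, hC, hT⟩ := cit_of_cc_nilpotent hG hCC (nilpotent_of_cc hCC (hMN haM) haK) ht htK
      fun hn => hK1 (hnorm _ hn le_rfl)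
    rcases cit_ti_iso hG hC hT with ⟨n, hn, ⟨e⟩⟩ | a
    · let := Fintype.ofFinite (GaloisField 2 n)
      refine Or.inl ⟨GaloisField 2 n, inferInstance, this, ⟨n, hn, ?_⟩, ⟨e.trans
        (H8.nonempty_sl_equiv_psl (GaloisField 2 n) (CharP.cast_eq_zero _ 2)).some.symm⟩⟩
      rw [← Nat.card_eq_fintype_card, GaloisField.card 2 n (by omega)]
    · exact Or.inr a
  exfalso
  push Not at ht
  obtain ⟨x, hx⟩ := ne_bot_iff_exists_ne_one.1 hK1
  have hx1 : (x : G) ≠ 1 := fun e => hx (Subtype.ext e)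
  have hinv : ∀ u ∈ M, orderOf u = 2 → u * x * u⁻¹ = (x : G)⁻¹ := fun u hu hu2 =>
    H71.inverts_of_fpf (mul_self_of_orderOf hu2) (hMN hu) (eq_bot_iff.2 fun y hy =>
      hfpf u hu (fun e => ht u e hu2) y hy.2 (mem_centralizer_singleton_iff.1 hy.1)) x x.2
  obtain ⟨u, huP, hu⟩ := exists_invol_mem P.isPGroup' (hS.ne_bot (by
    rw [card_top]; exact even_iff_two_dvd.1 (even_card_of_not_solvable hG)))
  obtain ⟨N, hN, hNo, hNu⟩ := Cfsg.Agent.S0215.result P u hu huP fun g hg => by
    have hv : orderOf (g * u * g⁻¹) = 2 := by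
      rw [← hu]; exact (orderOf_eq_orderOf_iff.2 fun n => by simp [conj_pow])
    have h1 := hinv _ (hPM hg) hv
    have h2 := hinv _ (hPM huP) hu
    have h3 : u⁻¹ * (g * u * g⁻¹) ∈ F M := hCC x x.2 hx1 (mem_centralizer_singleton_iff.2 (by
      generalize g * u * g⁻¹ = v at h1
      calc u⁻¹ * v * x = u⁻¹ * (v * x * v⁻¹) * v := by group
        _ = _ := by rw [h1, ← h2]; group))
    obtain ⟨k, hk⟩ := isPGroup_iff_mem.1 P.isPGroup' _ (mul_mem (inv_mem huP) hg)
    by_contra hne
    obtain ⟨s, hs, hs2⟩ := exists_invol_pow hk (fun e => hne (inv_mul_eq_one.1 e).symm)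
    exact ht s (zpowers_le_of_mem h3 hs) hs2
  by_cases hN1 : N = ⊥
  · refine ht u (hCC x x.2 hx1 (mem_centralizer_singleton_iff.2 ?_)) hu
    have := hNu x
    rw [hN1, mem_bot] at this
    calc u * x = u * x * u⁻¹ * (x : G)⁻¹ * (x * u) := by group
      _ = _ := by rw [this, one_mul]
  obtain ⟨A, p, -, hA, hA1, -, hAc, -⟩ := H2.exists_minimal_normal_le_of_solvable N hN
    (Cfsg.Agent.S0205.result hNo) hN1
  have hAM : A ≤ M := by
    by_contra hn
    exact hM (A ⊔ M) (lt_of_le_of_ne le_sup_right fun e => hn (e ▸ le_sup_left))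
      (H44.isSolvable_sup_of_le_normalizer (le_top.trans le_normalizer_of_normal)
        (Group.isSolvable_of_comm fun a b => hAc.is_comm.comm a b) hMs)
  obtain ⟨a, ha⟩ := ne_bot_iff_exists_ne_one.1 hA1
  have : ∃ y ∈ A, y ∈ F M ∧ y ≠ 1 := by
    by_cases haK : (a : G) ∈ F M
    · exact ⟨a, a.2, haK, fun e => ha (Subtype.ext e)⟩
    refine ⟨a * x * (a : G)⁻¹ * (x : G)⁻¹, ?_, mul_mem (conj_mem_of_mem_normalizer (hMN (hAM a.2)) x.2)
      (inv_mem x.2), fun e => hx1 (hfpf a (hAM a.2) haK x x.2 ?_)⟩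
    · have := A.mul_mem a.2 (hA.conj_mem _ (A.inv_mem a.2) x)
      simpa [mul_assoc] using this
    · calc (x : G) * a = ((a : G) * x * (a : G)⁻¹ * (x : G)⁻¹)⁻¹ * (a * x) := by group
        _ = _ := by rw [e, inv_one, one_mul]
  obtain ⟨y, hyA, hyK, hy1⟩ := this
  exact hA1 (hnorm A hA fun b hb => hCC y hyK hy1
    (mem_centralizer_singleton_iff.2 (H2.mul_comm_of_mem hAc hb hyA)))

end Cfsg.Agent.S4235
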