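import Cfsg.Statements.S4237
import Cfsg.Agent.H64.SubSq
import Cfsg.Agent.S4157

set_option autoImplicit false
open Cfsg

namespace Cfsg.Agent.S4237

/-- Let G be a finite group, p a prime and a a natural number such that p^(a+1) divides the order of G. Then the number of subgroups of G of order p^a is congruent to 1 or to 1 + p modulo p². -/
theorem result {G : Type*} [Group G] [Finite G] (p a : ℕ) (hp : p.Prime) (hdvd : p ^ (a + 1) ∣ Nat.card G) :
    Nat.card {H : Subgroup G // Nat.card H = p ^ a} ≡ 1 [MOD p ^ 2] ∨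
      Nat.card {H : Subgroup G // Nat.card H = p ^ a} ≡ 1 + p [MOD p ^ 2] := by
  have := Fact.mk hp
  by_cases h2 : p = 2
  · subst h2
    have := H81.card_subgroups_modEq_one ((pow_dvd_pow 2 a.le_succ).trans hdvd)
    unfold Nat.ModEq at *
    omega
  rcases a.eq_zero_or_pos with rfl | ha
  · left
    rw [Nat.card_eq_one_iff_exists.2 ⟨⟨⊥, by simp⟩, fun y => Subtype.ext (Subgroup.card_eq_one.1 y.2)⟩]
  obtain ⟨S⟩ : Nonempty (Sylow p G) := inferInstance
  have e := H81.card_add_card_not (fun H : Subgroup G => Nat.card H = p ^ a) (fun H => H ≤ S)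
  have d := S.pow_dvd_card_of_pow_dvd_card hdvd
  have k : Nat.card {H : Subgroup G // Nat.card H = p ^ a} ≡
      Nat.card {H : Subgroup S // Nat.card H = p ^ a} [MOD p ^ 2] := by
    rw [← e, H64.card_le_eq]
    exact Nat.ModEq.add_left _ ((Nat.modEq_zero_iff_dvd).2 (H64.sq_dvd_card_not_le S hdvd))
  by_cases hc : IsCyclic S
  · refine Or.inl (k.trans ?_)
    have h1 := H84.card_subgroups_add_cyclic a S S.isPGroup' d
    rw [Nat.card_congr (Equiv.subtypeEquivRight (q := fun H : Subgroup S => Nat.card H = p ^ (a + 1))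
      fun H => and_iff_right (Subgroup.isCyclic H))] at h1
    have h3 := H81.card_subgroups_modEq_one d
    rw [← Nat.div_add_mod (Nat.card {H : Subgroup S // Nat.card H = p ^ (a + 1)}) p, h3,
      Nat.mod_eq_of_lt hp.one_lt, Nat.cast_add, Nat.cast_mul, mul_add, ← mul_assoc, H84.mul_self_zmod,
      zero_mul, zero_add, Nat.cast_one, mul_one, add_left_inj] at h1
    rw [← ZMod.natCast_eq_natCast_iff, h1, Nat.cast_one]
  · obtain ⟨m, hm⟩ := IsPGroup.iff_card.1 S.isPGroup'
    exact Or.inr (k.trans (S4157.result m hm hc (fun h => absurd h h2) a ha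
      ((Nat.pow_dvd_pow_iff_le_right hp.one_lt).1 (hm ▸ d))))


end Cfsg.Agent.S4237
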