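import Cfsg.Statements.S4240
import Cfsg.Agent.H84.InvAct
import Cfsg.Agent.H84.OddCoprime

set_option autoImplicit false
set_option linter.style.haveILetI false
open Cfsg

namespace Cfsg.Agent.S4240

open Subgroup Cfsg.Agent.H84 Cfsg.Agent.H4

universe u

theorem aux {A : Type*} [Group A] [Finite A] (n : ℕ) : ∀ (G : Type u) [Group G] [Finite G]
    [MulDistribMulAction A G], Nat.card G = n → (Nat.card A).Coprime (Nat.card G) →
    (∀ H : Subgroup G, H ≠ ⊤ → AInv A H → Group.IsNilpotent H) → Group.IsSolvable G := by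
  induction n using Nat.strong_induction_on with
  | _ n ih =>
  intro G _ _ _ hn hcop h
  by_cases hN : ∃ N : Subgroup G, N.Normal ∧ AInv A N ∧ N ≠ ⊥ ∧ N ≠ ⊤
  · obtain ⟨N, hN, hNi, h0, h1⟩ := hN
    haveI := h N h1 hNi
    letI := H85.quotAction N hNi
    haveI := ih _ (hn ▸ H19.card_quotient_lt h0) (G ⧸ N) rfl
      (hcop.coprime_dvd_right (card_quotient_dvd_card N)) fun H hH hHi => by
        haveI := h _ (fun h' => hH (by
          rw [← map_comap_eq_self_of_surjective (QuotientGroup.mk'_surjective N) H, h',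
            map_top_of_surjective _ (QuotientGroup.mk'_surjective N)])) (hNi.comap_mk hHi)
        rw [← map_comap_eq_self_of_surjective (QuotientGroup.mk'_surjective N) H]
        exact Group.nilpotent_of_surjective _ (MonoidHom.subgroupMap_surjective _ _)
    exact Group.isSolvable_of_ker_le_range N.subtype (QuotientGroup.mk' N) (by simp)
  push Not at hN
  by_cases h2 : IsPGroup 2 G
  · haveI : Fact (Nat.Prime 2) := ⟨Nat.prime_two⟩
    haveI := h2.isNilpotent
    infer_instance
  obtain ⟨p, hp, hpG, hp2⟩ : ∃ p : ℕ, p.Prime ∧ p ∣ Nat.card G ∧ p ≠ 2 := by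
    by_contra! h3
    haveI : Fact (Nat.Prime 2) := ⟨Nat.prime_two⟩
    exact h2 (IsPGroup.iff_card.2 ⟨_, Nat.eq_prime_pow_of_unique_prime_dvd Nat.card_pos.ne'
      (fun {d} hd hd' => h3 d hd hd')⟩)
  haveI := Fact.mk hp
  suffices hpG : IsPGroup p G by
    haveI := hpG.isNilpotent
    infer_instance
  obtain ⟨P, hP⟩ := H85.exists_invariant_sylow hcop (solvable_or_of_coprime hcop) p
  have hZi := AInv.centerThompsonOf (A := A) hP p
  by_cases hM : normalizer (centerThompsonOf p (P : Subgroup G) : Set G) = ⊤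
  · have h3 := hN _ (normalizer_eq_top_iff.1 hM) hZi
      (centerThompsonOf_ne_bot P.isPGroup' (P.ne_bot_of_dvd_card hpG))
    have h4 := P.isPGroup'.to_le (centerThompsonOf_le p _)
    rw [h3] at h4
    exact h4.of_equiv topEquiv
  haveI := h _ hM hZi.normalizer
  have h3 := H3.hasNormalPComplement_iff_coprime.1
    ((S0117.result hp2 P).2 H3.hasNormalPComplement_of_isNilpotent)
  by_cases hK0 : pResidual p G = ⊥
  · have h4 : IsPGroup p (G ⧸ pResidual p G) := H3.isPGroup_quotient_pResidual
    exact h4.of_injective (QuotientGroup.mk' _)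
      (by rw [← MonoidHom.ker_eq_bot_iff, QuotientGroup.ker_mk', hK0])
  rw [hN _ inferInstance (aInv_pResidual p) hK0, card_top] at h3
  exact absurd hpG ((Nat.Prime.coprime_iff_not_dvd hp).1 h3.symm)


/-- Let a finite group A act by automorphisms on a finite group G of order coprime to that of A. Suppose every maximal A-invariant proper subgroup of G is nilpotent while G is not. Then G is solvable, the order of G has the form p^a·q^b for two distinct primes p and q, and G has a normal A-invariant Sylow subgroup for some prime dividing its order. -/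
theorem result {A G : Type*} [Group A] [Group G] [Finite A] [Finite G] [MulDistribMulAction A G]
    (hcop : (Nat.card A).Coprime (Nat.card G))
    (hmax : ∀ H : Subgroup G, H ≠ ⊤ → (∀ a : A, ∀ x ∈ H, a • x ∈ H) →
      (∀ K : Subgroup G, H < K → (∀ a : A, ∀ x ∈ K, a • x ∈ K) → K = ⊤) → Group.IsNilpotent H)
    (hG : ¬ Group.IsNilpotent G) :
    Group.IsSolvable G ∧
      (∃ p q a b : ℕ, p.Prime ∧ q.Prime ∧ p ≠ q ∧ Nat.card G = p ^ a * q ^ b) ∧
      ∃ (p : ℕ) (P : Sylow p G), p.Prime ∧ p ∣ Nat.card G ∧ (P : Subgroup G).Normal ∧ (∀ a : A, ∀ x ∈ (P : Subgroup G), a • x ∈ (P : Subgroup G)) := by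
  have h : ∀ H : Subgroup G, H ≠ ⊤ → AInv A H → Group.IsNilpotent H := by
    intro H hH hHi
    obtain ⟨K, hHK, hK, hKmax⟩ := Finite.exists_le_maximal
      (p := fun K : Subgroup G => K ≠ ⊤ ∧ AInv A K) (a := H) ⟨hH, hHi⟩
    haveI := hmax K hK.1 hK.2 fun L hKL hL => by
      by_contra hL'
      exact hKL.not_ge (hKmax ⟨hL', hL⟩ hKL.le)
    exact Group.nilpotent_of_mulEquiv (subgroupOfEquivOfLe hHK)
  haveI hs := aux _ G rfl hcop h
  refine ⟨hs, ?_⟩
  haveI : Nontrivial G := by
    by_contra h1
    rw [not_nontrivial_iff_subsingleton] at h1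
    exact hG inferInstance
  obtain ⟨q, hq, hqd⟩ := Nat.exists_prime_and_dvd (n := (commutator G).index) (fun h1 =>
    (Group.IsSolvable.commutator_lt_top_of_nontrivial G).ne (index_eq_one.1 h1))
  haveI := Fact.mk hq
  have hO : pResidual q G ≠ ⊤ := by
    intro h1
    have h2 : pResidual q (G ⧸ commutator G) = ⊤ := by
      rw [← H3.map_pResidual_of_surjective (QuotientGroup.mk' _) (QuotientGroup.mk'_surjective _), h1,
        map_top_of_surjective _ (QuotientGroup.mk'_surjective _)]
    letI : CommGroup (G ⧸ commutator G) := inferInstanceAs (CommGroup (Abelianization G))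
    have h3 := H3.hasNormalPComplement_iff_coprime.1
      (H3.hasNormalPComplement_of_isNilpotent (p := q) (G := G ⧸ commutator G))
    rw [h2, card_top] at h3
    exact absurd hqd ((Nat.Prime.coprime_iff_not_dvd hq).1 h3.symm)
  haveI := h _ hO (aInv_pResidual q)
  have hnormal : ∀ (p : ℕ) [Fact p.Prime] (P : Sylow p G), p ≠ q → (P : Subgroup G).Normal := by
    intro p hp P hpq
    have h1 : (P : Subgroup G) ≤ pResidual q G := fun x hx => by
      obtain ⟨k, hk⟩ := IsPGroup.iff_orderOf.1 P.isPGroup' ⟨x, hx⟩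
      rw [← orderOf_coe] at hk
      exact H3.mem_pResidual_of_coprime (by
        rw [hk]; exact ((Nat.coprime_primes hp.out hq).2 hpq).pow_left k)
    have h2 := IsSylowIn.of_sylow_le P h1
    rw [← normalizer_eq_top_iff, eq_top_iff]
    intro g _
    obtain ⟨n, hn, hng⟩ := h2.frattini (g := g) (by rw [normalizer_eq_top]; trivial)
    exact (mul_mem_cancel_left (le_normalizer_of_sylowIn_nilpotent h2 hn)).1 hng
  have hinv : ∀ (p : ℕ) [Fact p.Prime] (P : Sylow p G), p ≠ q → AInv A (P : Subgroup G) := by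
    intro p hp P hpq
    haveI := hnormal p P hpq
    haveI := P.characteristic_of_normal this
    exact H85.smul_mem_of_characteristic _
  obtain ⟨Q, hQ⟩ := H85.exists_invariant_sylow hcop (Or.inr hs) q
  have key : ∃ (p : ℕ) (_ : Fact p.Prime) (P : Sylow p G), p ≠ q ∧
      (Q : Subgroup G) ⊔ (P : Subgroup G) = ⊤ := by
    by_contra! h1
    have h2 : (Q : Subgroup G).Normal := by
      rw [← normalizer_eq_top_iff, ← index_eq_one]
      refine Nat.eq_one_iff_not_exists_prime_dvd.2 fun p hp hd => ?_
      haveI := Fact.mk hp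
      by_cases hpq : p = q
      · subst hpq
        exact Q.not_dvd_index (hd.trans (index_dvd_of_le le_normalizer))
      · obtain ⟨P⟩ : Nonempty (Sylow p G) := inferInstance
        haveI := h _ (h1 p this P hpq) (AInv.sup hQ (hinv p P hpq))
        exact P.not_dvd_index (hd.trans (index_dvd_of_le (le_sup_right.trans
          (le_normalizer_of_sylowIn_nilpotent (IsSylowIn.of_sylow_le Q le_sup_left)))))
    refine hG (((Group.isNilpotent_of_finite_tfae (G := G)).out 0 3 rfl rfl).2 fun p hp P => ?_)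
    by_cases hpq : p = q
    · subst hpq
      haveI := Sylow.unique_of_normal Q h2
      rwa [Subsingleton.elim P Q]
    · exact hnormal p P hpq
  obtain ⟨p, hp, P, hpq, hQP⟩ := key
  haveI := hnormal p P hpq
  obtain ⟨a, ha⟩ := IsPGroup.iff_card.1 P.isPGroup'
  obtain ⟨b, hb⟩ := IsPGroup.iff_card.1 Q.isPGroup'
  have hc := H2.card_sup_mul_card_inf_of_normal (Q : Subgroup G) (P : Subgroup G)
  rw [hQP, card_top, disjoint_iff.1 (IsPGroup.disjoint_of_ne q p (Ne.symm hpq) _ _ Q.isPGroup'
    P.isPGroup'), card_bot, mul_one, ha, hb, mul_comm] at hc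
  refine ⟨⟨p, q, a, b, hp.out, hq, hpq, hc⟩, p, P, hp.out, ?_, this, hinv p P hpq⟩
  rcases a with _ | a
  · rw [pow_zero, one_mul] at hc
    exact absurd (IsPGroup.of_card hc).isNilpotent hG
  · rw [hc]
    exact Dvd.dvd.mul_right (dvd_pow_self p (Nat.succ_ne_zero a)) _

end Cfsg.Agent.S4240
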