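import Cfsg.Statements.S4241
import Cfsg.Agent.S4240
import Cfsg.Agent.S2756
import Cfsg.Agent.S0659
import Cfsg.Agent.H23.ZJ

set_option autoImplicit false
open Cfsg

namespace Cfsg.Agent.S4241

open Subgroup
open scoped Pointwise

universe u

theorem aInv_zj {A G : Type*} [Group A] [Group G] [Finite G] [MulDistribMulAction A G]
    {H : Subgroup G} (h : H84.AInv A H) : H84.AInv A (H23.zj 0 H) :=
  H84.aInv_of_map_le fun a => by
    rw [← H23.zj_map (f := MulDistribMulAction.toMonoidHom G a) (MulAction.injective a), h.map_eq]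

theorem solvable_of_sup {A G : Type*} [Group A] [Finite A] [Group G] [Finite G]
    [MulDistribMulAction A G] (hcop : (Nat.card A).Coprime (Nat.card G)) (N P : Subgroup G)
    [N.Normal] (hN : H84.AInv A N) (hP : H84.AInv A P) (hc : (Nat.card P).Coprime (Nat.card N))
    (h : ∀ H : Subgroup G, H ≠ ⊤ → H84.AInv A H → P ≤ H → Group.IsNilpotent H) :
    Group.IsSolvable N := by
  letI := H85.subAction P hP
  letI := H85.subAction N hN
  let f : H85.SD A P →* MulAut N := SemidirectProduct.lift (MulAut.conjNormal.comp P.subtype)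
    (MulDistribMulAction.toMulAut A N) fun a => by
      ext x n
      change a • (x : G) * n * (a • (x : G))⁻¹ = a • ((x : G) * a⁻¹ • (n : G) * (x : G)⁻¹)
      simp [smul_mul', smul_inv']
  letI : MulDistribMulAction (H85.SD A P) N := MulDistribMulAction.compHom N f
  haveI : Finite (H85.SD A P) := H85.finite_SD
  refine S4240.aux (A := H85.SD A P) _ N rfl ?_ fun L hL hLi => ?_
  · rw [SemidirectProduct.card]
    exact hc.mul_left (hcop.coprime_dvd_right (card_subgroup_dvd_card N))
  have hA : H84.AInv A (L.map N.subtype) := by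
    rintro a _ ⟨x, hx, rfl⟩
    exact ⟨_, hLi (SemidirectProduct.inr a) x hx, by
      change ((f (SemidirectProduct.inr a) x : N) : G) = _
      simp only [f, SemidirectProduct.lift_inr]; rfl⟩
  have hPn : P ≤ normalizer (L.map N.subtype : Set G) := by
    intro y hy
    refine mem_normalizer_fintype ?_
    rintro _ ⟨x, hx, rfl⟩
    exact ⟨_, hLi (SemidirectProduct.inl ⟨y, hy⟩) x hx, by
      change ((f (SemidirectProduct.inl ⟨y, hy⟩) x : N) : G) = _
      simp [f]⟩
  haveI := h (P ⊔ L.map N.subtype) (fun e => hL (eq_top_iff.2 fun n _ => ?_)) (hP.sup hA)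
    le_sup_left
  · haveI := Group.nilpotent_of_mulEquiv
      (subgroupOfEquivOfLe (le_sup_right : L.map N.subtype ≤ P ⊔ L.map N.subtype))
    exact Group.nilpotent_of_mulEquiv (L.equivMapOfInjective N.subtype N.subtype_injective).symm
  · have hn : (n : G) ∈ ((P ⊔ L.map N.subtype : Subgroup G) : Set G) := e ▸ mem_top _
    rw [coe_mul_of_left_le_normalizer_right _ _ hPn] at hn
    obtain ⟨y, hy, _, ⟨l, hl, rfl⟩, e⟩ := hn
    have hyN : y ∈ P ⊓ N := ⟨hy, by
      have : y = n * (l : G)⁻¹ := eq_mul_inv_of_mul_eq e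
      rw [this]; exact N.mul_mem n.2 (N.inv_mem l.2)⟩
    rw [disjoint_iff.1 (disjoint_of_coprime_natCard hc), mem_bot] at hyN
    have : l = n := Subtype.ext (by simpa [hyN] using e)
    exact this ▸ hl

theorem aux {A : Type*} [Group A] [Finite A] {p : ℕ} (hp : p.Prime) (n : ℕ) :
    ∀ (G : Type u) [Group G] [Finite G] [MulDistribMulAction A G], Nat.card G = n →
    (Nat.card A).Coprime (Nat.card G) → p ∣ Nat.card G →
    (∀ H : Subgroup G, H ≠ ⊤ → H84.AInv A H → p ∣ Nat.card H → Group.IsNilpotent H) →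
    Group.IsSolvable G := by
  induction n using Nat.strong_induction_on with
  | _ n ih =>
  intro G _ _ _ hn hcop hpG h
  haveI := Fact.mk hp
  by_cases hN : ∃ N : Subgroup G, N.Normal ∧ H84.AInv A N ∧ N ≠ ⊥ ∧ N ≠ ⊤
  · obtain ⟨N, hN, hNi, h0, h1⟩ := hN
    letI := H85.quotAction N hNi
    have hs := QuotientGroup.mk'_surjective N
    have hq : ∀ H : Subgroup (G ⧸ N), H ≠ ⊤ → H84.AInv A H →
        p ∣ Nat.card (H.comap (QuotientGroup.mk' N)) → Group.IsNilpotent H := by
      intro H hH hHi hd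
      haveI := h _ (fun h' => hH (by
        rw [← map_comap_eq_self_of_surjective hs H, h', map_top_of_surjective _ hs]))
        (hNi.comap_mk hHi) hd
      rw [← map_comap_eq_self_of_surjective hs H]
      exact Group.nilpotent_of_surjective _ (MonoidHom.subgroupMap_surjective _ _)
    have hcq := hcop.coprime_dvd_right (card_quotient_dvd_card N)
    suffices Group.IsSolvable N ∧ Group.IsSolvable (G ⧸ N) by
      obtain ⟨_, _⟩ := this
      exact Group.isSolvable_of_ker_le_range N.subtype (QuotientGroup.mk' N) (by simp)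
    by_cases hpN : p ∣ Nat.card N
    · haveI := h N h1 hNi hpN
      exact ⟨inferInstance, S4240.aux _ (G ⧸ N) rfl hcq fun H hH hHi =>
        hq H hH hHi (hpN.trans (card_dvd_of_le (QuotientGroup.le_comap_mk' N H)))⟩
    · obtain ⟨P, hP⟩ := H85.exists_invariant_sylow hcop (H84.solvable_or_of_coprime hcop) p
      obtain ⟨k, hk⟩ := IsPGroup.iff_card.1 P.isPGroup'
      refine ⟨solvable_of_sup hcop N P hNi hP
        (hk ▸ ((Nat.Prime.coprime_iff_not_dvd hp).2 hpN).pow_left k) fun H hH hHi hPH =>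
          h H hH hHi ((P.dvd_card_of_dvd_card hpG).trans (card_dvd_of_le hPH)), ?_⟩
      refine ih _ (hn ▸ H2.card_quotient_lt N h0) (G ⧸ N) rfl hcq ?_ fun H hH hHi hd =>
        hq H hH hHi (hd.trans ?_)
      · rw [card_eq_card_quotient_mul_card_subgroup N] at hpG
        exact (hp.dvd_mul.1 hpG).resolve_right hpN
      · conv_lhs => rw [← map_comap_eq_self_of_surjective hs H]
        exact card_dvd_of_surjective _ (MonoidHom.subgroupMap_surjective _ _)
  push Not at hN
  by_contra hG
  have npg : ∀ (q : ℕ) [Fact q.Prime], ¬ IsPGroup q G := fun q _ hq => by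
    haveI := hq.isNilpotent
    exact hG inferInstance
  have npt : ∀ (q : ℕ) [Fact q.Prime] (Q : Subgroup G), IsPGroup q Q → Q ≠ ⊤ := by
    rintro q _ _ hQ rfl
    exact npg q (hQ.of_equiv topEquiv)
  have key : ∀ (q : ℕ) [Fact q.Prime], q ≠ 2 → q ∣ Nat.card G → ∀ T : Sylow q G,
      ¬ p ∣ Nat.card (normalizer (centerThompsonAOf (T : Subgroup G) : Set G)) := by
    intro q hq hq2 hqG T hd
    obtain ⟨P, hP⟩ := H85.exists_invariant_sylow hcop (H84.solvable_or_of_coprime hcop) q
    obtain ⟨g, rfl⟩ := MulAction.exists_smul_eq G P T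
    have hZi := aInv_zj (A := A) hP
    have e : centerThompsonAOf ((g • P : Sylow q G) : Subgroup G) =
        MulAut.conj g • H23.zj 0 (P : Subgroup G) := by
      rw [H23.centerThompsonAOf_eq, H2.conj_smul_eq_map,
        ← H23.zj_map (f := (MulAut.conj g).toMonoidHom) (MulAut.conj g).injective]
      rfl
    rw [e, H2.normalizer_conj_smul, H2.card_conj_smul] at hd
    have h3 := h _ (fun hM => npt q _ (P.isPGroup'.to_le (H23.zj_le 0 _))
      (hN _ (normalizer_eq_top_iff.1 hM) hZi
        (H23.zj_ne_bot (dvd_zero q) P.isPGroup' (P.ne_bot_of_dvd_card hqG)))) hZi.normalizer hd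
    rw [← H23.centerThompsonAOf_eq] at h3
    have h4 := H3.hasNormalPComplement_iff_coprime.1
      (S0659.result hq2 P H3.hasNormalPComplement_of_isNilpotent)
    by_cases hK0 : pResidual q G = ⊥
    · have h5 : IsPGroup q (G ⧸ pResidual q G) := H3.isPGroup_quotient_pResidual
      exact npg q (h5.of_injective (QuotientGroup.mk' _)
        (by rw [← MonoidHom.ker_eq_bot_iff, QuotientGroup.ker_mk', hK0]))
    rw [hN _ inferInstance (H84.aInv_pResidual q) hK0, card_top] at h4
    exact absurd hqG ((Nat.Prime.coprime_iff_not_dvd hq.out).1 h4.symm)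
  obtain ⟨P⟩ : Nonempty (Sylow p G) := inferInstance
  obtain rfl : p = 2 := by
    by_contra hp2
    refine key p hp2 hpG P ((P.dvd_card_of_dvd_card hpG).trans (card_dvd_of_le ?_))
    rw [H23.centerThompsonAOf_eq]
    exact le_normalizer.trans (H23.normalizer_le_normalizer_zj 0 _)
  have hPn : (P : Subgroup G).Normal := (S2756.result (G := G)).1.2 (fun q _ hq2 hqG T Q => by
    obtain ⟨k, hk⟩ := IsPGroup.iff_card.1 Q.isPGroup'
    have : (Q : Subgroup (normalizer (centerThompsonAOf (T : Subgroup G) : Set G))) = ⊥ := by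
      rcases k with _ | k
      · exact eq_bot_of_card_eq _ hk
      · exact absurd ((hk ▸ dvd_pow_self 2 k.succ_ne_zero).trans (card_subgroup_dvd_card _))
          (key q hq2 hqG T)
    rw [this]; infer_instance) P
  haveI := P.characteristic_of_normal hPn
  exact npt 2 _ P.isPGroup' (hN _ hPn (H85.smul_mem_of_characteristic _)
    (P.ne_bot_of_dvd_card hpG))

theorem result {A G : Type*} [Group A] [Group G] [Finite A] [Finite G] [MulDistribMulAction A G]
    (hcop : (Nat.card A).Coprime (Nat.card G)) (p : ℕ) (hp : p.Prime) (hpG : p ∣ Nat.card G)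
    (hmax : ∀ H : Subgroup G, H ≠ ⊤ → (∀ a : A, ∀ x ∈ H, a • x ∈ H) →
      (∀ K : Subgroup G, H < K → (∀ a : A, ∀ x ∈ K, a • x ∈ K) → K = ⊤) → p ∣ Nat.card H → Group.IsNilpotent H) :
    Group.IsSolvable G := by
  refine aux hp _ G rfl hcop hpG fun H hH hHi hd => ?_
  obtain ⟨K, hHK, hK, hKmax⟩ := Finite.exists_le_maximal
    (p := fun K : Subgroup G => K ≠ ⊤ ∧ H84.AInv A K) (a := H) ⟨hH, hHi⟩
  haveI := hmax K hK.1 hK.2 (fun L hKL hL => by
    by_contra hL'
    exact hKL.not_ge (hKmax ⟨hL', hL⟩ hKL.le)) (hd.trans (Subgroup.card_dvd_of_le hHK))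
  exact Group.nilpotent_of_mulEquiv (Subgroup.subgroupOfEquivOfLe hHK)

end Cfsg.Agent.S4241
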