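import Cfsg.Statements.S4258
import Cfsg.Agent.BR.S1
import Cfsg.Agent.BR.S2

set_option autoImplicit false
open Cfsg

namespace Cfsg.Agent.S4258

/-- Let G be a finite 2-soluble group whose Sylow 2-subgroups have exponent dividing 2^e. Then the 2-length of G is at most e. -/
theorem result {G : Type*} [Group G] [Finite G] (hG : Cfsg.IsPSolvable 2 G) (e : ℕ)
    (hexp : ∀ (P : Sylow 2 G), ∀ x ∈ (P : Subgroup G), x ^ 2 ^ e = 1) : Cfsg.PLengthLE 2 e G := by
  have he := H79.pExp_of_sylow hexp
  cases e with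
  | zero => exact he.pLength_zero
  | succ e =>
    haveI := BR.solvable_of_two hG
    obtain ⟨G₁, _, _, π, hπ, hr, hc⟩ := H79.exists_red hG
    obtain ⟨Ψ, hΨ⟩ := H79.exists_baseChange (ZMod 2) (H21.EA _ hr.ea)
    haveI := solvable_of_surjective hπ
    refine H79.pLength_succ_of_red hc (BR.lin e _ _ (Ψ.toMonoidHom.comp hr.rep)
      (hΨ.comp hr.rep_injective) inferInstance H22.pCore_quotient_pCore fun x hx => ?_)
    have := hr.norm_eq_zero (he.of_surjective π hπ) x hx
    rw [← H79.geom_sum_char (K := ZMod 2)] at this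
    simpa using congrArg Ψ this

end Cfsg.Agent.S4258
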