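import Cfsg.Statements.S4259
import Cfsg.Agent.BR.D7
import Cfsg.Agent.BR.S2

set_option autoImplicit false
open Cfsg

namespace Cfsg.Agent.S4259

/-- Let G be a finite 2-soluble group whose Sylow 2-subgroups have derived length at most d. Then the 2-length of G is at most d. -/
theorem result {G : Type*} [Group G] [Finite G] (hG : Cfsg.IsPSolvable 2 G) (d : ℕ)
    (hd : ∀ P : Sylow 2 G, derivedSeries (P : Subgroup G) d = ⊥) : Cfsg.PLengthLE 2 d G := by
  have he : ∀ T : Subgroup G, IsPGroup 2 T → H79.dS T d = ⊥ := fun T hT => by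
    obtain ⟨P, hP⟩ := hT.exists_le_sylow
    exact le_bot_iff.1 ((H79.dS_mono hP d).trans (H79.dS_eq_bot_iff.2 (hd P)).le)
  cases d with
  | zero =>
    refine H79.PExp.pLength_zero (H79.pExp_of_sylow fun P x hx => ?_)
    simpa using (he _ P.2).le hx
  | succ e =>
    haveI := BR.solvable_of_two hG
    obtain ⟨G₁, _, _, π, hπ, hr, hc⟩ := H79.exists_red hG
    obtain ⟨Ψ, hΨ⟩ := H79.exists_baseChange (ZMod 2) (H21.EA _ hr.ea)
    haveI := solvable_of_surjective hπ
    refine H79.pLength_succ_of_red hc (BR.lin' e _ _ (Ψ.toMonoidHom.comp hr.rep)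
      (hΨ.comp hr.rep_injective) inferInstance H22.pCore_quotient_pCore fun T hT => ?_)
    refine (BR.Red.van hr (fun S hS => ?_) T hT).ring (R' := Module.End (AlgebraicClosure (ZMod 2))
      (TensorProduct (ZMod 2) (AlgebraicClosure (ZMod 2)) (H21.EA _ hr.ea))) Ψ.toRingHom
    obtain ⟨S', h1, h2⟩ := H79.exists_pgroup_map_eq π hπ hS
    refine le_bot_iff.1 ((H79.dS_mono h2 _).trans ?_)
    rw [← H79.map_dS, he S' h1, Subgroup.map_bot]

end Cfsg.Agent.S4259
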