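import Cfsg.Statements.S4262
import Cfsg.Agent.H84.NilMax

set_option autoImplicit false
set_option linter.style.haveILetI false
open Cfsg

namespace Cfsg.Agent.S4262

open Subgroup Cfsg.Agent.H84
open scoped IsMulCommutative

universe u

theorem aux (n : ℕ) : ∀ (G : Type u) [Group G] [Finite G], Nat.card G = n →
    (∀ g : G, g ∉ Subgroup.center G → IsCoatom (Subgroup.centralizer ({g} : Set G))) →
    Group.IsSolvable G := by
  induction n using Nat.strong_induction_on with
  | _ n ih =>
  intro G _ _ hn h
  by_cases hZ : center G ≠ ⊥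
  · haveI := ih _ (hn ▸ H19.card_quotient_lt hZ) (G ⧸ center G) rfl (by
      intro g hg
      obtain ⟨g, rfl⟩ := QuotientGroup.mk'_surjective _ g
      have hg' : g ∉ center G := fun h' => hg (by
        rw [QuotientGroup.mk'_apply, (QuotientGroup.eq_one_iff g).2 h']; exact one_mem _)
      have h1 := H2.isCoatom_map_of_surjective (QuotientGroup.mk'_surjective (center G)) (h g hg')
        (by rw [QuotientGroup.ker_mk']; exact center_le_centralizer _)
      have h2 : (centralizer ({g} : Set G)).map (QuotientGroup.mk' (center G)) ≤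
          centralizer {QuotientGroup.mk' (center G) g} := by
        rintro _ ⟨x, hx, rfl⟩
        rw [mem_centralizer_singleton_iff, ← map_mul, ← map_mul,
          mem_centralizer_singleton_iff.1 hx]
      rcases h2.eq_or_lt with h3 | h3
      · rwa [← h3]
      · exact absurd (mem_center_iff.2 fun y =>
          mem_centralizer_singleton_iff.1 ((h1.2 _ h3).symm ▸ mem_top y)) hg)
    haveI : Group.IsSolvable (center G) := Group.isSolvable_of_comm fun a b => mul_comm a b
    exact Group.isSolvable_of_ker_le_range (center G).subtype (QuotientGroup.mk' (center G))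
      (by simp)
  push Not at hZ
  have h' : ∀ g : G, g ≠ 1 → IsCoatom (centralizer ({g} : Set G)) := fun g hg =>
    h g (by rwa [hZ, mem_bot])
  -- commuting elements of coprime orders have the same centralizer
  have key : ∀ x y : G, x ≠ 1 → y ≠ 1 → Commute x y → (orderOf x).Coprime (orderOf y) →
      centralizer ({x} : Set G) = centralizer {y} := by
    have key' : ∀ x y : G, x ≠ 1 → Commute x y → (orderOf x).Coprime (orderOf y) →
        centralizer ({x} : Set G) = centralizer {x * y} := by
      intro x y hx hxy hc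
      have h1 : x ∈ zpowers (x * y) := by
        have h2 : (x * y) ^ orderOf y = x ^ orderOf y := by
          rw [hxy.mul_pow, pow_orderOf_eq_one, mul_one]
        have h3 : x ∈ zpowers (x ^ orderOf y) := mem_zpowers_pow_iff.2 hc.symm
        rw [← h2] at h3
        exact zpowers_le.2 (pow_mem (mem_zpowers _) _) h3
      obtain ⟨k, hk⟩ := h1
      have hxy1 : x * y ≠ 1 := by
        intro h1
        apply hx
        rw [← hk, h1]
        simp
      refine ((h' _ hxy1).le_iff_eq (h' x hx).1).1 fun c hc => ?_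
      rw [mem_centralizer_singleton_iff] at hc ⊢
      rw [← hk]
      exact Commute.zpow_right hc k
    intro x y hx hy hxy hc
    rw [key' x y hx hxy hc, key' y x hy hxy.symm hc.symm, hxy.eq]
  by_cases h2 : IsPGroup 2 G
  · haveI : Fact (Nat.Prime 2) := ⟨Nat.prime_two⟩
    haveI := h2.isNilpotent
    infer_instance
  obtain ⟨p, hp, hpG, hp2⟩ : ∃ p : ℕ, p.Prime ∧ p ∣ Nat.card G ∧ p ≠ 2 := by
    by_contra! h3
    haveI : Fact (Nat.Prime 2) := ⟨Nat.prime_two⟩
    exact h2 (IsPGroup.iff_card.2 ⟨_, Nat.eq_prime_pow_of_unique_prime_dvd Nat.card_pos.ne'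
      (fun {d} hd hd' => h3 d hd hd')⟩)
  haveI := Fact.mk hp
  obtain ⟨z, hz⟩ := exists_prime_orderOf_dvd_card' p hpG
  have hne : ∀ {q : ℕ} {w : G}, q.Prime → orderOf w = q → w ≠ 1 := by
    rintro q w hq hw rfl
    rw [orderOf_one] at hw
    exact hq.ne_one hw.symm
  have hz1 := hne hp hz
  by_cases hC : IsPGroup p (centralizer ({z} : Set G))
  · refine isSolvable_of_nilpotent_coatom_odd (h' z hz1) hC.isNilpotent ?_
    obtain ⟨k, hk⟩ := IsPGroup.iff_card.1 hC
    rw [hk]
    exact (hp.odd_of_ne_two hp2).pow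
  obtain ⟨q, hq, hqC, hqp⟩ : ∃ q : ℕ, q.Prime ∧ q ∣ Nat.card (centralizer ({z} : Set G)) ∧ q ≠ p := by
    by_contra! h3
    exact hC (IsPGroup.iff_card.2 ⟨_, Nat.eq_prime_pow_of_unique_prime_dvd Nat.card_pos.ne'
      (fun {d} hd hd' => h3 d hd hd')⟩)
  haveI := Fact.mk hq
  obtain ⟨⟨y, hy⟩, hyq⟩ := exists_prime_orderOf_dvd_card' q hqC
  rw [← orderOf_coe] at hyq
  have hy1 : y ≠ 1 := hne hq hyq
  have hzy : centralizer ({z} : Set G) = centralizer {y} := key z y hz1 hy1
    (mem_centralizer_singleton_iff.1 hy).symm (by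
      rw [hz, hyq]; exact (Nat.coprime_primes hp hq).2 hqp.symm)
  haveI : IsMulCommutative (centralizer ({z} : Set G)) := by
    refine H2.isMulCommutative_of_forall fun a ha b hb => ?_
    obtain ⟨k, l, hl, hkl⟩ := Nat.exists_eq_pow_mul_and_not_dvd (orderOf_pos a).ne' p hp.ne_one
    have hc : (p ^ k).Coprime l := ((Nat.Prime.coprime_iff_not_dvd hp).2 hl).pow_left k
    have h3 : Commute (a ^ l) b := by
      by_cases h4 : a ^ l = 1
      · rw [h4]; exact Commute.one_left b
      have h5 := key (a ^ l) y h4 hy1 (mem_centralizer_singleton_iff.1 (hzy ▸ pow_mem ha l)) (by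
        rw [hyq]
        refine Nat.Coprime.coprime_dvd_left (orderOf_dvd_of_pow_eq_one (n := p ^ k) ?_)
          (((Nat.coprime_primes hp hq).2 hqp.symm).pow_left k)
        rw [← pow_mul, mul_comm, ← hkl, pow_orderOf_eq_one])
      exact (mem_centralizer_singleton_iff.1 (h5.symm ▸ hzy ▸ hb)).symm
    have h4 : Commute (a ^ p ^ k) b := by
      by_cases h4 : a ^ p ^ k = 1
      · rw [h4]; exact Commute.one_left b
      have h5 := key (a ^ p ^ k) z h4 hz1 (mem_centralizer_singleton_iff.1 (pow_mem ha _)) (by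
        rw [hz]
        refine Nat.Coprime.coprime_dvd_left (orderOf_dvd_of_pow_eq_one (n := l) ?_)
          ((Nat.Prime.coprime_iff_not_dvd hp).2 hl).symm
        rw [← pow_mul, ← hkl, pow_orderOf_eq_one])
      exact (mem_centralizer_singleton_iff.1 (h5.symm ▸ hb)).symm
    have h5 := Nat.gcd_eq_gcd_ab (p ^ k) l
    rw [hc.gcd_eq_one] at h5
    have h6 : a = (a ^ p ^ k) ^ (p ^ k).gcdA l * (a ^ l) ^ (p ^ k).gcdB l := by
      rw [← zpow_natCast, ← zpow_natCast, ← zpow_mul, ← zpow_mul, ← zpow_add, ← h5]
      simp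
    rw [h6]
    exact (h4.zpow_left _).mul_left (h3.zpow_left _)
  exact ⟨⟨3, S0556.result _ (h' z hz1)⟩⟩


/-- Let G be a finite group in which the centralizer of every non-central element is a maximal subgroup of G. Then G is solvable. -/
theorem result {G : Type*} [Group G] [Finite G]
    (h : ∀ g : G, g ∉ Subgroup.center G → IsCoatom (Subgroup.centralizer ({g} : Set G))) :
    Group.IsSolvable G := by
  exact aux _ G rfl h

end Cfsg.Agent.S4262
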