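import Cfsg.Statements.S4266
import Cfsg.Agent.H12.KgF

set_option autoImplicit false
open Cfsg

namespace Cfsg.Agent.S4266

universe u
open Subgroup H12.KG
open scoped commutatorElement

theorem cent {G : Type*} [Group G] [Finite G] {p : ℕ} [Fact p.Prime] {N : Subgroup G} [N.Normal] (h : Nat.card N = p)
    (a b : G) {x : G} (hx : x ∈ N) : ⁅a, b⁆ * x * ⁅a, b⁆⁻¹ = x := by
  have := isCyclic_of_prime_card h
  have h1 : MulAut.conjNormal (H := N) ⁅a, b⁆ = 1 := by
    rw [map_commutatorElement, commutatorElement_eq_one_iff_mul_comm]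
    exact (IsCyclic.mulAutMulEquiv N).injective (by rw [map_mul, map_mul, mul_comm])
  exact congrArg Subtype.val (MulEquiv.congr_fun h1 ⟨x, hx⟩)

theorem aux (p : ℕ) [hp : Fact p.Prime] (n : ℕ) : ∀ (G : Type u) [Group G] [Finite G], Nat.card G = n →
    Group.IsSolvable G → p ^ 2 ∣ Nat.card G → 49 * p ≤ 60 * Nat.card (ConjClasses G) := by
  induction n using Nat.strong_induction_on with
  | _ n ih =>
  intro G _ _ hn hG h
  by_cases h1 : ∃ N : Subgroup G, N.Normal ∧ N ≠ ⊥ ∧ p ^ 2 ∣ N.index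
  · obtain ⟨N, hN, h0, h1⟩ := h1
    exact (ih _ (hn ▸ H19.card_quotient_lt h0) (G ⧸ N) rfl inferInstance h1).trans
      (Nat.mul_le_mul_left _ (k_le_of_surj _ (QuotientGroup.mk'_surjective N)))
  push Not at h1
  have h2 : ∀ N : Subgroup G, N.Normal → N ≠ ⊥ → p ∣ Nat.card N := fun N hN h0 => by_contra fun h2 =>
    h1 N hN h0 ((((Nat.Prime.coprime_iff_not_dvd hp.out).2 h2).pow_left 2).dvd_of_dvd_mul_left (N.card_mul_index ▸ h))
  have : Nontrivial G := Finite.one_lt_card_iff_nontrivial.1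
    ((Nat.one_lt_pow two_ne_zero hp.out.one_lt).trans_le (Nat.le_of_dvd Nat.card_pos h))
  obtain ⟨N, r, hr, hN, h0, -, h3, -, h4⟩ := H2.exists_minimal_normal_of_solvable (G := G)
  have := Fact.mk hr
  obtain ⟨m, hm⟩ := h3.exists_card_eq
  obtain rfl : p = r := (Nat.prime_dvd_prime_iff_eq hp.out hr).1 (hp.out.dvd_of_dvd_pow (hm ▸ h2 N hN h0))
  by_cases h5 : 2 ≤ m
  · obtain ⟨H, V, _, _, _, _, _, _, _, f, -, -, hH, hirr, hV, a, h6, h7⟩ := exists_lin hG h0 h4
    exact lin_bound hH hirr hr (hV.trans hm) h5 h6 h7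
  obtain rfl : m = 1 := by
    have : m ≠ 0 := by rintro rfl; exact h0 (eq_bot_of_card_eq _ hm)
    omega
  rw [pow_one] at hm
  obtain ⟨P⟩ : Nonempty (Sylow p G) := inferInstance
  have h6 : Nat.card P = p ^ 2 := by
    rw [P.card_eq_multiplicity]
    refine congrArg _ (le_antisymm (by_contra fun h6 => h1 N hN h0 ?_) ((hr.pow_dvd_iff_le_factorization Nat.card_pos.ne').1 h))
    have := (hr.pow_dvd_iff_le_factorization (n := Nat.card G) (k := 3) Nat.card_pos.ne').2 (by omega)
    rwa [← N.card_mul_index, hm, pow_succ', Nat.mul_dvd_mul_iff_left hr.pos] at this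
  have h7 : fittingSubgroup G = pCore p G := H44.fitting_eq_pCore_of_pPrimeCore_eq_bot (by_contra fun h =>
    H44.coprime_iff_not_dvd.1 H44.pPrimeCore_coprime (h2 _ inferInstance h))
  have h8 := S0044.result (G := G)
  have h9 := H22.pCore_le_sylow P
  have h10 := IsPGroup.isMulCommutative_of_card_eq_prime_sq h6
  rw [h7] at h8
  have h11 : pCore p G = P := le_antisymm h9 fun x hx => h8 fun y hy => H2.mul_comm_of_mem h10 (h9 hy) hx
  rw [h11] at h8
  have hP : (P : Subgroup G).Normal := h11 ▸ inferInstance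
  have h12 : N ≤ P := h11 ▸ H44.le_pCore hN h3
  have h13 : Nat.card ((P : Subgroup G).map (QuotientGroup.mk' N)) = p := by
    have := relIndex_mul_relIndex ⊥ N P bot_le h12
    rw [relIndex_bot_left, relIndex_bot_left, hm, h6, sq, Nat.mul_right_inj hr.pos.ne'] at this
    rw [← relIndex_ker, QuotientGroup.ker_mk', this]
  have := hP.map _ (QuotientGroup.mk'_surjective N)
  have h14 : ∀ a b : G, ⁅a, b⁆ ∈ (P : Subgroup G) := fun a b => by
    have h14 : ⁅a, b⁆ ^ p ∈ (P : Subgroup G) := h8 fun y hy => by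
      have e1 := cent h13 (a : G ⧸ N) b (mem_map_of_mem (QuotientGroup.mk' N) hy)
      have e2 : ⁅a, b⁆ * y * ⁅a, b⁆⁻¹ * y⁻¹ ∈ N := (QuotientGroup.eq_one_iff _).1 (mul_inv_eq_one.2 e1)
      have e3 := cent hm a b e2
      have e4 : (⁅a, b⁆ * y * ⁅a, b⁆⁻¹ * y⁻¹) ^ p = 1 :=
        congrArg Subtype.val (hm ▸ pow_card_eq_one' (x := (⟨_, e2⟩ : N)))
      generalize ⁅a, b⁆ = x at *
      generalize hc : x * y * x⁻¹ * y⁻¹ = c at *
      have e5 : ∀ k : ℕ, x ^ k * y = c ^ k * y * x ^ k := fun k => by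
        induction k with
        | zero => simp
        | succ k ih =>
          have : x * c ^ k = c ^ k * x := (Commute.pow_right (mul_inv_eq_iff_eq_mul.1 e3) k).eq
          calc _ = x * c ^ k * y * x ^ k := by rw [pow_succ', mul_assoc, ih]; group
            _ = c ^ k * (x * y * x⁻¹ * y⁻¹) * y * x ^ (k + 1) := by rw [this]; group
            _ = _ := by rw [hc, pow_succ c]
      rw [e5, e4, one_mul]
    rw [← QuotientGroup.eq_one_iff] at h14 ⊢
    exact orderOf_eq_one_iff.1 (Nat.eq_one_of_dvd_coprimes ((Nat.Prime.coprime_iff_not_dvd hr).2 P.not_dvd_index)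
      (orderOf_dvd_of_pow_eq_one h14) (orderOf_dvd_natCard _))
  obtain ⟨a, h15, h16⟩ := kl _ (QuotientGroup.mk'_surjective (P : Subgroup G)) P (by simp)
  rw [le_antisymm h8 (P : Subgroup G).le_centralizer, h6] at h16
  have h17 := amgm zero_le_one h15 h16 (by
    rw [one_mul, cp_comm fun a b => ?_]
    obtain ⟨a, rfl⟩ := QuotientGroup.mk_surjective a
    obtain ⟨b, rfl⟩ := QuotientGroup.mk_surjective b
    exact commutatorElement_eq_one_iff_mul_comm.1 ((QuotientGroup.eq_one_iff _).2 (h14 a b)))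
  by_contra! hk
  have h3 : (60 * Nat.card (ConjClasses G) : ℚ) < 49 * p := by exact_mod_cast hk
  have h4 : (60 * Nat.card (ConjClasses G) : ℚ) ^ 2 ≤ (49 * p) ^ 2 := by gcongr
  have h5 : (2 : ℚ) ≤ p := by exact_mod_cast hr.two_le
  push_cast at h17
  nlinarith

/-- Let p be a prime and G a finite solvable group whose order is divisible by p². Then G has at least 49p/60 conjugacy classes. -/
theorem result {G : Type*} [Group G] [Finite G] (hsolv : Group.IsSolvable G) (p : ℕ) [Fact p.Prime] (hp : p ^ 2 ∣ Nat.card G) : 49 * p ≤ 60 * Nat.card (ConjClasses G) := by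
  exact aux p _ G rfl hsolv hp

end Cfsg.Agent.S4266
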