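import Cfsg.Statements.S4284
import Cfsg.Agent.H6.Cs3
import Cfsg.Agent.H44.FourNorm
import Cfsg.Agent.H46.Generation
import Cfsg.Agent.H3.ClassTwo
import Cfsg.Agent.H3.Transfer2
import Cfsg.Agent.H78.TW
import Cfsg.Agent.H93.CenterSq
import Cfsg.Agent.H6.CSGraph
import Cfsg.Agent.S4127

set_option autoImplicit false
open Cfsg

namespace Cfsg.Agent.S4284

open Subgroup Cfsg.Agent.H49 Cfsg.Agent.H83 Cfsg.Agent.H8 Cfsg.Agent.H6
open scoped commutatorElement

set_option linter.unusedSectionVars false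

section
variable {G : Type*} [Group G] [Finite G] {m n p r : ℕ}

theorem commute_of_central {a b : G} (h : ⁅a, b⁆ ∈ center G)
    (hc : (orderOf a).Coprime (orderOf b)) : Commute a b := by
  have h1 : ⁅a, b⁆ ^ orderOf a = 1 := by
    rw [← H3.commutator_pow_left_of_commute (mem_center_iff.1 h a), pow_orderOf_eq_one,
      commutatorElement_one_left]
  have h2 : ⁅a, b⁆ ^ orderOf b = 1 := by
    rw [← H3.commutator_pow_right_of_commute (mem_center_iff.1 h b), pow_orderOf_eq_one,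
      commutatorElement_one_right]
  exact commutatorElement_eq_one_iff_commute.1 (orderOf_eq_one_iff.1
    (Nat.eq_one_of_dvd_coprimes hc (orderOf_dvd_of_pow_eq_one h1) (orderOf_dvd_of_pow_eq_one h2)))

theorem exists_conj_mem (hp : p.Prime) (P : Sylow p G) {u : G} (hu : PE p u) :
    ∃ c, c * u * c⁻¹ ∈ P.1 := by
  obtain ⟨c, -, h⟩ := sylowOf_subJ (sylowOf_top hp P) le_top (isPi_zpowers.2 ((pe_iff hp).1 hu))
  exact ⟨c, h (conj_mem_cj.2 (mem_zpowers u))⟩

theorem not_dvd_core (hp : p.Prime) {x : G} (hx : cs(x) = p) : ¬ p ∣ 𝒞[x].normalCore.relIndex 𝒞[x] :=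
  fun e => by
    have h1 := (hp.dvd_factorial).1 (e.trans (H78.relIndex_normalCore_dvd _))
    have := hp.pos
    omega

theorem mem_core (hp : p.Prime) {x u : G} (hx : cs(x) = p) (hu : u ∈ 𝒞[x]) (h : PE p u) :
    u ∈ 𝒞[x].normalCore := by_contra fun e =>
  not_dvd_core hp hx (dvd_relIndex_of_PE le_normalizer_of_normal hp hu h e)

variable (h : T3 G m n) (hp : p.Prime) (hpm : p ∣ m)
include h hp hpm

theorem pw : ∃ a, m = p ^ a := ⟨_, Nat.eq_prime_pow_of_unique_prime_dvd (zero_lt_one.trans h.hm).ne'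
  fun hd hdm => (h.prime_unique hp hpm hd hdm).symm⟩

theorem m_eq (N : Subgroup G) [hNn : N.Normal] (hN : ∃ u ∈ N, PE p u ∧ u ∉ center G)
    (hK : ∀ y ∈ N, y ∉ center G → ∃ t ∈ 𝒞[y], IsPiElt {p}ᶜ t ∧ t ∉ center G) : m = p := by
  have := Fact.mk hp
  obtain ⟨P⟩ : Nonempty (Sylow p G) := inferInstance
  obtain ⟨u, h1, h2, h3⟩ := hN
  obtain ⟨c, h4⟩ := exists_conj_mem hp P h2
  obtain ⟨y0, h5, h6, h7⟩ := H44.exists_not_mem_commutator_mem (U := center G) P.2 (P.1 ⊓ N)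
    P.2.to_inf_left (norm_inf le_normalizer le_normalizer_of_normal)
    fun e => conj_not_mem_center h3 c (e ⟨h4, hNn.conj_mem u h1 c⟩)
  obtain ⟨k, h8, h9⟩ := H93.exists_pow_not_mem (PE.of_mem P.2 h5.1) h6
  have h10 : ∀ j : ℕ, ∀ s ∈ P.1, ⁅y0 ^ j, s⁆ ∈ center G := fun j s hs => by
    rw [H3.commutator_pow_left_of_commute (mem_center_iff.1 (h7 s hs) _)]
    exact pow_mem (h7 s hs) j
  have h11 : ⁅zpowers (y0 ^ k), P.1⁆ ≤ center G := commutator_le.2 fun g hg s hs => by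
    obtain ⟨j, rfl⟩ := mem_powers_iff_mem_zpowers.2 hg
    simpa only [pow_mul] using h10 (k * j) s hs
  replace h10 := h10 k
  have hyP := pow_mem h5 k
  generalize y0 ^ k = y at h8 h9 h10 h11 hyP
  have hy := PE.of_mem P.2 hyP.1
  have hn : P.1 ≤ 𝒩(𝒞[y]) := le_norm_of_cj fun s hs => by
    rw [cj_cent1, ← cent_mul_center (x := y) (inv_mem (h10 s hs)),
      mem_center_iff.1 (inv_mem (h10 s hs)), commutatorElement_def]
    congr 2; group
  obtain ⟨t, h12, h13, h14⟩ := hK y hyP.2 h8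
  have hM := fun u => h.memD (u := u) hp hpm hy h8
  set K := piCoreOf {p}ᶜ 𝒞[y]
  have hKp : IsPi {p}ᶜ K := piCoreOf_pi _ _
  have hPp := (sylowOf_top hp P).pi
  have hDK : P.1 ⊓ 𝒞[y] ⊓ K = ⊥ := (hPp.inf_left _).inf_eq_bot hKp
  have hPD : P.1 ≤ 𝒩(P.1 ⊓ 𝒞[y]) := norm_inf le_normalizer hn
  have hKD : K ≤ 𝒩(P.1 ⊓ 𝒞[y]) := norm_of_cent (cent_symm fun g hg =>
    piCoreOf_cent_compl _ _ ((hM g).2 ⟨hg.2, .of_mem P.2 hg.1⟩))
  have hPK : P.1 ≤ 𝒩(K) := norm_piCoreOf _ hn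
  have h15 : Nat.card (quo P.1 (P.1 ⊓ 𝒞[y])) ∣ p := by
    by_contra e
    have h15 : quo K (P.1 ⊓ 𝒞[y]) ≤ quo (K ⊓ center G) (P.1 ⊓ 𝒞[y]) := by
      refine H46.le_of_forall_relIndex_dvd (p := p) (A := quo P.1 (P.1 ⊓ 𝒞[y]))
        ⟨(quo_abelian_iff hPD).2 (le_inf (normalIn_der _).le ?_), ?_⟩
        ((isPi_compl_singleton hp).1 (hKp.quo _)) (quo_norm _ hPK) fun B hB h15 x hx => ?_
      · rw [← cent_zpowers]
        exact H21.quadratic_commutator_le (commutator_eq_bot_iff_le_centralizer.2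
          (h11.trans (center_le_centralizer _)))
      · intro x hx
        obtain ⟨a, ha, rfl⟩ := mem_quo.1 hx
        rw [← map_pow, coset_eq_one_iff, coe_pow]
        refine ⟨pow_mem ha p, mem_cent1.2 (commutatorElement_eq_one_iff_mul_comm.1 ?_).symm⟩
        rw [H3.commutator_pow_right_of_commute (mem_center_iff.1 (h10 _ ha) _),
          ← H3.commutator_pow_left_of_commute (mem_center_iff.1 (h10 _ ha) _),
          commutatorElement_eq_one_iff_mul_comm, mem_center_iff.1 h9]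
      · obtain ⟨b, hb, b1⟩ := ne_bot_iff_exists.1 fun e' : B = ⊥ => e (by
          rwa [e', relIndex_bot_left] at h15)
        obtain ⟨g, hg, rfl⟩ := mem_quo.1 (hB hb)
        obtain ⟨t, ht, rfl⟩ := mem_quo.1 hx.1
        refine coset_mem_quo ⟨ht, by_contra fun e' => b1 (coset_eq_one_iff.2 ⟨hg, ?_⟩)⟩
        have h16 : ⁅(g : G), (t : G)⁆ = 1 := mem_bot.1 (hDK.le (mem_inf.2 ⟨(coset_eq_one_iff (x := ⁅g, t⁆)).1 (by
          rw [map_commutatorElement]
          exact commutatorElement_eq_one_iff_mul_comm.2 (hx.2 _ hb)),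
          mul_mem (conj_mem_of_norm hPK hg ht) (inv_mem ht)⟩))
        have h17 := (h.memK hp hpm hy h8).1 ht
        exact piCoreOf_le _ _ (zpowers_le.1 ((h.syl_transfer hp hpm h8 e' (h.sylD hp hpm hy h8)
          (h.D_le hp hpm hy h8 h17.1 h17.2)).le_of_norm (zpowers_le.2 (mem_cent1.2
            (commutatorElement_eq_one_iff_mul_comm.1 h16))) (hPp.of_le (zpowers_le.2 hg))
            (.inl ((zpowers_le.2 hg).trans (norm_piCoreOf _ hn)))))
    · have h16 := (le_inf ((quo_le_quo_iff' hKD (inf_le_left.trans hKD)).1 h15) le_rfl).trans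
        (modular_left (.inl (inf_le_left.trans hKD)) inf_le_left).le
      rw [hDK, sup_bot_eq] at h16
      exact h14 (h16 ((h.memK hp hpm hy h8).2 ⟨h12, h13⟩)).2
  rw [card_quo hPD, inf_relIndex_left] at h15
  have h16 := h.dvd_cs h8
  rw [← relIndex_mul_index (le_sup_right : 𝒞[y] ≤ P.1 ⊔ 𝒞[y]), relIndex_sup_of_norm (.inl hn)]
    at h16
  obtain ⟨a, ha⟩ := pw h hp hpm
  refine Nat.dvd_antisymm ((Nat.Coprime.dvd_of_dvd_mul_right ?_ h16).trans h15) hpm
  exact ha ▸ ((Nat.Prime.coprime_iff_not_dvd hp).2 (not_dvd_index_iff.2 ⟨P, le_sup_left⟩)).pow_left a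

variable (hr : r.Prime) (hrn : r ∣ n)
include hr hrn

theorem beta (hb : ∀ g ∉ center G, ∃ t ∈ 𝒞[g], PE r t ∧ t ∉ center G) : False := by
  have := Fact.mk hr
  have hpr : p ≠ r := fun e => h.not_dvd hp hpm (e ▸ hrn)
  have hrm : ¬ r ∣ m := fun e => h.not_dvd hr e hrn
  obtain ⟨g0, hg0⟩ := h.ex_s
  obtain rfl : m = p := m_eq h hp hpm ⊤ (by
    obtain ⟨u, -, h1⟩ := h.exists_pe hp hpm (h.nc_s hg0); exact ⟨u, trivial, h1⟩) fun y _ hy => by
      obtain ⟨t, h1, h2, h3⟩ := hb y hy; exact ⟨t, h1, pe_compl hp hr hpr h2, h3⟩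
  obtain ⟨x, hx, hxm⟩ : ∃ x : G, PE r x ∧ cs(x) = m := by
    by_contra! e
    obtain ⟨q, hq, y, h1, h2, h3⟩ := exists_PE_of_not_mem (h.nc_s hg0)
    have h4 : cs(y) = m := Nat.dvd_antisymm (hg0 ▸ cs_dvd_of_mem_zpowers h1) (h.dvd_cs h3)
    obtain ⟨R, hR⟩ := not_dvd_index_iff.1 (h4 ▸ hrm : ¬ r ∣ cs(y))
    refine h3 (cs_eq_one_iff.1 (index_eq_one.2 (eq_top_of_forall_conj_mem fun g => ?_)))
    by_cases hg : g ∈ center G
    · exact ⟨1, by simpa using center_le_centralizer _ hg⟩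
    obtain ⟨t, h5, h6, h7⟩ := hb g hg
    obtain ⟨c, h8⟩ := exists_conj_mem hr R h6
    refine ⟨c, h.cent_le_of_large ((h.cs_eq _ (conj_not_mem_center h7 c)).resolve_left
      (e _ (h6.conj c))) (mem_cent1.1 (hR h8)) ((h6.conj c).coprime_orderOf hr hq
        (fun e' => e y (e' ▸ h2) h4) h2) ?_⟩
    rw [← cj_cent1]
    exact conj_mem_cj.2 (mem_cent1_comm.1 h5)
  have h1 : ∀ R : Sylow r G, ∃ x ∈ R.1 ⊓ 𝒞(R.1), cs(x) = m := fun R => by
    obtain ⟨R', hR⟩ := not_dvd_index_iff.1 (hxm ▸ hrm : ¬ r ∣ cs(x))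
    obtain ⟨c, -, hc⟩ := sylowOf_conj (sylowOf_top hr R') (sylowOf_top hr R)
    have h1 : c * x * c⁻¹ ∈ 𝒞(R.1) := by
      rw [← hc, ← cj_centralizer]; exact conj_mem_cj.2 (le_cent1_iff.1 hR)
    exact ⟨_, ⟨zpowers_le.1 ((sylowOf_top hr R).le_of_norm le_top (isPi_zpowers.2
      ((pe_iff hr).1 (hx.conj c))) (.inl (norm_of_cent (zpowers_le.2 h1)))), h1⟩,
      (cs_conj c x).trans hxm⟩
  obtain ⟨g, -, hg, h2⟩ := exists_PE_of_dvd_relIndex (Y := 𝒞[x]) (X := ⊤) hp (by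
    rw [relIndex_top_right, hxm])
  have hgZ : g ∉ center G := fun e => h2 (center_le_centralizer _ e)
  obtain ⟨x', hx', hxm', h3⟩ : ∃ x' : G, PE r x' ∧ cs(x') = m ∧ x' ∈ 𝒞[g] := by
    rcases h.cs_eq g hgZ with e | e
    · obtain ⟨R, hR⟩ := not_dvd_index_iff.1 (e ▸ hrm : ¬ r ∣ cs(g))
      obtain ⟨x', h3, h4⟩ := h1 R
      exact ⟨x', .of_mem R.2 h3.1, h4, hR h3.1⟩
    obtain ⟨t, h3, h4, h5⟩ := hb g hgZ
    rcases h.cs_eq t h5 with e' | e'
    · exact ⟨t, h4, e', h3⟩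
    obtain ⟨R, hR⟩ := h4.isPGroup_zpowers.exists_le_sylow
    obtain ⟨x', h6, h7⟩ := h1 R
    exact ⟨x', .of_mem R.2 h6.1, h7, (h.eq_of_large e' (h.cent_le_of_large e (mem_cent1.1 h3).symm
      (hg.coprime_orderOf hp hr hpr h4))).ge (cent_le_cent1 (hR (mem_zpowers t)) h6.2)⟩
  have h4 := mem_core hp hxm' (mem_cent1_comm.1 h3) hg
  have h5 : g ∉ 𝒞[x].normalCore := fun e => h2 (normalCore_le _ e)
  have h6 : x * x' ∉ center G := fun e => h2 (by
    rw [← cent_inv, ← cent_mul_center e, inv_mul_cancel_left]; exact mem_cent1_comm.1 h3)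
  obtain ⟨u, h7, h8, h9⟩ := h.exists_pe hp dvd_rfl h6
  have h10 : ⁅x⁻¹, u⁆ ∈ center G := by_contra fun e => by
    have h10 : ⁅x⁻¹, u⁆ ∈ 𝒞(𝒞[x].normalCore) := by
      rw [commutatorElement_def, inv_inv, mul_assoc, mul_assoc, ← mul_assoc u]
      have h10 := le_cent1_iff.1 (normalCore_le 𝒞[x])
      exact mul_mem (inv_mem h10) (Normal.conj_mem inferInstance _ h10 u)
    have h11 : ⁅x⁻¹, u⁆ ∈ 𝒞(𝒞[x'].normalCore) := by
      rw [show ⁅x⁻¹, u⁆ = x' * (u * x'⁻¹ * u⁻¹) by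
        rw [commutatorElement_def, show x⁻¹ * u * x⁻¹⁻¹ * u⁻¹ = x⁻¹ * (u * (x * x')) * x'⁻¹ * u⁻¹ by
          group, mem_cent1.1 h7]; group]
      have h10 := le_cent1_iff.1 (normalCore_le 𝒞[x'])
      exact mul_mem h10 (Normal.conj_mem inferInstance _ (inv_mem h10) u)
    have h12 := Nat.mul_dvd_mul (dvd_relIndex_of_PE le_normalizer_of_normal hp
      (mem_sup_right (S := 𝒞[x].normalCore) h4) hg h5) ((h.dvd_cs e).trans (index_dvd_of_le (sup_le (le_cent1_iff.2 h10)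
        (le_cent1_iff.2 h11))))
    rw [relIndex_mul_index le_sup_left, ← relIndex_mul_index (normalCore_le _), hxm] at h12
    exact not_dvd_core hp hxm (Nat.dvd_of_mul_dvd_mul_right hp.pos h12)
  have h11 : u ∈ 𝒞[x] := mem_cent1.2 (Commute.inv_left_iff.1 (commute_of_central h10
    (hx.inv.coprime_orderOf hr hp hpr.symm h8))).symm
  have h12 : u ∈ 𝒞[x'] := mem_cent1_comm.1 (by
    simpa using mul_mem (inv_mem (mem_cent1_comm.1 h11)) (mem_cent1_comm.1 h7))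
  have h13 := h.D_le hp dvd_rfl h8 h9 (mem_cent1_comm.1 h11) (pe_compl hp hr hpr hx)
  have h14 := h.D_le hp dvd_rfl h8 h9 (mem_cent1_comm.1 h12) (pe_compl hp hr hpr hx')
  have h15 := fun v hv => ((h.memD (u := v) hp dvd_rfl h8 h9).1 hv).2
  exact (isPiNat_compl_singleton hp).1 (((h.syl_transfer hp dvd_rfl h9 (h.nc_s hxm')
    (h.sylD hp dvd_rfl h8 h9) h14).sub (fun v hv => mem_core hp hxm' (h14 hv) (h15 v hv))
    (normalCore_le _)).index_of_le fun v hv => mem_core hp hxm (h13 hv) (h15 v hv))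
    (dvd_relIndex_of_PE le_normalizer_of_normal hp h4 hg h5)

theorem alpha : ∃ x : G, PE r x ∧ x ∉ center G ∧ ∀ w ∈ 𝒞[x], w ∉ center G →
    cs(w) = m ∧ 𝒞[w] = 𝒞[x] := by
  have := Fact.mk hr
  have hpr : p ≠ r := fun e => h.not_dvd hp hpm (e ▸ hrn)
  have hrm : ¬ r ∣ m := fun e => h.not_dvd hr e hrn
  obtain ⟨g1, hg1⟩ := h.ex_l
  obtain ⟨x, -, hx, hxZ⟩ := exists_PE_of_dvd_relIndex (Y := center G) (X := ⊤) hr (by
    rw [relIndex_top_right]
    exact (hg1 ▸ hrn.mul_left m).trans (index_dvd_of_le (center_le_centralizer _)))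
  have h1 : ∀ w ∈ 𝒞[x], w ∉ center G → cs(w) = m := fun w hw hwZ => by
    refine (h.cs_eq w hwZ).resolve_right fun e => beta h hp hpm hr hrn fun g hg => ?_
    rcases h.cs_eq g hg with e' | e'
    · obtain ⟨R, hR⟩ := not_dvd_index_iff.1 (e' ▸ hrm : ¬ r ∣ cs(g))
      obtain ⟨c, hc⟩ := exists_conj_mem hr R hx
      exact ⟨_, hR hc, hx.conj c, conj_not_mem_center hxZ c⟩
    · exact exists_PE_of_dvd_relIndex hr (relIndex_eq_of_index_eq (center_le_centralizer _)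
        (center_le_centralizer _) (e.trans e'.symm) ▸
        dvd_relIndex_center hr (mem_cent1_comm.1 hw) hx hxZ)
  have h2 : ∀ a b : G, 𝒞[a] = 𝒞[x] → a ∉ center G → b ∈ 𝒞[x] →
      (orderOf a).Coprime (orderOf b) → 𝒞[x] ≤ 𝒞[b] := fun a b ha haZ hb hc => by
    have h2 : Commute a b := (mem_cent1.1 (ha.ge hb)).symm
    have h3 := cent_mul_of_coprime h2 hc
    rw [← ha, ← h.eq_of_small (h1 _ (mul_mem (ha.le (self_mem_cent1 a)) hb)
      (mul_not_mem_center h2 hc haZ)) haZ (h3 ▸ inf_le_left), h3]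
    exact inf_le_right
  have hxm := h1 x (self_mem_cent1 x) hxZ
  refine ⟨x, hx, hxZ, fun w hw hwZ => ⟨h1 w hw hwZ, (h.eq_of_small hxm hwZ ?_).symm⟩⟩
  obtain ⟨y, h3, h4, h5⟩ := h.exists_pe hp hpm hxZ
  have h6 := h.eq_of_small hxm h5 (h2 x y rfl hxZ h3 (hx.coprime_orderOf hr hp hpr.symm h4))
  obtain ⟨a, ha, b, hb, rfl, h7, h8⟩ := exists_pi_decomp {r} w
  refine le_cent1_iff.2 (mul_mem (le_cent1_iff.1 (h2 y a h6.symm h5 (zpowers_le.2 hw ha) ?_))
    (le_cent1_iff.1 (h2 x b rfl hxZ (zpowers_le.2 hw hb) (((pe_iff hr).1 hx).coprime h8))))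
  exact h4.coprime_orderOf hp hr hpr ((pe_iff hr).2 h7)

end

/-- Let G be a finite group with no nontrivial abelian direct factor whose conjugacy class sizes are exactly 1, m and m·n with m, n > 1 coprime. Then m is a prime p dividing n − 1; the elements whose class has size 1 or p form an abelian normal subgroup of index p; G has a normal p-complement; and the commutator subgroup of a Sylow p-subgroup of G has order p. -/
theorem result {G : Type*} [Group G] [Finite G] (hnodf : ∀ A B : Subgroup G, A.Normal → B.Normal → A ⊓ B = ⊥ → A ⊔ B = ⊤ → IsMulCommutative A → A = ⊥) (m n : ℕ) (hm : 1 < m) (hn : 1 < n) (hcop : m.Coprime n) (h : Set.range (fun x : G => (Subgroup.centralizer ({x} : Set G)).index) = ({1, m, m * n} : Set ℕ)) : m.Prime ∧ m ∣ n - 1 ∧ (∃ M : Subgroup G, M.Normal ∧ (M : Set G) = {x : G | (Subgroup.centralizer ({x} : Set G)).index = 1 ∨ (Subgroup.centralizer ({x} : Set G)).index = m} ∧ M.index = m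 ∧ IsMulCommutative M) ∧ (∃ N : Subgroup G, N.Normal ∧ (Nat.card N).Coprime m ∧ ∃ a : ℕ, N.index = m ^ a) ∧ ∀ P : Sylow m G, Nat.card (commutator (P : Subgroup G)) = m := by
  have hcs : ∀ g : G, cs(g) = 1 ∨ cs(g) = m ∨ cs(g) = m * n := fun g => h.le ⟨g, rfl⟩
  have hT : T3 G m n := ⟨hm, hn, hcop, fun g hg => (hcs g).resolve_left (mt cs_eq_one_iff.1 hg),
    h.ge (.inr (.inl rfl)), h.ge (.inr (.inr rfl))⟩
  obtain ⟨p, hp, hpm⟩ := Nat.exists_prime_and_dvd hm.ne'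
  obtain ⟨r, hr, hrn⟩ := Nat.exists_prime_and_dvd hn.ne'
  have := Fact.mk hp
  have := Fact.mk hr
  have hpn := hT.not_dvd hp hpm
  have hpr : p ≠ r := fun e => hpn (e ▸ hrn)
  obtain ⟨x, hx, hxZ, hW⟩ := alpha hT hp hpm hr hrn
  have hxm := (hW x (self_mem_cent1 x) hxZ).1
  obtain ⟨y, h1, h2, h3⟩ := hT.exists_pe hp hpm hxZ
  obtain ⟨a, ha⟩ := pw hT hp hpm
  obtain ⟨P, N, hN, hc⟩ := S4127.result (G := G) p a (fun g e => by
    by_cases hg : g ∈ center G
    · rw [cs_eq_one_iff.2 hg, Nat.dvd_one] at e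
      exact (Nat.one_lt_pow a.succ_ne_zero hp.one_lt).ne' e
    obtain ⟨b, h4, h5⟩ := hT.cs_eq' hg
    rw [h5, ha, pow_succ] at e
    exact hpn ((Nat.dvd_of_mul_dvd_mul_left (pow_pos hp.pos a) e).trans h4))
    ⟨y, h2.orderOf_eq hp, ha ▸ (hW y h1 h3).1⟩
  have hNp : ¬ p ∣ Nat.card N := hc.index_eq_card ▸ P.not_dvd_index
  obtain ⟨b, hb⟩ := P.2.exists_card_eq
  have hNi : N.index = p ^ b := hc.symm.index_eq_card.trans hb
  have hH : IsPiHallOf {p}ᶜ N ⊤ := hall_mk le_top ((isPi_compl_singleton hp).2 hNp) (by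
    rw [relIndex_top_right, hNi]; exact (isPiNat_singleton_pow hp b).compl_compl)
  have hNW : N ≤ 𝒞[x] := le_of_normal_pi hH.pi (by
    rw [hxm, ha]; exact (isPiNat_singleton_pow hp a).compl_compl)
  have hWn : 𝒞[x].Normal := normal_iff_top_le_norm.2 (le_norm_of_cj fun g _ => by
    rw [cj_cent1]
    exact (hW _ (hNW (hN.conj_mem _ (hH.mem_of_normal le_normalizer_of_normal trivial
      (pe_compl hp hr hpr hx)) g)) (conj_not_mem_center hxZ g)).2)
  obtain rfl : m = p := m_eq hT hp hpm 𝒞[x] ⟨y, h1, h2, h3⟩ fun w hw _ =>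
    ⟨x, mem_cent1_comm.1 hw, pe_compl hp hr hpr hx, hxZ⟩
  obtain ⟨g, hg⟩ := hT.ex_l
  have h4 : (center G).index = m * (m * n) := by
    rw [← relIndex_mul_index (center_le_centralizer {g}), hg]
    congr 1
    refine Nat.dvd_antisymm ?_ (hT.dvd_rel hp hpm (hT.nc_l hg))
    rw [← inf_relIndex_right, show center G ⊓ 𝒞[g] = 𝒞[x] ⊓ 𝒞[g] from le_antisymm
      (inf_le_inf_right _ (center_le_centralizer _)) fun w hw => ⟨by_contra fun e => ?_, hw.2⟩,
      inf_relIndex_right, ← hxm]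
    · exact relIndex_dvd_index_of_normal _ _
    · have h4 := (hW g ((hW w hw.1 e).2.le (mem_cent1_comm.1 hw.2)) (hT.nc_l hg)).1
      rw [hg] at h4
      nlinarith
  have hPZ : ∀ (P : Sylow m G) (u : G), P.1 ≤ 𝒞[u] → u ∈ center G := fun P u hu =>
    by_contra fun e => not_dvd_index_iff.2 ⟨P, hu⟩ (hT.dvd_cs e)
  refine ⟨hp, ?_, ⟨𝒞[x], hWn, Set.ext fun w => ⟨fun hw => ?_, fun hw => ?_⟩, hxm,
    abelian_iff.2 fun w hw => le_cent1_iff.1 ?_⟩,
    ⟨N, hN, ((Nat.Prime.coprime_iff_not_dvd hp).2 hNp).symm, b, hNi⟩, fun P => ?_⟩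
  · have h5 := H3.card_modEq_card_inf_centralizer (Q := N) P.2 le_normalizer_of_normal
    rw [show N ⊓ 𝒞(P.1) = center G ⊓ N from le_antisymm (fun u hu => ⟨hPZ P u
      (le_cent1_iff.2 hu.2), hu.1⟩) fun u hu => ⟨hu.2, center_le_centralizer _ hu.1⟩,
      ← card_inf_mul_relIndex (center G) N] at h5
    have h6 : (center G).relIndex N = n := by
      rw [← relIndex_mul_index (le_sup_right : center G ≤ N ⊔ center G),
        relIndex_sup_of_norm (.inl le_normalizer_of_normal), ← mul_assoc, mul_comm _ n] at h4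
      exact pi_factor_unique h4 (hH.pi.relIndex _) (hH.index.of_dvd (by
        rw [relIndex_top_right]; exact index_dvd_of_le le_sup_left))
        ((isPiNat_compl_singleton hp).2 hpn) (sq m ▸ (isPiNat_singleton_pow hp 2).compl_compl)
    rw [h6] at h5
    refine (Nat.modEq_iff_dvd' hn.le).1 (Nat.ModEq.cancel_left_of_coprime
      (c := Nat.card ↥(center G ⊓ N)) ?_
      (by rw [mul_one]; exact h5.symm))
    exact (Nat.Prime.coprime_iff_not_dvd hp).2 fun e => hNp (e.trans (card_dvd_of_le inf_le_right))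
  · exact (em (w ∈ center G)).imp cs_eq_one_iff.2 fun e => (hW w hw e).1
  · rcases hw with hw | hw
    · exact center_le_centralizer _ (cs_eq_one_iff.1 hw)
    have hrm : ¬ r ∣ m := fun e => hT.not_dvd hr e hrn
    obtain ⟨R, hR⟩ := not_dvd_index_iff.1 (hw ▸ hrm : ¬ r ∣ cs(w))
    obtain ⟨c, h5⟩ := exists_conj_mem hr R hx
    have h6 := mem_cent1_comm.1 (hR h5)
    rwa [← cj_cent1, cj_eq_of_mem_norm (le_normalizer_of_normal (mem_top c))] at h6
  · by_cases e : w ∈ center G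
    · exact le_top.trans (centralizer_eq_top_iff_subset.2 (Set.singleton_subset_iff.2 e)).ge
    · exact (hW w hw e).2.ge
  · refine H93.card_commutator_of_index_center P.2 (fun e => ?_) ?_
    · obtain ⟨c, h5⟩ := exists_conj_mem hp P h2
      exact conj_not_mem_center h3 c (hPZ P _ (le_cent1_iff.2 (abelian_iff.1 e h5)))
    · have h6 : (center G).subgroupOf P.1 ≤ center P.1 := fun u hu => mem_center_iff.2
        fun v => Subtype.ext (mem_center_iff.1 (mem_subgroupOf.1 hu) v)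
      have h5 : (center P.1).index ∣ m * (m * n) := ((index_dvd_of_le h6).trans
        (relIndex_dvd_index_of_normal (center G) P.1)).trans h4.dvd
      obtain ⟨k, hk⟩ := P.2.index (center P.1)
      rw [← mul_assoc, ← sq] at h5
      exact Nat.le_of_dvd (pow_pos hp.pos 2) (Nat.Coprime.dvd_of_dvd_mul_right
        (by rw [hk]; exact hcop.pow_left k) h5)

end Cfsg.Agent.S4284
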