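import Cfsg.Statements.S4302
import Cfsg.Agent.H64.AbOff
import Cfsg.Agent.S1893

set_option autoImplicit false
open Cfsg

namespace Cfsg.Agent.S4302

open Subgroup H21

theorem cent_omega {X : Type*} [Group X] [Finite X] {V : Subgroup X} [V.Normal] [IsMulCommutative V]
    (hV : IsPGroup 2 V) {d : X} (hd : d ∈ centralizer (omegaOne 2 V : Set X)) :
    ∃ k, d ^ 2 ^ k ∈ centralizer (V : Set X) := by
  obtain ⟨k, m, hm, e⟩ := Nat.exists_eq_two_pow_mul_odd (orderOf_pos d).ne'
  refine ⟨k, ?_⟩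
  have ho : orderOf (d ^ 2 ^ k) = m := by
    rw [orderOf_pow_of_dvd (by positivity) (e ▸ Dvd.intro _ rfl), e, Nat.mul_div_cancel_left _ (by positivity)]
  obtain ⟨n, hn⟩ := IsPGroup.iff_card.1 hV
  obtain ⟨h1, -⟩ := H2.coprime_abelian_decomposition (zpowers (d ^ 2 ^ k)) V
    (le_normalizer_of_normal) (by
      rw [Nat.card_zpowers, ho, hn]
      exact Nat.Coprime.pow_right _ (Nat.coprime_two_right.2 hm))
  have hl : ⁅V, zpowers (d ^ 2 ^ k)⁆ ≤ V := commutator_le_left _ _
  have : ⁅V, zpowers (d ^ 2 ^ k)⁆ = ⊥ := by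
    by_contra h
    have := (nontrivial_iff_ne_bot _).2 h
    obtain ⟨l, hl0, hl'⟩ := (hV.to_le hl).nontrivial_iff_card.1 this
    obtain ⟨x, hx⟩ := exists_prime_orderOf_dvd_card' (G := ↥⁅V, zpowers (d ^ 2 ^ k)⁆) 2
      (hl' ▸ dvd_pow_self 2 hl0.ne')
    have x2 : (x : X) ^ 2 = 1 := by
      have := pow_orderOf_eq_one x
      rw [hx] at this
      exact congrArg Subtype.val this
    have : (x : X) ∈ (⊥ : Subgroup X) := h1 ▸ ⟨⟨hl x.2, le_centralizer_iff.1
      (zpowers_le.2 (pow_mem hd _)) (mem_omegaOne (hl x.2) x2)⟩, x.2⟩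
    rw [show x = 1 from Subtype.ext this, orderOf_one] at hx
    omega
  exact commutator_eq_bot_iff'.1 this (mem_zpowers _)

theorem cj_J {X : Type*} [Group X] (g : X) (P : Subgroup X) :
    cj g (thompsonSubgroupAOf P) = thompsonSubgroupAOf (cj g P) := by
  rw [H23.thompsonSubgroupAOf_eq, H23.thompsonSubgroupAOf_eq,
    H23.maxAb_map (MulAut.conj g).injective, ← map_sSup_eq]


/-- Let `X` be a finite solvable group whose Fitting subgroup is a 2-group (equivalently `F(X) = O₂(X)`), `T` a Sylow 2-subgroup of `X`, `J(T)` the subgroup generated by the abelian subgroups of `T` of largest order, `C` the largest normal subgroup of `X` centralizing the centre `Z(T)`, and `Y` the normal closure of `J(T)` in `X`. Then `X = C · Y · N_X(J(T))`, and either `Y ≤ C`, or `CY/C` is isomorphic to a direct product of at least one copy of the symmetric group of degree 3. -/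
theorem result {X : Type*} [Group X] [Finite X]
    [Group.IsSolvable X] (hF : Cfsg.fittingSubgroup X = Cfsg.pCore 2 X) (T : Sylow 2 X) :
    ((Subgroup.centralizer (((T : Subgroup X) ⊓ Subgroup.centralizer ((T : Subgroup X) : Set X) : Subgroup X) : Set X)).normalCore
        ⊔ Subgroup.normalClosure (Cfsg.thompsonSubgroupAOf (T : Subgroup X) : Set X)
        ⊔ Subgroup.normalizer (Cfsg.thompsonSubgroupAOf (T : Subgroup X) : Set X) = ⊤) ∧
    (Subgroup.normalClosure (Cfsg.thompsonSubgroupAOf (T : Subgroup X) : Set X)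
        ≤ (Subgroup.centralizer (((T : Subgroup X) ⊓ Subgroup.centralizer ((T : Subgroup X) : Set X) : Subgroup X) : Set X)).normalCore
      ∨ ∃ n : ℕ, 1 ≤ n ∧
        Nonempty (↥(Subgroup.normalClosure (Cfsg.thompsonSubgroupAOf (T : Subgroup X) : Set X)) ⧸
            ((Subgroup.centralizer (((T : Subgroup X) ⊓ Subgroup.centralizer ((T : Subgroup X) : Set X) : Subgroup X) : Set X)).normalCore).subgroupOf
              (Subgroup.normalClosure (Cfsg.thompsonSubgroupAOf (T : Subgroup X) : Set X))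
          ≃* (Fin n → Equiv.Perm (Fin 3)))) := by
  have : Fact (Nat.Prime 2) := ⟨Nat.prime_two⟩
  set Z := (T : Subgroup X) ⊓ centralizer ((T : Subgroup X) : Set X) with hZ
  set J := thompsonSubgroupAOf (T : Subgroup X) with hJ
  set Y := normalClosure (J : Set X) with hY
  have hJT : J ≤ T := by rw [hJ, H23.thompsonSubgroupAOf_eq]; exact H23.sSup_maxAb_le _ _
  refine ⟨?_, ?_⟩
  · rw [eq_top_iff, ← normalizer_sylow_inf_sup_eq_top T Y]
    refine sup_le (le_trans ?_ le_sup_right) (le_sup_right.trans le_sup_left)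
    have e : thompsonSubgroupAOf ((T : Subgroup X) ⊓ Y) = J := by
      have k : ∀ A ∈ H23.maxAb 0 (T : Subgroup X), A ≤ (T : Subgroup X) ⊓ Y := fun A hA =>
        le_inf hA.1 (le_trans (by rw [hJ, H23.thompsonSubgroupAOf_eq]; exact le_sSup hA)
          le_normalClosure)
      rw [hJ, H23.thompsonSubgroupAOf_eq, H23.thompsonSubgroupAOf_eq]
      congr 1
      obtain ⟨A, hA⟩ := H23.maxAb_nonempty 0 (T : Subgroup X)
      exact Set.Subset.antisymm (H23.maxAb_subset_of_le hA (k A hA) inf_le_left)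
        fun B hB => H23.mem_maxAb_of_le hB (k B hB) inf_le_left
    intro g hg
    rw [← cj_eq_iff, ← e, cj_J, cj_eq hg]
  have hO := S1893.centralizer_fitting_le (S := X)
  rw [hF] at hO
  let V := normalClosure (Z : Set X)
  have hVC : V ≤ centralizer (pCore 2 X : Set X) := normalClosure_le_normal
    (inf_le_right.trans (centralizer_anti (H22.pCore_le_sylow T)))
  have hVO : V ≤ pCore 2 X := hVC.trans hO
  have hVc : IsMulCommutative V := ⟨⟨fun x y => Subtype.ext (hVC y.2 _ (hVO x.2))⟩⟩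
  have hVp : IsPGroup 2 V := H22.isPGroup_pCore.to_le hVO
  have hgen : V ≤ ⨆ S : Sylow 2 X, V ⊓ centralizer ((S : Subgroup X) : Set X) := by
    refine (closure_le _).2 fun x hx => ?_
    obtain ⟨z, hz, hc⟩ := Group.mem_conjugatesOfSet_iff.1 hx
    obtain ⟨g, rfl⟩ := isConj_iff.1 hc
    refine mem_iSup_of_mem (g • T) ⟨conjugatesOfSet_subset_normalClosure hx, ?_⟩
    rw [sylow_coe_smul, ← cj_centralizer]
    exact conj_mem_cj hz.2
  have key : ∀ (D : Subgroup X) [D.Normal], (∀ d ∈ D, ∃ k, d ^ 2 ^ k ∈ centralizer (V : Set X)) →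
      D ≤ centralizer (V : Set X) := fun D _ h => le_centralizer_of_sylow_fixed hgen (by
    rintro ⟨_, d, hd, rfl⟩
    obtain ⟨k, hk⟩ := h d hd
    exact ⟨k, Subtype.ext ((map_pow _ _ _).symm.trans ((QuotientGroup.eq_one_iff _).2 hk))⟩)
  let W := omegaOne 2 V
  have : W.Normal := normalizer_eq_top_iff.1 (eq_top_iff.2
    (le_normalizer_of_normal.trans (normalizer_le_normalizer_omegaOne 2 V)))
  have hW := isElementaryAbelian_omegaOne 2 V
  have eW : centralizer (W : Set X) = centralizer (V : Set X) :=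
    le_antisymm (key _ fun d hd => cent_omega hVp hd) (centralizer_anti (omegaOne_le _ _))
  have eC : (centralizer (Z : Set X)).normalCore = centralizer (W : Set X) := by
    rw [eW]
    refine le_antisymm (le_centralizer_iff.1 (normalClosure_le_normal
      (le_centralizer_iff.1 (normalCore_le _)))) (normal_le_normalCore.2 (centralizer_anti le_normalClosure))
  have hO2 : pCore 2 (X ⧸ centralizer (W : Set X)) = ⊥ := by
    have := key ((pCore 2 (X ⧸ centralizer (W : Set X))).comap (QuotientGroup.mk' _)) fun d hd => by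
      obtain ⟨k, hk⟩ := H22.isPGroup_pCore ⟨_, hd⟩
      refine ⟨k, eW ▸ (QuotientGroup.eq_one_iff _).1 ?_⟩
      exact (map_pow (QuotientGroup.mk' _) _ _).trans (congrArg Subtype.val hk)
    rw [eq_bot_iff]
    intro x hx
    obtain ⟨x, rfl⟩ := QuotientGroup.mk'_surjective _ x
    exact (QuotientGroup.eq_one_iff _).2 (eW ▸ this hx)
  obtain ⟨Γ, _, _, ι, j, s⟩ := exists_sim W
  have h := s.ffHyp hW hO2 Y H22.isPSolvable_of_isSolvable
  have hk : ι.ker = (centralizer (Z : Set X)).normalCore := by rw [eC, s.ker_eq]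
  by_cases h1 : Y.map ι = ⊥
  · left; rw [← hk]; exact (Subgroup.map_eq_bot_iff _).1 h1
  right
  have := hW.1
  have hg : Y.map ι = ⨆ A : {A : Subgroup Γ // A ≤ Y.map ι ∧ IsBestOffenderOn 2 (Sim.im j W) A},
      (A : Subgroup Γ) := by
    refine le_antisymm (map_le_iff_le_comap.2 ((closure_le _).2 fun x hx => ?_))
      (iSup_le fun A => A.2.1)
    obtain ⟨z, hz, hc⟩ := Group.mem_conjugatesOfSet_iff.1 hx
    obtain ⟨g, rfl⟩ := isConj_iff.1 hc
    have e : cj g J = thompsonSubgroupAOf (cj g (T : Subgroup X)) := cj_J _ _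
    have hl : cj g J ≤ Y := cj_le_of_mem_normalizer le_normalClosure le_normalizer_of_normal'
    refine (?_ : cj g J ≤ _) (conj_mem_cj hz)
    rw [e, H23.thompsonSubgroupAOf_eq] at hl ⊢
    refine sSup_le fun A hA => map_le_iff_le_comap.1 ?_
    have hAY := map_mono (f := ι) ((le_sSup hA).trans hl)
    exact le_iSup_of_le ⟨_, hAY, H64.bestOffender_of_maxAb s h (g • T).isPGroup'
      (((omegaOne_le _ _).trans hVO).trans (H22.pCore_le_sylow _)) hA hAY⟩ le_rfl
  obtain ⟨-, r1, r2, r3, -⟩ := S0617.result (Sim.im j W) (Y.map ι) h.elem h.norm h.faith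
    (fun x hx => by
      obtain ⟨y, hy, e⟩ := h.cent (x := x) ⟨x.2, by
        rintro _ ⟨y, hy, rfl⟩
        exact congrArg Subtype.val (hx y hy)⟩
      rw [← show y = x from Subtype.ext e]; exact hy) hg h1
  obtain ⟨e⟩ := H64.equiv_pi_of_iSupIndep r2 (fun E => r3.le.trans (r1 E).1)
    fun E => ⟨(r1 E).2.1.some.trans H64.sl2_two_equiv.some⟩
  refine ⟨_, ?_, ⟨((QuotientGroup.quotientMulEquivOfEq (N := (ι.comp Y.subtype).ker) ?_).trans
    (QuotientGroup.quotientKerEquivRange (ι.comp Y.subtype))).trans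
      ((MulEquiv.subgroupCongr ((range_comp_subtype ι Y).trans r3.symm)).trans e)⟩⟩
  · rw [Nat.one_le_iff_ne_zero, Nat.card_ne_zero]
    refine ⟨?_, inferInstance⟩
    by_contra k
    rw [not_nonempty_iff] at k
    exact h1 (r3.symm.trans (iSup_of_empty _))
  · rw [← hk]; rfl

end Cfsg.Agent.S4302
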