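import Cfsg.Statements.S4323
import Cfsg.Agent.H59.AbCent2
import Cfsg.Agent.H76.SelfCent
import Cfsg.Agent.H23.ZJ
import Cfsg.Agent.S0659
-- import your own Cfsg.Agent.* helpers here

set_option autoImplicit false
open Cfsg

namespace Cfsg.Agent.S4323
open Subgroup Cfsg.Agent.H49 Cfsg.Agent.H45 Cfsg.Agent.H59

universe u

section
variable {X : Type u} [Group X] [Finite X] {q p t : ℕ}
  {A G H K B U V R P Q : Subgroup X} {a b c d : X}

theorem no_compl (h : MC q A G) (hP : Sy A G p P) (P0 : P ≠ ⊥) (hK : IsPiHallOf {p}ᶜ K G)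
    (hn : G ≤ 𝒩(K)) : False := by
  have hA : A ≤ 𝒩(K) := h.norm.trans (hK.norm_of_normal hn)
  have hlt : K < G := lt_of_le_of_ne hK.le fun e =>
    P0 (hP.pi.eq_bot (hK.pi.of_le (e ▸ hP.le)))
  have h0 : K = ⊥ := by_contra fun e => h.simple K hK.le e (h.sol K hlt hA) hA hn
  subst h0
  have := hK.compl_of_eq_bot
  rw [compl_compl] at this
  exact h.nsol (solvable_of_nilpotent this.nilpotent)

theorem two_lines (h : MC q A G) (hP : Sy A G p P) (P0 : P ≠ ⊥) (hc : c ∈ A) (c1 : c ≠ 1) :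
    ∃ b ∈ A, b ∉ zpowers c ∧ P ⊓ 𝒞[b] ≠ ⊥ := by
  by_contra e
  have hPc : P ≤ 𝒞[c] := h.gen hP.le hP.norm fun b hb b1 => by
    by_cases hcb : b ∈ zpowers c
    · rw [h.cent_eq hc c1 hcb b1]; exact inf_le_right
    · rw [show P ⊓ 𝒞[b] = ⊥ from by_contra fun e' => e ⟨b, hb, hcb, e'⟩]; exact bot_le
  have hz : zpowers c ≤ A := zpowers_le.2 hc
  have hN : G ⊓ 𝒩(P) ≤ 𝒞(P) := by
    rw [← coprime_comm_sup_cent (hz.trans (norm_inf h.norm (norm_norm hP.norm)))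
      (h.cop hz inf_le_left) (Or.inl (h.solA hz)), cent_zpowers]
    refine sup_le ((commutator_mono le_rfl (zpowers_le.2 (le_cent1_iff.1 hPc))).trans
      (commutator_le_right_of_norm (norm_cent inf_le_right))) ?_
    have := h.centC hc c1 (inf_le_left (b := 𝒩(P))) hP.le
    rwa [inf_eq_left.2 hPc] at this
  obtain ⟨K, h1, h2, h3, h4⟩ := H76.exists_compl_of_burnside hP.prime hP.syl hN
  refine no_compl h hP P0 (hall_mk h1 ((isPi_compl_singleton hP.prime).2 h4) ?_) h2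
  rw [← card_mul_relIndex h1] at h3
  rw [← Nat.eq_of_mul_eq_mul_left (card_pos' K) h3]
  exact hP.pi.compl_compl

theorem odd_lines (h : MC q A G) (hP : Sy A G p P) (P0 : P ≠ ⊥) (h2 : p ≠ 2) :
    ∃ c ∈ A, c ≠ 1 ∧ ∀ b ∈ A, b ∉ zpowers c → P ⊓ 𝒞[b] ≠ ⊥ := by
  by_contra e
  have hp := hP.prime
  haveI := Fact.mk hp
  have hZ : Iv A G {p} (H23.zj 0 P) := ⟨(H23.zj_le 0 P).trans hP.le,
    hP.norm.trans (H23.normalizer_le_normalizer_zj 0 P), hP.pi.of_le (H23.zj_le 0 P)⟩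
  have Z0 := H23.zj_ne_bot (dvd_zero p) (hP.pi.isPGroup hp) P0
  obtain ⟨K, hK, h1, -⟩ := h.exists_hallN hZ Z0 {p}ᶜ
  have hN : A ≤ 𝒩(G ⊓ 𝒩(H23.zj 0 P)) := norm_inf h.norm (norm_norm hZ.norm)
  have hO : Iv A G {p} (piCoreOf {p} (G ⊓ 𝒩(H23.zj 0 P))) :=
    ⟨(piCoreOf_le _ _).trans inf_le_left, norm_piCoreOf _ hN, piCoreOf_pi _ _⟩
  have h3 : K ≤ piCoreOf {p}ᶜ (G ⊓ 𝒩(H23.zj 0 P)) := by
    refine le_core_of_der (h.der_fit inf_le_left hN (h.solN hZ Z0)) h1.le hK.pi ?_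
    rw [compl_compl]
    refine h.gen hK.le hK.norm fun c hc c1 => ?_
    obtain ⟨b, hb, hbc, e'⟩ : ∃ b ∈ A, b ∉ zpowers c ∧ P ⊓ 𝒞[b] = ⊥ :=
      by_contra fun e' => e ⟨c, hc, c1, fun b hb hbc e'' => e' ⟨b, hb, hbc, e''⟩⟩
    exact h.cent_of_fpf h.fpf hc c1 hb hbc (inf_le_inf_right _ hK.le) (h.ivC hK hc).norm hO.le
      hO.norm (inf_le_left.trans (h1.le.trans (le_norm_piCoreOf _ _))) hO.sol
      (hO.pi.coprime (hK.pi.inf_left _)) (le_bot_iff.1 (e' ▸ inf_le_inf_right _ (hP.max _ hO)))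
  rw [le_antisymm h3 h1.piCoreOf_le] at h1
  obtain ⟨S, hS⟩ := exists_sylow_of hp hP.syl
  have e1 : (normalizer (centerThompsonAOf (S : Subgroup G) : Set G)).map G.subtype =
      G ⊓ 𝒩(H23.zj 0 P) := by
    rw [H23.centerThompsonAOf_eq, ← hS, H23.zj_map G.subtype_injective]
    ext x
    constructor
    · rintro ⟨y, hy, rfl⟩
      exact ⟨y.2, le_normalizer_map _ (mem_map_of_mem _ hy)⟩
    · rintro ⟨hx, hy⟩
      refine ⟨⟨x, hx⟩, mem_norm_iff_cj.2 (map_injective G.subtype_injective ?_), rfl⟩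
      show (cj _ _).map _ = _
      rw [map_subtype_cj]; exact cj_eq_of_mem_norm hy
  have := S0659.result h2 S ((hasNormalPComplement_iff hp).2 (by
    rwa [← hall_map_subtype, piCoreOf_map_subtype, e1]))
  exact no_compl h hP P0 ((hasNormalPComplement_iff hp).1 this) (le_norm_piCoreOf _ _)

theorem covX (h : MC q A G) (hpt : p ≠ t) (hP : Sy A G p P) (hQ : Sy A G t Q) (Q0 : Q ≠ ⊥)
    (no : ∀ H, Mx A G {p, t} H → P ≤ H → ¬ Q ≤ H) (hd : d ∈ A) (d1 : d ≠ 1)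
    (h0 : P ⊓ 𝒞[d] ≠ ⊥) : ∃ H, Mx A G {p, t} H ∧ piCoreOf {t} H = ⊥ ∧ Q ⊓ 𝒞[d] ≤ H := by
  have hp := hP.prime
  have ht := hQ.prime
  have P0 : P ≠ ⊥ := ne_bot_mono inf_le_left h0
  obtain ⟨Y, hY, hle⟩ := h.cov (h.ivC hP.toIv hd) h0 {p, t}
  refine ⟨Y, hY, by_contra fun e1 => ?_, hle _ ((h.ivC hQ.toIv hd).two p)
    (norm_of_cent (h.centC hd d1 hQ.le hP.le))⟩
  have e2 : piCoreOf {p} Y = ⊥ := by_contra fun e2 =>
    no Y hY (h.both ht hpt hY hP e2 e1) (h.both hp hpt.symm hY.swap hQ e1 e2)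
  obtain ⟨y1, y2, y3, y4⟩ := h.one hpt.symm hY.swap hQ hP Q0 e2
  have y5 : P ⊓ 𝒩(P ⊓ 𝒞[d]) ≤ P ⊓ Y := le_inf inf_le_left
    (hle _ ((hP.inf (norm_norm (h.ivC hP.toIv hd).norm)).one t) inf_le_right)
  have y6 : P ⊓ 𝒞[d] ≤ P ⊓ Y := (le_inf inf_le_left le_normalizer).trans y5
  obtain ⟨c, hc, c1, hZ⟩ : ∃ c ∈ A, c ≠ 1 ∧ P ⊓ 𝒞(P) ⊓ 𝒞[c] ≠ ⊥ := by
    by_contra e
    refine center_ne_bot_of_nilpotent hP.pi.nilpotent P0 (le_bot_iff.1
      (h.gen hP.center.le hP.center.norm fun c hc c1 => le_bot_iff.2 ?_))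
    exact by_contra fun e' => e ⟨c, hc, c1, e'⟩
  obtain ⟨K, hK, kle⟩ := h.cov (h.ivC hP.center hc) hZ {p, t}
  have k1 : P ≤ K := kle _ (hP.one t) (norm_of_cent (cent_symm (inf_le_left.trans inf_le_right)))
  have k2 : piCoreOf {t} K = ⊥ := by_contra fun e => by
    by_cases e' : piCoreOf {p} K = ⊥
    · exact no K hK k1 (h.one hpt.symm hK.swap hQ hP Q0 e').2.1
    · exact no K hK k1 (h.both hp hpt.symm hK.swap hQ e e')
  obtain ⟨x1, -, -, x4⟩ := h.one hpt hK hP hQ P0 k2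
  have c2 : P ⊓ Y ≤ 𝒞(Q ⊓ K) := commutator_eq_bot_iff.1 (le_bot_iff.1 (by
    rw [← MC.sy_disj hpt hP hQ]
    exact le_inf ((commutator_mono inf_le_left le_rfl).trans
      (commutator_le_left_of_norm (inf_le_right.trans x1)))
      ((commutator_mono le_rfl inf_le_left).trans
        (commutator_le_right_of_norm (inf_le_right.trans y1)))))
  have c3 : Q ⊓ K ≤ 𝒞(P) := H50.cent_of_cent_cent_le hP.pi.nilpotent (inf_le_right.trans x1)
    ((hQ.pi.inf_left K).coprime (hP.pi.compl_singleton_of_ne hpt))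
    (((inf_le_inf_left _ ((cent_anti (y6.trans (le_inf inf_le_left c2))).trans
      (cent_le_norm _))).trans y5).trans (le_inf inf_le_left c2))
  have c4 : Q ⊓ 𝒞[c] = ⊥ := le_bot_iff.1 (x4 ▸ (le_inf inf_le_left (kle _
    ((h.ivC hQ.toIv hc).two p) (norm_of_cent (h.centC hc c1 hQ.le hP.center.le)))).trans
      (le_inf le_rfl c3))
  have c5 : ∀ a ∈ A, a ≠ 1 → c ∉ zpowers a → P ⊓ Y ⊓ 𝒞[a] = ⊥ := fun a ha a1 hca =>
    le_bot_iff.1 (y4 ▸ le_inf inf_le_left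
      (h.cf hpt ha a1 hc hca (hP.inf hY.norm) hQ.toIv (inf_le_right.trans y1) c4))
  have c6 : c ∈ zpowers d := by_contra fun e =>
    h0 (le_bot_iff.1 (c5 d hd d1 e ▸ le_inf y6 inf_le_right))
  have c7 : P ⊓ Y ≤ 𝒞[d] := h.gen (hP.inf hY.norm).le (hP.inf hY.norm).norm fun a ha a1 => by
    by_cases hca : c ∈ zpowers a
    · rw [← h.cent_eq ha a1 hca c1, h.cent_eq hd d1 c6 c1]; exact inf_le_right
    · rw [c5 a ha a1 hca]; exact bot_le
  exact no Y hY ((eq_of_inf_norm_le_of_nilpotent hP.pi.nilpotent inf_le_left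
    (y5.trans (le_inf inf_le_left c7))).ge.trans (y6.trans inf_le_right)) y2

theorem noline (h : MC q A G) (hpt : p ≠ t) (hP : Sy A G p P) (hQ : Sy A G t Q)
    (no : ∀ H, Mx A G {p, t} H → P ≤ H → ¬ Q ≤ H) (hb : b ∈ A) (b1 : b ≠ 1)
    (h0 : P ⊓ 𝒞[b] ≠ ⊥) (h1 : Q ⊓ 𝒞[b] ≠ ⊥) : False := by
  have P0 : P ≠ ⊥ := ne_bot_mono inf_le_left h0
  have Q0 : Q ≠ ⊥ := ne_bot_mono inf_le_left h1
  obtain ⟨H, hH, e1, e2⟩ := covX h hpt hP hQ Q0 no hb b1 h0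
  obtain ⟨x1, x2, -, x4⟩ := h.one hpt hH hP hQ P0 e1
  refine no H hH x2 (h.gen hQ.le hQ.norm fun a ha a1 => ?_)
  by_cases hab : a ∈ zpowers b
  · rwa [h.cent_eq hb b1 hab a1]
  have h2 : P ⊓ 𝒞[a] ≠ ⊥ := fun e => h1 (le_bot_iff.1 (x4 ▸ le_inf (le_inf inf_le_left e2)
    ((le_inf (le_inf inf_le_left e2) inf_le_right).trans (h.cf hpt.symm hb b1 ha hab
      (hQ.inf hH.norm) hP.toIv (inf_le_right.trans x1) e))))
  obtain ⟨K, hK, k1, k2⟩ := covX h hpt hP hQ Q0 no ha a1 h2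
  exact k2.trans (h.le_mx hH hP.toIv P0 x1 hK.toIv (h.one hpt hK hP hQ P0 k1).1)

theorem perm (h : MC q A G) (hP : Sy A G p P) (hQ : Sy A G t Q) :
    IsProd P Q (P ⊔ Q) ∧ Group.IsSolvable ↥(P ⊔ Q) := by
  by_cases e : P ≤ 𝒩(Q) ∨ Q ≤ 𝒩(P)
  · exact ⟨e.elim isProd_sup_of_norm_right isProd_sup_of_norm_left, solvable_sup hP.sol hQ.sol e⟩
  have hpt : p ≠ t := by
    rintro rfl
    exact e (Or.inl ((hQ.max P hP.toIv).trans le_normalizer))
  have P0 : P ≠ ⊥ := fun e' => e (Or.inl (e' ▸ bot_le))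
  have Q0 : Q ≠ ⊥ := fun e' => e (Or.inr (e' ▸ bot_le))
  obtain ⟨H, hH, h1, h2⟩ : ∃ H, Mx A G {p, t} H ∧ P ≤ H ∧ Q ≤ H := by
    by_contra e'
    have no : ∀ H, Mx A G {p, t} H → P ≤ H → ¬ Q ≤ H := fun H h1 h2 h3 => e' ⟨H, h1, h2, h3⟩
    by_cases h2 : p = 2
    · obtain ⟨c, hc, c1, h3⟩ := odd_lines h hQ Q0 (fun e => hpt (h2.trans e.symm))
      obtain ⟨b, hb, hbc, h4⟩ := two_lines h hP P0 hc c1
      exact noline h hpt hP hQ no hb (fun e => hbc (e ▸ one_mem _)) h4 (h3 b hb hbc)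
    · obtain ⟨c, hc, c1, h3⟩ := odd_lines h hP P0 h2
      obtain ⟨b, hb, hbc, h4⟩ := two_lines h hQ Q0 hc c1
      exact noline h hpt hP hQ no hb (fun e => hbc (e ▸ one_mem _)) (h3 b hb hbc) h4
  have h3 := isProd_of_two hpt hH.pi (hP.syl.sub h1 hH.le) (hQ.syl.sub h2 hH.le)
  rw [h3.sup_eq]
  exact ⟨h3, solvable_of_two hP.prime hQ.prime hH.pi⟩

theorem isProd_three (h1 : IsProd H P (H ⊔ P)) (h2 : IsProd H Q (H ⊔ Q))
    (h3 : IsProd P Q (P ⊔ Q)) : IsProd (H ⊔ P) Q (H ⊔ P ⊔ Q) := by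
  have key : ∀ b ∈ Q, ∀ a ∈ H ⊔ P, ∃ a' ∈ H ⊔ P, ∃ b' ∈ Q, b * a = a' * b' := fun b hb a ha => by
    obtain ⟨x, hx, s, hs, rfl⟩ := h1.2.2 a ha
    obtain ⟨x', hx', b', hb', e1⟩ := h2.2.2 (b * x) (mul_mem (mem_sup_right hb) (mem_sup_left hx))
    obtain ⟨s', hs', b'', hb'', e2⟩ :=
      h3.2.2 (b' * s) (mul_mem (mem_sup_right hb') (mem_sup_left hs))
    exact ⟨x' * s', mul_mem (mem_sup_left hx') (mem_sup_right hs'), b'', hb'', by
      rw [← mul_assoc, e1, mul_assoc, e2, mul_assoc]⟩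
  let M : Subgroup X :=
    { carrier := {m | ∃ a ∈ H ⊔ P, ∃ b ∈ Q, m = a * b}
      one_mem' := ⟨1, one_mem _, 1, one_mem _, (mul_one 1).symm⟩
      mul_mem' := by
        rintro _ _ ⟨a, ha, b, hb, rfl⟩ ⟨a', ha', b', hb', rfl⟩
        obtain ⟨x, hx, y, hy, e⟩ := key b hb a' ha'
        exact ⟨a * x, mul_mem ha hx, y * b', mul_mem hy hb', by
          rw [mul_assoc, ← mul_assoc b, e]; group⟩
      inv_mem' := by
        rintro _ ⟨a, ha, b, hb, rfl⟩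
        rw [mul_inv_rev]; exact key _ (inv_mem hb) _ (inv_mem ha) }
  have : H ⊔ P ⊔ Q ≤ M := sup_le (fun a ha => ⟨a, ha, 1, one_mem _, (mul_one a).symm⟩)
    fun b hb => ⟨1, one_mem _, b, hb, (one_mul b).symm⟩
  exact ⟨le_sup_left, le_sup_right, fun m hm => this hm⟩

theorem not_mc (h : MC q A G) : False := by
  choose! S hS using fun (p : ℕ) (hp : p.Prime) => h.exists_sy hp
  have G0 : ⊥ < G := bot_lt_iff_ne_bot.2 fun e => h.nsol (e ▸ inferInstance)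
  obtain ⟨H, -, ⟨h1, h2, h3⟩, hmax⟩ := exists_maximal_ge
    (fun H : Subgroup X => H < G ∧ A ≤ 𝒩(H) ∧ ∀ t : ℕ, t.Prime → IsProd H (S t) (H ⊔ S t))
    ⟨G0, le_norm_bot A, fun t _ => isProd_sup_of_norm_right bot_le⟩
  obtain ⟨p, hp, hpH⟩ : ∃ p : ℕ, p.Prime ∧ ¬ S p ≤ H := by
    by_contra e
    exact h1.not_ge (le_of_sylowOf_le fun p hp _ =>
      ⟨S p, (hS p hp).syl, by_contra fun e' => e ⟨p, hp, e'⟩⟩)
  have h4 : H ⊔ S p = G := by_contra fun e => hpH (le_sup_right.trans (hmax _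
    ⟨lt_of_le_of_ne (sup_le h1.le (hS p hp).le) e, norm_sup h2 (hS p hp).norm, fun t ht =>
      isProd_three (h3 p hp) (h3 t ht) (perm h (hS p hp) (hS t ht)).1⟩ le_sup_left).le)
  have H0 : H ≠ ⊥ := fun e => h.nsol (by rw [← h4, e, bot_sup_eq]; exact (hS p hp).sol)
  obtain ⟨t, ht, -, h5⟩ := H48.exists_pcore_ne_bot (h.sol H h1 h2) H0
  have h6 : Iv A G {t} (piCoreOf {t} H) :=
    ⟨(piCoreOf_le _ _).trans h1.le, norm_piCoreOf _ h2, piCoreOf_pi _ _⟩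
  refine h.simple (ncl (piCoreOf {t} H) G) (ncl_le h6.le le_normalizer)
    (ne_bot_mono (le_ncl _ _) h5) (solvable_of_le (perm h (hS t ht) (hS p hp)).2 ?_)
    (norm_ncl h6.norm h.norm) (le_norm_ncl _ _)
  refine (ncl_le_of_isProd (h4 ▸ (h3 p hp).symm) (le_norm_piCoreOf _ _)).trans ?_
  exact (ncl_le_sup _ _).trans (sup_le_sup_right ((hS t ht).max _ h6) _)

end

theorem aux (q n : ℕ) : ∀ (X : Type u) [Group X] [Finite X] (A G : Subgroup X),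
    Nat.card G = n → AC q A G → Group.IsSolvable G := by
  induction n using Nat.strong_induction_on with
  | _ n ih =>
  intro X _ _ A G hn h
  by_contra hs
  have simple : ∀ K, K ≤ G → K ≠ ⊥ → Group.IsSolvable K → A ≤ 𝒩(K) → ¬ G ≤ 𝒩(K) :=
    fun K h1 h2 h3 h4 h5 => hs (solvable_of_quo h3 h5 (ih _
      (hn ▸ card_quo_lt h5 (by rwa [inf_eq_left.2 h1])) _ _ _ rfl (h.quo h1 h4)))
  refine not_mc ⟨h, by_contra fun e => ?_, fun K h1 h2 =>
    ih _ (hn ▸ card_lt_of_lt h1) _ _ _ rfl (h.sub h1.le h2), simple, hs⟩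
  have hc : G ≤ 𝒞(G ⊓ 𝒞(A)) := h.gen le_rfl h.norm fun a ha a1 =>
    (h.ab a ha a1).trans (cent_anti (inf_le_inf_left _ (cent_le_cent1 ha)))
  exact simple _ inf_le_left e (solvable_of_abelian (abelian_iff.2 (inf_le_left.trans hc)))
    (norm_of_cent (cent_symm inf_le_right)) (norm_of_cent hc)

/-- Let `q` be a prime and `A` a non-cyclic group of order `q²` acting by automorphisms on a finite group `G` of order prime to `q`, such that the fixed-point subgroup `C_G(a)` is abelian for every non-identity `a ∈ A`. Then `G` is solvable. -/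
theorem result {A G : Type*} [Group A] [Finite A]
    [Group G] [Finite G] [MulDistribMulAction A G] (q : ℕ) (hq : q.Prime) (hA : Nat.card A = q ^ 2) (hnc : ¬ IsCyclic A)
    (hcop : ¬ q ∣ Nat.card G) (h : ∀ a : A, a ≠ 1 → IsMulCommutative ↥(FixedPoints.subgroup (Subgroup.zpowers a) G)) :
    Group.IsSolvable G := by
  haveI := Fact.mk hq
  let φ := MulDistribMulAction.toMulAut A G
  let Γ := G ⋊[φ] A
  have : Finite Γ := Finite.of_equiv _ SemidirectProduct.equivProd.symm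
  let i : G →* Γ := SemidirectProduct.inl
  let j : A →* Γ := SemidirectProduct.inr
  have hi : Function.Injective i := SemidirectProduct.inl_injective
  have e := MonoidHom.ofInjective hi
  have e' := MonoidHom.ofInjective (f := j) SemidirectProduct.inr_injective
  have conj : ∀ (a : A) (x : G), j a * i x * (j a)⁻¹ = i (a • x) := fun a x => by
    rw [← map_inv]; exact (SemidirectProduct.inl_aut a x).symm
  have hexp := (not_isCyclic_iff_exponent_eq_prime hq hA).1 hnc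
  have hab := IsPGroup.isMulCommutative_of_card_eq_prime_sq hA
  have fix : ∀ (a : A) (x : G), i x ∈ 𝒞[j a] → x ∈ FixedPoints.subgroup (zpowers a) G :=
    fun a x hx => by
      rintro ⟨_, k, rfl⟩
      refine hi ((conj _ x).symm.trans ?_)
      rw [mul_inv_eq_iff_eq_mul, map_zpow]
      exact (Commute.zpow_right (mem_cent1.1 hx) k).eq.symm
  have := aux q _ Γ j.range i.range rfl ⟨hq, ⟨le_top, ⟨abelian_iff.2 ?_, ?_⟩,
    (Nat.card_congr e'.toEquiv).symm.trans hA⟩,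
    le_norm_iff.2 (by rintro _ ⟨a, rfl⟩ _ ⟨x, rfl⟩; exact ⟨_, (conj _ x).symm⟩),
    (isPi_compl_singleton hq).2 (by rwa [← Nat.card_congr e.toEquiv]), ?_⟩
  · exact Group.isSolvable_of_surjective (f := e.symm.toMonoidHom) e.symm.surjective
  · rintro _ ⟨a, rfl⟩ _ ⟨b, rfl⟩
    rw [← map_mul, ← map_mul, hab.is_comm.comm]
  · rintro _ ⟨a, rfl⟩
    rw [← map_pow, ← hexp, Monoid.pow_exponent_eq_one, map_one]
  · rintro _ ⟨a, rfl⟩ a1 _ ⟨⟨x, rfl⟩, hx⟩ _ ⟨⟨y, rfl⟩, hy⟩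
    have := (h a fun e => a1 (by rw [e, map_one])).is_comm.comm ⟨y, fix a y hy⟩ ⟨x, fix a x hx⟩
    rw [← map_mul, ← map_mul]
    exact congrArg i (congrArg Subtype.val this)


end Cfsg.Agent.S4323
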