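import Cfsg.Statements.S4348


set_option autoImplicit false
open Cfsg

namespace Cfsg.Agent.S4348



/-- Let G be a finite group, p a prime and P a Sylow p-subgroup of G, and let O_p(G) be the largest normal p-subgroup of G. If P/O_p(G) is cyclic, then some element of p-power order of G lies in exactly one Sylow p-subgroup. -/
theorem result {G : Type*} [Group G] [Finite G]
    (p : ℕ) [Fact p.Prime] (P : Sylow p G)
    [hn : ((Cfsg.pCore p G).subgroupOf (P : Subgroup G)).Normal]
    (hc : IsCyclic ((P : Subgroup G) ⧸ (Cfsg.pCore p G).subgroupOf (P : Subgroup G))) :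
    ∃ x : G, (∃ k : ℕ, orderOf x = p ^ k) ∧ ∃! Q : Sylow p G, x ∈ Q := by
  obtain ⟨y, hy⟩ := hc.exists_generator
  obtain ⟨x, rfl⟩ := QuotientGroup.mk_surjective y
  have hO : IsPGroup p (Cfsg.pCore p G) :=
    Sylow.sSup_of_normal _ (fun H hH => hH.2) (fun H hH => hH.1)
  have hOn : (Cfsg.pCore p G).Normal := Subgroup.sSup_normal _ (fun _ h => h.1)
  refine ⟨x, ?_, P, x.2, fun Q hQ => ?_⟩
  · obtain ⟨k, hk⟩ := (IsPGroup.iff_orderOf.mp P.isPGroup') x
    exact ⟨k, by rw [← hk, Subgroup.orderOf_coe]⟩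
  · have hle : (P : Subgroup G) ≤ Q := by
      intro g hg
      obtain ⟨n, hn⟩ := hy (QuotientGroup.mk ⟨g, hg⟩)
      have h1 : ((x ^ n)⁻¹ * ⟨g, hg⟩ : P) ∈ (Cfsg.pCore p G).subgroupOf (P : Subgroup G) := by
        rw [← QuotientGroup.eq, ← hn]; rfl
      rw [Subgroup.mem_subgroupOf] at h1
      have h2 := hO.le_sylow_of_normal Q h1
      have h3 : ((x ^ n : P) : G) ∈ (Q : Subgroup G) := by
        rw [Subgroup.coe_zpow]; exact Subgroup.zpow_mem _ hQ n
      have h4 := (Q : Subgroup G).mul_mem h3 h2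
      simpa using h4
    exact Sylow.ext (P.is_maximal' Q.isPGroup' hle)

end Cfsg.Agent.S4348
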