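import Cfsg.Statements.S4349
import Cfsg.Agent.H64.SymSylow

set_option autoImplicit false
open Cfsg

namespace Cfsg.Agent.S4349

open Equiv Equiv.Perm Cfsg.Agent.H64

universe u

/-- elementwise form of the condition -/
structure Good {α : Type*} (x : Perm α) : Prop where
  fix : ∀ a b c, x a = a → x b = b → x c = c → a = b ∨ a = c ∨ b = c
  cyc : ∀ a b, x a ≠ a → (∀ i : ℤ, (x ^ i) a = a ↔ (x ^ i) b = b) → x.SameCycle a b

section
variable {α : Type*}

theorem per (x : Perm α) (a : α) (i : ℤ) : (x ^ i) a = a ↔ (MulAction.period x a : ℤ) ∣ i :=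
  MulAction.zpow_smul_eq_iff_period_dvd (g := x)

theorem odd_quot {m i : ℤ} (h1 : m ∣ 2 * i) (h2 : ¬ m ∣ i) : ∃ s, 2 * i = m * (2 * s + 1) := by
  obtain ⟨t, ht⟩ := h1
  rcases Int.even_or_odd' t with ⟨s, rfl | rfl⟩
  · exact absurd ⟨s, by linarith⟩ h2
  · exact ⟨s, ht⟩

theorem half {x : Perm α} {a : α} {i j : ℤ} (h1 : (x ^ (2 * i)) a = a) (h2 : (x ^ i) a ≠ a)
    (h3 : (x ^ (2 * j)) a = a) (h4 : (x ^ j) a ≠ a) : (x ^ i) a = (x ^ j) a := by
  rw [Ne, per] at h2 h4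
  rw [per] at h1 h3
  obtain ⟨s, hs⟩ := odd_quot h1 h2
  obtain ⟨t, ht⟩ := odd_quot h3 h4
  have : (x ^ (i - j)) a = a := (per x a _).2 ⟨s - t, by linarith⟩
  conv_rhs => rw [← this, ← Perm.mul_apply, ← zpow_add, add_sub_cancel]

theorem even_of {x : Perm α} {a : α} {i j : ℤ} (h3 : (x ^ (2 * j)) a = a) (h4 : (x ^ j) a ≠ a)
    (h : (x ^ i) a = a) : ∃ k, i = 2 * k := by
  rw [Ne, per] at h4
  rw [per] at h h3
  obtain ⟨t, ht⟩ := odd_quot h3 h4
  obtain ⟨s, rfl⟩ := h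
  rcases Int.even_or_odd' (MulAction.period x a : ℤ) with ⟨k, hk | hk⟩
  · exact ⟨k * s, by rw [hk]; ring⟩
  · rw [hk] at ht
    have : 2 * j = 2 * (2 * k * t + k + t) + 1 := by linarith
    omega

theorem comm_zpow {x τ : Perm α} (h : ∀ a, x (τ a) = τ (x a)) (i : ℤ) (a : α) :
    (x ^ i) (τ a) = τ ((x ^ i) a) := by
  have : Commute x τ := by ext a; exact h a
  exact congrArg (fun f : Perm α => f a) (this.zpow_left i).eq

theorem Good.exists_j {x τ : Perm α} (hx : Good x) (hτ : IsMatching τ)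
    (h : ∀ a, x (τ a) = τ (x a)) {a : α} (ha : x a ≠ a) :
    ∃ j : ℤ, (x ^ j) a = τ a ∧ (x ^ (2 * j)) a = a ∧ (x ^ j) a ≠ a := by
  obtain ⟨j, hj⟩ := hx.cyc a (τ a) ha (fun i => by rw [comm_zpow h, τ.injective.eq_iff])
  refine ⟨j, hj, ?_, ?_⟩
  · rw [two_mul, zpow_add, Perm.mul_apply, hj, comm_zpow h, hj, hτ.invol]
  · rw [hj]
    intro h1
    exact ha (hτ.fix _ _ (by rw [← h, h1]) h1)

theorem Good.matching_eq {x τ σ : Perm α} (hx : Good x) (hτ : IsMatching τ)
    (h : ∀ a, x (τ a) = τ (x a)) (hσ : IsMatching σ) (h' : ∀ a, x (σ a) = σ (x a)) : τ = σ := by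
  have key : ∀ {τ σ : Perm α}, IsMatching τ → (∀ a, x (τ a) = τ (x a)) →
      (∀ a, x (σ a) = σ (x a)) → ∀ a, x a = a → τ a = a → σ a = a := by
    intro τ σ hτ h h' a ha h1
    by_contra h2
    have hb : x (σ a) = σ a := by rw [h', ha]
    rcases hx.fix a (σ a) (τ (σ a)) ha hb (by rw [h, hb]) with h3 | h3 | h3
    · exact h2 h3.symm
    · apply h2; rw [← hτ.invol (σ a), ← h3, h1]
    · exact h2 (hτ.fix _ _ h3.symm h1)
  ext a
  by_cases ha : x a = a
  · rcases hx.fix a (τ a) (σ a) ha (by rw [h, ha]) (by rw [h', ha]) with h3 | h3 | h3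
    · rw [key hτ h h' a ha h3.symm, ← h3]
    · rw [key hσ h' h a ha h3.symm, ← h3]
    · exact h3
  · obtain ⟨j, j1, j2, j3⟩ := hx.exists_j hτ h ha
    obtain ⟨k, k1, k2, k3⟩ := hx.exists_j hσ h' ha
    rw [← j1, ← k1]; exact half j2 j3 k2 k3

theorem Good.pair_iff {x τ : Perm α} (hx : Good x) (hτ : IsMatching τ)
    (h : ∀ a, x (τ a) = τ (x a)) {a : α} (ha : x a ≠ a) (i : ℤ) :
    ((x ^ i) a = a ∨ (x ^ i) a = τ a) ↔ (x ^ (2 * i)) a = a := by
  obtain ⟨j, j1, j2, j3⟩ := hx.exists_j hτ h ha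
  constructor
  · rintro (h1 | h1)
    · rw [two_mul, zpow_add, Perm.mul_apply, h1, h1]
    · rw [two_mul, zpow_add, Perm.mul_apply, h1, comm_zpow h, h1, hτ.invol]
  · intro h1
    by_cases h2 : (x ^ i) a = a
    · exact Or.inl h2
    · exact Or.inr ((half h1 h2 j2 j3).trans j1)

variable [Fintype α] [DecidableEq α]

theorem swap_eq_iff {τ : Perm α} (hτ : IsMatching τ) {a b : α} (hb : τ b ≠ b) :
    swap a (τ a) = swap b (τ b) ↔ (a = b ∨ a = τ b) := by
  constructor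
  · intro h
    by_contra h1
    push Not at h1
    have h2 := congrArg (fun f : Perm α => f a) h
    simp only [swap_apply_left, swap_apply_of_ne_of_ne h1.1 h1.2] at h2
    rw [h2, swap_self] at h
    exact hb (swap_eq_refl_iff.1 h.symm).symm
  · rintro (rfl | rfl)
    · rfl
    · rw [hτ.invol, swap_comm]

theorem Good.quot {x τ : Perm α} (hx : Good x) (hτ : IsMatching τ)
    (hC : x ∈ Subgroup.centralizer ({τ} : Set (Perm α))) :
    Good (OnCycleFactors.toPermHom τ ⟨x, hC⟩) := by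
  have h : ∀ a, x (τ a) = τ (x a) := fun a =>
    congrArg (fun f : Perm α => f a) (Subgroup.mem_centralizer_singleton_iff.1 hC)
  have hv : ∀ (i : ℤ) (c : τ.cycleFactorsFinset) (a : α), (c : Perm α) = swap a (τ a) →
      (((OnCycleFactors.toPermHom τ ⟨x, hC⟩ ^ i) c : τ.cycleFactorsFinset) : Perm α) =
        swap ((x ^ i) a) (τ ((x ^ i) a)) := by
    intro i c a hc
    rw [← map_zpow, OnCycleFactors.coe_toPermHom, hc, ← comm_zpow h, swap_apply_apply]
    rfl
  have hf : ∀ (i : ℤ) (c : τ.cycleFactorsFinset) (a : α), τ a ≠ a → (c : Perm α) = swap a (τ a) →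
      ((OnCycleFactors.toPermHom τ ⟨x, hC⟩ ^ i) c = c ↔ ((x ^ i) a = a ∨ (x ^ i) a = τ a)) := by
    intro i c a ha hc
    rw [Subtype.ext_iff, hv i c a hc, hc, swap_eq_iff hτ ha]
  have hf1 : ∀ (c : τ.cycleFactorsFinset) (a : α), τ a ≠ a → (c : Perm α) = swap a (τ a) →
      ((OnCycleFactors.toPermHom τ ⟨x, hC⟩) c = c ↔ (x a = a ∨ x a = τ a)) := by
    intro c a ha hc
    simpa using hf 1 c a ha hc
  have same : ∀ a b, τ a ≠ a → τ b ≠ b → (x a = a ∧ x b = b) ∨ (x a = τ a ∧ x b = τ b) →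
      swap a (τ a) = swap b (τ b) := by
    rintro a b ha hb (⟨h1, h2⟩ | ⟨h1, h2⟩)
    · rcases hx.fix b a (τ a) h2 h1 (by rw [h, h1]) with h3 | h3 | h3
      · rw [h3]
      · exact ((swap_eq_iff hτ ha).2 (Or.inr h3)).symm
      · exact absurd h3.symm ha
    · have key : ∀ a, τ a ≠ a → x a = τ a → ∀ i : ℤ, ((x ^ i) a = a ↔ ∃ k, i = 2 * k) ∧
          ((x ^ i) a = a ∨ (x ^ i) a = τ a) := by
        intro a ha h1 i
        have h3 : (x ^ (2 * 1 : ℤ)) a = a :=
          (hx.pair_iff hτ h (h1 ▸ ha) 1).1 (Or.inr (by simpa using h1))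
        have h4 : ∀ k : ℤ, (x ^ (2 * k)) a = a := fun k =>
          (per x a _).2 (((per x a _).1 h3).trans ⟨k, by ring⟩)
        exact ⟨⟨even_of h3 (by simpa [h1] using ha), fun ⟨k, hk⟩ => hk ▸ h4 k⟩,
          (hx.pair_iff hτ h (h1 ▸ ha) i).2 (h4 i)⟩
      obtain ⟨j, hj⟩ := hx.cyc a b (h1 ▸ ha) (fun i => by rw [(key a ha h1 i).1, (key b hb h2 i).1])
      exact ((swap_eq_iff hτ ha).2 (hj ▸ (key a ha h1 j).2)).symm
  constructor
  · intro c d e hc hd he
    obtain ⟨a, ha, ea⟩ := (mem_cycleFactors_matching hτ.invol _).1 c.2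
    obtain ⟨b, hb, eb⟩ := (mem_cycleFactors_matching hτ.invol _).1 d.2
    obtain ⟨b', hb', eb'⟩ := (mem_cycleFactors_matching hτ.invol _).1 e.2
    rw [hf1 c a ha ea] at hc
    rw [hf1 d b hb eb] at hd
    rw [hf1 e b' hb' eb'] at he
    simp only [Subtype.ext_iff, ea, eb, eb']
    have h1 := same a b ha hb
    have h2 := same a b' ha hb'
    have h3 := same b b' hb hb'
    tauto
  · intro c d hc hcd
    obtain ⟨a, ha, ea⟩ := (mem_cycleFactors_matching hτ.invol _).1 c.2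
    obtain ⟨b, hb, eb⟩ := (mem_cycleFactors_matching hτ.invol _).1 d.2
    have hd := hcd 1
    simp only [zpow_one] at hd
    have hd' := mt hd.2 hc
    rw [Ne, hf1 c a ha ea, not_or] at hc
    rw [hf1 d b hb eb, not_or] at hd'
    have h1 : ∀ i : ℤ, (x ^ (2 * i)) a = a ↔ (x ^ (2 * i)) b = b := fun i => by
      rw [← hx.pair_iff hτ h hc.1, ← hx.pair_iff hτ h hd'.1, ← hf i c a ha ea, ← hf i d b hb eb, hcd]
    obtain ⟨j, -, j2, j3⟩ := hx.exists_j hτ h hc.1
    obtain ⟨k, -, k2, k3⟩ := hx.exists_j hτ h hd'.1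
    obtain ⟨l, hl⟩ := hx.cyc a b hc.1 (fun i => ⟨fun hi => by
      obtain ⟨t, rfl⟩ := even_of j2 j3 hi
      exact (h1 t).1 hi, fun hi => by
      obtain ⟨t, rfl⟩ := even_of k2 k3 hi
      exact (h1 t).2 hi⟩)
    exact ⟨l, Subtype.ext (by rw [hv l c a ea, hl, eb])⟩

end

theorem unique (n : ℕ) : ∀ (α : Type u) [Fintype α] [DecidableEq α], Fintype.card α = n →
    ∀ (x : Perm α), Good x → ∀ P Q : Sylow 2 (Perm α), x ∈ P → x ∈ Q → P = Q := by
  induction n using Nat.strong_induction_on with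
  | _ n ih =>
  intro α _ _ hn x hx P Q hP hQ
  rcases Nat.eq_zero_or_pos n with h0 | h0
  · have : IsEmpty α := Fintype.card_eq_zero_iff.1 (hn.trans h0)
    exact Sylow.ext (Subsingleton.elim _ _)
  obtain ⟨τ, hτ, h1, -⟩ := exists_matching P
  obtain ⟨σ, hσ, h1', h2'⟩ := exists_matching Q
  obtain rfl := hx.matching_eq hτ (h1 x hP) hσ (h1' x hQ)
  have hC : ∀ P : Sylow 2 (Perm α), (∀ g ∈ P, ∀ a, g (τ a) = τ (g a)) →
      (P : Subgroup (Perm α)) ≤ Subgroup.centralizer ({τ} : Set (Perm α)) := by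
    intro P h1 g hg
    rw [Subgroup.mem_centralizer_singleton_iff]
    ext a
    exact h1 g hg a
  have hsurj := toPermHom_surjective hτ.invol
  have hlt : Fintype.card τ.cycleFactorsFinset < n := by
    have := two_mul_card_cycleFactors_le τ
    omega
  have he := ih _ hlt τ.cycleFactorsFinset rfl _ (hx.quot hτ (hC P h1 hP))
    ((P.subtype (hC P h1)).mapSurjective hsurj) ((Q.subtype (hC Q h1')).mapSurjective hsurj)
    ⟨_, hP, rfl⟩ ⟨_, hQ, rfl⟩
  refine Sylow.ext (P.is_maximal' Q.isPGroup' fun g hg => ?_).symm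
  have : OnCycleFactors.toPermHom τ ⟨g, hC P h1 hg⟩ ∈
      (Q.subtype (hC Q h1')).mapSurjective hsurj := he ▸ ⟨_, hg, rfl⟩
  obtain ⟨k, hk, e⟩ := this
  have h3 := h2' _ (pair_of_toPermHom_eq_one hτ (k⁻¹ * ⟨g, hC P h1 hg⟩)
    (by rw [map_mul, map_inv, e, inv_mul_cancel]))
  have h4 : (k : Perm α) ∈ (Q : Subgroup (Perm α)) := hk
  simpa using (Q : Subgroup (Perm α)).mul_mem h4 h3

section
variable {α : Type*} [Fintype α] [DecidableEq α]

theorem swap_mem {x : Perm α} (hx : ∃ k : ℕ, orderOf x = 2 ^ k) {τ : Perm α} (hτ : ∀ a, τ (τ a) = a)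
    (h : ∀ a, x (τ a) = τ (x a)) (a : α) : ∃ P : Sylow 2 (Perm α), x ∈ P ∧ swap a (τ a) ∈ P := by
  obtain ⟨k, hk⟩ := hx
  have h1 : IsPGroup 2 (Subgroup.zpowers x) := IsPGroup.of_card (by rw [Nat.card_zpowers, hk])
  have h2 : Subgroup.zpowers x ≤ Subgroup.normalizer (pairKer τ hτ : Set (Perm α)) := by
    rw [Subgroup.zpowers_le]
    refine Subgroup.mem_normalizer_fintype fun g hg b => ?_
    obtain ⟨c, rfl⟩ := x.surjective b
    rcases hg c with h3 | h3
    · left; simp [h3]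
    · right; simp [h3, h]
  obtain ⟨P, hP⟩ := (h1.to_sup_of_normal_right' (pairKer_isPGroup τ hτ) h2).exists_le_sylow
  exact ⟨P, hP (Subgroup.mem_sup_left (Subgroup.mem_zpowers x)),
    hP (Subgroup.mem_sup_right (swap_pair τ hτ a))⟩

theorem exists_invol {x : Perm α} {a b : α} (hab : ¬ x.SameCycle a b)
    (h : ∀ i : ℤ, (x ^ i) a = a ↔ (x ^ i) b = b) :
    ∃ τ : Perm α, (∀ a, τ (τ a) = a) ∧ (∀ a, x (τ a) = τ (x a)) ∧ τ a = b := by
  classical
  have wd : ∀ {a b : α}, (∀ i : ℤ, (x ^ i) a = a → (x ^ i) b = b) → ∀ i j : ℤ,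
      (x ^ i) a = (x ^ j) a → (x ^ i) b = (x ^ j) b := by
    intro a b h i j hij
    have := h (-j + i) (by rw [zpow_add, Perm.mul_apply, hij]; simp)
    rw [zpow_add, Perm.mul_apply, zpow_neg, Perm.inv_eq_iff_eq] at this
    exact this
  let f : α → α := fun y => if h : x.SameCycle a y then (x ^ h.choose) b else
    if h' : x.SameCycle b y then (x ^ h'.choose) a else y
  have fa : ∀ i : ℤ, f ((x ^ i) a) = (x ^ i) b := fun i => by
    have h1 : x.SameCycle a ((x ^ i) a) := ⟨i, rfl⟩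
    simp only [f, dif_pos h1]
    exact wd (fun i => (h i).1) _ _ h1.choose_spec
  have fb : ∀ i : ℤ, f ((x ^ i) b) = (x ^ i) a := fun i => by
    have h1 : x.SameCycle b ((x ^ i) b) := ⟨i, rfl⟩
    have h2 : ¬ x.SameCycle a ((x ^ i) b) := fun h2 => hab (h2.trans h1.symm)
    simp only [f, dif_neg h2, dif_pos h1]
    exact wd (fun i => (h i).2) _ _ h1.choose_spec
  have fo : ∀ y, ¬ x.SameCycle a y → ¬ x.SameCycle b y → f y = y := fun y h1 h2 => by
    simp only [f, dif_neg h1, dif_neg h2]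
  have hi : Function.Involutive f := by
    intro y
    by_cases h1 : x.SameCycle a y
    · obtain ⟨i, rfl⟩ := h1; rw [fa, fb]
    by_cases h2 : x.SameCycle b y
    · obtain ⟨i, rfl⟩ := h2; rw [fb, fa]
    rw [fo y h1 h2, fo y h1 h2]
  refine ⟨hi.toPerm f, hi, fun y => ?_, by simpa using fa 0⟩
  show x (f y) = f (x y)
  have e : ∀ (i : ℤ) (c : α), x ((x ^ i) c) = (x ^ (1 + i)) c := fun i c => by
    rw [zpow_add, zpow_one, Perm.mul_apply]
  by_cases h1 : x.SameCycle a y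
  · obtain ⟨i, rfl⟩ := h1; rw [fa, e, e, fa]
  by_cases h2 : x.SameCycle b y
  · obtain ⟨i, rfl⟩ := h2; rw [fb, e, e, fb]
  rw [fo y h1 h2, fo _ (by simpa using h1) (by simpa using h2)]

theorem good_of {x : Perm α} (hx : ∃ k : ℕ, orderOf x = 2 ^ k)
    (h : ∃! P : Sylow 2 (Perm α), x ∈ P) : Good x := by
  have key : ∀ a b c, ¬ x.SameCycle a b → (∀ i : ℤ, (x ^ i) a = a ↔ (x ^ i) b = b) →
      ¬ x.SameCycle a c → (∀ i : ℤ, (x ^ i) a = a ↔ (x ^ i) c = c) → b = c := by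
    intro a b c h1 h2 h3 h4
    obtain ⟨τ, t1, t2, rfl⟩ := exists_invol h1 h2
    obtain ⟨σ, s1, s2, rfl⟩ := exists_invol h3 h4
    obtain ⟨P, p1, p2⟩ := swap_mem hx t1 t2 a
    obtain ⟨Q, q1, q2⟩ := swap_mem hx s1 s2 a
    obtain rfl := h.unique p1 q1
    exact swap_unique P.isPGroup' (fun h => h1 (h ▸ SameCycle.refl _ _))
      (fun h => h3 (h ▸ SameCycle.refl _ _)) p2 q2
  constructor
  · intro a b c ha hb hc
    by_contra hh
    push Not at hh
    exact hh.2.2 (key a b c (fun h => hh.1 (h.eq_of_left ha))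
      (fun i => by simp [zpow_apply_eq_self_of_apply_eq_self, ha, hb])
      (fun h => hh.2.1 (h.eq_of_left ha))
      (fun i => by simp [zpow_apply_eq_self_of_apply_eq_self, ha, hc]))
  · intro a b ha hab
    by_contra hh
    have hb : b = x b := key a b (x b) hh hab (by simpa using hh) (fun i => by
      rw [hab, comm_zpow (x := x) (τ := x) (fun _ => rfl), x.injective.eq_iff])
    exact ha (by simpa using (hab 1).2 (by simpa using hb.symm))

theorem per_iff {x : Perm α} {a : α} (ha : x a ≠ a) (i : ℤ) :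
    (x ^ i) a = a ↔ (((x.cycleOf a).support.card : ℕ) : ℤ) ∣ i := by
  have hc := isCycle_cycleOf x ha
  rw [← cycleOf_zpow_apply_self, ← hc.orderOf, orderOf_dvd_iff_zpow_eq_one]
  refine ⟨fun h => ?_, fun h => by rw [h]; rfl⟩
  rw [← zpow_mod_orderOf] at h ⊢
  obtain ⟨m, hm⟩ := Int.eq_ofNat_of_zero_le (Int.emod_nonneg i
    (show ((orderOf (x.cycleOf a) : ℕ) : ℤ) ≠ 0 by exact_mod_cast (orderOf_pos _).ne'))
  rw [hm, zpow_natCast] at h ⊢
  exact (hc.pow_eq_one_iff' (by rwa [cycleOf_apply_self])).2 h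

theorem good_iff (x : Perm α) :
    Good x ↔ (Fintype.card α ≤ x.support.card + 2 ∧ x.cycleType.Nodup) := by
  have h1 : (∀ a b c, x a = a → x b = b → x c = c → a = b ∨ a = c ∨ b = c) ↔
      Fintype.card α ≤ x.support.card + 2 := by
    have : Fintype.card α ≤ x.support.card + 2 ↔ ¬ 2 < x.supportᶜ.card := by
      rw [Finset.card_compl]; omega
    rw [this, Finset.two_lt_card_iff]
    simp only [Finset.mem_compl, notMem_support]
    constructor
    · rintro h ⟨a, b, c, ha, hb, hc, h1, h2, h3⟩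
      have := h a b c ha hb hc; tauto
    · intro h a b c ha hb hc
      by_contra hh
      push Not at hh
      exact h ⟨a, b, c, ha, hb, hc, hh⟩
  have h2 : (∀ a b, x a ≠ a → (∀ i : ℤ, (x ^ i) a = a ↔ (x ^ i) b = b) → x.SameCycle a b) ↔
      x.cycleType.Nodup := by
    rw [cycleType_def, Multiset.nodup_map_iff_inj_on x.cycleFactorsFinset.nodup]
    constructor
    · intro h c hc d hd hcd
      obtain ⟨a, ha, -⟩ := (mem_cycleFactorsFinset_iff.1 hc).1
      obtain ⟨b, hb, -⟩ := (mem_cycleFactorsFinset_iff.1 hd).1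
      have ea := cycle_is_cycleOf (mem_support.2 ha) hc
      have eb := cycle_is_cycleOf (mem_support.2 hb) hd
      have ha' : x a ≠ a := by rwa [← (mem_cycleFactorsFinset_iff.1 hc).2 a (mem_support.2 ha)]
      have hb' : x b ≠ b := by rwa [← (mem_cycleFactorsFinset_iff.1 hd).2 b (mem_support.2 hb)]
      rw [ea, eb]
      refine (h a b ha' fun i => ?_).cycleOf_eq
      rw [per_iff ha', per_iff hb', ← ea, ← eb]
      exact Iff.of_eq (congrArg (fun m : ℕ => (m : ℤ) ∣ i) hcd)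
    · intro h a b ha hab
      have hb : x b ≠ b := fun hb => ha (by simpa using (hab 1).2 (by simpa using hb))
      have := h _ (cycleOf_mem_cycleFactorsFinset_iff.2 (mem_support.2 ha)) _
        (cycleOf_mem_cycleFactorsFinset_iff.2 (mem_support.2 hb)) (by
          apply Nat.dvd_antisymm
          · exact Int.natCast_dvd_natCast.1 ((per_iff ha _).1 ((hab _).2 ((per_iff hb _).2 dvd_rfl)))
          · exact Int.natCast_dvd_natCast.1 ((per_iff hb _).1 ((hab _).1 ((per_iff ha _).2 dvd_rfl))))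
      have h3 : b ∈ (x.cycleOf a).support := by
        rw [this]; exact mem_support_cycleOf_iff.2 ⟨SameCycle.refl _ _, mem_support.2 hb⟩
      exact (mem_support_cycleOf_iff.1 h3).1
  rw [← h1, ← h2]
  exact ⟨fun h => ⟨h.1, h.2⟩, fun h => ⟨h.1, h.2⟩⟩

end


/-- Let n ≥ 2 and let x be an element of 2-power order of the symmetric group of degree n. Then x lies in exactly one Sylow 2-subgroup if and only if x has at most two fixed points and the nontrivial cycles of x have pairwise different lengths. -/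
theorem result (n : ℕ) (hn : 2 ≤ n)
    (x : Equiv.Perm (Fin n)) (hx : ∃ k : ℕ, orderOf x = 2 ^ k) :
    (∃! P : Sylow 2 (Equiv.Perm (Fin n)), x ∈ P) ↔ (n ≤ x.support.card + 2 ∧ x.cycleType.Nodup) := by
  have h := good_iff x
  rw [Fintype.card_fin] at h
  rw [← h]
  refine ⟨good_of hx, fun hg => ?_⟩
  obtain ⟨k, hk⟩ := hx
  have h1 : IsPGroup 2 (Subgroup.zpowers x) := IsPGroup.of_card (by rw [Nat.card_zpowers, hk])
  obtain ⟨P, hP⟩ := h1.exists_le_sylow
  exact ⟨P, hP (Subgroup.mem_zpowers x), fun Q hQ =>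
    unique _ _ rfl x hg Q P hQ (hP (Subgroup.mem_zpowers x))⟩

end Cfsg.Agent.S4349
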