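import Cfsg.Statements.S4351
import Cfsg.Agent.H25.CITStruct
import Cfsg.Agent.H25.FpfSL2
import Cfsg.Agent.H25.FpfSz
import Cfsg.Agent.H8.CCAb
-- import your own Cfsg.Agent.* helpers here

set_option autoImplicit false
open Cfsg

namespace Cfsg.Agent.S4351

/-- Let G be a finite non-solvable group in which the centralizer of every non-identity element is nilpotent. Then G is a non-abelian simple group; or G has a normal subgroup of index 2 isomorphic to PSL(2, 9); or G has a nontrivial normal elementary abelian 2-subgroup N such that G/N is isomorphic to PSL(2, q) for some q = 2ⁿ ≥ 4 or is a simple group of Suzuki type (simple, of the order of a Suzuki group). -/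
theorem result {G : Type*} [Group G] [Finite G] (hG : ¬ Group.IsSolvable G)
    (hCN : ∀ x : G, x ≠ 1 → Group.IsNilpotent (Subgroup.centralizer ({x} : Set G))) :
    (IsSimpleGroup G ∧ ¬ IsMulCommutative G) ∨
    (∃ (N : Subgroup G), N.Normal ∧ N.index = 2 ∧ ∃ (F : Type) (_ : Field F) (_ : Fintype F), Fintype.card F = 9 ∧
        Nonempty (N ≃* Matrix.ProjectiveSpecialLinearGroup (Fin 2) F)) ∨
    (∃ (N : Subgroup G) (_ : N.Normal), N ≠ ⊥ ∧ IsPGroup 2 N ∧ IsMulCommutative N ∧ (∀ x ∈ N, x * x = 1) ∧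
        ((∃ (F : Type) (_ : Field F) (_ : Fintype F), CharP F 2 ∧ 4 ≤ Fintype.card F ∧
            Nonempty (G ⧸ N ≃* Matrix.ProjectiveSpecialLinearGroup (Fin 2) F)) ∨ Cfsg.IsSuzuki (G ⧸ N))) := by
  have hC := H25.cit_of_cn hG hCN
  have := Fact.mk Nat.prime_two
  by_cases hO : Cfsg.pCore 2 G = ⊥
  · rcases H25.cit_simple_or_m10 hG hC hO with h | ⟨h, -⟩
    · exact Or.inl ⟨h, fun hc => hG (Group.isSolvable_of_comm hc.is_comm.comm)⟩
    · exact Or.inr (Or.inl h)
  have h2 := H69.isPGroup_pCore 2 G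
  refine Or.inr (Or.inr ⟨Cfsg.pCore 2 G, inferInstance, hO, h2, ?_⟩)
  rcases H25.cit_quotient_iso hG hC _ rfl hO with ⟨n, hn, ⟨e⟩⟩ | a
  · let := Fintype.ofFinite (GaloisField 2 n)
    have hK : 4 ≤ Fintype.card (GaloisField 2 n) := by
      rw [← Nat.card_eq_fintype_card, GaloisField.card 2 n (by omega)]
      exact Nat.pow_le_pow_right two_pos hn
    have hea := H25.ea_of_sl2 (F := GaloisField 2 n) (by rw [Nat.card_eq_fintype_card]; omega) hC _ h2
      (e.trans (H8.nonempty_sl_equiv_psl (GaloisField 2 n) (CharP.cast_eq_zero _ 2)).some.symm)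
    exact ⟨⟨⟨fun a b => Subtype.ext (hea.comm a.2 b.2)⟩⟩, hea,
      Or.inl ⟨_, inferInstance, this, inferInstance, hK, ⟨e⟩⟩⟩
  · have hea := H25.ea_of_sz hC _ h2 a
    have := H25.simple_of_isoSuzuki a
    exact ⟨⟨⟨fun a b => Subtype.ext (hea.comm a.2 b.2)⟩⟩, hea, Or.inr (H25.isSuzuki_of_iso a)⟩

end Cfsg.Agent.S4351
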