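import Cfsg.Statements.S4357
import Cfsg.Agent.H66.PSL2Cent
import Cfsg.Agent.H66.SL2Sylow2
import Cfsg.Agent.H67.FinField
import Cfsg.Agent.S0262

set_option autoImplicit false
open Cfsg

namespace Cfsg.Agent.S4357

open Cfsg.Agent.H66 Matrix

theorem exists_inverter {F : Type*} [Field F] [Fintype F] (hodd : Odd (Fintype.card F))
    (Q : Sylow 2 (SpecialLinearGroup (Fin 2) F)) (x : SpecialLinearGroup (Fin 2) F)
    (hx : x ∈ (Q : Subgroup (SpecialLinearGroup (Fin 2) F))) :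
    ∃ x' y : SpecialLinearGroup (Fin 2) F, y ∈ (Q : Subgroup (SpecialLinearGroup (Fin 2) F)) ∧
      tr2 x' ^ 2 ≠ 4 ∧ y * x' * y⁻¹ = x'⁻¹ ∧ 4 ∣ orderOf x' ∧
      ∀ t ∈ Subgroup.centralizer ({x'} : Set (SpecialLinearGroup (Fin 2) F)), t * x * t⁻¹ = x := by
  have h2 := H67.two_ne_zero_of_odd hodd
  obtain ⟨k, x0, y0, hk, -, ho, hx0, hy0, hxy, hgen⟩ := exists_sylow_two_gens hodd Q
  have ht := tr2_sq_ne_of_orderOf_two_pow h2 hk ho
  obtain ⟨i, rfl | rfl⟩ := hgen x hx
  · refine ⟨x0, y0, hy0, ht, hxy, ho ▸ pow_dvd_pow 2 (show 2 ≤ k + 1 by omega), fun t h => ?_⟩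
    rw [← conj_pow, Subgroup.mem_centralizer_singleton_iff.1 h, mul_inv_cancel_right]
  · have e : y0 * x0 ^ i * x0 * (y0 * x0 ^ i)⁻¹ = x0⁻¹ := by rw [← hxy]; group
    have t0 := tr2_eq_zero_of_conj_eq_inv (nonSc_of_tr2 ht) e
    have hz : orderOf (x0 ^ 2 ^ (k - 1)) = 2 ^ (1 + 1) := by
      rw [orderOf_pow' _ (by positivity), ho, Nat.gcd_eq_right (pow_dvd_pow 2 (by omega)),
        Nat.pow_div (by omega) two_pos]
      congr 1; omega
    have e2 : y0 * x0 ^ i * x0 ^ 2 ^ (k - 1) * (y0 * x0 ^ i)⁻¹ = (x0 ^ 2 ^ (k - 1))⁻¹ := by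
      rw [← conj_pow, e, inv_pow]
    have hzz : x0 ^ 2 ^ (k - 1) * x0 ^ 2 ^ (k - 1) = -1 := by
      refine ((mul_self_eq_one_iff _ h2).1 ?_).resolve_left fun e => ?_
      · have := pow_orderOf_eq_one (x0 ^ 2 ^ (k - 1))
        rw [hz] at this
        rw [← this, show 2 ^ (1 + 1) = 2 + 2 from rfl, pow_add, sq]
      · have := Nat.le_of_dvd two_pos (orderOf_dvd_of_pow_eq_one (x := x0 ^ 2 ^ (k - 1)) (n := 2)
          (by rw [sq, e]))
        omega
    have t1 := (mul_self_eq_neg_one_iff _ h2).1 hzz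
    refine ⟨y0 * x0 ^ i, x0 ^ 2 ^ (k - 1), Subgroup.pow_mem _ hx0 _, tr2_sq_ne_of_eq_zero h2 t0,
      ?_, ?_, fun t h => ?_⟩
    · generalize y0 * x0 ^ i = w at *
      generalize x0 ^ 2 ^ (k - 1) = z at *
      rw [inv_eq_neg_of_tr2 t1, mul_inv_eq_iff_eq_mul] at e2
      rw [inv_eq_neg_of_tr2 t0, mul_inv_eq_iff_eq_mul, neg_mul, e2, neg_mul, neg_neg]
    · have := mul_self_of_tr2_eq_zero t0
      rw [orderOf_eq_prime_pow (p := 2) (n := 1)]
      · rfl
      · rw [pow_one, sq, this]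
        intro e
        have := congrArg (fun k : Matrix.SpecialLinearGroup (Fin 2) F => k.1 0 0) e
        simp only [sl2_neg_apply, sl2_one00] at this
        exact h2 (by linear_combination -this)
      · rw [show 2 ^ (1 + 1) = 2 * 2 from rfl, pow_mul, sq (y0 * x0 ^ i), this]; simp
    · rw [Subgroup.mem_centralizer_singleton_iff.1 h, mul_inv_cancel_right]

theorem eq_of_mem_of_normalizer {G : Type*} [Group G] [Finite G] {p : ℕ} [Fact p.Prime]
    (P Q : Sylow p G) (N : Subgroup G) (hP : (P : Subgroup G) ≤ N) (hQ : (Q : Subgroup G) ≤ N)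
    (hN : N ≤ Subgroup.normalizer (Q : Set G)) : P = Q := by
  have := P.isPGroup'.inf_normalizer_sylow Q
  rw [inf_eq_left.2 (hP.trans hN), left_eq_inf] at this
  exact Sylow.ext (P.is_maximal' Q.isPGroup' this).symm

theorem not_redundant {F : Type*} [Field F] [Fintype F] (p : ℕ) [Fact p.Prime]
    (Q : Sylow p (SpecialLinearGroup (Fin 2) F))
    (h : ¬ (p = 2 ∧ (¬ ∃ k : ℕ, Fintype.card F + 1 = 2 ^ k) ∧ (¬ ∃ k : ℕ, Fintype.card F = 2 ^ k) ∧
        ¬ ∃ k : ℕ, Fintype.card F = 2 ^ k + 1)) :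
    ∃ x ∈ (Q : Subgroup (SpecialLinearGroup (Fin 2) F)),
      ∀ P : Sylow p (SpecialLinearGroup (Fin 2) F), x ∈ P → P = Q := by
  have hp : p.Prime := Fact.out
  by_cases hQ : (Q : Subgroup (SpecialLinearGroup (Fin 2) F)) = ⊥
  · exact ⟨1, Q.1.one_mem, fun P _ => (Sylow.ext (Q.is_maximal' P.isPGroup' (hQ ▸ bot_le)))⟩
  by_cases hp0 : (p : F) = 0
  · have : CharP F p := (CharP.charP_iff_prime_eq_zero hp).2 hp0
    obtain ⟨x, hx, hx1⟩ := (Subgroup.bot_or_exists_ne_one _).resolve_left hQ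
    refine ⟨x, hx, fun P hP => ?_⟩
    obtain ⟨a, ha⟩ := H9.sylow_sl_two_eq_lineStab p P
    obtain ⟨b, hb⟩ := H9.sylow_sl_two_eq_lineStab p Q
    by_cases hab : a = b
    · exact Sylow.ext (by rw [ha, hb, hab])
    · have := H9.lineStab_inf_eq_bot hab
      rw [← ha, ← hb] at this
      exact absurd (this ▸ (⟨hP, hx⟩ : x ∈ (P : Subgroup _) ⊓ Q) : x ∈ (⊥ : Subgroup _)) hx1
  by_cases hp2 : p = 2
  · subst hp2
    have hodd : Odd (Fintype.card F) := H67.odd_card_of_two_ne_zero hp0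
    obtain ⟨k, x0, y0, hk, hc, ho, hx0, hy0, hxy, hgen⟩ := exists_sylow_two_gens hodd Q
    have ht := tr2_sq_ne_of_orderOf_two_pow hp0 hk ho
    have hq : 1 < Fintype.card F := Fintype.one_lt_card
    have hdv : 4 ∣ Nat.card (Subgroup.centralizer ({x0} : Set (SpecialLinearGroup (Fin 2) F))) :=
      (ho ▸ pow_dvd_pow 2 (show 2 ≤ k + 1 by omega) : 4 ∣ orderOf x0).trans
        (Subgroup.orderOf_dvd_natCard _ (Subgroup.mem_centralizer_singleton_iff.2 rfl))
    have hpow : ∃ j, Nat.card (Subgroup.centralizer ({x0} : Set (SpecialLinearGroup (Fin 2) F))) =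
        2 ^ j := by
      have hne : ¬ ∃ k : ℕ, Fintype.card F = 2 ^ k := by
        rintro ⟨j, hj⟩
        rcases j with _ | j
        · omega
        · rw [hj, pow_succ, Nat.odd_iff] at hodd; omega
      have h' : (∃ k : ℕ, Fintype.card F + 1 = 2 ^ k) ∨ ∃ k : ℕ, Fintype.card F = 2 ^ k + 1 := by
        tauto
      by_cases hs : Split (tr2 x0)
      · rw [(centralizer_split ht hs).2, Nat.card_eq_fintype_card] at hdv ⊢
        rcases h' with ⟨j, hj⟩ | ⟨j, hj⟩
        · rcases j with _ | _ | j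
          · omega
          · omega
          · rw [pow_add, pow_add] at hj; omega
        · exact ⟨j, by omega⟩
      · rw [(centralizer_nonsplit hs).2, Nat.card_eq_fintype_card] at hdv ⊢
        rcases h' with ⟨j, hj⟩ | ⟨j, hj⟩
        · exact ⟨j, hj⟩
        · rcases j with _ | _ | j
          · omega
          · exact ⟨2, by omega⟩
          · rw [pow_add, pow_add] at hj; omega
    obtain ⟨j, hj⟩ := hpow
    have hN : IsPGroup 2 (Subgroup.normalizer (Subgroup.centralizer ({x0} :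
        Set (SpecialLinearGroup (Fin 2) F)) : Set (SpecialLinearGroup (Fin 2) F))) :=
      IsPGroup.of_card (n := j + 1) (by rw [card_normalizer_centralizer ht, hj, pow_succ'])
    have key : ∀ P : Sylow 2 (SpecialLinearGroup (Fin 2) F), x0 ∈ P →
        (P : Subgroup (SpecialLinearGroup (Fin 2) F)) = Subgroup.normalizer (Subgroup.centralizer
          ({x0} : Set (SpecialLinearGroup (Fin 2) F)) : Set (SpecialLinearGroup (Fin 2) F)) := by
      intro P hP
      refine (P.is_maximal' hN fun g hg => ?_).symm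
      have hi : ((Subgroup.zpowers x0).subgroupOf (P : Subgroup _)).index = 2 := by
        refine index_eq_of_card_mul _ (a := 2 ^ (k + 1)) ?_ ?_
        · rw [Nat.card_congr (Subgroup.subgroupOfEquivOfLe (Subgroup.zpowers_le.2 hP)).toEquiv,
            Nat.card_zpowers, ho]
        · rw [Nat.card_congr (Sylow.equiv P Q).toEquiv, hc, ← pow_succ]
      have := (Subgroup.normal_of_index_eq_two hi).conj_mem ⟨x0, hP⟩
        (Subgroup.mem_zpowers x0) ⟨g, hg⟩
      obtain ⟨i, hi⟩ := this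
      rw [mem_normalizer_centralizer_iff ht]
      refine eq_or_eq_inv_of_commute ht ?_ (tr2_conj _ _)
      have hi' : x0 ^ i = g * x0 * g⁻¹ := hi
      rw [← hi']
      exact (Commute.zpow_self x0 i).eq
    exact ⟨x0, hx0, fun P hP => Sylow.ext ((key P hP).trans (key Q hx0).symm)⟩
  · obtain ⟨r, hr⟩ := CharP.exists F
    have : Fact r.Prime := ⟨CharP.char_is_prime F r⟩
    have hcyc := fun P : Sylow p (SpecialLinearGroup (Fin 2) F) => S0262.result r p hp2
      (fun e => hp0 (e ▸ CharP.cast_eq_zero F r)) P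
    obtain ⟨x, hx⟩ := (hcyc Q).exists_generator
    refine ⟨x, x.2, fun P hP => (Sylow.ext (Q.is_maximal' P.isPGroup' fun y hy => ?_))⟩
    obtain ⟨i, hi⟩ := hx ⟨y, hy⟩
    have : y = x.1 ^ i := (congrArg Subtype.val hi).symm
    rw [this]
    exact Subgroup.zpow_mem _ hP _


/-- Let F be a finite field with q elements, p a prime and G = SL(2, F). Say a Sylow p-subgroup Q of G is redundant when every element of p-power order lies in some Sylow p-subgroup other than Q. Then G has a redundant Sylow p-subgroup if and only if p = 2 and q is not of any of the forms 2ᵏ - 1, 2ᵏ, 2ᵏ + 1. -/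
theorem result {F : Type*} [Field F] [Fintype F] (p : ℕ) [Fact p.Prime] :
    (∃ Q : Sylow p (Matrix.SpecialLinearGroup (Fin 2) F), ∀ x : Matrix.SpecialLinearGroup (Fin 2) F,
        (∃ k : ℕ, orderOf x = p ^ k) → ∃ P : Sylow p (Matrix.SpecialLinearGroup (Fin 2) F), P ≠ Q ∧ x ∈ P) ↔
      (p = 2 ∧ (¬ ∃ k : ℕ, Fintype.card F + 1 = 2 ^ k) ∧ (¬ ∃ k : ℕ, Fintype.card F = 2 ^ k) ∧
        ¬ ∃ k : ℕ, Fintype.card F = 2 ^ k + 1) := by
  have hp : p.Prime := Fact.out
  constructor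
  · rintro ⟨Q, hQ⟩
    by_contra h
    obtain ⟨x, hx, h'⟩ := not_redundant p Q h
    obtain ⟨P, hP, hxP⟩ := hQ x (by
      obtain ⟨k, hk⟩ := IsPGroup.iff_orderOf.1 Q.isPGroup' ⟨x, hx⟩
      exact ⟨k, by rw [← hk, Subgroup.orderOf_mk]⟩)
    exact hP (h' P hxP)
  · rintro ⟨rfl, h1, h2, h3⟩
    have hodd : Odd (Fintype.card F) := by
      apply H67.odd_card_of_two_ne_zero
      intro e
      have : CharP F 2 := (CharP.charP_iff_prime_eq_zero hp).2 e
      obtain ⟨n, -, hn⟩ := FiniteField.card F 2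
      exact h2 ⟨n, hn⟩
    obtain ⟨Q⟩ : Nonempty (Sylow 2 (Matrix.SpecialLinearGroup (Fin 2) F)) := inferInstance
    refine ⟨Q, fun x ⟨k, hk⟩ => ?_⟩
    by_cases hx : x ∈ (Q : Subgroup (SpecialLinearGroup (Fin 2) F))
    · obtain ⟨x', y, hy, ht, hxy, h4, hc⟩ := exists_inverter hodd Q x hx
      have hq : 1 < Fintype.card F := Fintype.one_lt_card
      obtain ⟨r, hr, hr2, hrd⟩ : ∃ r : ℕ, r.Prime ∧ r ≠ 2 ∧
          r ∣ Nat.card (Subgroup.centralizer ({x'} : Set (SpecialLinearGroup (Fin 2) F))) := by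
        by_contra hcon
        push Not at hcon
        have := Nat.eq_prime_pow_of_unique_prime_dvd (p := 2) (Nat.card_pos.ne')
          (fun {d} hd hdv => by by_contra e; exact hcon d hd e hdv)
        by_cases hs : Split (tr2 x')
        · rw [(centralizer_split ht hs).2, Nat.card_eq_fintype_card] at this
          exact h3 ⟨_, by rw [← this]; omega⟩
        · rw [(centralizer_nonsplit hs).2, Nat.card_eq_fintype_card] at this
          exact h1 ⟨_, this⟩
      have : Fact r.Prime := ⟨hr⟩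
      obtain ⟨⟨t, htc⟩, hto⟩ := exists_prime_orderOf_dvd_card' r hrd
      rw [Subgroup.orderOf_mk] at hto
      refine ⟨t • Q, fun e => ?_, ?_⟩
      · have hN := Sylow.smul_eq_iff_mem_normalizer.1 e
        have e1 := conj_eq_inv_of_mem_centralizer (nonSc_of_tr2 ht) hxy (Subgroup.inv_mem _ htc)
        have e2 : t ^ 2 = t * y * t⁻¹ * y⁻¹ := by
          rw [mul_assoc, mul_assoc, ← mul_assoc y, e1, inv_inv, sq]
        have e3 := mem_sylow_of_pow_mem Q hN (e2 ▸ Subgroup.mul_mem _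
          ((Subgroup.mem_normalizer_iff.1 hN y).1 hy) (Subgroup.inv_mem _ hy))
        obtain ⟨j, hj⟩ := IsPGroup.iff_orderOf.1 Q.isPGroup' ⟨t, e3⟩
        rw [Subgroup.orderOf_mk, hto] at hj
        exact hr2 ((Nat.prime_dvd_prime_iff_eq hr Nat.prime_two).1
          (hr.dvd_of_dvd_pow (dvd_of_eq hj)))
      · rw [← hc t htc]
        exact ⟨x, hx, rfl⟩
    · have hP : IsPGroup 2 (Subgroup.zpowers x) := IsPGroup.of_card (by rw [Nat.card_zpowers, hk])
      obtain ⟨P, hP⟩ := hP.exists_le_sylow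
      exact ⟨P, fun e => hx (e ▸ hP (Subgroup.mem_zpowers x)), hP (Subgroup.mem_zpowers x)⟩

end Cfsg.Agent.S4357
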