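import Cfsg.Statements.S4356
import Cfsg.Agent.S4357

set_option autoImplicit false
open Cfsg

namespace Cfsg.Agent.S4356

theorem mem_iff {G H : Type*} [Group G] [Group H] [Finite G] {p : ℕ} [Fact p.Prime] {φ : G →* H}
    (hφ : Function.Surjective φ) (hk : φ.ker ≤ Subgroup.center G) (P : Sylow p G) {x : G}
    (hx : ∃ k, x ^ p ^ k = 1) : φ x ∈ P.mapSurjective hφ ↔ x ∈ P := by
  refine ⟨fun ⟨y, hy, e⟩ => ?_, fun h => ⟨x, h, rfl⟩⟩
  have hz : y⁻¹ * x ∈ Subgroup.center G := hk (by simp [MonoidHom.mem_ker, e])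
  have hN : x ∈ Subgroup.normalizer (P : Set G) := by
    have : x = y * (y⁻¹ * x) := by group
    rw [this]
    exact Subgroup.mul_mem _ (Subgroup.le_normalizer hy) (Subgroup.center_le_normalizer _ hz)
  obtain ⟨k, hk'⟩ := hx
  have hP : IsPGroup p (Subgroup.zpowers x) := by
    obtain ⟨j, -, hj⟩ := (Nat.dvd_prime_pow Fact.out).1 (orderOf_dvd_of_pow_eq_one hk')
    exact IsPGroup.of_card (by rw [Nat.card_zpowers, hj])
  have := hP.inf_normalizer_sylow P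
  have h2 : x ∈ Subgroup.zpowers x ⊓ Subgroup.normalizer (P : Set G) := ⟨Subgroup.mem_zpowers x, hN⟩
  rw [this] at h2
  exact h2.2

theorem map_inj {G H : Type*} [Group G] [Group H] [Finite G] {p : ℕ} [Fact p.Prime] {φ : G →* H}
    (hφ : Function.Surjective φ) (hk : φ.ker ≤ Subgroup.center G) {P Q : Sylow p G}
    (h : P.mapSurjective hφ = Q.mapSurjective hφ) : P = Q := by
  refine (Sylow.ext (P.is_maximal' Q.isPGroup' fun x hx => ?_)).symm
  obtain ⟨k, hk'⟩ := P.isPGroup' ⟨x, hx⟩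
  have hx' : ∃ k, x ^ p ^ k = 1 := ⟨k, congrArg Subtype.val hk'⟩
  exact (mem_iff hφ hk Q hx').1 (h ▸ (mem_iff hφ hk P hx').2 hx)

theorem transfer {G H : Type*} [Group G] [Group H] [Finite G] {p : ℕ} [Fact p.Prime] {φ : G →* H}
    (hφ : Function.Surjective φ) (hk : φ.ker ≤ Subgroup.center G) :
    (∃ Q : Sylow p H, ∀ x : H, (∃ k : ℕ, orderOf x = p ^ k) → ∃ P : Sylow p H, P ≠ Q ∧ x ∈ P) ↔
    (∃ Q : Sylow p G, ∀ x : G, (∃ k : ℕ, orderOf x = p ^ k) → ∃ P : Sylow p G, P ≠ Q ∧ x ∈ P) := by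
  have : Finite H := Finite.of_surjective φ hφ
  constructor
  · rintro ⟨Q, hQ⟩
    obtain ⟨Q, rfl⟩ := Sylow.mapSurjective_surjective hφ p Q
    refine ⟨Q, fun x ⟨k, hx⟩ => ?_⟩
    obtain ⟨P, hP, hxP⟩ := hQ (φ x) (by
      obtain ⟨j, -, hj⟩ := (Nat.dvd_prime_pow Fact.out).1 (hx ▸ orderOf_map_dvd φ x)
      exact ⟨j, hj⟩)
    obtain ⟨P, rfl⟩ := Sylow.mapSurjective_surjective hφ p P
    exact ⟨P, fun e => hP (by rw [e]),
      (mem_iff hφ hk P ⟨k, by rw [← hx, pow_orderOf_eq_one]⟩).1 hxP⟩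
  · rintro ⟨Q, hQ⟩
    refine ⟨Q.mapSurjective hφ, fun x ⟨k, hx⟩ => ?_⟩
    have hP : IsPGroup p (Subgroup.zpowers x) := IsPGroup.of_card (by rw [Nat.card_zpowers, hx])
    obtain ⟨R, hR⟩ := hP.exists_le_sylow
    obtain ⟨R, rfl⟩ := Sylow.mapSurjective_surjective hφ p R
    obtain ⟨y, hy, rfl⟩ := hR (Subgroup.mem_zpowers x)
    obtain ⟨P, hP, hyP⟩ := hQ y (by
      obtain ⟨k, hk⟩ := IsPGroup.iff_orderOf.1 R.isPGroup' ⟨y, hy⟩
      exact ⟨k, by rw [← hk, Subgroup.orderOf_mk]⟩)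
    exact ⟨P.mapSurjective hφ, fun e => hP (map_inj hφ hk e), ⟨y, hyP, rfl⟩⟩


/-- Let F be a finite field with q elements, p a prime and G = PSL(2, F). Say a Sylow p-subgroup Q of G is redundant when every element of p-power order lies in some Sylow p-subgroup other than Q. Then G has a redundant Sylow p-subgroup if and only if p = 2 and q is not of any of the forms 2ᵏ - 1, 2ᵏ, 2ᵏ + 1. -/
theorem result {F : Type*} [Field F] [Fintype F] (p : ℕ) [Fact p.Prime] :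
    (∃ Q : Sylow p (Matrix.ProjectiveSpecialLinearGroup (Fin 2) F), ∀ x : Matrix.ProjectiveSpecialLinearGroup (Fin 2) F,
        (∃ k : ℕ, orderOf x = p ^ k) → ∃ P : Sylow p (Matrix.ProjectiveSpecialLinearGroup (Fin 2) F), P ≠ Q ∧ x ∈ P) ↔
      (p = 2 ∧ (¬ ∃ k : ℕ, Fintype.card F + 1 = 2 ^ k) ∧ (¬ ∃ k : ℕ, Fintype.card F = 2 ^ k) ∧
        ¬ ∃ k : ℕ, Fintype.card F = 2 ^ k + 1) := by
  rw [← S4357.result p]
  exact transfer H66.toPSL_surjective (QuotientGroup.ker_mk' _).le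

end Cfsg.Agent.S4356
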