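import Cfsg.Statements.S4358

set_option autoImplicit false
open Cfsg

namespace Cfsg.Agent.S4358

open Matrix Finset

section
variable {F : Type*} [Field F] {ι : Type*} [Fintype ι] [DecidableEq ι] [AddCommGroup ι]

/-- monomial matrix with translation as permutation part -/
def mono (d : ι → F) (k : ι) : Matrix ι ι F := Matrix.of fun i j => if j = i + k then d i else 0

theorem mono_mul_apply (d : ι → F) (k : ι) (G : Matrix ι ι F) (i j : ι) :
    (mono d k * G) i j = d i * G (i + k) j := by
  simp [mono, mul_apply]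

theorem mul_mono_apply (d : ι → F) (k : ι) (G : Matrix ι ι F) (i j : ι) :
    (G * mono d k) i j = G i (j - k) * d (j - k) := by
  simp [mono, mul_apply, ← sub_eq_iff_eq_add, eq_comm]

theorem mono_mul (d d' : ι → F) (k k' : ι) :
    mono d k * mono d' k' = mono (fun i => d i * d' (i + k)) (k + k') := by
  ext i j
  rw [mono_mul_apply]; simp [mono, add_assoc]

omit [Fintype ι] in
theorem mono_zero (d : ι → F) : mono d 0 = diagonal d := by
  ext i j; simp [mono, diagonal_apply, eq_comm]

theorem mono_pow (d : ι → F) (k : ι) (t : ℕ) :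
    mono d k ^ t = mono (fun i => ∏ s ∈ range t, d (i + s • k)) (t • k) := by
  induction t with
  | zero => simp [mono_zero]
  | succ t ih => rw [pow_succ, ih, mono_mul, succ_nsmul]; simp [prod_range_succ]

/-- the monomial Sylow subgroup -/
def Q (F : Type*) [Field F] (ι : Type*) [Fintype ι] [DecidableEq ι] [AddCommGroup ι] (p : ℕ)
    [NeZero p] : Subgroup (GL ι F) where
  carrier := {g | ∃ d k, (∀ i, d i ^ p = 1) ∧ (g : Matrix ι ι F) = mono d k}
  one_mem' := ⟨1, 0, by simp, by simp [mono_zero]⟩
  mul_mem' := by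
    rintro a b ⟨d, k, h1, h2⟩ ⟨d', k', h1', h2'⟩
    exact ⟨fun i => d i * d' (i + k), k + k', fun i => by rw [mul_pow, h1, h1', one_mul], by
      rw [Units.val_mul, h2, h2', mono_mul]⟩
  inv_mem' := by
    rintro a ⟨d, k, h1, h2⟩
    refine ⟨fun i => (d (i - k))⁻¹, -k, fun i => by rw [inv_pow, h1, inv_one], ?_⟩
    apply Units.inv_eq_of_mul_eq_one_right
    have : ∀ i, d i ≠ 0 := fun i h => by
      have := h1 i; rw [h, zero_pow (NeZero.ne p)] at this; exact zero_ne_one this
    rw [h2, mono_mul, add_neg_cancel, mono_zero]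
    simp [this]

variable {p : ℕ} [NeZero p]

theorem ne_zero_of {x : F} (h : x ^ p = 1) : x ≠ 0 := fun h0 => by
  rw [h0, zero_pow (NeZero.ne p)] at h; exact zero_ne_one h

/-- the unit attached to monomial data -/
def monoU (d : ι → F) (k : ι) (h : ∀ i, d i ^ p = 1) : GL ι F :=
  ⟨mono d k, mono (fun i => (d (i - k))⁻¹) (-k), by
    rw [mono_mul, add_neg_cancel, mono_zero]; simp [ne_zero_of (h _)], by
    rw [mono_mul, neg_add_cancel, mono_zero]; simp [ne_zero_of (h _), sub_eq_add_neg]⟩

theorem monoU_mem (d : ι → F) (k : ι) (h : ∀ i, d i ^ p = 1) : monoU d k h ∈ Q F ι p :=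
  ⟨d, k, h, rfl⟩

theorem card_Q (hr : Nat.card (rootsOfUnity p F) = p) :
    Nat.card (Q F ι p) = p ^ Fintype.card ι * Fintype.card ι := by
  have h : ∀ (d : ι → rootsOfUnity p F) i, (((d i : Fˣ) : F)) ^ p = 1 := fun d i => by
    have := (d i).2
    rw [mem_rootsOfUnity] at this
    rw [← Units.val_pow_eq_pow_val, this, Units.val_one]
  let f : (ι → rootsOfUnity p F) × ι → Q F ι p :=
    fun x => ⟨monoU (fun i => ((x.1 i : Fˣ) : F)) x.2 (h x.1), monoU_mem _ _ _⟩
  have hf : Function.Bijective f := by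
    constructor
    · rintro ⟨d, k⟩ ⟨d', k'⟩ he
      have h1 : mono (fun i => ((d i : Fˣ) : F)) k = mono (fun i => ((d' i : Fˣ) : F)) k' :=
        congrArg (fun x : Q F ι p => ((x : GL ι F) : Matrix ι ι F)) he
      have hk : k = k' := by
        by_contra hk
        have := congrFun (congrFun h1 0) k
        simp [mono, hk] at this
      subst hk
      refine Prod.ext (funext fun i => Subtype.ext (Units.ext ?_)) rfl
      simpa [mono] using congrFun (congrFun h1 i) (i + k)
    · rintro ⟨g, d, k, h1, h2⟩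
      refine ⟨⟨fun i => ⟨Units.mk0 (d i) (ne_zero_of (h1 i)), ?_⟩, k⟩, Subtype.ext (Units.ext ?_)⟩
      · rw [mem_rootsOfUnity]; ext; simp [h1]
      · exact h2.symm
  rw [← Nat.card_eq_of_bijective f hf, Nat.card_prod, Nat.card_fun, hr, Nat.card_eq_fintype_card]

theorem row {ζ : F} (h1 : ζ ^ p = 1) (h2 : ζ ≠ 1) (h3 : ζ + (Fintype.card ι - 1) ≠ 0) {g : GL ι F}
    (hg : ∀ y ∈ Q F ι p, g * y * g⁻¹ ∈ Q F ι p) {a i b : ι} (hi : (g : Matrix ι ι F) a i ≠ 0)
    (hb : (g : Matrix ι ι F) a b ≠ 0) : i = b := by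
  by_contra hib
  have h : ∀ j, Function.update (1 : ι → F) i ζ j ^ p = 1 := by
    intro j
    rcases eq_or_ne j i with rfl | hj
    · simpa using h1
    · simp [hj]
  obtain ⟨d, k, -, e⟩ := hg _ (monoU_mem _ 0 h)
  have ht := congrArg trace e
  rw [Units.val_mul, Units.val_mul, trace_units_conj] at ht
  have hk : k = 0 := by
    by_contra hk
    apply h3
    have e1 : trace (mono d k) = 0 := by simp [trace, mono, hk]
    rw [e1] at ht
    rw [← ht]
    show _ = trace (mono _ 0)
    rw [mono_zero, trace_diagonal, sum_update_of_mem (mem_univ _)]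
    simp [card_sdiff, Nat.cast_sub (Fintype.card_pos_iff.2 ⟨i⟩)]
  subst hk
  have e2 : (g : Matrix ι ι F) * mono (Function.update 1 i ζ) 0 = mono d 0 * g := by
    rw [← e]; simp [monoU, mul_assoc]
  have e3 := congrFun (congrFun e2 a) i
  have e4 := congrFun (congrFun e2 a) b
  rw [mul_mono_apply, mono_mul_apply] at e3 e4
  simp only [sub_zero, add_zero, Function.update_self, Function.update_of_ne (Ne.symm hib),
    Pi.one_apply, mul_one] at e3 e4
  apply h2
  have : d a = 1 := mul_right_cancel₀ hb (by rw [← e4, one_mul])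
  rw [this, one_mul] at e3
  exact mul_left_cancel₀ hi (by rw [e3, mul_one])

end

theorem card_fact {F : Type*} [Field F] [Fintype F] (p : ℕ) [hp : Fact p.Prime]
    (hp2 : p ≠ 2) (h1 : p ∣ Fintype.card F - 1) (h2 : ¬ p ^ 2 ∣ Fintype.card F - 1) :
    (Nat.card (GL (Fin p) F)).factorization p = p + 1 := by
  set q := Fintype.card F with hq
  have hq1 : 1 < q := Fintype.one_lt_card
  have hpq : ¬ p ∣ q := fun h => by
    have := (Nat.dvd_sub_iff_right hq1.le h).1 h1
    exact hp.out.ne_one (Nat.dvd_one.1 this)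
  have hv : padicValNat p (q - 1) = 1 := by
    apply le_antisymm
    · by_contra hh
      exact h2 ((padicValNat_dvd_iff_le (by omega)).2 (by omega))
    · exact one_le_padicValNat_of_dvd (by omega) h1
  have he : ∀ i : Fin p, q ^ p - q ^ (i : ℕ) = q ^ (i : ℕ) * (q ^ (p - i) - 1 ^ (p - i)) := by
    intro i
    rw [Nat.mul_sub, ← pow_add, one_pow, mul_one, Nat.add_sub_cancel' i.2.le]
  have hne : ∀ i : Fin p, q ^ (p - i) - 1 ^ (p - i) ≠ 0 := by
    intro i
    have := Nat.one_lt_pow (n := p - i) (by have := i.2; omega) hq1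
    rw [one_pow]; omega
  rw [card_GL_field, Nat.factorization_prod (fun i _ => by
    rw [he]; exact mul_ne_zero (by positivity) (hne i)), Finsupp.finset_sum_apply]
  haveI : NeZero p := ⟨hp.out.ne_zero⟩
  rw [sum_congr rfl (g := fun i => 1 + if i = 0 then 1 else 0)]
  · simp [sum_add_distrib]
  · intro i _
    rw [← hq, he, Nat.factorization_mul (by positivity) (hne i), Finsupp.add_apply,
      Nat.factorization_eq_zero_of_not_dvd (fun h => hpq (hp.out.dvd_of_dvd_pow h)), zero_add,
      Nat.factorization_def _ hp.out,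
      padicValNat.pow_sub_pow (hp.out.odd_of_ne_two hp2) hq1 h1 hpq (by have := i.2; omega), hv]
    congr 1
    split_ifs with h
    · subst h; simp
    · apply padicValNat.eq_zero_of_not_dvd
      intro hd
      have h3 : (i : ℕ) ≠ 0 := fun h' => h (Fin.ext (by simpa using h'))
      have := Nat.le_of_dvd (by have := i.2; omega) hd
      have := i.2; omega


/-- Let p be an odd prime and F a finite field with q elements such that p divides q - 1 but p² does not. Then GL(p, F) has a Sylow p-subgroup Q such that every element of p-power order lies in some Sylow p-subgroup other than Q (a redundant Sylow p-subgroup). -/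
theorem result {F : Type*} [Field F] [Fintype F] (p : ℕ) [Fact p.Prime]
    (hp : p ≠ 2) (h1 : p ∣ Fintype.card F - 1) (h2 : ¬ p ^ 2 ∣ Fintype.card F - 1) :
    ∃ Q : Sylow p (Matrix.GeneralLinearGroup (Fin p) F), ∀ x : Matrix.GeneralLinearGroup (Fin p) F,
      (∃ k : ℕ, orderOf x = p ^ k) → ∃ P : Sylow p (Matrix.GeneralLinearGroup (Fin p) F), P ≠ Q ∧ x ∈ P := by
  classical
  have hpp : p.Prime := Fact.out
  haveI : NeZero p := ⟨hpp.ne_zero⟩
  have hp3 : 3 ≤ p := by have := hpp.two_le; omega
  obtain ⟨u, hu⟩ := exists_prime_orderOf_dvd_card (G := Fˣ) p (by rwa [Fintype.card_units])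
  have hζ : IsPrimitiveRoot (u : F) p := by
    rw [IsPrimitiveRoot.coe_units_iff, ← hu]; exact IsPrimitiveRoot.orderOf u
  have hr : Nat.card (rootsOfUnity p F) = p := hζ.card_rootsOfUnity
  obtain ⟨ζ, z1, z2, z3⟩ : ∃ ζ : F, ζ ^ p = 1 ∧ ζ ≠ 1 ∧ ζ + (Fintype.card (Fin p) - 1) ≠ 0 := by
    by_cases h : (u : F) + (Fintype.card (Fin p) - 1) = 0
    · refine ⟨u ^ 2, by rw [← pow_mul, mul_comm, pow_mul, hζ.pow_eq_one, one_pow],
        hζ.pow_ne_one_of_pos_of_lt (by norm_num) (by omega), fun h' => ?_⟩
      have : (u : F) ^ 2 = u ^ 1 := by rw [pow_one]; exact add_right_cancel (h'.trans h.symm)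
      have := hζ.pow_inj (by omega) (by omega) this
      omega
    · exact ⟨u, hζ.pow_eq_one, hζ.ne_one (by omega), h⟩
  let S : Sylow p (GL (Fin p) F) := Sylow.ofCard (Q F (Fin p) p) (by
    rw [card_Q hr, card_fact p hp h1 h2, Fintype.card_fin, pow_succ])
  refine ⟨S, fun x ⟨k, hk⟩ => ?_⟩
  by_cases hx : x ∈ Q F (Fin p) p
  swap
  · have : IsPGroup p (Subgroup.zpowers x) := IsPGroup.of_card (by rw [Nat.card_zpowers, hk])
    obtain ⟨P, hP⟩ := this.exists_le_sylow
    refine ⟨P, ?_, hP (Subgroup.mem_zpowers x)⟩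
    rintro rfl
    exact hx (hP (Subgroup.mem_zpowers x))
  have red : ∀ (G : Matrix (Fin p) (Fin p) F) (y : GL (Fin p) F), G.det ≠ 0 → y ∈ Q F (Fin p) p →
      (x : Matrix (Fin p) (Fin p) F) * G = G * y → ∀ a i b, G a i ≠ 0 → G a b ≠ 0 → i ≠ b →
      ∃ P : Sylow p (GL (Fin p) F), P ≠ S ∧ x ∈ P := by
    intro G y hG hy he a i b hi hb hib
    let g := GeneralLinearGroup.mkOfDetNeZero G hG
    have he' : x * g = g * y := Units.ext he
    refine ⟨g • S, fun h => hib (row (g := g) z1 z2 z3 (fun y hy => ?_) hi hb), ?_⟩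
    · have := (Sylow.smul_eq_iff_mem_normalizer.1 h)
      exact (Subgroup.mem_normalizer_iff.1 this y).1 hy
    · refine ⟨y, hy, ?_⟩
      show g * y * g⁻¹ = x
      rw [← he', mul_inv_cancel_right]
  obtain ⟨d, k, hd, hxd⟩ := id hx
  have hd0 : ∀ i, d i ≠ 0 := fun i => ne_zero_of (hd i)
  by_cases hk0 : k = 0
  · subst hk0
    by_cases hinj : Function.Injective d
    · refine red (vandermonde d) (monoU 1 (-1) (by simp)) (det_vandermonde_ne_zero_iff.2 hinj)
        (monoU_mem _ _ _) ?_ 0 ⟨0, by omega⟩ ⟨1, by omega⟩ (by simp) (by simp [hd0]) (by simp)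
      ext i j
      rw [hxd, mono_mul_apply]
      show _ = (vandermonde d * mono (1 : Fin p → F) (-1) : Matrix (Fin p) (Fin p) F) i j
      rw [mul_mono_apply]
      simp only [add_zero, vandermonde_apply, sub_neg_eq_add, Pi.one_apply, mul_one, Fin.val_add]
      rw [← pow_eq_pow_mod _ (hd i), Fin.val_one', pow_add, ← pow_eq_pow_mod _ (hd i), pow_one,
        mul_comm]
    · simp only [Function.Injective, not_forall] at hinj
      obtain ⟨i, j, hij, hne⟩ := hinj
      refine red (transvection i j 1) x (by rw [det_transvection_of_ne _ _ hne]; exact one_ne_zero)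
        hx ?_ i i j (by simp [transvection, hne, Ne.symm hne]) (by simp [transvection, hne]) hne
      ext a b
      rw [hxd, mono_mul_apply, mul_mono_apply]
      simp only [add_zero, sub_zero, transvection, Matrix.add_apply, one_apply, single_apply]
      split_ifs with h h' h'
      · rw [h, mul_comm]
      · rw [h, mul_comm]
      · rw [← h'.1, ← h'.2, hij, mul_comm]
      · simp
  have hord : addOrderOf k = p := by
    have := addOrderOf_dvd_card (x := k)
    rw [Fintype.card_fin] at this
    exact ((Nat.dvd_prime hpp).1 this).resolve_left (fun h => hk0 (AddMonoid.addOrderOf_eq_one_iff.1 h))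
  have hinj : ∀ s < p, ∀ t < p, s • k = t • k → s = t := fun s hs t ht h =>
    nsmul_injOn_Iio_addOrderOf (x := k) (by rwa [hord]) (by rwa [hord]) h
  have hXp : mono d k ^ p = (∏ i, d i) • (1 : Matrix (Fin p) (Fin p) F) := by
    rw [mono_pow]
    have : p • k = 0 := by have := addOrderOf_nsmul_eq_zero k; rwa [hord] at this
    rw [this, mono_zero, smul_one_eq_diagonal]
    congr 1
    funext i
    have hi : Set.InjOn (fun s : ℕ => i + s • k) (range p : Finset ℕ) := fun s hs t ht h =>
      hinj s (by simpa using hs) t (by simpa using ht) (add_left_cancel h)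
    rw [← prod_image (f := d) hi, eq_univ_of_card (image _ _)]
    rw [card_image_of_injOn hi]; simp
  have hgeo := mul_geom_sum (mono d k) p
  by_cases hl : ∏ i, d i = 1
  · set N := ∑ i ∈ range p, mono d k ^ i with hN
    rw [hXp, hl, one_smul, sub_self, sub_mul, one_mul, sub_eq_zero] at hgeo
    have hXN : ∀ s : ℕ, mono d k ^ s * N = N := by
      intro s
      induction s with
      | zero => simp
      | succ s ih => rw [pow_succ, mul_assoc, hgeo, ih]
    have hNN : N * N = (p : F) • N := by
      conv_lhs => enter [1]; rw [hN]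
      rw [sum_mul, sum_congr rfl (fun s _ => hXN s), sum_const, card_range, Nat.cast_smul_eq_nsmul]
    obtain ⟨μ, m1, m2⟩ : ∃ μ : F, μ ≠ 0 ∧ 1 + μ * p ≠ 0 := by
      by_cases h : (1 : F) + 1 * p = 0
      · refine ⟨ζ, ne_zero_of z1, fun h' => z2 ?_⟩
        linear_combination (ζ) * h - h'
      · exact ⟨1, one_ne_zero, h⟩
    have hent : ∀ t < p, N 0 (t • k) ≠ 0 := by
      intro t ht
      rw [hN, Matrix.sum_apply, sum_eq_single t]
      · rw [mono_pow]; simp [mono, prod_eq_zero_iff, hd0]
      · intro s hs hst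
        rw [mono_pow]
        have : t • k ≠ s • k := fun h => hst (hinj _ ht _ (by simpa using hs) h).symm
        simp [mono, this]
      · intro h; exact absurd (mem_range.2 ht) h
    have hoff : ∀ t < p, t ≠ 0 → (1 + μ • N) 0 (t • k) ≠ 0 := by
      intro t ht ht0
      have : (0 : Fin p) ≠ t • k := fun h => ht0 (hinj t ht 0 hpp.pos (by rw [← h, zero_smul]))
      simp [one_apply_ne this, m1, hent t ht]
    refine red (1 + μ • N) x ?_ hx ?_ 0 (1 • k) (2 • k) (hoff 1 (by omega) one_ne_zero)
      (hoff 2 (by omega) two_ne_zero) (fun h => by have := hinj 1 (by omega) 2 (by omega) h; omega)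
    · have : (1 + μ • N) * (1 - (μ / (1 + μ * p)) • N) = 1 := by
        rw [add_mul, one_mul, mul_sub, mul_one, smul_mul_smul_comm, hNN, smul_smul]
        have : μ * (μ / (1 + μ * p)) * p = μ - μ / (1 + μ * p) := by field_simp; ring
        rw [this, sub_smul]; abel
      intro h
      have := congrArg det this
      rw [det_mul, h, zero_mul, det_one] at this
      exact zero_ne_one this
    · have hc : Commute (mono d k) N := Commute.sum_right _ _ _ fun s _ => Commute.self_pow _ _
      rw [hxd, mul_add, add_mul, mul_one, one_mul, mul_smul_comm, smul_mul_assoc, hc.eq]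
  · refine red (mono d k - 1) x ?_ hx ?_ 0 0 k ?_ ?_ (Ne.symm hk0)
    · intro h
      have := congrArg det hgeo
      rw [det_mul, h, zero_mul, hXp, show (∏ i, d i) • (1 : Matrix (Fin p) (Fin p) F) - 1 =
        (∏ i, d i - 1) • 1 by rw [sub_smul, one_smul], det_smul, det_one, mul_one] at this
      exact hl (sub_eq_zero.1 (pow_eq_zero_iff (by simpa using hpp.ne_zero) |>.1 this.symm))
    · rw [hxd, mul_sub, sub_mul, mul_one, one_mul]
    · simp [mono, Ne.symm hk0]
    · simp [mono, one_apply_ne (Ne.symm hk0), hd0]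

end Cfsg.Agent.S4358
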