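import Cfsg.Statements.S4363
import Cfsg.Agent.TUR.M1

set_option autoImplicit false
open Cfsg

namespace Cfsg.Agent.S4363

/-- Let G be a finite solvable group and σ an automorphism of G of prime order r not dividing the order of G, with fixed-point subgroup C. Then the Fitting height of G exceeds that of C by at most 2: if C has a chain of normal subgroups 1 = C₀ ≤ ⋯ ≤ Cₙ = C with nilpotent factors, then G has such a chain of length n + 2. -/
theorem result {G : Type*} [Group G] [Finite G]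
    (hG : Group.IsSolvable G) (σ : MulAut G) (r : ℕ) (hr : r.Prime) (hσ : orderOf σ = r) (hcop : ¬ r ∣ Nat.card G)
    (C : Subgroup G) (hC : ∀ g : G, g ∈ C ↔ σ g = g) (n : ℕ) (hn : (∃ F : Fin (n + 1) → Subgroup ↥C, F 0 = ⊥ ∧ F (Fin.last n) = ⊤ ∧ Monotone F ∧ (∀ i, (F i).Normal) ∧ ∀ i : Fin n, ∃ k : ℕ, (F i.succ).lowerCentralSeries k ≤ F i.castSucc)) :
    (∃ F : Fin ((n + 2) + 1) → Subgroup G, F 0 = ⊥ ∧ F (Fin.last (n + 2)) = ⊤ ∧ Monotone F ∧ (∀ i, (F i).Normal) ∧ ∀ i : Fin (n + 2), ∃ k : ℕ, (F i.succ).lowerCentralSeries k ≤ F i.castSucc) := by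
  obtain ⟨Y, _, _, i, j, hi, hj, hN, h1, -, -, -⟩ := H79.exists_amb (MonoidHom.id (MulAut G))
  have hc : Nat.card i.range = Nat.card G := (Nat.card_congr (MonoidHom.ofInjective hi).toEquiv).symm
  have h2 : i.range ⊓ Subgroup.centralizer {j σ} = (i.comp C.subtype).range := by
    ext y
    refine ⟨fun ⟨⟨g, e⟩, h⟩ => ⟨⟨g, (hC g).2 (hi ?_)⟩, e⟩, ?_⟩
    · rw [← show _ = i (σ g) from h1 σ g, e, ← H49.mem_cent1.1 h, mul_inv_cancel_right]
    · rintro ⟨c, rfl⟩
      refine ⟨⟨c, rfl⟩, H49.mem_cent1.2 ?_⟩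
      rw [eq_comm, ← mul_inv_eq_iff_eq_mul]
      exact (h1 σ c).trans (congrArg i ((hC c).1 c.2))
  refine H44.lns_eq_bot_iff_chain.1 (H79.lns_top_of_range hi (TUR.lns_bot (σ := j σ) (r := r)
    ⟨hr, by rw [← map_pow, ← hσ, pow_orderOf_eq_one, map_one], hc ▸ hcop⟩
    (Subgroup.le_normalizer_of_normal (Subgroup.mem_top _))
    (solvable_of_surjective i.rangeRestrict_surjective) ?_))
  rw [h2, MonoidHom.range_eq_map, ← H44.map_lns, H44.lns_eq_bot_iff_chain.2 hn, Subgroup.map_bot]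

end Cfsg.Agent.S4363
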