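import Cfsg.Statements.S4364
import Cfsg.Agent.S4037
import Cfsg.Agent.H44.Components
import Cfsg.Agent.H83.ClassSize
import Cfsg.Agent.H22.Core
import Cfsg.Agent.H19.Basic

set_option autoImplicit false
set_option linter.style.haveILetI false
open Cfsg

namespace Cfsg.Agent.S4364

open Subgroup Cfsg.Agent.H44 Cfsg.Agent.H83

theorem le_of_index_pow {G : Type*} [Group G] [Finite G] {p a : ℕ} {H : Subgroup G}
    (hH : H.index ∣ p ^ a) (N : Subgroup G) [N.Normal] (hN : (Nat.card N).Coprime p) : N ≤ H := by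
  rw [← relIndex_eq_one]
  exact Nat.eq_one_of_dvd_coprimes (hN.pow_right a) (relIndex_dvd_card H N)
    ((H19.relIndex_dvd_index_of_normal_right H N).trans hH)

theorem commute_of_pCore_eq_bot {G : Type*} [Group G] [Finite G] {p : ℕ} [Fact p.Prime]
    (hO : pCore p G = ⊥) (x : G) {a : ℕ} (hx : cs(x) ∣ p ^ a) :
    ⁅normalClosure ({x} : Set G), normalClosure ({x} : Set G)⁆ = ⊥ := by
  obtain ⟨k, -, hk⟩ := (Nat.dvd_prime_pow Fact.out).1 hx
  have hs := S4037.result x (p := p) Fact.out k (by
    rw [← Nat.card_coe_set_eq, card_carrier_mk, hk])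
  have hF : fittingSubgroup G ≤ centralizer ({x} : Set G) := by
    refine le_trans ?_ (le_of_index_pow hx (pPrimeCore p G) H22.coprime_card_pPrimeCore)
    have := fitting_le_pCore_sup_pPrimeCore (p := p) (G := G)
    rwa [hO, bot_sup_eq] at this
  haveI := fitting_characteristic (G := G)
  have h1 : ⁅normalClosure ({x} : Set G), fittingSubgroup G⁆ = ⊥ := by
    rw [commutator_eq_bot_iff_le_centralizer]
    apply normalClosure_le_normal
    rintro _ rfl y hy
    exact mem_cent.1 (hF hy)
  rcases le_Fof_or_exists_comp (X := ⊤) (U := normalClosure ({x} : Set G))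
    (SN.of_le_normalizer le_top (by rw [normalizer_eq_top])) (by rwa [Fof_top]) with h | ⟨K, hK, h⟩
  · rw [Fof_top] at h
    exact eq_bot_iff.2 ((commutator_mono le_rfl h).trans h1.le)
  · exact absurd h (hK.qs.not_le_solvable hs)


/-- Let G be a finite group, p a prime and x an element whose conjugacy class has p-power size. Then for any two conjugates y and z of x, the commutator y z y⁻¹ z⁻¹ lies in O_p(G), the largest normal p-subgroup of G. -/
theorem result {G : Type*} [Group G] [Finite G] (p : ℕ) [Fact p.Prime]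
    (x : G) (hx : ∃ a : ℕ, (Subgroup.centralizer ({x} : Set G)).index = p ^ a) (g h : G) :
    (g * x * g⁻¹) * (h * x * h⁻¹) * (g * x * g⁻¹)⁻¹ * (h * x * h⁻¹)⁻¹ ∈ Cfsg.pCore p G := by
  obtain ⟨a, ha⟩ := hx
  have h1 := commute_of_pCore_eq_bot (G := G ⧸ pCore p G) H22.pCore_quotient_pCore (x : G ⧸ pCore p G)
    (a := a) (by rw [← ha]; exact cs_quotient_dvd _ x)
  have h2 : ∀ g : G ⧸ pCore p G, g * x * g⁻¹ ∈ normalClosure ({(x : G ⧸ pCore p G)} : Set _) :=
    fun g => (normalClosure_normal).conj_mem _ (subset_normalClosure (Set.mem_singleton _)) g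
  have h3 := commutator_mem_commutator (h2 g) (h2 h)
  rw [h1, mem_bot, commutatorElement_def] at h3
  rw [← QuotientGroup.eq_one_iff]
  simpa using h3

end Cfsg.Agent.S4364
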