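import Cfsg.Statements.S4376
import Cfsg.Agent.H85.OrderType
import Cfsg.Agent.S4377

set_option autoImplicit false
open Cfsg

namespace Cfsg.Agent.S4376

open H14 H85

/-- `v` is the table of a group which is solvable iff `b`. -/
def Real (b : Bool) (v : ℕ → ℕ) : Prop :=
  ∃ (G : Type) (_ : Group G) (_ : Finite G), (Group.IsSolvable G ↔ b = true) ∧ Has168 G v

theorem Real.mul {a b : Bool} {v w : ℕ → ℕ} (h : Real a v) (h' : Real b w) :
    Real (a && b) fun i => v i * w i := by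
  obtain ⟨G, _, _, h1, h2, h3⟩ := h
  obtain ⟨H, _, _, h4, h5, h6⟩ := h'
  refine ⟨G × H, inferInstance, inferInstance, ?_, fun g => Prod.ext (h2 _) (h5 _), fun i hi => ?_⟩
  · rw [Bool.and_eq_true, ← h1, ← h4]
    exact ⟨fun _ => ⟨Group.isSolvable_of_surjective (f := MonoidHom.fst G H) Prod.fst_surjective,
      Group.isSolvable_of_surjective (f := MonoidHom.snd G H) Prod.snd_surjective⟩,
      fun ⟨_, _⟩ => inferInstance⟩
  · simp only
    rw [← h3 i hi, ← h6 i hi, ← Nat.card_prod]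
    exact Nat.card_congr ⟨fun x => (⟨x.1.1, congrArg Prod.fst x.2⟩, ⟨x.1.2, congrArg Prod.snd x.2⟩),
      fun x => ⟨(x.1.1, x.2.1), Prod.ext x.1.2 x.2.2⟩, fun _ => rfl, fun _ => rfl⟩

theorem real_of_solv {m n k M : ℕ} (E : Enc (Fin m) n k M) (cs : List LevCert) (A v : List ℕ)
    (s : List (List ℕ × List (List ℕ))) (h : cntOK k M n cs A v = true)
    (h' : solvOK k M n s A = true) : Real true (nth v) :=
  ⟨E.grp A, inferInstance, inferInstance, iff_of_true (isSolvable_of_solvOK E s A h') rfl,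
    has168_of_cntOK E cs A v h⟩

theorem real_of_perf {m n k M : ℕ} (E : Enc (Fin m) n k M) (cs : List LevCert) (A v C : List ℕ)
    (w : List (List ℕ)) (s : List (List ℕ × List ℕ)) (h : cntOK k M n cs A v = true)
    (h' : (allL A (valid k M n) && slpOK k M n A w C && perfOK k M n C s &&
      anyL C fun P => !Nat.beq P (idP k n)) = true) : Real false (nth v) := by
  simp only [Bool.and_eq_true] at h'
  obtain ⟨⟨⟨h1, h2⟩, h3⟩, h4⟩ := h'
  obtain ⟨P, hP, h5⟩ := anyL_iff.1 h4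
  refine ⟨E.grp A, inferInstance, inferInstance, iff_of_false (not_isSolvable_of_perfOK E C s
    (Enc.inG_of_slpOK w (Enc.inG_grp_of_valid h1) h2) h3 hP fun h6 => ?_) (by simp),
    has168_of_cntOK E cs A v h⟩
  rw [beq_iff.2 h6] at h5
  simp at h5

theorem card_eq_of_has {G H : Type*} [Group G] [Group H] {v w : ℕ → ℕ} (h : Has168 G v)
    (h' : Has168 H w) (e : ∀ i < 16, v i = w i) (n : ℕ) :
    Nat.card {g : G // g ^ n = 1} = Nat.card {g : H // g ^ n = 1} := by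
  have h1 : ∀ d ∈ Nat.divisors 168, ∃ i < 16, D168 i = d := by decide
  obtain ⟨i, hi, hd⟩ := h1 (Nat.gcd n 168) (Nat.mem_divisors.mpr ⟨Nat.gcd_dvd_right _ _, by norm_num⟩)
  have h2 : ∀ g : G, g ^ n = 1 ↔ g ^ D168 i = 1 := fun g => by
    rw [hd, pow_gcd_eq_one]; simp [h.1 g]
  have h3 : ∀ g : H, g ^ n = 1 ↔ g ^ D168 i = 1 := fun g => by
    rw [hd, pow_gcd_eq_one]; simp [h'.1 g]
  rw [Nat.card_congr (Equiv.subtypeEquivRight h2), Nat.card_congr (Equiv.subtypeEquivRight h3),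
    h.2 i hi, h'.2 i hi, e i hi]

def pgA : List ℕ := [nat_lit 0x88dec6, nat_lit 0x29fc2c]
def pgCL0 : Lev := ⟨nat_lit 0, nat_lit 255, (.node (nat_lit 4) (.node (nat_lit 2) (.node (nat_lit 1) (.leaf (nat_lit 0xfac688)) (.leaf (nat_lit 0x88dec6))) (.node (nat_lit 3) (.leaf (nat_lit 0x29fc2c)) (.leaf (nat_lit 0x98f0ab)))) (.node (nat_lit 6) (.node (nat_lit 5) (.leaf (nat_lit 0x3f0b13)) (.leaf (nat_lit 0xac19f2))) (.node (nat_lit 7) (.leaf (nat_lit 0xe2b3a2)) (.leaf (nat_lit 0xfc58d)))))⟩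
def pgCC0 : LevCert := ⟨pgCL0,
    [(nat_lit 1, nat_lit 0), (nat_lit 2, nat_lit 1), (nat_lit 5, nat_lit 0), (nat_lit 7, nat_lit 1), (nat_lit 6, nat_lit 0), (nat_lit 4, nat_lit 0), (nat_lit 3, nat_lit 0)],
    [[nat_lit 0, nat_lit 2, nat_lit 0, nat_lit 0, nat_lit 2, nat_lit 0, nat_lit 2, nat_lit 2, nat_lit 0], [nat_lit 2, nat_lit 2, nat_lit 4, nat_lit 2, nat_lit 4, nat_lit 2, nat_lit 2, nat_lit 4]],
    [nat_lit 0x31eab8, nat_lit 0x66e5e0]⟩
def pgCL1 : Lev := ⟨nat_lit 1, nat_lit 254, (.node (nat_lit 4) (.node (nat_lit 2) (.leaf (nat_lit 0xfac688)) (.node (nat_lit 3) (.leaf (nat_lit 0xbdc470)) (.leaf (nat_lit 0x59f360)))) (.node (nat_lit 6) (.node (nat_lit 5) (.leaf (nat_lit 0x991bd8)) (.leaf (nat_lit 0x9ce750))) (.node (nat_lit 7) (.leaf (nat_lit 0x66e5e0)) (.leaf (nat_lit 0x31eab8)))))⟩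
def pgCC1 : LevCert := ⟨pgCL1,
    [(nat_lit 7, nat_lit 0), (nat_lit 6, nat_lit 1), (nat_lit 2, nat_lit 1), (nat_lit 4, nat_lit 0), (nat_lit 3, nat_lit 1), (nat_lit 5, nat_lit 0)],
    [[nat_lit 2, nat_lit 0, nat_lit 2], [nat_lit 4, nat_lit 4, nat_lit 2, nat_lit 4, nat_lit 2, nat_lit 2, nat_lit 4]],
    [nat_lit 0xad6f08, nat_lit 0x73ad48]⟩
def pgCL2 : Lev := ⟨nat_lit 2, nat_lit 252, (.node (nat_lit 5) (.node (nat_lit 3) (.leaf (nat_lit 0xfac688)) (.node (nat_lit 4) (.leaf (nat_lit 0x9774c8)) (.leaf (nat_lit 0x73ad48)))) (.node (nat_lit 6) (.leaf (nat_lit 0xad6f08)) (.node (nat_lit 7) (.leaf (nat_lit 0xc9d9c8)) (.leaf (nat_lit 0x5e3b88)))))⟩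
def pgCC2 : LevCert := ⟨pgCL2,
    [(nat_lit 5, nat_lit 0), (nat_lit 4, nat_lit 1), (nat_lit 7, nat_lit 0), (nat_lit 6, nat_lit 1), (nat_lit 3, nat_lit 0)],
    [],
    []⟩
def pgC : List LevCert := [pgCC0, pgCC1, pgCC2]
def pgCL : List Lev := [pgCL0, pgCL1, pgCL2]
def pgV : List ℕ := [nat_lit 1, nat_lit 50, nat_lit 57, nat_lit 92, nat_lit 162, nat_lit 49, nat_lit 176, nat_lit 204, nat_lit 98, nat_lit 105, nat_lit 288, nat_lit 140, nat_lit 210, nat_lit 224, nat_lit 252, nat_lit 336]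
def pgE : Enc (Fin 8) (nat_lit 8) (nat_lit 3) (nat_lit 8) := finEnc 8 3 8 rfl (by decide)
theorem pg_cnt : cntOK (nat_lit 3) (nat_lit 8) (nat_lit 8) pgC pgA pgV = true := by decide +kernel
def pgP : List ℕ := [nat_lit 0x54f784, nat_lit 0xece885]
def pgW : List (List ℕ) := [[nat_lit 1, nat_lit 1, nat_lit 3, nat_lit 3, nat_lit 0, nat_lit 3], [nat_lit 3, nat_lit 3, nat_lit 3, nat_lit 5, nat_lit 2, nat_lit 2]]
def pgS : List (List ℕ × List ℕ) := [([nat_lit 1], [nat_lit 2, nat_lit 0, nat_lit 3, nat_lit 1, nat_lit 3]), ([nat_lit 3], [nat_lit 0, nat_lit 0, nat_lit 3, nat_lit 0, nat_lit 0])]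
theorem pg_perf : (allL pgA (valid (nat_lit 3) (nat_lit 8) (nat_lit 8)) && slpOK (nat_lit 3) (nat_lit 8) (nat_lit 8) pgA pgW pgP && perfOK (nat_lit 3) (nat_lit 8) (nat_lit 8) pgP pgS &&
    anyL pgP fun P => !Nat.beq P (idP (nat_lit 3) (nat_lit 8))) = true := by decide +kernel
theorem pg_real : Real false (nth pgV) :=
  real_of_perf pgE _ _ _ _ _ _ pg_cnt pg_perf

def g0A : List ℕ := [nat_lit 0x328d586568d60253e6531d001b924, nat_lit 0x328bb46ad808329bdc0190a63a928]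
def g0CL0 : Lev := ⟨nat_lit 0, nat_lit 505, (.node (nat_lit 5) (.node (nat_lit 3) (.leaf (nat_lit 0x5ab49ca307b9ac5a928398a418820)) (.node (nat_lit 4) (.leaf (nat_lit 0x3d310c95013ab35d1a73148305988)) (.leaf (nat_lit 0x328d586568d60253e6531d001b924)))) (.node (nat_lit 7) (.node (nat_lit 6) (.leaf (nat_lit 0x49619a62cad1aa7c2c520c08389c6)) (.leaf (nat_lit 0x9aa64a90b39215c6a41810733e65))) (.node (nat_lit 8) (.leaf (nat_lit 0x5495ce42a360f8d98800c8533aa7)) (.leaf (nat_lit 0x328bb46ad808329bdc0190a63a928)))))⟩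
def g0CC0 : LevCert := ⟨g0CL0,
    [(nat_lit 4, nat_lit 0), (nat_lit 8, nat_lit 1), (nat_lit 6, nat_lit 1), (nat_lit 5, nat_lit 0), (nat_lit 7, nat_lit 0), (nat_lit 3, nat_lit 1)],
    [[nat_lit 0, nat_lit 2, nat_lit 0, nat_lit 2, nat_lit 0, nat_lit 2, nat_lit 0, nat_lit 2, nat_lit 0, nat_lit 2, nat_lit 2], [nat_lit 2, nat_lit 4, nat_lit 4, nat_lit 4, nat_lit 2, nat_lit 2, nat_lit 4, nat_lit 4, nat_lit 2, nat_lit 2, nat_lit 4, nat_lit 2, nat_lit 4, nat_lit 4, nat_lit 4, nat_lit 2, nat_lit 2, nat_lit 4], [nat_lit 6, nat_lit 4, nat_lit 6, nat_lit 4, nat_lit 4, nat_lit 4, nat_lit 6, nat_lit 4, nat_lit 4]],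
    [nat_lit 0x4e2b7a93585992089c3214c7451a0, nat_lit 0x9b05242c952ce7c568398a41d660, nat_lit 0x4669b3ab2a2c2f83583214c742840]⟩
def g0CL1 : Lev := ⟨nat_lit 1, nat_lit 0x7ffe06, (.node (nat_lit 15) (.node (nat_lit 11) (.node (nat_lit 9) (.node (nat_lit 2) (.leaf (nat_lit 0x5ab49ca307b9ac5a928398a418820)) (.leaf (nat_lit 0x41cdad2c98bd4262e63214c740640))) (.node (nat_lit 10) (.leaf (nat_lit 0x5195139b252e7682423214c7445e0)) (.leaf (nat_lit 0x56cc8ae6e4c054905e8398a41b540)))) (.node (nat_lit 13) (.node (nat_lit 12) (.leaf (nat_lit 0x4e2b7a93585992089c3214c7451a0)) (.leaf (nat_lit 0x9aa64a90b39215c6a8398a41be60))) (.node (nat_lit 14) (.leaf (nat_lit 0x4669b3ab2a2c2f83583214c742840)) (.leaf (nat_lit 0x25ee9da2a585b0ab248398a418a80))))) (.node (nat_lit 19) (.node (nat_lit 17) (.node (nat_lit 16) (.leaf (nat_lit 0x3a167cd220b5958c943214c745160)) (.leaf (nat_lit 0x4973656816a931b4048398a41bdc0)))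 (.node (nat_lit 18) (.leaf (nat_lit 0x9b05242c952ce7c568398a41d660)) (.leaf (nat_lit 0x4672485f67568b53603214c743040)))) (.node (nat_lit 21) (.node (nat_lit 20) (.leaf (nat_lit 0x344e0bd545b2b04ce48398a41da20)) (.leaf (nat_lit 0x3d21809d1ace4a6d2c8398a41ad80))) (.node (nat_lit 22) (.leaf (nat_lit 0x282f9456d609c99d683214c7442c0)) (.leaf (nat_lit 0x54b151a983e72659c3214c7446a0))))))⟩
def g0CC1 : LevCert := ⟨g0CL1,
    [(nat_lit 11, nat_lit 0), (nat_lit 17, nat_lit 1), (nat_lit 13, nat_lit 2), (nat_lit 20, nat_lit 0), (nat_lit 9, nat_lit 1), (nat_lit 14, nat_lit 2), (nat_lit 21, nat_lit 0), (nat_lit 10, nat_lit 1), (nat_lit 22, nat_lit 2), (nat_lit 2, nat_lit 0), (nat_lit 15, nat_lit 2), (nat_lit 18, nat_lit 1), (nat_lit 12, nat_lit 1), (nat_lit 16, nat_lit 0), (nat_lit 19, nat_lit 1)],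
    [[nat_lit 0, nat_lit 4, nat_lit 2, nat_lit 2, nat_lit 2, nat_lit 4, nat_lit 4, nat_lit 0, nat_lit 0]],
    [nat_lit 0x5ab383dd46b2514a848398a41ac20]⟩
def g0CL2 : Lev := ⟨nat_lit 2, nat_lit 0xa04, (.node (nat_lit 9) (.leaf (nat_lit 0x5ab49ca307b9ac5a928398a418820)) (.node (nat_lit 11) (.leaf (nat_lit 0x5ab383dd46b2514a848398a41ac20)) (.leaf (nat_lit 0x5ab0a3593945ee12968398a41a420))))⟩
def g0CC2 : LevCert := ⟨g0CL2,
    [(nat_lit 9, nat_lit 0), (nat_lit 11, nat_lit 0)],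
    [],
    []⟩
def g0C : List LevCert := [g0CC0, g0CC1, g0CC2]
def g0CL : List Lev := [g0CL0, g0CL1, g0CL2]
def g0V : List ℕ := [nat_lit 1, nat_lit 2, nat_lit 9, nat_lit 92, nat_lit 18, nat_lit 7, nat_lit 176, nat_lit 108, nat_lit 14, nat_lit 63, nat_lit 192, nat_lit 140, nat_lit 126, nat_lit 224, nat_lit 252, nat_lit 336]
def g0E : Enc (Fin 23) (nat_lit 23) (nat_lit 5) (nat_lit 32) := finEnc 23 5 32 rfl (by decide)
theorem g0_cnt : cntOK (nat_lit 5) (nat_lit 32) (nat_lit 23) g0C g0A g0V = true := by decide +kernel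
def g0S : List (List ℕ × List (List ℕ)) := [([nat_lit 0x4973656816a931b404520c083bdc6, nat_lit 0x56d17260c15173785a520c083c946], [[], [nat_lit 2, nat_lit 4, nat_lit 2, nat_lit 4, nat_lit 2], [nat_lit 6, nat_lit 5, nat_lit 7], [nat_lit 8, nat_lit 6, nat_lit 9, nat_lit 7, nat_lit 9], [nat_lit 9, nat_lit 11, nat_lit 9, nat_lit 11, nat_lit 9], [nat_lit 13, nat_lit 10, nat_lit 13, nat_lit 10, nat_lit 13]]),
  ([nat_lit 0x25ea73613b4561132a8398a41ca80, nat_lit 0x344e0bd545b2b04ce48398a41da20], [[], [nat_lit 5], [nat_lit 5], [nat_lit 6, nat_lit 9]]),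
  ([nat_lit 0x56cc8ae6e4c054905e8398a41b540], [[]]),
  ([], [[]])]
theorem g0_solv : solvOK (nat_lit 5) (nat_lit 32) (nat_lit 23) g0S g0A = true := by decide +kernel
theorem g0_real : Real true (nth g0V) :=
  real_of_solv g0E _ _ _ _ g0_cnt g0_solv

def g1A : List ℕ := [nat_lit 0xa32e496071bcd85, nat_lit 0xcedb36510942a87]
def g1CL0 : Lev := ⟨nat_lit 0, nat_lit 995, (.node (nat_lit 6) (.node (nat_lit 1) (.leaf (nat_lit 0xedcba9876543210)) (.node (nat_lit 5) (.leaf (nat_lit 0x4de3b61975ca208)) (.leaf (nat_lit 0xedcba7651043298)))) (.node (nat_lit 8) (.node (nat_lit 7) (.leaf (nat_lit 0xcedb36510942a87)) (.leaf (nat_lit 0xa32e496071bcd85))) (.node (nat_lit 9) (.leaf (nat_lit 0x32ac460718bde59)) (.leaf (nat_lit 0xdceb2098764a351)))))⟩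
def g1CC0 : LevCert := ⟨g1CL0,
    [(nat_lit 7, nat_lit 0), (nat_lit 6, nat_lit 1), (nat_lit 8, nat_lit 0), (nat_lit 9, nat_lit 1), (nat_lit 1, nat_lit 0), (nat_lit 5, nat_lit 1)],
    [[nat_lit 2, nat_lit 0, nat_lit 0, nat_lit 2, nat_lit 2, nat_lit 2, nat_lit 0, nat_lit 2, nat_lit 0, nat_lit 0], [nat_lit 4, nat_lit 4, nat_lit 4, nat_lit 2, nat_lit 2, nat_lit 2, nat_lit 4, nat_lit 4, nat_lit 2]],
    [nat_lit 0x3abe4579162cd80, nat_lit 0xced2a695814b370]⟩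
def g1CL1 : Lev := ⟨nat_lit 1, nat_lit 994, (.node (nat_lit 7) (.node (nat_lit 5) (.leaf (nat_lit 0xedcba9876543210)) (.node (nat_lit 6) (.leaf (nat_lit 0xced2a695814b370)) (.leaf (nat_lit 0x3abe4579162cd80)))) (.node (nat_lit 8) (.leaf (nat_lit 0xdce3a8619742b50)) (.node (nat_lit 9) (.leaf (nat_lit 0xab3c4718592de60)) (.leaf (nat_lit 0xb3ad4156782ec90)))))⟩
def g1CC1 : LevCert := ⟨g1CL1,
    [(nat_lit 6, nat_lit 0), (nat_lit 5, nat_lit 1), (nat_lit 9, nat_lit 1), (nat_lit 7, nat_lit 1), (nat_lit 8, nat_lit 1)],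
    [[nat_lit 0, nat_lit 2, nat_lit 2, nat_lit 0, nat_lit 0, nat_lit 2, nat_lit 0, nat_lit 2, nat_lit 0, nat_lit 0, nat_lit 2, nat_lit 2, nat_lit 0, nat_lit 0, nat_lit 0, nat_lit 2, nat_lit 0], [nat_lit 2, nat_lit 4, nat_lit 2, nat_lit 4, nat_lit 2, nat_lit 4, nat_lit 2, nat_lit 4, nat_lit 2, nat_lit 2, nat_lit 4, nat_lit 2, nat_lit 4, nat_lit 4, nat_lit 2, nat_lit 4], [nat_lit 6, nat_lit 4, nat_lit 4, nat_lit 6, nat_lit 6, nat_lit 6, nat_lit 4, nat_lit 6, nat_lit 4, nat_lit 4, nat_lit 6, nat_lit 4]],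
    [nat_lit 0xe4db298765ca310, nat_lit 0x4cdab98765e2310, nat_lit 0xdceb2987654a310]⟩
def g1CL2 : Lev := ⟨nat_lit 2, nat_lit 0xc0c, (.node (nat_lit 10) (.node (nat_lit 3) (.leaf (nat_lit 0xedcba9876543210)) (.leaf (nat_lit 0x4cdab98765e2310))) (.node (nat_lit 11) (.leaf (nat_lit 0xe4db298765ca310)) (.leaf (nat_lit 0xcd42b98765e3a10))))⟩
def g1CC2 : LevCert := ⟨g1CL2,
    [(nat_lit 10, nat_lit 0), (nat_lit 3, nat_lit 1), (nat_lit 11, nat_lit 1)],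
    [[nat_lit 4, nat_lit 0, nat_lit 2], [nat_lit 2, nat_lit 6, nat_lit 4, nat_lit 6, nat_lit 4, nat_lit 6, nat_lit 4, nat_lit 6, nat_lit 4]],
    [nat_lit 0xec43b98765da210, nat_lit 0xced3b987654a210]⟩
def g1CL3 : Lev := ⟨nat_lit 3, nat_lit 0xc08, (.node (nat_lit 10) (.leaf (nat_lit 0xedcba9876543210)) (.node (nat_lit 11) (.leaf (nat_lit 0xe4da398765cb210)) (.leaf (nat_lit 0xec43b98765da210))))⟩
def g1CC3 : LevCert := ⟨g1CL3,
    [(nat_lit 11, nat_lit 0), (nat_lit 10, nat_lit 0)],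
    [[nat_lit 0, nat_lit 2, nat_lit 0, nat_lit 2, nat_lit 0, nat_lit 0], [nat_lit 4, nat_lit 2, nat_lit 2, nat_lit 4, nat_lit 4, nat_lit 4]],
    [nat_lit 0xde4ba98765c3210, nat_lit 0xc4eba98765d3210]⟩
def g1CL4 : Lev := ⟨nat_lit 4, nat_lit 0x7010, (.node (nat_lit 13) (.node (nat_lit 12) (.leaf (nat_lit 0xedcba9876543210)) (.leaf (nat_lit 0xde4ba98765c3210))) (.node (nat_lit 14) (.leaf (nat_lit 0xc4eba98765d3210)) (.leaf (nat_lit 0x4cdba98765e3210))))⟩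
def g1CC4 : LevCert := ⟨g1CL4,
    [(nat_lit 12, nat_lit 0), (nat_lit 13, nat_lit 1), (nat_lit 14, nat_lit 1)],
    [],
    []⟩
def g1C : List LevCert := [g1CC0, g1CC1, g1CC2, g1CC3, g1CC4]
def g1CL : List Lev := [g1CL0, g1CL1, g1CL2, g1CL3, g1CL4]
def g1V : List ℕ := [nat_lit 1, nat_lit 100, nat_lit 495, nat_lit 352, nat_lit 972, nat_lit 7, nat_lit 352, nat_lit 0x6c0, nat_lit 196, nat_lit 693, nat_lit 0x6c0, nat_lit 448, nat_lit 0x4ec, nat_lit 448, nat_lit 0x7e0, nat_lit 0x7e0]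
def g1E : Enc (Fin 15) (nat_lit 15) (nat_lit 4) (nat_lit 16) := finEnc 15 4 16 rfl (by decide)
theorem g1_cnt : cntOK (nat_lit 4) (nat_lit 16) (nat_lit 15) g1C g1A g1V = true := by decide +kernel
def g1S : List (List ℕ × List (List ℕ)) := [([nat_lit 0xec43b09876da251, nat_lit 0x4de2a51098cb376, nat_lit 0xec4a298765d3b10], [[], [nat_lit 3, nat_lit 3, nat_lit 7, nat_lit 4], [nat_lit 9, nat_lit 6, nat_lit 9], [nat_lit 6, nat_lit 9, nat_lit 9], [nat_lit 8, nat_lit 10, nat_lit 10, nat_lit 13], [nat_lit 10, nat_lit 10, nat_lit 14, nat_lit 13], [nat_lit 13, nat_lit 13, nat_lit 17, nat_lit 13, nat_lit 15], [nat_lit 14, nat_lit 14, nat_lit 14, nat_lit 18], [nat_lit 19, nat_lit 20, nat_lit 18]]),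
  ([nat_lit 0xc4e3298765dba10, nat_lit 0xc4e2398765dab10, nat_lit 0xde43298765cba10, nat_lit 0x4cd2398765eab10], [[], [nat_lit 4, nat_lit 6, nat_lit 8], [nat_lit 6, nat_lit 8], [nat_lit 6, nat_lit 12], [nat_lit 12, nat_lit 14]]),
  ([], [[]])]
theorem g1_solv : solvOK (nat_lit 4) (nat_lit 16) (nat_lit 15) g1S g1A = true := by decide +kernel
theorem g1_real : Real true (nth g1V) :=
  real_of_solv g1E _ _ _ _ g1_cnt g1_solv

def g2A : List ℕ := [nat_lit 0x60795, nat_lit 0x2b3a2]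
def g2CL0 : Lev := ⟨nat_lit 0, nat_lit 127, (.node (nat_lit 3) (.node (nat_lit 1) (.leaf (nat_lit 0x1ac688)) (.node (nat_lit 2) (.leaf (nat_lit 0x163446)) (.leaf (nat_lit 0x11a235)))) (.node (nat_lit 5) (.node (nat_lit 4) (.leaf (nat_lit 0x1a2159)) (.leaf (nat_lit 0x60795))) (.node (nat_lit 6) (.leaf (nat_lit 0x85674)) (.leaf (nat_lit 0x2b3a2)))))⟩
def g2CC0 : LevCert := ⟨g2CL0,
    [(nat_lit 4, nat_lit 0), (nat_lit 6, nat_lit 1), (nat_lit 5, nat_lit 0), (nat_lit 1, nat_lit 1), (nat_lit 2, nat_lit 0), (nat_lit 3, nat_lit 1)],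
    [[nat_lit 0, nat_lit 2, nat_lit 0, nat_lit 2, nat_lit 2, nat_lit 0, nat_lit 0, nat_lit 0]],
    [nat_lit 0x159d10]⟩
def g2CL1 : Lev := ⟨nat_lit 1, nat_lit 22, (.node (nat_lit 2) (.leaf (nat_lit 0x1ac688)) (.node (nat_lit 4) (.leaf (nat_lit 0xf2a60)) (.leaf (nat_lit 0x159d10))))⟩
def g2CC1 : LevCert := ⟨g2CL1,
    [(nat_lit 4, nat_lit 0), (nat_lit 2, nat_lit 0)],
    [],
    []⟩
def g2C : List LevCert := [g2CC0, g2CC1]
def g2CL : List Lev := [g2CL0, g2CL1]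
def g2V : List ℕ := [nat_lit 1, nat_lit 1, nat_lit 15, nat_lit 1, nat_lit 15, nat_lit 7, nat_lit 1, nat_lit 15, nat_lit 7, nat_lit 21, nat_lit 15, nat_lit 7, nat_lit 21, nat_lit 7, nat_lit 21, nat_lit 21]
def g2E : Enc (Fin 7) (nat_lit 7) (nat_lit 3) (nat_lit 8) := finEnc 7 3 8 rfl (by decide)
theorem g2_cnt : cntOK (nat_lit 3) (nat_lit 8) (nat_lit 7) g2C g2A g2V = true := by decide +kernel
def g2S : List (List ℕ × List (List ℕ)) := [([nat_lit 0x11a235], [[], [nat_lit 2, nat_lit 2, nat_lit 2], [nat_lit 5, nat_lit 5, nat_lit 5], [nat_lit 6, nat_lit 6]]),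
  ([], [[]])]
theorem g2_solv : solvOK (nat_lit 3) (nat_lit 8) (nat_lit 7) g2S g2A = true := by decide +kernel
theorem g2_real : Real true (nth g2V) :=
  real_of_solv g2E _ _ _ _ g2_cnt g2_solv

def g3A : List ℕ := [nat_lit 0x43208ba65197, nat_lit 0x1765432a980b]
def g3CL0 : Lev := ⟨nat_lit 0, nat_lit 0xfff, (.node (nat_lit 6) (.node (nat_lit 3) (.node (nat_lit 1) (.leaf (nat_lit 0xba9876543210)) (.node (nat_lit 2) (.leaf (nat_lit 0x1765432a980b)) (.leaf (nat_lit 0x98ba65132074)))) (.node (nat_lit 4) (.leaf (nat_lit 0xba9851720463)) (.node (nat_lit 5) (.leaf (nat_lit 0x8ba951704362)) (.leaf (nat_lit 0x76513208ba49))))) (.node (nat_lit 9) (.node (nat_lit 7) (.leaf (nat_lit 0x765120498b3a)) (.node (nat_lit 8) (.leaf (nat_lit 0x6517043ba928)) (.leaf (nat_lit 0x43208ba65197)))) (.node (nat_lit 10) (.leaf (nat_lit 0x3204a98517b6)) (.node (nat_lit 11) (.leaf (nat_lit 0x2043ba951786)) (.leaf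 (nat_lit 0x432a98765b1))))))⟩
def g3CC0 : LevCert := ⟨g3CL0,
    [(nat_lit 8, nat_lit 0), (nat_lit 1, nat_lit 1), (nat_lit 7, nat_lit 0), (nat_lit 2, nat_lit 1), (nat_lit 11, nat_lit 1), (nat_lit 10, nat_lit 1), (nat_lit 9, nat_lit 0), (nat_lit 5, nat_lit 1), (nat_lit 6, nat_lit 0), (nat_lit 4, nat_lit 1), (nat_lit 3, nat_lit 1)],
    [[nat_lit 0, nat_lit 0, nat_lit 2, nat_lit 2, nat_lit 0, nat_lit 2], [nat_lit 2, nat_lit 4, nat_lit 4, nat_lit 2, nat_lit 2, nat_lit 4, nat_lit 4, nat_lit 2]],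
    [nat_lit 0xa98b17643250, nat_lit 0x98ba51743260]⟩
def g3CL1 : Lev := ⟨nat_lit 1, nat_lit 226, (.node (nat_lit 6) (.node (nat_lit 5) (.leaf (nat_lit 0xba9876543210)) (.leaf (nat_lit 0x8ba965143270))) (.node (nat_lit 7) (.leaf (nat_lit 0x98ba51743260)) (.leaf (nat_lit 0xa98b17643250))))⟩
def g3CC1 : LevCert := ⟨g3CL1,
    [(nat_lit 7, nat_lit 0), (nat_lit 6, nat_lit 1), (nat_lit 5, nat_lit 1)],
    [],
    []⟩
def g3C : List LevCert := [g3CC0, g3CC1]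
def g3CL : List Lev := [g3CL0, g3CL1]
def g3V : List ℕ := [nat_lit 1, nat_lit 4, nat_lit 33, nat_lit 16, nat_lit 36, nat_lit 1, nat_lit 16, nat_lit 48, nat_lit 4, nat_lit 33, nat_lit 48, nat_lit 16, nat_lit 36, nat_lit 16, nat_lit 48, nat_lit 48]
def g3E : Enc (Fin 12) (nat_lit 12) (nat_lit 4) (nat_lit 16) := finEnc 12 4 16 rfl (by decide)
theorem g3_cnt : cntOK (nat_lit 4) (nat_lit 16) (nat_lit 12) g3C g3A g3V = true := by decide +kernel
def g3S : List (List ℕ × List (List ℕ)) := [([nat_lit 0xba9865104372, nat_lit 0x8ba951704362], [[], [nat_lit 2, nat_lit 5], [nat_lit 5, nat_lit 6, nat_lit 6], [nat_lit 7, nat_lit 8], [nat_lit 8, nat_lit 8, nat_lit 10], [nat_lit 10, nat_lit 12]]),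
  ([], [[]])]
theorem g3_solv : solvOK (nat_lit 4) (nat_lit 16) (nat_lit 12) g3S g3A = true := by decide +kernel
theorem g3_real : Real true (nth g3V) :=
  real_of_solv g3E _ _ _ _ g3_cnt g3_solv

def g4A : List ℕ := [nat_lit 0xea8873, nat_lit 0x31e5c5]
def g4CL0 : Lev := ⟨nat_lit 0, nat_lit 255, (.node (nat_lit 4) (.node (nat_lit 2) (.node (nat_lit 1) (.leaf (nat_lit 0xfac688)) (.leaf (nat_lit 0x31e5c5))) (.node (nat_lit 3) (.leaf (nat_lit 0x3ddc22)) (.leaf (nat_lit 0xe6b194)))) (.node (nat_lit 6) (.node (nat_lit 5) (.leaf (nat_lit 0xea8873)) (.leaf (nat_lit 0x4c1de5))) (.node (nat_lit 7) (.leaf (nat_lit 0xc223dd)) (.leaf (nat_lit 0x194e6b)))))⟩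
def g4CC0 : LevCert := ⟨g4CL0,
    [(nat_lit 4, nat_lit 0), (nat_lit 1, nat_lit 1), (nat_lit 3, nat_lit 0), (nat_lit 6, nat_lit 1), (nat_lit 2, nat_lit 0), (nat_lit 7, nat_lit 1), (nat_lit 5, nat_lit 1)],
    [[nat_lit 2, nat_lit 2, nat_lit 0, nat_lit 2, nat_lit 0, nat_lit 2, nat_lit 0, nat_lit 0]],
    [nat_lit 0x74f8b0]⟩
def g4CL1 : Lev := ⟨nat_lit 1, nat_lit 98, (.node (nat_lit 5) (.leaf (nat_lit 0xfac688)) (.node (nat_lit 6) (.leaf (nat_lit 0x74f8b0)) (.leaf (nat_lit 0x873ea8))))⟩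
def g4CC1 : LevCert := ⟨g4CL1,
    [(nat_lit 5, nat_lit 0), (nat_lit 6, nat_lit 0)],
    [],
    []⟩
def g4C : List LevCert := [g4CC0, g4CC1]
def g4CL : List Lev := [g4CL0, g4CL1]
def g4V : List ℕ := [nat_lit 1, nat_lit 8, nat_lit 9, nat_lit 8, nat_lit 24, nat_lit 1, nat_lit 8, nat_lit 24, nat_lit 8, nat_lit 9, nat_lit 24, nat_lit 8, nat_lit 24, nat_lit 8, nat_lit 24, nat_lit 24]
def g4E : Enc (Fin 8) (nat_lit 8) (nat_lit 3) (nat_lit 8) := finEnc 8 3 8 rfl (by decide)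
theorem g4_cnt : cntOK (nat_lit 3) (nat_lit 8) (nat_lit 8) g4C g4A g4V = true := by decide +kernel
def g4S : List (List ℕ × List (List ℕ)) := [([nat_lit 0x977053, nat_lit 0x53977], [[], [nat_lit 2, nat_lit 4]]),
  ([], [[]])]
theorem g4_solv : solvOK (nat_lit 3) (nat_lit 8) (nat_lit 8) g4S g4A = true := by decide +kernel
theorem g4_real : Real true (nth g4V) :=
  real_of_solv g4E _ _ _ _ g4_cnt g4_solv

def g5A : List ℕ := [nat_lit 0x3dc9a80145b267, nat_lit 0xcb3a245678d901]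
def g5CL0 : Lev := ⟨nat_lit 0, nat_lit 499, (.node (nat_lit 5) (.node (nat_lit 1) (.leaf (nat_lit 0xdcba9876543210)) (.node (nat_lit 4) (.leaf (nat_lit 0xcb3a245678d901)) (.leaf (nat_lit 0x3dc2956780ba14)))) (.node (nat_lit 7) (.node (nat_lit 6) (.leaf (nat_lit 0xdcb92541083a76)) (.leaf (nat_lit 0xdcb2a410873965))) (.node (nat_lit 8) (.leaf (nat_lit 0x3dc9a80145b267)) (.leaf (nat_lit 0xdcb2a087653941)))))⟩
def g5CC0 : LevCert := ⟨g5CL0,
    [(nat_lit 7, nat_lit 0), (nat_lit 1, nat_lit 1), (nat_lit 5, nat_lit 1), (nat_lit 6, nat_lit 0), (nat_lit 4, nat_lit 0), (nat_lit 8, nat_lit 1)],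
    [[nat_lit 2, nat_lit 0, nat_lit 2, nat_lit 0, nat_lit 2, nat_lit 2, nat_lit 2], [nat_lit 2, nat_lit 4, nat_lit 2, nat_lit 4, nat_lit 2, nat_lit 4, nat_lit 2, nat_lit 4, nat_lit 2, nat_lit 2, nat_lit 2]],
    [nat_lit 0x3dc9a14567b280, nat_lit 0xcb32914567da80]⟩
def g5CL1 : Lev := ⟨nat_lit 1, nat_lit 258, (.node (nat_lit 8) (.leaf (nat_lit 0xdcba9876543210)) (.leaf (nat_lit 0x3dc9a14567b280)))⟩
def g5CC1 : LevCert := ⟨g5CL1,
    [(nat_lit 8, nat_lit 0)],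
    [[nat_lit 0, nat_lit 0], [nat_lit 2, nat_lit 2, nat_lit 4, nat_lit 2]],
    [nat_lit 0xb3da987654c210, nat_lit 0xb3d9287654ca10]⟩
def g5CL2 : Lev := ⟨nat_lit 2, nat_lit 0x604, (.node (nat_lit 9) (.leaf (nat_lit 0xdcba9876543210)) (.node (nat_lit 10) (.leaf (nat_lit 0xb3d9287654ca10)) (.leaf (nat_lit 0xdcb2a876543910))))⟩
def g5CC2 : LevCert := ⟨g5CL2,
    [(nat_lit 9, nat_lit 1), (nat_lit 10, nat_lit 1)],
    [[nat_lit 0]],
    [nat_lit 0xb3da987654c210]⟩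
def g5CL3 : Lev := ⟨nat_lit 3, nat_lit 0x1008, (.node (nat_lit 12) (.leaf (nat_lit 0xdcba9876543210)) (.leaf (nat_lit 0xb3da987654c210)))⟩
def g5CC3 : LevCert := ⟨g5CL3,
    [(nat_lit 12, nat_lit 0)],
    [],
    []⟩
def g5C : List LevCert := [g5CC0, g5CC1, g5CC2, g5CC3]
def g5CL : List Lev := [g5CL0, g5CL1, g5CL2, g5CL3]
def g5V : List ℕ := [nat_lit 1, nat_lit 2, nat_lit 3, nat_lit 44, nat_lit 6, nat_lit 7, nat_lit 44, nat_lit 48, nat_lit 14, nat_lit 21, nat_lit 48, nat_lit 56, nat_lit 42, nat_lit 56, nat_lit 84, nat_lit 84]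
def g5E : Enc (Fin 14) (nat_lit 14) (nat_lit 4) (nat_lit 16) := finEnc 14 4 16 rfl (by decide)
theorem g5_cnt : cntOK (nat_lit 4) (nat_lit 16) (nat_lit 14) g5C g5A g5V = true := by decide +kernel
def g5S : List (List ℕ × List (List ℕ)) := [([nat_lit 0xdcb92087653a41], [[], [nat_lit 2, nat_lit 2, nat_lit 2, nat_lit 2, nat_lit 2, nat_lit 2, nat_lit 2, nat_lit 2], [nat_lit 5], [nat_lit 7, nat_lit 7, nat_lit 7, nat_lit 7, nat_lit 7, nat_lit 7, nat_lit 7, nat_lit 7]]),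
  ([], [[]])]
theorem g5_solv : solvOK (nat_lit 4) (nat_lit 16) (nat_lit 14) g5S g5A = true := by decide +kernel
theorem g5_real : Real true (nth g5V) :=
  real_of_solv g5E _ _ _ _ g5_cnt g5_solv

def g6A : List ℕ := [nat_lit 0x953dc1, nat_lit 0x3605bb]
def g6CL0 : Lev := ⟨nat_lit 0, nat_lit 255, (.node (nat_lit 4) (.node (nat_lit 2) (.node (nat_lit 1) (.leaf (nat_lit 0xfac688)) (.leaf (nat_lit 0x953dc1))) (.node (nat_lit 3) (.leaf (nat_lit 0x2ef434)) (.leaf (nat_lit 0xd7c0ca)))) (.node (nat_lit 6) (.node (nat_lit 5) (.leaf (nat_lit 0x3605bb)) (.leaf (nat_lit 0xf03d4a))) (.node (nat_lit 7) (.leaf (nat_lit 0x62e9d1)) (.leaf (nat_lit 0x99f66)))))⟩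
def g6CC0 : LevCert := ⟨g6CL0,
    [(nat_lit 1, nat_lit 0), (nat_lit 4, nat_lit 1), (nat_lit 7, nat_lit 1), (nat_lit 5, nat_lit 1), (nat_lit 2, nat_lit 0), (nat_lit 6, nat_lit 0), (nat_lit 3, nat_lit 1)],
    [[nat_lit 2, nat_lit 2, nat_lit 0, nat_lit 0, nat_lit 2, nat_lit 0, nat_lit 0], [nat_lit 2, nat_lit 4, nat_lit 2, nat_lit 4, nat_lit 4]],
    [nat_lit 0x74f8b0, nat_lit 0x3e2770]⟩
def g6CL1 : Lev := ⟨nat_lit 1, nat_lit 254, (.node (nat_lit 4) (.node (nat_lit 2) (.leaf (nat_lit 0xfac688)) (.node (nat_lit 3) (.leaf (nat_lit 0xcfa868)) (.leaf (nat_lit 0x5bb360)))) (.node (nat_lit 6) (.node (nat_lit 5) (.leaf (nat_lit 0x731578)) (.leaf (nat_lit 0x74f8b0))) (.node (nat_lit 7) (.leaf (nat_lit 0x873ea8)) (.leaf (nat_lit 0x3e2770)))))⟩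
def g6CC1 : LevCert := ⟨g6CL1,
    [(nat_lit 5, nat_lit 0), (nat_lit 7, nat_lit 1), (nat_lit 6, nat_lit 0), (nat_lit 2, nat_lit 1), (nat_lit 4, nat_lit 0), (nat_lit 3, nat_lit 0)],
    [[nat_lit 0, nat_lit 0, nat_lit 2]],
    [nat_lit 0xb1af88]⟩
def g6CL2 : Lev := ⟨nat_lit 2, nat_lit 84, (.node (nat_lit 4) (.leaf (nat_lit 0xfac688)) (.node (nat_lit 6) (.leaf (nat_lit 0xb1af88)) (.leaf (nat_lit 0x6beb08))))⟩
def g6CC2 : LevCert := ⟨g6CL2,
    [(nat_lit 4, nat_lit 0), (nat_lit 6, nat_lit 0)],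
    [],
    []⟩
def g6C : List LevCert := [g6CC0, g6CC1, g6CC2]
def g6CL : List Lev := [g6CL0, g6CL1, g6CL2]
def g6V : List ℕ := [nat_lit 1, nat_lit 8, nat_lit 57, nat_lit 8, nat_lit 120, nat_lit 49, nat_lit 8, nat_lit 120, nat_lit 56, nat_lit 105, nat_lit 120, nat_lit 56, nat_lit 168, nat_lit 56, nat_lit 168, nat_lit 168]
def g6E : Enc (Fin 8) (nat_lit 8) (nat_lit 3) (nat_lit 8) := finEnc 8 3 8 rfl (by decide)
theorem g6_cnt : cntOK (nat_lit 3) (nat_lit 8) (nat_lit 8) g6C g6A g6V = true := by decide +kernel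
def g6S : List (List ℕ × List (List ℕ)) := [([nat_lit 0x1b9ad4, nat_lit 0xf59982], [[], [nat_lit 2, nat_lit 5, nat_lit 3], [nat_lit 7, nat_lit 5], [nat_lit 7, nat_lit 8], [nat_lit 8, nat_lit 10, nat_lit 9], [nat_lit 12, nat_lit 11]]),
  ([nat_lit 0xb3e21a, nat_lit 0x21ab3e, nat_lit 0xde54c1], [[], [nat_lit 4, nat_lit 6], [nat_lit 4, nat_lit 6]]),
  ([], [[]])]
theorem g6_solv : solvOK (nat_lit 3) (nat_lit 8) (nat_lit 8) g6S g6A = true := by decide +kernel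
theorem g6_real : Real true (nth g6V) :=
  real_of_solv g6E _ _ _ _ g6_cnt g6_solv

def g7A : List ℕ := [nat_lit 0x2a903456817, nat_lit 0x98245671a30]
def g7CL0 : Lev := ⟨nat_lit 0, nat_lit 251, (.node (nat_lit 4) (.node (nat_lit 1) (.leaf (nat_lit 0xa9876543210)) (.node (nat_lit 3) (.leaf (nat_lit 0xa9817654203)) (.leaf (nat_lit 0x2a956710843)))) (.node (nat_lit 6) (.node (nat_lit 5) (.leaf (nat_lit 0xa9854301267)) (.leaf (nat_lit 0x2a971034865))) (.node (nat_lit 7) (.leaf (nat_lit 0xa9830176245)) (.leaf (nat_lit 0x2a903456817)))))⟩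
def g7CC0 : LevCert := ⟨g7CL0,
    [(nat_lit 7, nat_lit 0), (nat_lit 4, nat_lit 1), (nat_lit 5, nat_lit 0), (nat_lit 6, nat_lit 1), (nat_lit 3, nat_lit 0), (nat_lit 1, nat_lit 1)],
    [[nat_lit 0, nat_lit 0, nat_lit 0, nat_lit 0, nat_lit 2, nat_lit 0, nat_lit 0], [nat_lit 4, nat_lit 2, nat_lit 2, nat_lit 2, nat_lit 2]],
    [nat_lit 0x2a945671830, nat_lit 0x98245671a30]⟩
def g7CL1 : Lev := ⟨nat_lit 1, nat_lit 10, (.node (nat_lit 3) (.leaf (nat_lit 0xa9876543210)) (.leaf (nat_lit 0x2a945671830)))⟩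
def g7CC1 : LevCert := ⟨g7CL1,
    [(nat_lit 3, nat_lit 0)],
    [[nat_lit 0, nat_lit 2, nat_lit 2, nat_lit 0, nat_lit 0, nat_lit 0]],
    [nat_lit 0x82a76543910]⟩
def g7CL2 : Lev := ⟨nat_lit 2, nat_lit 516, (.node (nat_lit 9) (.leaf (nat_lit 0xa9876543210)) (.leaf (nat_lit 0x82a76543910)))⟩
def g7CC2 : LevCert := ⟨g7CL2,
    [(nat_lit 9, nat_lit 0)],
    [],
    []⟩
def g7C : List LevCert := [g7CC0, g7CC1, g7CC2]
def g7CL : List Lev := [g7CL0, g7CL1, g7CL2]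
def g7V : List ℕ := [nat_lit 1, nat_lit 2, nat_lit 1, nat_lit 16, nat_lit 2, nat_lit 7, nat_lit 16, nat_lit 16, nat_lit 14, nat_lit 7, nat_lit 16, nat_lit 28, nat_lit 14, nat_lit 28, nat_lit 28, nat_lit 28]
def g7E : Enc (Fin 11) (nat_lit 11) (nat_lit 4) (nat_lit 16) := finEnc 11 4 16 rfl (by decide)
theorem g7_cnt : cntOK (nat_lit 4) (nat_lit 16) (nat_lit 11) g7C g7A g7V = true := by decide +kernel
def g7S : List (List ℕ × List (List ℕ)) := [([nat_lit 0xa9817654203], [[], [nat_lit 2, nat_lit 2, nat_lit 2], [nat_lit 5], [nat_lit 7, nat_lit 7, nat_lit 7]]),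
  ([], [[]])]
theorem g7_solv : solvOK (nat_lit 4) (nat_lit 16) (nat_lit 11) g7S g7A = true := by decide +kernel
theorem g7_real : Real true (nth g7V) :=
  real_of_solv g7E _ _ _ _ g7_cnt g7_solv

def g8A : List ℕ := [nat_lit 0xba982ed35704c16, nat_lit 0x8da2c9e70461b53]
def g8CL0 : Lev := ⟨nat_lit 0, nat_lit 251, (.node (nat_lit 4) (.node (nat_lit 1) (.leaf (nat_lit 0xedcba9876543210)) (.node (nat_lit 3) (.leaf (nat_lit 0xba982ed34567c01)) (.leaf (nat_lit 0x82edcba47360915)))) (.node (nat_lit 6) (.node (nat_lit 5) (.leaf (nat_lit 0xba982ed35704c16)) (.leaf (nat_lit 0xda2c9eb36051874))) (.node (nat_lit 7) (.leaf (nat_lit 0x8da2c9e70461b53)) (.leaf (nat_lit 0xdcba98203456e17)))))⟩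
def g8CC0 : LevCert := ⟨g8CL0,
    [(nat_lit 4, nat_lit 0), (nat_lit 6, nat_lit 1), (nat_lit 3, nat_lit 0), (nat_lit 5, nat_lit 1), (nat_lit 7, nat_lit 0), (nat_lit 1, nat_lit 1)],
    [[nat_lit 0, nat_lit 2, nat_lit 2, nat_lit 2, nat_lit 2, nat_lit 2, nat_lit 0, nat_lit 2, nat_lit 0, nat_lit 2, nat_lit 0], [nat_lit 4, nat_lit 2]],
    [nat_lit 0x8da2c9e37415b60, nat_lit 0x2c9eb8d14736a50]⟩
def g8CL1 : Lev := ⟨nat_lit 1, nat_lit 250, (.node (nat_lit 5) (.node (nat_lit 3) (.leaf (nat_lit 0xedcba9876543210)) (.node (nat_lit 4) (.leaf (nat_lit 0x8da2c9e45671b30)) (.leaf (nat_lit 0x8da2c9e37415b60)))) (.node (nat_lit 6) (.leaf (nat_lit 0xedcba9853164270)) (.node (nat_lit 7) (.leaf (nat_lit 0xba982ed61357c40)) (.leaf (nat_lit 0x2c9eb8d14736a50)))))⟩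
def g8CC1 : LevCert := ⟨g8CL1,
    [(nat_lit 4, nat_lit 0), (nat_lit 7, nat_lit 1), (nat_lit 5, nat_lit 0), (nat_lit 6, nat_lit 1), (nat_lit 3, nat_lit 0)],
    [[nat_lit 0, nat_lit 0, nat_lit 2], [nat_lit 2, nat_lit 4, nat_lit 2]],
    [nat_lit 0x2c9eb8d76543a10, nat_lit 0xda2c9eb76543810]⟩
def g8CL2 : Lev := ⟨nat_lit 2, nat_lit 0x7f04, (.node (nat_lit 11) (.node (nat_lit 9) (.node (nat_lit 8) (.leaf (nat_lit 0xedcba9876543210)) (.leaf (nat_lit 0x9eb8da276543c10))) (.node (nat_lit 10) (.leaf (nat_lit 0xcba982e76543d10)) (.leaf (nat_lit 0xb8da2c976543e10)))) (.node (nat_lit 13) (.node (nat_lit 12) (.leaf (nat_lit 0xa982edc76543b10)) (.leaf (nat_lit 0xda2c9eb76543810))) (.node (nat_lit 14) (.leaf (nat_lit 0x82edcba76543910)) (.leaf (nat_lit 0x2c9eb8d76543a10)))))⟩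
def g8CC2 : LevCert := ⟨g8CL2,
    [(nat_lit 14, nat_lit 0), (nat_lit 12, nat_lit 1), (nat_lit 11, nat_lit 0), (nat_lit 9, nat_lit 1), (nat_lit 13, nat_lit 0), (nat_lit 10, nat_lit 0), (nat_lit 8, nat_lit 1)],
    [],
    []⟩
def g8C : List LevCert := [g8CC0, g8CC1, g8CC2]
def g8CL : List Lev := [g8CL0, g8CL1, g8CL2]
def g8V : List ℕ := [nat_lit 1, nat_lit 30, nat_lit 15, nat_lit 36, nat_lit 114, nat_lit 7, nat_lit 64, nat_lit 204, nat_lit 42, nat_lit 21, nat_lit 288, nat_lit 84, nat_lit 126, nat_lit 112, nat_lit 252, nat_lit 336]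
def g8E : Enc (Fin 15) (nat_lit 15) (nat_lit 4) (nat_lit 16) := finEnc 15 4 16 rfl (by decide)
theorem g8_cnt : cntOK (nat_lit 4) (nat_lit 16) (nat_lit 15) g8C g8A g8V = true := by decide +kernel
def g8S : List (List ℕ × List (List ℕ)) := [([nat_lit 0xcba982e54301d67], [[], [nat_lit 2, nat_lit 2, nat_lit 2, nat_lit 2, nat_lit 2, nat_lit 2, nat_lit 2, nat_lit 2, nat_lit 2, nat_lit 2, nat_lit 2, nat_lit 2, nat_lit 2], [nat_lit 4, nat_lit 4, nat_lit 4, nat_lit 4, nat_lit 4], [nat_lit 7, nat_lit 7, nat_lit 7, nat_lit 7, nat_lit 7, nat_lit 7, nat_lit 7, nat_lit 7, nat_lit 7, nat_lit 7, nat_lit 7, nat_lit 7, nat_lit 7], [nat_lit 9, nat_lit 9, nat_lit 9, nat_lit 9, nat_lit 9, nat_lit 9, nat_lit 9, nat_lit 9, nat_lit 9]]),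
  ([], [[]])]
theorem g8_solv : solvOK (nat_lit 4) (nat_lit 16) (nat_lit 15) g8S g8A = true := by decide +kernel
theorem g8_real : Real true (nth g8V) :=
  real_of_solv g8E _ _ _ _ g8_cnt g8_solv

def g9A : List ℕ := [nat_lit 0xa2803456917, nat_lit 0x9a241506873]
def g9CL0 : Lev := ⟨nat_lit 0, nat_lit 251, (.node (nat_lit 4) (.node (nat_lit 1) (.leaf (nat_lit 0xa9876543210)) (.node (nat_lit 3) (.leaf (nat_lit 0x2a951473806)) (.leaf (nat_lit 0xa9831640257)))) (.node (nat_lit 6) (.node (nat_lit 5) (.leaf (nat_lit 0x9a241506873)) (.leaf (nat_lit 0x98236051a74))) (.node (nat_lit 7) (.leaf (nat_lit 0xa2870461953)) (.leaf (nat_lit 0xa2803456917)))))⟩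
def g9CC0 : LevCert := ⟨g9CL0,
    [(nat_lit 7, nat_lit 0), (nat_lit 4, nat_lit 1), (nat_lit 1, nat_lit 1), (nat_lit 5, nat_lit 0), (nat_lit 6, nat_lit 1), (nat_lit 3, nat_lit 0)],
    [[nat_lit 0, nat_lit 2, nat_lit 2, nat_lit 2, nat_lit 2], [nat_lit 2, nat_lit 4, nat_lit 4, nat_lit 4, nat_lit 2, nat_lit 4, nat_lit 4]],
    [nat_lit 0xa2837415960, nat_lit 0x28961357a40]⟩
def g9CL1 : Lev := ⟨nat_lit 1, nat_lit 250, (.node (nat_lit 5) (.node (nat_lit 3) (.leaf (nat_lit 0xa9876543210)) (.node (nat_lit 4) (.leaf (nat_lit 0xa2845671930)) (.leaf (nat_lit 0xa2837415960)))) (.node (nat_lit 6) (.leaf (nat_lit 0xa9853164270)) (.node (nat_lit 7) (.leaf (nat_lit 0x28961357a40)) (.leaf (nat_lit 0xa9814736250)))))⟩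
def g9CC1 : LevCert := ⟨g9CL1,
    [(nat_lit 4, nat_lit 0), (nat_lit 6, nat_lit 1), (nat_lit 5, nat_lit 0), (nat_lit 7, nat_lit 1), (nat_lit 3, nat_lit 0)],
    [[nat_lit 0, nat_lit 2], [nat_lit 2, nat_lit 2, nat_lit 2, nat_lit 2, nat_lit 4, nat_lit 2, nat_lit 2, nat_lit 2]],
    [nat_lit 0x98276543a10, nat_lit 0x2a976543810]⟩
def g9CL2 : Lev := ⟨nat_lit 2, nat_lit 0x704, (.node (nat_lit 9) (.node (nat_lit 8) (.leaf (nat_lit 0xa9876543210)) (.leaf (nat_lit 0x98276543a10))) (.node (nat_lit 10) (.leaf (nat_lit 0x82a76543910)) (.leaf (nat_lit 0x2a976543810))))⟩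
def g9CC2 : LevCert := ⟨g9CL2,
    [(nat_lit 8, nat_lit 0), (nat_lit 10, nat_lit 1), (nat_lit 9, nat_lit 0)],
    [],
    []⟩
def g9C : List LevCert := [g9CC0, g9CC1, g9CC2]
def g9CL : List Lev := [g9CL0, g9CL1, g9CL2]
def g9V : List ℕ := [nat_lit 1, nat_lit 30, nat_lit 15, nat_lit 32, nat_lit 114, nat_lit 7, nat_lit 32, nat_lit 144, nat_lit 42, nat_lit 21, nat_lit 144, nat_lit 56, nat_lit 126, nat_lit 56, nat_lit 168, nat_lit 168]
def g9E : Enc (Fin 11) (nat_lit 11) (nat_lit 4) (nat_lit 16) := finEnc 11 4 16 rfl (by decide)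
theorem g9_cnt : cntOK (nat_lit 4) (nat_lit 16) (nat_lit 11) g9C g9A g9V = true := by decide +kernel
def g9S : List (List ℕ × List (List ℕ)) := [([nat_lit 0x82a54301967], [[], [nat_lit 3], [nat_lit 4, nat_lit 4, nat_lit 4]]),
  ([], [[]])]
theorem g9_solv : solvOK (nat_lit 4) (nat_lit 16) (nat_lit 11) g9S g9A = true := by decide +kernel
theorem g9_real : Real true (nth g9V) :=
  real_of_solv g9E _ _ _ _ g9_cnt g9_solv

def g10A : List ℕ := [nat_lit 0x38484a96c6ca74ad9f0314830c407, nat_lit 0x460fb5693925027358b004642a8c7]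
def g10CL0 : Lev := ⟨nat_lit 0, nat_lit 251, (.node (nat_lit 4) (.node (nat_lit 1) (.leaf (nat_lit 0x5ab49ca307b9ac5a928398a418820)) (.node (nat_lit 3) (.leaf (nat_lit 0x38484a96c6ca74ad9f0314830c407)) (.leaf (nat_lit 0x4a307dab49a928139ac2906102ce6)))) (.node (nat_lit 6) (.node (nat_lit 5) (.leaf (nat_lit 0x296c6b8484d9f08ca7420c203d4c5)) (.leaf (nat_lit 0x56939460fb358b5250231c011b885))) (.node (nat_lit 7) (.leaf (nat_lit 0x2d8d7090953e1194e9538023258a6)) (.leaf (nat_lit 0x460fb5693925027358b004642a8c7)))))⟩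
def g10CC0 : LevCert := ⟨g10CL0,
    [(nat_lit 1, nat_lit 0), (nat_lit 7, nat_lit 1), (nat_lit 3, nat_lit 0), (nat_lit 6, nat_lit 1), (nat_lit 4, nat_lit 0), (nat_lit 5, nat_lit 1)],
    [[nat_lit 0, nat_lit 0, nat_lit 0, nat_lit 0, nat_lit 0, nat_lit 0, nat_lit 2], [nat_lit 2, nat_lit 4, nat_lit 4, nat_lit 4, nat_lit 2, nat_lit 2, nat_lit 4, nat_lit 4]],
    [nat_lit 0x56939460fb358b5250208c85338e0, nat_lit 0x2d8d7090953e1194e9508c85358e0]⟩
def g10CL1 : Lev := ⟨nat_lit 1, nat_lit 130, (.node (nat_lit 7) (.leaf (nat_lit 0x5ab49ca307b9ac5a928398a418820)) (.leaf (nat_lit 0x56939460fb358b5250208c85338e0)))⟩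
def g10CC1 : LevCert := ⟨g10CL1,
    [(nat_lit 7, nat_lit 0)],
    [[nat_lit 0, nat_lit 0, nat_lit 2, nat_lit 0, nat_lit 0, nat_lit 0, nat_lit 0, nat_lit 0], [nat_lit 2, nat_lit 4, nat_lit 4, nat_lit 2, nat_lit 4, nat_lit 4, nat_lit 2, nat_lit 4]],
    [nat_lit 0x38484a96c6ca74ad9f0398a41c420, nat_lit 0x212a5b1ae152b67c232398a41cc20]⟩
def g10CL2 : Lev := ⟨nat_lit 2, nat_lit 0x2aaa04, (.node (nat_lit 15) (.node (nat_lit 11) (.node (nat_lit 9) (.leaf (nat_lit 0x5ab49ca307b9ac5a928398a418820)) (.leaf (nat_lit 0x52728c1f6ab16a4a04e398a41b420))) (.node (nat_lit 13) (.leaf (nat_lit 0x4a307dab49a928139ac398a41ac20)) (.leaf (nat_lit 0x41f6ad2728a04e6b16a398a41a420)))) (.node (nat_lit 19) (.node (nat_lit 17) (.leaf (nat_lit 0x212a5b1ae152b67c232398a41cc20)) (.leaf (nat_lit 0x296c6b8484d9f08ca74398a41d420))) (.node (nat_lit 21) (.leaf (nat_lit 0x31ae1212a5c2329d2b6398a41bc20)) (.leaf (nat_lit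 0x38484a96c6ca74ad9f0398a41c420)))))⟩
def g10CC2 : LevCert := ⟨g10CL2,
    [(nat_lit 21, nat_lit 0), (nat_lit 15, nat_lit 1), (nat_lit 11, nat_lit 0), (nat_lit 13, nat_lit 1), (nat_lit 9, nat_lit 0), (nat_lit 17, nat_lit 0), (nat_lit 19, nat_lit 1)],
    [],
    []⟩
def g10C : List LevCert := [g10CC0, g10CC1, g10CC2]
def g10CL : List Lev := [g10CL0, g10CL1, g10CL2]
def g10V : List ℕ := [nat_lit 1, nat_lit 2, nat_lit 1, nat_lit 36, nat_lit 2, nat_lit 7, nat_lit 64, nat_lit 36, nat_lit 14, nat_lit 7, nat_lit 64, nat_lit 84, nat_lit 14, nat_lit 112, nat_lit 84, nat_lit 112]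
def g10E : Enc (Fin 23) (nat_lit 23) (nat_lit 5) (nat_lit 32) := finEnc 23 5 32 rfl (by decide)
theorem g10_cnt : cntOK (nat_lit 5) (nat_lit 32) (nat_lit 23) g10C g10A g10V = true := by decide +kernel
def g10S : List (List ℕ × List (List ℕ)) := [([nat_lit 0x52728c1f6ab16a4a04e314830b407], [[], [nat_lit 3, nat_lit 3, nat_lit 3, nat_lit 3, nat_lit 3], [nat_lit 5, nat_lit 5, nat_lit 5, nat_lit 5, nat_lit 5, nat_lit 5, nat_lit 5, nat_lit 5, nat_lit 5, nat_lit 5, nat_lit 5, nat_lit 5, nat_lit 5], [nat_lit 6, nat_lit 6, nat_lit 6, nat_lit 6, nat_lit 6], [nat_lit 8, nat_lit 8, nat_lit 8, nat_lit 8, nat_lit 8, nat_lit 8, nat_lit 8, nat_lit 8, nat_lit 8, nat_lit 8, nat_lit 8, nat_lit 8, nat_lit 8]]),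
  ([], [[]])]
theorem g10_solv : solvOK (nat_lit 5) (nat_lit 32) (nat_lit 23) g10S g10A = true := by decide +kernel
theorem g10_real : Real true (nth g10V) :=
  real_of_solv g10E _ _ _ _ g10_cnt g10_solv

def g11A : List ℕ := [nat_lit 0x708ea]
def g11CL0 : Lev := ⟨nat_lit 0, nat_lit 29, (.node (nat_lit 3) (.node (nat_lit 2) (.leaf (nat_lit 0x1ac688)) (.leaf (nat_lit 0x1ab40c))) (.node (nat_lit 4) (.leaf (nat_lit 0x14a133)) (.leaf (nat_lit 0x708ea))))⟩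
def g11CC0 : LevCert := ⟨g11CL0,
    [(nat_lit 4, nat_lit 0), (nat_lit 3, nat_lit 0), (nat_lit 2, nat_lit 0)],
    [[nat_lit 0, nat_lit 0, nat_lit 0, nat_lit 0, nat_lit 0, nat_lit 0, nat_lit 0, nat_lit 0]],
    [nat_lit 0x14c6b0]⟩
def g11CL1 : Lev := ⟨nat_lit 1, nat_lit 98, (.node (nat_lit 5) (.leaf (nat_lit 0x1ac688)) (.node (nat_lit 6) (.leaf (nat_lit 0x14c6b0)) (.leaf (nat_lit 0x746a8))))⟩
def g11CC1 : LevCert := ⟨g11CL1,
    [(nat_lit 5, nat_lit 0), (nat_lit 6, nat_lit 0)],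
    [],
    []⟩
def g11C : List LevCert := [g11CC0, g11CC1]
def g11CL : List Lev := [g11CL0, g11CL1]
def g11V : List ℕ := [nat_lit 1, nat_lit 2, nat_lit 3, nat_lit 4, nat_lit 6, nat_lit 1, nat_lit 4, nat_lit 12, nat_lit 2, nat_lit 3, nat_lit 12, nat_lit 4, nat_lit 6, nat_lit 4, nat_lit 12, nat_lit 12]
def g11E : Enc (Fin 7) (nat_lit 7) (nat_lit 3) (nat_lit 8) := finEnc 7 3 8 rfl (by decide)
theorem g11_cnt : cntOK (nat_lit 3) (nat_lit 8) (nat_lit 7) g11C g11A g11V = true := by decide +kernel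
def g11S : List (List ℕ × List (List ℕ)) := [([], [[]])]
theorem g11_solv : solvOK (nat_lit 3) (nat_lit 8) (nat_lit 7) g11S g11A = true := by decide +kernel
theorem g11_real : Real true (nth g11V) :=
  real_of_solv g11E _ _ _ _ g11_cnt g11_solv

/-- There are finite groups G and H having the same number of elements of each order (the same order type) with G solvable and H not solvable. -/
theorem result :
    ∃ (G : Type) (_ : Group G) (_ : Finite G) (H : Type) (_ : Group H) (_ : Finite H),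
      Group.IsSolvable G ∧ ¬ Group.IsSolvable H ∧ ∀ n : ℕ, Nat.card {g : G // orderOf g = n} = Nat.card {h : H // orderOf h = n} := by
  obtain ⟨G, _, _, h1, h2⟩ :=
    ((((g0_real.mul g1_real).mul g6_real).mul g7_real).mul g8_real).mul g11_real
  obtain ⟨H, _, _, h3, h4⟩ :=
    (((((pg_real.mul g2_real).mul g3_real).mul g4_real).mul g5_real).mul g9_real).mul g10_real
  refine ⟨G, _, inferInstance, H, _, inferInstance, h1.mpr rfl, fun h => by simpa using h3.mp h,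
    S4377.result.mpr (card_eq_of_has h2 h4 (by decide +kernel))⟩

end Cfsg.Agent.S4376
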