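import Cfsg.Statements.S4394
import Cfsg.Agent.S0536
import Cfsg.Agent.S0029
import Cfsg.Agent.S0625
import Cfsg.Agent.H1.Frattini
import Cfsg.Agent.H22.UpperPSeries
import Cfsg.Agent.H46.Generation

set_option autoImplicit false
open Cfsg

namespace Cfsg.Agent.S4394

open Subgroup
open scoped commutatorElement

theorem coatom_of_prime {T : Type*} [Group T] {H : Subgroup T} (h : H.index.Prime) :
    IsCoatom H := by
  refine ⟨fun h1 => by rw [h1, index_top] at h; exact Nat.not_prime_one h, fun K hK => ?_⟩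
  rcases h.eq_one_or_self_of_dvd _ (index_dvd_of_le hK.le) with h1 | h1
  · exact index_eq_one.1 h1
  · have h2 := relIndex_mul_index hK.le
    rw [h1, mul_eq_right₀ h.ne_zero, relIndex_eq_one] at h2
    exact absurd h2 hK.not_ge

/-- the property of the normal Sylow subgroup that is used -/
def SP (p : ℕ) (T : Type*) [Group T] : Prop :=
  (∀ a b c : T, Commute ⁅a, b⁆ c) ∧ (∀ a c : T, Commute (a ^ p) c) ∧
    (p ≤ 3 → ∀ M R : Subgroup T, M ≤ R → R.index = p → M.relIndex R = p → ∀ a b : T, ⁅a, b⁆ ∈ M)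

theorem SP.of_equiv {p : ℕ} {T U : Type*} [Group T] [Group U] (h : SP p T) (e : U ≃* T) :
    SP p U := by
  refine ⟨fun a b c => e.injective ?_, fun a c => e.injective ?_, fun hp M R hMR hR hM a b => ?_⟩
  · rw [map_mul, map_mul, map_commutatorElement]; exact h.1 _ _ _
  · rw [map_mul, map_mul, map_pow]; exact h.2.1 _ _
  · have := h.2.2 hp (M.comap e.symm.toMonoidHom) (R.comap e.symm.toMonoidHom) (comap_mono hMR)
      (by rw [index_comap_of_surjective _ e.symm.surjective, hR])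
      (by rw [relIndex_comap, map_comap_eq_self_of_surjective e.symm.surjective, hM]) (e a) (e b)
    rw [mem_comap, map_commutatorElement] at this
    simpa using this

theorem sp_of_comm {p : ℕ} {T : Type*} [Group T] (h : ∀ a b : T, Commute a b) : SP p T :=
  ⟨fun _ _ _ => h _ _, fun _ _ => h _ _, fun _ M _ _ _ _ a b => by
    rw [(h a b).commutator_eq]; exact M.one_mem⟩

theorem sp_of_aut {p q : ℕ} [hp : Fact p.Prime] (hq : q.Prime) (hpq : q ≠ p) {T : Type*} [Group T]
    [Finite T] (hT : IsPGroup p T) (σ : MulAut T) (hσq : σ ^ q = 1) (hσ : σ ≠ 1)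
    (H : ∀ A : Subgroup T, A ≠ ⊤ → (∀ a ∈ A, σ a ∈ A) → ∀ a ∈ A, σ a = a) : SP p T := by
  let C : Subgroup T := σ.toMonoidHom.eqLocus (MonoidHom.id T)
  have hC : ∀ a, a ∈ C ↔ σ a = a := fun _ => Iff.rfl
  have hCt : C ≠ ⊤ := fun h => hσ (MulEquiv.ext fun a => (hC a).1 (h ▸ mem_top a))
  have hΦ : frattini T ≤ C := by
    have hn : (frattini T).Normal := inferInstance
    refine le_sup_right.trans (fun a ha => H (C ⊔ frattini T)
      (fun h => hCt (frattini_nongenerating h)) (fun a ha => ?_) a ha)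
    obtain ⟨c, hc, f, hf, rfl⟩ := mem_sup_of_normal_right.1 ha
    rw [map_mul, (hC c).1 hc]
    exact mul_mem_sup hc ((characteristic_iff_map_le.1 inferInstance) σ ⟨f, hf, rfl⟩)
  have hcm : ∀ a b : T, ⁅a, b⁆ ∈ C := fun a b => hΦ (H1.commutator_le_frattini hT
    (commutator_mem_commutator (mem_top a) (mem_top b)))
  have hpw : ∀ a : T, a ^ p ∈ C := fun a => hΦ (H1.pow_mem_frattini hT a)
  have hq1 : ∀ d : T, d ^ q = 1 → d = 1 := fun d hd => by
    obtain ⟨k, hk⟩ := hT d
    rw [← orderOf_eq_one_iff]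
    exact Nat.eq_one_of_dvd_coprimes (Nat.Coprime.pow_right k ((Nat.coprime_primes hq hp.out).2 hpq))
      (orderOf_dvd_of_pow_eq_one hd) (orderOf_dvd_of_pow_eq_one hk)
  have hCZ : ∀ c ∈ C, ∀ u : T, Commute c u := by
    by_contra hne
    have h1 : centralizer (C : Set T) ≠ ⊤ := fun h => hne fun c hc u =>
      mem_centralizer_iff.1 (h ▸ mem_top u : u ∈ centralizer (C : Set T)) c hc
    have h2 := H _ h1 fun a ha => mem_centralizer_iff.2 fun c hc => by
      rw [← (hC c).1 hc, ← map_mul, ← map_mul, mem_centralizer_iff.1 ha c hc]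
    apply hσ
    ext u
    have h3 := h2 (u⁻¹ * σ u) (mem_centralizer_iff.2 fun c hc => by
      have h4 : u * c * u⁻¹ ∈ C := by
        have := C.mul_mem (hcm u c) hc
        rwa [commutatorElement_def, inv_mul_cancel_right] at this
      have h5 := (hC _).1 h4
      rw [map_mul, map_mul, map_inv, (hC c).1 hc] at h5
      calc c * (u⁻¹ * σ u) = u⁻¹ * (u * c * u⁻¹) * σ u := by group
        _ = _ := by rw [← h5]; group)
    have h4 : ∀ k : ℕ, (σ ^ k) u = u * (u⁻¹ * σ u) ^ k := by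
      intro k
      induction k with
      | zero => simp
      | succ k ih =>
        rw [pow_succ', MulAut.mul_apply, ih, map_mul, map_pow, h3, pow_succ', ← mul_assoc,
          mul_inv_cancel_left]
    have h5 := h4 q
    rw [hσq, MulAut.one_apply, left_eq_mul] at h5
    exact (inv_mul_eq_one.1 (hq1 _ h5)).symm
  have h1 : ∀ a b c : T, Commute ⁅a, b⁆ c := fun a b c => hCZ _ (hcm a b) c
  refine ⟨h1, fun a c => hCZ _ (hpw a) c, fun hp3 M R hMR hR hM => ?_⟩
  by_contra hne
  push Not at hne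
  obtain ⟨a₀, b₀, hab⟩ := hne
  have hml : ∀ a b c : T, ⁅a * b, c⁆ = ⁅a, c⁆ * ⁅b, c⁆ := fun a b c => by
    calc ⁅a * b, c⁆ = a * ⁅b, c⁆ * a⁻¹ * ⁅a, c⁆ := by simp only [commutatorElement_def]; group
      _ = _ := by rw [← (h1 b c a).eq, mul_inv_cancel_right, (h1 b c _).eq]
  have hmr : ∀ a b c : T, ⁅a, b * c⁆ = ⁅a, b⁆ * ⁅a, c⁆ := fun a b c => by
    calc ⁅a, b * c⁆ = ⁅a, b⁆ * (b * ⁅a, c⁆ * b⁻¹) := by simp only [commutatorElement_def]; group
      _ = _ := by rw [← (h1 a c b).eq, mul_inv_cancel_right]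
  -- a proper invariant subgroup of the shape `⟨u⟩ C`
  have hL : ∀ u : T, σ u ∈ zpowers u ⊔ C → u ∈ C := by
    intro u hu
    have hCn : C.Normal := ⟨fun c hc g => by rw [← (hCZ c hc g).eq, mul_inv_cancel_right]; exact hc⟩
    have hcom : ∀ x ∈ zpowers u ⊔ C, ∀ y ∈ zpowers u ⊔ C, Commute x y := by
      intro x hx y hy
      obtain ⟨_, ⟨i, rfl⟩, c, hc, rfl⟩ := mem_sup_of_normal_right.1 hx
      obtain ⟨_, ⟨j, rfl⟩, d, hd, rfl⟩ := mem_sup_of_normal_right.1 hy
      exact Commute.mul_left (Commute.mul_right (Commute.zpow_zpow_self u i j) (hCZ d hd _).symm)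
        (hCZ c hc _)
    refine H (zpowers u ⊔ C) (fun h => hab ?_) (fun a ha => ?_) u (mem_sup_left (mem_zpowers u))
    · rw [(hcom a₀ (h ▸ mem_top _) b₀ (h ▸ mem_top _)).commutator_eq]; exact M.one_mem
    · obtain ⟨_, ⟨i, rfl⟩, c, hc, rfl⟩ := mem_sup_of_normal_right.1 ha
      rw [map_mul, map_zpow, (hC c).1 hc]
      exact mul_mem (zpow_mem hu i) (mem_sup_right hc)
  have hRn : R.Normal := H1.normal_of_isCoatom_of_pgroup hT (by
    have := coatom_of_prime (H := R) (hR ▸ hp.out)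
    exact this)
  have hMn : (M.subgroupOf R).Normal := H1.normal_of_isCoatom_of_pgroup (hT.to_subgroup R)
    (coatom_of_prime (H := M.subgroupOf R) (by rw [show (M.subgroupOf R).index = p from hM]; exact hp.out))
  have hRR : ∀ r ∈ R, ∀ s ∈ R, ⁅r, s⁆ ∈ M := fun r hr s hs =>
    H1.commutator_le_of_index_prime (M := M.subgroupOf R) hM
      (commutator_mem_commutator (mem_top (⟨r, hr⟩ : R)) (mem_top ⟨s, hs⟩))
  have hRp : ∀ r ∈ R, r ^ p ∈ M := fun r hr => by
    have := (M.subgroupOf R).pow_index_mem ⟨r, hr⟩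
    rwa [show (M.subgroupOf R).index = p from hM] at this
  have hcR : ∀ a b : T, ⁅a, b⁆ ∈ R := fun a b => H1.commutator_le_of_index_prime hR
    (commutator_mem_commutator (mem_top a) (mem_top b))
  let D : Subgroup T :=
    { carrier := {u | ∀ v, ⁅u, v⁆ ∈ M}
      one_mem' := fun v => by simp
      mul_mem' := fun {a b} ha hb v => by rw [hml]; exact M.mul_mem (ha v) (hb v)
      inv_mem' := fun {a} ha v => by
        have h2 := hml a⁻¹ a v
        rw [inv_mul_cancel, commutatorElement_one_left, eq_comm, mul_eq_one_iff_eq_inv] at h2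
        rw [h2]; exact M.inv_mem (ha v) }
  have hD : D ≤ C := H D (fun h => hab ((h ▸ mem_top a₀ : a₀ ∈ D) b₀)) fun a ha v => by
    obtain ⟨v, rfl⟩ := σ.surjective v
    rw [← map_commutatorElement, (hC _).1 (hcm a v)]
    exact ha v
  obtain ⟨y, hy⟩ : ∃ y, y ∉ R := by
    by_contra h
    push Not at h
    rw [(eq_top_iff' R).2 h, index_top] at hR
    exact hp.out.one_lt.ne hR
  have hRy : ∀ v : T, ∃ r ∈ R, ∃ i : ℤ, v = r * y ^ i := by
    intro v
    have h2 : R ⊔ zpowers y = ⊤ := (coatom_of_prime (H := R) (hR ▸ hp.out)).2 _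
      (lt_of_le_of_ne le_sup_left fun h => hy (h ▸ mem_sup_right (mem_zpowers y)))
    obtain ⟨r, hr, _, ⟨i, rfl⟩, e⟩ := mem_sup_of_normal_left.1 (h2 ▸ mem_top v : v ∈ R ⊔ zpowers y)
    exact ⟨r, hr, i, e.symm⟩
  let φ : R →* R := MonoidHom.mk' (fun r => ⟨⁅(r : T), y⁆, hcR _ _⟩) fun r s =>
    Subtype.ext (hml _ _ _)
  have hker : (M.subgroupOf R).comap φ ≤ D.subgroupOf R := fun r hr v => by
    obtain ⟨s, hs, i, rfl⟩ := hRy v
    let ψ : T →* T := MonoidHom.mk' (fun v => ⁅(r : T), v⁆) (hmr r)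
    change ψ (s * y ^ i) ∈ M
    rw [map_mul, map_zpow]
    exact M.mul_mem (hRR r r.2 s hs) (M.zpow_mem hr i)
  have hidx : C.index ∣ p ^ 2 := by
    have h2 : ((M.subgroupOf R).comap φ).index ∣ p := by
      rw [index_comap, ← hM]
      exact relIndex_dvd_index_of_normal _ _
    have h3 : (D ⊓ R).relIndex R ∣ p := by
      rw [inf_relIndex_right]
      exact (index_dvd_of_le hker).trans h2
    have h4 := relIndex_mul_index (inf_le_right : D ⊓ R ≤ R)
    refine (index_dvd_of_le (inf_le_left.trans hD : D ⊓ R ≤ C)).trans ?_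
    rw [← h4, hR, pow_two]
    exact Nat.mul_dvd_mul_right h3 p
  obtain ⟨a, haR, ha⟩ : ∃ a ∈ R, a ∉ C := by
    by_contra h
    push Not at h
    obtain ⟨r, hr, i, rfl⟩ := hRy a₀
    obtain ⟨s, hs, j, rfl⟩ := hRy b₀
    apply hab
    rw [(Commute.mul_left (hCZ r (h r hr) _) (Commute.mul_right (hCZ s (h s hs) _).symm
      (Commute.zpow_zpow_self y i j))).commutator_eq]
    exact M.one_mem
  have hCn : C.Normal := ⟨fun c hc g => by rw [← (hCZ c hc g).eq, mul_inv_cancel_right]; exact hc⟩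
  have hp23 : p = 2 ∨ p = 3 := by have := hp.out.two_le; omega
  rcases hp23 with rfl | rfl
  · -- the quotient by `C` is a four-group
    have hCR : C ≤ R := by
      by_contra h
      have h2 : R ⊔ C = ⊤ := (coatom_of_prime (H := R) (hR ▸ hp.out)).2 _
        (lt_of_le_of_ne le_sup_left fun h' => h (h' ▸ le_sup_right))
      obtain ⟨r, hr, c, hc, rfl⟩ := mem_sup_of_normal_left.1 (h2 ▸ mem_top a₀ : a₀ ∈ R ⊔ C)
      obtain ⟨s, hs, d, hd, rfl⟩ := mem_sup_of_normal_left.1 (h2 ▸ mem_top b₀ : b₀ ∈ R ⊔ C)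
      apply hab
      rw [hml, hmr, (hCZ c hc _).commutator_eq, (hCZ d hd r).symm.commutator_eq, mul_one, mul_one]
      exact hRR r hr s hs
    have hb : σ a ∉ zpowers a ⊔ C := fun h => ha (hL a h)
    have hsq : ∀ u : T, u⁻¹ * u⁻¹ ∈ C := fun u => by rw [← pow_two]; exact hpw _
    -- every element is congruent to one of four
    have hall : ∀ u : T, u ∈ C ∨ a⁻¹ * u ∈ C ∨ (σ a)⁻¹ * u ∈ C ∨ (a * σ a)⁻¹ * u ∈ C := by
      intro u
      by_contra hu
      push Not at hu
      obtain ⟨u1, u2, u3, u4⟩ := hu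
      have n1 : σ a ∉ C := fun h => hb (mem_sup_right h)
      have n2 : a⁻¹ * σ a ∉ C := fun h => hb (by
        have := mul_mem_sup (mem_zpowers a) h
        rwa [mul_inv_cancel_left] at this)
      have n3 : a * σ a ∉ C := fun h => hb (by
        have := mul_mem_sup (inv_mem (mem_zpowers a)) h
        rwa [inv_mul_cancel_left] at this)
      have n4 : (σ a)⁻¹ * (a * σ a) ∉ C := fun h => ha (by
        have := hCn.conj_mem _ h (σ a)
        simpa [mul_assoc] using this)
      classical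
      have hcard : ({((1 : T) : T ⧸ C), (a : T ⧸ C), (σ a : T ⧸ C), ((a * σ a : T) : T ⧸ C),
          (u : T ⧸ C)} : Finset (T ⧸ C)).card = 5 := by
        rw [Finset.card_insert_of_notMem, Finset.card_insert_of_notMem,
          Finset.card_insert_of_notMem, Finset.card_pair] <;>
          simp only [Finset.mem_insert, Finset.mem_singleton, QuotientGroup.eq, ne_eq, inv_one,
            one_mul, inv_mul_cancel_left, not_or, ha, n1, n2, n3, n4, u1, u2, u3, u4,
            not_false_eq_true, and_self]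
      have := Fintype.ofFinite (T ⧸ C)
      have h5 := Finset.card_le_univ ({((1 : T) : T ⧸ C), (a : T ⧸ C), (σ a : T ⧸ C),
        ((a * σ a : T) : T ⧸ C), (u : T ⧸ C)} : Finset (T ⧸ C))
      rw [hcard, ← Nat.card_eq_fintype_card, ← index_eq_card] at h5
      have := Nat.le_of_dvd (by norm_num) hidx
      omega
    have hz : (a * σ a)⁻¹ * σ (σ a) ∈ C := by
      rcases hall (σ (σ a)) with h | h | h | h
      · exact absurd (hL _ (mem_sup_right h)) fun h => hb (mem_sup_right h)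
      · exfalso
        have h2 : a * σ a ∈ C := hL _ (by
          have e : σ (a * σ a) = a * σ a * (⁅(σ a)⁻¹, a⁻¹⁆ * (a⁻¹ * σ (σ a))) := by
            rw [map_mul, commutatorElement_def]; group
          rw [e]
          exact mul_mem_sup (mem_zpowers _) (C.mul_mem (hcm _ _) h))
        refine hb ?_
        have := mul_mem_sup (inv_mem (mem_zpowers a)) h2
        rwa [inv_mul_cancel_left] at this
      · refine absurd (hL (σ a) ?_) fun h => hb (mem_sup_right h)
        have := mul_mem_sup (mem_zpowers (σ a)) h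
        rwa [mul_inv_cancel_left] at this
      · exact h
    obtain ⟨z, hzC, hz⟩ : ∃ z ∈ C, σ (σ a) = a * σ a * z := ⟨_, hz, by group⟩
    have e1 : σ a ^ 2 = a ^ 2 := by rw [← map_pow, (hC _).1 (hpw a)]
    have e2 : σ (σ a) ^ 2 = a ^ 2 := by rw [← map_pow, e1, (hC _).1 (hpw a)]
    have e3 : ⁅(σ a)⁻¹, a⁻¹⁆ = (a ^ 2)⁻¹ * (z ^ 2)⁻¹ := by
      rw [hz, (hCZ z hzC (a * σ a)).symm.mul_pow] at e2
      have e4 : (a * σ a) ^ 2 = a * (a * σ a * ⁅(σ a)⁻¹, a⁻¹⁆) * σ a := by
        rw [commutatorElement_def, pow_two]; group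
      have e5 : (a * σ a) ^ 2 = a ^ 2 * (a ^ 2 * ⁅(σ a)⁻¹, a⁻¹⁆) := by
        rw [e4, mul_assoc a, mul_assoc (a * σ a), (h1 _ _ (σ a)).eq]
        nth_rewrite 2 [← e1]
        simp only [pow_two, mul_assoc]
      rw [e5, mul_assoc, mul_eq_left] at e2
      rw [← mul_eq_one_iff_eq_inv.1 e2]; group
    have e6 : ⁅(σ a)⁻¹, a⁻¹⁆ ∈ M := by
      rw [e3]
      exact M.mul_mem (M.inv_mem (hRp a haR)) (M.inv_mem (hRp z (hCR hzC)))
    refine ha (C.inv_mem_iff.1 (hD fun v => ?_))
    rw [← commutatorElement_inv]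
    refine M.inv_mem ?_
    have e7 : ⁅a⁻¹, a⁻¹⁆ ∈ M := by simp
    have key : ∀ w : T, ⁅w⁻¹, a⁻¹⁆ ∈ M → w⁻¹ * v⁻¹ ∈ C → ⁅v, a⁻¹⁆ ∈ M := fun w h2 h3 => by
      have e : v = (w⁻¹ * v⁻¹)⁻¹ * w⁻¹ := by group
      rw [e, hml, (hCZ _ (C.inv_mem h3) _).commutator_eq, one_mul]
      exact h2
    rcases hall v⁻¹ with h | h | h | h
    · exact key 1 (by simp) (by simpa using h)
    · exact key a e7 h
    · exact key _ e6 h
    · exact key _ (by rw [mul_inv_rev, hml]; exact M.mul_mem e6 e7) h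
  · -- the order of `σ` is two
    have hq2 : q = 2 := by
      have := Fact.mk hq
      have hS : IsPGroup q (zpowers σ) := IsPGroup.of_card (n := 1) (by
        rw [Nat.card_zpowers, orderOf_eq_prime hσq hσ, pow_one])
      have h2 := hS.card_modEq_card_fixedPoints T
      have h3 : Nat.card (MulAction.fixedPoints (zpowers σ) T) = Nat.card C :=
        Nat.card_congr (Equiv.subtypeEquivRight fun u => by
          rw [MulAction.mem_fixedPoints]
          refine ⟨fun h => h ⟨σ, mem_zpowers σ⟩, fun h g => ?_⟩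
          exact (zpowers_le.2 (show σ ∈ MulAction.stabilizer (MulAut T) u from h)) g.2)
      rw [h3, ← C.card_mul_index] at h2
      obtain ⟨k, hk⟩ := (hT.to_subgroup C).exists_card_eq
      have h4 : Nat.Coprime q (Nat.card C) :=
        hk ▸ Nat.Coprime.pow_right k ((Nat.coprime_primes hq hp.out).2 hpq)
      have h5 : C.index ≡ 1 [MOD q] := Nat.ModEq.cancel_left_of_coprime h4 (by rwa [mul_one])
      obtain ⟨i, hi, h6⟩ := (Nat.dvd_prime_pow hp.out).1 hidx
      have h7 : q ∣ 8 := by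
        interval_cases i
        · exact absurd (index_eq_one.1 h6) hCt
        · exact ((Nat.modEq_iff_dvd' (by omega)).1 (h6 ▸ h5).symm).trans (by norm_num)
        · exact (Nat.modEq_iff_dvd' (by omega)).1 (h6 ▸ h5).symm
      exact (Nat.prime_dvd_prime_iff_eq hq Nat.prime_two).1 (hq.dvd_of_dvd_pow (n := 3) h7)
    subst hq2
    have h2 : σ (σ a) = a := by rw [← MulAut.mul_apply, ← pow_two, hσq, MulAut.one_apply]
    have h3 : a * σ a ∈ C := hL _ (by
      have e : σ (a * σ a) = a * σ a * ⁅(σ a)⁻¹, a⁻¹⁆ := by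
        rw [map_mul, h2, commutatorElement_def]; group
      rw [e]
      exact mul_mem_sup (mem_zpowers _) (hcm _ _))
    refine ha (hL a ?_)
    have := mul_mem_sup (inv_mem (mem_zpowers a)) h3
    rwa [inv_mul_cancel_left] at this

theorem sp_of_min {X : Type*} [Group X] [Finite X] (p : ℕ) [hp : Fact p.Prime]
    (hX : Cfsg.IsMinimalNonNilpotent X) (P : Sylow p X) (hPn : (P : Subgroup X).Normal) :
    SP p (P : Subgroup X) := by
  obtain ⟨q, r, hq, hr, hqr, S, Q, hS, hQ, hSQ⟩ := S0536.result hX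
  have := Fact.mk hq
  have := Fact.mk hr
  obtain ⟨⟨x, hxS⟩, hx⟩ := IsCyclic.exists_generator (α := (S : Subgroup X))
  have hSx : (S : Subgroup X) = zpowers x := le_antisymm
    (fun s hs => by
      obtain ⟨i, hi⟩ := mem_zpowers_iff.1 (hx ⟨s, hs⟩)
      exact ⟨i, congrArg Subtype.val hi⟩) (zpowers_le.2 hxS)
  by_cases hrp : r = p
  swap
  · refine sp_of_comm fun a b => ?_
    rw [← commutatorElement_eq_one_iff_commute]
    have h1 : commutator X ≤ Q := by
      rw [← Normal.quotient_commutative_iff_commutator_le]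
      refine ⟨⟨fun u v => ?_⟩⟩
      have h2 : ∀ u : X ⧸ (Q : Subgroup X), u ∈ zpowers (x : X ⧸ (Q : Subgroup X)) := by
        intro u
        obtain ⟨u, rfl⟩ := QuotientGroup.mk_surjective u
        obtain ⟨s, hs, t, ht, rfl⟩ := mem_sup_of_normal_right.1 (hSQ ▸ mem_top u : u ∈ _ ⊔ _)
        rw [hSx] at hs
        obtain ⟨i, rfl⟩ := hs
        rw [QuotientGroup.mk_mul, (QuotientGroup.eq_one_iff t).2 ht, mul_one]
        exact ⟨i, rfl⟩
      obtain ⟨i, rfl⟩ := h2 u
      obtain ⟨j, rfl⟩ := h2 v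
      exact (Commute.zpow_zpow_self _ i j).eq
    have h2 : ((⁅a, b⁆ : (P : Subgroup X)) : X) ∈ (Q : Subgroup X) ⊓ P :=
      ⟨h1 (commutator_mem_commutator (mem_top (a : X)) (mem_top (b : X))), (⁅a, b⁆).2⟩
    rw [disjoint_iff.1 (IsPGroup.disjoint_of_ne r p hrp _ _ Q.isPGroup' P.isPGroup')] at h2
    exact Subtype.ext h2
  subst hrp
  obtain rfl : Q = P := by
    have := Sylow.unique_of_normal P hPn
    exact Subsingleton.elim _ _
  let σ : MulAut (Q : Subgroup X) := MulAut.conjNormal x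
  have hxq : IsPGroup q (zpowers x) := hSx ▸ S.isPGroup'
  have key : ∀ (A : Subgroup X) (y : X), A ≤ Q → y ∈ zpowers x → A ⊔ zpowers y ≠ ⊤ →
      ∀ a ∈ A, y * a = a * y := fun A y hA hy h a ha =>
    S0536.commute_of_nilpotent _ _ _ (hX.2 _ h) le_sup_right le_sup_left hqr
      (hxq.to_le (zpowers_le.2 hy)) (Q.isPGroup'.to_le hA) (mem_zpowers y) ha
  have hdis : (Q : Subgroup X) ⊓ zpowers x = ⊥ :=
    disjoint_iff.1 (IsPGroup.disjoint_of_ne r q hqr.symm _ _ Q.isPGroup' hxq)
  have hσ : σ ≠ 1 := by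
    intro h
    apply hX.1
    have h1 : x ∈ center X := by
      have : (S : Subgroup X) ⊔ Q ≤ centralizer {x} := sup_le
        (by rw [hSx, zpowers_le]; exact mem_centralizer_singleton_iff.2 rfl) fun a ha => by
          have h2 := congrArg (fun τ : MulAut (Q : Subgroup X) => (τ ⟨a, ha⟩ : X)) h
          exact mem_centralizer_singleton_iff.2 (mul_inv_eq_iff_eq_mul.1 h2).symm
      exact mem_center_iff.2 fun g => mem_centralizer_singleton_iff.1 (this (hSQ ▸ mem_top g))
    refine Group.of_quotient_center_nilpotent (IsPGroup.isNilpotent (p := r) ?_)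
    refine (Q.isPGroup'.of_surjective ((QuotientGroup.mk' _).comp (Q : Subgroup X).subtype) ?_)
    intro u
    obtain ⟨u, rfl⟩ := QuotientGroup.mk_surjective u
    obtain ⟨s, hs, t, ht, rfl⟩ := mem_sup_of_normal_right.1 (hSQ ▸ mem_top u : u ∈ _ ⊔ _)
    rw [hSx] at hs
    refine ⟨⟨t, ht⟩, ?_⟩
    rw [QuotientGroup.mk_mul, (QuotientGroup.eq_one_iff s).2 (zpowers_le.2 h1 hs), one_mul]
    rfl
  refine sp_of_aut hq hqr Q.isPGroup' σ ?_ hσ fun A hA hAσ a ha => ?_
  · ext a
    rw [← map_pow]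
    refine mul_inv_eq_iff_eq_mul.2 (key Q _ le_rfl (pow_mem (mem_zpowers x) q) (fun h => ?_) a a.2)
    obtain ⟨t, ht, _, ⟨i, rfl⟩, e⟩ := mem_sup_of_normal_left.1 (h ▸ mem_top x : x ∈ _ ⊔ _)
    have h2 : t ∈ (Q : Subgroup X) ⊓ zpowers x := mem_inf.2 ⟨ht, by
      rw [eq_mul_inv_of_mul_eq e]
      exact mul_mem (mem_zpowers x) (inv_mem (zpow_mem (pow_mem (mem_zpowers x) q) i))⟩
    rw [hdis, mem_bot] at h2
    rw [h2, one_mul] at e
    obtain ⟨k, hk⟩ := hxq.exists_card_eq
    rw [Nat.card_zpowers] at hk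
    have h3 : x ^ ((q : ℤ) * i - 1) = 1 := by
      rw [zpow_sub, zpow_mul, zpow_natCast, zpow_one, mul_inv_eq_one]; exact e
    have h4 := orderOf_dvd_iff_zpow_eq_one.2 h3
    rcases k with _ | k
    · apply hσ
      rw [pow_zero, orderOf_eq_one_iff] at hk
      simp only [σ, hk, map_one]
    · have h5 : (q : ℤ) ∣ q * i - 1 := Dvd.dvd.trans (by rw [hk]; exact ⟨q ^ k, by push_cast; ring⟩) h4
      have h6 : (q : ℤ) ∣ 1 := (dvd_sub_right (dvd_mul_right _ _)).1 h5
      exact hq.one_lt.ne' (by exact_mod_cast Int.eq_one_of_dvd_one (by omega) h6)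
  · refine Subtype.ext (mul_inv_eq_iff_eq_mul.2 (key (A.map (Q : Subgroup X).subtype) x
      (map_subtype_le A) (mem_zpowers x) (fun h => hA ?_) a ⟨a, ha, rfl⟩))
    have hn : zpowers x ≤ normalizer (A.map (Q : Subgroup X).subtype : Set X) := by
      rw [zpowers_le]
      apply mem_normalizer_fintype
      rintro _ ⟨b, hb, rfl⟩
      exact ⟨σ b, hAσ b hb, rfl⟩
    rw [eq_top_iff']
    intro b
    have h2 : (b : X) ∈ A.map (Q : Subgroup X).subtype ⊔ zpowers x := h ▸ mem_top _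
    rw [← SetLike.mem_coe, coe_mul_of_right_le_normalizer_left _ _ hn] at h2
    obtain ⟨_, ⟨c, hc, rfl⟩, y, hy, e⟩ := h2
    have h3 : y ∈ (Q : Subgroup X) ⊓ zpowers x := mem_inf.2 ⟨by
      rw [eq_inv_mul_of_mul_eq e]
      exact mul_mem (inv_mem c.2) b.2, hy⟩
    rw [hdis, mem_bot] at h3
    rw [h3] at e
    rwa [← show c = b from Subtype.ext (by simpa using e)]

variable {G : Type*} [Group G] [Finite G] {p : ℕ} [hp : Fact p.Prime]

/-- elements normalising `R` and acting trivially on its Frattini quotient -/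
def fk (R : Subgroup G) : Subgroup G where
  carrier := {g | g ∈ normalizer (R : Set G) ∧
    ∀ k ∈ R, g * k * g⁻¹ * k⁻¹ ∈ (frattini R).map R.subtype}
  one_mem' := ⟨one_mem _, fun k _ => by simp⟩
  mul_mem' := by
    rintro g h ⟨g1, g2⟩ ⟨h1, h2⟩
    refine ⟨mul_mem g1 h1, fun k hk => ?_⟩
    have := mul_mem (g2 _ ((mem_normalizer_iff.1 h1 k).1 hk)) (h2 k hk)
    simpa only [mul_assoc, mul_inv_rev, inv_mul_cancel_left, mul_inv_cancel_left, inv_inv] using this
  inv_mem' := by
    rintro g ⟨g1, g2⟩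
    refine ⟨inv_mem g1, fun k hk => ?_⟩
    have := inv_mem (g2 _ ((mem_normalizer_iff.1 (inv_mem g1) k).1 hk))
    simpa only [mul_assoc, mul_inv_rev, inv_mul_cancel_left, mul_inv_cancel_left, inv_inv,
      inv_mul_cancel, mul_inv_cancel, mul_one] using this

theorem fk_conj {R : Subgroup G} {g n : G} (hg : g ∈ fk R) (hn : n ∈ normalizer (R : Set G)) :
    n * g * n⁻¹ ∈ fk R := by
  refine ⟨mul_mem (mul_mem hn hg.1) (inv_mem hn), fun k hk => ?_⟩
  obtain ⟨f, hf, e⟩ := hg.2 _ ((mem_normalizer_iff.1 (inv_mem hn) k).1 hk)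
  refine ⟨_, (characteristic_iff_map_le.1 inferInstance) (R.normalizerMonoidHom ⟨n, hn⟩)
    ⟨f, hf, rfl⟩, ?_⟩
  change n * f * n⁻¹ = _
  rw [show (f : G) = _ from e]
  group

theorem fk_pgroup {R : Subgroup G} (hR : IsPGroup p R)
    (hC : IsPGroup p (centralizer (R : Set G))) : IsPGroup p (fk R) := by
  rw [IsPGroup.iff_card]
  refine ⟨_, Nat.eq_prime_pow_of_unique_prime_dvd Nat.card_pos.ne' fun {q} hq hd => ?_⟩
  by_contra hne
  have := Fact.mk hq
  obtain ⟨x, hx⟩ := exists_prime_orderOf_dvd_card' q hd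
  have hx' : orderOf (x : G) = q := by rw [orderOf_coe, hx]
  have h0 : zpowers (x : G) ≤ fk R := zpowers_le.2 x.2
  obtain ⟨k, hk⟩ := (hR.to_subgroup (frattini R)).exists_card_eq
  have h1 := S0029.result (zpowers (x : G)) R (fun a ha => (h0 ha).1)
    (by rw [Nat.card_zpowers, hx', hk]
        exact Nat.Coprime.pow_right k ((Nat.coprime_primes hq hp.out).2 hne))
    (fun a ha => (h0 ha).2) (mem_zpowers _)
  obtain ⟨j, hj⟩ := hC ⟨x, h1⟩
  have h2 : q ∣ p ^ j := hx' ▸ orderOf_dvd_of_pow_eq_one (congrArg Subtype.val hj)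
  exact hne ((Nat.prime_dvd_prime_iff_eq hq hp.out).1 (hq.dvd_of_dvd_pow h2))

theorem le_pCore (hG : IsPSolvable p G) (hc : centralizer (pCore p G : Set G) ≤ pCore p G)
    (Q : Sylow p G) (h : SP p (Q : Subgroup G)) : (Q : Subgroup G) ≤ pCore p G := by
  set V := pCore p G with hV
  have hVQ : V ≤ Q := H22.pCore_le_sylow Q
  have hVp : IsPGroup p V := H22.isPGroup_pCore
  have h1 : ∀ a ∈ (Q : Subgroup G), ∀ b ∈ (Q : Subgroup G), ∀ c ∈ (Q : Subgroup G),
      Commute ⁅a, b⁆ c := fun a ha b hb c hc =>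
    congrArg Subtype.val (h.1 ⟨a, ha⟩ ⟨b, hb⟩ ⟨c, hc⟩).eq
  by_cases h5 : 5 ≤ p
  · intro a ha
    obtain ⟨D, hD, -, ⟨k, hk⟩, haD⟩ := (S0625.result h5 hG).2.1 a (by
      have h2 : zpowers a ≤ Q := zpowers_le.2 ha
      have h3 : ⁅V, zpowers a⁆ ≤ centralizer (Q : Set G) := commutator_le.2 fun v hv b hb =>
        mem_centralizer_iff.2 fun c hc => (h1 v (hVQ hv) b (h2 hb) c hc).symm
      rw [commutator_eq_bot_iff_le_centralizer.2 (h3.trans (centralizer_le h2))]
      exact bot_le)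
    have hK : IsPGroup p (sectionKernel V ((frattini V).map V.subtype)) :=
      (fk_pgroup hVp (hVp.to_le hc)).to_le fun g hg => ⟨by rw [normalizer_eq_top]; trivial,
        fun k hk => by
          rw [← QuotientGroup.eq_one_iff, QuotientGroup.mk_mul, QuotientGroup.mk_mul,
            QuotientGroup.mk_mul, QuotientGroup.mk_inv, QuotientGroup.mk_inv, mul_inv_eq_one,
            mul_inv_eq_iff_eq_mul]
          exact (mem_centralizer_iff.1 hg _ ⟨k, hk, rfl⟩).symm⟩
    refine H22.le_pCore hD ?_ haD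
    obtain ⟨j, hj⟩ := (hK.comap_subtype (K := D)).exists_card_eq
    refine IsPGroup.of_card (n := j + k) ?_
    rw [← card_mul_index ((sectionKernel V ((frattini V).map V.subtype)).subgroupOf D), pow_add,
      ← hk, ← hj]
    rfl
  have h3 : p ≤ 3 := by
    have := hp.out.two_le
    have : p ≠ 4 := fun h => by have := hp.out; rw [h] at this; exact absurd this (by decide)
    omega
  let π := QuotientGroup.mk' V
  have hπ : Function.Surjective π := QuotientGroup.mk'_surjective V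
  have hker : π.ker = V := QuotientGroup.ker_mk' V
  by_contra hne
  have hA1 : (Q : Subgroup G).map π ≠ ⊥ := fun h => hne (by rwa [Subgroup.map_eq_bot_iff, hker] at h)
  have hA : IsElementaryAbelian p ((Q : Subgroup G).map π) := by
    refine ⟨⟨⟨?_⟩⟩, ?_⟩
    · rintro ⟨_, a, ha, rfl⟩ ⟨_, b, hb, rfl⟩
      apply Subtype.ext
      change π a * π b = π b * π a
      rw [← commutatorElement_eq_one_iff_mul_comm, ← map_commutatorElement, ← MonoidHom.mem_ker, hker]
      exact hc (mem_centralizer_iff.2 fun c hc => (h1 a ha b hb c (hVQ hc)).symm)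
    · rintro _ ⟨a, ha, rfl⟩
      rw [← map_pow, ← MonoidHom.mem_ker, hker]
      exact hc (mem_centralizer_iff.2 fun c hc =>
        (congrArg Subtype.val (h.2.1 ⟨a, ha⟩ ⟨c, hVQ hc⟩).eq).symm)
  have hAp : IsPGroup p ((Q : Subgroup G).map π) := Q.isPGroup'.map π
  have hK := H22.coprime_card_pPrimeCore (p := p) (G := G ⧸ V)
  have hdis := H22.inf_eq_bot_of_pgroup_coprime hAp hK
  have h4 := H46.le_of_forall_hyperplane (X := pPrimeCore p (G ⧸ V))
    (Y := centralizer ((Q : Subgroup G).map π : Set (G ⧸ V))) hA hA1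
    ((Nat.Prime.coprime_iff_not_dvd hp.out).1 hK.symm) le_normalizer_of_normal ?_
  · have h5 := (le_centralizer_iff.1 h4).trans (H22.IsPSolvable.centralizer_pPrimeCore_le
      (H22.IsPSolvable.quotient hG V) H22.pCore_quotient_pCore)
    exact hA1 (by rw [← hdis, left_eq_inf]; exact h5)
  intro B hB hBi x hx
  obtain ⟨hx1, hx2⟩ := mem_inf.1 hx
  obtain ⟨x, rfl⟩ := hπ x
  set R := B.comap π with hR
  have hVR : V ≤ R := hker ▸ ker_le_comap π B
  have hRQ : R ≤ Q := (comap_mono hB).trans (by rw [comap_map_eq, hker, sup_eq_left.2 hVQ])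
  have hRi : R.relIndex Q = p := by rw [hR, relIndex_comap, hBi]
  have hQf : (Q : Subgroup G) ≤ fk R := by
    have key : ∀ g ∈ (Q : Subgroup G), ∀ k ∈ R, g * k * g⁻¹ * k⁻¹ ∈ (frattini R).map R.subtype := by
      intro g hg k hk
      have hRp := Q.isPGroup'.to_le hRQ
      have hn : (R.subgroupOf Q).Normal := H1.normal_of_isCoatom_of_pgroup Q.isPGroup'
        (coatom_of_prime (H := R.subgroupOf Q) (by rw [show (R.subgroupOf Q).index = p from hRi]; exact hp.out))
      have hm : g * k * g⁻¹ * k⁻¹ ∈ R :=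
        mul_mem (hn.conj_mem ⟨k, hRQ hk⟩ hk ⟨g, hg⟩) (inv_mem hk)
      refine ⟨⟨_, hm⟩, H1.mem_frattini_iff.2 fun M hM => ?_, rfl⟩
      have := h.2.2 h3 ((M.map R.subtype).subgroupOf Q) (R.subgroupOf Q)
        (comap_mono (map_subtype_le M)) hRi (by
          rw [relIndex_subgroupOf hRQ, ← H1.index_eq_of_isCoatom_of_pgroup hRp hM, relIndex,
            ← comap_subtype, comap_map_eq_self_of_injective R.subtype_injective])
        ⟨g, hg⟩ ⟨k, hRQ hk⟩
      obtain ⟨m, hm, e⟩ := this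
      exact (show m = ⟨g * k * g⁻¹ * k⁻¹, _⟩ from Subtype.ext e) ▸ hm
    refine fun g hg => ⟨mem_normalizer_fintype fun k hk => ?_, key g hg⟩
    have := mul_mem (map_subtype_le _ (key g hg k hk)) hk
    rwa [inv_mul_cancel_right] at this
  have hQe : fk R = Q := Q.is_maximal' (fk_pgroup (Q.isPGroup'.to_le hRQ)
    (hVp.to_le ((centralizer_le hVR).trans hc))) hQf
  have hxR : x ∈ normalizer (R : Set G) := mem_normalizer_fintype fun r hr => by
    change π (x * r * x⁻¹) ∈ B
    rw [map_mul, map_mul, map_inv, ← mem_centralizer_iff.1 hx2 (π r) hr, mul_inv_cancel_right]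
    exact hr
  refine mem_centralizer_iff.2 ?_
  rintro _ ⟨a, ha, rfl⟩
  have h6 : π x * π a * (π x)⁻¹ * (π a)⁻¹ ∈ (Q : Subgroup G).map π ⊓ pPrimeCore p (G ⧸ V) := by
    refine mem_inf.2 ⟨?_, ?_⟩
    · refine ⟨x * a * x⁻¹ * a⁻¹, mul_mem ?_ (inv_mem ha), by simp⟩
      rw [← hQe]
      exact fk_conj (hQf ha) hxR
    · have := mul_mem hx1 ((inferInstance : (pPrimeCore p (G ⧸ V)).Normal).conj_mem _
        (inv_mem hx1) (π a))
      simpa only [mul_assoc] using this
  rw [hdis, mem_bot, mul_inv_eq_one, mul_inv_eq_iff_eq_mul] at h6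
  exact h6.symm


/-- Let X be a finite minimal non-nilpotent group (not nilpotent, every proper subgroup nilpotent) with a nontrivial normal Sylow p-subgroup P. If G is a finite p-solvable group whose Sylow p-subgroups are isomorphic to P, then G has p-length at most 1. -/
theorem result {G X : Type*} [Group G] [Finite G] [Group X] [Finite X] (p : ℕ) [Fact p.Prime]
    (hX : Cfsg.IsMinimalNonNilpotent X) (P : Sylow p X) (hPn : (P : Subgroup X).Normal) (hP1 : (P : Subgroup X) ≠ ⊥)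
    (hG : Cfsg.IsPSolvable p G) (Q : Sylow p G) (hQ : Nonempty (↥(Q : Subgroup G) ≃* ↥(P : Subgroup X))) : Cfsg.PLengthLE p 1 G := by

  obtain ⟨e⟩ := hQ
  have h1 := (sp_of_min p hX P hPn).of_equiv e
  let π := QuotientGroup.mk' (pPrimeCore p G)
  have hπ : Function.Surjective π := QuotientGroup.mk'_surjective _
  have hinj : Function.Injective (π.subgroupMap Q) := by
    rw [injective_iff_map_eq_one]
    intro a ha
    have h2 : (a : G) ∈ (Q : Subgroup G) ⊓ π.ker := ⟨a.2, congrArg Subtype.val ha⟩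
    rw [H22.inf_eq_bot_of_pgroup_coprime Q.isPGroup' H22.coprime_ker_mk'] at h2
    exact Subtype.ext h2
  have h2 := le_pCore (H22.IsPSolvable.quotient hG _) (H22.IsPSolvable.isCharP_quotient hG)
    (Q.mapSurjective hπ)
    (h1.of_equiv (MulEquiv.ofBijective _ ⟨hinj, π.subgroupMap_surjective Q⟩).symm)
  refine H22.pLengthLE_of_sylow_le Q 1 ?_
  rw [mul_one, H22.upperPSeries_two]
  exact map_le_iff_le_comap.1 h2

end Cfsg.Agent.S4394
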