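import Cfsg.Statements.S4395
import Cfsg.Agent.H8.SchA
import Cfsg.Agent.H3.Frobenius
import Cfsg.Agent.H1.Frattini

set_option autoImplicit false
universe u
open Cfsg

namespace Cfsg.Agent.S4395

open Subgroup H8.Sch
open scoped commutatorElement

section
variable {p q a : ℕ} {T : Type*} [Group T] [Finite T] {σ : MulAut T}

/-- restriction to an invariant subgroup -/
noncomputable def res (σ : MulAut T) (D : Subgroup T) (h : ∀ t ∈ D, σ t ∈ D) : MulAut D :=
  MulEquiv.ofBijective ((σ.toMonoidHom.comp D.subtype).codRestrict D fun t => h t t.2)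
    (Finite.injective_iff_bijective.1 fun _ _ e => Subtype.ext (σ.injective (congrArg Subtype.val e)))

theorem res_pow (D : Subgroup T) (h : ∀ t ∈ D, σ t ∈ D) (n : ℕ) (t : D) :
    ((res σ D h ^ n) t : T) = (σ ^ n) t := by
  induction n with
  | zero => rfl
  | succ n ih => rw [pow_succ', pow_succ', MulAut.mul_apply, MulAut.mul_apply, ← ih]; rfl

theorem exists_crit (hT : IsPGroup p T) (hσ : σ ^ q = 1) {F : Subgroup T} (hF : ∀ t ∈ F, σ t ∈ F)
    (h1 : ∃ t ∈ F, σ t ≠ t) : ∃ D ≤ F, ∃ h : ∀ t ∈ D, σ t ∈ D, Crit p q (res σ D h) := by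
  obtain ⟨D, hD, ⟨h2, t, h3, h4⟩, h5⟩ := exists_minimal_le_of_wellFoundedLT
    (fun D : Subgroup T => (∀ t ∈ D, σ t ∈ D) ∧ ∃ t ∈ D, σ t ≠ t) F ⟨hF, h1⟩
  refine ⟨D, hD, h2, hT.to_subgroup D, MulEquiv.ext fun t => Subtype.ext ?_,
    fun e => h4 (congrArg Subtype.val (DFunLike.congr_fun e (⟨t, h3⟩ : D)) :), fun A hA h6 s hs => ?_⟩
  · rw [res_pow, hσ]; rfl
  by_contra h7
  refine hA (eq_top_iff.2 fun u _ => ?_)
  obtain ⟨v, hv, h8⟩ := h5 (y := A.map D.subtype) ⟨by rintro _ ⟨v, hv, rfl⟩; exact ⟨_, h6 v hv, rfl⟩,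
    s, ⟨s, hs, rfl⟩, fun e => h7 (Subtype.ext e)⟩ (map_subtype_le A) u.2
  exact (Subtype.ext h8 : v = u) ▸ hv

variable [hp : Fact p.Prime] [hq : Fact q.Prime] {K : Type*} [Field K] [Finite K] {ζ : K} {l : T → K}

theorem univ {T₀ : Type*} [Group T₀] [Finite T₀] {σ₀ : MulAut T₀} {l₀ : T₀ → K} (hpq : p ≠ q)
    (hK : Nat.card K = p ^ a) (ha : a = orderOf (p : ZMod q)) (hζ : IsPrimitiveRoot ζ q)
    (h₀ : Crit p q σ₀) (c₀ : Ch σ₀ ζ l₀) (e : Nat.card T₀ = p ^ (if a % 2 = 1 then a else 3 * a / 2))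
    (h : Crit p q σ) (c : Ch σ ζ l) :
    ∃ ψ : T₀ →* T, Function.Surjective ψ ∧ (∀ t, ψ (σ₀ t) = σ (ψ t)) ∧ ∀ t, ψ t = 1 → l₀ t = 0 := by
  have h1 := hζ.ne_one hq.out.one_lt
  let τ : MulAut (T₀ × T) := σ₀.prodCongr σ
  have hτ : ∀ (n : ℕ) (x : T₀ × T), (τ ^ n) x = ((σ₀ ^ n) x.1, (σ ^ n) x.2) := fun n x => by
    induction n with
    | zero => rfl
    | succ n ih => rw [pow_succ', pow_succ', pow_succ', MulAut.mul_apply, ih]; rfl
  obtain ⟨D, hD, h2, h3⟩ := exists_crit (p := p) (q := q) (σ := τ) (fun x => by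
      obtain ⟨k, hk⟩ := h₀.pg x.1
      obtain ⟨m, hm⟩ := h.pg x.2
      exact ⟨k + m, Prod.ext (by rw [pow_add, pow_mul, Prod.pow_fst, Prod.pow_fst, hk, one_pow]; rfl)
        (by rw [pow_add, mul_comm, pow_mul, Prod.pow_snd, Prod.pow_snd, hm, one_pow]; rfl)⟩)
    (MulEquiv.ext fun x => by rw [hτ, h₀.pow, h.pow]; rfl)
    (F := (c₀.hom.comp (MonoidHom.fst _ _)).eqLocus (c.hom.comp (MonoidHom.snd _ _)))
    (fun x hx => congrArg Multiplicative.ofAdd (show l₀ (σ₀ x.1) = l (σ x.2) by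
      rw [c₀.eqv, c.eqv, show l₀ x.1 = l x.2 from hx])) (by
      obtain ⟨s, hs⟩ := c₀.surj hK ha hζ 1
      obtain ⟨t, ht⟩ := c.surj hK ha hζ 1
      exact ⟨(s, t), congrArg Multiplicative.ofAdd (hs.trans ht.symm), fun e =>
        one_ne_zero (hs.symm.trans (c₀.zero h1 (congrArg Prod.fst e)))⟩)
  have hF : ∀ x : D, l₀ x.1.1 = l x.1.2 := fun x => hD x.2
  obtain ⟨x, hx⟩ : ∃ x : D, l₀ x.1.1 ≠ 0 := by
    by_contra! h4
    exact h3.ne (MulEquiv.ext fun x => Subtype.ext (Prod.ext (h₀.fix c₀ (h4 x)) (h.fix c (hF x ▸ h4 x))))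
  have c' : Ch (res τ D h2) ζ fun x => l₀ x.1.1 := ⟨fun _ _ => c₀.mul _ _, fun _ => c₀.eqv _, x, hx⟩
  let f₁ := (MonoidHom.fst T₀ T).comp D.subtype
  let f₂ := (MonoidHom.snd T₀ T).comp D.subtype
  have s1 : Function.Surjective f₁ := MonoidHom.range_eq_top.1 (by
    by_contra h4
    exact hx (c₀.zero h1 (h₀.min _ h4 (by rintro _ ⟨y, rfl⟩; exact ⟨res τ D h2 y, rfl⟩) _ ⟨x, rfl⟩)))
  have s2 : Function.Surjective f₂ := MonoidHom.range_eq_top.1 (by
    by_contra h4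
    exact hx (hF x ▸ c.zero h1 (h.min _ h4 (by rintro _ ⟨y, rfl⟩; exact ⟨res τ D h2 y, rfl⟩) _ ⟨x, rfl⟩)))
  let e₁ := MulEquiv.ofBijective f₁ (s1.bijective_of_nat_card_le (e ▸ (h3.card_le hpq hK ha hζ c').1))
  refine ⟨f₂.comp e₁.symm.toMonoidHom, s2.comp e₁.symm.surjective, fun t => ?_, fun t ht => ?_⟩
  · obtain ⟨y, rfl⟩ := e₁.surjective t
    rw [show σ₀ (e₁ y) = e₁ (res τ D h2 y) from rfl]
    simp only [MonoidHom.comp_apply, MulEquiv.coe_toMonoidHom, MulEquiv.symm_apply_apply]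
    rfl
  · obtain ⟨y, rfl⟩ := e₁.surjective t
    simp only [MonoidHom.comp_apply, MulEquiv.coe_toMonoidHom, MulEquiv.symm_apply_apply] at ht
    rw [show l₀ (e₁ y) = l (f₂ y) from hF y, ht, c.one]

end

/-- a Heisenberg type group -/
@[ext] structure Hs {K : Type u} [Field K] (θ : K →+ K) where
  u : K
  w : K

section
variable {K : Type u} [Field K] {θ : K →+ K}

instance : Mul (Hs θ) := ⟨fun x y => ⟨x.u + y.u, x.w + y.w + x.u * θ y.u⟩⟩
instance : One (Hs θ) := ⟨⟨0, 0⟩⟩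
instance : Inv (Hs θ) := ⟨fun x => ⟨-x.u, -x.w + x.u * θ x.u⟩⟩
@[simp] theorem mul_u (x y : Hs θ) : (x * y).u = x.u + y.u := rfl
@[simp] theorem mul_w (x y : Hs θ) : (x * y).w = x.w + y.w + x.u * θ y.u := rfl
@[simp] theorem one_u : (1 : Hs θ).u = 0 := rfl
@[simp] theorem one_w : (1 : Hs θ).w = 0 := rfl
@[simp] theorem inv_u (x : Hs θ) : x⁻¹.u = -x.u := rfl
@[simp] theorem inv_w (x : Hs θ) : x⁻¹.w = -x.w + x.u * θ x.u := rfl

instance : Group (Hs θ) := Group.ofLeftAxioms (fun x y z => by ext <;> simp <;> ring)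
  (fun x => by ext <;> simp) fun x => by ext <;> simp

/-- the underlying set -/
def Hs.equiv : Hs θ ≃ K × K := ⟨fun x => (x.u, x.w), fun x => ⟨x.1, x.2⟩, fun _ => rfl, fun _ => rfl⟩

instance [Finite K] : Finite (Hs θ) := Finite.of_equiv _ Hs.equiv.symm

variable {p q a : ℕ} [hp : Fact p.Prime] [hq : Fact q.Prime] [Finite K] {ζ : K}

theorem exists_hs (hK : Nat.card K = p ^ a) (ha : a = orderOf (p : ZMod q)) (hζ : IsPrimitiveRoot ζ q)
    (hθ : ∀ u, ζ * θ (ζ * u) = θ u) : ∃ (D : Type u) (_ : Group D) (_ : Finite D) (σ : MulAut D) (l : D → K),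
      Crit p q σ ∧ Ch σ ζ l ∧ Nat.card (AddMonoidHom.mulRight (θ 1) - θ).range * p ^ a ≤ Nat.card D := by
  have h0 := hζ.ne_zero (NeZero.ne q)
  let τ : MulAut (Hs θ) :=
    { toFun := fun x => ⟨ζ * x.u, x.w⟩
      invFun := fun x => ⟨ζ⁻¹ * x.u, x.w⟩
      left_inv := fun x => by ext <;> simp [h0]
      right_inv := fun x => by ext <;> simp [h0]
      map_mul' := fun x y => by
        ext
        · simp [mul_add]
        · simp only [mul_w]
          rw [← hθ y.u]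
          ring }
  have hτ : ∀ (n : ℕ) (x : Hs θ), (τ ^ n) x = ⟨ζ ^ n * x.u, x.w⟩ := fun n x => by
    induction n with
    | zero => simp
    | succ n ih => rw [pow_succ', pow_succ', MulAut.mul_apply, ih, mul_assoc]; rfl
  obtain ⟨D, -, h2, h3⟩ := exists_crit (p := p) (q := q) (σ := τ)
    (IsPGroup.of_card (n := a + a) (by rw [Nat.card_congr Hs.equiv, Nat.card_prod, hK, pow_add]))
    (MulEquiv.ext fun x => by rw [hτ, hζ.pow_eq_one, one_mul]; rfl) (F := ⊤) (fun _ _ => trivial)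
    ⟨⟨1, 0⟩, trivial, fun e => hζ.ne_one hq.out.one_lt (by simpa [τ] using congrArg Hs.u e)⟩
  have c : Ch (res τ D h2) ζ fun x => x.1.u := ⟨fun _ _ => rfl, fun _ => rfl, by
    by_contra! h4
    exact h3.ne (MulEquiv.ext fun x => Subtype.ext (Hs.ext (show ζ * x.1.u = x.1.u by
      rw [h4 x, mul_zero]) rfl))⟩
  refine ⟨D, inferInstance, inferInstance, _, _, h3, c, ?_⟩
  choose g hg using c.surj hK ha hζ
  rw [← c.hom.ker.card_mul_index, index_ker,
    MonoidHom.range_eq_top.2 fun k => ⟨g k.toAdd, congrArg Multiplicative.ofAdd (hg _)⟩, card_top, ← hK]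
  refine Nat.mul_le_mul_right _ ?_
  have h4 : ∀ k : (AddMonoidHom.mulRight (θ 1) - θ).range, ∃ x : c.hom.ker, x.1.1.w = k := by
    rintro ⟨_, k, rfl⟩
    refine ⟨⟨⁅g k, g 1⁆, c.comm _ _⟩, ?_⟩
    have e1 : (g k).1.u = k := hg k
    have e2 : (g 1).1.u = 1 := hg 1
    simp [commutatorElement_def, e1, e2]
    ring
  choose f hf using h4
  exact Nat.card_le_card_of_injective f fun k m e => Subtype.ext (by rw [← hf, ← hf, e])

theorem exists_max (hpq : p ≠ q) (hK : Nat.card K = p ^ a) (ha : a = orderOf (p : ZMod q))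
    (hζ : IsPrimitiveRoot ζ q) : ∃ (D : Type u) (_ : Group D) (_ : Finite D) (σ : MulAut D) (l : D → K),
      Crit p q σ ∧ Ch σ ζ l ∧ Nat.card D = p ^ (if a % 2 = 1 then a else 3 * a / 2) := by
  suffices h : ∃ θ : K →+ K, (∀ u, ζ * θ (ζ * u) = θ u) ∧ p ^ (if a % 2 = 1 then a else 3 * a / 2) ≤
      Nat.card (AddMonoidHom.mulRight (θ 1) - θ).range * p ^ a by
    obtain ⟨θ, h1, h2⟩ := h
    obtain ⟨D, _, _, σ, l, h3, c, h4⟩ := exists_hs hK ha hζ h1
    exact ⟨D, _, ‹_›, σ, l, h3, c, le_antisymm (h3.card_le hpq hK ha hζ c).1 (h2.trans h4)⟩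
  split_ifs with h
  · exact ⟨0, by simp, Nat.le_mul_of_pos_left _ Nat.card_pos⟩
  have := Fintype.ofFinite K
  have hc : CharP K p := (CharP.charP_iff_prime_eq_zero hp.out).2 (pow_eq_zero_iff'.1 (show (p : K) ^ a = 0 by
    rw [← Nat.cast_pow, ← hK, Nat.card_eq_fintype_card, FiniteField.cast_card_eq_zero])).1
  obtain ⟨b, hb⟩ : ∃ b, a = b + b := ⟨a / 2, by omega⟩
  have h0 : b ≠ 0 := fun e => by
    have := Finite.one_lt_card (α := K)
    rw [hK, hb, e] at this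
    simp at this
  have h1 : ζ ^ (p ^ b + 1) = 1 := by
    rw [hζ.pow_eq_one_iff_dvd, ← ZMod.natCast_eq_zero_iff]
    have h2 : (p : ZMod q) ^ b * p ^ b = 1 := by rw [← pow_add, ← hb, ha, pow_orderOf_eq_one]
    rcases mul_self_eq_one_iff.1 h2 with e | e
    · have := Nat.le_of_dvd (by omega) (orderOf_dvd_of_pow_eq_one e)
      omega
    · simp [e]
  refine ⟨(iterateFrobenius K p b).toAddMonoidHom, fun u => ?_, ?_⟩
  · change ζ * (ζ * u) ^ p ^ b = u ^ p ^ b
    rw [mul_pow, ← mul_assoc, ← pow_succ', h1, one_mul]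
  generalize hf : AddMonoidHom.mulRight _ - (iterateFrobenius K p b).toAddMonoidHom = f
  have h2 : Nat.card f.ker ≤ p ^ b := by
    classical
    have h3 := FiniteField.X_pow_card_pow_sub_X_ne_zero K h0 hp.out.one_lt
    rw [← FiniteField.X_pow_card_pow_sub_X_natDegree_eq K h0 hp.out.one_lt]
    refine le_trans ?_ ((Multiset.toFinset_card_le _).trans (Polynomial.card_roots' _))
    rw [← Nat.card_eq_finsetCard]
    refine Nat.card_le_card_of_injective (fun k => ⟨k.1, ?_⟩) fun k m e => Subtype.ext (Subtype.mk.inj e)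
    have h4 := (DFunLike.congr_fun hf k.1).trans k.2
    simp only [Multiset.mem_toFinset, Polynomial.mem_roots h3, Polynomial.IsRoot.def, Polynomial.eval_sub,
      Polynomial.eval_pow, Polynomial.eval_X]
    simpa [iterateFrobenius_def, sub_eq_zero, eq_comm] using h4
  have h3 := f.ker.card_mul_index
  rw [AddSubgroup.index_ker, hK] at h3
  rw [show 3 * a / 2 = b + a by omega, pow_add]
  refine Nat.mul_le_mul_right _ (Nat.le_of_mul_le_mul_left ?_ (pow_pos hp.out.pos b))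
  rw [← pow_add, ← hb, ← h3]
  exact Nat.mul_le_mul_right _ h2

end

theorem exists_zc {G : Type*} [Group G] {n : ℕ} [NeZero n] {y : G} (hy : y ^ n = 1) :
    ∃ f : Multiplicative (ZMod n) →* G, ∀ k : ℕ, f (.ofAdd k) = y ^ k :=
  ⟨MonoidHom.mk' (fun x => y ^ x.toAdd.val) fun x z => by
    rw [toAdd_mul, ZMod.val_add, ← pow_eq_pow_mod _ hy, pow_add], fun k => by
    rw [MonoidHom.mk'_apply, toAdd_ofAdd, ZMod.val_natCast, ← pow_eq_pow_mod _ hy]⟩

theorem eq_one_of_cop {G : Type*} [Group G] {x : G} {m n : ℕ} (h : m.Coprime n) (h1 : x ^ m = 1)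
    (h2 : x ^ n = 1) : x = 1 :=
  orderOf_eq_one_iff.1 (Nat.eq_one_of_dvd_coprimes h (orderOf_dvd_of_pow_eq_one h1) (orderOf_dvd_of_pow_eq_one h2))

section
open SemidirectProduct
variable {p q a r : ℕ} [hp : Fact p.Prime] [hq : Fact q.Prime] {T : Type*} [Group T] [Finite T] {σ : MulAut T}
  {K : Type*} [Field K] [Finite K] {ζ : K} {l : T → K} {φ : Multiplicative (ZMod (q ^ r)) →* MulAut T}

theorem sd_top (hpq : p ≠ q) (hK : Nat.card K = p ^ a) (ha : a = orderOf (p : ZMod q))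
    (hζ : IsPrimitiveRoot ζ q) (h : Crit p q σ) (c : Ch σ ζ l) (hφ : ∀ k : ℕ, φ (.ofAdd k) = σ ^ k)
    {Q : Subgroup (T ⋊[φ] Multiplicative (ZMod (q ^ r)))} (hQ : IsPGroup p Q)
    {g : T ⋊[φ] Multiplicative (ZMod (q ^ r))} (hg : g ∈ normalizer (Q : Set _))
    (h1 : (orderOf g).Coprime p) (h2 : g ∉ centralizer (Q : Set _)) : Q ⊔ zpowers g = ⊤ := by
  have h3 : ∀ x ∈ Q, ∃ u, inl u = x := fun x hx => by
    obtain ⟨k, hk⟩ := hQ ⟨x, hx⟩
    refine (range_inl_eq_ker_rightHom (φ := φ)).ge (eq_one_of_cop (m := p ^ k) (n := q ^ r)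
      (Nat.Coprime.pow _ _ ((Nat.coprime_primes hp.out hq.out).2 hpq)) ?_ ?_)
    · rw [← map_pow, show x ^ p ^ k = 1 from congrArg Subtype.val hk, map_one]
    · simpa using pow_card_eq_one' (x := rightHom x)
  obtain ⟨t, k, rfl⟩ : ∃ (t : T) (k : ℕ), g = inl t * inr (.ofAdd k) :=
    ⟨g.left, g.right.toAdd.val, by simp⟩
  have h4 : ∀ u, (inl t * inr (.ofAdd k) : T ⋊[φ] Multiplicative (ZMod (q ^ r))) * inl u *
      (inl t * inr (.ofAdd k))⁻¹ = inl (t * (σ ^ k) u * t⁻¹) := fun u => by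
    rw [← hφ, map_mul, map_mul, inl_aut, map_inv, map_inv]; group
  have h5 : ¬ ∀ u, inl u ∈ Q → t * (σ ^ k) u * t⁻¹ = u := fun e => h2 fun x hx => by
    obtain ⟨u, rfl⟩ := h3 x hx
    have := h4 u
    rw [e u hx] at this
    exact (mul_inv_eq_iff_eq_mul.1 this).symm
  have h6 : k.Coprime q := by
    by_contra h6
    obtain ⟨m, hm⟩ := (hq.out.dvd_iff_not_coprime).2 fun e => h6 e.symm
    have h7 : σ ^ k = 1 := by rw [hm, pow_mul, h.pow, one_pow]
    have h8 : Commute (inl t : T ⋊[φ] Multiplicative (ZMod (q ^ r))) (inr (.ofAdd k)) := by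
      have := inl_aut (φ := φ) (.ofAdd k) t
      rw [hφ, h7, MulAut.one_apply, map_inv] at this
      exact eq_mul_inv_iff_mul_eq.1 this
    have h9 := congrArg SemidirectProduct.left (pow_orderOf_eq_one (inl t * inr (.ofAdd k) :
      T ⋊[φ] Multiplicative (ZMod (q ^ r))))
    rw [h8.mul_pow, ← map_pow, ← map_pow, mul_left, left_inl, left_inr, map_one, mul_one] at h9
    obtain ⟨j, hj⟩ := h.pg t
    exact h5 fun u _ => by
      rw [eq_one_of_cop (h1.pow_right j) h9 hj, h7]; simp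
  obtain ⟨u, hu, h7⟩ : ∃ u, inl u ∈ Q ∧ l u ≠ 0 := by
    by_contra! h7
    exact h5 fun u hu => by
      rw [pow_fix (h.fix c (h7 u hu)), ← (h.cen hpq c (h7 u hu) t).eq, mul_inv_cancel_right]
  have h8 := c.surj_on hK ha (hζ.pow_of_coprime k h6) (A := Q.comap inl) (fun s hs =>
    ⟨_, mem_comap.2 (h4 s ▸ (mem_normalizer_iff.1 hg _).1 hs), by
      rw [c.mul, c.mul, c.inv, c.pow]; ring⟩) hu h7
  have h9 : Q.comap inl = ⊤ := frattini_nongenerating (eq_top_iff.2 fun s _ => by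
    obtain ⟨v, hv, e⟩ := h8 (l s)
    rw [← mul_inv_cancel_left v s]
    exact mul_mem_sup hv (H1.commutator_le_frattini h.pg ((h.card_le hpq hK ha hζ c).2
      (c.mem_ker.2 (by rw [c.mul, c.inv, e]; ring)))))
  have h10 : ∀ s, inl s ∈ Q ⊔ zpowers (inl t * inr (.ofAdd k) : T ⋊[φ] Multiplicative (ZMod (q ^ r))) :=
    fun s => mem_sup_left (h9 ▸ mem_top s : s ∈ Q.comap inl)
  refine eq_top_iff.2 fun x _ => ?_
  rw [← inl_left_mul_inr_right x]
  refine mul_mem (h10 _) ?_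
  have h11 := pow_mem ((mul_mem_cancel_left (h10 t)).1 (mem_sup_right (mem_zpowers _)))
    (x.right.toAdd * (k : ZMod (q ^ r))⁻¹).val
  rwa [← map_pow, ← ofAdd_nsmul, nsmul_eq_mul, ZMod.natCast_zmod_val, mul_assoc,
    ZMod.inv_mul_of_unit _ ((ZMod.isUnit_iff_coprime _ _).2 (h6.pow_right r)), mul_one] at h11

end

theorem cen_of {p : ℕ} [Fact p.Prime] {X : Type*} [Group X] [Finite X]
    (h : ∀ K : Subgroup X, K ≠ ⊤ → HasNormalPComplement p K) {Q : Subgroup X} (hQ : IsPGroup p Q) {g : X}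
    (hg : g ∈ normalizer (Q : Set X)) (h1 : (orderOf g).Coprime p) (h2 : Q ⊔ zpowers g ≠ ⊤) :
    g ∈ centralizer (Q : Set X) := fun x hx =>
  congrArg Subtype.val (H3.mem_centralizer_of_hasNormalPComplement (h _ h2)
    (Q := Q.subgroupOf (Q ⊔ zpowers g)) hQ.comap_subtype (g := ⟨g, mem_sup_right (mem_zpowers g)⟩)
    (le_normalizer_comap _ hg) (by rwa [← Subgroup.orderOf_coe]) ⟨x, mem_sup_left hx⟩ hx)

theorem quot_card {X : Type*} [Group X] {Q : Subgroup X} [Q.Normal] {g : X} (h : Q ⊔ zpowers g = ⊤) :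
    orderOf (g : X ⧸ Q) = Nat.card (X ⧸ Q) := by
  rw [← card_top, ← map_top_of_surjective _ (QuotientGroup.mk'_surjective Q), ← h, Subgroup.map_sup,
    MonoidHom.map_zpowers, (map_eq_bot_iff Q).2 (QuotientGroup.ker_mk' Q).ge, bot_sup_eq, Nat.card_zpowers]
  rfl

theorem extract {p q r t : ℕ} [hp : Fact p.Prime] [hq : Fact q.Prime] (hpq : p ≠ q) (hr : 1 ≤ r) {X : Type*}
    [Group X] [Finite X] (h1 : ¬ HasNormalPComplement p X)
    (h2 : ∀ K : Subgroup X, K ≠ ⊤ → HasNormalPComplement p K) (h3 : Nat.card X = p ^ t * q ^ r) :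
    ∃ (P : Subgroup X) (_ : P.Normal) (y : X), P ⊔ zpowers y = ⊤ ∧ y ^ q ^ r = 1 ∧
      orderOf (y : X ⧸ P) = q ^ r ∧ Crit p q (MulAut.conjNormal y : MulAut P) := by
  rw [H3.hasNormalPComplement_iff_frobenius] at h1
  push Not at h1
  obtain ⟨P, hP, y, h4, h5, h6⟩ := h1
  have h7 : P ⊔ zpowers y = ⊤ := by_contra fun e => h6 (cen_of h2 hP h4 h5 e)
  have hn : ∀ A : Subgroup X, y ∈ normalizer (A : Set X) → A ⊔ zpowers y = ⊤ → A.Normal := fun A h8 h9 => by
    rw [← normalizer_eq_top_iff, eq_top_iff, ← h9]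
    exact sup_le le_normalizer (zpowers_le.2 h8)
  have := hn P h4 h7
  have hc := (Nat.coprime_primes hp.out hq.out).2 hpq
  have h8 : orderOf (y : X ⧸ P) = q ^ r := by
    obtain ⟨k, hk⟩ := hP.exists_card_eq
    have e1 := P.card_mul_index
    rw [hk, h3, index_eq_card, ← quot_card h7] at e1
    have e2 : (orderOf (y : X ⧸ P)).Coprime p := h5.coprime_dvd_left (orderOf_map_dvd (QuotientGroup.mk' P) y)
    exact Nat.dvd_antisymm ((e2.pow_right t).dvd_of_dvd_mul_left (e1 ▸ dvd_mul_left _ _))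
      ((hc.symm.pow r k).dvd_of_dvd_mul_left (e1 ▸ dvd_mul_left _ _))
  refine ⟨P, this, y, h7, ?_, h8, hP, ?_, fun e => h6 fun x hx => ?_, fun A hA h9 s hs => ?_⟩
  · obtain ⟨k, hk⟩ := hP ⟨y ^ q ^ r, (QuotientGroup.eq_one_iff _).1 (by
      rw [QuotientGroup.mk_pow, ← h8, pow_orderOf_eq_one])⟩
    exact eq_one_of_cop (h5.pow_right k) (by rw [← pow_mul, mul_comm, pow_mul, pow_orderOf_eq_one, one_pow])
      (congrArg Subtype.val hk)
  · have h9 := cen_of h2 hP (g := y ^ q) (pow_mem h4 q) (h5.coprime_dvd_left (orderOf_pow_dvd q)) fun e => by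
      have e1 := (quot_card e).trans ((quot_card h7).symm.trans h8)
      rw [QuotientGroup.mk_pow, orderOf_pow_of_dvd hq.out.ne_zero (h8 ▸ dvd_pow_self q (by omega)), h8] at e1
      exact (Nat.div_lt_self (pow_pos hq.out.pos r) hq.out.one_lt).ne e1
    ext x
    rw [← map_pow, MulAut.conjNormal_apply, ← h9 x x.2, mul_inv_cancel_right]
    rfl
  · have := congrArg Subtype.val (DFunLike.congr_fun e ⟨x, hx⟩)
    rw [MulAut.conjNormal_apply] at this
    exact (mul_inv_eq_iff_eq_mul.1 this).symm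
  · have h10 : y ∈ normalizer (A.map P.subtype : Set X) := mem_normalizer_fintype (by
      rintro _ ⟨u, hu, rfl⟩; exact ⟨_, h9 u hu, rfl⟩)
    have h11 := cen_of h2 ((hP.to_subgroup A).map _) h10 h5 fun e => hA (eq_top_iff.2 fun u _ => by
      have := hn _ h10 e
      obtain ⟨k, hk⟩ := hP u
      obtain ⟨v, hv, e1⟩ := (QuotientGroup.eq_one_iff (N := A.map P.subtype) (u : X)).1
        (eq_one_of_cop (m := Nat.card (X ⧸ A.map P.subtype)) (n := p ^ k) (quot_card e ▸ (h5.coprime_dvd_left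
          (orderOf_map_dvd (QuotientGroup.mk' _) y)).pow_right k) pow_card_eq_one' (by
            rw [← QuotientGroup.mk_pow, show (u : X) ^ p ^ k = 1 from congrArg Subtype.val hk]; rfl))
      exact (Subtype.ext e1 : v = u) ▸ hv)
    exact Subtype.ext (by rw [MulAut.conjNormal_apply, ← h11 s ⟨s, hs, rfl⟩, mul_inv_cancel_right])

/-- Let p ≠ q be primes, r ≥ 1, a the multiplicative order of p modulo q, and a₀ = a when a is odd, a₀ = 3a/2 when a is even. Call a finite group minimal non-p-nilpotent when it has no normal p-complement but every proper subgroup has one. Then there is a minimal non-p-nilpotent group G₀ of order p^a₀ · q^r such that every minimal non-p-nilpotent group of order p^t · q^r (any t) is a quotient of G₀ by a central subgroup. -/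
theorem result (p q r : ℕ) [Fact p.Prime] [Fact q.Prime] (hpq : p ≠ q) (hr : 1 ≤ r) (a a₀ : ℕ)
    (ha : a = orderOf (p : ZMod q)) (ha₀ : a₀ = if a % 2 = 1 then a else 3 * a / 2) :
    ∃ (G₀ : Type u) (_ : Group G₀) (_ : Finite G₀),
      (¬ Cfsg.HasNormalPComplement p G₀ ∧ ∀ K : Subgroup G₀, K ≠ ⊤ → Cfsg.HasNormalPComplement p ↥K) ∧ Nat.card G₀ = p ^ a₀ * q ^ r ∧
      ∀ (X : Type u) [Group X] [Finite X], (¬ Cfsg.HasNormalPComplement p X ∧ ∀ K : Subgroup X, K ≠ ⊤ → Cfsg.HasNormalPComplement p ↥K) →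
        (∃ t : ℕ, Nat.card X = p ^ t * q ^ r) → ∃ φ : G₀ →* X, Function.Surjective φ ∧ φ.ker ≤ Subgroup.center G₀ := by
  have hp : p.Prime := Fact.out
  have hq : q.Prime := Fact.out
  have h0 : a ≠ 0 := by
    refine ha ▸ (IsOfFinOrder.orderOf_pos (isOfFinOrder_iff_pow_eq_one.2 ⟨q - 1, by have := hq.two_le; omega,
      ZMod.pow_card_sub_one_eq_one fun e => hpq ?_⟩)).ne'
    exact ((Nat.prime_dvd_prime_iff_eq hq hp).1 ((ZMod.natCast_eq_zero_iff _ _).1 e)).symm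
  have hK : Nat.card (ULift.{u} (GaloisField p a)) = p ^ a := by rw [Nat.card_ulift, GaloisField.card p a h0]
  obtain ⟨x, hx⟩ := exists_prime_orderOf_dvd_card' (G := (ULift.{u} (GaloisField p a))ˣ) q (by
    rw [Nat.card_units, hK, ← ZMod.natCast_eq_zero_iff, Nat.cast_sub (Nat.one_le_pow _ _ hp.pos), Nat.cast_pow,
      ha, pow_orderOf_eq_one, Nat.cast_one, sub_self])
  have hζ : IsPrimitiveRoot (x : ULift.{u} (GaloisField p a)) q :=
    IsPrimitiveRoot.coe_units_iff.2 (hx ▸ IsPrimitiveRoot.orderOf x)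
  obtain ⟨T, _, _, σ, l, h, c, hT⟩ := exists_max hpq hK ha hζ
  obtain ⟨φ, hφ⟩ := exists_zc (n := q ^ r) (y := σ) (by
    rw [← Nat.sub_add_cancel hr, pow_succ', pow_mul, h.pow, one_pow])
  have hf : Finite (T ⋊[φ] Multiplicative (ZMod (q ^ r))) := Finite.of_equiv _ SemidirectProduct.equivProd.symm
  refine ⟨T ⋊[φ] Multiplicative (ZMod (q ^ r)), inferInstance, hf, ⟨fun h1 => h.ne (MulEquiv.ext fun t => ?_),
    fun M hM => H3.hasNormalPComplement_iff_frobenius.2 fun Q hQ g hg h1 => ?_⟩, ?_, ?_⟩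
  · have h2 := H3.mem_centralizer_of_hasNormalPComplement h1 (Q := SemidirectProduct.inl.range)
      (h.pg.of_surjective _ (MonoidHom.rangeRestrict_surjective _))
      (g := SemidirectProduct.inr (.ofAdd ((1 : ℕ) : ZMod (q ^ r)))) (by
        rw [SemidirectProduct.range_inl_eq_ker_rightHom, Subgroup.normalizer_eq_top]; trivial)
      (((Nat.coprime_primes hq hp).2 hpq.symm).pow_left r |>.coprime_dvd_left
        ((orderOf_map_dvd _ _).trans (by simp)))
      _ ⟨t, rfl⟩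
    apply SemidirectProduct.inl_injective (φ := φ)
    rw [← pow_one σ, ← hφ, SemidirectProduct.inl_aut, ← h2, map_inv, mul_inv_cancel_right]
    rfl
  · by_contra h2
    have h3 := sd_top hpq hK ha hζ h c hφ (hQ.map M.subtype) (g := g) (Subgroup.le_normalizer_map _ ⟨g, hg, rfl⟩)
      (by rwa [Subgroup.orderOf_coe]) fun e => h2 fun y hy => Subtype.ext (e _ ⟨y, hy, rfl⟩)
    exact hM (eq_top_iff.2 (h3 ▸ sup_le (Subgroup.map_subtype_le Q) (Subgroup.zpowers_le.2 g.2)))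
  · rw [SemidirectProduct.card, hT, ha₀]
    simp
  rintro X _ _ ⟨h1, h2⟩ ⟨t, h3⟩
  obtain ⟨P, _, y, h4, h5, h6, h7⟩ := extract hpq hr h1 h2 h3
  obtain ⟨j, hj, l', c'⟩ := h7.exists_ch hpq hK hζ
  obtain ⟨ψ, e1, e2, e3⟩ := univ hpq hK ha hζ h c hT (h7.zpow hj) c'
  obtain ⟨f, hf⟩ := exists_zc (n := q ^ r) (y := y ^ j) (by rw [← pow_mul, mul_comm, pow_mul, h5, one_pow])
  have e4 : ∀ (k : ℕ) (s : T), ψ ((σ ^ k) s) = MulAut.conjNormal ((y ^ j) ^ k) (ψ s) := fun k s => by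
    induction k with
    | zero => simp
    | succ k ih => rw [pow_succ', pow_succ', MulAut.mul_apply, e2, ih, map_mul, map_pow _ y j, MulAut.mul_apply]
  have e0 : ∀ n, (P.subtype.comp ψ).comp (φ n).toMonoidHom =
      (MulAut.conj (f n)).toMonoidHom.comp (P.subtype.comp ψ) := fun n => MonoidHom.ext fun s => by
    rw [← ofAdd_toAdd n, ← ZMod.natCast_zmod_val n.toAdd, hφ, hf]
    exact congrArg Subtype.val (e4 _ s)
  refine ⟨SemidirectProduct.lift (P.subtype.comp ψ) f e0, MonoidHom.range_eq_top.1 (eq_top_iff.2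
    (h4.ge.trans (sup_le (fun z hz => ?_) (Subgroup.zpowers_le.2 ?_)))), fun g hg => ?_⟩
  · obtain ⟨s, hs⟩ := e1 ⟨z, hz⟩
    exact ⟨SemidirectProduct.inl s, by rw [SemidirectProduct.lift_inl]; exact congrArg Subtype.val hs⟩
  · obtain ⟨i, hi⟩ : ∃ i, (y ^ j) ^ i = y := exists_pow_eq_self_of_coprime
      ((hj.pow_right r).coprime_dvd_right (orderOf_dvd_of_pow_eq_one h5))
    exact ⟨SemidirectProduct.inr (.ofAdd i), by rw [SemidirectProduct.lift_inr, hf, hi]⟩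
  obtain ⟨s, k, rfl⟩ : ∃ (s : T) (k : ℕ), g = SemidirectProduct.inl s * SemidirectProduct.inr (.ofAdd k) :=
    ⟨g.left, g.right.toAdd.val, by simp⟩
  rw [MonoidHom.mem_ker, map_mul, SemidirectProduct.lift_inl, SemidirectProduct.lift_inr, hf] at hg
  have e5 : (k : ZMod (q ^ r)) = 0 := by
    rw [ZMod.natCast_eq_zero_iff]
    refine (hj.pow_right r).symm.dvd_of_dvd_mul_left (h6 ▸ orderOf_dvd_of_pow_eq_one ?_)
    rw [← QuotientGroup.mk_pow, QuotientGroup.eq_one_iff, pow_mul, eq_inv_of_mul_eq_one_right hg]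
    exact inv_mem (ψ s).2
  rw [← hf, e5, ofAdd_zero, map_one, mul_one] at hg
  have e6 := e3 s (Subtype.ext hg)
  rw [e5, ofAdd_zero, map_one, mul_one, Subgroup.mem_center_iff]
  intro g
  obtain ⟨s', k', rfl⟩ : ∃ (s : T) (k : ℕ), g = SemidirectProduct.inl s * SemidirectProduct.inr (.ofAdd k) :=
    ⟨g.left, g.right.toAdd.val, by simp⟩
  have e7 := SemidirectProduct.inl_aut (φ := φ) (.ofAdd k') s
  rw [hφ, H8.Sch.pow_fix (h.fix c e6), map_inv, eq_mul_inv_iff_mul_eq] at e7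
  rw [mul_assoc, ← e7, ← mul_assoc, ← mul_assoc, ← map_mul, ← map_mul, (h.cen hpq c e6 s').eq]

end Cfsg.Agent.S4395
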