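import Cfsg.Statements.S4398
import Cfsg.Agent.S4143
import Cfsg.Agent.S4399
import Cfsg.Agent.H85.SecRank

set_option autoImplicit false
open Cfsg

namespace Cfsg.Agent.S4398



/-- Let S be a finite 2-group of sectional 2-rank at most 2 that contains a subgroup isomorphic to the dihedral group of order 8 or to the quaternion group of order 8. Then S is dihedral of order at least 8, semidihedral of order at least 16 (order 2^(k+4) with an element a of order 2^(k+3) and an involution b with b a b⁻¹ = a^(2^(k+2)−1)), or generalized quaternion of order at least 8. -/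
theorem result {S : Type*} [Group S] [Finite S] (h2 : IsPGroup 2 S) (hr : Cfsg.SectionalPRankLE 2 2 S)
    (hsub : ∃ H : Subgroup S, Nonempty (↥H ≃* DihedralGroup 4) ∨ Nonempty (↥H ≃* QuaternionGroup 2)) :
    ((∃ k : ℕ, Nonempty (S ≃* DihedralGroup (2 ^ (k + 2)))) ∨
      (∃ k : ℕ, Nat.card S = 2 ^ (k + 4) ∧ ∃ a b : S, orderOf a = 2 ^ (k + 3) ∧ orderOf b = 2 ∧ b * a * b⁻¹ = a ^ (2 ^ (k + 2) - 1)) ∨
      (∃ k : ℕ, Nonempty (S ≃* QuaternionGroup (2 ^ (k + 1))))) := by
  obtain ⟨H, hH⟩ := hsub
  have h8 : Nat.card H = 2 ^ 3 ∧ ¬ IsMulCommutative H := by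
    rcases hH with ⟨⟨e⟩⟩ | ⟨⟨e⟩⟩
    · refine ⟨by rw [Nat.card_congr e.toEquiv, DihedralGroup.nat_card]; rfl, fun h => ?_⟩
      have := congrArg e (h.is_comm.comm (e.symm (.r 1)) (e.symm (.sr 0)))
      simp only [map_mul, MulEquiv.apply_symm_apply] at this
      revert this
      decide
    · refine ⟨by rw [Nat.card_congr e.toEquiv, Nat.card_eq_fintype_card, QuaternionGroup.card]; rfl,
        fun h => ?_⟩
      have := congrArg e (h.is_comm.comm (e.symm (.a 1)) (e.symm (.xa 0)))
      simp only [map_mul, MulEquiv.apply_symm_apply] at this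
      revert this
      decide
  obtain ⟨N, hN, hZ, hi⟩ := H85.exists_elemSec_of_not_comm (h2.to_subgroup H) h8.2
  have hC := hN.centralizer_le h2 hr hZ (by omega)
  obtain ⟨n, hn⟩ := IsPGroup.iff_card.mp h2
  have hle : 2 ^ 3 ≤ 2 ^ n := by
    rw [← hn, ← h8.1]
    exact Subgroup.card_le_card_group H
  have h3 : 3 ≤ n := (Nat.pow_le_pow_iff_right (by norm_num)).mp hle
  have hK := (S0115.result n h3 hn).mp (S4143.result n hn H h8.1 h8.2 hC)
  refine (S4399.result h2 hK.card_four fun x => ?_).resolve_left (by omega)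
  rw [← hK.exponent_two]
  exact Monoid.pow_exponent_eq_one (G := S ⧸ commutator S) x

end Cfsg.Agent.S4398
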