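import Cfsg.Statements.S4418
import Cfsg.Agent.H8.OddCore
import Cfsg.Agent.S0205
import Cfsg.Agent.S0949
import Cfsg.Agent.S5212
import Cfsg.Agent.S5076
import Cfsg.Agent.S0071

set_option autoImplicit false
open Cfsg

namespace Cfsg.Agent.S4418

open Subgroup

theorem solv_of_compl {G : Type*} [Group G] [Finite G] (S : Sylow 2 G) {N : Subgroup G}
    (hN : N.Normal) (h : N.IsComplement' (S : Subgroup G)) : Group.IsSolvable G := by
  have h1 : Group.IsSolvable N := S0205.result (by
    rw [← h.index_eq_card, ← Nat.not_even_iff_odd, even_iff_two_dvd]; exact S.not_dvd_index)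
  obtain ⟨k, hk⟩ := IsPGroup.iff_card.1 S.isPGroup'
  have h2 : IsPGroup 2 (G ⧸ N) := IsPGroup.of_card (by rw [← index, h.symm.index_eq_card, hk])
  have := h2.isNilpotent
  exact Group.isSolvable_of_ker_le_range N.subtype (QuotientGroup.mk' N) (by simp)

theorem card_le_two {C : Type*} [Group C] [Finite C] (hc : IsCyclic C) (h : ∀ x : C, x ^ 2 = 1) :
    Nat.card C ≤ 2 := by
  rw [← IsCyclic.exponent_eq_card]
  exact Nat.le_of_dvd two_pos (Monoid.exponent_dvd_of_forall_pow_eq_one h)

theorem rank_le {R : Type*} [Group R] [Finite R] (N : Subgroup R) [N.Normal] (hN : IsCyclic N)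
    (hQ : IsCyclic (R ⧸ N)) {V : Type*} [CommGroup V] [Finite V] (hV : ∀ v : V, v ^ 2 = 1)
    (f : R →* V) (hf : Function.Surjective f) : Nat.card V ≤ 4 := by
  have h1 : IsCyclic (N.map f) := isCyclic_of_surjective _ (f.subgroupMap_surjective N)
  have h2 : IsCyclic (V ⧸ N.map f) := by
    refine isCyclic_of_surjective (QuotientGroup.map N (N.map f) f (le_comap_map f N)) ?_
    intro v
    obtain ⟨v, rfl⟩ := QuotientGroup.mk_surjective v
    obtain ⟨r, rfl⟩ := hf v
    exact ⟨r, rfl⟩
  have h3 := card_le_two h1 fun x => Subtype.ext (hV x)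
  have h4 := card_le_two h2 fun x => by
    obtain ⟨v, rfl⟩ := QuotientGroup.mk_surjective x
    rw [← QuotientGroup.mk_pow, hV, QuotientGroup.mk_one]
  rw [card_eq_card_quotient_mul_card_subgroup (N.map f)]
  exact Nat.mul_le_mul h4 h3

theorem homocyclic {G : Type*} [Group G] [Finite G] (S : Sylow 2 G) {m : ℕ} (hm : 2 ≤ m)
    (e : (S : Subgroup G) ≃* Multiplicative (ZMod (2 ^ m) × ZMod (2 ^ m))) :
    Group.IsSolvable G := by
  have hO := H8.odd_card_pPrimeCore (G := G)
  let T := S.mapSurjective (QuotientGroup.mk'_surjective (pPrimeCore 2 G))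
  obtain ⟨h1, -, h3⟩ := S0949.result T m hm
    ((H8.sylowMapEquiv S _ hO.coprime_two_right).symm.trans e)
    (H8.core_eq_bot_iff.1 H22.pPrimeCore_quotient_pPrimeCore)
  have h4 : Group.IsSolvable (pPrimeCore 2 G) := S0205.result hO
  have h5 := T.isPGroup'.isNilpotent
  have h6 : Group.IsSolvable ((G ⧸ pPrimeCore 2 G) ⧸ (T : Subgroup (G ⧸ pPrimeCore 2 G))) :=
    S0205.result (by rw [← index]; rcases h3 with h3 | h3 <;> rw [h3] <;> decide)
  have h7 : Group.IsSolvable (G ⧸ pPrimeCore 2 G) :=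
    Group.isSolvable_of_ker_le_range (T : Subgroup (G ⧸ pPrimeCore 2 G)).subtype
      (QuotientGroup.mk' (T : Subgroup (G ⧸ pPrimeCore 2 G))) (by simp)
  exact Group.isSolvable_of_ker_le_range (pPrimeCore 2 G).subtype
    (QuotientGroup.mk' (pPrimeCore 2 G)) (by simp)

/-- Let G be a finite group whose Sylow 2-subgroup S is metacyclic via a cyclic normal subgroup N of S with S/N cyclic of order greater than 2. Then G is soluble. -/
theorem result {G : Type*} [Group G] [Finite G] (S : Sylow 2 G) (N : Subgroup ↥(S : Subgroup G)) [hN : N.Normal] (hNc : IsCyclic N) (hQc : IsCyclic (↥(S : Subgroup G) ⧸ N)) (hQ : 2 < Nat.card (↥(S : Subgroup G) ⧸ N)) : Group.IsSolvable G := by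
  by_cases hcyc : IsCyclic (S : Subgroup G)
  · rcases Nat.even_or_odd (Nat.card G) with he | ho
    · exact solv_of_compl S inferInstance
        (hcyc.isComplement' ((Nat.minFac_eq_two_iff _).2 he.two_dvd)).symm.symm
    · exact S0205.result ho
  have hcomm : ∀ a b : (S : Subgroup G) ⧸ N, a * b = b * a := fun a b =>
    (hQc.isMulCommutative).is_comm.comm a b
  have key : ∀ {D : Type} [Group D] (e : (S : Subgroup G) ≃* D),
      (∀ f : D →* (S : Subgroup G) ⧸ N, ∀ x, f x ^ 2 = 1) → False := by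
    intro D _ e h
    refine absurd (card_le_two hQc fun x => ?_) (by omega)
    obtain ⟨x, rfl⟩ := QuotientGroup.mk'_surjective N x
    simpa using h ((QuotientGroup.mk' N).comp e.symm.toMonoidHom) (e x)
  have inv : ∀ {D : Type _} [Group D] (f : D →* (S : Subgroup G) ⧸ N) (x y : D),
      y * x * y⁻¹ = x⁻¹ → f x ^ 2 = 1 := by
    intro D _ f x y h
    have h1 := congrArg f h
    rw [map_mul, map_mul, hcomm (f y), map_inv, map_inv, mul_inv_cancel_right] at h1
    rw [pow_two]; nth_rewrite 1 [h1]; exact inv_mul_cancel _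
  by_cases hh : ∃ n k : ℕ, Nonempty (↥(S : Subgroup G) ≃* Multiplicative (Fin k → ZMod (2 ^ n)))
  · obtain ⟨n, k, ⟨e⟩⟩ := hh
    have hn : 2 ≤ n := by
      by_contra hn
      refine key e fun f x => ?_
      rw [← map_pow, show x ^ 2 = 1 from ?_, map_one]
      apply Multiplicative.toAdd.injective
      funext i
      have h1 : ((2 : ℕ) : ZMod (2 ^ n)) = 0 := (ZMod.natCast_eq_zero_iff _ _).2 (by
        interval_cases n <;> simp)
      simp only [toAdd_pow, toAdd_one, Pi.smul_apply, Pi.zero_apply, nsmul_eq_mul, h1, zero_mul]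
    have hd : 2 ∣ 2 ^ n := dvd_pow_self 2 (by omega)
    let φ : (Fin k → ZMod (2 ^ n)) →+ (Fin k → ZMod 2) :=
      (ZMod.castHom hd (ZMod 2)).toAddMonoidHom.compLeft (Fin k)
    have hφ : Function.Surjective φ := fun v => by
      choose u hu using fun i => ZMod.castHom_surjective hd (v i)
      exact ⟨u, funext hu⟩
    have h4 := rank_le N hNc hQc (V := Multiplicative (Fin k → ZMod 2)) (fun v => by
      apply Multiplicative.toAdd.injective
      funext i
      simp only [toAdd_pow, toAdd_one, Pi.smul_apply, Pi.zero_apply, nsmul_eq_mul]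
      rw [ZMod.natCast_self, zero_mul])
      (φ.toMultiplicative.comp e.toMonoidHom) (hφ.comp e.surjective)
    have h5 : Nat.card (Multiplicative (Fin k → ZMod 2)) = 2 ^ k := by simp
    have hk : k ≤ 2 := by
      by_contra hk
      have := Nat.pow_le_pow_right two_pos (by omega : 3 ≤ k)
      omega
    interval_cases k
    · have : Subsingleton (S : Subgroup G) := e.toEquiv.subsingleton
      exact absurd isCyclic_of_subsingleton hcyc
    · exact absurd (isCyclic_of_surjective _ (e.trans (AddEquiv.toMultiplicative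
        (AddEquiv.funUnique (Fin 1) (ZMod (2 ^ n))))).symm.surjective) hcyc
    · exact homocyclic S hn (e.trans (AddEquiv.toMultiplicative
        (LinearEquiv.finTwoArrow ℤ (ZMod (2 ^ n))).toAddEquiv))
  by_cases hd : ∃ m : ℕ, Nonempty (↥(S : Subgroup G) ≃* DihedralGroup m)
  · obtain ⟨m, ⟨e⟩⟩ := hd
    refine (key e fun f x => ?_).elim
    cases x with
    | r i => exact inv f _ (DihedralGroup.sr 0) (by simp [DihedralGroup.inv_r])
    | sr i => rw [← map_pow, pow_two, DihedralGroup.sr_mul_self, map_one]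
  by_cases hq : ∃ m : ℕ, Nonempty (↥(S : Subgroup G) ≃* QuaternionGroup m)
  · obtain ⟨m, ⟨e⟩⟩ := hq
    have ha : ∀ (f : QuaternionGroup m →* (S : Subgroup G) ⧸ N) (i : ZMod (2 * m)),
        f (QuaternionGroup.a i) ^ 2 = 1 := fun f i => inv f _ (QuaternionGroup.xa 0) (by
      rw [mul_inv_eq_iff_eq_mul, eq_inv_mul_iff_mul_eq]; simp)
    refine (key e fun f x => ?_).elim
    cases x with
    | a i => exact ha f i
    | xa i =>
      obtain ⟨j, rfl⟩ : Even m := by
        rcases Nat.even_or_odd m with h | h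
        · exact h
        exfalso
        have : NeZero m := ⟨h.pos.ne'⟩
        obtain ⟨k, hk⟩ := IsPGroup.iff_card.1 S.isPGroup'
        rw [Nat.card_congr e.toEquiv, Nat.card_eq_fintype_card, QuaternionGroup.card] at hk
        obtain rfl : m = 1 := (h.coprime_two_right.pow_right k).eq_one_of_dvd ⟨4, by omega⟩
        have := QuaternionGroup.quaternionGroup_one_isCyclic
        exact hcyc (isCyclic_of_surjective _ e.symm.surjective)
      rw [← map_pow, QuaternionGroup.xa_sq, ← ha f j, ← map_pow, pow_two,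
        QuaternionGroup.a_mul_a, Nat.cast_add]
  by_cases hsd : IsQuasiDihedral ↥(S : Subgroup G)
  · exfalso
    obtain ⟨n, hn, hc, x, y, hx, hy, hxy⟩ := hsd
    obtain ⟨j, rfl⟩ : ∃ j, n = j + 3 := ⟨n - 3, by omega⟩
    have hpos : 1 ≤ 2 ^ j := Nat.one_le_two_pow
    have e1 : 2 ^ (j + 3 - 1) - 1 = 2 * (2 * 2 ^ j - 1) + 1 := by
      rw [show j + 3 - 1 = j + 2 from rfl, pow_add]; omega
    rw [e1] at hxy
    let f := QuotientGroup.mk' N
    let K : Subgroup (S : Subgroup G) :=
      { carrier := {s | f s ^ 2 = 1}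
        one_mem' := by simp
        mul_mem' := fun {a b} ha hb => by
          rw [Set.mem_ofPred_eq] at *
          rw [map_mul, Commute.mul_pow (hcomm _ _), ha, hb, one_mul]
        inv_mem' := fun {a} ha => by
          rw [Set.mem_ofPred_eq] at *
          rw [map_inv, inv_pow, ha, inv_one] }
    have hxK : x ∈ K := by
      have h1 := congrArg f hxy
      rw [map_mul, map_mul, hcomm (f y), map_inv, mul_inv_cancel_right, map_pow, pow_succ,
        pow_mul] at h1
      have h2 : (f x ^ 2) ^ (2 * 2 ^ j - 1) = 1 := mul_eq_right.1 h1.symm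
      have h3 : (f x ^ 2) ^ 2 ^ (j + 3) = 1 := by
        rw [← pow_mul, mul_comm, pow_mul, ← map_pow, ← hx, pow_orderOf_eq_one, map_one, one_pow]
      have h4 : Odd (2 * 2 ^ j - 1) := ⟨2 ^ j - 1, by omega⟩
      exact orderOf_eq_one_iff.1 (Nat.eq_one_of_dvd_coprimes (h4.coprime_two_right.pow_right _)
        (orderOf_dvd_of_pow_eq_one h2) (orderOf_dvd_of_pow_eq_one h3))
    have hyK : y ∈ K := by
      show f y ^ 2 = 1
      rw [← map_pow, orderOf_dvd_iff_pow_eq_one.1 hy.dvd, map_one]
    have hyx : y ∉ zpowers x := by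
      rintro ⟨k, rfl⟩
      have h1 : x ^ (2 * (2 * 2 ^ j - 1)) = 1 := by
        rw [pow_succ] at hxy
        exact mul_eq_right.1 (hxy.symm.trans (by group))
      have h2 := Nat.le_of_dvd (by omega) (orderOf_dvd_of_pow_eq_one h1)
      rw [hx, pow_add] at h2
      omega
    have hi : (zpowers x).index = 2 := by
      have h1 := (zpowers x).card_mul_index
      rw [Nat.card_zpowers, hx, hc, pow_succ 2 (j + 3)] at h1
      exact Nat.eq_of_mul_eq_mul_left (by positivity) h1
    refine absurd (card_le_two hQc fun s => ?_) (by omega)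
    obtain ⟨s, rfl⟩ := QuotientGroup.mk'_surjective N s
    by_cases hs : s ∈ zpowers x
    · exact zpowers_le.2 hxK hs
    · have h1 := zpowers_le.2 hxK ((mul_mem_iff_of_index_two hi).2 (iff_of_false hs hyx))
      exact (K.mul_mem_cancel_right hyK).1 h1
  have hF := S5212.result S.isPGroup' _ (S5076.result 2 S) ⟨N, hN, hNc, hQc⟩ hh hd hq hsd
  obtain ⟨M, hM, h⟩ := (S0071.result S).2 fun Q hQS g hg hc => by
    obtain ⟨-, s, hs, h1⟩ : conjHom Q g ∈ (innerFusionSystem (S : Subgroup G)).Hom Q := by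
      rw [← hF]
      exact ⟨hQS, fun x => hQS ((mem_normalizer_iff.1 hg x).1 x.2), g, fun x => rfl⟩
    have h2 : ∀ k : ℕ, ∀ x ∈ Q, g ^ k * x * (g ^ k)⁻¹ = s ^ k * x * (s ^ k)⁻¹ := by
      intro k
      induction k with
      | zero => simp
      | succ k ih =>
        intro x hx
        have h3 : g * x * g⁻¹ = s * x * s⁻¹ := h1 ⟨x, hx⟩
        calc g ^ (k + 1) * x * (g ^ (k + 1))⁻¹ = g ^ k * (g * x * g⁻¹) * (g ^ k)⁻¹ := by
              rw [pow_succ]; group
          _ = s ^ k * (s * x * s⁻¹) * (s ^ k)⁻¹ := by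
              rw [ih _ ((mem_normalizer_iff.1 hg x).1 hx), h3]
          _ = _ := by rw [pow_succ]; group
    obtain ⟨m, hm⟩ := S.isPGroup' ⟨s, hs⟩
    have h3 : s ^ 2 ^ m = 1 := congrArg Subtype.val hm
    have h4 : g ^ 2 ^ m ∈ centralizer (Q : Set G) := fun x hx => by
      have := h2 (2 ^ m) x hx
      rw [h3, one_mul, inv_one, mul_one, mul_inv_eq_iff_eq_mul] at this
      exact this.symm
    obtain ⟨k, hk⟩ := exists_pow_eq_self_of_coprime (hc.pow_right m).symm
    rw [← hk]
    exact pow_mem h4 k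
  exact solv_of_compl S hM h

end Cfsg.Agent.S4418
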