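import Cfsg.Statements.S4419
import Cfsg.Agent.H81.AutPrime
import Cfsg.Agent.H22.Core

set_option autoImplicit false
open Cfsg

namespace Cfsg.Agent.S4419


open Subgroup

theorem mc_inj {G H : Type*} [Group G] [Group H] (h : IsMetacyclic G) (f : H →* G)
    (hf : Function.Injective f) : IsMetacyclic H := by
  obtain ⟨N, hN, h1, h2⟩ := h
  refine ⟨N.comap f, inferInstance, isCyclic_of_injective (f.subgroupComap N) fun a b e =>
    Subtype.ext (hf (congrArg Subtype.val e)), isCyclic_of_injective
      (QuotientGroup.map (N.comap f) N f le_rfl) ?_⟩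
  rw [injective_iff_map_eq_one]
  intro a ha
  obtain ⟨a, rfl⟩ := QuotientGroup.mk_surjective a
  exact (QuotientGroup.eq_one_iff a).2 ((QuotientGroup.eq_one_iff (f a)).1 ha)

theorem mc_surj {G H : Type*} [Group G] [Group H] (h : IsMetacyclic G) (f : G →* H)
    (hf : Function.Surjective f) : IsMetacyclic H := by
  obtain ⟨N, hN, h1, h2⟩ := h
  haveI hn : (N.map f).Normal := hN.map f hf
  refine ⟨N.map f, hn, isCyclic_of_surjective _ (f.subgroupMap_surjective N),
    isCyclic_of_surjective (QuotientGroup.map N (N.map f) f (N.le_comap_map f)) ?_⟩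
  intro y
  obtain ⟨y, rfl⟩ := QuotientGroup.mk_surjective y
  obtain ⟨x, rfl⟩ := hf y
  exact ⟨x, rfl⟩

theorem rank_le_two {G : Type*} [Group G] [Finite G] (h : IsMetacyclic G) : Group.rank G ≤ 2 := by
  classical
  obtain ⟨N, hN, h1, h2⟩ := h
  obtain ⟨a, ha⟩ := IsCyclic.exists_generator (α := N)
  obtain ⟨b, hb⟩ := IsCyclic.exists_generator (α := G ⧸ N)
  obtain ⟨b, rfl⟩ := QuotientGroup.mk_surjective b
  have : closure (({(a : G), b} : Finset G) : Set G) = ⊤ := by
    rw [eq_top_iff]
    intro g _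
    obtain ⟨k, hk⟩ := hb (g : G ⧸ N)
    have h1 : (b ^ k)⁻¹ * g ∈ N := by
      rw [← QuotientGroup.eq]; simpa using hk
    obtain ⟨j, hj⟩ := ha ⟨_, h1⟩
    have hj' : (a : G) ^ j = (b ^ k)⁻¹ * g := by simpa using congrArg Subtype.val hj
    have : g = b ^ k * (a : G) ^ j := by rw [hj']; group
    rw [this]
    exact mul_mem (zpow_mem (subset_closure (by simp)) _) (zpow_mem (subset_closure (by simp)) _)
  exact (Group.rank_le this).trans Finset.card_le_two


/-- Let p be a prime and G a finite group whose Sylow p-subgroups are metacyclic (a cyclic normal subgroup with cyclic quotient). Then G has a normal p-complement if and only if the order of G/O_{p′,p}(G) is coprime to p² − 1. -/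
theorem result {G : Type*} [Group G] [Finite G] (p : ℕ) [Fact p.Prime] (S : Sylow p G) (hS : Cfsg.IsMetacyclic ↥(S : Subgroup G)) : Cfsg.HasNormalPComplement p G ↔ Nat.Coprime (Nat.card (G ⧸ Cfsg.pPrimePCore p G)) (p ^ 2 - 1) := by
  rename_i hp
  have hcard : Nat.card (G ⧸ pPrimePCore p G) = (pCore p (G ⧸ pPrimeCore p G)).index := by
    rw [← index_eq_card]
    exact index_comap_of_surjective _ (QuotientGroup.mk'_surjective _)
  rw [hcard]
  constructor
  · intro h
    have h1 : pResidual p G ≤ pPrimeCore p G :=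
      H22.le_pPrimeCore inferInstance (H3.hasNormalPComplement_iff_coprime.1 h)
    rw [H22.pCore_eq_top_of_isPGroup ((H3.isPGroup_quotient_iff_pResidual_le _).2 h1)]
    simp
  · intro h
    refine H3.hasNormalPComplement_of_quotient_coprime (pPrimeCore p G) H22.coprime_card_pPrimeCore ?_
    set f := QuotientGroup.mk' (pPrimeCore p G)
    have hf : Function.Surjective f := QuotientGroup.mk'_surjective _
    rw [H3.hasNormalPComplement_iff_frobenius_sylow (S.mapSurjective hf)]
    intro Q hQ g hg hc
    by_contra hn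
    have hQp : IsPGroup p Q := (S.mapSurjective hf).isPGroup'.to_le hQ
    obtain ⟨q, hq, hqg, hqp, i, hi1, hi2, -, hqi⟩ :=
      H81.exists_dvd_pow_sub_one_of_not_mem_centralizer hQp hg hc hn
    have hm : IsMetacyclic Q :=
      mc_inj (mc_surj hS _ (f.subgroupMap_surjective (S : Subgroup G))) (inclusion hQ)
        (inclusion_injective hQ)
    have hi3 := hi2.trans (rank_le_two hm)
    have hq2 : q ∣ p ^ 2 - 1 := by
      obtain rfl | rfl : i = 1 ∨ i = 2 := by omega
      · exact hqi.trans (by simpa using Nat.pow_sub_one_dvd_pow_sub_one p (one_dvd 2))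
      · exact hqi
    have hq3 : q ∣ Nat.card (pCore p (G ⧸ pPrimeCore p G)) * (pCore p (G ⧸ pPrimeCore p G)).index := by
      rw [card_mul_index]; exact hqg.trans (orderOf_dvd_natCard g)
    rcases (Nat.Prime.dvd_mul hq).1 hq3 with h4 | h4
    · obtain ⟨k, hk⟩ := (H22.isPGroup_pCore (p := p) (G := G ⧸ pPrimeCore p G)).exists_card_eq
      rw [hk] at h4
      exact hqp ((Nat.prime_dvd_prime_iff_eq hq hp.out).1 (hq.dvd_of_dvd_pow h4))
    · exact hq.one_lt.ne' (Nat.eq_one_of_dvd_coprimes h h4 hq2)

end Cfsg.Agent.S4419
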