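import Cfsg.Statements.S4523
import Cfsg.Agent.H34.RealGow
import Cfsg.Agent.H81.Misc
import Cfsg.Agent.H72.Core
import Cfsg.Agent.S0205

set_option autoImplicit false
open Cfsg

namespace Cfsg.Agent.S4523

/-- Let S be a non-abelian finite simple group with commutative Sylow 2-subgroups and M a maximal ideal of the algebraic integers containing 2. Let k be a natural number with g ^ k = g for every 2-element g and g ^ k = g⁻¹ for every element g of odd order. Then S has an irreducible character χ₁ of even degree with χ₁ (g ^ k) = χ₁ g for all g, and its principal 2-block contains a character χ₂ other than the principal character with χ₂ (g ^ k) = χ₂ g for all g. -/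
theorem result {S : Type*} [Group S] [Finite S] [IsSimpleGroup S] (hna : ¬ IsMulCommutative S) (P : Sylow 2 S) (hP : IsMulCommutative P) (M : Ideal Cfsg.AlgInt) (hM : Cfsg.IsPModular 2 M) (k : ℕ) (hk₁ : ∀ g : S, (∃ j : ℕ, orderOf g = 2 ^ j) → g ^ k = g) (hk₂ : ∀ g : S, Odd (orderOf g) → g ^ k = g⁻¹) : (∃ χ₁ : Cfsg.IrrCharacter S, Even (Cfsg.charDegree (χ₁ : S → ℂ)) ∧ ∀ g : S, (χ₁ : S → ℂ) (g ^ k) = (χ₁ : S → ℂ) g) ∧ ∃ χ₂ ∈ Cfsg.principalBlock M S, (χ₂ : S → ℂ) ≠ (fun _ => 1) ∧ ∀ g : S, (χ₂ : S → ℂ) (g ^ k) = (χ₂ : S → ℂ) g := by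
  classical
  have := hM.2.1
  have := Fact.mk Nat.prime_two
  have hab := H34.ab2_of_sylow P hP
  have hns : ¬ Group.IsSolvable S := fun h => hna ⟨⟨IsSimpleGroup.comm_iff_isSolvable.2 h⟩⟩
  have hev : 2 ∣ Nat.card S := by
    by_contra h
    exact hns (S0205.result (Nat.odd_iff.2 (Nat.two_dvd_ne_zero.1 h)))
  obtain ⟨t, ht⟩ := exists_prime_orderOf_dvd_card' 2 hev
  have htt : t * t = 1 := by rw [← pow_two, ← ht, pow_orderOf_eq_one]
  have ht1 : t ≠ 1 := by rintro rfl; simp at ht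
  have hk₂' : ∀ g : S, ¬ 2 ∣ orderOf g → g ^ k = g⁻¹ := fun g hg =>
    hk₂ g (Nat.odd_iff.2 (Nat.two_dvd_ne_zero.1 hg))
  have hk : k.Coprime (Nat.card S) := H33.coprime_card_of_forall_prime fun g hg => by
    have h1 : g ≠ 1 := by rintro rfl; simp [Nat.not_prime_one] at hg
    by_cases h2 : 2 ∣ orderOf g
    · rwa [hk₁ g ⟨1, by rw [pow_one, (Nat.prime_dvd_prime_iff_eq Nat.prime_two hg).1 h2]⟩]
    · rwa [hk₂' g h2, Ne, inv_eq_one]
  obtain ⟨X, hX⟩ := H32.exists_pReps 2 S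
  constructor
  · have hcore : t ∉ pCore 2 S := fun h => by
      rcases (inferInstance : (pCore 2 S).Normal).eq_bot_or_eq_top with e | e
      · exact ht1 (Subgroup.mem_bot.1 (e ▸ h))
      · have h1 := H72.isPGroup_pCore 2 S
        rw [e] at h1
        have := (h1.of_equiv Subgroup.topEquiv).isNilpotent
        exact hns inferInstance
    obtain ⟨x, r, hr, hr2, hx, htx⟩ := H81.exists_inverted_of_not_mem_pCore htt hcore
    have hx2 : ¬ 2 ∣ orderOf x := fun h =>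
      hr2 ((Nat.prime_dvd_prime_iff_eq Nat.prime_two hr).1 (hx ▸ h)).symm
    have hN : t ∈ H87.No (H34.Cg x) := by
      rw [H87.mem_No_iff_cjS, H34.cjS_Cg, htx]
      ext g
      simp only [Subgroup.mem_centralizer_singleton_iff]
      exact ⟨fun h => (Commute.inv_right_iff.1 h).eq, fun h => (Commute.inv_right_iff.2 h).eq⟩
    obtain ⟨E, hE, htE⟩ := H87.exists_sylIn (p := 2) (R := Subgroup.zpowers t)
      (IsPGroup.of_card (n := 1) (by rw [Nat.card_zpowers, ht, pow_one])) (Subgroup.zpowers_le.2 hN)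
    have htE' : t ∈ E := htE (Subgroup.mem_zpowers t)
    have hD := hE.inf_normal Subgroup.le_normalizer le_rfl
    obtain ⟨B, hB, hr', hBD⟩ := H34.exists_realB hM hab hx2 hD
      (H87.mem_Ce.2 fun d hd => hab E hE.pgp _ hd.1 _ htE') htt htx
    obtain ⟨i, hi, hi'⟩ := H34.exists_real_ibr hM hB hr'
    obtain ⟨n, h1, h2, -⟩ := H34.card_fixed_sigma hM hB hk hk₁ hk₂' hX
    have h3 : 0 < n 1 := h2 ▸ Finset.card_pos.2 ⟨i, Finset.mem_filter.2 ⟨hi, hi'⟩⟩
    obtain ⟨χ, hχ⟩ := Finset.card_pos.1 (h1 ▸ h3.trans_le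
      (Finset.single_le_sum (fun _ _ => Nat.zero_le _) hX.one_mem))
    obtain ⟨hχ1, hχ2⟩ := Finset.mem_filter.1 hχ
    refine ⟨χ, ?_, (H33.powIrr_eq_iff hk χ).1 hχ2⟩
    have h4 := H34.factorization_degree_add_defect (p := 2) (H86.mem_fs.1 hχ1)
    have hlt : E ⊓ H34.Cg x < E := lt_of_le_of_ne inf_le_left fun e => by
      have h5 : t ∈ H34.Cg x := (e.symm ▸ htE' : t ∈ E ⊓ H34.Cg x).2
      rw [Subgroup.mem_centralizer_singleton_iff.1 h5, mul_inv_cancel_right] at htx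
      have : orderOf x ∣ 2 := orderOf_dvd_of_pow_eq_one (by
        rw [pow_two]; exact mul_eq_one_iff_eq_inv.2 htx)
      exact hr2 ((Nat.prime_dvd_prime_iff_eq hr Nat.prime_two).1 (hx ▸ this))
    obtain ⟨m, hm⟩ := IsPGroup.iff_card.1 hE.pgp
    have h6 : Nat.card (E ⊓ H34.Cg x : Subgroup S) < Nat.card E := lt_of_not_ge fun h =>
      hlt.ne (H34.eq_of_le_of_card_le hlt.le h)
    rw [H34.card_defectGroup hM hB hBD, hm, Nat.pow_lt_pow_iff_right (by norm_num)] at h6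
    have h7 : m ≤ (Nat.card S).factorization 2 :=
      (Nat.prime_two.pow_dvd_iff_le_factorization Nat.card_pos.ne').1
        (hm ▸ Subgroup.card_subgroup_dvd_card E)
    exact even_iff_two_dvd.2 (Nat.dvd_of_factorization_pos (by omega))
  · obtain ⟨n, h1, h2, h3⟩ := H34.card_fixed_sigma hM H34.isPBlock_principalBlock hk hk₁ hk₂' hX
    obtain ⟨u, ⟨hu, htu⟩, -⟩ := hX.rep t ⟨1, by rw [ht, pow_one]⟩
    have hu1 : u ≠ 1 := by rintro rfl; exact ht1 (isConj_one_left.1 htu)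
    have a1 : 0 < n 1 := by
      obtain ⟨i, hi, hi'⟩ := H34.exists_real_ibr_principal (G := S) hM
      exact h2 ▸ Finset.card_pos.2 ⟨i, Finset.mem_filter.2 ⟨H32.mem_ibrOf.2 hi, hi'⟩⟩
    have a2 : 0 < n u := by
      obtain ⟨i, hi, hi'⟩ := H34.exists_real_ibr_principal (G := Subgroup.centralizer ({u} : Set S)) hM
      exact h3 u hu ▸ Finset.card_pos.2 ⟨i, Finset.mem_filter.2 ⟨Finset.mem_univ _,
        (H33.isInducedBlock_principal_iff hM (hX.pElt u hu) i.isPBlock_blk).2 hi, hi'⟩⟩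
    have a3 : ∑ x ∈ {1, u}, n x ≤ ∑ x ∈ X, n x := Finset.sum_le_sum_of_subset (by
      simp [Finset.insert_subset_iff, hu, hX.one_mem])
    rw [Finset.sum_pair hu1.symm, ← h1] at a3
    obtain ⟨χ, hχ, hne⟩ := Finset.exists_mem_ne (lt_of_lt_of_le (by omega) a3)
      (⟨fun _ => 1, H5.isIrrCharacter_one⟩ : IrrCharacter S)
    obtain ⟨hχ1, hχ2⟩ := Finset.mem_filter.1 hχ
    exact ⟨χ, H86.mem_fs.1 hχ1, fun e => hne (Subtype.ext e), (H33.powIrr_eq_iff hk χ).1 hχ2⟩

end Cfsg.Agent.S4523
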