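import Cfsg.Statements.S4531
import Cfsg.Agent.H86.TameD

set_option autoImplicit false
open Cfsg

namespace Cfsg.Agent.S4531

open Subgroup H86 H87 in
theorem not_solvable {G : Type*} [Group G] {a b y z : G} (hz : z ≠ 1) (hy : IsConj z y)
    (h1 : ∀ N : Subgroup G, N.Normal → y ∈ N → a ∈ N ∧ b ∈ N)
    (h2 : z ∈ zpowers (a * b * a⁻¹ * b⁻¹)) : ¬ Group.IsSolvable G := fun ⟨n, hn⟩ => by
  have key : ∀ i, z ∈ derivedSeries G i := fun i => by
    induction i with
    | zero => exact mem_top _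
    | succ i ih =>
      obtain ⟨c, rfl⟩ := isConj_iff.1 hy
      obtain ⟨ha, hb⟩ := h1 _ (derivedSeries_normal G i) ((derivedSeries_normal G i).conj_mem _ ih c)
      exact zpowers_le.2 (commutator_mem_commutator ha hb) h2
  exact hz (mem_bot.1 (hn ▸ key n))

open Subgroup H86 H87 H32 in
theorem isConj_z {M : Ideal AlgInt} [M.IsMaximal] {G : Type*} [Group G] [Finite G]
    {P : Subgroup G} {e : MonoidAlgebra (Res M) G} [Fintype P] {x y u : P} {m : ℕ} (T : Tame x y m)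
    (hu : u ∉ rest e x) (h1 : u ∉ zpowers x) (h2 : u * u = 1) :
    IsConj ((x ^ (2 * m) : P) : G) u := by
  simp only [mem_rest, not_forall, not_not] at hu
  obtain ⟨v, hv, h3⟩ := hu
  rw [← (T.mem_z.1 (T.mem_z_of_sq hv (h3.sq_iff.2 h2))).resolve_left fun h4 =>
    h1 (h3.one_iff.1 h4 ▸ one_mem _)]
  exact h3.isConj

open Subgroup H86 H87 H32 in
theorem odd_center {M : Ideal AlgInt} [M.IsMaximal] {G : Type*} [Group G] [Finite G]
    {B : Set (IrrCharacter G)} {P : Subgroup G} {e : MonoidAlgebra (Res M) G} (h : Ctx M 2 B P e)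
    {x y : P} {m : ℕ} (T : Tame x y m) (h1 : IsConj ((x ^ (2 * m) : P) : G) y) :
    Odd (Nat.card (center G)) := by
  have := res_charP h.hM
  refine Nat.not_even_iff_odd.1 fun h2 => T.nm ?_
  obtain ⟨t, ht⟩ := exists_prime_orderOf_dvd_card' 2 h2.two_dvd
  have h3 : (t : G) ∈ P := zpowers_le.1 ((h.hm.isDef le_rfl top_le_No_top (blk_eB h.hB)).normal_le
    le_rfl (blk_eB h.hB) (isPGroup_zpowers ⟨1, by rw [orderOf_coe, ht, pow_one]⟩) le_top fun g _ =>
      Ce_le_No _ ((isCent_zpowers _ g).2 (mem_center_iff.1 t.2 g)))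
  have h4 : (⟨t, h3⟩ : P) ∈ zpowers x := (T.mem_C_iff (npow_mem_zpowers x m) T.w_nm).2
    (Subtype.ext (mul_inv_eq_iff_eq_mul.2 (mem_center_iff.1 t.2 _).symm))
  have h5 := (T.mem_z.1 (T.mem_z_of_sq h4 (Subtype.ext (congrArg Subtype.val
    (show t * t = 1 by rw [← sq, ← ht, pow_orderOf_eq_one]) :)))).resolve_left fun h5 => by
      simp [show t = 1 from Subtype.ext (congrArg Subtype.val h5 :)] at ht
  obtain ⟨c, hc⟩ := isConj_iff.1 h1
  rw [← h5, mem_center_iff.1 t.2, mul_inv_cancel_right] at hc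
  exact (Subtype.ext hc : (⟨t, h3⟩ : P) = y) ▸ h4


/-- Let the finite group G have a 2-block B (relative to a maximal ideal M of the algebraic integers containing 2) of 2-regular rank three (three irreducible Brauer characters) whose defect group D is dihedral of order 2 ^ n with n ≥ 3 or semidihedral. Then the centre of G has odd order and G is not solvable. -/
theorem result {G : Type*} [Group G] [Finite G] (M : Ideal Cfsg.AlgInt) (hM : Cfsg.IsPModular 2 M) (B : Set (Cfsg.IrrCharacter G)) (hB : Cfsg.IsPBlock M B) (D : Subgroup G) (hD : Cfsg.IsDefectGroup 2 M B D) (hD' : (∃ n : ℕ, 3 ≤ n ∧ Nonempty (D ≃* DihedralGroup (2 ^ (n - 1)))) ∨ Cfsg.IsQuasiDihedral D) (hl : Cfsg.blockRank 2 B = 3) : Odd (Nat.card (Subgroup.center G)) ∧ ¬ Group.IsSolvable G := by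
  have := hM.2.1
  have := Fintype.ofFinite G
  have := Fintype.ofFinite D
  obtain ⟨e, h⟩ := H86.exists_ctx hM hB hD
  rcases hD' with ⟨n, hn, ⟨f⟩⟩ | hsd
  · obtain ⟨x, y, T, h1⟩ := H86.exists_tame_of_dihedral hn f
    have h2 := (T.dihedral h h1).2.2.2.2
    have h3 : ∀ u, u ∉ H86.rest e x := fun u hu => by
      have h3 : 0 < H86.rho e x := Finset.sum_pos (fun u _ => mul_pos (h.wt_pos u.2)
        (Nat.cast_pos.2 (have := Fintype.ofFinite (H87.Ce (Subgroup.zpowers (u : G)))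
          H86.one_le_blockRank hM.1 (H32.isPBlock_nonempty (h.blk_spec u.2).1)))) ⟨u, hu⟩
      rw [hl] at h2
      push_cast at h2
      linarith
    have h4 : x * y ∉ Subgroup.zpowers x := fun h4 =>
      T.nm ((mul_mem_cancel_left (Subgroup.mem_zpowers x)).1 h4)
    have h5 := isConj_z T (h3 y) T.nm (h1 y T.nm)
    have h6 := isConj_z T (h3 _) h4 (h1 _ h4)
    refine ⟨odd_center h T h5, not_solvable (a := x) (b := y) (fun h => T.z_ne (Subtype.ext h)) h5
      (fun N hN hy => ⟨?_, hy⟩) (H86.coe_mem_zpowers.2 (pow_mul x 2 _ ▸ pow_mem T.sq_mem_comm _))⟩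
    obtain ⟨c, hc⟩ := isConj_iff.1 (h5.symm.trans h6)
    exact (mul_mem_cancel_right hy).1 (Subgroup.coe_mul D x y ▸ hc ▸ hN.conj_mem _ hy c)
  · obtain ⟨x, y, m, T, hm, h1, h2⟩ := H86.exists_tame_of_sd hsd
    obtain ⟨-, h3, h4⟩ := T.semidihedral h hm h1 h2
    have h5 := isConj_z T (h4.resolve_right (by omega)).2 T.nm h1
    obtain ⟨k, hk⟩ : ∃ k, m = 2 * k := by
      obtain ⟨_ | k, rfl⟩ := T.pow
      exacts [absurd rfl hm, ⟨2 ^ k, by ring⟩]
    have h6 : x ^ 2 * y * (x ^ 2)⁻¹ * y⁻¹ = x ^ 4 := by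
      rw [show x ^ 2 * y * (x ^ 2)⁻¹ * y⁻¹ = x ^ 2 * ((y * x * y⁻¹) * (y * x * y⁻¹))⁻¹ by group]
      rcases T.cj with h6 | ⟨h6, -⟩ <;> rw [h6]
      · group
      · rw [mul_assoc, ← mul_assoc (x ^ (2 * m)), ← T.z_comm, mul_assoc, T.zz]; group
    have h7 : x ^ (2 * m) ∈ Subgroup.zpowers (x ^ 2 * y * (x ^ 2)⁻¹ * y⁻¹) :=
      h6 ▸ ⟨k, by simp [hk, ← pow_mul, ← mul_assoc]⟩
    refine ⟨odd_center h T h5, not_solvable (a := (x ^ 2 : D)) (b := y)
      (fun h => T.z_ne (Subtype.ext h)) h5 (fun N hN hy => ⟨?_, hy⟩)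
      (H86.coe_mem_zpowers.2 h7)⟩
    exact Subgroup.zpowers_le.2 (mul_mem (hN.conj_mem _ hy x) (inv_mem hy))
      (H86.coe_mem_zpowers.2 T.sq_mem_comm)

end Cfsg.Agent.S4531
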