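import Cfsg.Statements.S4542
import Cfsg.Agent.H35.KbMain

set_option autoImplicit false
open Cfsg

namespace Cfsg.Agent.S4542

/-- Let B be a p-block of the finite group G (relative to a maximal ideal M of the algebraic integers containing p) with defect group D, and suppose D has a cyclic subgroup Z, central in D, of index at most 16 in D. Then B contains at most as many irreducible characters as D has elements (Brauer's k(B) bound holds for B); in particular this covers every 2-block of defect at most 5. -/
theorem result {G : Type*} [Group G] [Finite G] (p : ℕ) [Fact p.Prime] (M : Ideal Cfsg.AlgInt) (hM : Cfsg.IsPModular p M) (B : Set (Cfsg.IrrCharacter G)) (hB : Cfsg.IsPBlock M B) (D : Subgroup G) (hD : Cfsg.IsDefectGroup p M B D) (Z : Subgroup G) (hZD : Z ≤ D) (hZc : ∀ z ∈ Z, ∀ d ∈ D, z * d = d * z) (hcyc : IsCyclic Z) (hidx : Z.relIndex D ≤ 16) : Nat.card B ≤ Nat.card D := by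
  have := hM.2.1
  obtain ⟨e, h⟩ := H86.exists_ctx hM hB hD
  obtain ⟨z, hz⟩ := (Subgroup.isCyclic_iff_exists_zpowers_eq_top (Z.subgroupOf D)).1
    ((Subgroup.subgroupOfEquivOfLe hZD).isCyclic.2 hcyc)
  exact H35.card_le_main h (z := z) (Subgroup.mem_center_iff.2 fun g => Subtype.ext
    (hZc z (Subgroup.mem_subgroupOf.1 (hz ▸ Subgroup.mem_zpowers z)) g g.2).symm) (hz ▸ hidx)

end Cfsg.Agent.S4542
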