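import Cfsg.Statements.S4548
import Cfsg.Agent.H26.HZF
import Cfsg.Agent.S4549
import Cfsg.Agent.H9.Vanish

set_option autoImplicit false
open Cfsg

namespace Cfsg.Agent.S4548

open Finset H26.HZ

theorem signs {Q : Type*} [Group Q] [Finite Q] (hQ : IsPGroup 2 Q) (h2 : 2 ∣ Nat.card Q) :
    IsCyclic Q ↔ Nat.card {l : Q →* ℂˣ // ∀ q, l q ^ 2 = 1} = 2 := by
  refine ⟨fun h => ?_, fun h => ?_⟩
  · let _ : CommGroup Q := IsCyclic.commGroup
    obtain ⟨e⟩ := CommGroup.monoidHom_mulEquiv_of_hasEnoughRootsOfUnity Q ℂ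
    have h1 := IsCyclic.card_powMonoidHom_ker Q 2
    rw [Nat.gcd_eq_right h2] at h1
    refine (Nat.card_congr (e.toEquiv.subtypeEquiv fun l => ?_)).trans h1
    change _ ↔ e l ^ 2 = 1
    rw [← map_pow, map_eq_one_iff _ e.injective, MonoidHom.ext_iff]
    rfl
  obtain ⟨⟨μ, h0⟩, hμ, hu⟩ := (Nat.card_eq_two_iff' ⟨1, fun q => by simp⟩).1 h
  obtain ⟨x, hx⟩ : ∃ x, μ x ≠ 1 := by
    by_contra! hx
    exact hμ (Subtype.ext (MonoidHom.ext hx))
  rw [isCyclic_iff_exists_zpowers_eq_top]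
  refine ⟨x, by_contra fun hz => ?_⟩
  obtain ⟨K, hK, hle⟩ := (eq_top_or_exists_le_coatom _).resolve_left hz
  obtain ⟨ν, hν⟩ := H6.exists_sign_hom K (H3.index_eq_of_isCoatom hQ hK)
  have h3 := hu ⟨ν, fun g => by
    by_cases hg : g ∈ K
    · rw [(hν g).1 hg, one_pow]
    · rw [(hν g).2 hg, neg_one_sq]⟩ fun e => hK.1 (eq_top_iff.2 fun g _ => by
      by_contra hg
      have h4 : ν g = 1 := DFunLike.congr_fun (congrArg Subtype.val e) g
      have h5 := congrArg Units.val (h4.symm.trans ((hν g).2 hg))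
      norm_num at h5)
  exact hx ((DFunLike.congr_fun (congrArg Subtype.val h3) x).symm.trans
    ((hν x).1 (hle (Subgroup.mem_zpowers x))))

/-- Let G be a finite group of even order with Sylow 2-subgroup P and M a maximal ideal of the algebraic integers containing 2. Let k be a natural number with g ^ k = g ^ 3 for every 2-element g and g ^ k = g for every element g of odd order (such k exist); an irreducible character χ is unchanged by g ↦ g ^ k exactly when it is fixed by the field automorphism that cubes the 2-power roots of unity and fixes the roots of unity of odd order. Then P is cyclic if and only if exactly two members χ of the principal 2-block of odd degree satisfy χ (g ^ k) = χ g for all g. -/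
theorem result {G : Type*} [Group G] [Finite G] (M : Ideal Cfsg.AlgInt) (hM : Cfsg.IsPModular 2 M) (hev : Even (Nat.card G)) (P : Sylow 2 G) (k : ℕ) (hk₁ : ∀ g : G, (∃ j : ℕ, orderOf g = 2 ^ j) → g ^ k = g ^ 3) (hk₂ : ∀ g : G, Odd (orderOf g) → g ^ k = g) : IsCyclic P ↔ Nat.card {χ : Cfsg.IrrCharacter G // χ ∈ Cfsg.principalBlock M G ∧ Odd (Cfsg.charDegree (χ : G → ℂ)) ∧ ∀ g : G, (χ : G → ℂ) (g ^ k) = (χ : G → ℂ) g} = 2 := by
  classical
  have := hM.2.1
  have hk := coprime_three hk₁ hk₂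
  have hd := even_iff_two_dvd.1 hev
  have main := S4549.result M hM k hk₁ hk₂
  have key : HasNormalPComplement 2 G → (IsCyclic P ↔ Nat.card {χ : IrrCharacter G //
      χ ∈ principalBlock M G ∧ Odd (charDegree (χ : G → ℂ)) ∧
      ∀ g : G, (χ : G → ℂ) (g ^ k) = (χ : G → ℂ) g} = 2) := fun h => by
    obtain ⟨N, hN, hc⟩ := (H3.hasNormalPComplement_iff_sylow P).1 h
    have e := hc.symm.QuotientMulEquiv
    obtain ⟨j, hj⟩ := IsPGroup.iff_card.1 P.isPGroup'
    have hB := H33.mem_principalBlock_iff_of_normal_complement hM N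
      (hc.index_eq_card ▸ P.not_dvd_index) ⟨j, hc.symm.index_eq_card.trans hj⟩
    have hko : Odd k := (hk.coprime_dvd_right hd).odd_of_right
    rw [← e.isCyclic, signs (P.isPGroup'.of_equiv e.symm) (by
      rw [Nat.card_congr e.toEquiv]; exact P.dvd_card_of_dvd_card hd)]
    refine iff_of_eq (congrArg (· = 2) (Nat.card_eq_of_bijective (fun l =>
      ⟨⟨_, H5.isIrrCharacter_monoidHom (l.1.comp (QuotientGroup.mk' N))⟩, (hB _).2 fun n hn => ?_,
        ?_, fun g => ?_⟩) ⟨fun l l' e => ?_, ?_⟩))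
    · simp [(QuotientGroup.eq_one_iff n).2 hn]
    · rw [H88.charDegree_monoidHom]; exact odd_one
    · obtain ⟨m, rfl⟩ := hko
      change ((l.1.comp (QuotientGroup.mk' N) (g ^ (2 * m + 1)) : ℂˣ) : ℂ) =
        l.1.comp (QuotientGroup.mk' N) g
      rw [map_pow, pow_succ, pow_mul, show l.1.comp (QuotientGroup.mk' N) g ^ 2 = 1 from l.2 _,
        one_pow, one_mul]
    · refine Subtype.ext (MonoidHom.ext fun q => ?_)
      obtain ⟨g, rfl⟩ := QuotientGroup.mk_surjective q
      exact Units.ext (congrFun (congrArg (fun x => (x.1 : G → ℂ)) e) g)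
    · rintro ⟨χ, h1, h2, h3⟩
      obtain ⟨lam, hl⟩ := H5.exists_monoidHom_of_degree_one (H5.isCharacter_of_isIrr χ.2)
        ((H88.charDegree_eq_one_iff (H5.isCharacter_of_isIrr χ.2)).1 (main.1 h χ h1 h2 h3))
      have h4 : ∀ n ∈ N, lam n = 1 := fun n hn => Units.ext (by
        have := (hB χ).1 h1 n hn
        rw [hl] at this
        simpa using this)
      refine ⟨⟨QuotientGroup.lift N lam h4, fun q => ?_⟩, Subtype.ext (Subtype.ext hl.symm)⟩
      obtain ⟨g, rfl⟩ := QuotientGroup.mk_surjective q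
      obtain ⟨⟨n, x⟩, rfl, -⟩ := hc.existsUnique g
      change lam (n * x) ^ 2 = 1
      obtain ⟨i, hi⟩ := IsPGroup.iff_orderOf.1 P.isPGroup' x
      have h5 := h3 x
      rw [hk₁ x ⟨i, by rw [← hi]; exact Subgroup.orderOf_coe _⟩, hl] at h5
      have h6 : lam (x ^ 3) = lam x := Units.ext h5
      rw [map_mul, h4 n n.2, one_mul]
      rw [map_pow, pow_succ] at h6
      exact mul_right_cancel (h6.trans (one_mul _).symm)
  refine ⟨fun h => (key (H3.hasNormalPComplement_of_normalizer_le_centralizer P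
    (h.normalizer_le_centralizer ((Nat.minFac_eq_two_iff _).2 hd)))).1 h,
    fun h => (key (main.2 fun χ h1 h2 h3 => ?_)).2 h⟩
  obtain ⟨ψ, -, hu⟩ := (Nat.card_eq_two_iff' ⟨H33.oneIrr G, H33.oneIrr_mem_principalBlock,
    deg_one (G := G) ▸ odd_one, fun _ => rfl⟩).1 h
  by_cases e : χ = H33.oneIrr G
  · rw [e, deg_one]
  have h4 : (hz 2 M G).filter (fun χ => H33.powIrr hk χ = χ) = {χ} := by
    ext φ
    rw [mem_filter, mem_hz, H33.powIrr_eq_iff, mem_singleton, Nat.two_dvd_ne_zero, ← Nat.odd_iff]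
    refine ⟨fun ⟨⟨a, b, c⟩, d⟩ => congrArg Subtype.val
      ((hu ⟨φ, a, b, d⟩ fun e => c (congrArg Subtype.val e)).trans
        (hu ⟨χ, h1, h2, h3⟩ fun e' => e (congrArg Subtype.val e')).symm), ?_⟩
    rintro rfl
    exact ⟨⟨h1, h2, e⟩, h3⟩
  refine H9.charDegree_eq_one_of_no_zero χ fun g hg => ?_
  have h5 := cong_fixed hM hd hk (iter_three hk₁ hk₂)
    (fun g hg => hk₂ g (Nat.odd_iff.2 (by omega))) g
  rw [h4, sum_singleton, hg, mul_zero, add_zero] at h5
  exact H32.one_not_mem_locMax h5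

end Cfsg.Agent.S4548
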