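import Cfsg.Statements.S4573
import Cfsg.Agent.H6.PiChar

set_option autoImplicit false
universe u
open Cfsg

namespace Cfsg.Agent.S4573

/-- Every finite solvable group is isomorphic to a subgroup of a finite M-group, a group each of whose irreducible characters is induced from a homomorphism of some subgroup into ℂˣ. -/
theorem result {G : Type u} [Group G] [Finite G] (hsolv : Group.IsSolvable G) : ∃ (M : Type u) (_ : Group M) (_ : Fintype M), (∀ χ : M → ℂ, Cfsg.IsIrrCharacter M χ → (∃ (H : Subgroup M) (lam : ↥H →* ℂˣ), χ = Cfsg.indFun H (fun h => (lam h : ℂ)))) ∧ ∃ f : G →* M, Function.Injective f := by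
  refine H6.solvable_prime_index_induction (P := fun G _ _ => ∃ (M : Type u) (_ : Group M)
    (_ : Fintype M), (∀ χ : M → ℂ, IsIrrCharacter M χ → H6.IsMonomialChar χ) ∧
      ∃ f : G →* M, Function.Injective f) ?_ ?_ G hsolv
  · intro G _ _ h
    let _ := Fintype.ofFinite G
    exact ⟨G, inferInstance, inferInstance, fun χ hχ => H6.isMonomialChar_of_degree_one
      (H5.isCharacter_of_isIrr hχ)
      (H5.degree_eq_one_of_comm (fun _ _ => Subsingleton.elim _ _) hχ), MonoidHom.id G,
      Function.injective_id⟩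
  · rintro G _ _ N _ hp ⟨M, _, _, hM, f, hf⟩
    let _ := Fintype.ofFinite (M ≀ᵣ (G ⧸ N))
    exact ⟨M ≀ᵣ (G ⧸ N), inferInstance, inferInstance,
      fun χ hχ => H6.isMonomialChar_wreath hp hM hχ, (H6.wmap _ f).comp (H6.kkHom N),
      (H6.wmap_injective hf).comp (H6.kkHom_injective N)⟩

end Cfsg.Agent.S4573
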