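import Cfsg.Statements.S4602
import Cfsg.Agent.H22.PSolvable
import Cfsg.Agent.H83.ClassSize
import Cfsg.Agent.H85.SylowCount
import Cfsg.Agent.H72.Conj

set_option autoImplicit false
open Cfsg

namespace Cfsg.Agent.S4602

open Subgroup

theorem iff_card {G : Type*} [Group G] [Finite G] (p q : ℕ) [Fact p.Prime] [Fact q.Prime] :
    (∃ (P : Sylow p G) (Q : Sylow q G), (P : Subgroup G) ≤ normalizer ((Q : Subgroup G) : Set G)) ↔
      ¬ p ∣ Nat.card (Sylow q G) := by
  constructor
  · rintro ⟨P, Q, h⟩ hd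
    rw [Sylow.card_eq_index_normalizer Q] at hd
    exact P.not_dvd_index (hd.trans (index_dvd_of_le h))
  · intro h
    obtain ⟨Q⟩ : Nonempty (Sylow q G) := inferInstance
    rw [Sylow.card_eq_index_normalizer Q] at h
    obtain ⟨P, -, hP⟩ := H83.exists_sylow_le_of_not_dvd_index h IsPGroup.of_bot bot_le
    exact ⟨P, Q, hP⟩

theorem of_not_dvd {G : Type*} [Group G] [Finite G] (p q : ℕ) [hp : Fact p.Prime] [Fact q.Prime]
    (h : ¬ q ∣ (pPrimeCore p G).index) : ¬ p ∣ Nat.card (Sylow q G) := by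
  obtain ⟨Q, -, hQ⟩ := H83.exists_sylow_le_of_not_dvd_index h IsPGroup.of_bot bot_le
  have h1 := Sylow.normalizer_sup_eq_top' Q hQ
  rw [Sylow.card_eq_index_normalizer Q, ← relIndex_top_right, ← h1, sup_comm,
    H85.relIndex_sup_of_normal]
  intro hd
  exact (Nat.Prime.coprime_iff_not_dvd hp.out).mp (H22.coprime_card_pPrimeCore (p := p) (G := G)).symm
    (hd.trans (relIndex_dvd_card _ _))

/-- if `O_{p'} = 1`, a `q`-element centralizing `O_p` is trivial -/
theorem eq_one_of_cent {G : Type*} [Group G] [Finite G] {p q : ℕ} [hp : Fact p.Prime]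
    [hq : Fact q.Prime] (hpq : p ≠ q) (hsolv : IsPSolvable p G) (hO : pPrimeCore p G = ⊥) {y : G}
    {k : ℕ} (hy : y ^ q ^ k = 1) (hc : y ∈ centralizer (pCore p G : Set G)) : y = 1 := by
  obtain ⟨j, hj⟩ := H22.isPGroup_pCore ⟨y, H22.IsPSolvable.centralizer_pCore_le hsolv hO hc⟩
  have hj' : y ^ p ^ j = 1 := congrArg Subtype.val hj
  exact orderOf_eq_one_iff.mp (Nat.eq_one_of_dvd_coprimes
    (Nat.coprime_pow_primes j k hp.out hq.out hpq) (orderOf_dvd_of_pow_eq_one hj')
    (orderOf_dvd_of_pow_eq_one hy))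

/-- Let G be a finite p-solvable group and q a prime different from p. Some Sylow p-subgroup of G normalizes some Sylow q-subgroup of G if and only if q does not divide the order of G/O_{p'}(G), the quotient by the largest normal subgroup of order prime to p. -/
theorem result {G : Type*} [Group G] [Finite G] (p q : ℕ) [Fact p.Prime] [Fact q.Prime] (hpq : p ≠ q) (hsolv : Cfsg.IsPSolvable p G) :
    (∃ (P : Sylow p G) (Q : Sylow q G), (P : Subgroup G) ≤ Subgroup.normalizer ((Q : Subgroup G) : Set G)) ↔ ¬ q ∣ (Cfsg.pPrimeCore p G).index := by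
  refine ⟨?_, fun h => (iff_card p q).mpr (of_not_dvd p q h)⟩
  rintro ⟨P, Q, h⟩ hd
  set f := QuotientGroup.mk' (pPrimeCore p G)
  have hf : Function.Surjective f := QuotientGroup.mk'_surjective _
  have h1 : ((P.mapSurjective hf : Sylow p (G ⧸ pPrimeCore p G)) : Subgroup (G ⧸ pPrimeCore p G)) ≤
      normalizer (((Q.mapSurjective hf : Sylow q (G ⧸ pPrimeCore p G)) :
        Subgroup (G ⧸ pPrimeCore p G)) : Set (G ⧸ pPrimeCore p G)) :=
    (map_mono h).trans (le_normalizer_map f)
  refine (Q.mapSurjective hf).ne_bot_of_dvd_card hd (eq_bot_iff.mpr fun y hy => ?_)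
  obtain ⟨k, hk⟩ := (Q.mapSurjective hf).isPGroup' ⟨y, hy⟩
  refine eq_one_of_cent hpq (H22.IsPSolvable.quotient hsolv _) H22.pPrimeCore_quotient_pPrimeCore
    (congrArg Subtype.val hk) ?_
  have h2 := H72.commutator_le_inf_of_normalizes ((H22.pCore_le_sylow _).trans h1)
    (by rw [normalizer_eq_top]; exact le_top)
  have h3 := IsPGroup.disjoint_of_ne p q hpq _ _ H22.isPGroup_pCore (Q.mapSurjective hf).isPGroup'
  rw [disjoint_iff.mp h3, le_bot_iff, commutator_comm, commutator_eq_bot_iff_le_centralizer] at h2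
  exact h2 hy

end Cfsg.Agent.S4602
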