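import Cfsg.Statements.S4702
import Cfsg.Agent.H8.CCAb

set_option autoImplicit false
open Cfsg

namespace Cfsg.Agent.S4702

open Cfsg.Agent.H26 Cfsg.Agent.H12 MulAction

/-- Let G be a triply transitive permutation group on a finite set of odd size m ≥ 3 in which only the identity fixes three or more points. Then m = 2^a + 1 for some a ≥ 1 and G is isomorphic to SL(2, 2^a). -/
theorem result {α : Type*} [Fintype α] [DecidableEq α] (hm : 3 ≤ Fintype.card α) (hodd : Odd (Fintype.card α)) (G : Subgroup (Equiv.Perm α)) (h3 : MulAction.IsMultiplyPretransitive G α 3) (hfix : ∀ g : G, 3 ≤ Nat.card (MulAction.fixedBy α g) → g = 1) : ∃ a : ℕ, 1 ≤ a ∧ Fintype.card α = 2 ^ a + 1 ∧ ∃ (F : Type) (_ : Field F) (_ : Fintype F), Fintype.card F = 2 ^ a ∧ Nonempty (G ≃* Matrix.SpecialLinearGroup (Fin 2) F) := by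
  rw [← Nat.card_eq_fintype_card] at hm hodd
  have hsharp : ∀ x : Fin 3 ↪ α, stabilizer G x = ⊥ := by
    intro x
    rw [eq_bot_iff]
    intro g hg
    refine Subgroup.mem_bot.2 (hfix g ?_)
    have hx : ∀ i, g • x i = x i := fun i =>
      congrArg (fun y : Fin 3 ↪ α => y i) (mem_stabilizer_iff.1 hg)
    have := Nat.card_le_card_of_injective (fun i : Fin 3 => (⟨x i, hx i⟩ : fixedBy α g))
      (fun i j h => x.injective (congrArg Subtype.val h))
    rwa [Nat.card_eq_fintype_card, Fintype.card_fin] at this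
  obtain ⟨a, b, c, hab, hca, hcb⟩ := exists_three hm
  obtain ⟨K, _, _, hK, ⟨e⟩⟩ := pgl_of_odd (zt_of_sharp3 hm h3 hsharp) hodd hab hca hcb
    (card_le_card_stab_of_mt3 h3 hab hca hcb)
  have hev : Even (Nat.card K) := by
    rw [hK] at hodd
    exact Nat.not_odd_iff_even.1 (Nat.odd_add_one.1 hodd)
  have := H8.charP_two_of_even_card K hev
  have h2 : (2 : K) = 0 := by exact_mod_cast CharP.cast_eq_zero K 2
  obtain ⟨n, -, hn⟩ := FiniteField.card K 2
  obtain ⟨e1⟩ := H8.nonempty_sl_equiv_psl K h2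
  obtain ⟨e2⟩ := H8.nonempty_psl_equiv_pgl K h2
  refine ⟨n, n.pos, ?_, K, inferInstance, inferInstance, hn, ⟨e.trans (e1.trans e2).symm⟩⟩
  rw [← Nat.card_eq_fintype_card, hK, Nat.card_eq_fintype_card, hn]

end Cfsg.Agent.S4702
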