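import Cfsg.Statements.S4706
import Cfsg.Agent.H35.AltSq
import Cfsg.Agent.H24.PrimeDegree3
import Cfsg.Agent.S4702
import Cfsg.Agent.S0157

set_option autoImplicit false
open Cfsg

namespace Cfsg.Agent.S4706

open Subgroup H35 H24 MulAction

theorem fixed_pow {G α : Type*} [Group G] [MulAction G α] (g : G) (n : ℕ) :
    fixedBy α g ⊆ fixedBy α (g ^ n) := fun _ ha =>
  (pow_mem (show g ∈ stabilizer G _ from ha) n : g ^ n ∈ stabilizer G _)


/-- Let p > 2 be a prime and G a permutation group on p letters whose Sylow p-subgroup P has normalizer of order 2p. Then either P is normal in G, or p − 1 = 2^a for some a and G is isomorphic to SL(2, 2^a). -/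
theorem result {α : Type*} [Fintype α] [DecidableEq α] {p : ℕ} [Fact p.Prime] (hp : 2 < p) (hα : Fintype.card α = p) (G : Subgroup (Equiv.Perm α)) (P : Sylow p G) (hN : Nat.card (Subgroup.normalizer ((P : Subgroup G) : Set G)) = 2 * p) : (P : Subgroup G).Normal ∨ ∃ (a : ℕ) (F : Type) (_ : Field F) (_ : Fintype F), p = 2 ^ a + 1 ∧ Fintype.card F = 2 ^ a ∧ Nonempty (G ≃* Matrix.SpecialLinearGroup (Fin 2) F) := by
  classical
  have hp' : p.Prime := Fact.out
  have hd : p ∣ Nat.card G := (Dvd.intro_left 2 hN.symm).trans (card_subgroup_dvd_card _)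
  have : Nonempty α := Fintype.card_pos_iff.mp (by omega)
  have : IsPretransitive G α := by
    obtain ⟨x, hx⟩ := exists_prime_orderOf_dvd_card' p hd
    have h1 : x ^ p = 1 := hx ▸ pow_orderOf_eq_one x
    obtain ⟨e, -, he⟩ := exists_coord hα x h1 (Classical.arbitrary α) (smul_ne_of_orderOf hα x h1
      (fun h => hp'.ne_one (by rw [← hx, h, orderOf_one])) _)
    exact ⟨fun a b => ⟨x ^ (e b - e a).val, e.injective (by simp [coord_pow e x he])⟩⟩
  obtain ⟨σ, t, e, h1, h2, hσ, ht⟩ := exists_coord_neg hα (by omega) P (hN ▸ even_two_mul p)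
  obtain ⟨S, rfl⟩ := exists_setup (orderOf_eq_prime h1 h2) (pow_two p ▸ not_sq_dvd_card hα)
  have htr : ∀ (g : G) (c : ZMod p), (∀ x, e (g • x) = e x + c) → g ∈ zpowers S.x :=
    fun g c h => ⟨c.val, eq_of_smul_eq_smul (α := α) fun x => e.injective (by
      simp only [zpow_natCast, coord_pow e _ hσ, h, ZMod.natCast_zmod_val])⟩
  by_cases haff : ∀ g : G, ∃ a b : ZMod p, ∀ x, e (g • x) = a * e x + b
  · obtain ⟨Q, hQ⟩ := exists_sylow_eq_zpowers S.hx S.hsq
    have h3 : (Q : Subgroup G).Normal := by
      rw [hQ, ← normalizer_eq_top_iff, eq_top_iff]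
      refine fun g _ => mem_normalizer_zpowers_iff.mpr ?_
      obtain ⟨a, b, h⟩ := haff g
      refine htr _ a fun x => ?_
      rw [mul_smul, mul_smul, h, hσ, ← smul_inv_smul g x, h, inv_smul_smul]
      ring
    have := Q.unique_of_normal h3
    exact Or.inl (Subsingleton.elim Q P ▸ h3)
  have hV : Nat.card S.V = 1 := S.card_V_eq_one (le_antisymm (fun g hg => htr g _ fun x => by
    have := coord_of_conj e _ hσ g 1 (by
      rw [pow_one, mul_inv_eq_iff_eq_mul]; exact (mem_centralizer_singleton_iff.mp hg)) x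
    rwa [Nat.cast_one, one_mul] at this) (zpowers_le.mpr (mem_centralizer_singleton_iff.mpr rfl)))
  have he : S.V.index = 2 := by
    have h3 := (normalizer ((P : Subgroup G) : Set G)).card_mul_index
    rw [hN, S.card_eq, hV, mul_one, mul_comm 2, P.card_eq_index_normalizer] at h3
    exact (Nat.eq_of_mul_eq_mul_left hp'.pos
      (Nat.eq_of_mul_eq_mul_right (Nat.pos_of_ne_zero index_ne_zero_of_finite) h3)).symm
  obtain ⟨a, -, h3, h4⟩ := S4702.result (by omega) (hα ▸ hp'.odd_of_ne_two (by omega)) G
    (three_transitive_of_not_affine e _ hσ haff t ht) fun g hg => by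
    by_contra hg1
    obtain ⟨r, hr, hrg⟩ := Nat.exists_prime_and_dvd (mt orderOf_eq_one_iff.mp hg1)
    have hw := orderOf_pow_orderOf_div (orderOf_pos g).ne' hrg
    replace hg := hg.trans (Nat.card_mono (Set.toFinite _) (fixed_pow g (orderOf g / r)))
    generalize g ^ (orderOf g / r) = w at hw hg
    have hw1 : w ≠ 1 := fun h => hr.ne_one (by rw [← hw, h, orderOf_one])
    have hα' : Nat.card α = p := by rw [Nat.card_eq_fintype_card, hα]
    have hlt : Nat.card (fixedBy α w) < p := hα' ▸ Finite.card_subtype_lt (x := Classical.choose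
      (not_forall.mp fun h => hw1 (eq_of_smul_eq_smul (α := α) fun x => by rw [one_smul, h x])))
      (Classical.choose_spec (p := fun x => ¬ w • x = x) _)
    have hrp : ¬ p ∣ r := fun h => by
      obtain ⟨x, hx⟩ := (Nat.card_pos_iff.mp (by omega : 0 < Nat.card (fixedBy α w))).1
      exact smul_ne_of_orderOf hα w (by
        rw [(Nat.prime_dvd_prime_iff_eq hp' hr).mp h, ← hw, pow_orderOf_eq_one]) hw1 x hx
    obtain ⟨B, hB⟩ := S.exists_principal
    obtain ⟨φ, hφ⟩ := B.nonempty_Y
    let χ : IrrCharacter G := ⟨_, (S0157.result α (by omega)).mpr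
      (two_transitive_of_not_affine e _ hσ haff)⟩
    have c1 : charDegree (χ : G → ℂ) = p - 1 := charDegree_eq (by
      simp [χ, hα, Nat.cast_pred hp'.pos])
    have c2 : χ ∈ B.X := (B.mem_of_not_dvd hV (by
      rw [c1]; exact Nat.not_dvd_of_pos_of_lt (by omega) (by omega))).resolve_right fun h => by
        have h5 := dvd_add (B.degY' h).dvd (dvd_refl (p : ℤ))
        rw [c1, he, Nat.cast_pred hp'.pos, sub_add, sub_sub_cancel_left, sub_neg_eq_add] at h5
        rcases B.ε_sign with h | h <;> rw [h] at h5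
        · have := Int.le_of_dvd (by norm_num) h5; omega
        · have := Int.le_of_dvd (by norm_num) (dvd_neg.mpr h5); omega
    have c3 : B.δ χ = -1 := (B.δ_sign χ c2).resolve_left fun h => by
      have h5 := dvd_add (B.degX' c2).dvd (dvd_refl (p : ℤ))
      rw [c1, h, Nat.cast_pred hp'.pos, sub_add, sub_sub_cancel_left, sub_neg_eq_add] at h5
      have := Int.le_of_dvd (by norm_num) h5; omega
    have c4 : triv G ≠ χ := fun h => by have := B.δ_triv hB; rw [h] at this; omega
    have c5 : B.X = {triv G, χ} := (Finset.eq_of_subset_of_card_le (by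
      simp [Finset.insert_subset_iff, hB, c2]) (by rw [B.cardX', he, Finset.card_pair c4])).symm
    have c6 := B.degree_eq hφ
    rw [c5, Finset.sum_pair c4, B.δ_triv hB, c3, c1, degree_triv] at c6
    have c7 : B.ε = -1 := B.ε_sign.resolve_left fun h => by rw [h] at c6; omega
    have c8 : charDegree (φ : G → ℂ) = p - 2 := by rw [c7] at c6; omega
    have c9 : ∀ g, ¬ p ∣ orderOf g → (φ : G → ℂ) g = Nat.card (fixedBy α g) - 2 := fun g hg => by
      have := B.reg φ hφ g hg
      rw [c5, Finset.sum_pair c4, B.δ_triv hB, c3, c7, triv_apply] at this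
      simp only [χ] at this
      push_cast at this
      linear_combination -this
    have h5 := B.alt_sq H5.isIrrCharacter_one S.inertia_one he c7 hφ c8
      (H5.isCharacter_of_isIrr φ.2) c8 (B.α φ) (μ := fun _ => 1) (by simp) (by simp)
      (fun i hi v => by
        rw [B.valY hφ hi, sum_card_two _ (S.card_autH_one.trans he)
          fun h => ech p (B.α φ * h * i), c7]
        simp) (g := w) (hw ▸ hrp)
    rw [c9 w (hw ▸ hrp)] at h5
    by_cases h6 : r = 2
    · rw [show w * w = 1 by rw [← pow_two, ← h6, ← hw, pow_orderOf_eq_one], cast_degree_irr, c8,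
        Nat.cast_sub (by omega)] at h5
      have h7 : ((Nat.card (fixedBy α w) : ℤ) - p) * (Nat.card (fixedBy α w) - 1) = 0 := by
        have : ((Nat.card (fixedBy α w) : ℂ) - p) * (Nat.card (fixedBy α w) - 1) = 0 := by
          push_cast at h5; linear_combination h5
        exact_mod_cast this
      rcases mul_eq_zero.mp h7 with h | h <;> omega
    obtain ⟨k, hk⟩ := hr.odd_of_ne_two h6
    have h7 : fixedBy α (w * w) = fixedBy α w := subset_antisymm (by
      have := fixed_pow (α := α) (w * w) (k + 1)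
      rwa [show (w * w) ^ (k + 1) = w by
        rw [← pow_two, ← pow_mul, show 2 * (k + 1) = r + 1 by omega, pow_succ, ← hw,
          pow_orderOf_eq_one, one_mul]] at this) (pow_two w ▸ fixed_pow w 2)
    rw [c9 _ fun h => hrp (hw ▸ h.trans (pow_two w ▸ orderOf_pow_dvd 2)), h7] at h5
    have h8 : ((Nat.card (fixedBy α w) : ℤ) - p) * (Nat.card (fixedBy α w) - 2) = 0 := by
      have : ((Nat.card (fixedBy α w) : ℂ) - p) * (Nat.card (fixedBy α w) - 2) = 0 := by
        linear_combination h5
      exact_mod_cast this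
    rcases mul_eq_zero.mp h8 with h | h <;> omega
  obtain ⟨F, _, _, h5, h6⟩ := h4
  exact Or.inr ⟨a, F, _, _, hα ▸ h3, h5, h6⟩

end Cfsg.Agent.S4706
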