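import Cfsg.Statements.S4745
import Cfsg.Agent.H86.NoTwoP
import Cfsg.Agent.S0205
import Cfsg.Agent.S0225
import Cfsg.Agent.BEND.Main
import Cfsg.Agent.H6.SL2CD
import Cfsg.Agent.H6.Clifford
import Cfsg.Agent.H89.GlaubS

set_option autoImplicit false
open Cfsg

namespace Cfsg.Agent.S4745

open Cfsg.Agent.H86.N2p Cfsg.Agent.H87 Subgroup MulAction

section
set_option linter.unusedSectionVars false
variable {G : Type*} [Group G] [Finite G] {p : ℕ} [hp : Fact p.Prime]

theorem dz (N : Subgroup G) [N.Normal] (θ : IrrCharacter N)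
    (h : p ^ (Nat.card G).factorization p ∣ (H6.inertia N θ.1).index * charDegree θ.1) :
    ∃ χ : IrrCharacter G, (charDegree χ.1).factorization p = (Nat.card G).factorization p := by
  have := Fintype.ofFinite G
  have := Fintype.ofFinite N
  obtain ⟨χ, hχ⟩ := H89.exists_irr_over N.subtype (subtype_injective N) θ
  have h1 := H89.mlt_irr N.subtype χ θ
  have h2 := H6.clifford_degree N χ.2 θ.2 (fun e => hχ (by exact_mod_cast h1.symm.trans e))
  rw [show classInner (fun n : N => χ.1 n) θ.1 = _ from h1, ← H32.cast_charDegree_irr,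
    ← H32.cast_charDegree_irr, mul_assoc] at h2
  refine ⟨χ, le_antisymm (H32.factorization_charDegree_le p χ)
    ((hp.out.pow_dvd_iff_le_factorization (H32.charDegree_ne_zero χ)).1 (h.trans ?_))⟩
  exact Dvd.intro_left _ (by exact_mod_cast h2.symm)

theorem hsq {M : Type*} [Group M] (hp2 : p ≠ 2) (P : Sylow p G) (f : P →* M) (u : P)
    (h : f u ^ 2 = 1) : f u = 1 := by
  obtain ⟨k, hk⟩ := P.2 u
  exact (pow_eq_one_iff_of_coprime (Nat.coprime_two_left.2 (hp.out.odd_of_ne_two hp2).pow)).1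
    ⟨h, by rw [← map_pow, hk, map_one]⟩

theorem dvd_both {a b r : ℕ} (h : a * b = p ^ r) (ha : 1 < a) (hb : 1 < b) : p ∣ a ∧ p ∣ b := by
  obtain ⟨i, -, rfl⟩ := (Nat.dvd_prime_pow hp.out).1 (Dvd.intro _ h)
  obtain ⟨j, -, rfl⟩ := (Nat.dvd_prime_pow hp.out).1 (Dvd.intro_left _ h)
  exact ⟨dvd_pow_self p (by rintro rfl; simp at ha), dvd_pow_self p (by rintro rfl; simp at hb)⟩

theorem arB (hp2 : p ≠ 2) {m r : ℕ} (hm : 1 ≤ m) (h : (2 ^ (2 * m + 1)) ^ 2 + 1 = p ^ r) : False := by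
  obtain ⟨y, hy⟩ : ∃ y, 2 ^ m = y + 2 := ⟨2 ^ m - 2, by
    have := Nat.pow_le_pow_right (show 0 < 2 by norm_num) hm; omega⟩
  obtain ⟨h1, h2⟩ := dvd_both (a := 2 * y ^ 2 + 6 * y + 5 + 4 * (y + 2)) (b := 2 * y ^ 2 + 6 * y + 5)
    (by rw [← h, pow_succ 2, pow_mul', hy]; ring) (by omega) (by omega)
  rw [Nat.dvd_add_right h2, ← hy, show 4 * 2 ^ m = 2 ^ (m + 2) by ring] at h1
  exact hp2 ((Nat.prime_dvd_prime_iff_eq hp.out Nat.prime_two).1 (hp.out.dvd_of_dvd_pow h1))

theorem arC {q r : ℕ} (hq : 4 ≤ q) (h : q ^ 3 + 1 = p ^ r) : False := by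
  obtain ⟨y, rfl⟩ : ∃ y, q = y + 2 := ⟨q - 2, by omega⟩
  replace h : (y + 3) * (y * (y + 3) + 3) = p ^ r := by rw [← h]; ring
  obtain ⟨h1, h2⟩ := dvd_both h (by omega) (by omega)
  obtain rfl := (Nat.prime_dvd_prime_iff_eq hp.out Nat.prime_three).1
    ((Nat.dvd_add_right (h1.mul_left y)).1 h2)
  obtain ⟨k, hk⟩ := (Nat.dvd_add_left dvd_rfl).1 h1
  subst hk
  obtain ⟨j, -, hj⟩ := (Nat.dvd_prime_pow hp.out).1 (Dvd.intro_left _ h)
  rcases j with _ | _ | j
  · omega
  · have : 0 < 3 * k * (3 * k + 3) := Nat.mul_pos (by omega) (by omega)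
    omega
  · have : 9 * (k * k + k) + 3 = 9 * 3 ^ j := by linear_combination hj
    omega

end


/-- Let p be an odd prime and G a finite group of even order divisible by p in which the centralizer of every non-identity p-element has odd order, and suppose G acts faithfully and transitively on a set with p ^ r elements, r ≥ 1. Then either G has an irreducible character of p-defect zero, or G is p-solvable and has an irreducible character of 2-defect zero. -/
theorem result {G Ω : Type*} [Group G] [Finite G] [MulAction G Ω] [FaithfulSMul G Ω] [Fintype Ω] (htr : MulAction.IsPretransitive G Ω) (p : ℕ) [Fact p.Prime] (hp2 : p ≠ 2) (hpG : p ∣ Nat.card G) (h2G : 2 ∣ Nat.card G) (hC : ∀ g : G, g ≠ 1 → (∃ k : ℕ, orderOf g = p ^ k) → Odd (Nat.card ↥(Subgroup.centralizer ({g} : Set G)))) (r : ℕ) (hr : 1 ≤ r) (hΩ : Fintype.card Ω = p ^ r) : (∃ χ : Cfsg.IrrCharacter G, (Cfsg.charDegree (χ : G → ℂ)).factorization p = (Nat.card G).factorization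 p) ∨ (Cfsg.IsPSolvable p G ∧ ∃ χ : Cfsg.IrrCharacter G, (Cfsg.charDegree (χ : G → ℂ)).factorization 2 = (Nat.card G).factorization 2) := by
  have hp : p.Prime := Fact.out
  refine or_iff_not_imp_left.2 fun hno => ?_
  have H : H2 G p := fun t x ht hc k hk => by_contra fun h1 => by
    obtain ⟨j, -, hj⟩ := (Nat.dvd_prime_pow hp).1 (orderOf_dvd_of_pow_eq_one hk)
    refine (hC x h1 ⟨j, hj⟩).not_two_dvd_nat ?_
    rw [← ht]
    exact orderOf_dvd_natCard _ (mem_centralizer_singleton_iff.2 hc)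
  have hS := fun t => H.exists_sylow hp2 (fun χ e => hno ⟨χ, e⟩) (t := t)
  have hidx : ∀ a : Ω, (stabilizer G a).index = p ^ r := fun a => by
    rw [index_stabilizer_of_transitive, Nat.card_eq_fintype_card, hΩ]
  have hT : ∀ (P : Sylow p G) (a b : Ω), ∃ u ∈ (P : Subgroup G), u • a = b := fun P a b => by
    obtain ⟨g, rfl⟩ := exists_smul_eq G a b
    obtain ⟨u, hu, s, hs, rfl⟩ := (H49.isProd_of_coprime_relIndex (H := P) (K := stabilizer G a)
      le_top le_top (by
        rw [relIndex_top_right, relIndex_top_right, hidx]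
        exact (hp.coprime_iff_not_dvd.2 P.not_dvd_index).symm.pow_right _)).2.2 g (mem_top g)
    exact ⟨u, hu, by rw [mul_smul, mem_stabilizer_iff.1 hs]⟩
  have hF : ∀ g : G, (∀ c : Ω, g • c = c) → g = 1 := fun g h =>
    eq_of_smul_eq_smul (α := Ω) fun c => by rw [h, one_smul]
  have hR : ∀ (P : Sylow p G) (t : G), (∀ u ∈ (P : Subgroup G), t * u * t⁻¹ = u⁻¹) →
      ∀ u ∈ (P : Subgroup G), ∀ a : Ω, u • a = a → u = 1 := fun P t h u hu a e => hF u fun c => by
    obtain ⟨v, hv, rfl⟩ := hT P a c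
    rw [← mul_smul, comm_of_inverts h hu hv, mul_smul, e]
  obtain ⟨t, ht⟩ := exists_prime_orderOf_dvd_card' 2 h2G
  by_cases h4 : SUZ.Rank2 (⊤ : Subgroup G)
  · exfalso
    have hU : H43.Uniq G Ω := fun s hs x y hx hy => by
      obtain ⟨P, hP⟩ := hS s hs
      obtain ⟨u, hu, rfl⟩ := hT P x y
      have h1 : u⁻¹ • x = u • x := by
        rw [← hP u hu, mul_smul, mul_smul, inv_smul_eq_iff.2 hx.symm, hy]
      have h2 := hsq hp2 P (P : Subgroup G).subtype ⟨u, hu⟩ (hR P s hP _ (pow_mem hu 2) x (by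
        change u ^ 2 • x = x
        rw [pow_two, mul_smul, ← h1, smul_inv_smul]))
      rw [show u = 1 from h2, one_smul]
    have hI : ∀ c : Ω, ∃ s : G, orderOf s = 2 ∧ s • c = c := fun c => by
      have : Fact (Nat.Prime 2) := ⟨Nat.prime_two⟩
      obtain ⟨a, ha⟩ := (IsPGroup.of_card (p := 2) (n := 1) (G := zpowers t)
        (by rw [Nat.card_zpowers, ht, pow_one])).nonempty_fixed_point_of_prime_not_dvd_card Ω (by
          rw [Nat.card_eq_fintype_card, hΩ]
          exact (hp.odd_of_ne_two hp2).pow.not_two_dvd_nat)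
      obtain ⟨g, rfl⟩ := exists_smul_eq G a c
      refine ⟨g * t * g⁻¹, by rw [← ht]; exact (MulAut.conj g).orderOf_eq t, ?_⟩
      rw [mul_smul, inv_smul_smul, mul_smul, show t • a = a from ha ⟨t, mem_zpowers t⟩]
    obtain ⟨a, b, hab⟩ := Fintype.exists_pair_of_one_lt_card (α := Ω)
      (by rw [hΩ]; exact Nat.one_lt_pow (by omega) hp.one_lt)
    obtain ⟨Q, hQ⟩ := BEND.SE.suz ⟨⟨exists_smul_eq G, hU, hI, a, b, hab⟩, h4, hF⟩ a
    obtain ⟨s, hs, hsb⟩ := hI b
    obtain ⟨h1, -, h2⟩ := hQ s hs fun e => hab (hU s hs a b e hsb)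
    have h3 := (H41.R1.card_Ω h1.setup).symm
    rw [Nat.card_eq_fintype_card (α := Ω), hΩ] at h3
    rcases h2 with ⟨hA, F, _, _, n, hn, h5, h6, ⟨e⟩⟩ | ⟨hB, -⟩ | ⟨hC, -, -, -, n, hn, h5, -⟩
    · have h7 : 4 ≤ 2 ^ n := Nat.pow_le_pow_right (show 0 < 2 by norm_num) hn
      obtain ⟨θ, hθ⟩ := H6.charDegrees_subset_of_surjective e.toMonoidHom e.surjective
        (H6.psl2_degrees_mem (F := F) (h6 ▸ h7) (h6 ▸ fun e => by
          have : 2 ∣ 2 ^ n := dvd_pow_self 2 (by omega)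
          omega)).2.1
      refine hno (dz _ θ (Dvd.dvd.mul_left ?_ _))
      obtain ⟨P, hP⟩ := hS t ht
      rw [hθ, h6, ← h5, le_antisymm h1.Q0_le fun x hx => h1.mem_Q0.2 ⟨hx, hA x hx⟩, h3]
      refine pow_dvd_pow p ((Nat.pow_le_pow_iff_right hp.one_lt).1 ?_)
      rw [← P.card_eq_multiplicity, ← hΩ, ← Nat.card_eq_fintype_card]
      refine Nat.card_le_card_of_injective (fun u => (u : G) • a) fun u v e => Subtype.ext ?_
      exact (inv_mul_eq_one.1 (hR P t hP _ (mul_mem (inv_mem v.2) u.2) a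
        (by rw [mul_smul, inv_smul_eq_iff]; exact e))).symm
    · obtain ⟨m, hm, h5⟩ := hB.odd
      exact arB hp2 hm (by rw [← h5, ← hB.card, h3])
    · exact arC (h5.ge.trans' (Nat.pow_le_pow_right (show 0 < 2 by norm_num) hn)) (hC.card ▸ h3)
  obtain ⟨z, hz, N, hN, hNo, hzN⟩ := S0225.result (even_iff_two_dvd.2 h2G) fun E hE => h4 (by
    have := Fintype.ofFinite E
    obtain ⟨a, b, c, h1, h2, h3⟩ := (Fintype.two_lt_card_iff (α := E)).1
      (by rw [← Nat.card_eq_fintype_card, hE.card_four]; norm_num)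
    exact ⟨(a⁻¹ * b : E), mem_top _, (a⁻¹ * c : E), mem_top _, by simpa [inv_mul_eq_one] using h1,
      by simpa [inv_mul_eq_one] using h2, by simpa using h3,
      congrArg Subtype.val (IsKleinFour.mul_self (a⁻¹ * b)),
      congrArg Subtype.val (IsKleinFour.mul_self (a⁻¹ * c)),
      congrArg Subtype.val (mul_comm_of_exponent_two hE.exponent_two (a⁻¹ * b) (a⁻¹ * c))⟩)
  obtain ⟨P, hP⟩ := hS z hz
  have hPN : (P : Subgroup G) ≤ N := fun u hu => (QuotientGroup.eq_one_iff u).1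
    (hsq hp2 P ((QuotientGroup.mk' N).comp (P : Subgroup G).subtype) ⟨u, hu⟩
      ((QuotientGroup.eq_one_iff (u ^ 2)).2 (by
        simpa [hP u hu, pow_two] using inv_mem (hzN u))))
  have := S0205.result hNo
  have hps : IsPSolvable p G := H22.isPSolvable_of_normal_of_quotient N H22.isPSolvable_of_isSolvable
    (H22.isPSolvable_of_coprime (hp.coprime_iff_not_dvd.2 fun h =>
      P.not_dvd_index (h.trans (index_dvd_of_le hPN))).symm)
  refine ⟨hps, ?_⟩
  have h1 : pPrimeCore p G = ⊥ := eq_bot_iff.2 fun g hg => hF g fun c => by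
    refine (relIndex_eq_one (H := stabilizer G c)).1 (Nat.eq_one_of_dvd_coprimes
      (H22.coprime_card_pPrimeCore.pow_right r) (relIndex_dvd_card _ _) ?_) hg
    rw [← H49.relIndex_sup_of_norm (Or.inr le_normalizer_of_normal), ← hidx c]
    exact relIndex_dvd_index_of_le le_sup_right
  have h2 := (ab_sylow hps P fun a ha b hb => comm_of_inverts hP ha hb).1
  rw [h1, bot_sup_eq] at h2
  have := normalizer_eq_top_iff.1 h2
  obtain ⟨a, ha, ha1⟩ := H49.ne_bot_iff_exists.1 (P.ne_bot_of_dvd_card hpG)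
  obtain ⟨χ, hχ, h3⟩ : ∃ χ, IsIrrCharacter P χ ∧ χ ⟨a, ha⟩ ≠ χ 1 := by
    by_contra h
    push Not at h
    exact ha1 (congrArg Subtype.val (H5.eq_one_of_forall_irr h))
  obtain ⟨l, rfl⟩ := H5.exists_monoidHom_of_comm
    (fun a b => Subtype.ext (comm_of_inverts hP a.2 b.2)) hχ
  have : Fact (Nat.Prime 2) := ⟨Nat.prime_two⟩
  refine dz (P : Subgroup G) ⟨_, hχ⟩ (Dvd.dvd.mul_right ?_ _)
  refine (Nat.Coprime.pow_left _ (Nat.prime_two.coprime_iff_not_dvd.2 fun h => h3 ?_)).dvd_of_dvd_mul_left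
    (by rw [card_mul_index]; exact Nat.ordProj_dvd _ 2)
  obtain ⟨s, hs⟩ := exists_prime_orderOf_dvd_card' 2 h
  have h5 := (H6.mem_inertia_iff _).1 s.2 ⟨a, ha⟩
  have h6 := H.inverts (by rwa [orderOf_coe]) P.2 (h2.ge (mem_top (s : G))) ha
  simp only [h6, Units.val_inj] at h5 ⊢
  rw [map_one]
  refine hsq hp2 P l _ ?_
  rw [pow_two]
  nth_rw 1 [← h5]
  rw [← map_mul]
  exact (congrArg l (Subtype.ext (inv_mul_cancel a))).trans (map_one l)

end Cfsg.Agent.S4745
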