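import Cfsg.Statements.S4759
import Cfsg.Agent.H84.XE4
import Cfsg.Agent.H30.ExtGroup
import Cfsg.Agent.H5.Central

set_option autoImplicit false
set_option linter.style.haveILetI false
open Cfsg

namespace Cfsg.Agent.S4759
open Cfsg.Agent.H84.XE
open scoped commutatorElement

/-- Let G be a finite group that is the semidirect product of a normal extraspecial 2-subgroup E and a complement H acting faithfully on E (no non-identity element of H centralizes E), and suppose H has a normal subgroup K of odd order with [E, K] = E. Then every faithful irreducible character θ of E (there is exactly one) extends to G: some irreducible character of G restricts to θ on E. -/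
theorem result {G : Type*} [Group G] [Finite G] (E H : Subgroup G) [E.Normal] (hE : Cfsg.IsExtraspecial 2 ↥E) (hEH : E ⊓ H = ⊥) (hEHtop : E ⊔ H = ⊤) (hfaith : ∀ h ∈ H, (∀ e ∈ E, h * e = e * h) → h = 1) (K : Subgroup G) (hKH : K ≤ H) (hKn : ∀ h ∈ H, ∀ k ∈ K, h * k * h⁻¹ ∈ K) (hKodd : Odd (Nat.card ↥K)) (hEK : ⁅E, K⁆ = E) (θ : Cfsg.IrrCharacter ↥E) (hθ : ∀ e : ↥E, (θ : ↥E → ℂ) e = (θ : ↥E → ℂ) 1 → e = 1) : ∃ χ : Cfsg.IrrCharacter G, ∀ e : ↥E, (χ : G → ℂ) e = (θ : ↥E → ℂ) e := by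
  classical
  obtain ⟨θ, m, ρ, hρ, rfl⟩ := θ
  haveI := Fintype.ofFinite E
  haveI := H7.nontrivial_of_irreducible ρ
  letI : MulDistribMulAction G E := MulDistribMulAction.compHom E (MulAut.conjNormal (H := E))
  obtain ⟨⟨z, zc⟩, z1, zu⟩ := (Nat.card_eq_two_iff' (1 : Subgroup.center E)).1 hE.2
  have hZ : ∀ x ∈ Subgroup.center E, Zc z x := fun x hx =>
    (em (x = 1)).imp_right fun e => congrArg Subtype.val (zu ⟨x, hx⟩ fun k => e (congrArg Subtype.val k))
  have z1' : z ≠ 1 := fun e => z1 (Subtype.ext e)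
  have cz : Cz z := ⟨z1', (hZ _ (mul_mem zc zc)).resolve_right fun e => z1' (by simpa using e),
    fun x => (Subgroup.mem_center_iff.1 zc x).symm, fun x y =>
      (hZ ⁅x, y⁆ (hE.1.2.2 ▸ Subgroup.commutator_mem_commutator trivial trivial)).imp
        commutatorElement_eq_one_iff_mul_comm.1 fun e => by rw [← e, commutatorElement_def]; group⟩
  have m0 : (Module.finrank ℂ (Fin m → ℂ) : ℂ) ≠ 0 := Nat.cast_ne_zero.2 Module.finrank_pos.ne'
  have ρz : ρ z = -1 := by
    obtain ⟨c, hc⟩ := H7.exists_eq_smul_id_of_comm ρ (ρ z) fun g => by rw [← map_mul, ← map_mul, cz.zc]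
    have c2 : c * c = 1 := smul_left_injective ℂ (one_ne_zero (α := Module.End ℂ (Fin m → ℂ))) (by
      have := congrArg ρ cz.zz
      rw [map_mul, hc, map_one, smul_mul_smul_comm, mul_one] at this
      simpa using this)
    rcases mul_self_eq_one_iff.1 c2 with rfl | rfl
    · exact absurd (hθ z (by
        change LinearMap.trace ℂ _ (ρ z) = LinearMap.trace ℂ _ (ρ 1)
        rw [hc, one_smul, map_one ρ])) z1'
    · rw [hc]; exact neg_one_smul ℂ (1 : Module.End ℂ (Fin m → ℂ))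
  let τ : Module.End ℂ (Fin m → ℂ) →ₗ[ℂ] ℂ :=
    (Module.finrank ℂ (Fin m → ℂ) : ℂ)⁻¹ • LinearMap.trace ℂ _
  have sy : Sys z ρ τ :=
    { cz with
      nd := fun x hx => hZ x (Subgroup.mem_center_iff.2 fun y => (hx y).symm)
      ρz := ρz
      tr := fun x y => by simp only [τ, LinearMap.smul_apply, LinearMap.trace_mul_comm ℂ x y]
      t1 := by simp only [τ, LinearMap.smul_apply, LinearMap.trace_one, smul_eq_mul, inv_mul_cancel₀ m0] }
  have hinv : ∀ (g : G) (n : E), ρ.character ⟨g * n * g⁻¹,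
      (inferInstance : E.Normal).conj_mem _ n.2 g⟩ = ρ.character n := fun g n => by
    have k := sy.tau_rho (MulAut.conjNormal g n)
    rw [tt_map _ (sy.fixz _), ← sy.tau_rho] at k
    exact mul_left_cancel₀ (inv_ne_zero m0) k
  let D := H30.extDatum E ρ hinv
  choose γ hγ using D.π_surj
  let al : G → Module.End ℂ (Fin m → ℂ) →ₐ[ℂ] Module.End ℂ (Fin m → ℂ) := fun g =>
    AlgHom.ofLinearMap ((LinearMap.mulRight ℂ ((γ g).1.2⁻¹).1).comp (LinearMap.mulLeft ℂ (γ g).1.2.1))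
      (by simp) fun x y => by simp [mul_assoc]
  have top : Top z ρ τ al :=
    { cz with
      ρz := ρz
      tr := sy.tr
      t1 := sy.t1
      hal := fun g e => by
        change (γ g).1.2.1 * ρ e * ((γ g).1.2⁻¹).1 = _
        rw [(γ g).2 e, Units.mul_inv_cancel_right]
        exact congrArg ρ (Subtype.ext (congrArg (fun x : G => x * e * x⁻¹) (hγ g)))
      gz := fun g => sy.fixz (MulAut.conjNormal g) }
  obtain ⟨P, hP⟩ := IsPGroup.exists_le_sylow (P := E) hE.1.1
  obtain ⟨U, hU⟩ := top.main _ ⊤ K (P ⊓ H) (Nat.lt_succ_self _)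
    ⟨trivial, fun x _ hx => sy.nd x fun y => hx y trivial⟩ hKodd (P.2.to_le inf_le_left)
    (fun r hr => hKn r hr.2) (le_St fun _ _ _ _ => trivial) (le_St fun _ _ _ _ => trivial)
    fun x hx => sy.nd x fun y => by
      have : E ≤ Subgroup.centralizer {x.1} := hEK.ge.trans (Subgroup.commutator_le.2 fun e he k hk => by
        have k1 : sg x (⟨e, he⟩ * k • (⟨e, he⟩ : E)⁻¹) = 1 := by
          rw [cz.sg_mul, ← sg_smul k⁻¹ x (k • _), inv_smul_smul, hx.2 _ (inv_mem hk), cz.sg_inv, sg_sq]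
        have k2 := congrArg Subtype.val (sg_eq_one.1 k1)
        refine Subgroup.mem_centralizer_singleton_iff.2 ?_
        change x.1 * (e * (k * e⁻¹ * k⁻¹)) = e * (k * e⁻¹ * k⁻¹) * x.1 at k2
        simpa only [commutatorElement_def, mul_assoc] using k2.symm)
      exact Subtype.ext (Subgroup.mem_centralizer_singleton_iff.1 (this y.2)).symm
  let U' : ↥(P.1 ⊓ H) →* Module.End ℂ (Fin m → ℂ) := ⟨⟨fun r => U r, hU.one⟩, fun a b => hU.mul _ a.2 _ b.2⟩
  let u : ↥(P.1 ⊓ H) →* H30.extGroup E ρ :=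
    ((P.1 ⊓ H).subtype.prod U'.toHomUnits).codRestrict _ fun r n => (hU.int r r.2).2 n trivial
  haveI := D.normal_range_ν
  have hΔ : D.ν.range ⊔ u.range ≤ P.1.comap D.π :=
    sup_le (by rintro _ ⟨n, rfl⟩; exact hP n.2) (by rintro _ ⟨r, rfl⟩; exact r.2.1)
  let f : ↥(D.ν.range ⊔ u.range) →* P := (D.π.comp (Subgroup.subtype _)).codRestrict _ fun x => hΔ x.2
  have hf : Function.Bijective f := by
    refine ⟨(injective_iff_map_eq_one f).2 fun ⟨x, hx⟩ e => ?_, fun ⟨g, hg⟩ => ?_⟩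
    · obtain ⟨_, ⟨n, rfl⟩, _, ⟨r, rfl⟩, rfl⟩ := Subgroup.mem_sup_of_normal_left.1 hx
      have e1 : n.1 * r.1 = 1 := congrArg Subtype.val e
      have e2 : r.1 = 1 := Subgroup.mem_bot.1 (hEH.le
        (Subgroup.mem_inf.2 ⟨eq_inv_of_mul_eq_one_right e1 ▸ inv_mem n.2, r.2.2⟩))
      rw [e2, mul_one] at e1
      exact Subtype.ext (by simp [show n = 1 from Subtype.ext e1, show r = 1 from Subtype.ext e2])
    · obtain ⟨e, he, k, hk, rfl⟩ := Subgroup.mem_sup_of_normal_left.1 (hEHtop.ge (Subgroup.mem_top g))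
      exact ⟨⟨D.ν ⟨e, he⟩ * u ⟨k, (P.1.mul_mem_cancel_left (hP he)).1 hg, hk⟩,
        Subgroup.mul_mem_sup ⟨_, rfl⟩ ⟨_, rfl⟩⟩, rfl⟩
  let φ := MulEquiv.ofBijective f hf
  have g1 := D.good_of_section P hP ((Subgroup.subtype _).comp φ.symm.toMonoidHom)
    (fun h => congrArg Subtype.val (φ.apply_symm_apply h)) fun n =>
      congrArg Subtype.val (φ.symm_apply_apply ⟨D.ν n, Subgroup.mem_sup_left ⟨n, rfl⟩⟩)
  have g2 := H30.good_of_det_pow E ρ hinv (Nat.card E) 1 fun n => by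
    rw [← map_pow, ← map_pow, pow_card_eq_one', map_one, map_one]; rfl
  obtain ⟨k, hk⟩ := hE.1.1.exists_card_eq
  have hd := H5.degree_dvd_card (H5.isIrrCharacter_character ρ) ρ.char_one
  obtain ⟨χ, h1, h2⟩ := H30.exists_extension_of_good_one E ρ hinv (g2.one_of_coprime g1
    (Nat.Coprime.coprime_dvd_left (mul_dvd_mul_right hd _) (by
      rw [hk, ← pow_add]
      exact ((Nat.Prime.coprime_iff_not_dvd Nat.prime_two).2 P.not_dvd_index).pow_left _)))
  exact ⟨⟨χ, h1⟩, h2⟩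

end Cfsg.Agent.S4759
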