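import Cfsg.Statements.S4776
import Cfsg.Agent.H86.DegG

set_option autoImplicit false
open Cfsg

namespace Cfsg.Agent.S4776

/-- Let N be a normal subgroup of the finite group G that is not perfect and is contained in the derived subgroup of G. Consider the common-divisor graph on the relative degree set cd(G|N) (the degrees of the irreducible complex characters of G whose kernel does not contain N; two distinct degrees adjacent when they have a common divisor greater than one). Then this graph has at most two connected components; and if a, b ∈ cd(G|N) lie in different components, then one of a, b is coprime to the index m of the derived subgroup of N in N while the other is divisible by every prime divisor of m. -/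
theorem result {G : Type*} [Group G] [Finite G] (N : Subgroup G) [N.Normal] (hN : ⁅N, N⁆ < N) (hNG : N ≤ commutator G) : Nat.card (Cfsg.commonDivisorGraph.induce (Cfsg.relCharDegrees N)).ConnectedComponent ≤ 2 ∧ ∀ (a b : ℕ) (ha : a ∈ Cfsg.relCharDegrees N) (hb : b ∈ Cfsg.relCharDegrees N), ¬ (Cfsg.commonDivisorGraph.induce (Cfsg.relCharDegrees N)).Reachable ⟨a, ha⟩ ⟨b, hb⟩ → (Nat.Coprime a (⁅N, N⁆.relIndex N) ∧ ∀ r : ℕ, r.Prime → r ∣ ⁅N, N⁆.relIndex N → r ∣ b) ∨ (Nat.Coprime b (⁅N, N⁆.relIndex N) ∧ ∀ r : ℕ, r.Prime → r ∣ ⁅N, N⁆.relIndex N → r ∣ a) := by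
  have := Fintype.ofFinite G
  have := Fintype.ofFinite N
  rw [H86.relIndex_comm_eq]
  refine ⟨?_, fun a b ha hb => H86.rel_split hNG ha hb⟩
  obtain ⟨p, hp, hd⟩ := Nat.exists_prime_and_dvd (n := (commutator N).index) fun h =>
    hN.not_ge (Subgroup.relIndex_eq_one.1 (H86.relIndex_comm_eq.trans h))
  have nc : ∀ {x : ℕ}, p ∣ x → ¬ x.Coprime (commutator N).index := fun h2 h =>
    hp.ne_one (Nat.eq_one_of_dvd_coprimes h h2 hd)
  have lk : ∀ {a b : relCharDegrees N}, p ∣ a.1 → p ∣ b.1 →
      (commonDivisorGraph.induce (relCharDegrees N)).Reachable a b := fun {a b} h1 h2 =>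
    H86.reach_of_not_coprime a.2 b.2 fun h => hp.ne_one (Nat.eq_one_of_dvd_coprimes h h1 h2)
  by_contra h
  have : Finite (commonDivisorGraph.induce (relCharDegrees N)).ConnectedComponent :=
    Nat.finite_of_card_ne_zero (by omega)
  have := Fintype.ofFinite (commonDivisorGraph.induce (relCharDegrees N)).ConnectedComponent
  rw [Nat.card_eq_fintype_card] at h
  obtain ⟨⟨a⟩, ⟨b⟩, ⟨c⟩, h1, h2, h3⟩ := Fintype.two_lt_card_iff.1 (not_le.1 h)
  have key : ∀ {a b : relCharDegrees N}, Quot.mk (commonDivisorGraph.induce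
      (relCharDegrees N)).Reachable a ≠ Quot.mk _ b → (p ∣ a.1 ↔ ¬ p ∣ b.1) := fun {a b} h => by
    refine ⟨fun h1 h2 => h (Quot.sound (lk h1 h2)), fun h1 => ?_⟩
    rcases H86.rel_split hNG a.2 b.2 fun h1 => h (Quot.sound h1) with h2 | h2
    · exact absurd (h2.2 p hp hd) h1
    · exact h2.2 p hp hd
  have := key h1
  have := key h2
  have := key h3
  tauto

end Cfsg.Agent.S4776
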