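import Cfsg.Statements.S4779
import Cfsg.Agent.H86.DegG

set_option autoImplicit false
open Cfsg

namespace Cfsg.Agent.S4779

open scoped commutatorElement

theorem dvd_index {H : Type*} [Group H] [Finite H] {η : H → ℂ} (h : IsIrrCharacter H η) {d : ℕ}
    (hd : η 1 = d) (A : Subgroup H) [A.Normal] (hA : ∀ a ∈ A, ∀ b ∈ A, η ⁅a, b⁆ = η 1) :
    d ∣ A.index := by
  let K := H5.charKer (H5.isCharacter_of_isIrr h)
  obtain ⟨φ, h1, h2⟩ := H5.exists_isIrr_quotient K h fun g hg => hg
  have := (inferInstance : A.Normal).map _ (QuotientGroup.mk'_surjective K)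
  refine (H6.degree_dvd_index_of_abelian_normal (A.map (QuotientGroup.mk' K)) ?_ h1 ((congrFun h2 1).symm.trans hd)).trans
    (A.index_map_dvd (QuotientGroup.mk'_surjective K))
  rintro _ ⟨a, ha, rfl⟩ _ ⟨b, hb, rfl⟩
  rw [← commutatorElement_eq_one_iff_mul_comm, ← map_commutatorElement]
  exact (QuotientGroup.eq_one_iff _).2 (hA a ha b hb)


/-- Let N be a solvable normal subgroup of the finite group G contained in the derived subgroup of G, and consider the common-divisor graph on the relative degree set cd(G|N) (degrees of irreducible complex characters of G whose kernel does not contain N, two distinct degrees adjacent when not coprime). If this graph has two vertices that are not joined by any path, then there is a vertex a₀ such that any two distinct vertices in the component of a₀ are adjacent, and any two distinct vertices outside that component are adjacent or have a common neighbour (one component is complete, the other has diameter at most 2). -/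
theorem result {G : Type*} [Group G] [Finite G] (N : Subgroup G) [N.Normal] [Group.IsSolvable N] (hNG : N ≤ commutator G) (hdisc : ¬ (Cfsg.commonDivisorGraph.induce (Cfsg.relCharDegrees N)).Preconnected) : ∃ a₀ : ↥(Cfsg.relCharDegrees N), (∀ b c : ↥(Cfsg.relCharDegrees N), (Cfsg.commonDivisorGraph.induce (Cfsg.relCharDegrees N)).Reachable a₀ b → (Cfsg.commonDivisorGraph.induce (Cfsg.relCharDegrees N)).Reachable a₀ c → b ≠ c → (Cfsg.commonDivisorGraph.induce (Cfsg.relCharDegrees N)).Adj b c) ∧ (∀ b c : ↥(Cfsg.relCharDegrees N), ¬ (Cfsg.commonDivisorGraph.induce (Cfsg.relCharDegrees N)).Reachable a₀ b → ¬ (Cfsg.commonDivisorGraph.induce (Cfsg.relCharDegrees N)).Reachable a₀ c → b ≠ c → (Cfsg.commonDivisorGraph.induce (Cfsg.relCharDegrees N)).Adj b c ∨ ∃ d : ↥(Cfsg.relCharDegrees N), (Cfsg.commonDivisorGraph.induce (Cfsg.relCharDegrees N)).Adj b d ∧ (Cfsg.commonDivisorGraph.induce (Cfsg.relCharDegrees N)).Adj d c) := by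
  have := Fintype.ofFinite G
  have := Fintype.ofFinite N
  have := Fintype.ofFinite ↥⁅N, N⁆
  have slt : ∀ M : Subgroup G, M ≤ N → M ≠ ⊥ → (commutator M).index ≠ 1 := fun M hM h0 h => by
    have := Group.isSolvable_of_isSolvable_injective (Subgroup.inclusion_injective hM)
    have := (Subgroup.nontrivial_iff_ne_bot M).2 h0
    exact (Group.IsSolvable.commutator_lt_top_of_nontrivial M).ne (Subgroup.index_eq_one.1 h)
  have nb : ∀ {M : Subgroup G} {a : ℕ}, a ∈ relCharDegrees M → M ≠ ⊥ := by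
    rintro _ _ ⟨χ, ⟨x, hx, h⟩, -⟩ rfl
    exact h (by rw [Subgroup.mem_bot.1 hx])
  obtain ⟨a, b, hab, ha, hb⟩ : ∃ a b : relCharDegrees N,
      ¬ (commonDivisorGraph.induce (relCharDegrees N)).Reachable a b ∧
      a.1.Coprime (commutator N).index ∧ ∀ r : ℕ, r.Prime → r ∣ (commutator N).index → r ∣ b := by
    obtain ⟨a, b, h⟩ : ∃ a b, ¬ (commonDivisorGraph.induce (relCharDegrees N)).Reachable a b := by
      by_contra! h; exact hdisc h
    rcases H86.rel_split hNG a.2 b.2 h with h1 | h1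
    · exact ⟨a, b, h, h1⟩
    · exact ⟨b, a, fun h1 => h h1.symm, h1⟩
  obtain ⟨p, hp, hd⟩ := Nat.exists_prime_and_dvd (slt N le_rfl (nb a.2))
  have nc : ∀ {q x y : ℕ}, q ≠ 1 → q ∣ x → q ∣ y → ¬ x.Coprime y := fun h1 h2 h3 h =>
    h1 (Nat.eq_one_of_dvd_coprimes h h2 h3)
  have adj : ∀ {c d : relCharDegrees N}, c ≠ d → ¬ c.1.Coprime d.1 →
      (commonDivisorGraph.induce (relCharDegrees N)).Adj c d := fun {c d} h1 h2 => by
    refine ⟨fun h => h1 (Subtype.ext h), ?_⟩
    have : c.1.gcd d ≠ 0 := fun h => h1 (Subtype.ext (by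
      rw [Nat.gcd_eq_zero_iff] at h; rw [h.1, h.2]))
    change c.1.gcd d ≠ 1 at h2
    change 1 < c.1.gcd d
    omega
  have hY : ∀ c, (commonDivisorGraph.induce (relCharDegrees N)).Reachable b c → p ∣ c.1 :=
    fun c h => ((H86.rel_split hNG a.2 c.2 fun h1 => hab (h1.trans h.symm)).resolve_right
      fun h => nc hp.ne_one (h.2 p hp hd) hd ha).2 p hp hd
  refine ⟨b, fun c d h1 h2 h => adj h (nc hp.ne_one (hY c h1) (hY d h2)), fun c d h1 h2 h => ?_⟩
  by_cases h3 : c.1.Coprime d.1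
  swap
  · exact Or.inl (adj h h3)
  suffices H86.Near N c d by
    obtain ⟨e, he, h4, h5⟩ := this
    exact Or.inr ⟨⟨e, he⟩, adj (by rintro rfl; exact h5 h3) h4, adj (by rintro rfl; exact h4 h3) h5⟩
  have hX : ∀ {c}, ¬ (commonDivisorGraph.induce (relCharDegrees N)).Reachable b c →
      c.1.Coprime (commutator N).index := fun {c} h => ((H86.rel_split hNG b.2 c.2 h).resolve_left
        fun h => nc hp.ne_one (hb p hp hd) hd h.1).1
  obtain ⟨θ, hθ1, hθ⟩ := H86.exists_ov_of_mem c.2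
  obtain ⟨φ, hφ1, hφ⟩ := H86.exists_ov_of_mem d.2
  by_cases h4 : θ 1 = 1
  · exact hθ.near_of_linear hNG hφ hθ1 hφ1 h4 (hX h1) (hX h2) h3
  by_cases h5 : φ 1 = 1
  · obtain ⟨e, he, h6, h7⟩ := hφ.near_of_linear hNG hθ hφ1 hθ1 h5 (hX h2) (hX h1) h3.symm
    exact ⟨e, he, fun h => h7 h.symm, fun h => h6 h.symm⟩
  exfalso
  have hle : ⁅N, N⁆ ≤ N := Subgroup.commutator_le_left N N
  have mem : ∀ {c : ℕ} {θ : N → ℂ}, H86.Ov N c θ → θ 1 ≠ 1 → c ∈ relCharDegrees ⁅N, N⁆ := by
    rintro c θ ⟨h1, χ, h2, h3, h4⟩ h5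
    refine ⟨⟨χ, h2⟩, ?_, by simp [charDegree, h3]⟩
    by_contra! h
    obtain ⟨φ, h6, rfl⟩ := H5.exists_isIrr_quotient (commutator N) h1 fun g hg =>
      H5.apply_eq_degree_of_constituent (H5.isCharacter_restrict (H5.isCharacter_of_isIrr h2) N)
        h1 h4 (h g (N.map_subtype_commutator ▸ ⟨g, hg, rfl⟩))
    exact h5 (H5.degree_eq_one_of_comm (G := Abelianization N) mul_comm h6)
  obtain ⟨r, hr, hrd⟩ := Nat.exists_prime_and_dvd (slt _ hle (nb (mem hθ h4)))
  obtain ⟨lam, ho, h6⟩ := H86.exists_near (hle.trans hNG) hr hrd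
  obtain ⟨l, hl⟩ := H86.exists_ov (H30.isIrr_hom lam)
  have hl1 := hl.mem fun h => hr.ne_one (by
    rw [← ho, show lam = 1 from H30.homCoe_injective h, orderOf_one])
  have hl2 : l ∈ relCharDegrees N ∧ ¬ l.Coprime (commutator N).index := by
    obtain ⟨h7, χ, h8, h9, h10⟩ := hl
    have hχ := H5.isCharacter_of_isIrr h8
    obtain ⟨x, hx⟩ : ∃ x : ↥⁅N, N⁆, χ x ≠ χ 1 := by
      by_contra! h
      exact hr.ne_one (by
        rw [← ho, show lam = 1 from H30.homCoe_injective (H5.eq_one_of_forall_eq_degree h7 fun g =>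
          H5.apply_eq_degree_of_constituent (H5.isCharacter_restrict hχ _) h7 h10 (h g)),
          orderOf_one])
    refine ⟨⟨⟨χ, h8⟩, ⟨x, hle x.2, hx⟩, by simp [charDegree, h9]⟩, fun h => hx ?_⟩
    refine H6.apply_eq_degree_of_forall_constituent (H5.isCharacter_restrict hχ N)
      (g := ⟨x, hle x.2⟩) fun η e1 e2 => ?_
    obtain ⟨k, -, hk⟩ := H5.exists_pos_nat_degree e1
    have e3 : ∀ {y : N}, y ∈ commutator N → (y : G) ∈ ⁅N, N⁆ := fun {y} hy =>
      N.map_subtype_commutator ▸ ⟨y, hy, rfl⟩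
    obtain rfl := Nat.eq_one_of_dvd_coprimes h ((dvd_mul_left _ _).trans
      (H86.Ov.dvd ⟨e1, χ, h8, h9, e2⟩ hk)) (dvd_index e1 hk (commutator N) fun u hu v hv =>
        H5.apply_eq_degree_of_constituent (H5.isCharacter_restrict hχ N) e1 e2
          (H6.apply_eq_degree_of_forall_constituent (H5.isCharacter_restrict hχ ⁅N, N⁆)
            (g := ⁅(⟨u, e3 hu⟩ : ↥⁅N, N⁆), (⟨v, e3 hv⟩ : ↥⁅N, N⁆)⁆) fun ψ e4 e5 => by
              obtain ⟨g, rfl⟩ := H6.exists_conjChar_eq_of_constituent _ h8 h7 e4 h10 e5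
              have e6 : H6.conjChar _ g (fun g => (lam g : ℂ)) 1 = 1 := by
                rw [H6.conjChar_apply_one]; simp
              rw [e6, H86.hom_commutator_eq (H5.isCharacter_of_isIrr e4) e6
                (Subgroup.commutator_mem_commutator trivial trivial)]))
    rw [Nat.cast_one] at hk
    obtain ⟨y, hy, hyx⟩ : (x : G) ∈ (commutator N).map N.subtype := N.map_subtype_commutator.ge x.2
    rw [hk, H86.hom_commutator_eq (H5.isCharacter_of_isIrr e1) hk
      ((show (⟨x, hle x.2⟩ : N) = y from Subtype.ext hyx.symm) ▸ hy)]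
  have hbl : (commonDivisorGraph.induce (relCharDegrees N)).Reachable b ⟨l, hl2.1⟩ :=
    by_contra fun h => hl2.2 (hX h)
  have key : ∀ {c : relCharDegrees N}, c.1 ∈ relCharDegrees ⁅N, N⁆ →
      ¬ (commonDivisorGraph.induce (relCharDegrees N)).Reachable b c → r ∣ c.1 :=
    fun {c} h1 h2 => by_contra fun h => h2 (hbl.trans ((h6 l hl c h1 h).reach hle c.2 hl2.1).symm)
  exact nc hr.ne_one (key (mem hθ h4) h1) (key (mem hφ h5) h2) h3

end Cfsg.Agent.S4779
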