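import Cfsg.Statements.S4783
import Cfsg.Agent.H20.CdC

set_option autoImplicit false
open Cfsg

namespace Cfsg.Agent.S4783

/-- A finite solvable group with exactly four distinct irreducible complex character degrees has trivial fourth derived subgroup (derived length at most 4). -/
theorem result {G : Type*} [Group G] [Finite G] [Group.IsSolvable G] (hcd : Nat.card ↥(Cfsg.charDegrees G) = 4) : derivedSeries G 4 = ⊥ := by
  have h1 : 1 ∈ charDegrees G := ⟨H88.trivIrr G, H88.charDegree_trivIrr⟩
  have h2 : (charDegrees G \ {1}).ncard = 3 := by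
    rw [Set.ncard_diff_singleton_of_mem h1, ← Nat.card_coe_set_eq, hcd]
  obtain ⟨a, b, c, -, -, -, h3⟩ := Set.ncard_eq_three.1 h2
  refine H20.Cd.dl4_aux _ G a b c rfl fun χ hχ => or_iff_not_imp_left.2 fun h => ?_
  have : charDegree χ ∈ charDegrees G \ {1} := ⟨⟨⟨χ, hχ⟩, rfl⟩, h⟩
  rw [h3] at this
  simpa using this

end Cfsg.Agent.S4783
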