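import Cfsg.Statements.S4811
import Cfsg.Agent.H6.CDDich

set_option autoImplicit false
open Cfsg

namespace Cfsg.Agent.S4811

open Cfsg.Agent

theorem card_le_two {V : Type*} (Γ : SimpleGraph V) (s : Set V) (a b : V)
    (h : ∀ v ∈ s, (a ∈ s ∧ (v = a ∨ Γ.Adj v a)) ∨ (b ∈ s ∧ (v = b ∨ Γ.Adj v b))) :
    Nat.card (Γ.induce s).ConnectedComponent ≤ 2 := by
  classical
  have key : ∀ (v : s) (c : V) (hc : c ∈ s), (v = c ∨ Γ.Adj v c) →
      (Γ.induce s).connectedComponentMk v = (Γ.induce s).connectedComponentMk ⟨c, hc⟩ := by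
    rintro ⟨v, hv⟩ c hc (rfl | h)
    · rfl
    · exact SimpleGraph.ConnectedComponent.sound (SimpleGraph.Adj.reachable h)
  let F : (Γ.induce s).ConnectedComponent → Bool := fun C =>
    decide (∃ ha : a ∈ s, C = (Γ.induce s).connectedComponentMk ⟨a, ha⟩)
  have hF : Function.Injective F := by
    intro C D hCD
    simp only [F, decide_eq_decide] at hCD
    obtain ⟨v, rfl⟩ := C.exists_rep
    obtain ⟨w, rfl⟩ := D.exists_rep
    change (Γ.induce s).connectedComponentMk v = (Γ.induce s).connectedComponentMk w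
    rcases h v v.2 with ⟨ha, h1⟩ | ⟨hb, h1⟩
    · obtain ⟨_, h2⟩ := hCD.1 ⟨ha, key v a ha h1⟩
      exact (key v a ha h1).trans h2.symm
    · rcases h w w.2 with ⟨ha, h2⟩ | ⟨hb, h2⟩
      · obtain ⟨_, h3⟩ := hCD.2 ⟨ha, key w a ha h2⟩
        exact h3.trans (key w a ha h2).symm
      · exact (key v b hb h1).trans (key w b hb h2).symm
  simpa using Nat.card_le_card_of_injective F hF

/-- For every finite solvable group G the character degree graph of G (vertices: the primes dividing some irreducible complex character degree; edges: distinct primes whose product divides some degree) has at most two connected components. -/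
theorem result {G : Type*} [Group G] [Finite G] [Group.IsSolvable G] : Nat.card ((Cfsg.degreeGraph G).induce (Cfsg.degreePrimes G)).ConnectedComponent ≤ 2 := by
  have adj : ∀ q r d : ℕ, q.Prime → r.Prime → d ∈ Cfsg.charDegrees G → q ∣ d → r ∣ d →
      r ∈ Cfsg.degreePrimes G ∧ (q = r ∨ (Cfsg.degreeGraph G).Adj q r) := by
    intro q r d hq hr hd h1 h2
    refine ⟨⟨hr, d, hd, h2⟩, ?_⟩
    by_cases h : q = r
    · exact Or.inl h
    · exact Or.inr ⟨h, hq, hr, d, hd,
        Nat.Coprime.mul_dvd_of_dvd_of_dvd ((Nat.coprime_primes hq hr).2 h) h1 h2⟩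
  by_cases hG : commutator G = ⊥
  · refine card_le_two _ _ 0 0 ?_
    rintro q ⟨hq, d, hd, h⟩
    rw [H6.eq_one_of_mem_charDegrees hG hd] at h
    exact absurd (Nat.dvd_one.1 h) hq.one_lt.ne'
  obtain ⟨p, f, hp, hf1, hf, ⟨⟨e, he⟩, h⟩ | ⟨-, h⟩⟩ := H6.cd_dichotomy hG
  · refine card_le_two _ _ p p ?_
    rintro q ⟨hq, d, hd, h1⟩
    left
    by_cases h2 : p ∣ d
    · exact adj q p d hq hp hd h1 h2
    · refine adj q p _ hq hp (h d hd h2) (h1.mul_left _) (Dvd.dvd.mul_right ?_ _)
      rw [he]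
      exact dvd_pow_self p (by rintro rfl; exact hf1 (by simpa using he))
  · obtain ⟨r, hr, hrf⟩ := Nat.exists_prime_and_dvd hf1
    refine card_le_two _ _ p r ?_
    rintro q ⟨hq, d, hd, h1⟩
    obtain ⟨e, t, he, rfl, h2⟩ := h d hd
    rcases (Nat.Prime.dvd_mul hq).1 h1 with h3 | h3
    · exact Or.inr (adj q r f hq hr hf (h3.trans he) hrf)
    · rcases h2 with h2 | h2
      · exact Or.inl (adj q p _ hq hp hd h1 (h2.mul_left _))
      · exact Or.inr (adj q r _ hq hr h2 (h3.mul_left _) (hrf.mul_right _))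

end Cfsg.Agent.S4811
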