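import Cfsg.Statements.S4850
import Cfsg.Agent.H89.VanP
import Cfsg.Agent.S0064

set_option autoImplicit false
open Cfsg

namespace Cfsg.Agent.S4850

/-- Let p be a prime and G a finite solvable group whose vanishing elements (elements at which some irreducible character is zero) of order divisible by p all have the same order, with at least one such element. Let P be a Sylow p-subgroup of G. Then the derived subgroup of P is subnormal in G and the image of P in G/O_p(G) is cyclic. -/
theorem result {G : Type*} [Group G] [Finite G] [hs : Group.IsSolvable G] (p : ℕ) [Fact p.Prime] (b : ℕ) (hvo : {n : ℕ | p ∣ n ∧ ∃ (g : G) (χ : Cfsg.IrrCharacter G), orderOf g = n ∧ (χ : G → ℂ) g = 0} = {b}) (P : Sylow p G) :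
    ((commutator ↥(P : Subgroup G)).map (P : Subgroup G).subtype).IsSubnormal ∧ IsCyclic ↥((P : Subgroup G).map (QuotientGroup.mk' (Cfsg.pCore p G))) := by
  have k : ∀ x : G, ¬ H9.NV x → p ∣ orderOf x → orderOf x = b := fun x hx hd => by
    simp only [H9.NV, not_forall, not_not] at hx
    obtain ⟨χ, hχ, e⟩ := hx
    exact Set.mem_singleton_iff.1 (hvo ▸ ⟨hd, x, ⟨χ, hχ⟩, rfl, e⟩)
  have h := H89.VanP.main (p := p) (fun x y hx hy dx dy => (k x hx dx).trans (k y hy dy).symm) P
  have hc : IsCyclic ((P : Subgroup G).map (QuotientGroup.mk' (pCore p G))) := by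
    refine isCyclic_of_card_dvd_prime (p := p) ?_
    rwa [← Subgroup.relIndex_ker, QuotientGroup.ker_mk']
  refine ⟨?_, hc⟩
  have hle : (commutator (P : Subgroup G)).map (P : Subgroup G).subtype ≤ pCore p G := by
    rw [commutator_def, Subgroup.map_commutator, ← MonoidHom.range_eq_map, Subgroup.range_subtype,
      ← QuotientGroup.ker_mk' (pCore p G), ← Subgroup.map_eq_bot_iff, Subgroup.map_commutator,
      Subgroup.commutator_eq_bot_iff_le_centralizer]
    exact Subgroup.le_centralizer _
  exact Subgroup.IsSubnormal.trans hle ((S0064.result.1 (H22.isPGroup_pCore (p := p)).isNilpotent) _)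
    (Subgroup.Normal.isSubnormal inferInstance)

end Cfsg.Agent.S4850
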