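import Cfsg.Statements.S4886
import Cfsg.Agent.H89.PQDeg
import Cfsg.Agent.S4602
import Cfsg.Agent.H34.PSolvB

set_option autoImplicit false
open Cfsg

namespace Cfsg.Agent.S4886

set_option linter.style.haveILetI false
open Cfsg.Agent.H5 Cfsg.Agent.H89 Subgroup

theorem not_dvd_index {G : Type*} [Group G] [Finite G] (p q : ℕ) [Fact p.Prime] [Fact q.Prime]
    (hpq : p ≠ q) (Mp : Ideal Cfsg.AlgInt) (hMp : Cfsg.IsPModular p Mp)
    (hps : Cfsg.IsPSolvable p G) (hqs : Cfsg.IsPSolvable q G)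
    (h : ∀ χ : Cfsg.IrrCharacter G, χ ∈ Cfsg.principalBlock Mp G →
      ¬ p ∣ Cfsg.charDegree (χ : G → ℂ) → ¬ q ∣ Cfsg.charDegree (χ : G → ℂ)) :
    ¬ q ∣ (pPrimeCore p G).index := by
  obtain ⟨P⟩ : Nonempty (Sylow p (G ⧸ pPrimeCore p G)) := inferInstance
  obtain ⟨Q, hQ, -⟩ := exists_sylow_normalized hpq (G ⧸ pPrimeCore p G)
    (H22.IsPSolvable.quotient hps _) (H22.IsPSolvable.quotient hqs _) (fun φ hφ => by
      have := h ⟨_, isIrrCharacter_inflate _ φ.2⟩
        ((H34.mem_principalBlock_iff_of_isPSolvable hMp hps _).2 fun n hn => by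
          show (φ : _ → ℂ) (n : G ⧸ pPrimeCore p G) = (φ : _ → ℂ) ((1 : G) : G ⧸ pPrimeCore p G)
          rw [(QuotientGroup.eq_one_iff n).2 hn, QuotientGroup.mk_one])
        (by rwa [H88.charDegree_inflate])
      rwa [H88.charDegree_inflate] at this) P
  have := (S4602.result p q hpq (H22.IsPSolvable.quotient hps _)).1 ⟨P, Q, hQ⟩
  rwa [H22.pPrimeCore_quotient_pPrimeCore, index_bot] at this

theorem sylow_le {G : Type*} [Group G] [Finite G] {q : ℕ} [Fact q.Prime] (N : Subgroup G)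
    [N.Normal] (h : ¬ q ∣ N.index) (Q : Sylow q G) : (Q : Subgroup G) ≤ N := by
  obtain ⟨k, hk⟩ := IsPGroup.iff_card.1 Q.2
  rw [← relIndex_eq_one]
  exact Nat.eq_one_of_dvd_coprimes
    (((Fact.out : q.Prime).coprime_iff_not_dvd.2 h).pow_left k)
    (hk ▸ relIndex_dvd_card N _) (relIndex_dvd_index_of_normal N _)

theorem not_dvd_degree {G : Type*} [Group G] [Finite G] (p q : ℕ) [Fact p.Prime]
    (Mp : Ideal Cfsg.AlgInt) (hMp : Cfsg.IsPModular p Mp) (hps : Cfsg.IsPSolvable p G)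
    (h : ¬ q ∣ (pPrimeCore p G).index) (χ : Cfsg.IrrCharacter G)
    (hχ : χ ∈ Cfsg.principalBlock Mp G) : ¬ q ∣ Cfsg.charDegree (χ : G → ℂ) := fun h1 =>
  h (h1.trans (H6.degree_dvd_index_of_norm_eq χ.2 (H88.irr_charDegree_cast χ).symm _
    fun z hz => by rw [(H34.mem_principalBlock_iff_of_isPSolvable hMp hps _).1 hχ z hz]))


/-- Let p ≠ q be primes and G a finite group that is p-solvable and q-solvable. Fix maximal ideals of the algebraic integers containing p and q, defining the principal p-block and the principal q-block. Then every irreducible character of degree prime to p in the principal p-block has degree prime to q and every irreducible character of degree prime to q in the principal q-block has degree prime to p, if and only if some Sylow p-subgroup of G commutes elementwise with some Sylow q-subgroup. -/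
theorem result {G : Type*} [Group G] [Finite G] (p q : ℕ) [Fact p.Prime] [Fact q.Prime] (hpq : p ≠ q) (Mp Mq : Ideal Cfsg.AlgInt) (hMp : Cfsg.IsPModular p Mp) (hMq : Cfsg.IsPModular q Mq) (hps : Cfsg.IsPSolvable p G) (hqs : Cfsg.IsPSolvable q G) : ((∀ χ : Cfsg.IrrCharacter G, χ ∈ Cfsg.principalBlock Mp G → ¬ p ∣ Cfsg.charDegree (χ : G → ℂ) → ¬ q ∣ Cfsg.charDegree (χ : G → ℂ)) ∧ (∀ χ : Cfsg.IrrCharacter G, χ ∈ Cfsg.principalBlock Mq G → ¬ q ∣ Cfsg.charDegree (χ : G → ℂ) → ¬ p ∣ Cfsg.charDegree (χ : G → ℂ))) ↔ ∃ (P : Sylow p G) (Q : Sylow q G), ∀ x ∈ (P : Subgroup G), ∀ y ∈ (Q : Subgroup G), x * y = y * x := by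
  constructor
  · rintro ⟨h1, h2⟩
    have h3 := not_dvd_index p q hpq Mp hMp hps hqs h1
    have h4 := not_dvd_index q p hpq.symm Mq hMq hqs hps h2
    obtain ⟨P, Q, hPQ⟩ := (S4602.result p q hpq hps).2 h3
    refine ⟨P, Q, fun x hx y hy => ?_⟩
    have h5 : x * y * x⁻¹ * y⁻¹ ∈ (Q : Subgroup G) ⊓ pPrimeCore q G := by
      refine ⟨Subgroup.mul_mem _ ((mem_normalizer_iff.1 (hPQ hx) y).1 hy) (Subgroup.inv_mem _ hy), ?_⟩
      have h6 := sylow_le _ h4 P hx
      have := mul_mem h6 (Normal.conj_mem inferInstance _ (inv_mem h6) y)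
      simpa [mul_assoc] using this
    rw [H3.inf_eq_bot_of_isPGroup_of_coprime Q.2 H22.coprime_card_pPrimeCore, mem_bot] at h5
    calc x * y = (x * y * x⁻¹ * y⁻¹) * (y * x) := by group
      _ = _ := by rw [h5, one_mul]
  · rintro ⟨P, Q, h⟩
    have h3 := (S4602.result p q hpq hps).1 ⟨P, Q, fun x hx =>
      centralizer_le_normalizer _ fun y hy => (h x hx y hy).symm⟩
    have h4 := (S4602.result q p hpq.symm hqs).1 ⟨Q, P, fun y hy =>
      centralizer_le_normalizer _ fun x hx => h x hx y hy⟩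
    exact ⟨fun χ hχ _ => not_dvd_degree p q Mp hMp hps h3 χ hχ,
      fun χ hχ _ => not_dvd_degree q p Mq hMq hqs h4 χ hχ⟩

end Cfsg.Agent.S4886
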