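import Cfsg.Statements.S4993
import Cfsg.Agent.H86.PrimDeg
import Cfsg.Agent.S0205
import Cfsg.Agent.H44.Cores

set_option autoImplicit false
open Cfsg

namespace Cfsg.Agent.S4993

/-- Let G be a group of odd order whose order has exactly two prime divisors and whose quotient by its Fitting subgroup is nilpotent (G is metanilpotent), and let χ be a primitive irreducible complex character of G (not induced from a character of any proper subgroup). Then χ(1) divides the size of some conjugacy class of G. -/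
theorem result {G : Type*} [Group G] [Fintype G] (hodd : Odd (Nat.card G)) (h2 : (Nat.card G).primeFactors.card = 2) [hF : (Cfsg.fittingSubgroup G).Normal] (hmeta : Group.IsNilpotent (G ⧸ Cfsg.fittingSubgroup G)) (χ : Cfsg.IrrCharacter G) (hprim : ¬ ∃ (H : Subgroup G), H ≠ ⊤ ∧ ∃ θ : ↥H → ℂ, Cfsg.IsCharacter ↥H θ ∧ Cfsg.indFun H θ = (χ : G → ℂ)) : ∃ g : G, Cfsg.charDegree (χ : G → ℂ) ∣ (Subgroup.centralizer ({g} : Set G)).index := by
  obtain ⟨p, q, hpq, e⟩ := Finset.card_eq_two.1 h2
  have hp : Fact p.Prime := ⟨Nat.prime_of_mem_primeFactors (e.ge (by simp))⟩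
  have hq : Fact q.Prime := ⟨Nat.prime_of_mem_primeFactors (e.ge (by simp))⟩
  have hn : ∀ (r : ℕ) [Fact r.Prime] (P : Sylow r G), (fittingSubgroup G ⊔ P).Normal := fun r _ P => by
    have := Sylow.normal_of_normalizerCondition Group.normalizerCondition_of_isNilpotent
      (P.mapSurjective (QuotientGroup.mk'_surjective (fittingSubgroup G)))
    rw [← QuotientGroup.comap_map_mk']
    exact this.comap _
  obtain ⟨P⟩ : Nonempty (Sylow p G) := inferInstance
  obtain ⟨Q⟩ : Nonempty (Sylow q G) := inferInstance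
  have := hn p P
  have := hn q Q
  have hN : Group.IsNilpotent (fittingSubgroup G) := H44.fitting_isNilpotent
  obtain ⟨a, ha⟩ := H86.Avg.exists_fun (S0205.result hodd) χ.2 hprim hN P.2 le_rfl
  obtain ⟨b, hb⟩ := H86.Avg.exists_fun (S0205.result hodd) χ.2 hprim hN Q.2 le_rfl
  have h1 : (fittingSubgroup G ⊔ P) ⊔ (fittingSubgroup G ⊔ Q) = ⊤ := by
    rw [← Subgroup.index_eq_one, Nat.eq_one_iff_not_exists_prime_dvd]
    intro r hr hd
    rcases Finset.mem_insert.1 (e.le (Nat.mem_primeFactors.2 ⟨hr, hd.trans (Subgroup.index_dvd_card _),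
      Nat.card_pos.ne'⟩)) with rfl | h
    · exact P.not_dvd_index (hd.trans (Subgroup.index_dvd_of_le (le_sup_right.trans le_sup_left)))
    · obtain rfl := Finset.mem_singleton.1 h
      exact Q.not_dvd_index (hd.trans (Subgroup.index_dvd_of_le (le_sup_right.trans le_sup_right)))
  obtain ⟨y, hy, z, hz, e'⟩ := H87.mem_sup_of_le_No Subgroup.le_normalizer_of_normal
    (h1.ge (Subgroup.mem_top (a⁻¹ * b)))
  refine ⟨a * y, (Nat.factorization_prime_le_iff_dvd (H32.charDegree_ne_zero χ)
    Subgroup.index_ne_zero_of_finite).1 fun r hr => ?_⟩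
  by_cases hd : r ∣ Nat.card G
  · rcases Finset.mem_insert.1 (e.le (Nat.mem_primeFactors.2 ⟨hr, hd, Nat.card_pos.ne'⟩)) with rfl | h
    · exact ha y hy
    · obtain rfl := Finset.mem_singleton.1 h
      have := hb _ (inv_mem hz)
      rwa [show b * z⁻¹ = a * y by rw [mul_inv_eq_iff_eq_mul, mul_assoc, ← e']; simp] at this
  · exact (H32.factorization_charDegree_le r χ).trans
      ((Nat.factorization_eq_zero_of_not_dvd hd).trans_le (Nat.zero_le _))

end Cfsg.Agent.S4993
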