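import Cfsg.Statements.S4997
import Cfsg.Agent.H89.VanP

set_option autoImplicit false
open Cfsg

namespace Cfsg.Agent.S4997

/-- Let p be an odd prime and G a finite solvable group with exactly one conjugacy class consisting of vanishing elements (elements at which some irreducible complex character is zero) of order divisible by p. Let P be a Sylow p-subgroup of G. Then the order of P is at most p times the order of the largest normal p-subgroup of G. -/
theorem result {G : Type*} [Group G] [Finite G] (hsolv : Group.IsSolvable G) (p : ℕ) [Fact p.Prime] (hp : p ≠ 2) (h1 : Set.ncard {C : ConjClasses G | (∀ g ∈ C.carrier, ∃ χ : Cfsg.IrrCharacter G, (χ : G → ℂ) g = 0) ∧ ∃ g ∈ C.carrier, p ∣ orderOf g} = 1) (P : Sylow p G) : Nat.card ↥(P : Subgroup G) ≤ p * Nat.card ↥(Cfsg.pCore p G) := by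
  obtain ⟨C, hC⟩ := Set.ncard_eq_one.1 h1
  have k : ∀ x : G, ¬ H9.NV x → p ∣ orderOf x → ConjClasses.mk x = C := fun x hx hd => by
    refine Set.mem_singleton_iff.1 (hC ▸ ⟨fun g hg => ?_, x, ConjClasses.mem_carrier_mk, hd⟩)
    simp only [H9.NV, not_forall, not_not] at hx
    obtain ⟨χ, hχ, e⟩ := hx
    refine ⟨⟨χ, hχ⟩, ?_⟩
    rw [← e]
    exact H5.isClassFunction_apply_of_isConj (H5.isClassFunction_of_isIrr hχ)
      (ConjClasses.mk_eq_mk_iff_isConj.1 (ConjClasses.mem_carrier_iff_mk_eq.1 hg))
  have h := H89.VanP.main (p := p) (fun x y hx hy dx dy => by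
    obtain ⟨g, rfl⟩ := isConj_iff.1 (ConjClasses.mk_eq_mk_iff_isConj.1 ((k x hx dx).trans (k y hy dy).symm))
    exact ((MulAut.conj g).orderOf_eq x).symm) P
  have e := ((pCore p G).subgroupOf P).card_mul_index
  rw [Nat.card_congr (Subgroup.subgroupOfEquivOfLe (H22.pCore_le_sylow P)).toEquiv] at e
  rw [← e, mul_comm]
  exact Nat.mul_le_mul_right _ (Nat.le_of_dvd (Fact.out : p.Prime).pos h)

end Cfsg.Agent.S4997
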