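import Cfsg.Statements.S5052
import Cfsg.Agent.H90.RI12

set_option autoImplicit false
open Cfsg

namespace Cfsg.Agent.S5052
open Cfsg.Agent.H90


/-- Let G be a finite group with O₂(G) = 1 and trivial centre, generated by a class D of odd transpositions whose commuting graph is connected, with some product of two different commuting members again in D. Then for each d ∈ D the members of D with the same commuting members as d, together with 1, form a subgroup E(d); and for every x ∈ D with dx of odd order greater than 1, the subgroup generated by E(d) and x is isomorphic to L₂(q) where q is the order of E(d). -/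
theorem result {G : Type*} [Group G] [Finite G] {D : Set G} (hD : Cfsg.IsOddTranspositionSet D) (hcl : Cfsg.IsRootInvolutionClass D)
    (hO : Cfsg.pCore 2 G = ⊥) (hZ : Subgroup.center G = ⊥) (hDD : (D ∩ Cfsg.commutingProducts D).Nonempty)
    (hc : Cfsg.IsConnectedSet (Cfsg.CommAdj D) D) {d : G} (hd : d ∈ D) :
    (Cfsg.sameCommutingSubgroup D d : Set G) = Cfsg.sameCommutingClass D d ∪ {1} ∧
    ∀ x ∈ Cfsg.oddPartners D d, ∃ (F : Type) (_ : Field F) (_ : Fintype F),
      Fintype.card F = Nat.card ↥(Cfsg.sameCommutingSubgroup D d) ∧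
      Nonempty (↥(Subgroup.closure (Cfsg.sameCommutingClass D d ∪ {x})) ≃* Matrix.ProjectiveSpecialLinearGroup (Fin 2) F) := by
  have h : SC D := ⟨ot_of hD, cl_of_class hcl, (line_iff (ri_of hD.1)).1 hDD, hD.1.generates, twoZCore_eq_bot hO hZ⟩
  refine ⟨Set.Subset.antisymm (fun n hn => ?_) ?_, fun x hx => h.l2 hc hd (mem_oddPartners.1 hx).1 (mem_oddPartners.1 hx).2⟩
  · exact (em (n = 1)).elim Or.inr fun e => Or.inl (h.mem_Bl hd hn e)
  · rintro n (hn | rfl)
    exacts [Subgroup.subset_closure hn, one_mem _]

end Cfsg.Agent.S5052
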