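import Cfsg.Statements.S5053
import Cfsg.Agent.H90.RI5

set_option autoImplicit false
open Cfsg

namespace Cfsg.Agent.S5053
open Cfsg.Agent.H90


/-- Let G be a finite group generated by a non-degenerate conjugacy class D of root involutions (some two different members commute, some two have product of odd order, some two have product of order 4) and T a weak TI-subset of D: a subset with more than one element, different from D, whose conjugate by any member of D equals T or is disjoint from it. Then T generates an abelian subgroup. -/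
theorem result {G : Type*} [Group G] [Finite G] {D : Set G} (hD : Cfsg.IsNondegenerateRootInvolutionSet D)
    (hcl : Cfsg.IsRootInvolutionClass D)     {T : Set G} (hT : Cfsg.IsWeakTISubsetOfElements D T) : IsMulCommutative ↥(Subgroup.closure T) := by
  have h := ri_of hD.1
  have hc := cl_of_class hcl
  obtain ⟨hTD, -, hne, hT⟩ := hT
  have k : ∀ d ∈ D, ∀ t ∈ T, d * t = t * d → ∀ s ∈ T, d * s * d⁻¹ ∈ T := fun d hd t ht e s hs => by
    rcases hT d hd with h1 | h1
    · exact h1 ▸ ⟨s, hs, rfl⟩
    · exact (Set.disjoint_left.1 h1 ⟨t, ht, by simp [e]⟩ ht).elim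
  have no : ∀ a ∈ T, ∀ b ∈ T, ¬ Od a b := fun a ha b hb o => by
    refine hne (hTD.antisymm fun e he => ?_)
    obtain ⟨u, hu, rfl, -⟩ := h.gen hc (fo_of_nondeg hD) (hTD ha) (hTD hb) o he
    have k2 : ∀ d ∈ productPartners D a ∪ {b}, d ∈ D ∧ ∀ s ∈ T, d * s * d⁻¹ ∈ T := by
      rintro d (hd | rfl)
      exacts [⟨hd.1.1, k d hd.1.1 a ha hd.1.2.1⟩, ⟨hTD hb, k d (hTD hb) d hb rfl⟩]
    suffices ∀ s ∈ T, u * s * u⁻¹ ∈ T from this a ha
    clear he
    induction hu using Subgroup.closure_induction'' with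
    | mem x hx => exact (k2 x hx).2
    | inv_mem x hx => rw [inv2 (h.sq x (k2 x hx).1)]; exact (k2 x hx).2
    | one => simp
    | mul x y _ _ hx hy => exact fun s hs => by simpa [mul_assoc] using hx _ (hy s hs)
  have cm : ∀ a ∈ T, ∀ b ∈ T, a * b = b * a := fun a ha b hb => by
    have ha' := hTD ha
    have hb' := hTD hb
    rcases h.tri ha' hb' with h1 | h1 | h1
    · exact h1
    · exact absurd h1 (no a ha b hb)
    exfalso
    obtain ⟨y, hy, e⟩ := h.line_move hc h1 ha' (h.ln_symm ha' h1 (h.fo_ln ha' hb')) fun e =>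
      h.fo_not_comm ha' hb' h1 (show b ∈ commutingMembers D a from e ▸ ⟨hb', h.fo_right ha' hb' h1⟩).2.symm
    have o := (h.od_three hy ha' h1 hb' (by rw [← h.fo_eq h1 hy (h.fo_symm hy (e.symm ▸ ha')), e]) (h.fo_eq ha' hb' h1)).1
    refine no b hb _ (k y hy a ha (e ▸ h.fo_left hy h1 (e.symm ▸ ha')) b hb) ⟨fun e1 => h.od_not_comm hy hb' o ?_, ?_⟩
    · exact (mul_inv_eq_iff_eq_mul.1 e1.symm)
    · simpa [mul_assoc, inv2 (h.sq y hy)] using o.symm.2.sq
  exact ⟨⟨fun x y => Subtype.ext (comm_of_mem_closure y.2 fun s hs =>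
    (comm_of_mem_closure x.2 fun t ht => cm s hs t ht).symm)⟩⟩

end Cfsg.Agent.S5053
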