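import Cfsg.Statements.S5055
import Cfsg.Agent.H90.RI14

set_option autoImplicit false
open Cfsg

namespace Cfsg.Agent.S5055
open Cfsg.Agent.H90


/-- The Root Structure Theorem for root involutions. Let G be a finite group with O₂(G) = 1 and trivial centre, generated by a non-degenerate class D of root involutions such that for every d ∈ D the members of D with the same commuting members as d, together with 1, form a subgroup E(d). For d ∈ D let M_d be the subgroup generated by d and the members e ≠ d of D commuting with d with ed ∈ D, let W_d be the set of members of D commuting with d that have no partner with product of odd order among the members commuting with d, and let N_d be the subgroup generated by W_d. Then N_d = M_d; the members of D in N_d are d and the e just described; the commutator subgroup of N_d is E(d); and the members of D central in N_d are exactly those with the same commuting members as d. -/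
theorem result {G : Type*} [Group G] [Finite G] {D : Set G} (hD : Cfsg.IsNondegenerateRootInvolutionSet D)
    (hcl : Cfsg.IsRootInvolutionClass D) (hO : Cfsg.pCore 2 G = ⊥) (hZ : Subgroup.center G = ⊥)
    (hE : ∀ d ∈ D, (Cfsg.sameCommutingSubgroup D d : Set G) = Cfsg.sameCommutingClass D d ∪ {1}) {d : G} (hd : d ∈ D) :
    Subgroup.closure {w | Cfsg.IsIsolatedElem (Cfsg.OddAdj (Cfsg.commutingMembers D d)) (Cfsg.commutingMembers D d) w} =
      Subgroup.closure (Cfsg.productPartners D d ∪ {d}) ∧
    D ∩ (Subgroup.closure (Cfsg.productPartners D d ∪ {d}) : Set G) = Cfsg.productPartners D d ∪ {d} ∧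
    ⁅Subgroup.closure (Cfsg.productPartners D d ∪ {d}), Subgroup.closure (Cfsg.productPartners D d ∪ {d})⁆ =
      Cfsg.sameCommutingSubgroup D d ∧
    Cfsg.sameCommutingClass D d = {e | e ∈ D ∧ e ∈ Subgroup.closure (Cfsg.productPartners D d ∪ {d}) ∧
      ∀ y ∈ Subgroup.closure (Cfsg.productPartners D d ∪ {d}), e * y = y * e} := by
  have h := ri_of hD.1
  have hc := cl_of_class hcl
  have hE' := he_of h hE
  have hf := fo_of_nondeg hD
  have mX : ∀ {e}, e ∈ productPartners D d ↔ LN D d e := (h.mem_X hd).trans ⟨fun k => ⟨h, hd, k.1, k.2⟩, fun k => ⟨k.r, k.m⟩⟩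
  have e1 : {w | IsIsolatedElem (OddAdj (commutingMembers D d)) (commutingMembers D d) w} = productPartners D d ∪ {d} := by
    ext w
    refine isolated_iff.trans ⟨fun hw => or_iff_not_imp_right.2 fun n => mX.2 (h.W hc hE' hD.1.generates hZ hf hd hw.1.1
      hw.1.2.symm (fun t e o => hw.2 t ⟨o.r, e.symm⟩ o.o) n), ?_⟩
    rintro (hw | rfl)
    · exact ⟨⟨hw.1.1, hw.1.2.1⟩, fun x hx o => (mX.1 hw).symm.no hx.2.symm ⟨h, hw.1.1, hx.1, o⟩⟩
    · exact ⟨⟨hd, rfl⟩, fun x hx o => h.od_not_comm hd hx.1 o hx.2.symm⟩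
  have hS : ∀ w ∈ productPartners D d ∪ {d}, w ∈ D ∧ d * w = w * d := by
    rintro w (hw | rfl); exacts [⟨hw.1.1, hw.1.2.1.symm⟩, ⟨hd, rfl⟩]
  have hB : Bl D d ⊆ productPartners D d ∪ {d} := fun e he => or_iff_not_imp_right.2 fun n =>
    mX.2 (hE'.ln h he (Bl.self hd) n).symm
  have cj : ∀ x ∈ D, d * x = x * d → ∀ w ∈ productPartners D d ∪ {d}, x * w * x ∈ productPartners D d ∪ {d} := by
    intro x hx e w hw
    have : x * d * x = d := by rw [← e, mul_assoc, h.sq x hx, mul_one]
    rcases hw with hw | rfl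
    · exact Or.inl (mX.2 (by simpa only [this] using (mX.1 hw).cj hx))
    · exact Or.inr this
  have cm : ∀ a ∈ productPartners D d ∪ {d}, ∀ b ∈ productPartners D d ∪ {d}, a * b = b * a ∨ a * b * a * b ∈ Bl D d := by
    rintro a (ha | rfl) b hb
    · rcases hb with hb | rfl
      · rcases h.tri3 ha.1.1 hb.1.1 with h1 | h1 | ⟨c, h1⟩
        · exact .inl h1
        · exact ((mX.1 ha).symm.no hb.1.2.1.symm h1).elim
        · exact .inr (h1.e ▸ Bl.symm (h1.R hc (mX.1 ha) (mX.1 hb)) h1.m)
      · exact .inl ha.1.2.1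
    · exact .inl (hS b hb).2
  have h2 : IsPGroup 2 (Subgroup.closure (productPartners D d ∪ {d})) :=
    RI.two_group ⟨fun a ha => h.sq a (hS a ha).1, fun a ha => h.ne a (hS a ha).1, fun a ha b hb => cj b (hS b hb).1
      (hS b hb).2 a ha, fun a ha b hb => (cm a ha b hb).imp_right fun k => .inr (hB k)⟩ fun a ha b hb o =>
      (cm a ha b hb).elim (h.od_not_comm (hS a ha).1 (hS b hb).1 o) fun k => h.fo_not_od (hS a ha).1 k.1 o
  have e2 : D ∩ (Subgroup.closure (productPartners D d ∪ {d}) : Set G) = productPartners D d ∪ {d} := by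
    refine Set.Subset.antisymm (fun e he => e1.le (isolated_iff.2 ⟨⟨he.1, (comm_of_mem_closure he.2 fun s hs =>
      (hS s hs).2).symm⟩, fun x hx => not_od_of_two h2 (h.sq e he.1) ?_⟩)) fun w hw => ⟨(hS w hw).1, Subgroup.subset_closure hw⟩
    have : Subgroup.closure (productPartners D d ∪ {d}) ≤ (Subgroup.closure (productPartners D d ∪ {d})).comap
        (MulAut.conj x).toMonoidHom := (Subgroup.closure_le _).2 fun s hs => Subgroup.subset_closure (by
      simpa [inv2 (h.sq x hx.1)] using cj x hx.1 hx.2.symm s hs)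
    simpa [mul_assoc, inv2 (h.sq x hx.1)] using mul_mem he.2 (this he.2)
  have ce : ∀ e ∈ Bl D d, ∀ y ∈ Subgroup.closure (productPartners D d ∪ {d}), e * y = y * e := fun e he y hy =>
    comm_of_mem_closure hy fun s hs => Bl.comm he (hS s hs).1 (hS s hs).2
  refine ⟨by rw [e1], e2, le_antisymm (commutator_closure_le (fun a ha b hb => ?_) fun g hg n hn =>
    comm_of_mem_closure hn fun e he => (ce e he g hg).symm) ((Subgroup.closure_le _).2 fun e he => ?_),
    Set.Subset.antisymm (fun e he => ⟨he.1, Subgroup.subset_closure (hB he), ce e he⟩) fun e he => ?_⟩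
  · rw [inv2 (h.sq a (hS a ha).1), inv2 (h.sq b (hS b hb).1)]
    rcases cm a ha b hb with h1 | h1
    · simp only [mul_assoc, sw h1.symm, c2 (h.sq a (hS a ha).1), h.sq b (hS b hb).1, one_mem]
    · exact Subgroup.subset_closure h1
  · obtain ⟨a, ha, b, hb, hab⟩ := hf
    obtain ⟨g, hg, e3⟩ := hc _ hab d hd
    have k := e3 ▸ SP.conj ⟨h, ha, hb, hab, rfl⟩ hg
    obtain ⟨u, -, k1⟩ := k.sur hc hE' he
    have := Subgroup.commutator_mem_commutator (Subgroup.subset_closure (k := productPartners D d ∪ {d}) (.inl (mX.2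
      (k1.l1.symm.X hc hE' k1.nbl (Bl.symm he hd))))) (Subgroup.subset_closure (k := productPartners D d ∪ {d})
      (.inl (mX.2 k.l2.symm)))
    rwa [commutatorElement_def, inv2 (h.sq u k1.l), inv2 (h.sq _ k1.r), k1.e] at this
  · by_contra n
    rcases e2.le ⟨he.1, he.2.1⟩ with h1 | rfl
    · obtain ⟨y, k⟩ := (mX.1 h1).symm.move hc fun e => n (Bl.symm e he.1)
      exact k.ne (he.2.2 y (Subgroup.subset_closure (.inl (mX.2 k.l1.symm)))).symm
    · exact n (Bl.self hd)

end Cfsg.Agent.S5055
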