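import Cfsg.Statements.S5056
import Cfsg.Agent.H90.RI22
import Cfsg.Agent.S5044

set_option autoImplicit false
open Cfsg

namespace Cfsg.Agent.S5056
open Cfsg.Agent.H90


/-- The Root Involution Theorem. Let G be a finite group with O₂(G) = 1 and trivial centre, generated by a class D of root involutions, and suppose some product of two different commuting members of D lies in D. Then one of the following holds. (1) The commuting graph of D is disconnected and G is isomorphic to L₂(q), Sz(q) or U₃(q) for a power q > 2 of 2. (2) The commuting graph of D is connected; for every d ∈ D the members of D with the same commuting members as d form, together with 1, a subgroup E(d); and either for every d the conjugates of E(d) form a class of abstract k-root subgroups of G, k a field with as many elements as E(d), or D is non-degenerate, every E(d) has order 2, and for every d the members of D commuting with d generate a subgroup of order at most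 2¹⁰. -/
theorem result {G : Type*} [Group G] [Finite G] {D : Set G} (hcl : Cfsg.IsRootInvolutionClass D)
    (hO : Cfsg.pCore 2 G = ⊥) (hZ : Subgroup.center G = ⊥) (hDD : (D ∩ Cfsg.commutingProducts D).Nonempty) :
    (¬ Cfsg.IsConnectedSet (Cfsg.CommAdj D) D ∧
      ((∃ (F : Type) (_ : Field F) (_ : Fintype F), CharP F 2 ∧ 4 ≤ Fintype.card F ∧
          Nonempty (G ≃* Matrix.ProjectiveSpecialLinearGroup (Fin 2) F)) ∨
        Cfsg.Lie.IsoSuzuki G ∨
        (∃ (F : Type) (_ : Field F) (_ : Fintype F) (q : ℕ), CharP F 2 ∧ Fintype.card F = q ^ 2 ∧ 4 ≤ q ∧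
          Nonempty (G ≃* Cfsg.PSU 3 F q)))) ∨
    (Cfsg.IsConnectedSet (Cfsg.CommAdj D) D ∧
      (∀ d ∈ D, (Cfsg.sameCommutingSubgroup D d : Set G) = Cfsg.sameCommutingClass D d ∪ {1}) ∧
      ((∀ d ∈ D, ∃ (F : Type) (_ : Field F) (_ : Fintype F),
          Fintype.card F = Nat.card ↥(Cfsg.sameCommutingSubgroup D d) ∧
          Cfsg.IsKRootSubgroupSet F {A : Subgroup G | ∃ g : G, A = Cfsg.conjBy (Cfsg.sameCommutingSubgroup D d) g} ∧
          Cfsg.IsConjClassOfSubgroups {A : Subgroup G | ∃ g : G, A = Cfsg.conjBy (Cfsg.sameCommutingSubgroup D d) g}) ∨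
       (Cfsg.IsNondegenerateRootInvolutionSet D ∧ ∀ d ∈ D, Nat.card ↥(Cfsg.sameCommutingSubgroup D d) = 2 ∧
          Nat.card ↥(Subgroup.closure (Cfsg.commutingMembers D d)) ≤ 2 ^ 10))) := by
  have h := ri_of hcl.1
  have hc := cl_of_class hcl
  have hG := hcl.1.generates
  have hb := twoZCore_eq_bot hO hZ
  by_cases cn : IsConnectedSet (CommAdj D) D
  swap
  · have φ : G ≃* G ⧸ twoZCore G := ((QuotientGroup.quotientMulEquivOfEq hb).trans QuotientGroup.quotientBot).symm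
    refine .inl ⟨cn, ?_⟩
    rcases (S5044.result hcl.1 hDD).resolve_left cn with ⟨F, _, _, h1, h2, ⟨e⟩⟩ | ⟨F, _, _, m, h1, h2, ⟨e⟩⟩ |
      ⟨F, _, _, q, h1, h2, h3, ⟨e⟩⟩
    exacts [.inl ⟨F, _, _, h1, h2, ⟨φ.trans e⟩⟩, .inr (.inl ⟨F, _, _, m, h1, h2, ⟨φ.trans e⟩⟩),
      .inr (.inr ⟨F, _, _, q, h1, h2, h3, ⟨φ.trans e⟩⟩)]
  have sub : HE D → ∀ d ∈ D, (sameCommutingSubgroup D d : Set G) = sameCommutingClass D d ∪ {1} := fun hE d hd =>
    Set.ext fun _ => (hE.mem h hd).trans or_comm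
  by_cases fo : ∃ a ∈ D, ∃ b ∈ D, a * b * a * b ∈ D
  swap
  · have S : SC D := ⟨⟨h, fun a ha b hb => (h.tri ha hb).imp_right fun h1 => h1.resolve_right fun h2 => fo ⟨a, ha, b, hb, h2⟩⟩,
      hc, (line_iff h).1 hDD, hG, hb⟩
    have hE : HE D := fun d hd e he n => S.mem_Bl hd (mul_mem (EB.of he) (EB.of (Bl.self hd))) fun e1 =>
      n (mul_right_cancel (e1.trans (h.sq d hd).symm))
    refine .inr ⟨cn, sub hE, .inl fun d hd => ?_⟩
    obtain ⟨x, hx, o⟩ := S.exists_od hd
    exact h.kroot hc hG hE (fun d x o e he => let ⟨f, hf, h3⟩ := S.three cn o.r he.1 (o.bl he).o.symm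
      ⟨f, hf, three_symm h3⟩) hd ⟨h, hd, hx, o⟩
  have H : NDI D := ⟨h, hc, hG, hZ, fo⟩
  have hE := H.he hO
  have op : ∀ d ∈ D, ∃ x, OP D d x := fun d hd =>
    let ⟨y, l, n⟩ := H.ln hd; (h.exists_op hc hd l.r n).imp fun _ h => h.1
  refine .inr ⟨cn, sub hE, ?_⟩
  rcases H.nf with N | ⟨b, d, c, x, k⟩
  · refine .inl fun d hd => h.kroot hc hG hE (fun d x o => ?_) hd (op d hd).choose_spec
    obtain ⟨y, l, n⟩ := H.ln o.r
    obtain ⟨e, rfl | ⟨he, l1⟩, f, k⟩ := N x y d o.symm l n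
    · exact SP.h3 hc hE (by simpa using k) l o.symm
    · simpa only [H3, Bl.eq he] using k.h3 hc hE l1.mul (o.symm.bl he)
  have P : GP D := ⟨H, hE, fun _ _ => k.all H⟩
  have q : ∀ d ∈ D, ∀ e ∈ Bl D d, e = d := by
    by_contra hn
    push Not at hn
    obtain ⟨p, hp, e, he, n⟩ := hn
    refine GQ.false ⟨P, fun a ha => ?_, b, d, c, x, k⟩
    obtain ⟨g, hg, rfl⟩ := hc p hp a ha
    exact ⟨_, h.Bl_conj hg he, by simpa using n⟩
  refine .inr ⟨⟨hcl.1, ⟨b, k.l.l, d, k.l.r, k.l.ne, k.l.cm⟩, ⟨b, k.o.l, x, k.o.r, k.o.o.1, oo_iff.1 k.o.o.2⟩,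
    let ⟨a, ha, b, hb, e⟩ := fo; ⟨a, ha, b, hb, (h.fo_iff ha hb).2 e⟩⟩, fun d hd => ⟨?_, P.bound q hd⟩⟩
  rw [← h.ord hd, ← Nat.card_zpowers, Subgroup.zpowers_eq_closure]
  exact congrArg (fun S : Set G => Nat.card (Subgroup.closure S)) (Set.eq_singleton_iff_unique_mem.2 ⟨Bl.self hd, q d hd⟩)

end Cfsg.Agent.S5056
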