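import Cfsg.Statements.S5148
import Cfsg.Agent.H91.Subn

set_option autoImplicit false
open Cfsg

namespace Cfsg.Agent.S5148

open Cfsg.FusionSystem Cfsg.Agent.H91

/-- A quasisimple fusion system over a finite p-group S (saturated, equal to its p-residual subsystem, with simple — in particular nontrivial — factor system modulo its centre) has S nonabelian. -/
theorem result {Ω : Type*} [Group Ω] {S : Subgroup Ω} [Finite S] (p : ℕ) [Fact p.Prime] (hS : IsPGroup p S) (F : Cfsg.FusionSystem S) (hq : F.Quasisimple p) : ¬ IsMulCommutative S := by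
  intro hc
  obtain ⟨D, hD⟩ := H93.exists_factorSystem (center_stronglyClosed F)
  obtain ⟨h1, h2⟩ := H93.isFactorSystem_iff.1 hD
  have := h2.finite
  have hs := hq.2.2 D hD
  have h3 : D.IsNormal ⊤ := H93.normal_of_sc_abelian (h2.isPGroup hS) hs.1
    (stronglyClosed_iff.2 ⟨le_rfl, fun _ _ _ _ _ _ => trivial⟩) fun x _ y _ => by
      obtain ⟨a, rfl⟩ := QuotientGroup.mk'_surjective _ x
      obtain ⟨b, rfl⟩ := QuotientGroup.mk'_surjective _ y
      rw [← map_mul, ← map_mul, hc.is_comm.comm a b]
  exact hs.2.1 (le_bot_iff.1 (quasisimple_fac_core hS hq h2 h1 ▸ le_core h3))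

end Cfsg.Agent.S5148
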