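import Cfsg.Statements.S5164
import Mathlib
import Cfsg.Agent.S2269
import Cfsg.Agent.S4014

set_option autoImplicit false
open Cfsg

namespace Cfsg.Agent.S5164

open Subgroup Equiv Equiv.Perm

theorem comm_iff {G : Type*} [Group G] : IsMulCommutative G ↔ derivedSeries G 1 = ⊥ := by
  rw [derivedSeries_one, commutator_eq_bot_iff_center_eq_top, center_eq_top_iff]


/-- For n ≥ 6 and a prime p, a nontrivial Sylow p-subgroup of the alternating group of degree n is abelian if and only if n < p². -/
theorem result (n p : ℕ) (hn : 6 ≤ n) [Fact p.Prime] (S : Sylow p (alternatingGroup (Fin n))) (hS : (S : Subgroup (alternatingGroup (Fin n))) ≠ ⊥) : IsMulCommutative S ↔ n < p ^ 2 := by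
  have hpr : p.Prime := Fact.out
  by_cases h2 : p = 2
  · subst h2
    refine ⟨fun hP => ?_, fun h => by omega⟩
    obtain ⟨x, h1, h3, h4⟩ := S2269.real_four (n := n) hn
    exact absurd (((S2270.two_dvd_of_real S hP h1 h3 h4).trans
      (relIndex_dvd_of_le_left _ S.le_centralizer)).trans
      (relIndex_dvd_index_of_le le_normalizer)) S.not_dvd_index
  haveI : Nontrivial (Fin n) := Fin.nontrivial_iff_two_le.2 (by omega)
  have hidx : ¬ p ∣ ((S : Subgroup (alternatingGroup (Fin n))).map
      (alternatingGroup (Fin n)).subtype).index := by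
    rw [index_map_subtype, alternatingGroup.index_eq_two]
    intro h
    rcases hpr.dvd_mul.1 h with h | h
    · exact S.not_dvd_index h
    · exact h2 ((Nat.prime_dvd_prime_iff_eq hpr Nat.prime_two).1 h)
  let P : Sylow p (Perm (Fin n)) := (S.isPGroup'.map (alternatingGroup (Fin n)).subtype).toSylow hidx
  have e : (S : Subgroup (alternatingGroup (Fin n))) ≃* (P : Subgroup (Perm (Fin n))) :=
    equivMapOfInjective _ _ (alternatingGroup (Fin n)).subtype_injective
  have hc : IsMulCommutative S ↔ IsMulCommutative (P : Subgroup (Perm (Fin n))) :=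
    ⟨fun h => ⟨⟨fun a b => by
      obtain ⟨a, rfl⟩ := e.surjective a
      obtain ⟨b, rfl⟩ := e.surjective b
      rw [← map_mul, ← map_mul, h.is_comm.comm]⟩⟩,
    fun h => ⟨⟨fun a b => e.injective (by
      rw [map_mul, map_mul, h.is_comm.comm])⟩⟩⟩
  obtain ⟨h3, h4⟩ := S4014.result p n (by omega) P
  rw [hc, comm_iff, ← Nat.log_lt_iff_lt_pow hpr.one_lt (by omega)]
  constructor
  · intro h
    by_contra h5
    refine h4 (by omega) (le_bot_iff.1 (h ▸ derivedSeries_antitone _ (by omega)))
  · intro h
    exact le_bot_iff.1 (h3 ▸ derivedSeries_antitone _ (by omega))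

end Cfsg.Agent.S5164
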