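import Cfsg.Statements.S5177
import Cfsg.Agent.EX.Fus
import Cfsg.Agent.EX.Split
import Cfsg.Agent.EX.CaseC
import Cfsg.Agent.EX.CaseP
import Cfsg.Agent.EX.CaseU
import Cfsg.Agent.EX.Rel
import Cfsg.Agent.EX.Iso
import Cfsg.Agent.EX.Mod
import Cfsg.Agent.S0112

set_option autoImplicit false
universe u
open Cfsg

namespace Cfsg.Agent.S5177

/-- Let p be an odd prime, S a finite p-group of order at least p⁶ containing an extraspecial subgroup Q of index p, and F a saturated fusion system over S whose largest subgroup normal in F is trivial. Then S is isomorphic to a Sylow p-subgroup of SL(4,p), to a Sylow p-subgroup of SU(4,p), to a Sylow p-subgroup of G₂(p) with p ≥ 5, or p ≥ 11 and S has order p^(p−1), exponent p and maximal nilpotency class. -/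
theorem result {Ω : Type u} [Group Ω] {S : Subgroup Ω} [Finite S] (p : ℕ) [Fact p.Prime] (hp : Odd p) (hS : IsPGroup p S)
    (Q : Subgroup Ω) (hQS : Q ≤ S) (hQ : Cfsg.IsExtraspecial p ↥Q) (hQi : (Q.subgroupOf S).index = p)
    (h6 : p ^ 6 ≤ Nat.card S)
    (F : Cfsg.FusionSystem S) (hF : F.IsSaturated p) (hO : F.core = ⊥) [Group.IsNilpotent ↥S] :
    (∃ P : Sylow p (Matrix.SpecialLinearGroup (Fin 4) (ZMod p)),
        Nonempty (↥S ≃* ↥(P : Subgroup (Matrix.SpecialLinearGroup (Fin 4) (ZMod p))))) ∨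
      (∃ (K : Type) (_ : Field K) (_ : Fintype K), Fintype.card K = p ^ 2 ∧
        ∃ P : Sylow p ↥(Cfsg.SU 4 K p), Nonempty (↥S ≃* ↥(P : Subgroup ↥(Cfsg.SU 4 K p)))) ∨
      (5 ≤ p ∧ ∃ P : Sylow p ↥(Cfsg.Lie.G2 (ZMod p)), Nonempty (↥S ≃* ↥(P : Subgroup ↥(Cfsg.Lie.G2 (ZMod p))))) ∨
      (11 ≤ p ∧ Nat.card S = p ^ (p - 1) ∧ (∀ x : ↥S, x ^ p = 1) ∧ Group.nilpotencyClass ↥S = p - 2) := by
  have pp : p.Prime := Fact.out
  obtain ⟨G, _, _, T, j, k, h⟩ := SR3.Rows.realize hS F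
  have cT : Nat.card T = Nat.card S := (Nat.card_congr h.g.equiv.toEquiv).symm
  have l := h.g.im_le hQS
  have : Finite Q := .of_injective _ (Subgroup.inclusion_injective hQS)
  obtain ⟨hx, E, m⟩ := EX.xs_of hp (h.g.isPGroup hS) l
    (H15.isExtraspecial_congr (h.g.restrict hQS).equiv hQ) (by
      have a := H91.card_mul_relIndex l
      rw [cT, ← H91.card_mul_relIndex hQS, h.g.card_im hQS] at a
      exact (Nat.eq_of_mul_eq_mul_left Nat.card_pos a).trans hQi) (cT ▸ h6) (h.isSaturated hF)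
    (SR3.Rows.core_bot h hO)
  have tr : ∀ {H : Type} [Group H], (∃ P : Sylow p H, Nonempty (T ≃* (P : Subgroup H))) →
      ∃ P : Sylow p H, Nonempty (S ≃* (P : Subgroup H)) :=
    fun ⟨P, ⟨e⟩⟩ => ⟨P, ⟨h.g.equiv.trans e⟩⟩
  have key : ((∃ U, EX.HypO p T (H91.im j Q) (T ⊓ SR3.ce T) U) ∨
      ∃ a, EX.HypG p T (H91.im j Q) (T ⊓ SR3.ce T) a) ∨ (11 ≤ p ∧ Nat.card S = p ^ (p - 1) ∧
      (∀ x : ↥S, x ^ p = 1) ∧ Group.nilpotencyClass ↥S = p - 2) := by
    obtain ⟨g, hg, h1, h2⟩ | om := em (∃ g ∈ SR3.nm E, SR3.cj g (T ⊓ SR3.ce T) ≤ H91.im j Q ∧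
      g ∉ SR3.nm (T ⊓ SR3.ce T))
    · exact .inl (EX.caseC hx m hg h2 h1)
    replace om := fun g hg h1 => by_contra fun h2 => om ⟨g, hg, h1, h2⟩
    obtain ⟨s1, s2, s3 | ⟨s3, s4, s5⟩⟩ := EX.split hx m om
    · obtain ⟨a, b, c⟩ | a := EX.caseP hx m s3 s2
      · have := hx.pg.isNilpotent
        have n := S0112.result _ b (E.subgroupOf T) ((Nat.card_congr
          (Subgroup.subgroupOfEquivOfLe m.le).toEquiv).trans s3) (le_antisymm (fun x hx' => by
            have := m.cen 1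
            rw [SR3.cj_one] at this
            exact this m.le ⟨x.2, fun y hy => congrArg Subtype.val (hx' ⟨y, m.le hy⟩ hy)⟩)
          fun x hx' y hy => Subtype.ext (s1 hx' y hy))
        refine .inr ⟨a, cT ▸ b, fun x => Subtype.ext (SR3.Rows.pow_congr h.g.equiv.symm c x x.2),
          (le_antisymm ?_ ?_).trans n⟩
        · exact Group.nilpotencyClass_le_of_surjective h.g.equiv.symm.toMonoidHom
            h.g.equiv.symm.surjective
        · exact Group.nilpotencyClass_le_of_surjective h.g.equiv.toMonoidHom h.g.equiv.surjective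
      · exact .inl (.inr a)
    · exact .inl (.inl ⟨E, EX.caseU hx m om s1 s2 s3 s4 s5⟩)
  obtain (⟨U, hU⟩ | ⟨a, ha⟩) | e := key
  · obtain ⟨δ, e, w₁, w₂, f₁, f₂, z, hδ, r, hl⟩ := EX.relO hx hU
    by_cases sq : IsSquare (-δ : ZMod p)
    · obtain ⟨⟨_, _, _, _, _, _, r'⟩, c⟩ := EX.modL hp sq hδ
      exact .inl (tr (EX.isoO hδ r r' hl hU.card c))
    · letI : Fintype (GaloisField p 2) := Fintype.ofFinite _
      have hK : Fintype.card (GaloisField p 2) = p ^ 2 := by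
        rw [← Nat.card_eq_fintype_card, GaloisField.card p 2 two_ne_zero]
      obtain ⟨⟨_, _, _, _, _, _, r'⟩, c⟩ := EX.modU hp sq hK
      exact .inr (.inl ⟨_, _, _, hK, tr (EX.isoO hδ r r' hl hU.card c)⟩)
  · obtain ⟨h5, _, _, _, _, _, r, hl⟩ := EX.relG hx ha
    obtain ⟨⟨_, _, _, _, _, _, r'⟩, c⟩ := EX.modG h5
    have : Finite (Lie.G2 (ZMod p)) := Nat.finite_of_card_ne_zero fun e => c (e ▸ dvd_zero _)
    exact .inr (.inr (.inl ⟨h5, tr (EX.isoG hp r r' hl ha.card c)⟩))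
  · exact .inr (.inr (.inr e))

end Cfsg.Agent.S5177
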