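import Cfsg.Statements.S5180
import Cfsg.Agent.SR3.Rows

set_option autoImplicit false
universe u
open Cfsg

namespace Cfsg.Agent.S5180

/-- Let p ≥ 5 be a prime, S a finite p-group of sectional p-rank exactly 3, and F a saturated fusion system over S. Then every essential subgroup E of F that needs three generators (the Frattini quotient E/Φ(E) has order p³) is normal in S. -/
theorem result {Ω : Type u} [Group Ω] {S : Subgroup Ω} [Finite S] (p : ℕ) [Fact p.Prime] (hp : 5 ≤ p) (hS : IsPGroup p S) (hsr : Cfsg.SectionalPRankLE p 3 ↥S ∧ ¬ Cfsg.SectionalPRankLE p 2 ↥S)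
    (F : Cfsg.FusionSystem S) (hF : F.IsSaturated p) (E : Subgroup Ω) (hE : F.IsEssential p E)
    (hrk : (frattini ↥E).index = p ^ 3) : S ≤ Subgroup.normalizer (E : Set Ω) := by
  by_contra hn
  obtain ⟨G, _, _, T, j, k, h⟩ := SR3.Rows.realize hS F
  have hES : E ≤ S := hE.1.1
  have : Finite E := H91.finite_of_le hES
  have hn' : ¬ T ≤ SR3.nm (H91.im j E) := fun h' => hn (by
    have := SR3.Rows.nm_fwd h.g.symm (h.g.im_le hES) h'
    rwa [h.g.im_im hES] at this)
  obtain ⟨hc, -, -⟩ := SR3.pearl hp (h.g.isPGroup hS) (h.isSaturated hF)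
    (SR3.rk_of (SR3.Rows.sec_congr h.g.equiv hsr.1)) (h.isEssential hE) hn'
  rw [h.g.card_im hES] at hc
  have hd := (frattini ↥E).index_dvd_card
  rw [hrk, hc, Nat.pow_dvd_pow_iff_le_right (by omega)] at hd
  omega

end Cfsg.Agent.S5180
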