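import Cfsg.Statements.S5181
import Cfsg.Agent.SR3.Rows

set_option autoImplicit false
universe u
open Cfsg

namespace Cfsg.Agent.S5181

/-- Let p be an odd prime, S a finite p-group of sectional p-rank exactly 3, and F a saturated fusion system over S whose largest subgroup normal in F is trivial. Then either S is isomorphic to a Sylow p-subgroup of Sp(4,p), or some essential subgroup of F is not normal in S. -/
theorem result {Ω : Type u} [Group Ω] {S : Subgroup Ω} [Finite S] (p : ℕ) [Fact p.Prime] (hp : Odd p) (hS : IsPGroup p S) (hsr : Cfsg.SectionalPRankLE p 3 ↥S ∧ ¬ Cfsg.SectionalPRankLE p 2 ↥S)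
    (F : Cfsg.FusionSystem S) (hF : F.IsSaturated p) (hO : F.core = ⊥) :
    (∃ P : Sylow p ↥(Matrix.symplecticGroup (Fin 2) (ZMod p)),
        Nonempty (↥S ≃* ↥(P : Subgroup ↥(Matrix.symplecticGroup (Fin 2) (ZMod p))))) ∨
      ∃ E : Subgroup Ω, F.IsEssential p E ∧ ¬ S ≤ Subgroup.normalizer (E : Set Ω) := by
  by_cases hn : ∃ E : Subgroup Ω, F.IsEssential p E ∧ ¬ S ≤ Subgroup.normalizer (E : Set Ω)
  · exact Or.inr hn
  left
  obtain ⟨G, _, _, T, j, k, h⟩ := SR3.Rows.realize hS F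
  have hn' : ∀ E, (groupFusionSystem T).IsEssential p E → T ≤ SR3.nm E := fun E hE => by
    have h1 := h.symm.isEssential hE
    have := SR3.Rows.nm_fwd h.g h1.1.1 (by_contra fun h2 => hn ⟨_, h1, h2⟩)
    rwa [h.g.symm.im_im hE.1.1] at this
  obtain ⟨E₁, E₂, -, -, p1, p2, hsp⟩ := SR3.Rows.all_normal hp (h.g.isPGroup hS)
    (h.isSaturated hF) (SR3.Rows.sec_congr h.g.equiv hsr.1)
    (fun h2 => hsr.2 (SR3.Rows.sec_congr h.g.equiv.symm h2)) (SR3.Rows.core_bot h hO) hn'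
  obtain ⟨P, ⟨e⟩⟩ := SR3.sp_iso hp p1 p2 hsp
  exact ⟨P, ⟨h.g.equiv.trans e⟩⟩

end Cfsg.Agent.S5181
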