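import Cfsg.Statements.S5182
import Cfsg.Agent.SR3.Rows

set_option autoImplicit false
universe u
open Cfsg

namespace Cfsg.Agent.S5182

/-- Let p ≥ 5 be a prime, S a finite p-group of sectional p-rank exactly 3, and F a saturated fusion system over S whose largest subgroup normal in F is trivial. Then F has an essential subgroup that is either elementary abelian of order p² or extraspecial of order p³ and exponent p. -/
theorem result {Ω : Type u} [Group Ω] {S : Subgroup Ω} [Finite S] (p : ℕ) [Fact p.Prime] (hp : 5 ≤ p) (hS : IsPGroup p S) (hsr : Cfsg.SectionalPRankLE p 3 ↥S ∧ ¬ Cfsg.SectionalPRankLE p 2 ↥S)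
    (F : Cfsg.FusionSystem S) (hF : F.IsSaturated p) (hO : F.core = ⊥) :
    ∃ E : Subgroup Ω, (F.IsEssential p E ∧ ((Cfsg.IsElementaryAbelian p E ∧ Nat.card E = p ^ 2) ∨
        (Cfsg.IsExtraspecial p ↥E ∧ Nat.card E = p ^ 3 ∧ ∀ x ∈ E, x ^ p = 1))) := by
  obtain ⟨G, _, _, T, j, k, h⟩ := SR3.Rows.realize hS F
  have h3 := SR3.Rows.sec_congr h.g.equiv hsr.1
  have ho : Odd p := (Fact.out : p.Prime).odd_of_ne_two (by omega)
  by_cases hn : ∀ E, (groupFusionSystem T).IsEssential p E → T ≤ SR3.nm E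
  · obtain ⟨E₁, E₂, -, hE, p1, p2, hsp⟩ := SR3.Rows.all_normal ho (h.g.isPGroup hS)
      (h.isSaturated hF) h3 (fun h2 => hsr.2 (SR3.Rows.sec_congr h.g.equiv.symm h2))
      (SR3.Rows.core_bot h hO) hn
    obtain ⟨a, b, c, -⟩ := SR3.sp_exs p1 p2 hsp
    let e := (h.g.symm.restrict hE.1.1).equiv
    exact ⟨_, h.symm.isEssential hE, Or.inr ⟨H15.isExtraspecial_congr e a,
      (h.g.symm.card_im hE.1.1).trans b, SR3.Rows.pow_congr e c⟩⟩
  · push Not at hn
    obtain ⟨E, hE, hn⟩ := hn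
    obtain ⟨a, b, c⟩ := SR3.pearl hp (h.g.isPGroup hS) (h.isSaturated hF) (SR3.rk_of h3) hE hn
    let e := (h.g.symm.restrict hE.1.1).equiv
    exact ⟨_, h.symm.isEssential hE, Or.inl ⟨SR3.Rows.elab_congr e
      ⟨Subgroup.le_centralizer_iff_isMulCommutative.1 b, c⟩, (h.g.symm.card_im hE.1.1).trans a⟩⟩

end Cfsg.Agent.S5182
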