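import Cfsg.Statements.S5187
import Cfsg.Agent.H62.NoFlag3
import Cfsg.Agent.H62.SmallFus

set_option autoImplicit false
universe u
open Cfsg

namespace Cfsg.Agent.S5187

open Subgroup Cfsg.Agent.H62 Cfsg.Agent.H91 Cfsg.FusionSystem
open scoped commutatorElement


/-- Let F be a saturated fusion system over a finite p-group S and H an abelian essential subgroup that can be generated by two elements (its Frattini quotient has order at most p²). Then H is elementary abelian of order p², or p ≤ 3 and H is homocyclic of rank two, that is isomorphic to C_{pᵏ} × C_{pᵏ} for some k. -/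
theorem result {Ω : Type u} [Group Ω] {S : Subgroup Ω} [Finite S] (p : ℕ) [Fact p.Prime] (hS : IsPGroup p S)
    (F : Cfsg.FusionSystem S) (hF : F.IsSaturated p) (H : Subgroup Ω) (hH : F.IsEssential p H) (hab : IsMulCommutative ↥H) (hrk : (frattini ↥H).index ≤ p ^ 2) :
    (Cfsg.IsElementaryAbelian p H ∧ Nat.card H = p ^ 2) ∨
      (p ≤ 3 ∧ ∃ k : ℕ, Nonempty (↥H ≃* Multiplicative (ZMod (p ^ k) × ZMod (p ^ k)))) := by
  have hpp : p.Prime := Fact.out
  have hES := hH.1.1
  have := finite_of_le hES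
  have hp := isPGroup_of_le hS hES
  have hN := nf_of_essential hS hF hH
  have hab' : ∀ x ∈ H, ∀ y ∈ H, x * y = y * x := fun x hx y hy => H50.mul_comm_of_abelian hab hx hy
  let _ : CommGroup H := { (inferInstance : Group H) with
    mul_comm := fun a b => Subtype.ext (hab' a a.2 b b.2) }
  have hc : Nat.card H ≤ p ^ 2 * Nat.card (frattini H) := by
    rw [← (frattini H).index_mul_card]; exact Nat.mul_le_mul_right _ hrk
  by_cases h3 : p ≤ 3
  · exact Or.inr ⟨h3, hN.homocyclic hp hc⟩
  left
  have h5 : 5 ≤ p := by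
    by_contra h
    obtain rfl : p = 4 := by omega
    exact absurd hpp (by decide)
  have hD := H50.omega_le (p := p) H
  have hexp : ∀ x ∈ omegaOne p H, x ^ p = 1 := fun x =>
    H50.pow_eq_one_of_mem_omega_of_abelian hab
  have hΩ : ∀ x ∈ H, x ^ p = 1 → x ∈ omegaOne p H := fun x => H50.mem_omega
  have hcD : Nat.card (omegaOne p H) = p ^ 2 := by
    have e : omegaOne p (⊤ : Subgroup H) = (powMonoidHom p : H →* H).ker := by
      rw [H50.omega_top_eq]; exact closure_eq (powMonoidHom p : H →* H).ker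
    have := card_ker_pow hp
    rw [le_antisymm hc (hN.sq_le hp), ← e, H50.card_omega_top] at this
    exact Nat.eq_of_mul_eq_mul_right Nat.card_pos this
  have hinv : ∀ α ∈ F.autGroup H, ∀ x ∈ omegaOne p H, efn α x ∈ omegaOne p H := fun α _ x hx =>
    hΩ _ (efn_mem α (hD hx)) (by
      rw [← (homOn_efn α).map_pow (hD hx), hexp x hx, (homOn_efn α).map_one])
  obtain ⟨D, hDH, -, -, hsm, -, hk0⟩ := exists_smallD hS F hES
  have hk : ∀ γ ∈ F.autGroup H, (∀ x ∈ omegaOne p H, efn γ x = x) → ∃ v, γ ^ p ^ v = 1 :=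
    fun γ hγ e => hk0 γ hγ fun x hx => e x (hΩ x (hDH hx)
      ((hsm x hx).resolve_right fun h => by omega))
  obtain ⟨u, v, t, h⟩ := exists_rt hS hF hH hD bot_le hinv
    (fun α _ x _ hx => by rw [mem_bot.1 hx, (homOn_efn α).map_one]; exact one_mem _)
    (fun x hx y hy => commutatorElement_eq_one_iff_mul_comm.2 (hab' x (hD hx) y (hD hy))) hexp
    (by rw [card_bot, mul_one, hcD]) fun γ hγ e =>
      hk γ hγ fun x hx => (inv_mul_eq_one.1 (e x hx)).symm
  have hED := h.le_of_five hS h5 hES hD hexp hΩ hab'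
    (h.pow_mem_E hH.1 (radical_of_essential hS hH) hS hD hexp hinv hk)
  exact ⟨⟨hab, fun x hx => hexp x (hED hx)⟩, by rw [← hcD, ← le_antisymm hED hD]⟩

end Cfsg.Agent.S5187
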