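import Cfsg.Statements.S5188
import Cfsg.Agent.H62.NoFlag3
import Cfsg.Agent.H73.PCube
import Cfsg.Agent.S5187

set_option autoImplicit false
universe u
open Cfsg

namespace Cfsg.Agent.S5188

open Subgroup Cfsg.Agent.H62 Cfsg.Agent.H91 Cfsg.FusionSystem
open scoped commutatorElement

theorem split {G : Type*} [Group G] [Finite G] {p : ℕ} [hp : Fact p.Prime] (hG : IsPGroup p G)
    (hc : Nat.card G = p ^ 4) (hΦ : Nat.card (frattini G) = p) (hZ : Nat.card (center G) = p ^ 2)
    (hZp : ∀ z ∈ center G, z ^ p = 1) :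
    ∃ E : Subgroup G, Nat.card E = p ^ 3 ∧ (∀ x : E, (x : G) ∈ center G ↔ x ∈ center E) ∧
      Nonempty (G ≃* E × Multiplicative (ZMod p)) := by
  have hp1 := hp.out.one_lt
  obtain ⟨z, hz, hz'⟩ := SetLike.exists_of_lt ((frattini_le_center hG hΦ.le).lt_of_ne fun H => by
    rw [H, hZ] at hΦ; nlinarith)
  obtain ⟨E, hE, _, hi, -, hzE⟩ := H3.exists_isCoatom_of_elementary_quotient
    (H3.commutator_le_frattini hG) (H3.pow_mem_frattini hG) hz'
  have hcE : Nat.card E = p ^ 3 := by
    have := E.index_mul_card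
    rw [hi, hc, pow_succ'] at this
    exact Nat.eq_of_mul_eq_mul_left hp.out.pos this
  let f : E × Multiplicative (ZMod p) →* G := E.subtype.noncommCoprod (zHom p z (hZp z hz))
    fun a b => mem_center_iff.1 (pow_mem hz _) _
  have hf : ∀ a b, f (a, b) = a * zHom p z (hZp z hz) b := fun _ _ => rfl
  have hs : Function.Surjective f := MonoidHom.range_eq_top.1 (hE.2 _ (lt_of_le_of_ne
    (fun x hx => ⟨(⟨x, hx⟩, 1), by rw [hf, map_one, mul_one]⟩) fun H => hzE (H ▸ ⟨(1, .ofAdd ((1 : ℕ) : ZMod p)), by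
      rw [hf, zHom_natCast, pow_one, coe_one, one_mul]⟩)))
  refine ⟨E, hcE, fun x => ⟨fun h => mem_center_iff.2 fun g => Subtype.ext (mem_center_iff.1 h g),
    fun h => mem_center_iff.2 fun g => ?_⟩,
    ⟨(MulEquiv.ofBijective f (hs.bijective_of_nat_card_le ?_)).symm⟩⟩
  · obtain ⟨⟨a, b⟩, rfl⟩ := hs g
    have h1 : Commute (a : G) x := congrArg Subtype.val (mem_center_iff.1 h a)
    have h2 : Commute (z ^ b.toAdd.val) x := (mem_center_iff.1 (pow_mem hz _) _).symm
    exact h1.mul_left h2
  · rw [Nat.card_prod, hcE, hc, Nat.card_congr Multiplicative.toAdd, Nat.card_zmod, pow_succ p 3]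


/-- Let F be a saturated fusion system over a finite p-group S and H an essential subgroup of order p⁴. Then H is isomorphic to one of: C_p⁴ or C_{p²} × C_p × C_p (any p); C_{p²} × C_{p²} with p ∈ {2, 3}; p^{1+2}_+ × C_p with p odd (the direct product of an extraspecial group of order p³ and exponent p with a group of order p); Q₈ × C₂ (p = 2); or the non-abelian group of order p⁴ of exponent p² whose centre is cyclic of order p² (the central product of an extraspecial group of order p³ with a cyclic group of order p²; for p = 2 this is D₈ ∘ C₄). -/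
theorem result {Ω : Type u} [Group Ω] {S : Subgroup Ω} [Finite S] (p : ℕ) [Fact p.Prime] (hS : IsPGroup p S)
    (F : Cfsg.FusionSystem S) (hF : F.IsSaturated p) (H : Subgroup Ω) (hH : F.IsEssential p H) (hcard : Nat.card H = p ^ 4) :
    Cfsg.IsElementaryAbelian p H ∨
      Nonempty (↥H ≃* Multiplicative (ZMod (p ^ 2) × ZMod p × ZMod p)) ∨
      ((p = 2 ∨ p = 3) ∧ Nonempty (↥H ≃* Multiplicative (ZMod (p ^ 2) × ZMod (p ^ 2)))) ∨
      (Odd p ∧ ∃ (E : Type) (_ : Group E) (_ : Finite E), Cfsg.IsExtraspecial p E ∧ Nat.card E = p ^ 3 ∧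
        (∀ x : E, x ^ p = 1) ∧ Nonempty (↥H ≃* E × Multiplicative (ZMod p))) ∨
      (p = 2 ∧ Nonempty (↥H ≃* QuaternionGroup 2 × Multiplicative (ZMod 2))) ∨
      (¬ IsMulCommutative ↥H ∧ (∀ x ∈ H, x ^ (p ^ 2) = 1) ∧ IsCyclic ↥(Subgroup.center ↥H) ∧
        Nat.card (Subgroup.center ↥H) = p ^ 2) := by
  have hpp : p.Prime := Fact.out
  have hp1 := hpp.one_lt
  have hES := hH.1.1
  have := finite_of_le hES
  have hp := isPGroup_of_le hS hES
  have hN := nf_of_essential hS hF hH
  have h1 := hN.sq_le hp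
  obtain ⟨r, hr⟩ := (hp.to_subgroup (frattini H)).exists_card_eq
  rw [hcard, hr, ← pow_add, Nat.pow_le_pow_iff_right hp1] at h1
  rcases (show r = 0 ∨ r = 1 ∨ r = 2 by omega) with rfl | rfl | rfl
  · obtain ⟨h2, h3⟩ := elem_of_frattini hp hr.le
    exact Or.inl ⟨⟨⟨h2⟩⟩, fun x hx => congrArg Subtype.val (h3 ⟨x, hx⟩)⟩
  · rw [pow_one] at hr
    by_cases hab : ∀ a b : H, a * b = b * a
    · let _ : CommGroup H := { (inferInstance : Group H) with mul_comm := hab }
      exact Or.inr (Or.inl (equiv_sq_prod hp hcard hr))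
    push Not at hab
    obtain ⟨a, b, hab⟩ := hab
    have hZ := card_center_of_four hp hcard hr.le hab
    refine Or.inr (Or.inr (Or.inr ?_))
    by_cases hZp : ∀ z ∈ center H, z ^ p = 1
    · obtain ⟨E, hE, hEZ, ⟨e⟩⟩ := split hp hcard hr hZ hZp
      have c1 : Nat.card (center H) ≤ p * Nat.card (frattini H) := by rw [hZ, hr, sq]
      have c2 : Nat.card H = p ^ 2 * Nat.card (center H) := by rw [hZ, hcard, ← pow_add]
      have hna : ∃ x y : E, x * y ≠ y * x := by
        by_contra hc
        push Not at hc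
        exact hab (e.injective (by
          rw [map_mul, map_mul]; exact Prod.ext (hc _ _) (mul_comm _ _)))
      rcases hpp.eq_two_or_odd' with rfl | hodd
      · obtain ⟨e'⟩ := quat_of_sq_ne hE hna (H73.isExtraspecial_of_card_eq_cube hE hna).2
          fun x hx h => hN.sq_ne_one hp hr.le c1 c2 hZp (fun h => hx ((hEZ x).1 h))
            (congrArg Subtype.val h)
        exact Or.inr (Or.inl ⟨rfl, ⟨e.trans (e'.prodCongr (MulEquiv.refl _))⟩⟩)
      · have e' : Shrink.{0} E ≃* E := Shrink.mulEquiv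
        have hE' : Nat.card (Shrink.{0} E) = p ^ 3 := (Nat.card_congr e'.toEquiv).trans hE
        have : Finite (Shrink.{0} E) := Finite.of_equiv _ e'.toEquiv.symm
        obtain ⟨x, y, hxy⟩ := hna
        refine Or.inl ⟨hodd, Shrink.{0} E, inferInstance, this,
          H73.isExtraspecial_of_card_eq_cube hE' ⟨e'.symm x, e'.symm y, fun h => hxy
            (e'.symm.injective (by rw [map_mul, map_mul, h]))⟩, hE', fun x => e'.injective ?_,
          ⟨e.trans (e'.symm.prodCongr (MulEquiv.refl _))⟩⟩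
        rw [map_pow, map_one]
        exact Subtype.ext (hN.exp_of_odd hp hodd hr.le c1 c2 hZp _)
    · push Not at hZp
      obtain ⟨z, hz, hz1⟩ := hZp
      refine Or.inr (Or.inr ⟨fun h => hab (h.is_comm.comm a b), fun x hx => ?_, ?_, hZ⟩)
      · rw [sq, pow_mul]
        exact congrArg Subtype.val ((H50.elem_of_card_prime hr).2 _ (H3.pow_mem_frattini hp ⟨x, hx⟩))
      · refine isCyclic_of_orderOf_eq_card (⟨z, hz⟩ : center H) ?_
        rw [hZ]
        exact orderOf_eq_prime_pow (n := 1) (fun h => hz1 (by simpa using congrArg Subtype.val h))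
          (hZ ▸ pow_card_eq_one')
  · have hi : (frattini H).index = p ^ 2 := by
      have := (frattini H).index_mul_card
      rw [hr, hcard, show 4 = 2 + 2 from rfl, pow_add] at this
      exact Nat.eq_of_mul_eq_mul_right (pow_pos hpp.pos 2) this
    rcases S5187.result p hS F hF H hH ⟨⟨hN.comm_of_four hp hcard hr⟩⟩ hi.le with
      ⟨-, h⟩ | ⟨h3, k, ⟨e⟩⟩
    · exact absurd (Nat.pow_right_injective hpp.two_le (h.symm.trans hcard)) (by norm_num)
    · have := Nat.card_congr e.toEquiv
      rw [hcard, Nat.card_congr Multiplicative.toAdd, Nat.card_prod, Nat.card_zmod,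
        ← pow_add] at this
      obtain rfl : k = 2 := by have := Nat.pow_right_injective hpp.two_le this; omega
      exact Or.inr (Or.inr (Or.inl ⟨by omega, ⟨e⟩⟩))

end Cfsg.Agent.S5188
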