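import Cfsg.Statements.S5189
import Cfsg.Agent.SR3.Rows

set_option autoImplicit false
universe u
open Cfsg

namespace Cfsg.Agent.S5189

/-- Let p be an odd prime, S a finite p-group of sectional p-rank exactly 3, and F a saturated fusion system over S whose largest subgroup normal in F is trivial. Suppose S has two distinct essential subgroups E₁, E₂ each of which is invariant under every F-automorphism of S. Then S is isomorphic to a Sylow p-subgroup of Sp(4,p), and one of E₁, E₂ is extraspecial of order p³ and exponent p while the other is elementary abelian of order p³. -/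
theorem result {Ω : Type u} [Group Ω] {S : Subgroup Ω} [Finite S] (p : ℕ) [Fact p.Prime] (hp : Odd p) (hS : IsPGroup p S)
    (hsr : Cfsg.SectionalPRankLE p 3 ↥S ∧ ¬ Cfsg.SectionalPRankLE p 2 ↥S)
    (F : Cfsg.FusionSystem S) (hF : F.IsSaturated p) (hO : F.core = ⊥)
    (E₁ E₂ : Subgroup Ω) (hne : E₁ ≠ E₂) (hE₁ : F.IsEssential p E₁) (hE₂ : F.IsEssential p E₂)
    (hc₁ : (∀ φ : MulAut ↥S, φ ∈ F.autGroup S → (E₁.subgroupOf S).map φ.toMonoidHom = E₁.subgroupOf S))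
    (hc₂ : (∀ φ : MulAut ↥S, φ ∈ F.autGroup S → (E₂.subgroupOf S).map φ.toMonoidHom = E₂.subgroupOf S)) :
    (∃ P : Sylow p ↥(Matrix.symplecticGroup (Fin 2) (ZMod p)),
        Nonempty (↥S ≃* ↥(P : Subgroup ↥(Matrix.symplecticGroup (Fin 2) (ZMod p))))) ∧
      ((Cfsg.IsExtraspecial p ↥E₁ ∧ Nat.card E₁ = p ^ 3 ∧ (∀ x ∈ E₁, x ^ p = 1) ∧
          Cfsg.IsElementaryAbelian p E₂ ∧ Nat.card E₂ = p ^ 3) ∨
        (Cfsg.IsExtraspecial p ↥E₂ ∧ Nat.card E₂ = p ^ 3 ∧ (∀ x ∈ E₂, x ^ p = 1) ∧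
          Cfsg.IsElementaryAbelian p E₁ ∧ Nat.card E₁ = p ^ 3)) := by
  obtain ⟨G, _, _, T, j, k, h⟩ := SR3.Rows.realize hS F
  obtain ⟨p1, p2, hsp⟩ := SR3.Rows.two_char hp (h.g.isPGroup hS) (h.isSaturated hF)
    (SR3.Rows.sec_congr h.g.equiv hsr.1)
    (fun h2 => hsr.2 (SR3.Rows.sec_congr h.g.equiv.symm h2)) (SR3.Rows.core_bot h hO)
    (fun e => hne (h.g.im_inj hE₁.1.1 hE₂.1.1 e)) (h.isEssential hE₁) (h.isEssential hE₂)
    (SR3.Rows.char_fwd h hE₁.1.1 hc₁) (SR3.Rows.char_fwd h hE₂.1.1 hc₂)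
  let e1 := (h.g.restrict hE₁.1.1).equiv.symm
  let e2 := (h.g.restrict hE₂.1.1).equiv.symm
  rcases hsp with hsp | hsp
  · obtain ⟨P, ⟨e⟩⟩ := SR3.sp_iso hp p1 p2 hsp
    obtain ⟨a, b, c, d, f⟩ := SR3.sp_exs p1 p2 hsp
    exact ⟨⟨P, ⟨h.g.equiv.trans e⟩⟩, Or.inr ⟨H15.isExtraspecial_congr e2 a,
      (h.g.card_im hE₂.1.1).symm.trans b, SR3.Rows.pow_congr e2 c, SR3.Rows.elab_congr e1 d,
      (h.g.card_im hE₁.1.1).symm.trans f⟩⟩
  · obtain ⟨P, ⟨e⟩⟩ := SR3.sp_iso hp p2 p1 hsp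
    obtain ⟨a, b, c, d, f⟩ := SR3.sp_exs p2 p1 hsp
    exact ⟨⟨P, ⟨h.g.equiv.trans e⟩⟩, Or.inl ⟨H15.isExtraspecial_congr e1 a,
      (h.g.card_im hE₁.1.1).symm.trans b, SR3.Rows.pow_congr e1 c, SR3.Rows.elab_congr e2 d,
      (h.g.card_im hE₂.1.1).symm.trans f⟩⟩

end Cfsg.Agent.S5189
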