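import Cfsg.Statements.S5192
import Cfsg.Agent.H62.FreeCount
import Cfsg.Agent.H94.Transfer
import Cfsg.Agent.H93.HypFactor

set_option autoImplicit false
open Cfsg

namespace Cfsg.Agent.S5192

open Cfsg.Agent.H91 Cfsg.Agent.H62 Cfsg.Agent.H94 Cfsg.FusionSystem MulAction

theorem norm_eq {Ω : Type*} [Group Ω] {S : Subgroup Ω} (j : S) (hj : orderOf (j : Ω) = 2) :
    normalizerIn S (Subgroup.zpowers (j : Ω)) =
      (Subgroup.centralizer ({j} : Set S)).map S.subtype := by
  have hj1 : (j : Ω) ≠ 1 := fun e => by rw [e, orderOf_one] at hj; omega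
  have hj2 : (j : Ω) ^ 2 = 1 := by rw [← hj]; exact pow_orderOf_eq_one _
  haveI : Finite (Subgroup.zpowers (j : Ω)) :=
    Nat.finite_of_card_ne_zero (by rw [Nat.card_zpowers, hj]; omega)
  ext g
  constructor
  · rintro ⟨hg, hn⟩
    refine ⟨⟨g, hg⟩, ?_, rfl⟩
    obtain ⟨k, hk⟩ := conj_mem_of_mem_normalizer hn (Subgroup.mem_zpowers (j : Ω))
    simp only at hk
    have : g * j * g⁻¹ = j := by
      rcases Int.even_or_odd' k with ⟨l, rfl | rfl⟩
      · exfalso
        rw [zpow_mul, zpow_ofNat, hj2, one_zpow, eq_comm, conj_eq_one_iff] at hk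
        exact hj1 hk
      · rw [← hk, zpow_add, zpow_mul, zpow_ofNat, hj2]; simp
    rw [SetLike.mem_coe, Subgroup.mem_centralizer_singleton_iff]
    exact Subtype.ext (by simpa [mul_inv_eq_iff_eq_mul] using this)
  · rintro ⟨g, hg, rfl⟩
    rw [SetLike.mem_coe, Subgroup.mem_centralizer_singleton_iff] at hg
    have hg' : (g : Ω) * j = j * g := congrArg Subtype.val hg
    refine ⟨g.2, mem_normalizer_of_conj_mem ?_⟩
    rintro _ ⟨k, rfl⟩
    show (g : Ω) * j ^ k * (g : Ω)⁻¹ ∈ _
    rw [← conj_zpow, hg', mul_inv_cancel_right]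
    exact ⟨k, rfl⟩


/-- A Thompson-type transfer for saturated fusion systems. Let F be a saturated fusion system on a finite 2-group S, T a subgroup of S of index 2, and i an involution of S such that every fully normalized F-conjugate of i lies in S but outside T. Then i does not lie in the hyperfocal subgroup of F (the Sylow group of the 2-residual subsystem). -/
theorem result {Ω : Type*} [Group Ω] [Finite Ω] {S : Subgroup Ω}
    (hS : IsPGroup 2 ↥S) (F : Cfsg.FusionSystem S) (hF : F.IsSaturated 2)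
    (T : Subgroup Ω) (hTS : T ≤ S) (hT : T.relIndex S = 2)
    (i : Ω) (hi : i ∈ S) (hi2 : orderOf i = 2)
    (h : ∀ j : Ω, F.IsConjElt i j → F.IsFullyNormalized (Subgroup.zpowers j) → j ∉ T) :
    i ∉ F.hyperfocalSubgroup 2 := by
  classical
  haveI : Fact (Nat.Prime 2) := ⟨Nat.prime_two⟩
  obtain ⟨X, _, ρ, hb, -, m, hm, hpm⟩ := exists_charBiset hS hF
  haveI := Fintype.ofFinite S
  let T' : Subgroup S := T.subgroupOf S
  have hT' : T'.index = 2 := hT
  haveI : T'.Normal := Subgroup.normal_of_index_eq_two hT'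
  let i' : S := ⟨i, hi⟩
  let σ : T' →* Equiv.Perm X := (ρ.comp (MonoidHom.inr S S)).comp T'.subtype
  letI : MulAction T' X := MulAction.compHom X σ
  have hsm : ∀ (t : T') (x : X), t • x = ρ (1, t) x := fun _ _ => rfl
  have hfree : ∀ (t : T') (x : X), t • x = x → t = 1 := fun t x e =>
    Subtype.ext (hb.free_right e)
  let Y := orbitRel.Quotient T' X
  haveI : Fintype Y := Fintype.ofFinite _
  letI : MulAction (bisetGroup ρ) Y :=
    { smul := fun g => Quotient.map (g : Equiv.Perm X) (by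
        rintro a b ⟨t, rfl⟩
        exact ⟨t, (g.2 t b).symm⟩)
      one_smul := by rintro ⟨x⟩; rfl
      mul_smul := by rintro a b ⟨x⟩; rfl }
  have hsmY : ∀ (g : bisetGroup ρ) (x : X),
      g • (Quotient.mk _ x : Y) = Quotient.mk _ ((g : Equiv.Perm X) x) := fun _ _ => rfl
  let δ : bisetGroup ρ →* ℤˣ := Equiv.Perm.sign.comp (MulAction.toPermHom (bisetGroup ρ) Y)
  let τ : S →* ℤˣ := δ.comp (bisetHom ρ)
  -- `τ` kills the focal subgroup
  have hfoc : F.focalSubgroup ≤ τ.ker.map S.subtype := by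
    refine H93.focal_le_iff.2 fun P f hf x hx => ?_
    obtain ⟨g, hg⟩ := hb.exists_conj hf
    refine ⟨(⟨x, hf.le hx⟩ : S)⁻¹ * ⟨f x, hf.mem hx⟩, ?_, rfl⟩
    rw [SetLike.mem_coe, MonoidHom.mem_ker, map_mul, map_inv]
    have : τ ⟨f x, hf.mem hx⟩ = τ ⟨x, hf.le hx⟩ := by
      show δ (bisetHom ρ _) = δ (bisetHom ρ _)
      rw [hg ⟨x, hf.le hx⟩ ⟨f x, hf.mem hx⟩ hx rfl, map_mul, map_mul, map_inv,
        mul_inv_cancel_comm]
    rw [this, inv_mul_cancel]
  -- fixed point counts
  let Fx : S → Set X := fun j => {x | ρ (i', j) x = x}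
  have hFx : ∀ (P : Subgroup Ω) (f : Ω → Ω), M F P f → ∀ j j' : S, (j : Ω) ∈ P → (j' : Ω) = f j →
      (Fx j).ncard = (Fx j').ncard := by
    intro P f hf j j' hj hj'
    obtain ⟨e, he⟩ := hb.exists_perm (M.id F le_rfl) hf
    rw [← Set.ncard_image_of_injective _ e.injective]
    congr 1
    ext y
    obtain ⟨x, rfl⟩ := e.surjective y
    rw [e.injective.mem_set_image]
    show ρ (i', j) x = x ↔ ρ (i', j') (e x) = e x
    rw [← he (i', j) (i', j') hi hj rfl hj' x, e.injective.eq_iff]
  have hdiv : ∀ j : S, Nat.card (Subgroup.centralizer ({j} : Set S)) ∣ (Fx j).ncard := by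
    intro j
    refine card_dvd_ncard_of_free ((ρ.comp (MonoidHom.inr S S)).comp (Subgroup.subtype _))
      (fun k x e => Subtype.ext (hb.free_right e)) fun k x hx => ?_
    have hk : (k : S) * j = j * k := Subgroup.mem_centralizer_singleton_iff.1 k.2
    show ρ (i', j) (ρ (1, k) x) = ρ (1, k) x
    have hx' : ρ (i', j) x = x := hx
    conv_rhs => rw [← hx']
    rw [rho_mul, rho_mul]; simp [hk]
  have hdiv2 : ∀ j : S, (j : Ω) ∈ T →
      2 * Nat.card (Subgroup.centralizer ({j} : Set S)) ∣ (Fx j).ncard := by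
    intro j hjT
    rcases (Fx j).eq_empty_or_nonempty with h0 | ⟨x, hx⟩
    · rw [h0]; simp
    obtain ⟨P, f, hf, hg⟩ := hb.gen x
    obtain ⟨h1, h2⟩ := (hg (i', j)).1 hx
    have hc : F.IsConjElt i j := h2 ▸ hf.isConjElt h1
    have hj2 : orderOf (j : Ω) = 2 := by
      rw [← hi2, ← h2]
      exact orderOf_injective hf.homOn.toHom (fun a b e => Subtype.ext (hf.injOn a.2 b.2 e))
        ⟨i, h1⟩ |>.trans (Subgroup.orderOf_coe (⟨i, h1⟩ : P)).symm
    have hnf : ¬ F.IsFullyNormalized (Subgroup.zpowers (j : Ω)) := fun hn => h j hc hn hjT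
    have hle : Subgroup.zpowers (j : Ω) ≤ S := (Subgroup.zpowers_le).2 j.2
    simp only [IsFullyNormalized, not_and, not_forall, not_le] at hnf
    obtain ⟨R, hR, hlt⟩ := hnf hle
    obtain ⟨k, hk, rfl⟩ := isConj_iff.1 hR
    let j' : S := ⟨k j, hk.mem (Subgroup.mem_zpowers _)⟩
    have him : im k (Subgroup.zpowers (j : Ω)) = Subgroup.zpowers (j' : Ω) := by
      ext y
      rw [hk.mem_im le_rfl]
      constructor
      · rintro ⟨_, ⟨n, rfl⟩, rfl⟩
        exact ⟨n, (hk.homOn.map_zpow (Subgroup.mem_zpowers _) n).symm⟩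
      · rintro ⟨n, rfl⟩
        exact ⟨_, ⟨n, rfl⟩, hk.homOn.map_zpow (Subgroup.mem_zpowers _) n⟩
    have hj2' : orderOf (j' : Ω) = 2 := by
      rw [← Nat.card_zpowers, ← him, hk.card_im le_rfl, Nat.card_zpowers, hj2]
    rw [him, norm_eq j hj2, norm_eq j' hj2', Subgroup.card_map_of_injective S.subtype_injective,
      Subgroup.card_map_of_injective S.subtype_injective] at hlt
    rw [hFx _ k hk j j' (Subgroup.mem_zpowers _) rfl]
    refine dvd_trans ?_ (hdiv j')
    obtain ⟨a, ha⟩ := (hS.to_subgroup (Subgroup.centralizer ({j} : Set S))).exists_card_eq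
    obtain ⟨b, hb'⟩ := (hS.to_subgroup (Subgroup.centralizer ({j'} : Set S))).exists_card_eq
    rw [ha, hb'] at hlt ⊢
    rw [← pow_succ']
    exact pow_dvd_pow 2 ((Nat.pow_lt_pow_iff_right (by norm_num)).1 hlt)
  let g : S → ℕ := fun j => if (j : Ω) ∈ T then (Fx j).ncard else 0
  have hsum : 2 * Nat.card S ∣ ∑ j, g j := by
    refine dvd_sum_class g 2 ?_ fun j => ?_
    · intro a b hab
      obtain ⟨c, rfl⟩ := isConj_iff.1 hab
      have hiff : (a : Ω) ∈ T ↔ ((c * a * c⁻¹ : S) : Ω) ∈ T :=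
        (Subgroup.Normal.mem_comm_iff (H := T') inferInstance (a := c * a) (b := c⁻¹)).trans
          (by rw [inv_mul_cancel_left]; rfl) |>.symm
      simp only [g]
      rw [← hiff, hFx S _ (M.conj F le_rfl c.2) a (c * a * c⁻¹) a.2 rfl]
    · simp only [g]
      split_ifs with hj
      · exact hdiv2 j hj
      · exact dvd_zero _
  let π : Equiv.Perm Y := MulAction.toPermHom (bisetGroup ρ) Y (bisetHom ρ i')
  have hW : (fun x => (Quotient.mk _ x : Y)) ⁻¹' (Function.fixedPoints π) =
      ⋃ j ∈ T', Fx j := by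
    ext x
    simp only [Set.mem_preimage, Set.mem_iUnion, Function.mem_fixedPoints_iff]
    show (Quotient.mk _ (ρ (i', 1) x) : Y) = Quotient.mk _ x ↔ _
    constructor
    · intro e
      obtain ⟨t, ht⟩ : ρ (i', 1) x ∈ orbit T' x := Quotient.exact e
      refine ⟨t⁻¹, T'.inv_mem t.2, ?_⟩
      show ρ (i', (t : S)⁻¹) x = x
      have ht' : ρ (1, t) x = ρ (i', 1) x := ht
      have : ((i', (t : S)⁻¹) : S × S) = (1, (t : S)⁻¹) * (i', 1) := by simp
      rw [this, ← rho_mul, ← ht', rho_mul]; simp [Prod.mk_one_one]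
    · rintro ⟨j, hj, hx⟩
      refine Quotient.sound ⟨⟨j⁻¹, T'.inv_mem hj⟩, ?_⟩
      show ρ (1, j⁻¹) x = ρ (i', 1) x
      have hx' : ρ (i', j) x = x := hx
      conv_lhs => rw [← hx', rho_mul]
      simp
  have hWc : (⋃ j ∈ T', Fx j).ncard = ∑ j, g j := by
    haveI := Fintype.ofFinite X
    have e : (⋃ j ∈ T', Fx j) = ⋃ j : S, (if (j : Ω) ∈ T then Fx j else ∅) := by
      ext x
      simp only [Set.mem_iUnion]
      constructor
      · rintro ⟨j, hj, hx⟩; exact ⟨j, by rw [if_pos (by exact hj)]; exact hx⟩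
      · rintro ⟨j, hx⟩
        split_ifs at hx with hj
        · exact ⟨j, hj, hx⟩
        · exact absurd hx (Set.notMem_empty _)
    rw [e, Set.ncard_iUnion_of_finite (fun _ => Set.toFinite _), finsum_eq_sum_of_fintype]
    · refine Finset.sum_congr rfl fun j _ => ?_
      simp only [g]; split_ifs <;> simp
    · intro a b hab
      rw [Function.onFun, Set.disjoint_left]
      intro x ha hb'
      split_ifs at ha hb' with h1 h2
      · refine hab (hb.right_inj (x := ρ (i', 1) x) ?_)
        have ha' : ρ (i', a) x = x := ha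
        have hb'' : ρ (i', b) x = x := hb'
        rw [rho_mul, rho_mul]; simpa [ha'] using hb''.symm
      · exact absurd hb' (Set.notMem_empty _)
      · exact absurd ha (Set.notMem_empty _)
      · exact absurd ha (Set.notMem_empty _)
  have hc1 := ncard_preimage_free hfree (Function.fixedPoints π)
  rw [hW, hWc] at hc1
  have hc2 := ncard_preimage_free hfree Set.univ
  rw [Set.preimage_univ, Set.ncard_univ, Set.ncard_univ, hm] at hc2
  have hST : Nat.card S = 2 * Nat.card T' := by rw [← hT', T'.index_mul_card]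
  have hpos : 0 < Nat.card T' := Nat.card_pos
  have hY : Fintype.card Y = 2 * m := by
    rw [← Nat.card_eq_fintype_card]
    refine Nat.eq_of_mul_eq_mul_right hpos ?_
    rw [← hc2, hST]; ring
  have h4 : 4 ∣ Fintype.card (Function.fixedPoints π) := by
    rw [← Nat.card_eq_fintype_card, Nat.card_coe_set_eq]
    refine Nat.dvd_of_mul_dvd_mul_right hpos ?_
    rw [← hc1]
    convert hsum using 1
    rw [hST]; ring
  have hπ : π ^ 2 = 1 := by
    have : i' ^ 2 = 1 := Subtype.ext (by rw [← hi2]; exact pow_orderOf_eq_one _)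
    simp only [π]
    rw [← map_pow, ← map_pow, this, map_one, map_one]
  have hsign := Equiv.Perm.sign_of_pow_two_eq_one hπ
  have hle : Fintype.card (Function.fixedPoints π) ≤ Fintype.card Y := Fintype.card_subtype_le _
  intro hhyp
  obtain ⟨y, hy, e⟩ := hfoc (H93.hyp_le_focal F 2 hhyp)
  have : y = i' := Subtype.ext e
  subst this
  have hy' : Equiv.Perm.sign π = 1 := hy
  rw [hy'] at hsign
  obtain ⟨c, hc⟩ := h4
  have hodd : Odd ((Fintype.card Y - Fintype.card (Function.fixedPoints π)) / 2) := by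
    rw [hY, hc] at hle
    rw [hY, hc, Nat.odd_iff]; omega
  rw [hodd.neg_one_pow] at hsign
  exact absurd hsign (by decide)

end Cfsg.Agent.S5192
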