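import Cfsg.Statements.S5220
import Cfsg.Agent.H93.Gold

set_option autoImplicit false
open Cfsg

namespace Cfsg.Agent.S5220

open Cfsg.FusionSystem Cfsg.Agent.H93
open Cfsg.Agent.H91 hiding center_central center_le central_bot central_mono central_sup conj_mem_hyp core_le core_normal exists_conj_mod_hyp focal_eq_hyp_sup isCentral_iff isFullyAutomized_iff isNormal_iff le_center le_core mem_opIn_of_chain normal_bot normal_sup sSup_mem_of_sup_closed stronglyClosed_iff weaklyClosed_iff

/-- Let F be a saturated fusion system over a nontrivial finite p-group S, let J(S) be the subgroup generated by the abelian subgroups of S of largest order, and let V be the subgroup generated by the p-th powers of the elements of Z(S). Then F is generated by the centralizer fusion system of V and the normalizer fusion system of J(S): every fusion system over S containing the maps of both contains every map of F. -/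
theorem result {Ω : Type*} [Group Ω] {S : Subgroup Ω} [Finite S] (p : ℕ) [Fact p.Prime] (hS : IsPGroup p S) (F : Cfsg.FusionSystem S) (hF : F.IsSaturated p) (hS1 : S ≠ ⊥) (C : Cfsg.FusionSystem (Cfsg.FusionSystem.centralizerIn S (Cfsg.powerClosure p 1 (S ⊓ Subgroup.centralizer (S : Set Ω))))) (hC : F.IsCentralizerSystem (Cfsg.powerClosure p 1 (S ⊓ Subgroup.centralizer (S : Set Ω))) C) (N : Cfsg.FusionSystem (Cfsg.FusionSystem.normalizerIn S (Cfsg.thompsonSubgroupAOf S))) (hN : F.IsNormalizerSystem (Cfsg.thompsonSubgroupAOf S) N) (E : Cfsg.FusionSystem S) (hCE : C.IsSubsystemOf E) (hNE : N.IsSubsystemOf E) : F.IsSubsystemOf E := by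
  have hmem : ∀ y, y ∈ powerClosure p 1 (S ⊓ Subgroup.centralizer (S : Set Ω)) ↔
      ∃ x ∈ centralizerIn S S, y = x ^ p := fun y => by
    rw [mem_powerClosure_abelian (center_comm _), pow_one]; rfl
  refine gold_ctrl Ω S F hS hF S E le_rfl (fun P f hf hz => ?_) fun P f hf =>
    ((isNormalizerSystem_iff.1 hN P f).2 hf).of_sub hNE
  refine ((isCentralizerSystem_iff.1 hC P f).2 (hf.toCM (fun y hy => ?_) (fun y hy => ?_) le_rfl
    fun g hg => mem_centralizerIn.2 ⟨hf.le hg, fun y hy => ?_⟩)).of_sub hCE
  · obtain ⟨x, hx, rfl⟩ := (hmem y).1 hy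
    exact (hz x hx).1
  · obtain ⟨x, hx, rfl⟩ := (hmem y).1 hy
    exact (hz x hx).2
  · obtain ⟨x, hx, rfl⟩ := (hmem y).1 hy
    exact ((mem_centralizerIn.1 (Subgroup.pow_mem _ hx p)).2 g (hf.le hg)).symm

end Cfsg.Agent.S5220
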