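import Cfsg.Statements.S5227
import Cfsg.Agent.C3F.Main
import Cfsg.Agent.H92.Iso2

set_option autoImplicit false
open Cfsg

namespace Cfsg.Agent.S5227

/-- Let S be a finite 3-group isomorphic to a Sylow 3-subgroup of the Conway group Co₁ and F a saturated fusion system over S with no nontrivial normal subgroup (O₃(F) = 1). Then F is realizable: it is the fusion system of a finite group on a Sylow 3-subgroup. -/
theorem result {Ω : Type*} [Group Ω] {S : Subgroup Ω} [Finite S] (hS : IsPGroup 3 S) (F : Cfsg.FusionSystem S) (hF : F.IsSaturated 3) [Fact (Nat.Prime 3)] (T : Sylow 3 Cfsg.Spor.Co1) (e : ↥S ≃* ↥(T : Subgroup Cfsg.Spor.Co1)) (hcore : F.core = ⊥) : F.IsRealizable 3 := by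
  obtain ⟨G, _, _, R, j, k, h⟩ := SR3.Rows.realize hS F
  obtain ⟨ι, r, -⟩ := C3X.exists_co
  have := r.fin
  have hp : IsPGroup 3 ι.range := by
    rw [MonoidHom.range_eq_map]
    exact (C3F.three_SS.to_subgroup ⊤).map ι
  let T' := hp.toSylow (C3F.re_idx r)
  let ε : C3X.SS ≃* R :=
    ((MonoidHom.ofInjective r.inj).trans ((T'.equiv T).trans e.symm)).trans h.g.equiv
  obtain ⟨u, hu, rfl⟩ : ∃ u : C3X.SS →* G, Function.Injective u ∧ u.range = R :=
    ⟨R.subtype.comp ε.toMonoidHom, R.subtype_injective.comp ε.injective, by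
      rw [MonoidHom.range_comp, MonoidHom.range_eq_top.2 ε.surjective, ← MonoidHom.range_eq_map,
        Subgroup.range_subtype]⟩
  refine C3F.main h (C3F.good_of_core ⟨C3F.three_SS, hu, h.isSaturated hF⟩ ?_)
  have h1 := h.symm.core
  rw [hcore] at h1
  refine eq_bot_iff.2 fun x hx => ?_
  have hx' := H91.core_le _ hx
  have h2 : k x = 1 := Subgroup.mem_bot.1 (h1 ▸ H91.mem_im_of_mem k hx)
  rw [Subgroup.mem_bot, ← h.g.jk x hx', h2]
  exact h.g.hj.map_one

end Cfsg.Agent.S5227
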