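import Cfsg.Statements.S5228
import Cfsg.Agent.TH3.Cert
import Cfsg.Agent.TH3.Glue
import Cfsg.Agent.TH3.EqA
import Cfsg.Agent.TH3.SCa
import Cfsg.Agent.TH3.SCb

set_option autoImplicit false
open Cfsg

namespace Cfsg.Agent.S5228

open TH3 FK

/-- a weakly normal subsystem lives over the trivial group or over the whole group -/
theorem sc_main {G : Type*} [Group G] [Finite G] [Fact (Nat.Prime 3)] {u : V →* G} {T : Subgroup V}
    {K : Subgroup V → Subgroup G} (k : Sat 3 u) (c : Cf u) (n : Nrm 3 u T K) : T = ⊥ ∨ T = ⊤ := by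
  refine or_iff_not_imp_left.2 fun h0 => ?_
  have z := sc1 n.sc h0 (m1 k c)
  rcases m23 k c with m | m
  · exact sc2 n.sc z (m1 k c) m
  obtain ⟨E, p, t⟩ := id m
  have l := triB p t n.sc z
  by_cases e : T ≤ E1
  · exact (sc3 (le_antisymm e l ▸ n) m).elim
  · obtain ⟨a, ha, h1⟩ := SetLike.not_le_iff_exists.1 e
    exact top_le_iff.1 fun b _ => (upS1 h1).mem l ha

/-- Let S be a finite 3-group isomorphic to a Sylow 3-subgroup of the Thompson sporadic group and F a saturated fusion system over S with no nontrivial normal subgroup (O₃(F) = 1). Then F is a simple fusion system. -/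
theorem result {Ω : Type*} [Group Ω] {S : Subgroup Ω} [Finite S] (hS : IsPGroup 3 S) (F : Cfsg.FusionSystem S) (hF : F.IsSaturated 3) [Fact (Nat.Prime 3)] (T : Sylow 3 Cfsg.Spor.Th) (e : ↥S ≃* ↥(T : Subgroup Cfsg.Spor.Th)) (hcore : F.core = ⊥) : F.IsSimple 3 := by
  obtain ⟨i⟩ := exists_iso T
  have j := i.trans e.symm
  refine simple_of hS hF hcore (fun b => h9_ne (j.injective (Subtype.ext ?_)))
    (ι := S.subtype.comp j.toMonoidHom) (S.subtype_injective.comp j.injective) ?_
    (fun _ _ _ _ _ _ k c n => sc_main k c n) fun _ _ _ _ _ _ _ _ k k' c l => eq_aut k k' c l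
  · rw [map_one]
    exact Subgroup.mem_bot.1 (b ▸ (j (h 9)).2)
  · rw [MonoidHom.range_comp, MonoidHom.range_eq_top.2 j.surjective, ← MonoidHom.range_eq_map, S.range_subtype]

end Cfsg.Agent.S5228
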