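import Cfsg.Statements.S5244
import Cfsg.Agent.H93.AbIdx3

set_option autoImplicit false
open Cfsg

namespace Cfsg.Agent.S5244

open Cfsg.FusionSystem Cfsg.Agent.H93
open Cfsg.Agent.H91 hiding center_central center_le central_bot central_mono central_sup conj_mem_hyp core_le core_normal exists_conj_mod_hyp focal_eq_hyp_sup isCentral_iff isFullyAutomized_iff isNormal_iff le_center le_core mem_opIn_of_chain normal_bot normal_sup sSup_mem_of_sup_closed stronglyClosed_iff weaklyClosed_iff

/-- Let p be an odd prime, S a finite nonabelian p-group with a unique abelian subgroup A of index p, and F a saturated fusion system over S with no nontrivial normal subgroup (O_p(F) = 1) in which A is not F-essential. Then some subgroup Z(S)⟨x⟩ with x ∈ S outside A is F-essential, the centre Z(S) is contained in the commutator subgroup of S, and S has maximal nilpotency class (if S has order pⁿ with n ≥ 3, the term of index n − 2 of its lower central series, counting S itself as the term of index 0, is nontrivial). -/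
theorem result {Ω : Type*} [Group Ω] {S : Subgroup Ω} [Finite S] (p : ℕ) [Fact p.Prime] (hS : IsPGroup p S) (F : Cfsg.FusionSystem S) (hF : F.IsSaturated p) (hp : p ≠ 2) (hna : ¬ IsMulCommutative ↥S) (A : Subgroup Ω) (hA : A ≤ S ∧ IsMulCommutative ↥A ∧ (A.subgroupOf S).index = p) (huniq : ∀ B : Subgroup Ω, B ≤ S → IsMulCommutative ↥B → (B.subgroupOf S).index = p → B = A) (hcore : F.core = ⊥) (hAe : ¬ F.IsEssential p A) : (∃ x ∈ S, x ∉ A ∧ F.IsEssential p ((S ⊓ Subgroup.centralizer (S : Set Ω)) ⊔ Subgroup.zpowers x)) ∧ (S ⊓ Subgroup.centralizer (S : Set Ω)) ≤ (commutator ↥S).map S.subtype ∧ ∀ n : ℕ, Nat.card S = p ^ n → 3 ≤ n → Subgroup.lowerCentralSeries S (n - 2) ≠ ⊥ := by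
  have h := abI_of hS hna hA.1 hA.2.1 hA.2.2
  have hp' : p.Prime := Fact.out
  obtain ⟨h1, h2, h3⟩ := h.center_le_of_core hF hp hcore hAe
  rw [H93.map_commutator_eq]
  refine ⟨h1, h3, fun n hn h4 hbot => ?_⟩
  obtain ⟨k, rfl⟩ : ∃ k, n = k + 3 := ⟨n - 3, by omega⟩
  have h5 := h.card_lcs k
  rw [inf_eq_left.2 h3, h2, show S.lowerCentralSeries (k + 1) = ⊥ from hbot, Subgroup.card_bot,
    mul_one] at h5
  rw [h.card, h.card_A, h2] at hn
  have h7 : p ^ (k + 3) ≤ p ^ (k + 2) := by
    rw [← hn, pow_succ, pow_succ']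
    exact Nat.mul_le_mul_right _ (Nat.mul_le_mul_left _ h5)
  have := (Nat.pow_le_pow_iff_right hp'.one_lt).1 h7
  omega

end Cfsg.Agent.S5244
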