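import Cfsg.Statements.S5246
import Cfsg.Agent.H93.PStable
import Cfsg.Agent.H92.Iso2
import Cfsg.Agent.H92.GroupFS

set_option autoImplicit false
open Cfsg

namespace Cfsg.Agent.S5246

open Cfsg.FusionSystem Cfsg.Agent.H93
open Cfsg.Agent.H91 hiding center_central center_le central_bot central_mono central_sup core_le core_normal isCentral_iff isFullyAutomized_iff isNormal_iff le_center le_core normal_bot normal_sup sSup_mem_of_sup_closed stronglyClosed_iff weaklyClosed_iff

theorem key {Ω : Type*} [Group Ω] (p : ℕ) (Q : Subgroup Ω) (g : Ω)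
    (hg : g ∈ Subgroup.normalizer (Q : Set Ω)) :
    (QuotientGroup.mk (s := (Subgroup.centralizer (Q : Set Ω)).subgroupOf
      (Subgroup.normalizer (Q : Set Ω))) (⟨g, hg⟩ : ↥(Subgroup.normalizer (Q : Set Ω)))) ∈
        pCore p (↥(Subgroup.normalizer (Q : Set Ω)) ⧸ (Subgroup.centralizer (Q : Set Ω)).subgroupOf
          (Subgroup.normalizer (Q : Set Ω))) ↔ cjAut Q g hg ∈ opIn p (autInducedBy ⊤ Q) := by
  have e0 : autInducedBy ⊤ Q = Q.normalizerMonoidHom.range := by
    rw [autInducedBy_eq_map, Subgroup.top_subgroupOf, MonoidHom.range_eq_map]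
  let e := (QuotientGroup.quotientMulEquivOfEq Q.normalizerMonoidHom_ker.symm).trans
    (QuotientGroup.quotientKerEquivRange Q.normalizerMonoidHom)
  rw [e0, opIn, ← H92.map_pCore_equiv e, Subgroup.map_map]
  exact (Subgroup.mem_map_iff_mem (f := Q.normalizerMonoidHom.range.subtype.comp e.toMonoidHom)
    (Subtype.val_injective.comp e.injective)).symm

/-- Let p be an odd prime, G a finite group and P a Sylow p-subgroup. Call a fusion system F p-stable when, for every fully normalized subgroup Q and every χ ∈ Aut_F(Q) acting quadratically on Q (that is, χ fixes a⁻¹χ(a) for every a ∈ Q; equivalently χ(a⁻¹)·a·χ(a⁻¹)·χ(χ(a)) = 1), χ lies in O_p(Aut_F(Q)). Then G is p-stable in the normalizer form (for every p-subgroup Q and x ∈ N_G(Q) with [Q, x, x] = 1, the image of x lies in O_p(N_G(Q)/C_G(Q))) if and only if the fusion system of G on P is p-stable. -/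
theorem result {Ω : Type*} [Group Ω] [Finite Ω] {p : ℕ} [Fact p.Prime] (hp : p ≠ 2) (P : Sylow p Ω) : Cfsg.IsNormalizerPStable p Ω ↔ (∀ Q : Subgroup Ω, (Cfsg.groupFusionSystem (P : Subgroup Ω)).IsFullyNormalized Q → ∀ χ : MulAut ↥Q, χ ∈ (Cfsg.groupFusionSystem (P : Subgroup Ω)).autGroup Q → (∀ a : ↥Q, (χ a⁻¹) * a * (χ a⁻¹) * (χ (χ a)) = 1) → χ ∈ ((Cfsg.pCore p ↥((Cfsg.groupFusionSystem (P : Subgroup Ω)).autGroup Q)).map ((Cfsg.groupFusionSystem (P : Subgroup Ω)).autGroup Q).subtype : Subgroup (MulAut ↥Q))) := by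
  refine ⟨fun h Q hQ χ hχ hq => ?_, fun h Q hQ g hg hq => ?_⟩
  · rw [H92.autGroup_group hQ.1] at hχ ⊢
    obtain ⟨g, hg, e⟩ := mem_autInducedBy_iff'.1 hχ
    obtain rfl : χ = cjAut Q g hg.2 :=
      mulAut_ext_efn fun x hx => (e x hx).trans (efn_cjAut Q g hg.2 hx).symm
    exact (key p Q g hg.2).1 (h Q (P.isPGroup'.to_le hQ.1) g hg.2 ((quad_cjAut_iff hg.2).1 hq))
  · obtain ⟨k, -, hk⟩ := (sylIn_top P).exists_conj_mem hQ le_top
    have hf := H92.M_group_conj (S := ⊤) (P := Q) (g := k) le_top fun _ _ => trivial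
    have hle : im (fun x => k * x * k⁻¹) Q ≤ P := im_le_iff.2 hk
    have h1 : PS (groupFusionSystem (P : Subgroup Ω)) p _ := ps_all h hle
    have h2 : PS (groupFusionSystem (⊤ : Subgroup Ω)) p (im (fun x => k * x * k⁻¹) Q) := by
      rw [PS, H92.autGroup_group hle] at h1
      rwa [PS, H92.autGroup_group le_top]
    have h3 := h2.of_isConj hf.isConj
    rw [PS, H92.autGroup_group le_top] at h3
    exact (key p Q g hg).2 (h3 _ (cjAut_mem_autInducedBy (Subgroup.mem_top g) hg) ((quad_cjAut_iff hg).2 hq))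

end Cfsg.Agent.S5246
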