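import Cfsg.Statements.S5254
import Cfsg.Agent.H93.AbIdx2

set_option autoImplicit false
open Cfsg

namespace Cfsg.Agent.S5254

open Cfsg.FusionSystem Cfsg.Agent.H93
open Cfsg.Agent.H91 hiding center_central center_le central_bot central_mono central_sup conj_mem_hyp core_le core_normal exists_conj_mod_hyp focal_eq_hyp_sup isCentral_iff isFullyAutomized_iff isNormal_iff le_center le_core mem_opIn_of_chain normal_bot normal_sup sSup_mem_of_sup_closed stronglyClosed_iff weaklyClosed_iff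

/-- Let p be an odd prime, S a finite nonabelian p-group with a unique abelian subgroup A of index p, and F a saturated fusion system over S. Then every F-essential subgroup P is A, or Z(S)⟨x⟩ for some x ∈ S outside A, or (when the second centre Z₂(S) lies in A) Z₂(S)⟨x⟩ for some x ∈ S outside A; and P has index p in its normalizer in S. -/
theorem result {Ω : Type*} [Group Ω] {S : Subgroup Ω} [Finite S] (p : ℕ) [Fact p.Prime] (hS : IsPGroup p S) (F : Cfsg.FusionSystem S) (hF : F.IsSaturated p) (hp : p ≠ 2) (hna : ¬ IsMulCommutative ↥S) (A : Subgroup Ω) (hA : A ≤ S ∧ IsMulCommutative ↥A ∧ (A.subgroupOf S).index = p) (huniq : ∀ B : Subgroup Ω, B ≤ S → IsMulCommutative ↥B → (B.subgroupOf S).index = p → B = A) (P : Subgroup Ω) (hP : F.IsEssential p P) : (P = A ∨ (∃ x ∈ S, x ∉ A ∧ P = (S ⊓ Subgroup.centralizer (S : Set Ω)) ⊔ Subgroup.zpowers x) ∨ (((upperCentralSeries ↥S 2).map S.subtype) ≤ A ∧ ∃ x ∈ S, x ∉ A ∧ P = ((upperCentralSeries ↥S 2).map S.subtype) ⊔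 Subgroup.zpowers x)) ∧ (P.subgroupOf (S ⊓ Subgroup.normalizer (P : Set Ω))).index = p := by
  have h := abI_of hS hna hA.1 hA.2.1 hA.2.2
  by_cases hPA : P = A
  · subst hPA
    refine ⟨Or.inl rfl, ?_⟩
    rw [inf_eq_left.2 h.norm]
    exact hA.2.2
  have hlt := essential_lt hS hF hP
  obtain ⟨x, hx, hxA, h0, h1⟩ := h.cr_cases hF hP.2.1 hP.1 (radical_of_essential hS hP) hlt hPA
  have h2 := h.eq_inf_sup hlt.le hx hxA
  refine ⟨Or.inr ?_, h.card_normalizer hlt hx hxA h0 (h1.imp id fun h => ⟨h.1, h.2.1⟩)⟩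
  rcases h1 with h1 | ⟨h1, h1', -⟩
  · exact Or.inl ⟨x, hlt.le hx, hxA, by rw [h1] at h2; exact h2⟩
  · exact Or.inr ⟨h1, x, hlt.le hx, hxA, by rw [h1'] at h2; exact h2⟩

end Cfsg.Agent.S5254
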