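import Cfsg.Statements.S5257
import Cfsg.Agent.H93.AbIdx2

set_option autoImplicit false
open Cfsg

namespace Cfsg.Agent.S5257

open Cfsg.FusionSystem Cfsg.Agent.H93
open Cfsg.Agent.H91 hiding center_central center_le central_bot central_mono central_sup conj_mem_hyp core_le core_normal exists_conj_mod_hyp focal_eq_hyp_sup isCentral_iff isFullyAutomized_iff isNormal_iff le_center le_core mem_opIn_of_chain normal_bot normal_sup sSup_mem_of_sup_closed stronglyClosed_iff weaklyClosed_iff

/-- Let p be an odd prime, S a finite nonabelian p-group with a unique abelian subgroup A of index p, and F a saturated fusion system over S having an F-essential subgroup other than A. Then the second centre Z₂(S) lies in A; Z(S) ∩ [S, S] has order p; Z(S)[S, S] has index p in A; Z(S) has index p in Z₂(S); and S/Z(S) has maximal nilpotency class (if S/Z(S) has order pᵐ with m ≥ 3 then the term of index m − 2 of the lower central series of S, counting S as index 0, is not contained in Z(S)). -/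
theorem result {Ω : Type*} [Group Ω] {S : Subgroup Ω} [Finite S] (p : ℕ) [Fact p.Prime] (hS : IsPGroup p S) (F : Cfsg.FusionSystem S) (hF : F.IsSaturated p) (hp : p ≠ 2) (hna : ¬ IsMulCommutative ↥S) (A : Subgroup Ω) (hA : A ≤ S ∧ IsMulCommutative ↥A ∧ (A.subgroupOf S).index = p) (huniq : ∀ B : Subgroup Ω, B ≤ S → IsMulCommutative ↥B → (B.subgroupOf S).index = p → B = A) (P : Subgroup Ω) (hP : F.IsEssential p P) (hPA : P ≠ A) : ((upperCentralSeries ↥S 2).map S.subtype) ≤ A ∧ Nat.card ↥((S ⊓ Subgroup.centralizer (S : Set Ω)) ⊓ ((commutator ↥S).map S.subtype)) = p ∧ (((S ⊓ Subgroup.centralizer (S : Set Ω)) ⊔ ((commutator ↥S).map S.subtype)).subgroupOf A).index = p ∧ (((S ⊓ Subgroup.centralizer (S : Set Ω))).subgroupOf ((upperCentralSeries ↥S 2).map S.subtype)).index = p ∧ ∀ m : ℕ, ((S ⊓ Subgroup.centralizer (S : Set Ω)).subgroupOf S).index = p ^ m → 3 ≤ m → ¬ Subgroup.lowerCentralSeries S (m - 2) ≤ (S ⊓ Subgroup.centralizer (S : Set Ω)) := by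
  have h := abI_of hS hna hA.1 hA.2.1 hA.2.2
  have hp' : p.Prime := Fact.out
  have hlt := essential_lt hS hF hP
  obtain ⟨x, hx, hxA, h0, -⟩ := h.cr_cases hF hP.2.1 hP.1 (radical_of_essential hS hP) hlt hPA
  have h1 := h.ucs_two_le huniq h0
  haveI := finite_of_le h.le
  haveI := finite_of_le h1
  have hZ : Nat.card (centralizerIn S S) ≠ 0 := by
    haveI := finite_of_le h.center_le
    exact Nat.card_pos.ne'
  rw [H93.map_commutator_eq]
  refine ⟨h1, h0, ?_, ?_, fun m hm h3 hle => ?_⟩
  · have h2 := H23.card_sup_mul_card_inf (H := centralizerIn S S) (N := ⁅S, S⁆)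
      fun z hz => (centralizerIn_le_normalizerIn S _
        (centralizerIn_anti S (h.derived_le.trans h.le) hz)).2
    have h3 := card_mul_relIndex (sup_le h.center_le h.derived_le)
    haveI := finite_of_le (sup_le h.center_le h.derived_le)
    rw [← h.card_A, ← h3, h0] at h2
    exact (Nat.eq_of_mul_eq_mul_left Nat.card_pos h2).symm
  · have h2 := h.card_ucs_inf
    rw [inf_eq_left.2 h1, h0, ← card_mul_relIndex (AbI.center_le_ucs_two S)] at h2
    exact Nat.eq_of_mul_eq_mul_left (Nat.pos_of_ne_zero hZ) h2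
  · have h2 := card_mul_relIndex (centralizerIn_le S S)
    rw [h.card, h.card_A, mul_assoc] at h2
    have h4 : p ^ m = Nat.card ↥⁅S, S⁆ * p := hm ▸ Nat.eq_of_mul_eq_mul_left (Nat.pos_of_ne_zero hZ) h2
    obtain ⟨k, rfl⟩ : ∃ k, m = k + 3 := ⟨m - 3, by omega⟩
    have h5 := h.card_lcs k
    haveI := finite_of_le (inf_le_left.trans (centralizerIn_le _ _) : centralizerIn S S ⊓ ⁅S, S⁆ ≤ S)
    have h6 := card_le_of_le (le_inf hle (h.lcs_le k) : _ ≤ centralizerIn S S ⊓ ⁅S, S⁆)
    rw [h0] at h5
    have h7 : p ^ (k + 3) ≤ p ^ (k + 2) := by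
      rw [h4, pow_succ, pow_succ]
      exact Nat.mul_le_mul_right _ (h5.trans (Nat.mul_le_mul_left _ (h0 ▸ h6)))
    have := (Nat.pow_le_pow_iff_right hp'.one_lt).1 h7
    omega

end Cfsg.Agent.S5257
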