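import Cfsg.Statements.S5258
import Cfsg.Agent.U5F.Main

set_option autoImplicit false
open Cfsg

namespace Cfsg.Agent.S5258

/-- Let p be a prime, K a finite field with q² elements where q = pⁿ (n ≥ 1), and S a finite p-group isomorphic to a Sylow p-subgroup of the projective special unitary group PSU₅(q) realised over K. Then every saturated fusion system over S is realizable: it is the fusion system of a finite group on a Sylow p-subgroup. -/
theorem result {Ω : Type*} [Group Ω] {S : Subgroup Ω} [Finite S] (p : ℕ) [Fact p.Prime] (hS : IsPGroup p S) (F : Cfsg.FusionSystem S) (hF : F.IsSaturated p) {K : Type*} [Field K] [Fintype K] [CharP K p] (n : ℕ) (hn : 1 ≤ n) (hK : Fintype.card K = (p ^ n) ^ 2) (T : Sylow p (Cfsg.PSU 5 K (p ^ n))) (e : ↥S ≃* ↥(T : Subgroup (Cfsg.PSU 5 K (p ^ n)))) : F.IsRealizable p := by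
  obtain ⟨G, _, _, R, j, k, h⟩ := SR3.Rows.realize hS F
  let _ : U5F.Bar K := ⟨‹_›, p ^ n, hK⟩
  obtain ⟨ε₀⟩ := U5F.exists_eps (K := K) T
  let ε : U5F.US K ≃* R := (ε₀.trans e.symm).trans h.g.equiv
  obtain ⟨u, hu, rfl⟩ : ∃ u : U5F.US K →* G, Function.Injective u ∧ u.range = R :=
    ⟨R.subtype.comp ε.toMonoidHom, R.subtype_injective.comp ε.injective, by
      rw [MonoidHom.range_comp, MonoidHom.range_eq_top.2 ε.surjective, ← MonoidHom.range_eq_map,
        Subgroup.range_subtype]⟩
  exact U5F.main ⟨U5F.US.pg_US p, hu, h.isSaturated hF⟩ h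

end Cfsg.Agent.S5258
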