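import Cfsg.Statements.S5260
import Cfsg.Agent.SPQ.Model
import Cfsg.Agent.SPQ.Odd
import Cfsg.Agent.SPQ.Even2
import Cfsg.Agent.SPQ.Real
import Cfsg.Agent.H92.Model
import Cfsg.Agent.H42.FsBasic

set_option autoImplicit false
open Cfsg

namespace Cfsg.Agent.S5260

open SPQ Function in
theorem fiso {K G G' : Type*} [Field K] [Group G] [Group G'] {φ : M K →* G} {φ' : M K →* G'}
    (hφ : Injective φ) (hφ' : Injective φ') (h : ∀ (X : Subgroup (M K)) (f : M K → M K) (g : G),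
      (∀ x ∈ X, φ (f x) = g * φ x * g⁻¹) → ∃ g' : G', ∀ x ∈ X, φ' (f x) = g' * φ' x * g'⁻¹) :
    H92.GIso φ.range φ'.range (fun x => φ' (invFun φ x)) (fun y => φ (invFun φ' y)) ∧
      ∀ P f, H91.M (groupFusionSystem φ.range) P f → H91.M (groupFusionSystem φ'.range)
        (H91.im (fun x => φ' (invFun φ x)) P) fun y => φ' (invFun φ (f (φ (invFun φ' y)))) := by
  have a := leftInverse_invFun hφ
  have b := leftInverse_invFun hφ'
  have i : H92.GIso φ.range φ'.range (fun x => φ' (invFun φ x)) (fun y => φ (invFun φ' y)) := by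
    refine ⟨?_, ?_, fun _ _ => ⟨_, rfl⟩, fun _ _ => ⟨_, rfl⟩, ?_, ?_⟩
    · rintro _ ⟨x, rfl⟩ _ ⟨y, rfl⟩
      simp only [← map_mul, a _]
    · rintro _ ⟨x, rfl⟩ _ ⟨y, rfl⟩
      simp only [← map_mul, b _]
    · rintro _ ⟨x, rfl⟩
      simp only [a _, b _]
    · rintro _ ⟨x, rfl⟩
      simp only [a _, b _]
  refine ⟨i, fun P f hf => ?_⟩
  obtain ⟨hP, hm, g, hg⟩ := H91.M_group_iff.1 hf
  obtain ⟨g', e⟩ := h (P.comap φ) (fun m => invFun φ (f (φ m))) g fun x hx =>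
    (invFun_eq (hm _ hx)).trans (hg _ hx)
  refine H91.M_group_iff.2 ⟨i.im_le hP, fun _ _ => ⟨_, rfl⟩, g', fun y hy => ?_⟩
  obtain ⟨x, hx, rfl⟩ := (i.mem_im hP).1 hy
  obtain ⟨m, rfl⟩ := hP hx
  simp only [a _, b _, e m hx]

universe u v in
theorem realizable {Ω : Type u} [Group Ω] {S : Subgroup Ω} {F : FusionSystem S} {H : Type v}
    [Group H] [Finite H] (h : H42.RealBy F H) : F.IsRealizable 2 := by
  have e : Shrink.{u} H ≃* H := Shrink.mulEquiv
  obtain ⟨ι, a, b⟩ := h.of_equiv e.symm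
  exact ⟨_, _, .of_equiv _ e.symm.toEquiv, ι, a, b⟩

/-- Let p be a prime, K a finite field of characteristic p, and S a finite p-group isomorphic to a Sylow p-subgroup of the symplectic group Sp₄(K). Then every exotic fusion system F over S (saturated but not the fusion system of a finite group on a Sylow p-subgroup) has no nontrivial normal subgroup: O_p(F) = 1. -/
theorem result {Ω : Type*} [Group Ω] {S : Subgroup Ω} [Finite S] (p : ℕ) [Fact p.Prime] (hS : IsPGroup p S) (F : Cfsg.FusionSystem S) (hF : F.IsSaturated p) {K : Type*} [Field K] [Fintype K] [CharP K p] (T : Sylow p ↥(Matrix.symplecticGroup (Fin 2) K)) (e : ↥S ≃* ↥(T : Subgroup ↥(Matrix.symplecticGroup (Fin 2) K))) (hex : F.IsExotic p) : F.core = ⊥ := by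
  by_contra hO
  obtain ⟨G, _, _, R, j, k, h⟩ := SR3.Rows.realize hS F
  obtain ⟨e'⟩ := SPQ.exists_model T
  let ε : SPQ.M K ≃* R := (e'.trans e.symm).trans h.g.equiv
  obtain ⟨φ, hφ, rfl⟩ : ∃ φ : SPQ.M K →* G, Function.Injective φ ∧ φ.range = R :=
    ⟨R.subtype.comp ε.toMonoidHom, R.subtype_injective.comp ε.injective, by
      rw [MonoidHom.range_comp, MonoidHom.range_eq_top.2 ε.surjective, ← MonoidHom.range_eq_map,
        Subgroup.range_subtype]⟩
  have hs := h.isSaturated hF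
  replace hO : (groupFusionSystem φ.range).core ≠ ⊥ := by
    rwa [← h.core, Ne, h.g.im_eq_bot_iff (H91.core_le F)]
  have con : ¬ (groupFusionSystem φ.range).IsConstrained p := fun c => by
    obtain ⟨H, _, ι, a, b, c, -⟩ := H92.exists_model hS (h.symm.isConstrained c)
    exact hex.2 ⟨H, _, a, ι, b, c⟩
  obtain rfl | ho := eq_or_ne p 2
  swap
  · exact con (SPQ.odd_constr ho hφ hs hO)
  obtain ⟨φ₁, r₁, x₁⟩ := (SPQ.ex2_or hφ hs hO).resolve_left con
  obtain ⟨φ₂, r₂, -, n₂⟩ := x₁.nf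
  have c3 := fun t => SPQ.lin2_card (t := t) (SPQ.linA n₂.inj n₂.esA) n₂.mA
  have hK : Fintype.card K = 2 ∨ Fintype.card K = 4 := by
    have d : Fintype.card K - 1 ∣ 3 := by
      classical
      rw [← Fintype.card_units, ← Nat.card_eq_fintype_card, ← IsCyclic.exponent_eq_card]
      exact Monoid.exponent_dvd_of_forall_pow_eq_one fun t => Units.ext (c3 t t.ne_zero)
    have := (Nat.dvd_prime Nat.prime_three).1 d
    omega
  obtain ⟨H, _, _, ψ, hψ, hP⟩ : ∃ (H : Type _) (_ : Group H) (_ : Finite H) (ψ : SPQ.M K →* H),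
      SPQ.Rl ψ ∧ (SR3.nm ψ.range ≤ SR3.ce ((SPQ.Z K).map ψ) ↔
        SR3.nm φ₂.range ≤ SR3.ce ((SPQ.Z K).map φ₂)) := by
    by_cases P : SR3.nm φ₂.range ≤ SR3.ce ((SPQ.Z K).map φ₂)
    · obtain ⟨H, _, _, ψ, a, b⟩ := hK.elim SPQ.real2 SPQ.real4
      exact ⟨H, _, ‹_›, ψ, a, iff_of_true b P⟩
    obtain hK | hK := hK
    · refine (P fun g hg => ?_).elim
      rintro _ ⟨z, hz, rfl⟩
      obtain ⟨s, a, b, ha, hb, e⟩ := n₂.autS hg
      have one : ∀ c : K, c ≠ 0 → c = 1 := fun c hc => by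
        simpa [hK] using FiniteField.pow_card_sub_one_eq_one c hc
      rw [mul_inv_eq_iff_eq_mul.1 (e z), one a ha, one b hb]
      congr 2
      ext <;> simp [SPQ.dg, hz.1, hz.2.1, hz.2.2] <;> ring
    · obtain ⟨H, _, _, ψ, a, b⟩ := SPQ.real4' hK
      exact ⟨H, _, ‹_›, ψ, a, iff_of_false b P⟩
  obtain ⟨ψ₂, s₂, z₂, m₂⟩ := hψ.ex2.nf
  rw [← s₂, ← z₂] at hP
  obtain ⟨i, f⟩ := fiso n₂.inj m₂.inj (n₂.fwd m₂ hP.1)
  have I : H92.FIso _ _ _ _ := ⟨i, f _ _, (fiso m₂.inj n₂.inj (m₂.fwd n₂ hP.2)).2 _ _⟩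
  rw [← r₁, ← r₂] at h
  have := H42.realBy_group ((SPQ.pg_range ψ₂).toSylow (s₂ ▸ hψ.syl))
  exact hex.2 (realizable (this.of_fIso (h.trans I)))

end Cfsg.Agent.S5260
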