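import Cfsg.Statements.S5261
import Cfsg.Agent.TDF.Main
import Cfsg.Agent.TDF.ModN
import Cfsg.Agent.SR3.Rows

set_option autoImplicit false
open Cfsg

namespace Cfsg.Agent.S5261

/-- Let p be a prime, q = pⁿ (n ≥ 1), K a finite field with q³ elements, and S a finite p-group isomorphic to a Sylow p-subgroup of the twisted group ³D₄(q) realised over K. Then every saturated fusion system over S is realizable: it is the fusion system of a finite group on a Sylow p-subgroup. -/
theorem result {Ω : Type*} [Group Ω] {S : Subgroup Ω} [Finite S] (p : ℕ) [Fact p.Prime] (hS : IsPGroup p S) (F : Cfsg.FusionSystem S) (hF : F.IsSaturated p) {K : Type*} [Field K] [Fintype K] [CharP K p] (n : ℕ) (hn : 1 ≤ n) (hK : Fintype.card K = (p ^ n) ^ 3) (T : Sylow p ↥(Cfsg.Lie.twistedD4 K (p ^ n))) (e : ↥S ≃* ↥(T : Subgroup ↥(Cfsg.Lie.twistedD4 K (p ^ n)))) : F.IsRealizable p := by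
  obtain ⟨G, _, _, R, j, k, h⟩ := SR3.Rows.realize hS F
  obtain ⟨_, u₀, m, _⟩ := TDF.model (K := K) p hn hK
  let T' := (u₀.range_eq_map ▸ (TDF.pg_DU.to_subgroup ⊤).map u₀ : IsPGroup p u₀.range).toSylow m.syl
  let ε : TDF.DU K ≃* R :=
    ((MonoidHom.ofInjective m.inj).trans ((T'.equiv T).trans e.symm)).trans h.g.equiv
  obtain ⟨u, hu, rfl⟩ : ∃ u : TDF.DU K →* G, Function.Injective u ∧ u.range = R :=
    ⟨R.subtype.comp ε.toMonoidHom, R.subtype_injective.comp ε.injective, by
      rw [MonoidHom.range_comp, MonoidHom.range_eq_top.2 ε.surjective, ← MonoidHom.range_eq_map,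
        Subgroup.range_subtype]⟩
  exact TDF.main m ⟨TDF.pg_DU, hu, h.isSaturated hF⟩ h

end Cfsg.Agent.S5261
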