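import Cfsg.Statements.S5262
import Cfsg.Agent.RFS.Main
import Cfsg.Agent.S5260

set_option autoImplicit false
open Cfsg

namespace Cfsg.Agent.S5262

/-- Let m ≥ 0, K a finite field with 2^(2m+1) elements, and S a finite 2-group isomorphic to a Sylow 2-subgroup of the Ree group ²F₄(2^(2m+1)) realised over K (its defining field endomorphism being t ↦ t^(2^m); m = 0 gives ²F₄(2)). Then every saturated fusion system over S is realizable: it is the fusion system of a finite group on a Sylow 2-subgroup. -/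
theorem result {Ω : Type*} [Group Ω] {S : Subgroup Ω} [Finite S] (hS : IsPGroup 2 S) (F : Cfsg.FusionSystem S) (hF : F.IsSaturated 2) {K : Type*} [Field K] [Fintype K] (m : ℕ) (hK : Fintype.card K = 2 ^ (2 * m + 1)) (T : Sylow 2 ↥(Cfsg.Lie.twistedF4 K (2 ^ m))) (e : ↥S ≃* ↥(T : Subgroup ↥(Cfsg.Lie.twistedF4 K (2 ^ m)))) : F.IsRealizable 2 := by
  obtain ⟨G, _, _, R, j, k, h⟩ := SR3.Rows.realize hS F
  obtain ⟨_, f, hg, _, ho⟩ := RFS.model' hK
  let T' := f.toCR.isPGroup_U.toSylow ho
  let ε : OCT.OU K ≃* R :=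
    ((MonoidHom.ofInjective f.inj).trans ((T'.equiv T).trans e.symm)).trans h.g.equiv
  obtain ⟨u, hu, rfl⟩ : ∃ u : OCT.OU K →* G, Function.Injective u ∧ u.range = R :=
    ⟨R.subtype.comp ε.toMonoidHom, R.subtype_injective.comp ε.injective, by
      rw [MonoidHom.range_comp, MonoidHom.range_eq_top.2 ε.surjective, ← MonoidHom.range_eq_map,
        Subgroup.range_subtype]⟩
  obtain ⟨H, _, _, a⟩ | ⟨H, _, _, a⟩ := RFS.main f hg ho ⟨hu, h.isSaturated hF⟩
  · exact S5260.realizable (H42.RealBy.of_fIso a h)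
  · exact S5260.realizable (a.of_fIso h)

end Cfsg.Agent.S5262
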