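import Cfsg.Statements.S5264
import Cfsg.Agent.H91.Q5E
import Cfsg.Agent.SR3.Rows

set_option autoImplicit false
open Cfsg

namespace Cfsg.Agent.S5264

open Cfsg.FusionSystem Cfsg.Agent.H91

/-- Let p be an odd prime other than 7, S a finite p-group of order p^5, and F a saturated fusion system over S with no nontrivial normal subgroup and with hyperfocal subgroup equal to S (so F is its own p-residual subsystem). Then S has an abelian subgroup of index p. -/
theorem result {Ω : Type*} [Group Ω] {S : Subgroup Ω} [Finite S] (p : ℕ) [Fact p.Prime] (hS : IsPGroup p ↥S) (F : Cfsg.FusionSystem S) (hF : F.IsSaturated p) (hp : p ≠ 2) (hp7 : p ≠ 7) (hcard : Nat.card S = p ^ 5) (hcore : F.core = ⊥) (hhyp : F.hyperfocalSubgroup p = S) : ∃ A : Subgroup Ω, A ≤ S ∧ IsMulCommutative ↥A ∧ (A.subgroupOf S).index = p := by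
  obtain ⟨G, _, _, T, j, k, h⟩ := SR3.Rows.realize hS F
  have cT : Nat.card T = Nat.card S := h.g.im_top ▸ h.g.card_im le_rfl
  have := Q5.main hp hp7 (h.g.isPGroup hS) (h.isSaturated hF) (by
    rw [← h.focal, ← h.g.im_top]
    exact im_mono j (hhyp.ge.trans (H93.hyp_le_focal F p))) (cT.trans hcard)
    (SR3.Rows.core_bot h hcore)
  simp only [Q5.NA, not_forall, not_not] at this
  obtain ⟨A, h1, h2, h3⟩ := this
  have e := (h.g.symm.restrict h1).equiv
  refine ⟨im k A, h.g.symm.im_le h1, ⟨⟨fun a b => e.symm.injective ?_⟩⟩, ?_⟩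
  · rw [map_mul, map_mul]
    exact Subtype.ext (h2 (e.symm b).2 _ (e.symm a).2)
  · have := card_mul_relIndex (h.g.symm.im_le h1)
    rw [h.g.symm.card_im h1, ← cT, h3, mul_comm] at this
    exact Nat.eq_of_mul_eq_mul_right Nat.card_pos this

end Cfsg.Agent.S5264
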