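import Cfsg.Statements.S5265
import Cfsg.Agent.H93.CenterSq2

set_option autoImplicit false
open Cfsg

namespace Cfsg.Agent.S5265

open Cfsg.FusionSystem Cfsg.Agent.H93
open Cfsg.Agent.H91 hiding center_central center_le central_bot central_mono central_sup core_le core_normal isCentral_iff isFullyAutomized_iff isNormal_iff le_center le_core mem_opIn_of_chain normal_bot normal_sup sSup_mem_of_sup_closed stronglyClosed_iff weaklyClosed_iff

/-- Let p be a prime, S a nontrivial finite p-group whose centre has index at most p², and F a saturated fusion system over S with no nontrivial normal subgroup and with hyperfocal subgroup equal to S. Then S is extraspecial of order p³; for odd p it has exponent p, and for p = 2 it is dihedral of order 8. -/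
theorem result {Ω : Type*} [Group Ω] {S : Subgroup Ω} [Finite S] (p : ℕ) [Fact p.Prime] (hS : IsPGroup p ↥S) (F : Cfsg.FusionSystem S) (hF : F.IsSaturated p) (hS1 : S ≠ ⊥) (hcore : F.core = ⊥) (hhyp : F.hyperfocalSubgroup p = S) (hZ : (Subgroup.center ↥S).index ≤ p ^ 2) : Cfsg.IsExtraspecial p ↥S ∧ Nat.card S = p ^ 3 ∧ (p ≠ 2 → Monoid.exponent ↥S = p) ∧ (p = 2 → Nonempty (↥S ≃* DihedralGroup 4)) := by
  have hnn : ¬ F.IsNormal S := fun h => hS1 (le_bot_iff.1 (hcore ▸ H91.le_core h))
  have hna : ¬ IsMulCommutative S := fun h => hnn (normal_of_sc_abelian hS hF (stronglyClosed_top F)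
    fun x hx y hy => congrArg Subtype.val (h.is_comm.comm (⟨x, hx⟩ : S) ⟨y, hy⟩))
  obtain ⟨z, hz, hzc, hzp, hN⟩ := exists_gen_of_card hS (commutator S)
    (card_commutator_of_index_center hS hna hZ)
  have hcomm : ∀ x ∈ S, ∀ y ∈ S, x⁻¹ * (y * x * y⁻¹) ∈ Subgroup.zpowers z := fun x hx y hy => by
    have := (hN _).1 (Subgroup.commutator_mem_commutator (Subgroup.mem_top (⟨x, hx⟩ : S)⁻¹)
      (Subgroup.mem_top (⟨y, hy⟩ : S)))
    simpa [commutatorElement_def, mul_assoc] using this
  obtain ⟨R, h⟩ : ∃ R, Tv F p S R z := by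
    by_contra hc
    exact hnn (normal_of_local' hS hF (stronglyClosed_top F) fun R hR hfn hrad =>
      hc ⟨R, stronglyClosed_top F, hR, hfn, hrad, hcomm, hz, hzc, hzp⟩)
  have hall : ∀ R, R < S → F.IsCentric R → F.IsRadical p R → Tv F p S R z := fun R h1 h2 h3 => by
    have h4 : ∀ t ∈ S, ∀ x ∈ R, t * x * t⁻¹ ∈ R := fun t ht x hx => by
      have := R.mul_mem hx ((Subgroup.zpowers_le).2 (center_le_of_centric h2 h.z_center).1
        (hcomm x (h1.le hx) t ht))
      rwa [mul_inv_cancel_left] at this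
    exact ⟨stronglyClosed_top F, h1, isFullyNormalized_of_normal F h1.le fun t ht =>
      mem_normalizer_of_conj_mem' (h4 t ht) fun x hx => by simpa using h4 _ (S.inv_mem ht) x hx,
      inf_le_right.trans (preAut_le_of_centric_radical h2 h3), hcomm, hz, hzc, hzp⟩
  have hU : stayCentral F p = ⊥ := le_bot_iff.1 (hcore ▸ H91.le_core (stayCentral_normal hS hF))
  have hZz : centralizerIn S S ≤ Subgroup.zpowers z := by
    by_cases hp2 : p = 2
    · subst hp2
      exact center_le_two hS hF h hall hU (hhyp.ge.trans (hyp_le_focal F 2))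
    · exact center_le_odd hS hF hp2 h hall hU
  obtain ⟨w, t, C, hw, ht, hwp, htp, e, hcard, hC, -, -, hsup, hexp⟩ := h.split hS hF
    fun x hx => hZz (h.pow_central hx)
  rw [sup_eq_left.2 (hC.trans (hZz.trans (le_sup_right.trans le_sup_left)))] at hsup
  have hz1 := h.z_ne_one hS
  rw [hsup] at hcard
  haveI : Nontrivial S := (Subgroup.nontrivial_iff_ne_bot S).2 hS1
  refine ⟨H73.isExtraspecial_of_card_eq_cube hcard (by
    by_contra hc
    push Not at hc
    exact hna ⟨⟨hc⟩⟩), hcard, fun hp2 => ?_, fun hp2 => ?_⟩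
  · exact (Monoid.exponent_eq_prime_iff (Fact.out : p.Prime)).2 fun g hg =>
      orderOf_eq_prime (Subtype.ext (hexp hp2 _ g.2)) hg
  · subst hp2
    exact hsup ▸ dihedral_of_two hwp htp hzp hz1 e (hzc w hw)

end Cfsg.Agent.S5265
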