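import Cfsg.Statements.S5267
import Cfsg.Agent.MXC.Main

set_option autoImplicit false
open Cfsg

namespace Cfsg.Agent.S5267

open Subgroup Cfsg.Agent.H62 Cfsg.Agent.SR3 Cfsg.Agent.MCF Cfsg.Agent.MXC
open scoped commutatorElement

theorem LL_congr {A B : Type*} [Group A] [Group B] (e : A ≃* B) {k : ℕ} {x : A} (h : x ∈ LL A k) :
    e x ∈ LL B k := by
  have := mem_map_of_mem e.toMonoidHom h
  rwa [map_lowerCentralSeries, map_top_of_surjective _ e.surjective] at this

theorem KK_congr {A B : Type*} [Group A] [Group B] (e : A ≃* B) {k : ℕ} {x : A} (h : x ∈ KK A k) :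
    e x ∈ KK B k := fun y hy => by
  simpa [map_commutatorElement] using LL_congr e (h _ (LL_congr e.symm hy))

theorem im_Ka {A B : Type*} [Group A] [Group B] {S : Subgroup A} {T : Subgroup B} {j : A → B} {k : B → A}
    (h : H92.GIso S T j k) (m : ℕ) : H91.im j (Ka S m) = Ka T m := by
  ext y
  rw [h.mem_im Ka_le]
  constructor
  · rintro ⟨_, ⟨x, hx, rfl⟩, rfl⟩
    exact ⟨_, KK_congr h.equiv hx, rfl⟩
  · rintro ⟨y, hy, rfl⟩
    exact ⟨_, ⟨_, KK_congr h.equiv.symm hy, rfl⟩, congrArg Subtype.val (h.equiv.apply_symm_apply y)⟩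

/-- Let p be a prime and S a finite p-group of maximal class of order p^n with n ≥ 4 (nilpotency class n − 1: the term γ_{n−1}(S) of its lower central series, reached from S after n − 2 commutator steps, is nontrivial), F a saturated fusion system over S and E an F-essential subgroup. Write Γ₁ for the two-step centralizer C_S([S,S]/γ₄(S)) (the elements of S whose commutators with [S,S] lie in the fourth term γ₄(S) of the lower central series) and Z₂(S) for the second centre. Then E is a pearl — elementary abelian of order p², or extraspecial of order p³ of exponent p (p odd) or quaternion of order 8 (p = 2) — or E = Γ₁, or E = C_S(Z₂(S)). Moreover, if Γ₁ ≠ C_S(Z₂(S)) then every pearl of F is elementary abelian of order p². -/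
theorem result {Ω : Type*} [Group Ω] {S : Subgroup Ω} [Finite S] (p : ℕ) [Fact p.Prime] (hS : IsPGroup p ↥S) (n : ℕ) (hn : Nat.card S = p ^ n) (h4 : 4 ≤ n) (hmax : Subgroup.lowerCentralSeries S (n - 2) ≠ ⊥) (F : Cfsg.FusionSystem S) (hF : F.IsSaturated p) (Γ₁ : Subgroup Ω) (hΓ₁ : ∀ x : Ω, x ∈ Γ₁ ↔ x ∈ S ∧ ∀ y ∈ Subgroup.lowerCentralSeries S 1, x * y * x⁻¹ * y⁻¹ ∈ Subgroup.lowerCentralSeries S 3) : (∀ E : Subgroup Ω, F.IsEssential p E → (Nat.card ↥E = p ^ 2 ∧ Cfsg.IsElementaryAbelian p E) ∨ (Nat.card ↥E = p ^ 3 ∧ Cfsg.IsExtraspecial p ↥E ∧ (p ≠ 2 → Monoid.exponent ↥E = p) ∧ (p = 2 → Nonempty (↥E ≃* QuaternionGroup 2))) ∨ E = Γ₁ ∨ E = (S ⊓ Subgroup.centralizer (((Subgroup.upperCentralSeries ↥S 2).map S.subtype) : Set Ω))) ∧ (Γ₁ ≠ (S ⊓ Subgroup.centralizer (((Subgroup.upperCentralSeries ↥S 2).map S.subtype) : Set Ω)) → ∀ E : Subgroup Ω, F.IsEssential p E → (Nat.card ↥E = p ^ 3 ∧ Cfsg.IsExtraspecial p ↥E ∧ (p ≠ 2 → Monoid.exponent ↥E = p) ∧ (p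 = 2 → Nonempty (↥E ≃* QuaternionGroup 2))) → False) := by
  have h := (mc_iff hn (by omega)).2 hmax
  have hpp : p.Prime := Fact.out
  have e1 : Γ₁ = Ka S 1 := by
    ext x
    rw [hΓ₁, mem_Ka, ← top_subtype_lowerCentralSeries S 1, ← top_subtype_lowerCentralSeries S 3]
    exact and_congr_right fun _ => forall₂_congr fun y _ => ⟨fun e => comm_symm e, fun e => comm_symm e⟩
  have e2 : S ⊓ centralizer (((Subgroup.upperCentralSeries ↥S 2).map S.subtype) : Set Ω) = Ka S (n - 3) := by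
    obtain ⟨k, rfl⟩ : ∃ k, n = k + 4 := ⟨n - 4, by omega⟩
    ext x
    refine ⟨fun ⟨hx, h'⟩ => ⟨⟨x, hx⟩, (S5270.mem_KK_iff h).2 fun y hy =>
      Subtype.ext (h' y ⟨y, hy, rfl⟩), rfl⟩, ?_⟩
    rintro ⟨x, h', rfl⟩
    refine ⟨x.2, ?_⟩
    rintro _ ⟨y, hy, rfl⟩
    exact congrArg Subtype.val ((S5270.mem_KK_iff h).1 h' y hy)
  rw [e1, e2]
  obtain ⟨G, _, _, T, j, k, hI⟩ := SR3.Rows.realize hS F
  have hT := S5316.mc_congr hI.g.equiv h
  refine ⟨fun E hE => ?_, fun hne E hE hc => main2 hT h4 (fun e => hne ?_) (hI.isSaturated hF)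
    (hI.isEssential hE) ((hI.g.card_im hE.1.1).trans hc.1)⟩
  · have hES : E ≤ S := hE.1.1
    have : Finite E := H91.finite_of_le hES
    rcases main1 hT h4 (hI.isSaturated hF) (hI.isEssential hE) with c | ⟨c, c'⟩ | c | c
    · rw [hI.g.card_im hES] at c
      exact Or.inl ⟨c, (S5185.result p hS F hF E hE c).1⟩
    · rw [hI.g.card_im hES] at c
      have na : ∃ a b : E, a * b ≠ b * a := by
        by_contra hab
        push Not at hab
        refine c' fun x hx y hy => ?_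
        obtain ⟨a, rfl⟩ : ∃ a : E, (((hI.g.restrict hES).equiv a : H91.im j E) : G) = x :=
          ⟨_, congrArg Subtype.val ((hI.g.restrict hES).equiv.apply_symm_apply ⟨x, hx⟩)⟩
        obtain ⟨b, rfl⟩ : ∃ a : E, (((hI.g.restrict hES).equiv a : H91.im j E) : G) = y :=
          ⟨_, congrArg Subtype.val ((hI.g.restrict hES).equiv.apply_symm_apply ⟨y, hy⟩)⟩
        rw [← coe_mul, ← coe_mul, ← map_mul, ← map_mul, hab]
      refine Or.inr (Or.inl ⟨c, H73.isExtraspecial_of_card_eq_cube c na, ?_⟩)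
      rcases S5186.result p hS F hF E hE c with d | ⟨d, -, d'⟩ | ⟨d, d'⟩
      · obtain ⟨a, b, hab⟩ := na
        exact (hab (d.1.1.1 a b)).elim
      · refine ⟨fun _ => ?_, fun e => absurd (e ▸ d) (by decide)⟩
        have : Nontrivial E := Finite.one_lt_card_iff_nontrivial.1
          (c ▸ Nat.one_lt_pow (by omega) hpp.one_lt)
        exact ((Nat.dvd_prime hpp).1 (Monoid.exponent_dvd_of_forall_pow_eq_one fun x =>
          Subtype.ext (d' x x.2))).resolve_left (Monoid.one_lt_exponent).ne'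
      · exact ⟨fun e => (e d).elim, fun _ => d'⟩
    · exact Or.inr (Or.inr (Or.inl (hI.g.im_inj hES Ka_le (c.trans (im_Ka hI.g 1).symm))))
    · exact Or.inr (Or.inr (Or.inr (hI.g.im_inj hES Ka_le (c.trans (im_Ka hI.g _).symm))))
  · exact hI.g.im_inj Ka_le Ka_le (by rw [im_Ka hI.g, im_Ka hI.g]; exact e)

end Cfsg.Agent.S5267
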