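import Cfsg.Statements.S5271
import Cfsg.Agent.H93.WeakEmb

set_option autoImplicit false
open Cfsg

namespace Cfsg.Agent.S5271

open Cfsg.FusionSystem Cfsg.Agent.H93
open Cfsg.Agent.H91 hiding center_central center_le central_bot central_mono central_sup conj_mem_hyp core_le core_normal exists_conj_mod_hyp focal_eq_hyp_sup isCentral_iff isFullyAutomized_iff isNormal_iff le_center le_core mem_opIn_of_chain normal_bot normal_sup sSup_mem_of_sup_closed stronglyClosed_iff weaklyClosed_iff

/-- A nilpotency criterion for fusion systems. Let F be a saturated fusion system over a finite p-group S of order at least p². Call a subgroup Q of S weakly embedded in F when there is a subgroup P of S strongly closed in F such that both the product QP and the intersection Q ∩ P are strongly closed in F. Then F is the inner fusion system of S if and only if there is a subgroup D of S with 1 < D < S such that every subgroup of S of the same order as D is weakly embedded in F and, for every fully normalized subgroup H of S of that order, the normalizer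 fusion system of H in F is the inner fusion system of N_S(H). -/
theorem result {Ω : Type*} [Group Ω] {S : Subgroup Ω} [Finite S] (p : ℕ) [Fact p.Prime] (hS : IsPGroup p ↥S) (F : Cfsg.FusionSystem S) (hF : F.IsSaturated p) (hcard : p ^ 2 ≤ Nat.card S) : (∀ P : Subgroup Ω, F.Hom P = (Cfsg.innerFusionSystem S).Hom P) ↔ ∃ D : Subgroup Ω, ⊥ < D ∧ D < S ∧ (∀ Q : Subgroup Ω, Q ≤ S → Nat.card ↥Q = Nat.card ↥D → ∃ P : Subgroup Ω, F.StronglyClosed P ∧ F.StronglyClosed (Q ⊔ P) ∧ F.StronglyClosed (Q ⊓ P)) ∧ (∀ H : Subgroup Ω, F.IsFullyNormalized H → Nat.card ↥H = Nat.card ↥D → ∀ N : Cfsg.FusionSystem (Cfsg.FusionSystem.normalizerIn S H), F.IsNormalizerSystem H N → ∀ P : Subgroup Ω, N.Hom P = (Cfsg.innerFusionSystem (Cfsg.FusionSystem.normalizerIn S H)).Hom P) := by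
  have hp : p.Prime := Fact.out
  constructor
  · intro h
    obtain ⟨n, hn⟩ := hS.exists_card_eq
    obtain ⟨k, rfl⟩ : ∃ k, n = k + 2 := by
      rw [hn, Nat.pow_le_pow_iff_right hp.one_lt] at hcard
      exact ⟨n - 2, by omega⟩
    obtain ⟨D, -, hD, hDc⟩ := exists_between hS bot_le (m := k + 1)
      (by rw [Subgroup.card_bot]; exact Nat.one_le_pow _ _ hp.pos)
      (hn ▸ Nat.pow_le_pow_right hp.pos (Nat.le_succ _))
    refine ⟨D, bot_lt_iff_ne_bot.2 fun e => ?_, lt_of_le_of_ne hD fun e => ?_,
      fun Q hQ hQc => ⟨⊥, sc_bot F, ?_, ?_⟩, fun H _ _ N hN => norm_inner_of_inner h hN⟩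
    · rw [e, Subgroup.card_bot] at hDc
      exact (Nat.one_lt_pow (by omega) hp.one_lt).ne hDc
    · rw [e, hn] at hDc
      have := Nat.pow_right_injective hp.two_le hDc
      omega
    · have := card_mul_relIndex hQ
      rw [hQc, hDc, hn, pow_succ _ (k + 1)] at this
      haveI := H3.normal_of_index_eq hS (Nat.eq_of_mul_eq_mul_left (pow_pos hp.pos _) this)
      rw [sup_bot_eq]
      exact normal_sc (normal_of_inner h hQ (Subgroup.le_normalizer_of_normal_subgroupOf hQ))
    · rw [inf_bot_eq]; exact sc_bot F
  · rintro ⟨D, h1, h2, hW, hN⟩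
    haveI := finite_of_le h2.le
    obtain ⟨k, hk⟩ := (isPGroup_of_le hS h2.le).exists_card_eq
    have h3 := card_lt_of_lt h2
    rw [hk] at hW hN h3
    refine inner_of_hyp_le_frattini hS hF ((hyp_eq_bot_of_WE hS hF hW (NI.of_norm hS hF hN) ?_
      h3).le.trans bot_le)
    rintro rfl
    exact h1.ne' (Subgroup.eq_bot_of_card_eq _ (by simpa using hk))

end Cfsg.Agent.S5271
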