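import Cfsg.Statements.S5273
import Cfsg.Agent.H93.SmallAb

set_option autoImplicit false
open Cfsg

namespace Cfsg.Agent.S5273

open Cfsg.FusionSystem Cfsg.Agent.H93
open Cfsg.Agent.H91 hiding center_central center_le central_bot central_mono central_sup core_le core_normal isCentral_iff isFullyAutomized_iff isNormal_iff le_center le_core normal_bot normal_sup sSup_mem_of_sup_closed stronglyClosed_iff weaklyClosed_iff

/-- Small-exponent abelian subgroups control fusion. Let E and F be saturated fusion systems over the same finite p-group S with E contained in F. Suppose that E and F have the same maps between A and B for all subgroups A, B of S that are elementary abelian when p is odd, respectively abelian of exponent dividing 4 when p = 2. Then E = F (they have the same maps on every subgroup). -/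
theorem result {Ω : Type*} [Group Ω] {S : Subgroup Ω} [Finite S] (p : ℕ) [Fact p.Prime] (hS : IsPGroup p ↥S) (E F : Cfsg.FusionSystem S) (hE : E.IsSaturated p) (hF : F.IsSaturated p) (hEF : E.IsSubsystemOf F) (hodd : p ≠ 2 → ∀ A B : Subgroup Ω, A ≤ S → B ≤ S → Cfsg.IsElementaryAbelian p A → Cfsg.IsElementaryAbelian p B → E.homSet A B = F.homSet A B) (htwo : p = 2 → ∀ A B : Subgroup Ω, A ≤ S → B ≤ S → IsMulCommutative ↥A → IsMulCommutative ↥B → (∀ a ∈ A, a ^ 4 = 1) → (∀ b ∈ B, b ^ 4 = 1) → E.homSet A B = F.homSet A B) : ∀ P : Subgroup Ω, E.Hom P = F.Hom P := by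
  refine fun P => Hom_eq_iff_M.2 fun f => ⟨fun h => h.of_sub hEF,
    eq_of_small_abelian hS hF hE hEF (fun A f h1 h2 hf => ?_) P f⟩
  have c1 : IsMulCommutative A := ⟨⟨fun a b => Subtype.ext (h1 a a.2 b b.2)⟩⟩
  have c2 : IsMulCommutative (im f A) := ⟨⟨fun ⟨a, ha⟩ ⟨b, hb⟩ => Subtype.ext (by
    obtain ⟨a, ha', rfl⟩ := (hf.mem_im le_rfl).1 ha
    obtain ⟨b, hb', rfl⟩ := (hf.mem_im le_rfl).1 hb
    show f a * f b = f b * f a
    rw [← hf.map_mul ha' hb', ← hf.map_mul hb' ha', h1 a ha' b hb'])⟩⟩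
  have h3 : ∀ a ∈ im f A, a ^ H61.smExp p = 1 := fun a ha => by
    obtain ⟨a, ha', rfl⟩ := (hf.mem_im le_rfl).1 ha
    rw [← hf.homOn.map_pow ha', h2 a ha', hf.map_one]
  have h4 : E.homSet A (im f A) = F.homSet A (im f A) := by
    by_cases hp : p = 2
    · rw [H61.smExp, if_pos hp] at h2 h3
      exact htwo hp _ _ hf.le hf.im_le c1 c2 h2 h3
    · rw [H61.smExp, if_neg hp] at h2 h3
      exact hodd hp _ _ hf.le hf.im_le ⟨c1, h2⟩ ⟨c2, h3⟩
  exact ⟨_, (h4.ge ⟨hf.toHom_mem, fun x => mem_im_of_mem f x.2⟩).1, fun _ => rfl⟩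

end Cfsg.Agent.S5273
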