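import Cfsg.Statements.S5289
import Cfsg.Agent.H62.RankTwo3
import Cfsg.Agent.H62.RankTwo4
import Cfsg.Agent.H62.SmallFus
import Cfsg.Agent.S0640

set_option autoImplicit false
open Cfsg

namespace Cfsg.Agent.S5289

open Subgroup Cfsg.Agent.H62 Cfsg.Agent.H91 Cfsg.FusionSystem
open scoped commutatorElement

/-- Let p ≥ 5 be a prime and S a finite p-group of p-rank two (it has an elementary abelian subgroup of order p² and none of order p³) which is not the extraspecial group of order p³ and exponent p. Then S is resistant: for every saturated fusion system F over S, S is normal in F, that is, every map of F extends to an F-automorphism of S. -/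
theorem result {Ω : Type*} [Group Ω] {S : Subgroup Ω} [Finite S] (p : ℕ) [Fact p.Prime] (hS : IsPGroup p S)
    (F : Cfsg.FusionSystem S) (hF : F.IsSaturated p)
    (hp : 5 ≤ p)
    (hrank2 : ∃ E : Subgroup Ω, E ≤ S ∧ Cfsg.IsElementaryAbelian p E ∧ Nat.card E = p ^ 2)
    (hrank3 : ∀ E : Subgroup Ω, E ≤ S → Cfsg.IsElementaryAbelian p E → Nat.card E ≤ p ^ 2)
    (hnotE : ¬ (Nat.card S = p ^ 3 ∧ Monoid.exponent ↥S = p)) : F.IsNormal S := by
  have hpp : p.Prime := Fact.out
  refine normal_top_of_opIn hS hF fun E hE => False.elim ?_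
  have hES := hE.1.1
  have := finite_of_le hES
  obtain ⟨D, hD, -, hinv, hsm, hcm, hk⟩ := exists_smallD hS F hES
  have := finite_of_le hD
  have hexp : ∀ x ∈ D, x ^ p = 1 := fun x hx => (hsm x hx).resolve_right fun h => by omega
  have hDp := isPGroup_of_le hS (hD.trans hES)
  by_cases hab : ∀ x ∈ D, ∀ y ∈ D, x * y = y * x
  · have hDe : IsElementaryAbelian p D := ⟨H50.abelian_of_forall hab, hexp⟩
    have hc := hrank3 D (hD.trans hES) hDe
    rcases hc.eq_or_lt with hc | hc
    · obtain ⟨u, v, t, h⟩ := exists_rt hS hF hE hD bot_le hinv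
        (fun α _ x _ hx => by rw [mem_bot.1 hx, (homOn_efn α).map_one]; exact one_mem _)
        (fun x hx y hy => commutatorElement_eq_one_iff_mul_comm.2 (hab x hx y hy)) hexp
        (by rw [card_bot, mul_one, hc]) fun γ hγ e =>
          hk γ hγ fun x hx => (inv_mul_eq_one.1 (e x hx)).symm
      have hΩ : ∀ x ∈ E, x ^ p = 1 → x ∈ D := fun x hx h1 =>
        mem_of_rank hrank3 (hD.trans hES) hDe hc (hES hx) h1 fun y hy => (h.central hx hy).symm
      have hED := h.le_of_five hS hp hES hD hexp hΩ (h.abelian hS (by omega) hES hD hexp hΩ hk)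
        (h.pow_mem_E hE.1 (radical_of_essential hS hE) hS hD hexp hinv hk)
      obtain rfl : E = D := le_antisymm hED hD
      obtain ⟨n, hn⟩ := hS.exists_card_eq
      have h3 : 2 < n := by
        have := H91.card_lt_of_lt (essential_lt hS hF hE)
        rwa [hn, hc, Nat.pow_lt_pow_iff_right hpp.one_lt] at this
      have hm : MC S p n := mc_of_pearl hE.1 hn h3 (Or.inl hc)
      have key : ∀ A : Subgroup S, IsElementaryAbelian p A → Nat.card A = p ^ 3 → False :=
        fun A hA hAc => by
          have := hrank3 _ (map_subtype_le A) (H50.elem_map hA S.subtype)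
          rw [card_map_of_injective S.subtype_injective, hAc,
            Nat.pow_le_pow_iff_right hpp.one_lt] at this
          omega
      rcases (show n = 3 ∨ n = 4 ∨ 5 ≤ n by omega) with rfl | rfl | h5
      · refine hnotE ⟨hn, ?_⟩
        haveI : Nontrivial S := ⟨⟨⟨u, hES h.uD⟩, 1, fun e => h.u_ne (congrArg Subtype.val e)⟩⟩
        exact (Monoid.exponent_eq_prime_iff hpp).2 fun g hg => orderOf_eq_prime
          (Subtype.ext (exp_of_card_cube hS hF (by omega) hm hE _ g.2)) hg
      · exact key (KK S 1) ⟨H50.abelian_of_forall fun x hx y hy => hm.comm_four hx hy,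
          h.exp_KK_four hS hF hp hm hE hexp hc⟩ (hm.card_KK le_rfl le_rfl)
      · exact key _ (hm.exists_elem_cube (by omega) h5).1 (hm.exists_elem_cube (by omega) h5).2
    · obtain ⟨t, ht, htE⟩ := SetLike.exists_of_lt (lt_normalizerIn hS (essential_lt hS hF hE))
      refine htE (mem_of_cjAut_mem_opIn hE.1 (radical_of_essential hS hE) ht
        (H93.mem_opIn_of_chain' (isPGroup_of_le hS hES) (fun i => if i = 0 then ⊥ else D) 1
        (by simp) (fun α hα i _ x hx hx' => ?_)
        (fun γ hγ e => hk γ hγ fun x hx => e x (hD hx) (by simpa using hx))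
        (cjAut_mem_autGroup F hES ht) fun i hi x hx hx' => ?_))
      · split_ifs at hx' ⊢
        · rw [mem_bot.1 hx', (homOn_efn α).map_one]; exact one_mem _
        · exact hinv α hα x hx'
      · obtain rfl : i = 0 := by omega
        simp only [zero_add, one_ne_zero, if_false, if_true] at hx' ⊢
        have h1 := hinv _ (cjAut_mem_autGroup F hES ht) x hx'
        rw [efn_cjAut _ _ _ hx] at h1 ⊢
        rw [mem_bot, inv_mul_eq_one]
        by_cases hx1 : x = 1
        · simp [hx1]
        have h2 : zpowers x = D := by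
          refine eq_of_le_of_card_le (zpowers_le.2 hx') ?_
          obtain ⟨m, hm⟩ := hDp.exists_card_eq
          rw [hm, Nat.pow_lt_pow_iff_right hpp.one_lt] at hc
          rw [H50.card_zpowers_of_pow (hexp x hx') hx1, hm]
          simpa using Nat.pow_le_pow_right hpp.pos (show m ≤ 1 by omega)
        obtain ⟨k, hk⟩ := pow_eq_one_of_mem_isPGroup hS ht.1
        exact (conj_eq_of_mem_zpowers (hexp x hx') hk (h2 ▸ h1)).symm
  · have h3 := S0640.card_le_cube hDp (fun x => Subtype.ext (hexp x x.2))
      (H50.pRankLE_iff.2 fun A hA => hrank3 A (hA.trans (hD.trans hES)))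
    have hc : Nat.card D = p ^ 3 := by
      obtain ⟨m, hm⟩ := hDp.exists_card_eq
      rw [hm, Nat.pow_le_pow_iff_right hpp.one_lt] at h3
      rcases h3.eq_or_lt with rfl | h3
      · exact hm
      · have : IsMulCommutative D := by
          interval_cases m
          · have : Subsingleton D := (Nat.card_eq_one_iff_unique.1 hm).1
            exact ⟨⟨fun a b => Subsingleton.elim _ _⟩⟩
          · have := isCyclic_of_prime_card (hm.trans (pow_one p))
            infer_instance
          · exact IsPGroup.isMulCommutative_of_card_eq_prime_sq hm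
        exact absurd (fun x hx y hy => H50.mul_comm_of_abelian this hx hy) hab
    have hx := H73.isExtraspecial_of_card_eq_cube hc (by
      by_contra hcon
      push Not at hcon
      exact hab fun x hx y hy => congrArg Subtype.val (hcon ⟨x, hx⟩ ⟨y, hy⟩))
    have hZe : centralizerIn D D = (center D).map D.subtype := by
      ext x
      constructor
      · exact fun h => ⟨⟨x, h.1⟩, mem_center_iff_cent.2 h, rfl⟩
      · rintro ⟨y, hy, rfl⟩; exact mem_center_iff_cent.1 hy
    have hZ : Nat.card (centralizerIn D D) = p := by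
      rw [hZe, card_map_of_injective D.subtype_injective, hx.2]
    have hcomm : ∀ x ∈ D, ∀ y ∈ D, ⁅x, y⁆ ∈ centralizerIn D D := fun x hx y hy => hcm x hx y (hD hy)
    have hinv0 : ∀ α ∈ F.autGroup E, ∀ x ∈ D, x ∈ centralizerIn D D → efn α x ∈ centralizerIn D D :=
      fun α hα c hc hc' => mem_centralizerIn.2 ⟨hinv α hα c hc, fun x hx => by
        have h1 := hinv _ (inv_mem hα) x hx
        rw [← efn_efn_inv α (hD hx), ← efn_map_mul _ (hD h1) (hD hc), (mem_centralizerIn.1 hc').2 _ h1,
          efn_map_mul _ (hD hc) (hD h1)]⟩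
    obtain ⟨u, v, t, h⟩ := exists_rt hS hF hE hD (centralizerIn_le D D) hinv hinv0 hcomm
      (fun x hx => by rw [hexp x hx]; exact one_mem _) (by rw [hc, hZ, pow_succ]) fun γ hγ e => by
        have h1 : ∀ z ∈ centralizerIn D D, efn γ z = z := by
          rw [hZe, ← hx.1.2.2, map_subtype_commutator]
          have hDD : ⁅D, D⁆ ≤ E := commutator_le.2 fun a ha b hb => hD (hcomm a ha b hb).1
          intro z hz
          induction hz using closure_induction with
          | mem z hz =>
            obtain ⟨a, ha, b, hb, rfl⟩ := hz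
            have := comm_mul_cent ha hb (e a ha) (e b hb)
            rw [mul_inv_cancel_left, mul_inv_cancel_left] at this
            rw [← this]
            conv_lhs => rw [this]
            simp only [commutatorElement_def]
            rw [efn_map_mul _ (mul_mem (mul_mem (hD ha) (hD hb)) (inv_mem (hD ha))) (inv_mem (hD hb)),
              efn_map_mul _ (mul_mem (hD ha) (hD hb)) (inv_mem (hD ha)), efn_map_mul _ (hD ha) (hD hb),
              efn_map_inv _ (hD ha), efn_map_inv _ (hD hb)]
          | one => exact (homOn_efn γ).map_one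
          | mul a b ha hb h1 h2 =>
            rw [efn_map_mul _ (hDD ha) (hDD hb), h1, h2]
          | inv a ha h1 => rw [efn_map_inv _ (hDD ha), h1]
        obtain ⟨k, hk⟩ := hk (γ ^ p) (pow_mem hγ p) fun x hx => by
          rw [efn_pow_of_fix (hD hx) (hD (e x hx).1) (by group) (h1 _ (e x hx)), hexp _ (e x hx).1,
            mul_one]
        exact ⟨k + 1, by rw [pow_succ', pow_mul, hk]⟩
    exact h.false_of_ext hS hp hrank3 hE hD hexp hinv hk hcomm hZ

end Cfsg.Agent.S5289
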