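import Cfsg.Statements.S5300
import Cfsg.Agent.H62.SmallFus

set_option autoImplicit false
universe u
open Cfsg

namespace Cfsg.Agent.S5300

open Cfsg.Agent.H91 Cfsg.Agent.H62 Cfsg.FusionSystem

/-- Let F be a saturated fusion system over a finite p-group S. If every cyclic subgroup of the focal subgroup of F of order p (of order 2 or 4 when p = 2) is normal in S, then S is normal in F. -/
theorem result {Ω : Type u} [Group Ω] {S : Subgroup Ω} [Finite S] (p : ℕ) [Fact p.Prime] (hS : IsPGroup p S)
    (F : Cfsg.FusionSystem S) (hF : F.IsSaturated p)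
    (hnorm : ∀ x ∈ F.focalSubgroup, (x ^ p = 1 ∨ (p = 2 ∧ x ^ 4 = 1)) → ∀ s ∈ S, s * x * s⁻¹ ∈ Subgroup.zpowers x) :
    F.IsNormal S := by
  refine normal_top_of_opIn hS hF fun R hR g hgS hg => ?_
  have hRS : R ≤ S := hR.1.1
  haveI := finite_of_le hRS
  obtain ⟨D, h1, h2, h3, h4, -, h5⟩ := exists_smallD hS F hRS
  have hDf : D ≤ F.focalSubgroup := h2.trans (H93.hyp_le_focal F p)
  obtain ⟨n, hn⟩ := pow_eq_one_of_mem_isPGroup hS hgS
  have hc : ∀ x ∈ D, x ^ p = 1 → g * x * g⁻¹ = x := fun x hx hp =>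
    conj_eq_of_mem_zpowers hp hn (hnorm x (hDf hx) (Or.inl hp) g hgS)
  let E : Subgroup Ω := Subgroup.closure {x | x ∈ D ∧ x ^ p = 1}
  have hED : E ≤ D := (Subgroup.closure_le _).2 fun x hx => hx.1
  refine H93.mem_opIn_of_chain' (isPGroup_of_le hS hRS)
    (fun i => if i = 0 then ⊥ else if i = 1 then E else D) 2 (by simp) ?_ ?_
    (cjAut_mem_autGroup F hRS ⟨hgS, hg⟩) ?_
  · intro α hα i hi x hx hxi
    interval_cases i
    · have : x = 1 := hxi
      rw [this, (homOn_efn α).map_one]; exact Subgroup.one_mem _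
    · show efn α x ∈ E
      have hxi' : x ∈ E := hxi
      clear hx hxi
      induction hxi' using Subgroup.closure_induction with
      | mem y hy =>
        refine Subgroup.subset_closure ⟨h3 α hα y hy.1, ?_⟩
        rw [← (homOn_efn α).map_pow (h1 hy.1), hy.2, (homOn_efn α).map_one]
      | one => rw [(homOn_efn α).map_one]; exact Subgroup.one_mem _
      | mul y z hy hz ihy ihz =>
        rw [efn_map_mul α (h1 (hED hy)) (h1 (hED hz))]; exact E.mul_mem ihy ihz
      | inv y hy ihy => rw [efn_map_inv α (h1 (hED hy))]; exact E.inv_mem ihy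
    · exact h3 α hα x hxi
  · intro γ hγ hf
    exact h5 γ hγ fun x hx => hf x (h1 hx) hx
  · intro i hi x hx hxi
    rw [efn_cjAut R g hg hx]
    interval_cases i
    · have hxi' : x ∈ E := hxi
      have : g * x * g⁻¹ = x := by
        clear hx hxi
        induction hxi' using Subgroup.closure_induction with
        | mem y hy => exact hc y hy.1 hy.2
        | one => simp
        | mul y z hy hz ihy ihz =>
          calc g * (y * z) * g⁻¹ = (g * y * g⁻¹) * (g * z * g⁻¹) := by group
            _ = y * z := by rw [ihy, ihz]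
        | inv y hy ihy =>
          calc g * y⁻¹ * g⁻¹ = (g * y * g⁻¹)⁻¹ := by group
            _ = y⁻¹ := by rw [ihy]
      rw [this, inv_mul_cancel]; exact Subgroup.one_mem _
    · have hxD : x ∈ D := hxi
      show _ ∈ E
      rcases h4 x hxD with h | ⟨rfl, h⟩
      · rw [hc x hxD h, inv_mul_cancel]; exact Subgroup.one_mem _
      · obtain ⟨k, hk⟩ := hnorm x (hDf hxD) (Or.inr ⟨rfl, h⟩) g hgS
        simp only at hk
        have h2' := hc (x ^ 2) (D.pow_mem hxD 2) (by rw [← pow_mul]; exact h)
        refine Subgroup.subset_closure ⟨?_, ?_⟩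
        · rw [← hk]; exact D.mul_mem (D.inv_mem hxD) (D.zpow_mem hxD k)
        · have hcm : Commute x⁻¹ (g * x * g⁻¹) := by
            rw [← hk]; exact ((Commute.refl x).zpow_right k).inv_left
          rw [hcm.mul_pow, conj_pow, h2', inv_pow, inv_mul_cancel]

end Cfsg.Agent.S5300
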