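import Cfsg.Statements.S5379
import Cfsg.Agent.S1719
import Cfsg.Agent.CO1.SuzTop

set_option autoImplicit false
open Cfsg

namespace Cfsg.Agent.S5379

open Subgroup CO1.Suz H58 H58.SuzP in
theorem not_conj : ¬ IsConj (el 1) (el 5) := fun h => by
  have := SuzP.finite
  obtain ⟨g, hg⟩ := isConj_iff.1 h
  have h3 : (clL el [1, 2, 3, 6, 7]).map (MulAut.conj g⁻¹).toMonoidHom ≤ centralizer {el 1} := by
    rintro _ ⟨x, hx, rfl⟩
    have h5 := mem_centralizer_singleton_iff.1 (STop.L_le hx)
    rw [← hg] at h5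
    refine mem_centralizer_singleton_iff.2 ?_
    show g⁻¹ * x * g⁻¹⁻¹ * _ = _ * (g⁻¹ * x * g⁻¹⁻¹)
    calc _ = g⁻¹ * (x * (g * el 1 * g⁻¹)) * g := by group
      _ = _ := by rw [h5]; group
  have := card_dvd_of_le h3
  rw [card_map_of_injective (MulAut.conj g⁻¹).injective, card_L, card_cent_a] at this
  norm_num at this

open CO1.Suz H58.SuzP in
theorem order_e : orderOf (el 5) = 2 := H8.orderOf_two_of (STop.sq 5 (by decide)) fun h => by
  have h1 := STop.rel (r := [4, 5, 4, 5, 4, 5]) (by decide)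
  have h2 := STop.rel (r := [1, 4, 3, 4, 3, 4, 3, 4, 3]) (by decide)
  simp only [List.map, List.prod_cons, List.prod_nil, h, mul_one, one_mul] at h1 h2
  rw [STop.sq 4 (by decide), mul_one] at h1
  simp only [h1, one_mul] at h2
  rw [STop.sq 3 (by decide), mul_one, STop.sq 3 (by decide), mul_one] at h2
  exact H8.ne_one_of_orderOf_two STop.order_a h2

/-- Let G be a finite group of Suzuki sporadic type: it has an involution z whose centralizer C has generalized Fitting subgroup Q extraspecial of order 2^7 with C/Q isomorphic to the commutator subgroup of the isometry group of the elliptic quadratic form in dimension 6 over the field with two elements, and some conjugate of z other than z lies in Q. Then G has exactly two conjugacy classes of involutions. -/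
theorem result {G : Type*} [Group G] [Finite G] (z : G) (hz : orderOf z = 2) (Q : Subgroup (Subgroup.centralizer ({z} : Set G))) [Q.Normal] (hF : Cfsg.generalizedFittingSubgroup (Subgroup.centralizer ({z} : Set G)) = Q) (hQ : Cfsg.IsExtraspecial 2 Q) (hcard : Nat.card Q = 2 ^ 7) (e : (Subgroup.centralizer ({z} : Set G)) ⧸ Q ≃* Cfsg.Omega (ZMod 2) (Cfsg.quadFormMinus 2 (ZMod 2) 1 1)) (hnwc : ∃ g : G, (∃ hq : g * z * g⁻¹ ∈ Subgroup.centralizer ({z} : Set G), (⟨g * z * g⁻¹, hq⟩ : Subgroup.centralizer ({z} : Set G)) ∈ Q) ∧ g * z * g⁻¹ ≠ z) : ∃ a b : G, orderOf a = 2 ∧ orderOf b = 2 ∧ ¬ IsConj a b ∧ ∀ x : G, orderOf x = 2 → IsConj x a ∨ IsConj x b := by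
  obtain ⟨f⟩ := S1719.result z hz Q hF hQ hcard e hnwc
  refine ⟨f.symm (H58.SuzP.el 1), f.symm (H58.SuzP.el 5), ?_, ?_, fun h => not_conj ?_, fun x hx => ?_⟩
  · rw [MulEquiv.orderOf_eq, CO1.Suz.STop.order_a]
  · rw [MulEquiv.orderOf_eq, order_e]
  · simpa using f.toMonoidHom.map_isConj h
  · refine (CO1.Suz.two_classes (f x) (by rw [MulEquiv.orderOf_eq, hx])).imp (fun h => ?_) fun h => ?_ <;>
      simpa using f.symm.toMonoidHom.map_isConj h

end Cfsg.Agent.S5379
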