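import Cfsg.Statements.S5381
import Cfsg.Agent.H97.CoB
import Cfsg.Agent.S1719

set_option autoImplicit false
open Cfsg

namespace Cfsg.Agent.S5381

open Subgroup H97 H15 CO1 Module

theorem key {G : Type*} [Group G] [Finite G] {E : ℕ → G} (h : DA E) (hT : Co1T G (E 0))
    {X H : Subgroup G} (hX : X = zpowers (E 1)) (hH : H = Cz (E 1)) [(X.subgroupOf H).Normal] :
    IsQuasisimple H ∧ Spor.IsoSuz (H ⧸ X.subgroupOf H) := by
  subst hX hH
  obtain ⟨π, ρ, hc⟩ := hT.co
  have hf := QuotientGroup.mk'_surjective ((zpowers (E 1)).subgroupOf (Cz (E 1)))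
  have hS := sect3 hc (h.cm (1, 0) (by decide)) h.ne1 hf (fun y => QuotientGroup.eq_one_iff y)
    h.rels.1 (h.mv3 hc.toCo0)
  have := suzT_simple hS
  obtain ⟨P, hP, h2, ⟨e⟩⟩ := hS
  refine ⟨qs_of_ext (not_comm_of_setting h2) hf ?_ ?_,
    S1719.result _ h2.1 P h2.2.1 h2.2.2.1 h2.2.2.2.1 e h2.2.2.2.2⟩ <;> rw [QuotientGroup.ker_mk']
  · exact fun a ha => mem_center_iff.2 fun g => Subtype.ext (zpowers_comm g.2 ha).symm
  · rw [← map_le_map_iff_of_injective (subtype_injective _), map_subgroupOf_eq_of_le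
      (zpowers_le.2 (mem_Cz.2 rfl)), zpowers_le]
    exact ⟨_, pow_mem (commutator_mem_commutator (mem_top ⟨_, h.cm (11, 1) (by decide)⟩)
      (mem_top ⟨_, h.cm (12, 1) (by decide)⟩)) 4, h.rels.2.2.2.2.2.2.2.2⟩

/-- Let G be a finite group of Conway type (involution z with generalized Fitting subgroup Q of its centralizer C extraspecial of order 2^9, C/Q the commutator subgroup of the isometry group of the hyperbolic quadratic form in dimension 8 over the field with two elements, z not weakly closed in Q), and let X be a subgroup of C of order 3 whose commutator subgroup with Q is non-abelian of order 8, contained in an elementary abelian subgroup Y of C of order 9 whose centralizer in Q is extraspecial of order 32 containing an elementary abelian subgroup of order 8. Then the centralizer of X in G is quasisimple and its quotient by X is isomorphic to the presented sporadic Suzuki group. -/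
theorem result {G : Type*} [Group G] [Finite G] (z : G) (hz : orderOf z = 2) (Q : Subgroup (Subgroup.centralizer ({z} : Set G))) [Q.Normal] (hF : Cfsg.generalizedFittingSubgroup (Subgroup.centralizer ({z} : Set G)) = Q) (hQ : Cfsg.IsExtraspecial 2 Q) (hcard : Nat.card Q = 2 ^ 9) (e : (Subgroup.centralizer ({z} : Set G)) ⧸ Q ≃* Cfsg.Omega (ZMod 2) (Cfsg.quadFormPlus 4 (ZMod 2))) (hnwc : ∃ g : G, (∃ hq : g * z * g⁻¹ ∈ Subgroup.centralizer ({z} : Set G), (⟨g * z * g⁻¹, hq⟩ : Subgroup.centralizer ({z} : Set G)) ∈ Q) ∧ g * z * g⁻¹ ≠ z) (X : Subgroup (Subgroup.centralizer ({z} : Set G))) (hX : Nat.card X = 3) (hQX : Nat.card ↥⁅Q, X⁆ = 8) (hQXna : ¬ IsMulCommutative ↥⁅Q, X⁆) (Y₉ : Subgroup (Subgroup.centralizer ({z} : Set G))) (hXY : X ≤ Y₉) (hY₉ : Nat.card Y₉ = 9) (hY₉e : ∀ y ∈ Y₉, y ^ 3 = 1) (hCQ₉ : Cfsg.IsExtraspecial 2 ↥(Q ⊓ Subgroup.centralizer (Y₉ : Set (Subgroup.centralizer ({z} : Set G))))) (hCQ₉c : Nat.card ↥(Q ⊓ Subgroup.centralizer (Y₉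 : Set (Subgroup.centralizer ({z} : Set G)))) = 32) (hCQ₉p : ∃ A : Subgroup (Subgroup.centralizer ({z} : Set G)), A ≤ Q ⊓ Subgroup.centralizer (Y₉ : Set (Subgroup.centralizer ({z} : Set G))) ∧ Cfsg.IsElementaryAbelian 2 A ∧ Nat.card A = 8) [((X.map (Subgroup.subtype (Subgroup.centralizer ({z} : Set G)))).subgroupOf (Subgroup.centralizer ((X.map (Subgroup.subtype (Subgroup.centralizer ({z} : Set G)))) : Set G))).Normal] : Cfsg.IsQuasisimple ↥(Subgroup.centralizer ((X.map (Subgroup.subtype (Subgroup.centralizer ({z} : Set G)))) : Set G)) ∧ Cfsg.Spor.IsoSuz (↥(Subgroup.centralizer ((X.map (Subgroup.subtype (Subgroup.centralizer ({z} : Set G)))) : Set G)) ⧸ (X.map (Subgroup.subtype (Subgroup.centralizer ({z} : Set G)))).subgroupOf (Subgroup.centralizer ((X.map (Subgroup.subtype (Subgroup.centralizer ({z} : Set G)))) : Set G))) := by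
  have hs : IsExtraspecialCentralizerSetting z Q 4 := ⟨hz, hF, hQ, hcard, hnwc⟩
  have hT : Co1T G z := ⟨Q, ‹_›, hs, ⟨e⟩⟩
  have : Fact (Nat.Prime 3) := ⟨Nat.prime_three⟩
  obtain ⟨π, ρ, hc⟩ := hT.co
  obtain ⟨x, rfl⟩ := X.isCyclic_iff_exists_zpowers_eq_top.1 (isCyclic_of_prime_card hX)
  rw [Nat.card_zpowers, ← orderOf_coe] at hX
  have h1 : ⁅Q, zpowers x⁆.map (Cz z).subtype ≤ Oz z :=
    Oz_eq hs ▸ map_mono (commutator_le_left _ _)
  have h2 := co_mv_comm hc.toCo0 x.2 h1 (n := 2) (by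
    by_contra h
    refine hQXna ⟨⟨fun a b => Subtype.ext (Subtype.ext (mul_inv_eq_iff_eq_mul.1 ?_))⟩⟩
    have ha := mem_map_of_mem (Cz z).subtype a.2
    have hb := mem_map_of_mem (Cz z).subtype b.2
    have hab := mul_mem (mul_mem (mul_mem ha hb) (inv_mem ha)) (inv_mem hb)
    exact (hc.lx.comm _ (h1 ha) _ (h1 hb)).resolve_right fun e =>
      h (by rwa [mul_inv_eq_iff_eq_mul.2 e] at hab)) (by
    rw [Oz_eq hs, commutator_comm]
    rintro _ ⟨a, ha, rfl⟩
    exact ⟨_, commutator_mem_commutator (mem_zpowers x) ha, rfl⟩) ((card_subtype _ _).trans hQX)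
  obtain ⟨E, h3, rfl, -⟩ := exists_DA hT
  obtain ⟨d, h4, h5⟩ := co_conj hc gd8 sd3 ⟨Pi.single (.inr 0) 1, by decide⟩
    (h3.cm (1, 0) (by decide)) h3.rels.1 h3.ne1 (h3.mv3 hc.toCo0) x.2 (hX ▸ pow_orderOf_eq_one _)
    (fun e => by rw [e, orderOf_one] at hX; omega) (by omega)
  exact key (h3.conj d) (by rwa [conj_eq_of_Cz h4]) (by rw [h5]; exact MonoidHom.map_zpowers _ _)
    (by rw [h5, MonoidHom.map_zpowers, zpowers_eq_closure, centralizer_closure]; rfl)

end Cfsg.Agent.S5381
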