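import Cfsg.Statements.S5384
import Cfsg.Agent.S1719
import Cfsg.Agent.H80.SylNet
import Cfsg.Agent.S0444

set_option autoImplicit false
open Cfsg

namespace Cfsg.Agent.S5384


open Subgroup H58 H58.SuzP H80 H96

set_option maxRecDepth 100000
set_option exponentiation.threshold 400000

/-- `s`, `t` generate a Sylow 5-subgroup; `u`, `d`, `e` a complement in its normaliser -/
def ws : List (List ℕ) := [[1, 2], [3, 2, 1, 4, 3, 2, 1, 2, 3, 4, 3, 2, 4, 3, 5],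
  [6, 2, 3, 4, 3, 2, 6, 7, 2, 3, 4, 3, 2, 7, 6, 2, 3, 4, 3, 2, 6, 1, 2, 4, 3, 2, 1, 2, 1, 4, 3, 2, 4,
    3, 4, 5, 4], [2], [3, 4, 3, 4, 5, 4, 3, 2, 1, 2, 4, 3, 2, 4, 3, 4, 5, 4, 3, 4]]

def prs : List (List ℕ × List ℕ) := [([0, 0, 0, 0, 0], []), ([1, 1, 1, 1, 1], []), ([0, 1], [1, 0]),
  ([2, 2, 2, 2], []), ([3, 3], []), ([4, 4], []), ([3, 4, 3], [4, 3, 4]), ([3, 2], [2, 3]),
  ([4, 2], [2, 4]), ([2, 0], [0, 0, 2]), ([2, 1], [1, 1, 2]), ([3, 0], [0, 0, 0, 0, 3]),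
  ([3, 1], [0, 0, 0, 0, 1, 3]), ([4, 0], [0, 1, 1, 1, 1, 4]), ([4, 1], [1, 1, 1, 1, 4])]

theorem c1 : ∀ t < 11, eqsAt SuzM.nets 1782 11 (prs.map fun p => (sub ws p.1, sub ws p.2)) t = 0 := by
  decide +kernel

abbrev V := Multiplicative (ZMod 5) × Multiplicative (ZMod 5)

def vv (i j : ZMod 5) : V := (.ofAdd i, .ofAdd j)

def W (v : V) : List ℕ := sub ws (.replicate v.1.toAdd.val 0 ++ .replicate v.2.toAdd.val 1)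

def La : List ℕ := [0, 487, 543, 550, 553, 733, 993, 995, 1013, 1256, 1259, 1592]
def Lb : List ℕ := [375, 501, 710, 787, 791, 898, 1257, 1320, 1341, 1343]
def Lc : List ℕ := [1, 2, 3, 5, 6, 472, 614, 688, 689, 901]
def L : List ℕ := La ++ (Lb ++ Lc)

theorem c2 : ∀ v : V, v ≠ 1 → fixM SuzM.nets 1782 11 (W v) ||| maskOf L = maskOf L := by
  decide +kernel

theorem c3 : fixM SuzM.nets 1782 11 (W (vv 1 4)) ||| maskOf [0, 995] = maskOf [0, 995] ∧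
    fixErr SuzM.nets [W (vv 1 1)] La = 0 ∧ fixErr SuzM.nets [W (vv 1 2)] Lb = 0 ∧
    fixErr SuzM.nets [W (vv 1 3)] Lc = 0 ∧
    orbErr SuzM.nets [ws.getD 2 [], ws.getD 3 [], ws.getD 4 []] [1, 2, 1, 0, 0, 0] 7 11 24 = 0 := by
  decide +kernel

theorem c4 : orbErr SuzM.nets [[1], [2], [3], [4], [5], [6]]
    [5, 1, 0, 2, 1, 3, 2, 0, 4, 1, 5, 3, 0, 2, 1, 5, 0, 3, 4, 1, 2, 0, 1] 995 11 416 = 0 ∧
    fixErr SuzM.nets [[1], [2], [3], [4], [5]] [995, 0] = 0 ∧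
    orbErr SuzM.nets [[1], [2], [3], [4], [5]]
      [1, 0, 2, 1, 3, 2, 0, 4, 1, 3, 2, 4, 1, 0, 3, 1, 2, 0, 4, 1, 2] 1 11 315 = 0 ∧
    fixErr SuzM.nets [ws.getD 0 [], ws.getD 1 []] [995, 0] = 0 := by decide +kernel

/-- the neighbours of the point `0` -/
def nb : ℕ := 0x338007f20c00000000007f00000000008000804eeb80200d31802000000000000000000000000006781e72000040000000000000080181fc0d83ce8a80048c000e3fe382258640c000000000000000000000079c81e600100200000000000000703c0fe0611c474e00140c40003f3fc23904d00262800000000000000079803a00600000000000e787fe047474601cc5000cff9d4744250000000001d034530000000247ffe3ae88d25039ffd11100000034694c00001a7ffba44444ff88800001a694800027fd111f10000d240007a2390008000691000000800000000000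

theorem c5 : keepErr SuzM.nets [[1], [2], [3], [4], [5], [6]] nb = 0 ∧
    ∀ j ∈ L, nb.testBit j = nb.testBit 1 →
      j ∈ [0, 1, 2, 3, 5, 6, 375, 487, 501, 543, 550, 553, 710, 733, 787, 791] := by decide +kernel

def ks : List (List ℕ) :=
  [[], [3], [4], [3, 4], [4, 3], [4, 5], [3, 4, 3], [3, 4, 5], [4, 3, 4], [4, 3, 5], [3, 4, 3, 4],
  [3, 4, 3, 5], [4, 3, 4, 5], [4, 3, 5, 4], [3, 4, 3, 4, 5], [3, 4, 3, 5, 4], [4, 3, 4, 5, 4], [4,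
  3, 5, 4, 3], [3, 4, 3, 4, 5, 4], [3, 4, 3, 5, 4, 3], [4, 3, 4, 5, 4, 3], [3, 4, 3, 4, 5, 4, 3],
  [4, 3, 4, 5, 4, 3, 4], [3, 4, 3, 4, 5, 4, 3, 4], [2, 1, 2, 3, 4, 3, 2, 1, 4, 3, 2, 1, 4, 3, 2],
  [2, 3, 4, 3, 2, 1, 2, 1, 3, 2, 4, 3, 2, 1, 2], [2, 1, 2, 3, 4, 3, 2, 1, 4, 3, 2, 1, 4, 3, 2, 5],
  [2, 3, 2, 1, 2, 1, 4, 3, 2, 4, 3, 4, 3, 2, 1, 2], [2, 3, 4, 3, 2, 1, 2, 1, 3, 2, 4, 3, 2, 1, 2,
  5], [2, 1, 2, 1, 4, 3, 2, 5, 4, 3, 2, 1, 2, 1, 4, 3, 2], [2, 1, 2, 3, 4, 3, 2, 1, 4, 3, 2, 1, 4,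
  3, 2, 5, 4], [2, 1, 2, 4, 3, 2, 1, 5, 4, 3, 2, 1, 2, 3, 4, 3, 2], [2, 1, 4, 3, 2, 1, 2, 5, 4, 3,
  2, 1, 4, 3, 2, 1, 2], [2, 3, 2, 1, 2, 1, 4, 3, 2, 4, 3, 4, 3, 2, 1, 2, 3], [2, 3, 2, 1, 2, 1, 4,
  3, 2, 4, 3, 4, 3, 2, 1, 2, 5], [2, 3, 4, 3, 2, 1, 2, 1, 3, 2, 4, 3, 2, 1, 2, 5, 4], [2, 4, 3, 5,
  4, 3, 2, 1, 2, 1, 3, 2, 4, 3, 2, 1, 2], [2, 1, 2, 1, 4, 3, 2, 5, 4, 3, 2, 1, 2, 1, 4, 3, 2, 5],
  [2, 1, 2, 3, 4, 3, 2, 1, 4, 3, 2, 1, 4, 3, 2, 5, 4, 3], [2, 1, 2, 4, 3, 2, 1, 5, 4, 3, 2, 1, 2, 3,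
  4, 3, 2, 4], [2, 1, 2, 4, 3, 2, 1, 5, 4, 3, 2, 1, 2, 3, 4, 3, 2, 5], [2, 1, 4, 3, 2, 1, 2, 5, 4,
  3, 2, 1, 4, 3, 2, 1, 2, 5], [2, 3, 2, 1, 2, 1, 4, 3, 2, 4, 3, 4, 3, 2, 1, 2, 3, 5], [3, 2, 1, 2,
  1, 4, 3, 2, 5, 4, 3, 2, 1, 2, 1, 4, 3, 2], [3, 2, 1, 2, 4, 3, 2, 1, 5, 4, 3, 2, 1, 2, 3, 4, 3, 2],
  [3, 2, 1, 4, 3, 2, 1, 2, 5, 4, 3, 2, 1, 4, 3, 2, 1, 2], [3, 2, 4, 3, 5, 4, 3, 2, 1, 2, 1, 3, 2, 4,
  3, 2, 1, 2], [2, 1, 2, 1, 4, 3, 2, 5, 4, 3, 2, 1, 2, 1, 4, 3, 2, 5, 4], [2, 1, 2, 3, 4, 3, 2, 1,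
  4, 3, 2, 1, 4, 3, 2, 5, 4, 3, 4], [2, 1, 2, 4, 3, 2, 1, 5, 4, 3, 2, 1, 2, 3, 4, 3, 2, 4, 3], [2,
  1, 3, 2, 1, 2, 4, 3, 4, 5, 4, 3, 2, 1, 2, 1, 4, 3, 2], [2, 1, 4, 3, 2, 1, 2, 5, 4, 3, 2, 1, 4, 3,
  2, 1, 2, 5, 4], [3, 2, 1, 2, 1, 4, 3, 2, 5, 4, 3, 2, 1, 2, 1, 4, 3, 2, 5], [3, 2, 1, 2, 4, 3, 2,
  1, 5, 4, 3, 2, 1, 2, 3, 4, 3, 2, 4], [3, 2, 1, 2, 4, 3, 2, 1, 5, 4, 3, 2, 1, 2, 3, 4, 3, 2, 5],
  [3, 2, 4, 3, 2, 1, 2, 1, 5, 4, 3, 2, 4, 3, 4, 3, 2, 1, 2], [4, 3, 2, 1, 2, 1, 4, 3, 2, 5, 4, 3, 2,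
  1, 2, 1, 4, 3, 2], [4, 3, 2, 1, 2, 4, 3, 2, 1, 5, 4, 3, 2, 1, 2, 3, 4, 3, 2], [4, 3, 2, 1, 4, 3,
  2, 1, 2, 5, 4, 3, 2, 1, 4, 3, 2, 1, 2], [4, 3, 2, 4, 3, 5, 4, 3, 2, 1, 2, 1, 3, 2, 4, 3, 2, 1, 2],
  [2, 1, 2, 1, 4, 3, 2, 4, 3, 4, 5, 4, 3, 2, 1, 4, 3, 2, 1, 2], [2, 1, 2, 1, 4, 3, 2, 5, 4, 3, 2, 1,
  2, 1, 4, 3, 2, 5, 4, 3], [2, 1, 3, 2, 1, 2, 1, 4, 3, 4, 5, 4, 3, 2, 1, 2, 1, 4, 3, 2], [2, 1, 3,
  2, 1, 2, 4, 3, 4, 5, 4, 3, 2, 1, 2, 1, 4, 3, 2, 4], [3, 2, 1, 2, 1, 4, 3, 2, 5, 4, 3, 2, 1, 2, 1,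
  4, 3, 2, 5, 4], [3, 2, 1, 2, 4, 3, 2, 1, 5, 4, 3, 2, 1, 2, 3, 4, 3, 2, 4, 3], [3, 2, 1, 2, 4, 3,
  2, 1, 5, 4, 3, 2, 1, 2, 3, 4, 3, 2, 4, 5], [3, 2, 4, 3, 2, 1, 2, 1, 5, 4, 3, 2, 4, 3, 4, 3, 2, 1,
  2, 3], [3, 4, 3, 2, 1, 2, 4, 3, 5, 4, 3, 2, 1, 4, 3, 2, 1, 4, 3, 2], [4, 3, 2, 1, 2, 1, 4, 3, 2,
  5, 4, 3, 2, 1, 2, 1, 4, 3, 2, 4], [4, 3, 2, 1, 2, 1, 4, 3, 2, 5, 4, 3, 2, 1, 2, 1, 4, 3, 2, 5],
  [4, 3, 2, 1, 2, 4, 3, 2, 1, 5, 4, 3, 2, 1, 2, 3, 4, 3, 2, 4], [4, 3, 2, 1, 2, 4, 3, 2, 1, 5, 4, 3,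
  2, 1, 2, 3, 4, 3, 2, 5], [4, 3, 2, 1, 4, 3, 2, 1, 2, 5, 4, 3, 2, 1, 4, 3, 2, 1, 2, 5], [4, 3, 2,
  1, 4, 3, 5, 4, 3, 2, 1, 2, 3, 4, 3, 2, 1, 4, 3, 2], [4, 3, 2, 4, 3, 5, 4, 3, 2, 1, 2, 1, 3, 2, 4,
  3, 2, 1, 2, 5], [2, 1, 2, 1, 4, 3, 2, 1, 4, 3, 4, 5, 4, 3, 2, 1, 4, 3, 2, 1, 2], [2, 1, 2, 1, 4,
  3, 2, 4, 3, 4, 5, 4, 3, 2, 1, 4, 3, 2, 1, 2, 4], [2, 1, 2, 1, 4, 3, 2, 4, 3, 4, 5, 4, 3, 2, 1, 4,
  3, 2, 1, 2, 5], [2, 1, 2, 1, 4, 3, 2, 4, 5, 4, 3, 4, 3, 2, 1, 5, 4, 3, 2, 1, 2], [2, 1, 3, 2, 1,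
  2, 4, 3, 4, 5, 4, 3, 2, 1, 2, 1, 4, 3, 2, 4, 3], [3, 2, 1, 2, 1, 4, 3, 2, 5, 4, 3, 2, 1, 2, 1, 4,
  3, 2, 5, 4, 3], [3, 2, 1, 2, 4, 3, 2, 1, 5, 4, 3, 2, 1, 2, 3, 4, 3, 2, 4, 3, 5], [3, 4, 3, 2, 1,
  2, 4, 3, 5, 4, 3, 2, 1, 4, 3, 2, 1, 2, 4, 3, 2], [3, 4, 3, 2, 1, 4, 3, 5, 4, 3, 2, 1, 2, 3, 4, 3,
  2, 1, 4, 3, 2], [4, 3, 2, 1, 2, 1, 4, 3, 2, 5, 4, 3, 2, 1, 2, 1, 4, 3, 2, 5, 4], [4, 3, 2, 1, 2,
  4, 3, 2, 1, 5, 4, 3, 2, 1, 2, 3, 4, 3, 2, 4, 5], [4, 3, 2, 1, 4, 3, 5, 4, 3, 2, 1, 2, 3, 4, 3, 2,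
  1, 4, 3, 2, 4], [2, 1, 2, 1, 4, 3, 2, 4, 3, 4, 5, 4, 3, 2, 1, 4, 3, 2, 1, 2, 4, 3], [2, 1, 2, 1,
  4, 3, 2, 4, 3, 4, 5, 4, 3, 2, 1, 4, 3, 2, 1, 2, 4, 5], [2, 1, 2, 1, 4, 3, 2, 4, 3, 4, 5, 4, 3, 2,
  1, 4, 3, 2, 1, 2, 5, 4], [3, 4, 3, 2, 1, 4, 3, 5, 4, 3, 2, 1, 2, 3, 4, 3, 2, 1, 4, 3, 2, 4], [3,
  4, 3, 2, 1, 4, 3, 5, 4, 3, 2, 1, 2, 3, 4, 3, 2, 1, 4, 3, 2, 5], [4, 3, 2, 1, 2, 1, 4, 3, 2, 5, 4,
  3, 2, 1, 2, 1, 4, 3, 2, 5, 4, 3], [2, 1, 2, 1, 4, 3, 2, 4, 3, 4, 5, 4, 3, 2, 1, 4, 3, 2, 1, 2, 4,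
  3, 5], [2, 1, 2, 1, 4, 3, 2, 4, 3, 4, 5, 4, 3, 2, 1, 4, 3, 2, 1, 2, 4, 5, 4]]

theorem c6 : fixErr SuzM.nets ks [1, 995, 0] = 0 ∧
    (ks.map fun w => appW SuzM.nets w (maskOf L)).Nodup := by decide +kernel

local notation "E" => lt (Model.el M) ws

theorem rels : (E 0 ^ 5 = 1 ∧ E 1 ^ 5 = 1 ∧ Commute (E 0) (E 1)) ∧ (E 2 ^ 4 = 1 ∧ E 3 * E 3 = 1 ∧
    E 4 * E 4 = 1 ∧ E 3 * E 4 * E 3 = E 4 * E 3 * E 4 ∧ E 3 * E 2 = E 2 * E 3 ∧ E 4 * E 2 = E 2 * E 4) ∧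
    E 2 * E 0 * (E 2)⁻¹ = E 0 ^ 2 * E 1 ^ 0 ∧ E 2 * E 1 * (E 2)⁻¹ = E 0 ^ 0 * E 1 ^ 2 ∧
    E 3 * E 0 * (E 3)⁻¹ = E 0 ^ 4 * E 1 ^ 0 ∧ E 3 * E 1 * (E 3)⁻¹ = E 0 ^ 4 * E 1 ^ 1 ∧
    E 4 * E 0 * (E 4)⁻¹ = E 0 ^ 1 * E 1 ^ 4 ∧ E 4 * E 1 * (E 4)⁻¹ = E 0 ^ 0 * E 1 ^ 4 := by
  have h := rels_of M inj (by decide) c1
  simp only [prs, List.forall_mem_cons, List.map, List.prod_cons, List.prod_nil, mul_one] at h
  simp only [mul_inv_eq_iff_eq_mul, pow_succ, pow_zero, one_mul, mul_one]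
  simp only [mul_assoc]
  obtain ⟨h1, h2, h3, h4, h5, h6, h7, h8, h9, h10, h11, h12, h13, h14, h15, -⟩ := h
  exact ⟨⟨h1, h2, h3⟩, ⟨h4, h5, h6, h7, h8, h9⟩, h10, h11, h12, h13, h14, h15⟩

noncomputable def Φ : V →* Spor.Suz := (cyc 5 _ rels.1.1).noncommCoprod (cyc 5 _ rels.1.2.1)
  fun _ _ => rels.1.2.2.pow_pow _ _

theorem Φ_eq (v : V) : Φ v = E 0 ^ v.1.toAdd.val * E 1 ^ v.2.toAdd.val := rfl

theorem wv_W (v : V) : wv M.el (W v) = Φ v := by simp [W, wv_sub, Φ_eq]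

theorem fx {v : V} (hv : v ≠ 1) {j : ℕ} (hj : j < 1782) (h : M.φ (Φ v) j = j) : j ∈ L :=
  mem_fixW M (by decide) (c2 v hv) hj (wv_W v ▸ h)

theorem Φ_inj : Function.Injective Φ := (injective_iff_map_eq_one _).2 fun v h => by
  by_contra hv
  exact absurd (fx hv (j := 4) (by decide) (by rw [h, map_one]; rfl)) (by decide)

def ρ (α β v : V) : V := α ^ v.1.toAdd.val * β ^ v.2.toAdd.val

theorem cj {n : Spor.Suz} {α β : V} (h1 : n * E 0 * n⁻¹ = Φ α) (h2 : n * E 1 * n⁻¹ = Φ β) (v : V) :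
    n * Φ v * n⁻¹ = Φ (ρ α β v) := by
  rw [ρ, map_mul, map_pow, map_pow, ← h1, ← h2, conj_pow, conj_pow, conj_mul, Φ_eq]

theorem fxA {v : V} {l : List ℕ} (h : fixErr SuzM.nets [W v] l = 0) : Φ v ∈ M.fixK ⊤ l :=
  wv_W v ▸ mem_fixK_of M h _ List.mem_cons_self

theorem fxB {x : Spor.Suz} {j : ℕ} (hj : j < 1782) (h : M.φ (x⁻¹ * Φ (vv 1 4) * x) j = j) :
    M.φ x j ∈ [0, 995] := by
  have h3 := conj_fix M (x := x) h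
  rw [show x * (x⁻¹ * Φ (vv 1 4) * x) * x⁻¹ = Φ (vv 1 4) by group] at h3
  exact mem_fixW M (by decide) c3.1 (perm_lt (M.φ_fix hgen x) hj) (wv_W _ ▸ h3)

theorem card_K : Nat.card (M.fixK ⊤ [1, 995, 0]) ≤ 1920 :=
  have := SuzP.finite
  lev_le M c4.2.1 c4.2.2.1 (by decide) (lev_le M fixH c4.1 (by decide)
    (lev_le M lf0 lo0 (by decide) (card_top.trans card_eq).le))

theorem card_N : Nat.card (normalizer (Φ.range : Set Spor.Suz)) ≤ 600 := by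
  have := SuzP.finite
  set N := normalizer (Φ.range : Set Spor.Suz)
  have hK : Φ.range ≤ M.fixK ⊤ [995, 0] := by
    rintro _ ⟨v, rfl⟩
    have := mem_fixK_of M c4.2.2.2
    exact mul_mem (pow_mem (this _ List.mem_cons_self) _) (pow_mem (this (ws.getD 1 []) (by simp)) _)
  have h1 : ∀ p ∈ [995, 0], ∀ l, ∀ x ∈ M.fixK N l, M.φ x p ∈ [0, 995] := fun p hp l x hx =>
    fxB ((by decide : ∀ p ∈ [995, 0], p < 1782) p hp) ((M.mem_fixK.1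
      (hK ((mem_normalizer_iff''.1 (M.mem_fixK.1 hx).1 _).1 ⟨_, rfl⟩))).2 p hp)
  have h2 : ∀ x ∈ N, ∀ j ∈ L, M.φ x j ∈ L := fun x hx j hj => by
    obtain ⟨v, hv, h⟩ : ∃ v : V, v ≠ 1 ∧ M.φ (Φ v) j = j := by
      rcases List.mem_append.1 hj with h | h
      · exact ⟨_, by decide, (M.mem_fixK.1 (fxA c3.2.1)).2 j h⟩
      rcases List.mem_append.1 h with h | h
      · exact ⟨_, by decide, (M.mem_fixK.1 (fxA c3.2.2.1)).2 j h⟩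
      · exact ⟨_, by decide, (M.mem_fixK.1 (fxA c3.2.2.2.1)).2 j h⟩
    obtain ⟨w, hw⟩ := (mem_normalizer_iff.1 hx _).1 (⟨v, rfl⟩ : Φ v ∈ Φ.range)
    refine fx (v := w) ?_ (perm_lt (M.φ_fix hgen x) ((by decide : ∀ j ∈ L, j < 1782) j hj))
      (hw ▸ conj_fix M h)
    rintro rfl
    exact hv (Φ_inj (by simpa [mul_inv_eq_one] using hw.symm))
  refine step_le M (prev := []) _ (n := 2) (m := 300) (by decide) (h1 0 (by decide) _) <|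
    step_le M _ (n := 1) (m := 300) (by decide) (h1 995 (by decide) _) <|
    step_le M (p := 1) _ (n := 15) (m := 20) ?_ (fun x hx => c5.2 _ (h2 x (M.mem_fixK.1 hx).1 1
      (by decide)) (M.keep_clW c5.1 x ?_ 1)) ?_
  · decide
  · exact (index_H.2.symm.trans H_clW).le ((M.mem_fixK.1 hx).2 0 (by decide))
  have h3 : 96 ≤ _ := le_relIndex_masks M (X := N) (fun x hx j hj => (testBit_maskOf _ _).2
    (h2 x hx j ((testBit_maskOf _ _).1 hj))) (mem_fixK_of M c6.1) c6.2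
  rw [fixK_eq]
  exact Nat.le_of_mul_le_mul_left ((Nat.mul_le_mul_right _ h3).trans
    ((relIndex_mul_card' _ _).le.trans card_K)) (by decide)

theorem p5 : Fact (Nat.Prime 5) := ⟨by norm_num⟩

theorem card_P : Nat.card Φ.range = 5 ^ 2 := by
  rw [← Nat.card_congr (MonoidHom.ofInjective Φ_inj).toEquiv]; simp

noncomputable def P0 : Sylow 5 Spor.Suz :=
  have := p5
  have := SuzP.finite
  (IsPGroup.of_card card_P).toSylow (by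
    rw [index_of_card (n := 17933819904) card_P card_eq (by norm_num) (by norm_num)]; decide)

theorem exists_compl : ∃ ψ : Multiplicative (ZMod 4) × Equiv.Perm (Fin 3) →* Spor.Suz,
    Function.Injective ψ ∧ ∀ a, ψ a ∈ normalizer (Φ.range : Set Spor.Suz) := by
  have := SuzP.finite
  obtain ⟨-, ⟨r1, r2, r3, r4, r5, r6⟩, r7, r8, r9, r10, r11, r12⟩ := rels
  have h1 : ∀ K : Subgroup Spor.Suz, E 3 ∈ K → E 4 ∈ K → ∀ σ, S0444.phi (E 3) (E 4) σ ∈ K := by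
    intro K h3 h4 σ
    unfold S0444.phi
    split_ifs <;> simp only [one_mem, mul_mem, h3, h4]
  have h2 : ∀ {n : Spor.Suz} {α β : V}, n * E 0 * n⁻¹ = Φ α → n * E 1 * n⁻¹ = Φ β →
      n ∈ normalizer (Φ.range : Set Spor.Suz) := fun h3 h4 =>
    mem_normalizer_fintype (by rintro _ ⟨v, rfl⟩; exact ⟨_, (cj h3 h4 v).symm⟩)
  let ψ := (cyc 4 _ r1).noncommCoprod (MonoidHom.mk' _ (S0444.phi_mul r2 r3 r4)) fun s σ =>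
    (Commute.symm (mem_centralizer_singleton_iff.1 (h1 _ (mem_centralizer_singleton_iff.2 r5)
      (mem_centralizer_singleton_iff.2 r6) σ))).pow_left _
  refine ⟨ψ, injective_of_card_le ψ ?_, fun a => mul_mem (pow_mem (h2 (α := vv 2 0) (β := vv 0 2) r7 r8) _)
    (h1 _ (h2 (α := vv 4 0) (β := vv 4 1) r9 r10) (h2 (α := vv 1 4) (β := vv 0 4) r11 r12) _)⟩
  have h3 := M.le_ncard_orb (K := ψ.range) (forall_cons ⟨(.ofAdd 1, 1), mul_one _⟩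
    (forall_cons ⟨(1, .swap 0 1), one_mul _⟩ (forall_cons ⟨(1, .swap 1 2), one_mul _⟩ (forall_nil' _))))
    c3.2.2.2.2 (M.orb_finite' _ _)
  refine le_trans (le_of_eq ?_) (h3.trans (Nat.le_of_dvd Nat.card_pos ⟨_, (orb_mul_card M _ _).symm⟩))
  simp [Fintype.card_perm, Nat.factorial]

/-- two classes of subgroups of order five -/
def Two (G : Type*) [Group G] : Prop := ∃ A B : Subgroup G, Nat.card A = 5 ∧ Nat.card B = 5 ∧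
  (∀ g : G, A.map (MulAut.conj g).toMonoidHom ≠ B) ∧ ∀ C : Subgroup G, Nat.card C = 5 →
    ∃ g : G, C.map (MulAut.conj g).toMonoidHom = A ∨ C.map (MulAut.conj g).toMonoidHom = B

theorem Two.tr {G S : Type*} [Group G] [Group S] (f : G ≃* S) (h : Two S) : Two G := by
  obtain ⟨A, B, h1, h2, h3, h4⟩ := h
  have k1 : ∀ (C : Subgroup G) g, (C.map (MulAut.conj g).toMonoidHom).map f.toMonoidHom =
      (C.map f.toMonoidHom).map (MulAut.conj (f g)).toMonoidHom := fun C g => by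
    rw [map_map, map_map]; congr 1; ext; simp
  have k2 : ∀ C : Subgroup S, (C.map f.symm.toMonoidHom).map f.toMonoidHom = C := fun C => by
    rw [map_map]; simp
  refine ⟨A.map f.symm.toMonoidHom, B.map f.symm.toMonoidHom,
    (card_map_of_injective f.symm.injective).trans h1, (card_map_of_injective f.symm.injective).trans h2,
    fun g hg => h3 (f g) (by rw [← k2 A, ← k1, hg, k2]), fun C hC => ?_⟩
  obtain ⟨g, hg⟩ := h4 (C.map f.toMonoidHom) ((card_map_of_injective f.injective).trans hC)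
  refine ⟨f.symm g, hg.imp (fun h => ?_) fun h => ?_⟩ <;>
    exact map_injective (f := f.toMonoidHom) f.injective (by rw [k1, k2, f.apply_symm_apply, h])

theorem lines : ∀ v : V, v ≠ 1 → v ^ 5 = 1 ∧ ∃ w ∈ [v, ρ (vv 4 0) (vv 4 1) v, ρ (vv 1 4) (vv 0 4) v],
    ∃ a ∈ [vv 1 1, vv 1 4], (∃ k < 5, w = a ^ k) ∧ ∃ k < 5, a = w ^ k := by decide +kernel

theorem two : Two Spor.Suz := by
  have := SuzP.finite
  have h0 : vv 1 1 ≠ 1 ∧ vv 1 4 ≠ 1 := by decide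
  have := p5
  have h1 : ∀ v : V, v ≠ 1 → Nat.card (zpowers (Φ v)) = 5 := fun v hv => by
    rw [Nat.card_zpowers, orderOf_injective Φ Φ_inj, orderOf_eq_prime (lines v hv).1 hv]
  refine ⟨_, _, h1 _ h0.1, h1 _ h0.2, fun g hg => ?_, fun C hC => ?_⟩
  · obtain ⟨a, ha, e⟩ := hg.ge (mem_zpowers _)
    have h2 : ∀ j ∈ La, M.φ g j ∈ [0, 995] := fun j hj =>
      fxB ((by decide : ∀ j ∈ La, j < 1782) j hj) (by
        rw [← e, show g⁻¹ * (MulAut.conj g).toMonoidHom a * g = a by simp [mul_assoc]]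
        exact (M.mem_fixK.1 (zpowers_le.2 (fxA c3.2.1) ha)).2 j hj)
    have h3 := h2 0 (by decide)
    have h4 := h2 487 (by decide)
    have h5 := h2 543 (by decide)
    have h6 := (M.φ g).injective.ne (show 0 ≠ 487 by decide)
    have h7 := (M.φ g).injective.ne (show 0 ≠ 543 by decide)
    have h8 := (M.φ g).injective.ne (show 487 ≠ 543 by decide)
    simp only [List.mem_cons, List.not_mem_nil, or_false] at h3 h4 h5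
    omega
  obtain ⟨Q, hQ⟩ := (IsPGroup.of_card (p := 5) (n := 1) hC).exists_le_sylow
  obtain ⟨g, hg⟩ := MulAction.exists_smul_eq Spor.Suz Q P0
  obtain ⟨c, hc, c1⟩ := (nontrivial_iff_exists_ne_one C).1 (Finite.one_lt_card_iff_nontrivial.1 (by omega))
  obtain ⟨v, hv⟩ : g * c * g⁻¹ ∈ (P0 : Subgroup Spor.Suz) := hg ▸ ⟨c, hQ hc, rfl⟩
  have v1 : v ≠ 1 := by rintro rfl; exact c1 (by simpa [eq_comm, mul_inv_eq_one] using hv)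
  have h2 : ∀ n w, n * Φ v * n⁻¹ = Φ w → C.map (MulAut.conj (n * g)).toMonoidHom = zpowers (Φ w) :=
    fun n w h => (eq_of_le_of_card_ge (zpowers_le.2
      (mem_map.2 ⟨c, hc, by rw [← h, hv]; simp [mul_assoc]⟩)) (by
      rw [card_map_of_injective (MulAut.conj _).injective, hC, h1]
      rintro rfl
      exact v1 (Φ_inj (by simpa [mul_inv_eq_one] using h)))).symm
  obtain ⟨-, w, hw, a, ha, ⟨k, -, h3⟩, l, -, h4⟩ := lines v v1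
  have h5 : zpowers (Φ w) = zpowers (Φ a) := le_antisymm
    (zpowers_le.2 (by rw [h3, map_pow]; exact pow_mem (mem_zpowers _) _))
    (zpowers_le.2 (by rw [h4, map_pow]; exact pow_mem (mem_zpowers _) _))
  obtain ⟨n, hn⟩ : ∃ n, n * Φ v * n⁻¹ = Φ w := by
    obtain ⟨-, -, -, -, r9, r10, r11, r12⟩ := rels
    simp only [List.mem_cons, List.not_mem_nil, or_false] at hw
    rcases hw with rfl | rfl | rfl
    exacts [⟨1, by simp⟩, ⟨_, cj r9 r10 v⟩, ⟨_, cj r11 r12 v⟩]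
  refine ⟨n * g, ?_⟩
  rw [h2 n w hn, h5]
  simp only [List.mem_cons, List.not_mem_nil, or_false] at ha
  exact ha.imp (fun h => by rw [h]) fun h => by rw [h]

/-- Let G be a finite group of Suzuki sporadic type (involution z with generalized Fitting subgroup Q of its centralizer C extraspecial of order 2^7, C/Q the commutator subgroup of the isometry group of the elliptic quadratic form in dimension 6 over the field with two elements, z not weakly closed in Q). Then G has exactly two conjugacy classes of subgroups of order 5, and the normalizer of a Sylow 5-subgroup P of G has order 600, with P of order 25 and N(P)/P isomorphic to the direct product of a cyclic group of order 4 and the symmetric group of degree 3. -/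
theorem result {G : Type*} [Group G] [Finite G] (z : G) (hz : orderOf z = 2) (Q : Subgroup (Subgroup.centralizer ({z} : Set G))) [Q.Normal] (hF : Cfsg.generalizedFittingSubgroup (Subgroup.centralizer ({z} : Set G)) = Q) (hQ : Cfsg.IsExtraspecial 2 Q) (hcard : Nat.card Q = 2 ^ 7) (e : (Subgroup.centralizer ({z} : Set G)) ⧸ Q ≃* Cfsg.Omega (ZMod 2) (Cfsg.quadFormMinus 2 (ZMod 2) 1 1)) (hnwc : ∃ g : G, (∃ hq : g * z * g⁻¹ ∈ Subgroup.centralizer ({z} : Set G), (⟨g * z * g⁻¹, hq⟩ : Subgroup.centralizer ({z} : Set G)) ∈ Q) ∧ g * z * g⁻¹ ≠ z) (P : Sylow 5 G) : (∃ A B : Subgroup G, Nat.card A = 5 ∧ Nat.card B = 5 ∧ (∀ g : G, A.map (MulAut.conj g).toMonoidHom ≠ B) ∧ ∀ C : Subgroup G, Nat.card C = 5 → ∃ g : G, C.map (MulAut.conj g).toMonoidHom = A ∨ C.map (MulAut.conj g).toMonoidHom = B) ∧ Nat.card (P : Subgroup G) = 25 ∧ Nat.card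 ↥(Subgroup.normalizer ((P : Subgroup G) : Set G)) = 600 ∧ Nonempty (↥(Subgroup.normalizer ((P : Subgroup G) : Set G)) ⧸ (P : Subgroup G).subgroupOf (Subgroup.normalizer ((P : Subgroup G) : Set G)) ≃* Multiplicative (ZMod 4) × Equiv.Perm (Fin 3)) := by
  obtain ⟨f⟩ := S1719.result z hz Q hF hQ hcard e hnwc
  have := SuzP.finite
  have := p5
  obtain ⟨F, hF⟩ : ∃ F : G ≃* Spor.Suz, _ = Φ.range := exists_equiv_sylow f P P0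
  obtain ⟨ψ, h1, h2⟩ := exists_compl
  have h3 := card_N
  have h4 := card_P
  rw [← hF, ← map_equiv_normalizer_eq] at h2 h3
  rw [← hF] at h4
  rw [card_map_of_injective F.injective] at h3 h4
  have h5 : Nat.card (Multiplicative (ZMod 4) × Equiv.Perm (Fin 3)) = 24 := by
    simp [Fintype.card_perm, Nat.factorial]
  have h6 := quot_equiv le_normalizer (F.symm.toMonoidHom.comp ψ) (F.symm.injective.comp h1)
    (fun a => mem_map_equiv.1 (h2 a)) (by rw [h4, h5]; decide) (by rw [h4, h5]; exact h3)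
  rw [h4, h5] at h6
  exact ⟨two.tr f, h4, h6⟩

end Cfsg.Agent.S5384
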