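import Cfsg.Statements.S5385
import Cfsg.Agent.H97.CoB
import Cfsg.Agent.SGJ2.Cor
import Cfsg.Agent.H28.Pgl2Trace

set_option autoImplicit false
open Cfsg

namespace Cfsg.Agent.S5385

open Subgroup QuadraticMap H97 H11 H15 CO1 Module

theorem perm_t {k : OG (qPlus (ZMod 2) 4)} (e : ∀ v, ap k (j5 v) = j5 v) (i : ℕ) :
    ∃ m < 5, ap k (t5 i) = t5 m :=
  sd5.sing _ (fun u => by rw [← e, polar_ap, polar_comm, sd5.jt]) (by rw [Q_ap, sd5.q])
    fun e => sd5.t_ne i (ap_eq_zero.1 e)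

theorem card_fix : ∃ B : Subgroup (OG (qPlus (ZMod 2) 4)),
    (∀ k, k ∈ B ↔ ∀ v, ap k (j5 v) = j5 v) ∧ Nat.card B ≤ 120 := by
  let B : Subgroup (OG (qPlus (ZMod 2) 4)) := ⟨⟨⟨{k | ∀ v, ap k (j5 v) = j5 v},
    fun ha hb v => by rw [ap_mul, hb, ha]⟩, fun _ => rfl⟩, fun ha v => by rw [← ha, ap_inv_ap, ha]⟩
  have h1 : ∀ (k : B) (i : Fin 5), ∃ m : Fin 5, ap k.1 (t5 i) = t5 m := fun k i =>
    let ⟨m, hm, e⟩ := perm_t k.2 i; ⟨⟨m, hm⟩, e⟩
  choose F hF using h1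
  refine ⟨B, fun _ => Iff.rfl, le_trans (Nat.card_le_card_of_injective (β := Fin 5 ↪ Fin 5)
    (fun k => ⟨F k, fun i m e => (by decide : ∀ i m : Fin 5, t5 i = t5 m → i = m) i m
      (ap_injective k.1 (by rw [hF, hF, e]))⟩) fun k l e => Subtype.ext (sd5.ext (fun i => ?_)
      fun v hv => by rw [← sd5.jp v hv, k.2, l.2])) (by simp)⟩
  have := hF k ⟨i % 5, Nat.mod_lt _ (by decide)⟩
  rw [show F k = F l from congrArg Function.Embedding.toFun e, ← hF] at this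
  rwa [← sd5.mod i]

section
variable {G : Type*} [Group G] {z b : G} {π : G → Fin 4 ⊕ Fin 4 → ZMod 2}
  {ρ : G → OG (qPlus (ZMod 2) 4)}

theorem mem_of_span (h : CO1.Co0 (qPlus (ZMod 2) 4) z π ρ) {M : Subgroup G} (hz : z ∈ M)
    {s : Set (Fin 4 ⊕ Fin 4 → ZMod 2)} (hs : ∀ v ∈ s, ∃ a ∈ Oz z, a ∈ M ∧ π a = v) {a : G}
    (ha : a ∈ Oz z) (e : π a ∈ Submodule.span (ZMod 2) s) : a ∈ M := by
  obtain ⟨a', h1, h2, e⟩ : ∃ a' ∈ Oz z, a' ∈ M ∧ π a' = π a := by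
    generalize π a = v at e
    induction e using Submodule.span_induction with
    | mem v hv => exact hs v hv
    | zero => exact ⟨1, one_mem _, one_mem _, h.π_one⟩
    | add _ _ _ _ h1 h2 =>
      obtain ⟨a, a1, a2, rfl⟩ := h1
      obtain ⟨b, b1, b2, rfl⟩ := h2
      exact ⟨_, mul_mem a1 b1, mul_mem a2 b2, h.add a a1 b b1⟩
    | smul s _ _ h1 =>
      obtain ⟨a, a1, a2, rfl⟩ := h1
      exact ⟨_, zp_mem a1 s, zp_mem a2 s, h.π_zpt a1 s⟩
  rcases h.eq_or h1 ha e with rfl | rfl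
  exacts [h2, mul_mem hz h2]

variable (h : CO1.Co0 (qPlus (ZMod 2) 4) z π ρ) (hb : b ∈ Cz z) (b5 : b ^ 5 = 1) (st : Std t5 (ρ b))
include h hb b5 st

theorem fix_j {y : G} (hy : y ∈ Cz z) (e : ∀ a ∈ Oz z, a ∈ Cz b → y ∈ Cz a) (v) :
    ap (ρ y) (j5 v) = j5 v := by
  obtain ⟨a, a1, a2, a3⟩ := co_fix h hb (by decide) b5 (sd5.fix st v)
  rw [← a3, ← h.act y hy a a1, conj_eq_of_Cz (e a a1 a2)]

theorem comm_three {c y : G} (hc : c ∈ Cz z) (hcb : c ∈ Cz b) (e : ∀ i, ap (ρ c) (t5 i) = t5 i)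
    (hy : y ∈ Cz z) (e' : ∀ a ∈ Oz z, a ∈ Cz b → y ∈ Cz a) (y3 : y ^ 3 = 1) : y ∈ Cz c := by
  have h1 : ∀ a ∈ Oz z, ∀ i < 5, π a = t5 i → c * a * c⁻¹ = a := fun a ha i hi e1 => by
    obtain ⟨u, hu, e2⟩ := h.surj (t5 (i + 1) + t5 (i + 3))
    have h2 : c * (b * u * b⁻¹ * u⁻¹) * c⁻¹ = b * u * b⁻¹ * u⁻¹ := by
      calc _ = c * b * c⁻¹ * (c * u * c⁻¹) * (c * b * c⁻¹)⁻¹ * (c * u * c⁻¹)⁻¹ := by group
        _ = _ := by
          rw [conj_eq_of_Cz hcb]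
          rcases h.eq_or hu (h.norm hc hu) (by rw [h.act c hc u hu, e2, ap_add, e, e]) with e3 | e3
          · rw [e3]
          · rw [e3, ← mul_assoc b, mem_Cz.1 hb, mul_inv_rev, mul_assoc z, mul_assoc z, mul_assoc z,
              ← mul_assoc _ u⁻¹, ← mul_assoc z,
              ← mem_Cz.1 (h.le (mul_mem (h.norm hb hu) (inv_mem hu))), mul_inv_cancel_right]
    rcases h.eq_or (mul_mem (h.norm hb hu) (inv_mem hu)) ha (by
      rw [h.add _ (h.norm hb hu) _ (inv_mem hu), h.act b hb u hu, h.π_inv hu, e2, ap_add, st.sh, st.sh,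
        e1]
      exact (by decide : ∀ i < 5, t5 (i + 1 + 1) + t5 (i + 3 + 1) + (t5 (i + 1) + t5 (i + 3)) = t5 i)
        i hi) with rfl | rfl
    · exact h2
    · rw [← conj_mul, h2, conj_eq_of_Cz hc]
  have hd := mul_mem (mul_mem (mul_mem hc hy) (inv_mem hc)) (inv_mem hy)
  have h2 : ∀ a ∈ Oz z, a ∈ Cz (c * y * c⁻¹ * y⁻¹) := fun a ha => by
    refine mem_of_span h (Cz_symm hd) (s := Set.range j5 ∪ Set.range fun i : Fin 5 => t5 i) ?_ ha ?_
    · rintro _ (⟨v, rfl⟩ | ⟨i, rfl⟩)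
      · obtain ⟨a, a1, a2, a3⟩ := co_fix h hb (by decide) b5 (sd5.fix st v)
        refine ⟨a, a1, Cz_symm (Cz_of_conj ?_), a3⟩
        have k1 := conj_eq_of_Cz (inv_mem (e' a a1 a2))
        have k2 := conj_eq_of_Cz (e' _ (h.norm (inv_mem hc) a1)
          (mul_mem (mul_mem (inv_mem hcb) a2) (inv_mem (inv_mem hcb))))
        calc _ = c * (y * (c⁻¹ * (y⁻¹ * a * y⁻¹⁻¹) * c⁻¹⁻¹) * y⁻¹) * c⁻¹ := by group
          _ = a := by rw [k1, k2]; group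
      · obtain ⟨a, a1, a3⟩ := h.surj (t5 i)
        obtain ⟨m, hm, e1⟩ := perm_t (fix_j h hb b5 st (inv_mem hy) fun a a1 a2 => inv_mem (e' a a1 a2)) i
        refine ⟨a, a1, Cz_symm (Cz_of_conj ?_), a3⟩
        have k1 := h1 _ (h.norm (inv_mem hy) a1) m hm (by rw [h.act _ (inv_mem hy) a a1, a3, e1])
        calc _ = c * y * c⁻¹ * (y⁻¹ * a * y⁻¹⁻¹) * c * y⁻¹ * c⁻¹ := by group
          _ = c * a * c⁻¹ := by rw [← k1]; group
          _ = a := h1 a a1 i i.2 a3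
    · rw [← add_sub_cancel_right (π a) (∑ k ∈ Finset.range 5,
        polar (qPlus (ZMod 2) 4) (π a) (t5 k) • t5 k),
        ← sd5.jp _ (sd5.proj (π a))]
      exact sub_mem (Submodule.subset_span (Or.inl ⟨_, rfl⟩)) (sum_mem fun k hk => Submodule.smul_mem _ _
        (Submodule.subset_span (Or.inr ⟨⟨k, Finset.mem_range.1 hk⟩, rfl⟩)))
  rcases h.lx.large _ fun a ha => (mem_Cz.1 (h2 a ha)).symm with e1 | e1
  · exact Cz_symm (Cz_of_conj (mul_inv_eq_one.1 e1))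
  · have := congrArg (· ^ 3) (mul_inv_eq_iff_eq_mul.1 e1)
    simp only [conj_pow, y3, Commute.mul_pow (mem_Cz.1 hy).symm] at this
    rw [pow_succ z, pow_two, h.lx.sq] at this
    exact absurd (by simpa using this.symm) h.lx.ne

end

theorem jj {G : Type*} [Group G] [Finite G] {P : Subgroup G} {z : G} (h : H88.JJ.Hyp P z)
    (hG : Nat.card G ∣ 4157776806543360000) : Spor.IsoJ2 G :=
  ((H88.JJ.main h.1 h.2.1 h.2.2.1 h.2.2.2).resolve_right fun e => by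
    rw [H88.JJ.card_of_iso3 e.1] at hG; exact absurd hG (by decide)).1

theorem key {G : Type*} [Group G] [Finite G] {E : ℕ → G} (h : DA E) (hT : Co1T G (E 0))
    (hG : Nat.card G = 4157776806543360000) {H : Subgroup G} (hH : H = Cz (E 1 * E 2 * E 3)) :
    Spor.IsoJ2 (layer H) ∧ Nonempty (centralizer ((layer H).map H.subtype : Set G) ≃*
      alternatingGroup (Fin 5)) := by
  subst hH
  obtain ⟨r1, r2, r3, r4, r5, r6, b5, r8, -⟩ := h.rels
  obtain ⟨π, ρ, hc, st⟩ : ∃ π ρ, Co (qPlus (ZMod 2) 4) (E 0) π ρ ∧ Std t5 (ρ (E 1 * E 2 * E 3)) := by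
    obtain ⟨π, ρ, hc⟩ := hT.co
    obtain ⟨r, st⟩ := co_std hc.toCo0 gd8.nd sd5 h.cz5 b5 h.ne5 (h.mv5 hc.toCo0)
    exact ⟨_, _, hc.twist r, st⟩
  have hb := h.cz5
  have hr := h.mv5 hc.toCo0
  have hne := h.ne
  obtain ⟨L, hL⟩ : ∃ L : Subgroup G, ∀ g, g ∈ L ↔ E 1 ∈ Cz g ∧ E 2 ∈ Cz g ∧ E 3 ∈ Cz g :=
    ⟨Cz (E 1) ⊓ (Cz (E 2) ⊓ Cz (E 3)), fun g => ⟨fun e => ⟨Cz_symm e.1, Cz_symm e.2.1, Cz_symm e.2.2⟩,
      fun e => ⟨Cz_symm e.1, Cz_symm e.2.1, Cz_symm e.2.2⟩⟩⟩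
  have l1 : L ≤ Cz (E 1 * E 2 * E 3) := fun g hg =>
    Cz_symm (mul_mem (mul_mem ((hL g).1 hg).1 ((hL g).1 hg).2.1) ((hL g).1 hg).2.2)
  have c1 := h.cm (1, 0) (by decide)
  have c2 := h.cm (2, 0) (by decide)
  have c3 := h.cm (3, 0) (by decide)
  have lz : E 0 ∈ L := (hL _).2 ⟨c1, c2, c3⟩
  have lg : E 10 ∈ L := (hL _).2 ⟨Cz_symm (h.cm (10, 1) (by decide)),
    Cz_symm (h.cm (10, 2) (by decide)), Cz_symm (h.cm (10, 3) (by decide))⟩
  have q0 := h.oz 0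
  have q1 : E 4 ∉ Cz (E 5) := h.qq 0 1 (by decide)
  have q2 : E 4 ≠ E 0 := fun e => q1 (e ▸ Cz_symm (hc.le (h.oz 1)))
  generalize hb' : E 1 * E 2 * E 3 = b at *
  have l2 : ∀ a ∈ Oz (E 0), a ∈ Cz b → a ∈ L := fun a ha e => by
    have li := li_of_gram (Q := qPlus (ZMod 2) 4) (n := 4) (by decide) (f := fun i => π (E (4 + i)))
      fun i k e => z2_ne0.1 fun e' => h.qq (i.castAdd 2) (k.castAdd 2) (mt (Fin.castAdd_inj).1 e)
        ((hc.comm_iff (h.oz _) (h.oz _)).2 e')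
    refine mem_of_span hc.toCo0 lz (s := Set.range fun i : Fin 4 => π (E (4 + i))) ?_ ha ?_
    · rintro _ ⟨i, rfl⟩
      exact ⟨_, h.oz (i.castAdd 2), (hL _).2 (h.qK i), rfl⟩
    · rw [Submodule.eq_of_le_of_finrank_le (S₂ := LinearMap.range j5) (Submodule.span_le.2 (by
        rintro _ ⟨i, rfl⟩
        exact ⟨_, sd5.jp' st ((co_comm hc.toCo0 hb (by decide) b5 (h.oz (i.castAdd 2))).1
          (l1 ((hL _).2 (h.qK i))))⟩))
        (by rw [finrank_span_eq_card li]; simpa using j5.finrank_range_le)]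
      exact ⟨_, sd5.jp' st ((co_comm hc.toCo0 hb (by decide) b5 ha).1 e)⟩
  have l3 : ∀ c ∈ Cz (E 0), c ∈ Cz b → ∃ k : ℕ, (b ^ k)⁻¹ * c ∈ L := fun c h1 h2 => by
    obtain ⟨k, e⟩ := sd5.shift st (co_rho_comm hc.toCo0 hb h1 h2)
    have h3 := inv_mem (pow_mem hb k)
    have h4 := fun y => comm_three (y := y) hc.toCo0 hb b5 st (mul_mem h3 h1)
      (mul_mem (inv_mem (pow_mem (mem_Cz.2 rfl) k)) h2) fun i => by
        rw [hc.ρ_mul h3 h1, ap_mul, e, hc.ρ_inv (pow_mem hb k), hc.ρ_pow hb, ap_inv_ap]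
    have h5 := h4 _ c1 (fun a a1 a2 => ((hL a).1 (l2 a a1 a2)).1) r1
    have h6 := (Subgroup.mul_mem_cancel_left _ h5).1 (h4 _ (mul_mem c1 c2)
      (fun a a1 a2 => mul_mem ((hL a).1 (l2 a a1 a2)).1 ((hL a).1 (l2 a a1 a2)).2.1) r4)
    exact ⟨k, (hL _).2 ⟨h5, h6, (Subgroup.mul_mem_cancel_left _ h6).1 (h4 _ (mul_mem c2 c3)
      (fun a a1 a2 => mul_mem ((hL a).1 (l2 a a1 a2)).2.1 ((hL a).1 (l2 a a1 a2)).2.2) r5)⟩⟩
  have : Fact (Nat.Prime 5) := ⟨Nat.prime_five⟩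
  have : ((zpowers b).subgroupOf (Cz b)).Normal := ⟨fun n hn g => by
    rwa [show g * n * g⁻¹ = n from Subtype.ext (mul_inv_eq_iff_eq_mul.2 (zpowers_comm g.2 hn).symm)]⟩
  have hf := QuotientGroup.mk'_surjective ((zpowers b).subgroupOf (Cz b))
  have hk : ∀ y, QuotientGroup.mk' ((zpowers b).subgroupOf (Cz b)) y = 1 ↔ (y : G) ∈ zpowers b :=
    fun y => QuotientGroup.eq_one_iff y
  have hSG : Nat.card (Cz b ⧸ (zpowers b).subgroupOf (Cz b)) ∣ 4157776806543360000 :=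
    hG ▸ (card_quotient_dvd_card _).trans (card_subgroup_dvd_card _)
  generalize QuotientGroup.mk' ((zpowers b).subgroupOf (Cz b)) = f at hf hk
  have b1 : b ≠ 1 := hb' ▸ h.ne5
  have hS := sect5 hc hb b1 hf hk b5 hr
  obtain ⟨π', ρ', hc'⟩ := hS.co
  let φ := f.comp (inclusion l1)
  have hi : Function.Injective φ := (injective_iff_map_eq_one φ).2 fun l e => Subtype.ext (by
    have : Fact (Nat.card (zpowers b)).Prime :=
      ⟨by rw [Nat.card_zpowers, orderOf_eq_prime b5 b1]; norm_num⟩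
    rcases (L.subgroupOf (zpowers b)).eq_bot_or_eq_top_of_prime_card with e1 | e1
    · have e2 := mem_bot.1 (e1.le (show (⟨l, (hk _).1 e⟩ : zpowers b) ∈ _ from l.2))
      exact congrArg (fun u : zpowers b => (u : G)) e2
    · exact absurd (Cz_symm ((hL b).1 (subgroupOf_eq_top.1 e1 (mem_zpowers b))).1) hne)
  have hm : ∀ c : Cz b, ∀ k : ℕ, ∀ e : (b ^ k)⁻¹ * c ∈ L, φ ⟨_, e⟩ = f c := fun c k e => by
    rw [eq_comm, ← mul_inv_eq_one, ← map_inv φ, MonoidHom.comp_apply, ← map_mul, hk]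
    simp
  have hr : Cz (φ ⟨_, lz⟩) ≤ φ.range := fun s hs => by
    obtain ⟨c, rfl⟩ := hf s
    obtain ⟨k, e⟩ := l3 c (mem_Cz.2 (congrArg Subtype.val (sect_cent hc.lx.sq (by decide) (Cz_symm hb)
      b5 hk c (mem_Cz.1 hs)))) c.2
    exact ⟨_, hm c k e⟩
  have hcm : ∀ P ≤ Cz (φ ⟨_, lz⟩), Nat.card (P.comap φ) = Nat.card P := fun P hP => by
    rw [← card_map_of_injective hi, map_comap_eq_self (hP.trans hr)]
  have fus : ∃ g : L, g * ⟨_, lz⟩ * g⁻¹ ≠ ⟨_, lz⟩ ∧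
      g * ⟨_, lz⟩ * g⁻¹ * ⟨_, lz⟩ = ⟨_, lz⟩ * (g * ⟨_, lz⟩ * g⁻¹) :=
    ⟨⟨_, lg⟩, fun e => q2 (r8.symm.trans (congrArg Subtype.val e)),
      Subtype.ext (mem_Cz.1 (r8 ▸ hc.le q0 :))⟩
  have iL := jj ⟨lx_comap φ hi hr hc'.lx, (hcm _ hc'.le).trans hS.card.1, by
    refine Eq.trans ?_ ((hcm _ le_rfl).trans hS.card.2)
    exact congrArg (fun P : Subgroup L => Nat.card P) (Subgroup.ext fun a => by
      rw [mem_comap, mem_Cz, mem_Cz, ← map_mul, ← map_mul, hi.eq_iff]), fus⟩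
    (hG ▸ card_subgroup_dvd_card L)
  have iS := jj ⟨hc'.lx, hS.card.1, hS.card.2,
    let ⟨g, g1, g2⟩ := hc'.fus; ⟨g, g2, hc'.lx.cen _ g1⟩⟩ hSG
  have hs : Function.Surjective φ := ((Nat.bijective_iff_injective_and_card φ).2
    ⟨hi, by rw [H88.JJ.card_of_iso2 iL, H88.JJ.card_of_iso2 iS]⟩).2
  have l4 : ⁅Cz b, Cz b⁆ ≤ L := by
    have e : ∀ c ∈ Cz b, ∃ l ∈ L, ∃ u ∈ zpowers b, l * u = c := fun c hc => by
      obtain ⟨l, e⟩ := hs (f ⟨c, hc⟩)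
      exact ⟨l, l.2, _, (hk ((inclusion l1 l)⁻¹ * ⟨c, hc⟩)).1 (by
        rw [map_mul, map_inv, ← e]; exact inv_mul_cancel _), mul_inv_cancel_left _ _⟩
    refine commutator_le.2 fun c h1 d h2 => ?_
    obtain ⟨l, a1, u, a2, rfl⟩ := e c h1
    obtain ⟨m, a3, w, a4, rfl⟩ := e d h2
    rw [commutatorElement_def, mul_assoc l u, zpowers_comm h2 a2, mul_inv_rev l, mul_inv_rev m,
      show l * (m * w * u) * (u⁻¹ * l⁻¹) * (w⁻¹ * m⁻¹) = l * m * (w * l⁻¹) * w⁻¹ * m⁻¹ by group,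
      zpowers_comm (inv_mem (l1 a1)) a4]
    simpa [mul_assoc] using mul_mem (mul_mem (mul_mem a1 a3) (inv_mem a1)) (inv_mem a3)
  have sL : IsSimpleGroup L := let ⟨e⟩ := iL; have := H57.J2.simple_J2; e.isSimpleGroup
  have l5 : H44.Eof (Cz b) = L := le_antisymm
    (H44.Eof_le_iff.2 fun K hK => hK.perfect.ge.trans ((commutator_mono hK.le hK.le).trans l4))
    (H44.Comp.le_Eof ⟨.of_le_normalizer l1 (le_normalizer_iff_commutator_le_left.2
      ((commutator_mono l1 le_rfl).trans l4)), H44.qs_iff.2 (qs_of_ext (f := .id L)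
        (fun _ => let ⟨g, g1, _⟩ := fus; g1 (by rw [mul_comm' g, mul_inv_cancel_right]))
        Function.surjective_id (by simp) (by simp))⟩)
  refine ⟨let ⟨e⟩ := iL; ⟨((equivMapOfInjective _ _ (subtype_injective _)).trans
    (MulEquiv.subgroupCongr l5)).trans e⟩, ?_⟩
  rw [show (layer (Cz b)).map (Cz b).subtype = L from l5]
  obtain ⟨ψ, hψ⟩ := H28.exists_hom_alt5 r1 r2 r3 r4 r5 r6
  have k1 : ψ.range ≤ centralizer (L : Set G) := by
    rw [hψ, closure_le]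
    rintro _ (rfl | rfl | rfl) g hg
    exacts [(mem_Cz.1 ((hL g).1 hg).1).symm, (mem_Cz.1 ((hL g).1 hg).2.1).symm,
      (mem_Cz.1 ((hL g).1 hg).2.2).symm]
  obtain ⟨a, ha⟩ : E 1 ∈ ψ.range := hψ ▸ subset_closure (Or.inl rfl)
  have k2 := H88.JJ.inj_of_simple inferInstance ψ (ha ▸ h.ne1)
  have k3 : ∀ d ∈ centralizer (L : Set G), ∀ l ∈ L, d ∈ Cz l := fun d hd l hl => mem_Cz.2 (hd l hl).symm
  let θ := hc.hom.comp (inclusion fun d hd => k3 d hd _ lz)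
  have k4 : Function.Injective θ := (injective_iff_map_eq_one θ).2 fun d e => Subtype.ext (by
    have h1 := (hc.ρ_eq_one (k3 _ d.2 _ lz)).1 e
    have h2 := k3 _ d.2 _ lg
    have h3 : (d : G) ∈ Oz (E 4) := by
      rw [← r8, Oz_conj, mem_cjs, show (E 10)⁻¹ * d * E 10 = d by rw [mul_assoc, mem_Cz.1 h2]; simp]
      exact h1
    have iv : Iv (E 0) (E 4) := ⟨q0, by rw [← r8]; simpa using hc.lx.ne, q2, by
      rw [← r8, conj_mul, hc.lx.sq]; simp⟩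
    have h4 := k3 _ d.2 _ ((hL _).2 (h.qK 1))
    rcases ((ex_of_lx hc.lx).mem_four q0).1 (hc.inter iv gd8.nd gd8.hd h1 h3) with e | e | e | e
    · exact e
    · exact absurd (r8.symm.trans (conj_eq_of_Cz (Cz_symm (e ▸ h2)))) q2
    · exact absurd (e ▸ h4) q1
    · exact absurd ((Subgroup.mul_mem_cancel_left _ (Cz_symm (hc.le (h.oz 1)))).1 (e ▸ h4)) q1)
  obtain ⟨B, hB, k5⟩ := card_fix
  have := finite_OG (Q := qPlus (ZMod 2) 4)
  have k6 := two_mul_le (A := θ.range) (B := B) (x := refl _ (t5 0 + t5 1)) (by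
    rintro _ ⟨d, rfl⟩
    exact (hB _).2 (fix_j hc.toCo0 hb b5 st (k3 _ d.2 _ lz) fun a a1 a2 => k3 _ d.2 _ (l2 a a1 a2)))
    ((hB _).2 fun v => ap_refl_of_perp (by rw [polar_add_right, sd5.jt, sd5.jt, add_zero])) (by
    rintro ⟨d, e⟩
    exact refl_not_mem gd8.nd gd8.hd gd8.hi (v := t5 0 + t5 1) (by
      rw [Q_add, sd5.q, sd5.q, sd5.b 0 (by decide) 1 (by decide) (by decide)]; decide)
      (e ▸ (hc.mem _ (k3 _ d.2 _ lz) : θ d ∈ _)))
  rw [← Nat.card_congr (MonoidHom.ofInjective k4).toEquiv] at k6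
  rw [← eq_of_le_of_card_ge k1 (by
    rw [← Nat.card_congr (MonoidHom.ofInjective k2).toEquiv, nat_card_alternatingGroup]
    simp only [Nat.card_eq_fintype_card, Fintype.card_fin, Nat.factorial]
    omega)]
  exact ⟨(MonoidHom.ofInjective k2).symm⟩

/-- Let G be a finite group of Conway type (involution z with generalized Fitting subgroup Q of its centralizer C extraspecial of order 2^9, C/Q the commutator subgroup of the isometry group of the hyperbolic quadratic form in dimension 8 over the field with two elements, z not weakly closed in Q), and let B be a subgroup of C of order 5 such that the centralizer of B in Q is extraspecial of order 32 containing no elementary abelian subgroup of order 8 (the quaternion-times-dihedral type). Then the layer L of the centralizer of B in G is isomorphic to the Hall–Janko group and the centralizer of L is isomorphic to the alternating group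 of degree 5. -/
theorem result {G : Type*} [Group G] [Finite G] (z : G) (hz : orderOf z = 2) (Q : Subgroup (Subgroup.centralizer ({z} : Set G))) [Q.Normal] (hF : Cfsg.generalizedFittingSubgroup (Subgroup.centralizer ({z} : Set G)) = Q) (hQ : Cfsg.IsExtraspecial 2 Q) (hcard : Nat.card Q = 2 ^ 9) (e : (Subgroup.centralizer ({z} : Set G)) ⧸ Q ≃* Cfsg.Omega (ZMod 2) (Cfsg.quadFormPlus 4 (ZMod 2))) (hnwc : ∃ g : G, (∃ hq : g * z * g⁻¹ ∈ Subgroup.centralizer ({z} : Set G), (⟨g * z * g⁻¹, hq⟩ : Subgroup.centralizer ({z} : Set G)) ∈ Q) ∧ g * z * g⁻¹ ≠ z) (B : Subgroup (Subgroup.centralizer ({z} : Set G))) (hB : Nat.card B = 5) (hCQ : Cfsg.IsExtraspecial 2 ↥(Q ⊓ Subgroup.centralizer (B : Set (Subgroup.centralizer ({z} : Set G))))) (hCQcard : Nat.card ↥(Q ⊓ Subgroup.centralizer (B : Set (Subgroup.centralizer ({z} : Set G)))) = 32) (hminus : ∀ A : Subgroup (Subgroup.centralizer ({z} : Set G)),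 A ≤ Q ⊓ Subgroup.centralizer (B : Set (Subgroup.centralizer ({z} : Set G))) → Cfsg.IsElementaryAbelian 2 A → Nat.card A ≤ 4) : Cfsg.Spor.IsoJ2 ↥(Cfsg.layer ↥(Subgroup.centralizer ((B.map (Subgroup.subtype (Subgroup.centralizer ({z} : Set G)))) : Set G))) ∧ Nonempty (↥(Subgroup.centralizer (((Cfsg.layer ↥(Subgroup.centralizer ((B.map (Subgroup.subtype (Subgroup.centralizer ({z} : Set G)))) : Set G))).map (Subgroup.subtype _)) : Set G)) ≃* alternatingGroup (Fin 5)) := by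
  have hs : IsExtraspecialCentralizerSetting z Q 4 := ⟨hz, hF, hQ, hcard, hnwc⟩
  have hT : Co1T G z := ⟨Q, ‹_›, hs, ⟨e⟩⟩
  have : Fact (Nat.Prime 5) := ⟨Nat.prime_five⟩
  obtain ⟨π, ρ, hc⟩ := hT.co
  obtain ⟨x, rfl⟩ := B.isCyclic_iff_exists_zpowers_eq_top.1 (isCyclic_of_prime_card hB)
  rw [Nat.card_zpowers, ← orderOf_coe] at hB
  have h2 := co_mv_cent hc.toCo0 x.2 (M := Oz z ⊓ Cz x) inf_le_left ⟨hc.lx.mem, Cz_symm x.2⟩
    inf_le_right (n := 4) (by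
    rw [show 2 ^ (4 + 1) = 32 from rfl, ← hCQcard, ← card_subtype, zpowers_eq_closure,
      centralizer_closure, Oz_eq hs]
    exact congrArg (fun P : Subgroup G => Nat.card P) (Subgroup.ext fun a =>
      ⟨fun ⟨⟨a, a1, e⟩, a2⟩ => ⟨a, ⟨a1, mem_Cz.2 (Subtype.ext (mem_Cz.1 (e ▸ a2 :)))⟩, e⟩,
        fun ⟨a, ⟨a1, a2⟩, e⟩ => ⟨⟨a, a1, e⟩, e ▸ mem_Cz.2 (congrArg Subtype.val (mem_Cz.1 a2))⟩⟩))
  obtain ⟨E, h3, rfl, hG⟩ := exists_DA hT
  obtain ⟨d, h4, h5⟩ := co_conj hc gd8 sd5 ⟨Pi.single (.inr 0) 1, by decide⟩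
    h3.cz5 h3.rels.2.2.2.2.2.2.1 h3.ne5 (h3.mv5 hc.toCo0) x.2 (hB ▸ pow_orderOf_eq_one _)
    (fun e => by rw [e, orderOf_one] at hB; omega) (by simp at h2; omega)
  exact key (h3.conj d) (by rwa [conj_eq_of_Cz h4]) hG (by
    rw [conj_mul, conj_mul, h5, MonoidHom.map_zpowers, zpowers_eq_closure, centralizer_closure]; rfl)

end Cfsg.Agent.S5385
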