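import Cfsg.Statements.S5386
import Cfsg.Agent.H97.Co7A
import Cfsg.Agent.H97.OC
import Cfsg.Agent.H15.CenCo3B
import Cfsg.Agent.S0444
import Cfsg.Agent.S1718
import Cfsg.Agent.H21.Timmesfeld

set_option autoImplicit false
open Cfsg

namespace Cfsg.Agent.S5386

open Subgroup H97 H14 H15 CO1

theorem prod_equiv {A B G : Type*} [Group A] [Group B] [Group G] [Finite G] (hB : IsSimpleGroup B)
    (f : A →* G) (g : B →* G) (hf : Function.Injective f) {s : Set G} (hg : g.range = closure s)
    (hc : ∀ a, ∀ x ∈ s, x ∈ Cz (f a)) {x y : G} (hx : x ∈ s) (hy : y ∈ s) (e : x ∉ Cz y)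
    {H : Subgroup G} (h1 : ∀ a, f a ∈ H) (h2 : s ⊆ H)
    (hH : Nat.card H < 2 * (Nat.card A * Nat.card B)) : Nonempty (H ≃* A × B) := by
  have comm : ∀ a b, Commute (f a) (g b) := fun a b =>
    (mem_Cz.1 ((closure_le _).2 (hc a) (hg.le ⟨b, rfl⟩))).symm
  obtain ⟨x, rfl⟩ := hg.ge (subset_closure hx)
  obtain ⟨y, rfl⟩ := hg.ge (subset_closure hy)
  have h3 : center B = ⊥ := (hB.eq_bot_or_eq_top_of_normal _ inferInstance).resolve_right fun h =>
    e (mem_Cz.2 (by rw [← map_mul, ← map_mul, mem_center_iff.1 (h.ge (mem_top y)) x]))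
  have h4 : Function.Injective g := g.ker_eq_bot_iff.1
    ((hB.eq_bot_or_eq_top_of_normal _ inferInstance).resolve_right fun h =>
      e ((h.ge (mem_top x) : g x = 1) ▸ one_mem _))
  have h5 := (MonoidHom.noncommCoprod_injective f g comm).2 ⟨hf, h4, disjoint_def.2 (by
    rintro _ ⟨a, rfl⟩ ⟨b, e⟩
    have : b = 1 := mem_bot.1 (h3.le (mem_center_iff.2 fun c => h4 (by
      rw [map_mul, map_mul, e, (comm a c).eq])))
    rw [← e, this, map_one])⟩
  have h6 : (f.noncommCoprod g comm).range ≤ H := by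
    rw [MonoidHom.noncommCoprod_range, hg]
    exact sup_le (by rintro _ ⟨a, rfl⟩; exact h1 a) ((closure_le _).2 h2)
  refine ⟨(MulEquiv.subgroupCongr (le_antisymm (fun a ha => by_contra fun hn => ?_) h6)).trans
    (MonoidHom.ofInjective h5).symm⟩
  have := two_mul_le h6 ha hn
  rw [← Nat.card_congr (MonoidHom.ofInjective h5).toEquiv, Nat.card_prod] at this
  omega

local notation "E" => fun i => prC (elC MB i)

theorem cm {l : List (ℕ × ℕ)} (h : allL (l.map fun p => ([p.1, p.2], [p.2, p.1]))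
    (fun p => eqC (wC MB p.1) (wC MB p.2)) = true) {i k : ℕ} (e : (i, k) ∈ l) : E i ∈ Cz (E k) :=
  mem_Cz.2 (by simpa using rels1 okB h _ (List.mem_map_of_mem e))

theorem ncm {i k : ℕ} (h : eqC (wC MB [i, k]) (wC MB [k, i]) = false) : E i ∉ Cz (E k) := fun e => by
  rw [(rel1 okB).2 (by simpa using mem_Cz.1 e)] at h
  exact Bool.noConfusion h

theorem seven : ∃ V : Subgroup Spor.Co1, Nat.card V = 7 ∧ Nonempty (centralizer (V : Set Spor.Co1) ≃*
    Multiplicative (ZMod 7) × alternatingGroup (Fin 7)) := by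
  have := finite_Co0
  have : Fact (Nat.Prime 7) := ⟨by norm_num⟩
  have h1 : Nat.card (zpowers (E 0)) = 7 := (Nat.card_zpowers _).trans (orderOf_eq_prime
    (by rw [← map_pow, v7, map_one]) fun e => nrels1 okB (l := [([0], [])]) (by decide +kernel) _
      List.mem_cons_self (by simpa using e))
  obtain ⟨φ, hφ⟩ := exists_alt okB 4 1 (by decide +kernel)
  let e : Multiplicative (ZMod 7) ≃* zpowers (E 0) := mulEquivOfPrimeCardEq (p := 7) (by simp) h1
  have h2 : ∀ i : Fin 5, E (1 + i) ∈ Cz (E 0) := fun i => mem_Cz.2 (congrArg prC (mem_Cz.1 (cmB i)))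
  refine ⟨_, h1, ?_⟩
  rw [zpowers_eq_closure, centralizer_closure]
  refine prod_equiv (alternatingGroup.isSimpleGroup (by simp)) ((Subgroup.subtype _).comp e.toMonoidHom) φ
    (Subtype.val_injective.comp e.injective) hφ ?_ ⟨0, rfl⟩ ⟨1, rfl⟩ (ncm (by decide +kernel))
    (fun a => zpowers_le.2 (mem_Cz.2 rfl) (e a).2) (by rintro _ ⟨i, rfl⟩; exact h2 i) ?_
  · rintro a _ ⟨i, rfl⟩
    exact mem_Cz.2 (zpowers_comm (h2 i) (e a).2).symm
  · have h3 := (two_mul_card_Cz (by decide) v7).trans card_cen7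
    rw [nat_card_alternatingGroup]
    rw [Nat.card_congr e.toEquiv, h1]
    simp only [Nat.card_eq_fintype_card (α := Fin 7), Fintype.card_fin, Nat.factorial]
    exact lt_of_mul_lt_mul_left (h3.trans_lt (by norm_num)) (Nat.zero_le 2)

theorem card_cen3 {c : M24} (hc : GE.pk c = m24_3B.X) : Nat.card (Cz (permC c)) ≤ 1088640 := by
  have := finite_Co0
  obtain ⟨b, h1, h2, -, φ, h3, h4⟩ := cenCo3B
  obtain ⟨τ, rfl⟩ := isConj_iff.1 (h2 c (orderOf_of_ordP hc (by norm_num) (by decide +kernel)) (by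
    have := m24_classes.card m24_3B (by simp [m24Cl])
    rw [← hc, GE.perm_pk] at this
    rw [card_centralizer_subtype, this]; decide))
  have h5 := card_centralizer_conj (K := ⊤) (mem_top (permHom τ)) (permHom c)
  rw [top_inf_eq, top_inf_eq, ← map_inv, ← map_mul, ← map_mul] at h5
  have h6 := card_ker_mul_range φ
  rw [MonoidHom.range_eq_top.2 h3, card_top, nat_card_alternatingGroup] at h6
  generalize τ * c * τ⁻¹ = b at *
  have h7 : permC b ^ 3 = 1 := by rw [← permHom_apply, ← map_pow, ← h1, pow_orderOf_eq_one, map_one]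
  have h8 : ∀ n, (negC * permC b) ^ n = negC ^ n * permC b ^ n := Commute.mul_pow (negC_comm _).symm
  have h9 : negC ^ 2 = 1 := (pow_two _).trans negC_sq
  have h10 : Nat.card φ.ker ≤ 6 := by
    rw [← card_subtype]
    refine (card_le_of_le (K := zpowers (negC * permC b)) ?_).trans ?_
    · rintro _ ⟨g, hg, rfl⟩
      refine (sup_le (zpowers_le.2 ⟨(4 : ℕ), ?_⟩) (zpowers_le.2 ⟨(3 : ℕ), ?_⟩) :
        pmCyc b ≤ zpowers (negC * permC b)) ((h4 g).1 hg) <;> simp only [zpow_natCast, h8]
      · rw [pow_succ (permC b), h7, show 4 = 2 * 2 from rfl, pow_mul, h9]; simp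
      · rw [pow_succ negC, h7, h9]; simp
    · rw [Nat.card_zpowers]
      exact orderOf_le_of_pow_eq_one (by decide) (by
        rw [h8, show 6 = 2 * 3 from rfl, pow_mul, pow_mul', h7, h9]; simp)
  refine h5.ge.trans (h6.ge.trans ((Nat.mul_le_mul_right _ h10).trans_eq ?_))
  simp [Nat.factorial]

theorem three : ∃ W : Subgroup Spor.Co1, Nat.card W = 3 ∧ Nonempty (normalizer (W : Set Spor.Co1) ≃*
    Equiv.Perm (Fin 3) × alternatingGroup (Fin 9)) := by
  have := finite_Co0
  have : Fact (Nat.Prime 3) := ⟨Nat.prime_three⟩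
  have h0 := rels1 okB (l := [([6, 6], []), ([7, 7], []), ([6, 7, 6], [7, 6, 7])]) (by decide +kernel)
  simp only [List.forall_mem_cons, List.map, List.prod_cons, List.prod_nil, mul_one, ← mul_assoc] at h0
  obtain ⟨d2, e2, br, -⟩ := h0
  have ne : E 6 ∉ Cz (E 7) := ncm (by decide +kernel)
  have hc := @cm ((List.range 7).map (fun i => (8 + i, 6)) ++ (List.range 7).map fun i => (8 + i, 7))
    (by decide +kernel)
  obtain ⟨φ, hφ⟩ := exists_alt okB 6 8 (by decide +kernel)
  obtain ⟨c, hc'⟩ := exists_rep24 (cl := m24_3B) (by simp [m24Cl])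
  have h1 : elC MB 6 * elC MB 7 = permC c := by
    have := pkC_mono (m := 0) (isCw_bits (by decide +kernel)) c
    rw [signC_congr (hd := isCw_empty) bits_zero, signC_empty, one_mul, hc'] at this
    rw [← pkC_inj, this, pkC_mul, pkC_elC okB, pkC_elC okB]
    decide +kernel
  have h2 := (two_mul_card_Cz (a := permC c) (p := 3) (by decide) (by
    rw [← permHom_apply, ← map_pow, ← orderOf_of_ordP hc' Nat.prime_three (by decide +kernel),
      pow_orderOf_eq_one, map_one])).trans (card_cen3 hc')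
  rw [← h1, map_mul] at h2
  have c6 : ∀ i : Fin 7, E (8 + i) ∈ Cz (E 6) := fun i => hc (by revert i; decide)
  have c7 : ∀ i : Fin 7, E (8 + i) ∈ Cz (E 7) := fun i => hc (by revert i; decide)
  dsimp only at ne c6 c7
  generalize prC (elC MB 6) = d at *
  generalize prC (elC MB 7) = e at *
  have di := inv_eq_of_mul_eq_one_right d2
  have h3 : Nat.card (zpowers (d * e)) = 3 := (Nat.card_zpowers _).trans (orderOf_eq_prime (by
    calc _ = d * e * d * (e * d * e) := by simp only [pow_succ, pow_zero, one_mul, mul_assoc]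
      _ = d * (e * (d * d) * e) * d := by rw [← br]; group
      _ = 1 := by rw [d2, mul_one, e2, mul_one, d2])
    fun h => ne (by rw [eq_inv_of_mul_eq_one_right h, di]; exact mem_Cz.2 rfl))
  have hS : ∀ H : Subgroup Spor.Co1, d ∈ H → e ∈ H → ∀ σ, S0444.phi d e σ ∈ H := fun H h1 h2 σ => by
    unfold S0444.phi
    split_ifs
    exacts [one_mem _, h1, h2, mul_mem h1 h2, mul_mem h2 h1, mul_mem h1 (mul_mem h2 h1)]
  have hn : ∀ g, g * (d * e) * g⁻¹ ∈ zpowers (d * e) → g ∈ normalizer (zpowers (d * e) : Set Spor.Co1) :=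
    fun g hg => mem_normalizer_fintype (by
      rintro _ ⟨k, rfl⟩
      simpa only [← conj_zpow, SetLike.mem_coe] using zpow_mem hg k)
  have ei := inv_eq_of_mul_eq_one_right e2
  refine ⟨_, h3, prod_equiv (alternatingGroup.isSimpleGroup (by simp))
    (MonoidHom.mk' _ (S0444.phi_mul d2 e2 br)) φ ((injective_iff_map_eq_one _).2 fun σ h => ?_) hφ ?_
    ⟨0, rfl⟩ ⟨1, rfl⟩ (ncm (by decide +kernel)) (hS _ (hn d ?_) (hn e ?_)) ?_ ?_⟩
  · by_contra h'
    change S0444.phi d e σ = 1 at h
    unfold S0444.phi at h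
    refine ne (mem_Cz.2 ?_)
    rw [if_neg h'] at h
    split_ifs at h
    · rw [h]; simp
    · rw [h]; simp
    · rw [eq_inv_of_mul_eq_one_left h, ei]
    · rw [eq_inv_of_mul_eq_one_left h, di]
    · rw [eq_mul_inv_of_mul_eq (eq_inv_of_mul_eq_one_right h : e * d = d⁻¹), di, d2]; simp
  · rintro σ _ ⟨i, rfl⟩
    exact Cz_symm (hS _ (Cz_symm (c6 i)) (Cz_symm (c7 i)) σ)
  · rw [← mul_assoc, d2, one_mul, ← inv_mem_iff, mul_inv_rev, inv_inv, ei]; exact mem_zpowers _
  · rw [mul_assoc, mul_inv_cancel_right, ← inv_mem_iff, mul_inv_rev, di, ei]; exact mem_zpowers _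
  · rintro _ ⟨i, rfl⟩
    exact hn _ (by rw [conj_eq_of_Cz (Cz_symm (mul_mem (Cz_symm (c6 i)) (Cz_symm (c7 i))))]; exact mem_zpowers _)
  · have h4 := card_ker_mul_range (zpowers (d * e)).normalizerMonoidHom
    have h5 := card_le_card_group (zpowers (d * e)).normalizerMonoidHom.range
    rw [normalizerMonoidHom_ker, Nat.card_congr (subgroupOfEquivOfLe (centralizer_le_normalizer _)).toEquiv,
      zpowers_eq_closure, centralizer_closure, ← zpowers_eq_closure] at h4
    rw [IsCyclic.card_mulAut, h3] at h5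
    rw [← h4, nat_card_alternatingGroup, Nat.card_perm]
    simp only [Nat.card_eq_fintype_card (α := Fin _), Fintype.card_fin, Nat.factorial]
    exact (Nat.mul_le_mul_left _ h5).trans_lt (by rw [mul_comm]; exact h2.trans_lt (by norm_num))

/-- Let G be a finite group of Conway type (involution z with generalized Fitting subgroup Q of its centralizer C extraspecial of order 2^9, C/Q the commutator subgroup of the isometry group of the hyperbolic quadratic form in dimension 8 over the field with two elements, z not weakly closed in Q). Then G has a subgroup V of order 7 whose centralizer is isomorphic to the direct product of a cyclic group of order 7 and the alternating group of degree 7, and a subgroup W of order 3 whose normalizer is isomorphic to the direct product of the symmetric group of degree 3 and the alternating group of degree 9. -/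
theorem result {G : Type*} [Group G] [Finite G] (z : G) (hz : orderOf z = 2) (Q : Subgroup (Subgroup.centralizer ({z} : Set G))) [Q.Normal] (hF : Cfsg.generalizedFittingSubgroup (Subgroup.centralizer ({z} : Set G)) = Q) (hQ : Cfsg.IsExtraspecial 2 Q) (hcard : Nat.card Q = 2 ^ 9) (e : (Subgroup.centralizer ({z} : Set G)) ⧸ Q ≃* Cfsg.Omega (ZMod 2) (Cfsg.quadFormPlus 4 (ZMod 2))) (hnwc : ∃ g : G, (∃ hq : g * z * g⁻¹ ∈ Subgroup.centralizer ({z} : Set G), (⟨g * z * g⁻¹, hq⟩ : Subgroup.centralizer ({z} : Set G)) ∈ Q) ∧ g * z * g⁻¹ ≠ z) : (∃ V : Subgroup G, Nat.card V = 7 ∧ Nonempty (↥(Subgroup.centralizer (V : Set G)) ≃* Multiplicative (ZMod 7) × alternatingGroup (Fin 7))) ∧ ∃ W : Subgroup G, Nat.card W = 3 ∧ Nonempty (↥(Subgroup.normalizer (W : Set G)) ≃* Equiv.Perm (Fin 3) × alternatingGroup (Fin 9)) := by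
  obtain ⟨f⟩ := S1718.result z hz Q hF hQ hcard e hnwc
  obtain ⟨V, h1, ⟨g⟩⟩ := seven
  obtain ⟨W, h2, ⟨k⟩⟩ := three
  refine ⟨⟨V.map f.symm.toMonoidHom, (card_map_of_injective f.symm.injective).trans h1, ?_⟩,
    W.map f.symm.toMonoidHom, (card_map_of_injective f.symm.injective).trans h2, ?_⟩
  · rw [← H21.map_centralizer_equiv]
    exact ⟨(f.symm.subgroupMap _).symm.trans g⟩
  · rw [← map_equiv_normalizer_eq]
    exact ⟨(f.symm.subgroupMap _).symm.trans k⟩

end Cfsg.Agent.S5386
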