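import Cfsg.Statements.S5395
import Cfsg.Agent.H8.LargeX

set_option autoImplicit false
open Cfsg

namespace Cfsg.Agent.S5395

/-- For a finite extraspecial 2-group E, an automorphism of E that induces the identity on E modulo its centre is inner (so these automorphisms form exactly the inner automorphism group, an elementary abelian 2-group of order |E|/2). -/
theorem result {E : Type*} [Group E] [Finite E] (hE : Cfsg.IsExtraspecial 2 E) (φ : E ≃* E) (hφ : ∀ x : E, φ x * x⁻¹ ∈ Subgroup.center E) : ∃ g : E, ∀ x : E, φ x = g * x * g⁻¹ := by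
  have : Fact (Nat.Prime 2) := ⟨Nat.prime_two⟩
  have hT : Cfsg.IsExtraspecial 2 (⊤ : Subgroup E) :=
    H15.isExtraspecial_congr Subgroup.topEquiv.symm hE
  obtain ⟨z, hz⟩ := H8.exists_center_gen hT
  have hc : Subgroup.centralizer ((⊤ : Subgroup E) : Set E) =
      (Subgroup.center (⊤ : Subgroup E)).map (⊤ : Subgroup E).subtype := by
    ext a
    constructor
    · intro ha
      exact ⟨⟨a, trivial⟩, Subgroup.mem_center_iff.2 fun b => Subtype.ext (ha b trivial), rfl⟩
    · rintro ⟨b, hb, rfl⟩ c _
      exact congrArg Subtype.val (Subgroup.mem_center_iff.1 hb ⟨c, trivial⟩)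
  have h := H8.lx_of_center_eq hT hc (by rw [Subgroup.normalizer_eq_top]; exact le_top) hz
  have h2 : ∀ x, φ x = x ∨ φ x = z * x := fun x => by
    rcases h.large _ (fun a _ => (Subgroup.mem_center_iff.1 (hφ x) a).symm) with e | e
    · left; exact mul_inv_eq_one.1 e
    · right; exact mul_inv_eq_iff_eq_mul.1 e
  have hφz : φ z = z := by
    rcases h2 z with e | e
    · exact e
    · rw [h.sq] at e
      exact absurd (φ.map_eq_one_iff.1 e) h.ne
  by_cases hall : ∀ x, φ x = x
  · exact ⟨1, fun x => by simp [hall x]⟩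
  push Not at hall
  obtain ⟨a, ha⟩ := hall
  have ha' := (h2 a).resolve_left ha
  obtain ⟨b, -, hbM, hba⟩ := h.sep (φ.toMonoidHom.eqLocus (MonoidHom.id E)) le_top hφz a trivial ha
  refine ⟨b, fun c => ?_⟩
  rcases h2 c with e | e
  · rw [e, hbM c e]; group
  · have e2 : φ (a⁻¹ * c) = a⁻¹ * c := by rw [map_mul, map_inv, ha', e]; group
    have := hbM _ e2
    calc φ c = (b * a * b⁻¹) * (a⁻¹ * c) := by rw [e, hba]; group
      _ = (b * a * b⁻¹) * (b * (a⁻¹ * c) * b⁻¹) := by rw [this]; group
      _ = _ := by group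

end Cfsg.Agent.S5395
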