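import Cfsg.Statements.S5427
import Cfsg.Agent.H8.LargeX4

set_option autoImplicit false
open Cfsg

namespace Cfsg.Agent.S5427

/-- Let z be an involution of the finite group G whose centralizer C has generalized Fitting subgroup Q, an extraspecial 2-group of width at least 2 (order 2^(2w+1), w ≥ 2). Let K be a subgroup of G such that the subgroup U generated by the K-conjugates of z is abelian and C is generated by the C-conjugates of U. Suppose that either some K-conjugate of z other than z lies in Q, or some element u of U ∩ Q outside the subgroup generated by z has z in the largest normal 2-subgroup of its centralizer. Then G is simple and Q is a large extraspecial 2-subgroup of G. -/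
theorem result {G : Type*} [Group G] [Finite G] (z : G) (hz : orderOf z = 2) (Q : Subgroup G) (hQC : Q ≤ Subgroup.centralizer ({z} : Set G)) (hF : (Cfsg.generalizedFittingSubgroup ↥(Subgroup.centralizer ({z} : Set G))).map (Subgroup.centralizer ({z} : Set G)).subtype = Q) (hQ : Cfsg.IsExtraspecial 2 ↥Q) (w : ℕ) (hw : 2 ≤ w) (hcard : Nat.card ↥Q = 2 ^ (2 * w + 1)) (K U : Subgroup G) (hU : U = Subgroup.closure {x : G | ∃ k ∈ K, x = k * z * k⁻¹}) (hUab : IsMulCommutative ↥U) (hgen : Subgroup.closure {x : G | ∃ c ∈ Subgroup.centralizer ({z} : Set G), ∃ u ∈ U, x = c * u * c⁻¹} = Subgroup.centralizer ({z} : Set G)) (h3 : (∃ k ∈ K, k * z * k⁻¹ ∈ Q ∧ k * z * k⁻¹ ≠ z) ∨ ∃ u ∈ U ⊓ Q, u ∉ Subgroup.zpowers z ∧ (∃ hz' : z ∈ Subgroup.centralizer ({u} : Set G), (⟨z, hz'⟩ : ↥(Subgroup.centralizer ({u} : Set G))) ∈ Cfsg.pCore 2 ↥(Subgroup.centralizer ({u} : Set G)))) : IsSimpleGroup G ∧ Cfsg.IsLargeExtraspecial Q := by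
  obtain ⟨h, hO⟩ := H8.lx_of_FSof hz hF hQ
  have hnc := H8.ex_not_comm (H15.ex_of_lx h) hQ
  have hUM : U ≤ Subgroup.normalClosure ({z} : Set G) := by
    rw [hU, Subgroup.closure_le]
    rintro _ ⟨k, -, rfl⟩
    exact Subgroup.Normal.conj_mem inferInstance z (Subgroup.subset_normalClosure (Set.mem_singleton z)) k
  have hCM : Subgroup.centralizer ({z} : Set G) ≤ Subgroup.normalClosure ({z} : Set G) := by
    rw [← hgen, Subgroup.closure_le]
    rintro _ ⟨c, -, u, hu, rfl⟩
    exact Subgroup.Normal.conj_mem inferInstance u (hUM hu) c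
  have h2 : ¬ IsMulCommutative (Subgroup.normalClosure ({z} : Set G)) := fun hc => hnc fun a ha b hb =>
    congrArg Subtype.val (hc.1.1 (⟨a, hCM (hQC ha)⟩ : Subgroup.normalClosure ({z} : Set G))
      ⟨b, hCM (hQC hb)⟩)
  have h1 : z ∉ Subgroup.center G := fun hc => h2 (by
    have : Subgroup.normalClosure ({z} : Set G) ≤ Subgroup.center G :=
      Subgroup.normalClosure_le_normal (by rintro _ rfl; exact hc)
    exact ⟨⟨fun a b => Subtype.ext (Subgroup.mem_center_iff.1 (this b.2) a)⟩⟩)
  have hL : Cfsg.IsLargeExtraspecial Q := by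
    refine H8.isLarge_of_lx h hQ ?_
    rcases h3 with ⟨k, -, h4, h5⟩ | ⟨u, hu, h4, h5, h6⟩
    · exact H8.lx_large_of_conj h h4 h5
    · rw [H15.mem_zpowers_two h.sq, not_or] at h4
      refine H8.lx_large_of_inv h hu.2 h4.1 h4.2 ?_ (H44.pCoreOf_isPGroup _) ⟨_, h6, rfl⟩
        fun c hc s hs => H21.conj_mem_of_mem_normalizer
          (H44.le_normalizer_pCoreOf _ (Subgroup.mem_centralizer_singleton_iff.2 hc)) hs
      have hu1 := hu.1
      have key : ∀ x ∈ Subgroup.closure {x : G | ∃ k ∈ K, x = k * z * k⁻¹}, x * x = 1 := by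
        intro x hx
        induction hx using Subgroup.closure_induction with
        | mem x hx => obtain ⟨k, -, rfl⟩ := hx; rw [conj_mul, h.sq]; simp
        | one => simp
        | mul x y hx hy h1 h2 =>
          have : y * x = x * y :=
            congrArg Subtype.val (hUab.1.1 (⟨y, hU ▸ hy⟩ : U) ⟨x, hU ▸ hx⟩)
          rw [mul_assoc, ← mul_assoc y, this, mul_assoc, h2, mul_one, h1]
        | inv x hx h1 => rw [← mul_inv_rev, h1, inv_one]
      exact key u (hU ▸ hu1)
  exact ⟨H8.lx_simple h hL hO h1 h2 hCM, hL⟩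

end Cfsg.Agent.S5427
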