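import Cfsg.Statements.S5428
import Cfsg.Agent.H8.LargeX4

set_option autoImplicit false
open Cfsg

namespace Cfsg.Agent.S5428

theorem ex_exists_conj {G : Type*} [Group G] {R : Subgroup G} {z s : G} (h : H15.EX R z)
    (hs : s ∈ R) (h1 : s ≠ 1) (h2 : s ≠ z) : ∃ q ∈ R, q * s * q⁻¹ = z * s := by
  by_contra hcon
  push Not at hcon
  rcases h.center s hs (fun a ha =>
    (mul_inv_eq_iff_eq_mul.1 ((h.comm a ha s hs).resolve_right (hcon a ha))).symm) with e | e
  exacts [h1 e, h2 e]

/-- Let z be an involution of the finite group G whose centralizer C has generalized Fitting subgroup Q extraspecial (as a 2-group), let A be a subgroup of C of odd order, and let R be the centralizer of A in Q; suppose R has order at least 32, the largest normal subgroup of odd order of the centralizer of the subgroup generated by A and R lies in A, the order of that centralizer is not divisible by 4, and g is an element of G with g z g⁻¹ in R but outside the centre Z of Q. Let M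 be the subgroup generated by A and the centralizer of A (A is normal in it). Then: the centralizer in M of the subgroup generated by R and A, joined with A, equals the subgroup generated by A and Z; the image of R in M/A is a large extraspecial 2-subgroup of M/A; and g z g⁻¹ is conjugate to z inside the subgroup generated by R and the centralizer of A in g Q g⁻¹. -/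
theorem result {G : Type*} [Group G] [Finite G] (z : G) (hz : orderOf z = 2) (Q : Subgroup G) (hQC : Q ≤ Subgroup.centralizer ({z} : Set G)) (hF : (Cfsg.generalizedFittingSubgroup ↥(Subgroup.centralizer ({z} : Set G))).map (Subgroup.centralizer ({z} : Set G)).subtype = Q) (hQ : Cfsg.IsExtraspecial 2 ↥Q) (A : Subgroup G) (hA : A ≤ Subgroup.centralizer ({z} : Set G)) (hAodd : Odd (Nat.card ↥A)) (R : Subgroup G) (hR : R = Q ⊓ Subgroup.centralizer (A : Set G)) (hR32 : 32 ≤ Nat.card ↥R) (hO : (Cfsg.oddCore ↥(Subgroup.centralizer ((A ⊔ R : Subgroup G) : Set G))).map (Subgroup.centralizer ((A ⊔ R : Subgroup G) : Set G)).subtype ≤ A) (h4 : ¬ 4 ∣ Nat.card ↥(Subgroup.centralizer ((A ⊔ R : Subgroup G) : Set G))) (g : G) (hgR : g * z * g⁻¹ ∈ R) (hgZ : g * z * g⁻¹ ∉ ((Subgroup.center ↥Q).map Q.subtype)) (M : Subgroup G) (hM : M = Subgroup.centralizer (A : Set G) ⊔ A) [hn : (A.subgroupOf M).Normal] : (M ⊓ Subgroup.centralizer ((R ⊔ A : Subgroup G) : Set G)) ⊔ A = A ⊔ ((Subgroup.center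 ↥Q).map Q.subtype) ∧ Cfsg.IsLargeExtraspecial ((R.subgroupOf M).map (QuotientGroup.mk' (A.subgroupOf M))) ∧ ∃ x ∈ R ⊔ ((Q).map (MulAut.conj g).toMonoidHom ⊓ Subgroup.centralizer (A : Set G)), x * (g * z * g⁻¹) * x⁻¹ = z := by
  obtain ⟨h, -⟩ := H8.lx_of_FSof hz hF hQ
  rw [H8.ex_center_eq (H15.ex_of_lx h)] at hgZ ⊢
  have hne : g * z * g⁻¹ ≠ z := fun e => hgZ (by rw [e]; exact Subgroup.mem_zpowers z)
  have hRQ : R ≤ Q := hR ▸ inf_le_left
  have hRA : R ≤ Subgroup.centralizer (A : Set G) := hR ▸ inf_le_right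
  have hp : H8.LP Q (Q.map (MulAut.conj g).toMonoidHom) z (g * z * g⁻¹) :=
    H8.lp_of_conj h (hRQ hgR) hne
  generalize Q.map (MulAut.conj g).toMonoidHom = Q' at hp ⊢
  generalize g * z * g⁻¹ = s at hp hgR ⊢
  have hex : H15.EX R z := hR ▸ H8.ex_inf_cent (H15.ex_of_lx h) (hA.trans (H8.lx_cent_le_norm h)) hAodd
  have hex' := H8.ex_inf_cent (H15.ex_of_lx hp.hP) (A := A) (fun a ha => H8.lx_cent_le_norm hp.hP
    (Subgroup.mem_centralizer_singleton_iff.2 (hRA hgR a ha))) hAodd
  obtain ⟨q, hq, hqs⟩ := ex_exists_conj hex hgR hp.hP.ne hp.ne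
  obtain ⟨p, hp', hpz⟩ := ex_exists_conj hex' ⟨hp.zP, hRA hex.mem⟩ h.ne hp.ne.symm
  have hx : p * q * s * (p * q)⁻¹ = z := by
    calc p * q * s * (p * q)⁻¹ = p * (q * s * q⁻¹) * p⁻¹ := by group
      _ = (p * z * p⁻¹) * (p * s * p⁻¹) := by rw [hqs]; group
      _ = z := by
        rw [hpz, hp.hP.cen p hp'.1, mul_inv_cancel_right, hp.comm, mul_assoc, hp.hP.sq, mul_one]
  have hzD : z ∈ Subgroup.centralizer ((A ⊔ R : Subgroup G) : Set G) := by
    rw [H21.centralizer_sup]; exact ⟨hRA hex.mem, hex.cen⟩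
  have hD : Subgroup.centralizer ((A ⊔ R : Subgroup G) : Set G) ≤ A ⊔ Subgroup.zpowers z := by
    set D := Subgroup.centralizer ((A ⊔ R : Subgroup G) : Set G)
    have hc : Nat.card (Subgroup.zpowers (⟨z, hzD⟩ : D)) = 2 := by
      rw [Nat.card_zpowers, ← Subgroup.orderOf_coe, hz]
    have hi : Odd (Subgroup.zpowers (⟨z, hzD⟩ : D)).index := by
      rw [← Nat.not_even_iff_odd]
      rintro ⟨k, hk⟩
      apply h4
      rw [← Subgroup.card_mul_index (Subgroup.zpowers (⟨z, hzD⟩ : D)), hc, hk]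
      exact ⟨k, by ring⟩
    obtain ⟨K, hKn, -, hK, hsup⟩ := H22.exists_normal_complement_of_central
      (Subgroup.zpowers (⟨z, hzD⟩ : D)) ⊤ le_top (fun d _ => by
        rw [H21.mem_centralizer_zpowers]
        exact Subtype.ext (d.2 z (Subgroup.mem_sup_right hex.mem)).symm)
      (by rw [hc, Subgroup.relIndex_top_right]; exact Nat.coprime_two_left.2 hi)
    rw [Subgroup.relIndex_top_right] at hK
    have hKO : K ≤ oddCore D := H22.le_pPrimeCore hKn (by rw [hK]; exact Nat.coprime_two_right.2 hi)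
    have : (⊤ : Subgroup D) ≤ (A ⊔ Subgroup.zpowers z).subgroupOf D := by
      rw [← hsup]
      exact sup_le (Subgroup.zpowers_le.2 (Subgroup.mem_sup_right (Subgroup.mem_zpowers z)))
        fun k hk => Subgroup.mem_sup_left (hO ⟨k, hKO hk, rfl⟩)
    exact fun d hd => this (Subgroup.mem_top (⟨d, hd⟩ : D))
  have hCM : Subgroup.centralizer (A : Set G) ≤ M := hM ▸ le_sup_left
  have hAM : A ≤ M := hM ▸ le_sup_right
  have hRM : R ≤ M := hRA.trans hCM
  refine ⟨le_antisymm (sup_le (inf_le_right.trans (by rw [sup_comm]; exact hD)) le_sup_left)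
    (sup_le le_sup_right (Subgroup.zpowers_le.2 (Subgroup.mem_sup_left
      ⟨hRM hex.mem, by rw [sup_comm]; exact hzD⟩))), ?_, p * q,
    Subgroup.mul_mem _ (Subgroup.mem_sup_right hp') (Subgroup.mem_sup_left hq), hx⟩
  set f := QuotientGroup.mk' (A.subgroupOf M)
  have hf : ∀ a b : M, f a = f b ↔ (a : G)⁻¹ * b ∈ A := by
    intro a b
    simp only [f, QuotientGroup.mk'_apply, QuotientGroup.eq, Subgroup.mem_subgroupOf,
      Subgroup.coe_mul, Subgroup.coe_inv]
  have hAQ : ∀ a ∈ A, a ∈ Q → a = 1 := fun a ha hq =>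
    H8.eq_one_of_mem_two_odd (H8.lx_isPGroup (H15.ex_of_lx h)) hAodd hq ha
  have hrep : ∀ c : M, ∃ c' : M, (c' : G) ∈ Subgroup.centralizer (A : Set G) ∧ f c' = f c := by
    intro c
    obtain ⟨c', hc', a, ha, e⟩ := (H21.mem_sup_of_le_normalizer'
      (Subgroup.centralizer_le_normalizer (A : Set G))).1 (hM.le c.2)
    exact ⟨⟨c', hCM hc'⟩, hc', (hf _ _).2 (by
      show c'⁻¹ * (c : G) ∈ A
      rw [← e]; simpa using ha)⟩
  have key : ∀ c a : M, (a : G) ∈ R → f c * f a = f a * f c → (c : G) * a = a * c := by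
    intro c a ha hc
    have h1 : f a = f (c * a * c⁻¹) := by rw [map_mul, map_mul, hc, map_inv]; group
    have h2 := (hf _ _).1 h1
    have h3 : Commute (a : G) ((a : G)⁻¹ * (c * a * c⁻¹ : M)) := (hRA ha _ h2).symm
    have h4 : ∀ y ∈ Q, y ^ 4 = 1 := fun y hy => by
      have : y ^ 4 = (y * y) * (y * y) := by simp [pow_succ, mul_assoc]
      rw [this]
      rcases h.sqr y hy with e | e <;> rw [e]
      · simp
      · exact h.sq
    have h5 := h3.mul_pow 4
    rw [mul_inv_cancel_left, h4 _ (hRQ ha), one_mul, Subgroup.coe_mul, Subgroup.coe_mul,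
      Subgroup.coe_inv, conj_pow, h4 _ (hRQ ha), mul_one, mul_inv_cancel] at h5
    have h6 := H8.eq_one_of_mem_two_odd (S := Subgroup.zpowers ((a : G)⁻¹ * (c * a * (c : G)⁻¹)))
      (IsPGroup.iff_card.2 (by
        rw [Nat.card_zpowers]
        obtain ⟨k, -, hk⟩ := (Nat.dvd_prime_pow Nat.prime_two (m := 2)).1
          (orderOf_dvd_of_pow_eq_one h5.symm)
        exact ⟨k, hk⟩)) hAodd (Subgroup.mem_zpowers _) h2
    rw [inv_mul_eq_one, eq_mul_inv_iff_mul_eq] at h6
    exact h6.symm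
  refine H8.isLarge_map f (QuotientGroup.mk'_surjective _) hex.mem hgR hRM
    (mul_mem (hCM hp'.2) (hRM hq)) hx h.sq ?_ ?_ hex.cen hex.comm hex.sqr ?_ ?_
  · rw [← map_one f, Ne, eq_comm, hf]
    exact fun e => h.ne (hAQ z (by simpa using e) h.mem)
  · rw [Ne, hf]
    exact fun e => hp.ne (inv_mul_eq_one.1 (hAQ _ e (Q.mul_mem (Q.inv_mem hp.tQ) h.mem)))
  · intro c hc
    obtain ⟨c, hc', e⟩ := hrep c
    rw [← e] at hc ⊢
    have h1 : (c : G) ∈ A ⊔ Subgroup.zpowers z := hD (by
      rw [H21.centralizer_sup]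
      exact ⟨hc', fun a ha => (key c ⟨a, hRM ha⟩ ha (hc _ ha)).symm⟩)
    rw [sup_comm] at h1
    obtain ⟨y, hy, a, ha, e⟩ := (H21.mem_sup_of_le_normalizer' (Subgroup.zpowers_le.2
      (Subgroup.centralizer_le_normalizer (A : Set G) (hRA hex.mem)))).1 h1
    rw [← map_one f, eq_comm, eq_comm (a := f c), hf, hf, ← e]
    rcases (H15.mem_zpowers_two h.sq).1 hy with rfl | rfl
    · left; simpa using ha
    · right; simpa using ha
  · intro c hc a ha
    obtain ⟨c, hc', e⟩ := hrep c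
    rw [← e] at hc ⊢
    have h1 := key c _ hex.mem hc
    refine ⟨c * a * c⁻¹, hR ▸ ⟨h.norm c h1 a (hRQ ha), ?_⟩, by simp⟩
    exact (Subgroup.centralizer (A : Set G)).mul_mem (mul_mem hc' (hRA ha)) (inv_mem hc')

end Cfsg.Agent.S5428
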