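import Cfsg.Statements.S5429
import Cfsg.Agent.H8.LargeX4

set_option autoImplicit false
open Cfsg

namespace Cfsg.Agent.S5429

/-- Let z be an involution of the finite group G with centralizer C whose generalized Fitting subgroup Q is extraspecial of width at least 3 (order 2^(2w+1), w ≥ 3); let g be an element of G with g z g⁻¹ in Q but outside the centre Z of Q, and t an involution lying in both Q and g Q g⁻¹ that is not conjugate to z; write P for the centralizer of t in Q and suppose that the elements of C acting trivially by conjugation on P modulo the subgroup generated by t and z are exactly the elements of Q. Then the image of P in the centralizer of t modulo the subgroup generated by t is a large extraspecial 2-subgroup there, and g z g⁻¹ is conjugate to z inside the subgroup generated by P and the centralizer of t in g Q g⁻¹. -/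
theorem result {G : Type*} [Group G] [Finite G] (z : G) (hz : orderOf z = 2) (Q : Subgroup G) (hQC : Q ≤ Subgroup.centralizer ({z} : Set G)) (hF : (Cfsg.generalizedFittingSubgroup ↥(Subgroup.centralizer ({z} : Set G))).map (Subgroup.centralizer ({z} : Set G)).subtype = Q) (hQ : Cfsg.IsExtraspecial 2 ↥Q) (w : ℕ) (hw : 3 ≤ w) (hcard : Nat.card ↥Q = 2 ^ (2 * w + 1)) (g : G) (hgQ : g * z * g⁻¹ ∈ Q) (hgZ : g * z * g⁻¹ ∉ ((Subgroup.center ↥Q).map Q.subtype)) (t : G) (ht : orderOf t = 2) (htQ : t ∈ Q ⊓ (Q).map (MulAut.conj g).toMonoidHom) (htz : ¬ IsConj z t) (P : Subgroup G) (hP : P = Q ⊓ Subgroup.centralizer ({t} : Set G)) (hCP : ∀ c ∈ Subgroup.centralizer ({z} : Set G), (∀ x ∈ P, ∃ y ∈ Subgroup.closure ({t, z} : Set G), c * x * c⁻¹ = x * y) ↔ c ∈ Q) [hn : ((Subgroup.zpowers t).subgroupOf (Subgroup.centralizer ({t} : Set G))).Normal] : Cfsg.IsLargeExtraspecial ((P.subgroupOf (Subgroup.centralizer ({t} : Set G))).map (QuotientGroup.mk' ((Subgroup.zpowers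 t).subgroupOf (Subgroup.centralizer ({t} : Set G))))) ∧ ∃ x ∈ P ⊔ ((Q).map (MulAut.conj g).toMonoidHom ⊓ Subgroup.centralizer ({t} : Set G)), x * (g * z * g⁻¹) * x⁻¹ = z := by
  obtain ⟨h, -⟩ := H8.lx_of_FSof hz hF hQ
  rw [H8.ex_center_eq (H15.ex_of_lx h)] at hgZ
  have hne : g * z * g⁻¹ ≠ z := fun e => hgZ (by rw [e]; exact Subgroup.mem_zpowers z)
  have hp : H8.LP Q (Q.map (MulAut.conj g).toMonoidHom) z (g * z * g⁻¹) := H8.lp_of_conj h hgQ hne
  have hzs : IsConj z (g * z * g⁻¹) := isConj_iff.2 ⟨g, rfl⟩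
  generalize Q.map (MulAut.conj g).toMonoidHom = Q' at hp htQ ⊢
  generalize g * z * g⁻¹ = s at hp hzs ⊢
  have ht1 := H8.ne_one_of_orderOf_two ht
  have htt := H8.mul_self_of_orderOf_two ht
  have hnc : ∀ {R : Subgroup G} {y : G}, H97.LX R y → t ∈ R → IsConj z y → ∀ x, IsConj z x →
      x ≠ t ∧ x ≠ y * t := by
    intro R y hy hR hzy x hx
    refine ⟨fun e => htz (e ▸ hx), fun e => htz ?_⟩
    obtain ⟨b, -, hb⟩ := hy.exists_conj hR ht1 (fun e => htz (e ▸ hzy))
    exact (e ▸ hx).trans (isConj_iff.2 ⟨b, hb⟩).symm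
  obtain ⟨q, hq, hqt, hqs⟩ := H15.lx_sep hp.hQ htQ.1 hp.tQ hp.hP.ne hp.ne
    (hnc hp.hQ htQ.1 (IsConj.refl z) s hzs).1 (hnc hp.hQ htQ.1 (IsConj.refl z) s hzs).2
  obtain ⟨p, hp', hpt, hpz⟩ := H15.lx_sep hp.hP htQ.2 hp.zP h.ne hp.ne.symm
    (hnc hp.hP htQ.2 hzs z (IsConj.refl z)).1 (hnc hp.hP htQ.2 hzs z (IsConj.refl z)).2
  have hx : p * q * s * (p * q)⁻¹ = z := by
    calc p * q * s * (p * q)⁻¹ = p * (q * s * q⁻¹) * p⁻¹ := by group
      _ = (p * z * p⁻¹) * (p * s * p⁻¹) := by rw [hqs]; group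
      _ = z := by rw [hpz, hp.hP.cen p hp', mul_inv_cancel_right, hp.comm, mul_assoc, hp.hP.sq, mul_one]
  have hqP : q ∈ P := hP ▸ ⟨hq, Subgroup.mem_centralizer_singleton_iff.2 hqt⟩
  refine ⟨?_, p * q, Subgroup.mul_mem _
    (Subgroup.mem_sup_right ⟨hp', Subgroup.mem_centralizer_singleton_iff.2 hpt⟩)
    (Subgroup.mem_sup_left hqP), hx⟩
  have hzP : z ∈ P := hP ▸ ⟨h.mem, Subgroup.mem_centralizer_singleton_iff.2 (h.cen t htQ.1).symm⟩
  have hsP : s ∈ P := hP ▸ ⟨hp.tQ, Subgroup.mem_centralizer_singleton_iff.2 (hp.hP.cen t htQ.2).symm⟩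
  have hPQ : P ≤ Q := hP ▸ inf_le_left
  have hPM : P ≤ Subgroup.centralizer ({t} : Set G) := hP ▸ inf_le_right
  set f := QuotientGroup.mk' ((Subgroup.zpowers t).subgroupOf (Subgroup.centralizer ({t} : Set G)))
  have hf : ∀ a b : Subgroup.centralizer ({t} : Set G), f a = f b ↔ (b : G) = a ∨ (b : G) = a * t := by
    intro a b
    simp only [f, QuotientGroup.mk'_apply, QuotientGroup.eq, Subgroup.mem_subgroupOf,
      H15.mem_zpowers_two htt, Subgroup.coe_mul, Subgroup.coe_inv, inv_mul_eq_iff_eq_mul, mul_one]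
  have hcz : ∀ c : Subgroup.centralizer ({t} : Set G),
      f c * f ⟨z, hPM hzP⟩ = f ⟨z, hPM hzP⟩ * f c → (c : G) * z = z * c := by
    intro c hc
    have : f ⟨z, hPM hzP⟩ = f (c * ⟨z, hPM hzP⟩ * c⁻¹) := by
      rw [map_mul, map_mul, hc, map_inv]; group
    rcases (hf _ _).1 this with e | e
    · exact mul_inv_eq_iff_eq_mul.1 e
    · exact absurd e (hnc hp.hQ htQ.1 (IsConj.refl z) _ (isConj_iff.2 ⟨c, rfl⟩)).2
  refine H8.isLarge_map f (QuotientGroup.mk'_surjective _) hzP hsP hPM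
    (mul_mem (Subgroup.mem_centralizer_singleton_iff.2 hpt) (hPM hqP)) hx h.sq ?_ ?_
    (fun a ha => h.cen a (hPQ ha)) (fun a ha b hb => h.comm a (hPQ ha) b (hPQ hb))
    (fun a ha => h.sqr a (hPQ ha)) ?_ ?_
  · rw [← map_one f, Ne, eq_comm, hf]
    rintro (e | e)
    · exact h.ne e
    · exact htz (by rw [show z = t by simpa using e])
  · rw [Ne, eq_comm, hf]
    rintro (e | e)
    · exact hp.ne e
    · exact (hnc hp.hQ htQ.1 (IsConj.refl z) s hzs).2 e
  · intro c hc
    have h1 := hcz c (hc _ hzP)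
    have h2 : ∀ a ∈ P, c * a * (c : G)⁻¹ = a ∨ c * a * (c : G)⁻¹ = a * t := by
      intro a ha
      have : f ⟨a, hPM ha⟩ = f (c * ⟨a, hPM ha⟩ * c⁻¹) := by
        rw [map_mul, map_mul, hc _ ha, map_inv]; group
      exact (hf _ _).1 this
    have hcQ : (c : G) ∈ Q := (hCP c (Subgroup.mem_centralizer_singleton_iff.2 h1)).1 fun a ha => by
      rcases h2 a ha with e | e
      · exact ⟨1, one_mem _, by simpa using e⟩
      · exact ⟨t, Subgroup.subset_closure (by simp), e⟩
    have h3 : (c : G) = 1 ∨ (c : G) = z ∨ (c : G) = t ∨ (c : G) = z * t := by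
      by_contra hcon
      push Not at hcon
      obtain ⟨b, hb, e1, e2⟩ := H15.lx_sep h htQ.1 hcQ hcon.1 hcon.2.1 hcon.2.2.1 hcon.2.2.2
      have e3 : c * b * (c : G)⁻¹ = b * z := by
        have e4 : b * c = z * c * b := mul_inv_eq_iff_eq_mul.1 e2
        calc c * b * (c : G)⁻¹ = z * (z * c * b) * (c : G)⁻¹ := by
              rw [mul_assoc z c, hp.zz]
          _ = _ := by rw [← e4, h.cen b hb]; group
      rcases h2 b (hP ▸ ⟨hb, Subgroup.mem_centralizer_singleton_iff.2 e1⟩) with e | e <;>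
        rw [e3] at e
      · exact h.ne (by simpa using e)
      · exact htz (by rw [mul_left_cancel e])
    rw [← map_one f, eq_comm, eq_comm (a := f c), hf, hf]
    simp only [Subgroup.coe_one, one_mul]
    tauto
  · intro c hc a ha
    have h1 := hcz c hc
    refine ⟨c * a * c⁻¹, hP ▸ ⟨h.norm c h1 a (hPQ ha), (c * a * c⁻¹).2⟩, by simp⟩

end Cfsg.Agent.S5429
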