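import Cfsg.Statements.S5430
import Cfsg.Agent.H8.LargeX3

set_option autoImplicit false
open Cfsg

namespace Cfsg.Agent.S5430

/-- Let Q be a large extraspecial 2-subgroup of the finite group G (extraspecial; centralizer equal to its centre; normal in the centralizer of its centre; normalizing no non-trivial subgroup of odd order) with centre generated by z, an involution, of width w ≥ 2 (order 2^(2w+1)); let g be an element outside the centralizer H of z with g z g⁻¹ in Q; write V for the subgroup generated by z and g z g⁻¹, X for the subgroup generated by Q and g Q g⁻¹, R for the subgroup generated by the centralizer of z in g Q g⁻¹ and the centralizer of g z g⁻¹ in Q, and E for the intersection of Q and g Q g⁻¹. Then R is the centralizer of V in X and is the largest normal 2-subgroup of X, and X/R is isomorphic to the symmetric group of degree 3; moreover the normalizer of V is the product of X and the centralizer of V in H, X is normal in it,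 and modulo R it is the direct product of X/R and of the centralizer of V in H modulo R. -/
theorem result {G : Type*} [Group G] [Finite G] (Q : Subgroup G) (hQ : Cfsg.IsLargeExtraspecial Q) (z : G) (hz : ((Subgroup.center ↥Q).map Q.subtype) = Subgroup.zpowers z) (hz2 : orderOf z = 2) (w : ℕ) (hw : 2 ≤ w) (hcard : Nat.card ↥Q = 2 ^ (2 * w + 1)) (g : G) (hgH : g ∉ Subgroup.centralizer ({z} : Set G)) (hgQ : g * z * g⁻¹ ∈ Q) (V X R E : Subgroup G) (hV : V = Subgroup.closure ({z, g * z * g⁻¹} : Set G)) (hX : X = Q ⊔ (Q).map (MulAut.conj g).toMonoidHom) (hR : R = ((Q).map (MulAut.conj g).toMonoidHom ⊓ Subgroup.centralizer ({z} : Set G)) ⊔ (Q ⊓ Subgroup.centralizer ({g * z * g⁻¹} : Set G))) (hE : E = Q ⊓ (Q).map (MulAut.conj g).toMonoidHom) : R = X ⊓ Subgroup.centralizer (V : Set G) ∧ R = (Cfsg.pCore 2 ↥X).map X.subtype ∧ (∃ h : (R.subgroupOf X).Normal, Nonempty (↥X ⧸ R.subgroupOf X ≃* Equiv.Perm (Fin 3))) ∧ Subgroup.normalizer (V : Set G) = X ⊔ (Subgroup.centralizer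 ({z} : Set G) ⊓ Subgroup.centralizer (V : Set G)) ∧ (∀ y ∈ Subgroup.normalizer (V : Set G), ∀ x ∈ X, y * x * y⁻¹ ∈ X) ∧ R ≤ Subgroup.centralizer ({z} : Set G) ⊓ Subgroup.centralizer (V : Set G) ∧ (∀ x ∈ X, ∀ c ∈ Subgroup.centralizer ({z} : Set G) ⊓ Subgroup.centralizer (V : Set G), x * c * x⁻¹ * c⁻¹ ∈ R) ∧ X ⊓ (Subgroup.centralizer ({z} : Set G) ⊓ Subgroup.centralizer (V : Set G)) = R := by
  have h := H8.lx_of_center_eq hQ.1 hQ.2.1 hQ.2.2.1 hz
  have hne : g * z * g⁻¹ ≠ z := fun e =>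
    hgH (Subgroup.mem_centralizer_singleton_iff.2 (mul_inv_eq_iff_eq_mul.1 e))
  have hp : H8.LP Q (Q.map (MulAut.conj g).toMonoidHom) z (g * z * g⁻¹) := H8.lp_of_conj h hgQ hne
  subst hV hX hR hE
  generalize Q.map (MulAut.conj g).toMonoidHom = P at hp ⊢
  generalize g * z * g⁻¹ = t at hp ⊢
  have hn : ((H8.lpR Q P z t).subgroupOf (Q ⊔ P)).Normal :=
    (Subgroup.normal_subgroupOf_iff_le_normalizer H8.LP.R_le_X).2 hp.X_le_norm_R
  obtain ⟨⟨e⟩, h2⟩ := hp.quot
  have hCC : Subgroup.centralizer ({z} : Set G) ⊓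
      Subgroup.centralizer ((Subgroup.closure ({z, t} : Set G) : Subgroup G) : Set G) =
      Subgroup.centralizer ((Subgroup.closure ({z, t} : Set G) : Subgroup G) : Set G) :=
    inf_eq_right.2 fun c hc => Subgroup.mem_centralizer_singleton_iff.2 (H8.LP.mem_cent_V.1 hc).1
  rw [hCC]
  refine ⟨h2.symm, le_antisymm (H44.le_pCoreOf H8.LP.R_le_X hp.X_le_norm_R hp.R_isPGroup) ?_,
    ⟨hn, ⟨e⟩⟩, le_antisymm ?_ (sup_le (sup_le hp.Q_le_norm hp.P_le_norm)
      (Subgroup.centralizer_le_normalizer _)), ?_, fun r hr => H8.LP.mem_cent_V.2 (hp.R_cent hr),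
    fun x hx c hc => hp.comm_mem_R hx (H8.LP.mem_cent_V.1 hc).1 (H8.LP.mem_cent_V.1 hc).2, h2⟩
  · rintro _ ⟨y, hy, rfl⟩
    have h3 := H22.map_pCore_le_of_surjective (p := 2)
      (e.toMonoidHom.comp (QuotientGroup.mk' _))
      (e.surjective.comp (QuotientGroup.mk'_surjective _)) ⟨y, hy, rfl⟩
    rw [H8.pCore_two_perm_three, Subgroup.mem_bot] at h3
    have h4 : e (y : _ ⧸ _) = 1 := h3
    rw [e.map_eq_one_iff, QuotientGroup.eq_one_iff] at h4
    exact h4
  · intro n hn
    obtain ⟨x, hx, c, h1, h2, rfl⟩ := hp.norm_V hn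
    exact Subgroup.mul_mem_sup hx (H8.LP.mem_cent_V.2 ⟨h1, h2⟩)
  · intro n hn y hy
    obtain ⟨x, hx, c, h1, h2, rfl⟩ := hp.norm_V hn
    have h3 : c * y * c⁻¹ ∈ Q ⊔ P := by
      have h4 := (Q ⊔ P).mul_mem ((Q ⊔ P).inv_mem (H8.LP.R_le_X (hp.comm_mem_R hy h1 h2))) hy
      have : c * y * c⁻¹ = (y * c * y⁻¹ * c⁻¹)⁻¹ * y := by group
      rwa [this]
    have : x * c * y * (x * c)⁻¹ = x * (c * y * c⁻¹) * x⁻¹ := by group
    rw [this]
    exact (Q ⊔ P).mul_mem ((Q ⊔ P).mul_mem hx h3) ((Q ⊔ P).inv_mem hx)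

end Cfsg.Agent.S5430
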