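import Cfsg.Statements.S5431
import Cfsg.Agent.H8.LargeX3

set_option autoImplicit false
open Cfsg

namespace Cfsg.Agent.S5431

open scoped commutatorElement

/-- Let Q be a large extraspecial 2-subgroup of the finite group G (extraspecial; centralizer equal to its centre; normal in the centralizer of its centre; normalizing no non-trivial subgroup of odd order) with centre generated by z, an involution, of width w ≥ 2 (order 2^(2w+1)); let g be an element outside the centralizer H of z with g z g⁻¹ in Q; write V for the subgroup generated by z and g z g⁻¹, X for the subgroup generated by Q and g Q g⁻¹, R for the subgroup generated by the centralizer of z in g Q g⁻¹ and the centralizer of g z g⁻¹ in Q, and E for the intersection of Q and g Q g⁻¹. Then V is the centre of R, E lies in the second centre of R, R is nilpotent of class at most 3, E and R/E are elementary abelian, R/E is the direct product of the images of the centralizer of g z g⁻¹ in Q and of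 the centralizer of z in g Q g⁻¹ (R is their product and they meet in E), and the commutator subgroup of X and E lies in V. -/
theorem result {G : Type*} [Group G] [Finite G] (Q : Subgroup G) (hQ : Cfsg.IsLargeExtraspecial Q) (z : G) (hz : ((Subgroup.center ↥Q).map Q.subtype) = Subgroup.zpowers z) (hz2 : orderOf z = 2) (w : ℕ) (hw : 2 ≤ w) (hcard : Nat.card ↥Q = 2 ^ (2 * w + 1)) (g : G) (hgH : g ∉ Subgroup.centralizer ({z} : Set G)) (hgQ : g * z * g⁻¹ ∈ Q) (V X R E : Subgroup G) (hV : V = Subgroup.closure ({z, g * z * g⁻¹} : Set G)) (hX : X = Q ⊔ (Q).map (MulAut.conj g).toMonoidHom) (hR : R = ((Q).map (MulAut.conj g).toMonoidHom ⊓ Subgroup.centralizer ({z} : Set G)) ⊔ (Q ⊓ Subgroup.centralizer ({g * z * g⁻¹} : Set G))) (hE : E = Q ⊓ (Q).map (MulAut.conj g).toMonoidHom) : (Subgroup.center ↥R).map R.subtype = V ∧ E ≤ (Subgroup.upperCentralSeries ↥R 2).map R.subtype ∧ Subgroup.upperCentralSeries ↥R 3 = ⊤ ∧ Cfsg.IsElementaryAbelian 2 E ∧ (∀ x ∈ R, ∀ y ∈ R, x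 * y * x⁻¹ * y⁻¹ ∈ E ∧ x ^ 2 ∈ E) ∧ ((Q).map (MulAut.conj g).toMonoidHom ⊓ Subgroup.centralizer ({z} : Set G)) ⊓ (Q ⊓ Subgroup.centralizer ({g * z * g⁻¹} : Set G)) = E ∧ ⁅X, E⁆ ≤ V := by
  have h := H8.lx_of_center_eq hQ.1 hQ.2.1 hQ.2.2.1 hz
  have hne : g * z * g⁻¹ ≠ z := fun e =>
    hgH (Subgroup.mem_centralizer_singleton_iff.2 (mul_inv_eq_iff_eq_mul.1 e))
  have hp : H8.LP Q (Q.map (MulAut.conj g).toMonoidHom) z (g * z * g⁻¹) := H8.lp_of_conj h hgQ hne
  subst hV hX hR hE
  generalize Q.map (MulAut.conj g).toMonoidHom = P at hp ⊢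
  generalize g * z * g⁻¹ = t at hp ⊢
  have hzV : z ∈ Subgroup.closure ({z, t} : Set G) := Subgroup.subset_closure (by simp)
  have htV : t ∈ Subgroup.closure ({z, t} : Set G) := Subgroup.subset_closure (by simp)
  have hVE : Subgroup.closure ({z, t} : Set G) ≤ Q ⊓ P := by
    rw [Subgroup.closure_le]
    rintro _ (rfl | rfl)
    exacts [⟨hp.hQ.mem, hp.zP⟩, ⟨hp.tQ, hp.hP.mem⟩]
  have hE : (P ⊓ Subgroup.centralizer ({z} : Set G)) ⊓ (Q ⊓ Subgroup.centralizer ({t} : Set G)) =
      Q ⊓ P := le_antisymm (fun a ha => ⟨ha.2.1, ha.1.1⟩) fun a ha =>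
    ⟨⟨ha.2, Subgroup.mem_centralizer_singleton_iff.2 (hp.hQ.cen a ha.1)⟩,
      ⟨ha.1, Subgroup.mem_centralizer_singleton_iff.2 (hp.hP.cen a ha.2)⟩⟩
  have hER : Q ⊓ P ≤ H8.lpR Q P z t := by rw [← hE]; exact inf_le_left.trans le_sup_left
  have hZ : (Subgroup.center (H8.lpR Q P z t)).map (H8.lpR Q P z t).subtype =
      Subgroup.closure ({z, t} : Set G) := by
    apply le_antisymm
    · rintro _ ⟨y, hy, rfl⟩
      exact hp.mem_V_of_cent fun a ha =>
        (congrArg Subtype.val (Subgroup.mem_center_iff.1 hy ⟨a, Subgroup.mem_sup_right ha⟩)).symm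
    · intro v hv
      exact ⟨⟨v, hER (hVE hv)⟩, Subgroup.mem_center_iff.2 fun r => Subtype.ext
        (H8.LP.mem_cent_V.2 (hp.R_cent r.2) v hv).symm, rfl⟩
  have hXE : ⁅Q ⊔ P, Q ⊓ P⁆ ≤ Subgroup.closure ({z, t} : Set G) := by
    apply H21.commutator_sup_left_le hp.Q_le_norm hp.P_le_norm
    · rw [Subgroup.commutator_le]
      intro a ha b hb
      rw [commutatorElement_def]
      rcases hp.hQ.comm a ha b hb.1 with e | e <;> rw [e] <;> simp [hzV]
    · rw [Subgroup.commutator_le]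
      intro a ha b hb
      rw [commutatorElement_def]
      rcases hp.hP.comm a ha b hb.2 with e | e <;> rw [e] <;> simp [htV]
  have hE2 : ∀ x : H8.lpR Q P z t, (x : G) ∈ Q ⊓ P →
      x ∈ Subgroup.upperCentralSeries (H8.lpR Q P z t) 2 := fun x hx => by
    rw [Subgroup.mem_upperCentralSeries_succ_iff]
    intro y
    rw [Subgroup.upperCentralSeries_one]
    have h1 := hXE (Subgroup.commutator_mem_commutator (H8.LP.R_le_X y.2) hx)
    rw [← hZ] at h1
    obtain ⟨c, hc, e⟩ := h1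
    have : ⁅x, y⁆ = c⁻¹ := by
      rw [← commutatorElement_inv, inv_inj]; exact Subtype.ext e.symm
    rw [this]; exact inv_mem hc
  have hRn : H8.lpR Q P z t ≤ Subgroup.normalizer ((Q ⊓ P : Subgroup G) : Set G) := fun r hr =>
    H4.mem_normalizer_of_conj_mem fun a ha =>
      ⟨hp.hQ.norm r (hp.R_cent hr).1 a ha.1, hp.hP.norm r (hp.R_cent hr).2 a ha.2⟩
  have hAB : ∀ a ∈ Q ⊓ Subgroup.centralizer ({t} : Set G),
      ∀ b ∈ P ⊓ Subgroup.centralizer ({z} : Set G), a * b * a⁻¹ * b⁻¹ ∈ Q ⊓ P := fun a ha b hb => by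
    have h1 := hp.hQ.norm b (Subgroup.mem_centralizer_singleton_iff.1 hb.2) _ (Q.inv_mem ha.1)
    have h2 := hp.hP.norm a (Subgroup.mem_centralizer_singleton_iff.1 ha.2) _ hb.1
    exact ⟨by simpa [mul_assoc] using Q.mul_mem ha.1 h1, P.mul_mem h2 (P.inv_mem hb.1)⟩
  have hRR : ⁅H8.lpR Q P z t, H8.lpR Q P z t⁆ ≤ Q ⊓ P := by
    apply H21.commutator_sup_left_le (le_sup_left.trans hRn) (le_sup_right.trans hRn) <;>
      apply H21.commutator_sup_right_le (le_sup_left.trans hRn) (le_sup_right.trans hRn) <;>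
      rw [Subgroup.commutator_le] <;> intro a ha b hb
    · rw [commutatorElement_def]
      rcases hp.hP.comm a ha.1 b hb.1 with e | e <;> rw [e] <;> simp [hVE htV]
    · rw [← commutatorElement_inv]
      exact inv_mem (hAB b hb a ha)
    · exact hAB a ha b hb
    · rw [commutatorElement_def]
      rcases hp.hQ.comm a ha.1 b hb.1 with e | e <;> rw [e] <;> simp [hVE hzV]
  refine ⟨hZ, fun x hx => ⟨⟨x, hER hx⟩, hE2 _ hx, rfl⟩, ?_, ⟨⟨⟨fun a b => Subtype.ext ?_⟩⟩,
    fun a ha => ?_⟩, fun x hx y hy => ⟨hRR (Subgroup.commutator_mem_commutator hx hy), ?_⟩, hE, hXE⟩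
  · rw [eq_top_iff]
    intro x _
    rw [Subgroup.mem_upperCentralSeries_succ_iff]
    intro y
    exact hE2 _ (hRR (Subgroup.commutator_mem_commutator x.2 y.2))
  · show (a : G) * b = b * a
    rcases hp.hQ.comm a a.2.1 b b.2.1 with e | e
    · exact mul_inv_eq_iff_eq_mul.1 e
    rcases hp.hP.comm a a.2.2 b b.2.2 with e' | e'
    · exact mul_inv_eq_iff_eq_mul.1 e'
    exact absurd (mul_right_cancel (e'.symm.trans e)) hp.ne
  · rw [pow_two]
    rcases hp.hQ.sqr a ha.1 with e | e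
    · exact e
    rcases hp.hP.sqr a ha.2 with e' | e'
    · exact e'
    exact absurd (e'.symm.trans e) hp.ne
  · obtain ⟨b, hb, a, ha, rfl⟩ := hp.mem_R.1 hx
    have h1 : b * b ∈ Q ⊓ P := by
      rcases hp.hP.sqr b hb.1 with e | e <;> rw [e]
      exacts [one_mem _, hVE htV]
    have h2 : a * a ∈ Q ⊓ P := by
      rcases hp.hQ.sqr a ha.1 with e | e <;> rw [e]
      exacts [one_mem _, hVE hzV]
    have h3 := H21.conj_mem_of_mem_normalizer (hRn (Subgroup.mem_sup_left hb)) (hAB a ha b hb)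
    have : (b * a) ^ 2 = b * (a * b * a⁻¹ * b⁻¹) * b⁻¹ * (b * b) * (a * a) := by
      rw [pow_two]; group
    rw [this]
    exact mul_mem (mul_mem h3 h1) h2

end Cfsg.Agent.S5431
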