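import Cfsg.Statements.S5433
import Cfsg.Agent.H8.LargeX

set_option autoImplicit false
open Cfsg

namespace Cfsg.Agent.S5433

/-- Let Q be a large extraspecial 2-subgroup of the finite group G (extraspecial; centralizer equal to its centre; normal in the centralizer of its centre; normalizing no non-trivial subgroup of odd order), and L a normal subgroup of G containing Q. Then G is the product of L and the normalizer of Q. -/
theorem result {G : Type*} [Group G] [Finite G] (Q : Subgroup G) (hQ : Cfsg.IsLargeExtraspecial Q) (L : Subgroup G) [L.Normal] (hQL : Q ≤ L) : L ⊔ Subgroup.normalizer (Q : Set G) = ⊤ := by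
  obtain ⟨z, hz, h⟩ := H8.exists_lx hQ.1 hQ.2.1 hQ.2.2.1
  rw [eq_top_iff]
  intro g _
  obtain ⟨n, hn, e⟩ := H8.lx_frattini h hQL g
  have : g = n⁻¹ * (n * g) := by group
  rw [this]
  exact Subgroup.mul_mem_sup (L.inv_mem hn)
    (H8.lx_cent_le_norm h (Subgroup.mem_centralizer_singleton_iff.2 e))

end Cfsg.Agent.S5433
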