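import Cfsg.Statements.S5434
import Cfsg.Agent.H8.LargeX2

set_option autoImplicit false
open Cfsg

namespace Cfsg.Agent.S5434

/-- Let Q be a large extraspecial 2-subgroup of the finite group G (extraspecial; centralizer equal to its centre; normal in the centralizer of its centre; normalizing no non-trivial subgroup of odd order), and A a non-trivial subgroup of odd order of the normalizer of Q. Then Q is the central product of the centralizer of A in Q and the commutator subgroup [Q, A] (they generate Q and commute elementwise), [Q, A] is extraspecial, and the centralizer of A in Q is either the centre of Q or extraspecial. -/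
theorem result {G : Type*} [Group G] [Finite G] (Q : Subgroup G) (hQ : Cfsg.IsLargeExtraspecial Q) (A : Subgroup G) (hA : A ≤ Subgroup.normalizer (Q : Set G)) (hAodd : Odd (Nat.card ↥A)) (hA1 : A ≠ ⊥) : (Q ⊓ Subgroup.centralizer (A : Set G)) ⊔ ⁅Q, A⁆ = Q ∧ (∀ x ∈ Q ⊓ Subgroup.centralizer (A : Set G), ∀ y ∈ ⁅Q, A⁆, x * y = y * x) ∧ Cfsg.IsExtraspecial 2 ↥⁅Q, A⁆ ∧ (Q ⊓ Subgroup.centralizer (A : Set G) = ((Subgroup.center ↥Q).map Q.subtype) ∨ Cfsg.IsExtraspecial 2 ↥(Q ⊓ Subgroup.centralizer (A : Set G))) := by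
  obtain ⟨z, hz, h⟩ := H8.exists_lx hQ.1 hQ.2.1 hQ.2.2.1
  have he := H15.ex_of_lx h
  have hne : ⁅Q, A⁆ ≠ ⊥ := by
    intro e
    rw [H21.commutator_eq_bot_iff', H8.lx_cent_eq h] at e
    apply hA1
    rw [eq_bot_iff]
    intro a ha
    exact H8.eq_one_of_mem_two_odd (H8.lx_isPGroup he) hAodd
      ((Subgroup.zpowers_le.2 h.mem) (e ha)) ha
  have h1 := H8.ex_comm he hA hAodd hne
  have h2 := H8.ex_inf_cent he hA hAodd
  refine ⟨by rw [sup_comm]; exact H8.ex_sup he hA hAodd,
    fun x hx y hy => H8.ex_cent_comm he hA hx hy, h1.1.isExtraspecial h1.2, ?_⟩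
  by_cases hx : ∃ x ∈ Q ⊓ Subgroup.centralizer (A : Set G), x ≠ 1 ∧ x ≠ z
  · obtain ⟨x, hx, hx1, hxz⟩ := hx
    exact Or.inr (h2.isExtraspecial (H8.two_lt_card_of_mem h2.mem hx h.ne hx1 hxz))
  · push Not at hx
    left
    rw [hz]
    refine le_antisymm (fun x hx' => (H15.mem_zpowers_two h.sq).2 ?_) (Subgroup.zpowers_le.2 h2.mem)
    by_cases e : x = 1
    · exact Or.inl e
    · exact Or.inr (hx x hx' e)

end Cfsg.Agent.S5434
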