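import Cfsg.Statements.S5435
import Cfsg.Agent.H8.LargeX2
import Cfsg.Agent.H8.InvAbSimple
import Cfsg.Agent.S0111
import Cfsg.Agent.S0215
import Cfsg.Agent.S0206

set_option autoImplicit false
open Cfsg

namespace Cfsg.Agent.S5435

section
open Subgroup H15

variable {G : Type*} [Group G]

structure FR (R : Subgroup G) (z : G) : Prop where
  mem : ∀ x, x ∈ R ↔ x * z = z * x
  ne : z ≠ 1
  sq : z * z = 1
  comm : ∀ a ∈ R, ∀ b ∈ R, a * b * a⁻¹ = b ∨ a * b * a⁻¹ = z * b
  sqr : ∀ a ∈ R, a * a = 1 ∨ a * a = z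
  nea : ∃ c ∈ R, c * c = z

theorem FR.cj {R : Subgroup G} {z : G} (h : FR R z) (g : G) : FR (cjs g R) (g * z * g⁻¹) := by
  have hs : ∀ a : G, ∃ a', a = g * a' * g⁻¹ := fun a => ⟨g⁻¹ * a * g, by group⟩
  refine ⟨fun x => ?_, by simpa using h.ne, by rw [conj_mul, h.sq]; simp, ?_, ?_, ?_⟩
  · obtain ⟨a, rfl⟩ := hs x
    rw [conj_mem_cjs, conj_mul, conj_mul, h.mem]; simp
  · intro a ha b hb
    obtain ⟨a, rfl⟩ := hs a
    obtain ⟨b, rfl⟩ := hs b
    rw [conj_inv, conj_mul, conj_mul, conj_mul]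
    rcases h.comm a (conj_mem_cjs.1 ha) b (conj_mem_cjs.1 hb) with e | e
    · left; rw [e]
    · right; rw [e]
  · intro a ha
    obtain ⟨a, rfl⟩ := hs a
    rw [conj_mul]
    rcases h.sqr a (conj_mem_cjs.1 ha) with e | e
    · left; rw [e]; simp
    · right; rw [e]
  · obtain ⟨c, hc, e⟩ := h.nea
    exact ⟨_, conj_mem_cjs.2 hc, by rw [conj_mul, e]⟩

variable {R R' : Subgroup G} {z t : G}

theorem FR.sq_one (h : FR R z) (h' : FR R' t) (hne : t ≠ z) {a : G} (ha : a ∈ R)
    (hat : a * t = t * a) : a * a = 1 := by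
  rcases h.sqr a ha with e | e
  · exact e
  rcases h'.sqr a ((h'.mem a).2 hat) with e' | e'
  · exact e'
  exact absurd (e'.symm.trans e) hne

theorem FR.exists_move (h : FR R z) (h' : FR R' t) (hne : t ≠ z) (ht : t ∈ R) :
    ∃ r ∈ R, r * t * r⁻¹ = z * t := by
  obtain ⟨c, hc, e⟩ := h.nea
  refine ⟨c, hc, (h.comm c hc t ht).resolve_left fun e' => h.ne ?_⟩
  rw [← e]; exact h.sq_one h' hne hc (mul_inv_eq_iff_eq_mul.1 e')

theorem FR.decomp (h : FR R z) (h' : FR R' t) (hne : t ≠ z) (ht : t ∈ R) {b : G} (hb : b ∈ R)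
    (hbt : b * t * b⁻¹ = z * t) {x : G} (hx : x ∈ R) : ∃ y ∈ R, (∀ a ∈ R, a * y = y * a) ∧
      (x = y ∨ x = t * y ∨ x = b * y ∨ x = b * t * y) := by
  have h1 : ∀ x ∈ R, x * t = t * x ∨ b⁻¹ * x * t = t * (b⁻¹ * x) := by
    intro x hx
    rcases h.comm x hx t ht with e | e
    · exact Or.inl (mul_inv_eq_iff_eq_mul.1 e)
    · right
      rw [← hbt] at e
      calc b⁻¹ * x * t = b⁻¹ * (x * t * x⁻¹) * x := by group
        _ = _ := by rw [e]; group
  have h2 : ∀ a ∈ R, a * t = t * a → ∀ a' ∈ R, a' * t = t * a' → a * a' = a' * a := by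
    intro a ha hat a' ha' hat'
    have e1 := h.sq_one h' hne ha hat
    have e2 := h.sq_one h' hne ha' hat'
    have e3 := h.sq_one h' hne (R.mul_mem ha ha') (by rw [mul_assoc, hat', ← mul_assoc, hat, mul_assoc])
    rw [← inv_eq_of_mul_eq_one_right e3, mul_inv_rev, inv_eq_of_mul_eq_one_right e1,
      inv_eq_of_mul_eq_one_right e2]
  have h3 : ∀ a ∈ R, a * t = t * a → b * a = a * b → ∀ x ∈ R, x * a = a * x := by
    intro a ha hat hba x hx
    rcases h1 x hx with e | e
    · exact h2 x hx e a ha hat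
    · have := h2 _ (R.mul_mem (R.inv_mem hb) hx) e a ha hat
      calc x * a = b * (b⁻¹ * x * a) := by group
        _ = (b * a) * b⁻¹ * x := by rw [this]; group
        _ = _ := by rw [hba]; group
  have h4 : ∀ a ∈ R, a * t = t * a → ∃ y ∈ R, (∀ a ∈ R, a * y = y * a) ∧ (a = y ∨ a = t * y) := by
    intro a ha hat
    rcases h.comm b hb a ha with e | e
    · exact ⟨a, ha, h3 a ha hat (mul_inv_eq_iff_eq_mul.1 e), Or.inl rfl⟩
    · refine ⟨t * a, R.mul_mem ht ha, h3 _ (R.mul_mem ht ha) (by rw [mul_assoc, hat]) ?_,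
        Or.inr (by rw [← mul_assoc, h'.sq, one_mul])⟩
      apply mul_inv_eq_iff_eq_mul.1
      calc b * (t * a) * b⁻¹ = (b * t * b⁻¹) * (b * a * b⁻¹) := by group
        _ = z * (t * z) * a := by rw [hbt, e]; group
        _ = _ := by rw [(h.mem t).1 ht, ← mul_assoc, h.sq, one_mul]
  rcases h1 x hx with e | e
  · obtain ⟨y, hy, hc, e'⟩ := h4 x hx e
    exact ⟨y, hy, hc, by tauto⟩
  · obtain ⟨y, hy, hc, e' | e'⟩ := h4 _ (R.mul_mem (R.inv_mem hb) hx) e
    · exact ⟨y, hy, hc, Or.inr (Or.inr (Or.inl (by rw [← e']; group)))⟩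
    · exact ⟨y, hy, hc, Or.inr (Or.inr (Or.inr (by rw [mul_assoc, ← e']; group)))⟩

theorem FR.fuse (h : FR R z) (h' : FR R' t) (hne : t ≠ z) (ht : t ∈ R) {y : G}
    (hc : ∀ a ∈ R, a * y = y * a) : IsConj y (t * y) ∨ IsConj (z * y) (t * y) := by
  have htz := (h.mem t).1 ht
  obtain ⟨r, hr, e⟩ := h.exists_move h' hne ht
  obtain ⟨r', hr', e'⟩ := h'.exists_move h hne.symm ((h'.mem z).2 htz.symm)
  rcases h'.comm r' hr' y ((h'.mem y).2 (hc t ht).symm) with e1 | e1
  · right
    refine (isConj_iff.2 ⟨r', ?_⟩ : IsConj (z * y) (z * t * y)).trans (isConj_iff.2 ⟨r, ?_⟩).symm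
    · rw [← conj_mul, e', e1, htz]
    · rw [← conj_mul, e, hc r hr, mul_inv_cancel_right]
  · exact Or.inl (isConj_iff.2 ⟨r', e1⟩)

theorem no_index_two [Finite G] [IsSimpleGroup G] (hL : ¬ IsMulCommutative G) (M : Subgroup G)
    (hM : M.Normal) : M.index ≠ 2 := by
  intro h
  rcases hM.eq_bot_or_eq_top with rfl | rfl
  · rw [index_bot] at h
    have : Fact (Nat.Prime 2) := ⟨Nat.prime_two⟩
    exact hL (isCyclic_of_prime_card h).isMulCommutative
  · simp at h

end

/-- Let L be a finite non-abelian simple group with an involution z whose centralizer R is a Sylow 2-subgroup of L whose Frattini subgroup is the subgroup generated by z. Then R is dihedral of order 8. -/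
theorem result {L : Type*} [Group L] [Finite L] [IsSimpleGroup L] (hL : ¬ IsMulCommutative L) (z : L) (hz : orderOf z = 2) (R : Sylow 2 L) (hR : (R : Subgroup L) = Subgroup.centralizer ({z} : Set L)) (hΦ : (frattini ↥(R : Subgroup L)).map (R : Subgroup L).subtype = Subgroup.zpowers z) : Nonempty (↥(R : Subgroup L) ≃* DihedralGroup 4) := by
  have : Fact (Nat.Prime 2) := ⟨Nat.prime_two⟩
  have hzz := H8.mul_self_of_orderOf_two hz
  have hz1 := H8.ne_one_of_orderOf_two hz
  have h : FR (R : Subgroup L) z := by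
    have h1 := (H3.map_frattini_le_iff R.isPGroup').1 hΦ.le
    refine ⟨fun x => by rw [hR, Subgroup.mem_centralizer_singleton_iff], hz1, hzz,
      fun a ha b hb => ?_, fun a ha => ?_, ?_⟩
    · rcases (H15.mem_zpowers_two hzz).1 (h1.1 (Subgroup.commutator_mem_commutator ha hb)) with e | e
      · left; exact mul_inv_eq_one.1 e
      · right; exact mul_inv_eq_iff_eq_mul.1 e
    · rw [← pow_two]; exact (H15.mem_zpowers_two hzz).1 (h1.2 a ha)
    · by_contra hcon
      push Not at hcon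
      have h2 : ∀ a ∈ (R : Subgroup L), a * a = 1 := fun a ha =>
        ((H15.mem_zpowers_two hzz).1 (pow_two a ▸ h1.2 a ha)).resolve_right (hcon a ha)
      have h3 : (frattini ↥(R : Subgroup L)).map (R : Subgroup L).subtype ≤ ⊥ := by
        refine (H3.map_frattini_le_iff R.isPGroup').2 ⟨?_, fun a ha => by rw [pow_two, h2 a ha]; rfl⟩
        rw [Subgroup.commutator_le]
        intro a ha b hb
        show a * b * a⁻¹ * b⁻¹ = 1
        rw [inv_eq_of_mul_eq_one_right (h2 a ha), inv_eq_of_mul_eq_one_right (h2 b hb), mul_assoc]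
        exact h2 _ (mul_mem ha hb)
      rw [hΦ] at h3
      exact hz1 (h3 (Subgroup.mem_zpowers z))
  have hzR : z ∈ (R : Subgroup L) := (h.mem z).2 rfl
  have hfus : ∀ y y' : L, (∀ a ∈ (R : Subgroup L), a * y = y * a) →
      (∀ a ∈ (R : Subgroup L), a * y' = y' * a) → IsConj y y' → y = y' := by
    intro y y' hy hy' hc
    obtain ⟨g, rfl⟩ := isConj_iff.1 hc
    obtain ⟨n, hn, e⟩ := R.conj_eq_normalizer_conj_of_mem_centralizer y g⁻¹ hy (by rwa [inv_inv])
    rw [inv_inv] at e
    obtain ⟨c, hc, e'⟩ := h.nea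
    have hnR : n ∈ (R : Subgroup L) := by
      rcases h.sqr _ (H21.conj_mem_of_mem_normalizer hn hc) with e1 | e1 <;> rw [conj_mul, e'] at e1
      · exact absurd (by simpa using e1) hz1
      · exact (h.mem n).2 (mul_inv_eq_iff_eq_mul.1 e1)
    rw [e, mul_assoc, ← hy n hnR]; group
  have hthom : ∀ Q : Subgroup L, Q ≤ R → Q.relIndex R = 2 → ∀ u ∈ (R : Subgroup L), u * u = 1 →
      u ∉ Q → ∃ g, g * u * g⁻¹ ∈ Q := fun Q h1 h2 u hu h3 h4 =>
    (S0111.result R Q h1 h2 u (H8.orderOf_two_of h3 fun e => h4 (e ▸ Q.one_mem)) hu h4).resolve_left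
      fun ⟨M, hM, h5, _⟩ => no_index_two hL M hM h5
  obtain ⟨g, hg, hne⟩ : ∃ g, g * z * g⁻¹ ∈ (R : Subgroup L) ∧ g * z * g⁻¹ ≠ z := by
    by_contra hcon
    push Not at hcon
    obtain ⟨N, hN, h1, h2⟩ := S0215.result R z hz hzR hcon
    rcases hN.eq_bot_or_eq_top with rfl | rfl
    · have : z ∈ Subgroup.center L := Subgroup.mem_center_iff.2 fun g => by
        have := Subgroup.mem_bot.1 (h2 g)
        rw [mul_inv_eq_one, mul_inv_eq_iff_eq_mul] at this
        exact this.symm
      rw [H8.center_eq_bot_of_simple hL] at this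
      exact hz1 this
    · exact (Nat.not_even_iff_odd.2 h1) (H8.even_card_of_involution (Subgroup.mem_top z) hz)
  have h' := h.cj g
  generalize g * z * g⁻¹ = t at h' hg hne
  generalize H15.cjs g (R : Subgroup L) = R' at h'
  have htz := (h.mem t).1 hg
  have hsq : ∀ b y, b * t * b⁻¹ = z * t → (∀ a ∈ (R : Subgroup L), a * y = y * a) →
      y ∈ (R : Subgroup L) → b ∈ (R : Subgroup L) → (b * t * y) * (b * t * y) = z * (b * b) := by
    intro b y hb hy hyR hbR
    have e1 := h.sq_one h' hne hyR (hy t hg).symm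
    calc (b * t * y) * (b * t * y) = b * t * (y * (b * t)) * y := by group
      _ = b * t * ((b * t) * y) * y := by rw [← hy _ (mul_mem hbR hg)]
      _ = (b * t * b⁻¹) * (b * b) * t * (y * y) := by group
      _ = z * (t * (b * b)) * t := by rw [hb, e1]; group
      _ = z * ((b * b) * t) * t := by
          rcases h.sqr b hbR with e | e <;> rw [e]
          · simp
          · rw [htz]
      _ = _ := by rw [mul_assoc, mul_assoc, h'.sq, mul_one]
  obtain ⟨b, hb, hbb, hbt⟩ : ∃ b ∈ (R : Subgroup L), b * b = 1 ∧ b * t * b⁻¹ = z * t := by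
    obtain ⟨r, hr, e⟩ := h.exists_move h' hne hg
    rcases h.sqr r hr with e1 | e1
    · exact ⟨r, hr, e1, e⟩
    · refine ⟨r * t, mul_mem hr hg, ?_, by rw [← e]; group⟩
      have := hsq r 1 e (by simp) (one_mem _) hr
      rwa [mul_one, e1, hzz] at this
  have hbt' : b * t = z * t * b := mul_inv_eq_iff_eq_mul.1 hbt
  have hnc : ∀ y, (∀ a ∈ (R : Subgroup L), a * y = y * a) → b * (t * y) ≠ t * y * b := by
    intro y hy e
    rw [mul_assoc, ← hy b hb, ← mul_assoc, ← mul_assoc, hbt'] at e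
    exact hz1 (by simpa using e)
  have hnc' : ∀ y, (∀ a ∈ (R : Subgroup L), a * y = y * a) → b * (b * t * y) ≠ b * t * y * b := by
    intro y hy e
    apply hnc y hy
    rw [mul_assoc b t, mul_assoc b (t * y)] at e
    exact mul_left_cancel e
  obtain ⟨s, R'', h'', hsne, hs, hst⟩ : ∃ s R'', FR R'' s ∧ s ≠ z ∧ s ∈ (R : Subgroup L) ∧
      s * t * s⁻¹ = z * t := by
    have hi : (Subgroup.centralizer ({b * t} : Set L) ⊓ R).relIndex R = 2 := by
      rw [Subgroup.inf_relIndex_right, ← H82.ncard_conj_under]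
      have : {y : L | ∃ n ∈ (R : Subgroup L), n * (b * t) * n⁻¹ = y} = {b * t, z * (b * t)} := by
        ext y
        constructor
        · rintro ⟨n, hn, rfl⟩
          exact h.comm n hn _ (mul_mem hb hg)
        · rintro (rfl | rfl)
          · exact ⟨1, one_mem _, by simp⟩
          · refine ⟨b, hb, ?_⟩
            rw [mul_assoc b, mul_assoc b, ← mul_assoc b t, hbt, ← mul_assoc, (h.mem b).1 hb, mul_assoc]
      rw [this, Set.ncard_pair (by simpa using hz1)]
    have hbn : b ∉ Subgroup.centralizer ({b * t} : Set L) ⊓ R := fun e =>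
      hnc' 1 (by simp) (by simpa using Subgroup.mem_centralizer_singleton_iff.1 e.1)
    obtain ⟨k, hk⟩ := hthom _ inf_le_right hi b hb hbb hbn
    have hkk : k * b * k⁻¹ * (k * b * k⁻¹) = 1 := by rw [conj_mul, hbb]; simp
    have hkc := Subgroup.mem_centralizer_singleton_iff.1 hk.1
    have hy : ∀ a ∈ (R : Subgroup L), a * (k * b * k⁻¹) = (k * b * k⁻¹) * a := by
      obtain ⟨y, hy, hc, e | e | e | e⟩ := h.decomp h' hne hg hb hbt hk.2 <;> rw [e] at hkc hkk ⊢
      · exact hc
      · exfalso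
        apply hnc y hc
        apply mul_right_cancel (b := t)
        calc b * (t * y) * t = b * t * (y * t) := by group
          _ = b * t * (t * y) := by rw [hc t hg]
          _ = _ := by rw [← hkc]; group
      · exfalso
        apply hnc y hc
        apply mul_left_cancel (a := b)
        calc b * (b * (t * y)) = b * ((b * t) * y) := by group
          _ = b * y * (b * t) := by rw [hc _ (mul_mem hb hg)]; group
          _ = b * t * (b * y) := hkc
          _ = _ := by rw [hc b hb]; group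
      · rw [hsq b y hbt hc hy hb, hbb, mul_one] at hkk
        exact absurd hkk hz1
    have hS : H92.SylIn 2 (R : Subgroup L) (Subgroup.centralizer ({k * b * k⁻¹} : Set L)) :=
      (H92.sylIn_top R).mono (fun a ha => Subgroup.mem_centralizer_singleton_iff.2 (hy a ha)) le_top
    obtain ⟨c, hc, hcR⟩ := hS.exists_conj (Q := Subgroup.zpowers (k * z * k⁻¹))
      (Subgroup.zpowers_le.2 (Subgroup.mem_centralizer_singleton_iff.2 (by
        rw [conj_mul, conj_mul, (h.mem b).1 hb])))
      (IsPGroup.of_card (n := 1) (by rw [Nat.card_zpowers, H8.orderOf_conj', hz]; rfl))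
    have e1 := (h.mem _).1 (hcR _ (Subgroup.mem_zpowers _))
    have e2 := Subgroup.mem_centralizer_singleton_iff.1 hc
    have h'' := h.cj (c * k)⁻¹
    have hsR : (c * k)⁻¹ * z * (c * k)⁻¹⁻¹ ∈ (R : Subgroup L) := (h.mem _).2 (by
      calc (c * k)⁻¹ * z * (c * k)⁻¹⁻¹ * z
          = (c * k)⁻¹ * (z * (c * (k * z * k⁻¹) * c⁻¹)) * (c * k) := by group
        _ = _ := by rw [← e1]; group)
    have hsb : b * ((c * k)⁻¹ * z * (c * k)⁻¹⁻¹) = (c * k)⁻¹ * z * (c * k)⁻¹⁻¹ * b := by
      calc b * ((c * k)⁻¹ * z * (c * k)⁻¹⁻¹)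
          = (c * k)⁻¹ * (c * (k * b * k⁻¹)) * c⁻¹ * z * (c * k) := by group
        _ = (c * k)⁻¹ * ((k * b * k⁻¹) * z) * (c * k) := by rw [e2]; group
        _ = (c * k)⁻¹ * z * ((k * b * k⁻¹) * c) * k := by rw [← hy z hzR]; group
        _ = _ := by rw [← e2]; group
    have hsne : (c * k)⁻¹ * z * (c * k)⁻¹⁻¹ ≠ z := by
      intro e
      have hn : (c * k)⁻¹ ∈ (R : Subgroup L) := (h.mem _).2 (mul_inv_eq_iff_eq_mul.1 e)
      have e3 : b = k * b * k⁻¹ := by
        calc b = (c * k)⁻¹ * (c * (k * b * k⁻¹)) * c⁻¹ * (c * k) := by group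
          _ = ((c * k)⁻¹ * (k * b * k⁻¹)) * (c * k) := by rw [e2]; group
          _ = _ := by rw [hy _ hn]; group
      rw [← e3] at hy
      exact hnc 1 (by simp) (by simpa using (hy t hg).symm)
    refine ⟨_, _, h'', hsne, hsR, ?_⟩
    obtain ⟨r, hr, er⟩ := h.exists_move h'' hsne hsR
    obtain ⟨y, hy', hc', e | e | e | e⟩ := h.decomp h' hne hg hb hbt hsR <;> rw [e] at hsb er ⊢
    · rw [hc' r hr, mul_inv_cancel_right] at er
      exact absurd (by simpa using er) hz1
    · exact absurd hsb (hnc y hc')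
    · rw [mul_assoc b, ← hc' t hg, ← hbt]; group
    · exact absurd hsb (hnc' y hc')
  have htW : t ∈ Subgroup.closure ({s, t} : Set L) := Subgroup.subset_closure (by simp)
  have hsW : s ∈ Subgroup.closure ({s, t} : Set L) := Subgroup.subset_closure (by simp)
  have hst2 : s * t * (s * t) = z := by
    have := hsq s 1 hst (by simp) (one_mem _) hs
    rwa [mul_one, h''.sq, mul_one] at this
  have hzW : z ∈ Subgroup.closure ({s, t} : Set L) :=
    hst2 ▸ mul_mem (mul_mem hsW htW) (mul_mem hsW htW)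
  have hW : Subgroup.closure ({s, t} : Set L) = R := by
    refine le_antisymm ((Subgroup.closure_le _).2 (by rintro _ (rfl | rfl) <;> assumption)) ?_
    intro x hx
    obtain ⟨y, hy, hc, e⟩ := h.decomp h' hne hg hs hst hx
    suffices hyW : y ∈ Subgroup.closure ({s, t} : Set L) by
      rcases e with rfl | rfl | rfl | rfl
      exacts [hyW, mul_mem htW hyW, mul_mem hsW hyW, mul_mem (mul_mem hsW htW) hyW]
    by_contra hyW
    obtain ⟨M, -, -, hM, hWM, hyM⟩ := H3.exists_isCoatom_of_elementary_quotient (p := 2)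
      (N := (Subgroup.closure ({s, t} : Set L)).subgroupOf R) (x := ⟨y, hy⟩) (by
        rw [_root_.commutator_def, Subgroup.commutator_le]
        intro a _ b _
        show (a : L) * b * (a : L)⁻¹ * (b : L)⁻¹ ∈ Subgroup.closure ({s, t} : Set L)
        rcases h.comm a a.2 b b.2 with e | e <;> rw [e] <;> simp [hzW])
      (fun a => by
        show (a : L) ^ 2 ∈ Subgroup.closure ({s, t} : Set L)
        rw [pow_two]
        rcases h.sqr a a.2 with e | e <;> rw [e]
        exacts [one_mem _, hzW]) hyW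
    have hmem : ∀ a (ha : a ∈ (R : Subgroup L)), a ∈ M.map (R : Subgroup L).subtype ↔
        (⟨a, ha⟩ : (R : Subgroup L)) ∈ M := fun a ha =>
      Subgroup.mem_map_iff_mem (f := (R : Subgroup L).subtype) (Subgroup.subtype_injective _)
        (x := ⟨a, ha⟩)
    have hyy := h.sq_one h' hne hy (hc t hg).symm
    obtain ⟨k, hk⟩ := hthom (M.map (R : Subgroup L).subtype) (Subgroup.map_subtype_le _)
      (by rw [Subgroup.relIndex, Subgroup.subgroupOf,
        Subgroup.comap_map_eq_self_of_injective (Subgroup.subtype_injective _)]; exact hM) y hy hyy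
      (by rwa [hmem y hy])
    have hkk : k * y * k⁻¹ * (k * y * k⁻¹) = 1 := by rw [conj_mul, hyy]; simp
    have hcj : IsConj y (k * y * k⁻¹) := isConj_iff.2 ⟨k, rfl⟩
    have hW' : ∀ a ∈ Subgroup.closure ({s, t} : Set L), a ∈ (R : Subgroup L) →
        a ∈ M.map (R : Subgroup L).subtype := fun a ha ha' => (hmem a ha').2 (hWM ha)
    have hfin : ∀ y', (∀ a ∈ (R : Subgroup L), a * y' = y' * a) → IsConj y y' →
        y' ∉ M.map (R : Subgroup L).subtype := fun y' h1 h2 h3 =>
      hyM ((hmem y hy).1 (hfus y y' hc h1 h2 ▸ h3))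
    have hfin2 : ∀ (u : L) (R₀ : Subgroup L), FR R₀ u → u ≠ z → u ∈ (R : Subgroup L) →
        u ∈ Subgroup.closure ({s, t} : Set L) → ∀ y', (∀ a ∈ (R : Subgroup L), a * y' = y' * a) →
        IsConj y (u * y') → u * y' ∉ M.map (R : Subgroup L).subtype := by
      intro u R₀ h0 hu1 hu2 hu3 y' h1 h2 h3
      have h4 : y' ∈ M.map (R : Subgroup L).subtype := by
        simpa using mul_mem (inv_mem (hW' u hu3 hu2)) h3
      rcases h.fuse h0 hu1 hu2 h1 with e | e
      · exact hfin y' h1 (h2.trans e.symm) h4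
      · exact hfin (z * y') (fun a ha => by
          rw [← mul_assoc, (h.mem a).1 ha, mul_assoc, h1 a ha, mul_assoc]) (h2.trans e.symm)
          (mul_mem (hW' z hzW hzR) h4)
    obtain ⟨y', hy', hc', e | e | e | e⟩ :=
      h.decomp h' hne hg hs hst (Subgroup.map_subtype_le _ hk) <;> rw [e] at hk hkk hcj
    · exact hfin y' hc' hcj hk
    · exact hfin2 t R' h' hne hg htW y' hc' hcj hk
    · exact hfin2 s R'' h'' hsne hs hsW y' hc' hcj hk
    · rw [hsq s y' hst hc' hy' hs, h''.sq, mul_one] at hkk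
      exact hz1 hkk
  have ho : orderOf (s * t) = 4 := by
    apply orderOf_eq_prime_pow (p := 2) (n := 1)
    · rw [pow_one, pow_two, hst2]; exact hz1
    · rw [show 2 ^ (1 + 1) = 2 * 2 from rfl, pow_mul, pow_two (s * t), hst2, pow_two, hzz]
  have := S0206.result s t (H8.orderOf_two_of h''.sq h''.ne) (H8.orderOf_two_of h'.sq h'.ne)
    (fun e => by rw [e, h'.sq, orderOf_one] at ho; omega)
  rwa [hW, ho] at this

end Cfsg.Agent.S5435
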