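import Cfsg.Statements.S5436
import Cfsg.Agent.H8.LargeX4

set_option autoImplicit false
open Cfsg

namespace Cfsg.Agent.S5436

/-- Let z be an involution of the finite group G with centralizer H whose generalized Fitting subgroup Q is extraspecial of width at least 2 (order 2^(2w+1), w ≥ 2); suppose some conjugate of z other than z lies in Q, H/Q is a non-abelian simple group, H acts irreducibly by conjugation on Q modulo the subgroup generated by z (the only H-invariant subgroups of Q containing z are that subgroup and Q), and Q is not the subgroup generated by the conjugates of z lying in H. Then G is simple. -/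
theorem result {G : Type*} [Group G] [Finite G] (z : G) (hz : orderOf z = 2) (Q : Subgroup (Subgroup.centralizer ({z} : Set G))) [Q.Normal] (hF : Cfsg.generalizedFittingSubgroup ↥(Subgroup.centralizer ({z} : Set G)) = Q) (hQ : Cfsg.IsExtraspecial 2 ↥Q) (w : ℕ) (hw : 2 ≤ w) (hcard : Nat.card ↥Q = 2 ^ (2 * w + 1)) (hnwc : ∃ g : G, (∃ hq : g * z * g⁻¹ ∈ Subgroup.centralizer ({z} : Set G), (⟨g * z * g⁻¹, hq⟩ : Subgroup.centralizer ({z} : Set G)) ∈ Q) ∧ g * z * g⁻¹ ≠ z) (hsimp : IsSimpleGroup (↥(Subgroup.centralizer ({z} : Set G)) ⧸ Q)) (hna : ¬ IsMulCommutative (↥(Subgroup.centralizer ({z} : Set G)) ⧸ Q)) (hirr : ∀ W : Subgroup (Subgroup.centralizer ({z} : Set G)), W.Normal → W ≤ Q → (W = Q ∨ ∀ x ∈ W, (x : G) ∈ Subgroup.zpowers z)) (hwcl : Subgroup.closure {x : Subgroup.centralizer ({z} : Set G) | IsConj z (x : G)} ≠ Q) : IsSimpleGroup G := by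
  have hQ' : Cfsg.IsExtraspecial 2 (Q.map (Subgroup.centralizer ({z} : Set G)).subtype) :=
    H15.isExtraspecial_congr (Q.equivMapOfInjective _ (Subgroup.subtype_injective _)) hQ
  obtain ⟨h, hO⟩ := H8.lx_of_FSof hz (by rw [← hF]) hQ'
  have hnc := H8.ex_not_comm (H15.ex_of_lx h) hQ'
  obtain ⟨g, ⟨hq, hgQ⟩, hne⟩ := hnwc
  have hL := H8.isLarge_of_lx h hQ' (H8.lx_large_of_conj h (g := g) ⟨_, hgQ, rfl⟩ hne)
  have hnz : g * z * g⁻¹ ∉ Subgroup.zpowers z := by
    rw [H15.mem_zpowers_two h.sq, not_or]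
    exact ⟨by simpa using h.ne, hne⟩
  have hcj : ∀ k : G, k * z * k⁻¹ ∈ Subgroup.normalClosure ({z} : Set G) := fun k =>
    Subgroup.Normal.conj_mem inferInstance z (Subgroup.subset_normalClosure (Set.mem_singleton z)) k
  set W := Subgroup.closure {x : Subgroup.centralizer ({z} : Set G) | IsConj z (x : G)} with hW
  have hWn : W.Normal := by
    refine ⟨fun n hn k => ?_⟩
    have : W ≤ W.comap (MulAut.conj k).toMonoidHom := by
      rw [hW, Subgroup.closure_le]
      intro x hx
      exact Subgroup.subset_closure (hx.trans (isConj_iff.2 ⟨k, rfl⟩))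
    exact this hn
  have hQW : Q ≤ W := by
    rcases hirr (W ⊓ Q) inferInstance inf_le_right with e | e
    · exact inf_eq_right.1 e
    · exact absurd (e ⟨_, hq⟩ ⟨Subgroup.subset_closure (isConj_iff.2 ⟨g, rfl⟩), hgQ⟩) hnz
  have hWt : W = ⊤ := by
    rcases hsimp.eq_bot_or_eq_top_of_normal (W.map (QuotientGroup.mk' Q)) inferInstance with e | e
    · rw [Subgroup.map_eq_bot_iff, QuotientGroup.ker_mk'] at e
      exact absurd (le_antisymm e hQW) hwcl
    · rw [← Subgroup.comap_map_eq_self (f := QuotientGroup.mk' Q) (H := W)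
        (by rwa [QuotientGroup.ker_mk']), e, Subgroup.comap_top]
  have hCM : Subgroup.centralizer ({z} : Set G) ≤ Subgroup.normalClosure ({z} : Set G) := by
    have : W ≤ (Subgroup.normalClosure ({z} : Set G)).subgroupOf _ := by
      rw [hW, Subgroup.closure_le]
      intro x hx
      obtain ⟨k, hk⟩ := isConj_iff.1 hx
      show (x : G) ∈ Subgroup.normalClosure ({z} : Set G)
      rw [← hk]; exact hcj k
    exact fun c hc => this (show (⟨c, hc⟩ : Subgroup.centralizer ({z} : Set G)) ∈ W from
      hWt ▸ Subgroup.mem_top _)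
  refine H8.lx_simple h hL hO (fun hc => hne ?_) (fun hc => hnc fun a ha b hb => ?_) hCM
  · rw [Subgroup.mem_center_iff.1 hc g]; group
  · exact congrArg Subtype.val (hc.1.1
      (⟨a, hCM (Subgroup.map_subtype_le _ ha)⟩ : Subgroup.normalClosure ({z} : Set G))
      ⟨b, hCM (Subgroup.map_subtype_le _ hb)⟩)

end Cfsg.Agent.S5436
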