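import Cfsg.Statements.S5449
import Cfsg.Agent.H22.LF.S1
import Cfsg.Agent.H22.LF.Ex

set_option autoImplicit false
open Cfsg

namespace Cfsg.Agent.S5449

/-- Let G be a finite group of large Fischer type at the involution z: the generalized Fitting subgroup Q of H = C_G(z) is extraspecial of order 2^13, H has normal subgroups Q ≤ H₁ ≤ H₂ with H₁/Q of order 3, H₂/H₁ the projective special unitary group of dimension 4 over the field with nine elements and H₂ of index 2 in H, and some conjugate of z other than z lies in Q. Then Q contains a four-group E, not containing z and containing an involution not conjugate to z in G, whose centralizer in G is quasisimple with quotient by E isomorphic to the projective special unitary group of dimension 6 over the field with four elements. -/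
theorem result {G : Type*} [Group G] [Finite G] (z : G) (Q : Subgroup (Subgroup.centralizer ({z} : Set G))) [Q.Normal] (hF : Cfsg.IsOfLargeFischerTypeAt z Q) : ∃ E : Subgroup G, E ≤ (Q.map (Subgroup.centralizer ({z} : Set G)).subtype) ∧ Cfsg.IsElementaryAbelian 2 E ∧ Nat.card E = 4 ∧ z ∉ E ∧ (∃ t ∈ E, orderOf t = 2 ∧ ¬ IsConj z t) ∧ Cfsg.IsQuasisimple ↥(Subgroup.centralizer (E : Set G)) ∧ ∃ (_ : (E.subgroupOf (Subgroup.centralizer (E : Set G))).Normal) (K : Type) (_ : Field K) (_ : Fintype K), Fintype.card K = 4 ∧ Nonempty (↥(Subgroup.centralizer (E : Set G)) ⧸ E.subgroupOf (Subgroup.centralizer (E : Set G)) ≃* Cfsg.PSU 6 K 2) := by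
  obtain ⟨π, ρ, A, α, M⟩ := H22.LF.exists_LD0 hF
  obtain ⟨ψ, S, -⟩ := M.exists_u6
  have hq := H22.LF.quasi_CE M.ad S
  rw [← H22.LF.cent_EE M.ad] at S hq
  have := S.normal
  refine ⟨H22.LF.EE M.ad, M.EE_le_Q, H15.LF.ea_of_sq fun a ha => M.ad.sqA a (M.ad.sub_le _ ha),
    H22.LF.card_EE _, fun h => ?_, ⟨_, (H22.LF.mem_EE _).2 (Or.inr (Or.inl rfl)),
      orderOf_eq_prime (by rw [pow_two]; exact M.ad.sq (by decide)) (M.ad.ne2 (by decide)),
      M.ad.nc2 (by decide)⟩, hq, this, H29.F4, inferInstance, inferInstance, by decide, S.equiv⟩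
  have k : ∀ a b, a ≠ b → z ≠ α {a, b} := fun a b n e => M.ad.nc2 n (by rw [← e])
  rcases (H22.LF.mem_EE _).1 h with e | e | e | e
  exacts [M.fh.lx.ne e, k _ _ (by decide) e, k _ _ (by decide) e, k _ _ (by decide) e]

end Cfsg.Agent.S5449
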