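import Cfsg.Statements.S5460
import Cfsg.Agent.H22.LF.T2
import Cfsg.Agent.H22.Type23
import Cfsg.Agent.H22.Main23

set_option autoImplicit false
open Cfsg

namespace Cfsg.Agent.S5460

open H14 H95 H96 H22 H22.LF H51.Fi Subgroup

theorem facts22 {Y : Type*} [Group Y] (e : Y ≃* Spor.Fi22) :
    (∃ E : Set Y, IsThreeTranspositionClass E ∧ IsOfTypeM22 _ E) ∧ ∃ d : Y, orderOf d = 2 ∧
      IsQuasisimple (centralizer ({d} : Set Y)) ∧ (∃ (K : Type) (_ : Field K) (_ : Fintype K),
        Fintype.card K = 4 ∧ ∃ _ : ((zpowers d).subgroupOf (centralizer ({d} : Set Y))).Normal,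
          Nonempty (centralizer ({d} : Set Y) ⧸ (zpowers d).subgroupOf (centralizer ({d} : Set Y)) ≃*
            PSU 6 K 2)) ∧ ∃ g, g * d * g⁻¹ ∈ centralizer ({d} : Set Y) ∧ g * d * g⁻¹ ≠ d := by
  have he : e '' (e ⁻¹' D22) = D22 := Set.image_preimage_eq _ e.surjective
  have h1 := class_of_image e he class22
  obtain ⟨d, hd⟩ := e.surjective a22
  have h2 : d ∈ e ⁻¹' D22 := show e d ∈ D22 from hd ▸ a22_mem
  obtain ⟨D6, h6⟩ := lev22
  obtain ⟨p, hp⟩ := (h6.of_equiv h1 e he).step d h2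
  obtain ⟨f⟩ := cent_equiv e d
  have h3 := hp.toSec0
  rw [← zpowers_eq_closure] at h3
  have := h3.normal
  obtain ⟨c, hc⟩ := e.surjective (T22.el 3)
  have h4 := letter_mem_nb22 3 (by decide)
  rw [← hc, ← hd] at h4
  obtain ⟨g, rfl⟩ := exists_conj_of_class h1 h2 (show c ∈ e ⁻¹' D22 from h4.1)
  exact ⟨⟨_, h1, type22_of_equiv e he type22⟩, d, h1.1.1 d h2,
    quasisimple_of_equiv f (by rw [hd, ← closure_nb22]; exact quasisimple_nb22),
    ⟨H29.F4, inferInstance, inferInstance, by decide, this, h3.equiv⟩, g,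
    mem_centralizer_singleton_iff.2 (e.injective (by simpa using h4.2.2.symm.eq)), fun h => h4.2.1 (congrArg e h)⟩

/-- Let X be a finite group with a subgroup G₀ of index 2 that is of large Fischer type at an involution z central in some Sylow 2-subgroup of G₀ (the generalized Fitting subgroup Q of the centralizer C of z in G₀ is extraspecial of order 2^13, C has normal subgroups Q ≤ H₁ ≤ H₂ with H₁/Q of order 3, H₂/H₁ isomorphic to the projective special unitary group of dimension 4 over the field with nine elements and H₂ of index 2 in C, and some G₀-conjugate of z other than z lies in Q), and suppose the generalized Fitting subgroup of the centralizer of z in X is Q as well. Then there is an involution d of X outside G₀ commuting with z, and an involution t of the centralizer Y of d in G₀, such that: the centralizer of t in Y is quasisimple; its quotient by the subgroup generated by t is of type M(22) for some generating conjugacy class of 3-transpositions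 and has an involution whose own centralizer is quasisimple, with quotient by it the projective special unitary group of dimension 6 over the field with four elements, and which is not weakly closed in that centralizer; t is not weakly closed in its centralizer in Y; and the conjugacy class of t in Y is a class of 3-transpositions generating Y with respect to which Y is of type M(23). -/
theorem result {X : Type*} [Group X] [Finite X] (G₀ : Subgroup X) (hidx : G₀.index = 2) (z : ↥G₀) (Q : Subgroup (Subgroup.centralizer ({z} : Set ↥G₀))) [Q.Normal] (hF : Cfsg.IsOfLargeFischerTypeAt z Q) (hcentral : ∃ P : Sylow 2 ↥G₀, z ∈ (P : Subgroup ↥G₀) ∧ ∀ x ∈ (P : Subgroup ↥G₀), Commute x z) (hFX : (Cfsg.generalizedFittingSubgroup ↥(Subgroup.centralizer ({(z : X)} : Set X))).map (Subgroup.subtype _) = ((Q.map (Subgroup.subtype _)).map G₀.subtype)) : ∃ d : X, orderOf d = 2 ∧ d ∉ G₀ ∧ Commute d (z : X) ∧ ∃ t : ↥(G₀ ⊓ Subgroup.centralizer ({d} : Set X)), orderOf t = 2 ∧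 Cfsg.IsQuasisimple ↥(Subgroup.centralizer ({t} : Set ↥(G₀ ⊓ Subgroup.centralizer ({d} : Set X)))) ∧ (∃ (_ : ((Subgroup.zpowers t).subgroupOf (Subgroup.centralizer ({t} : Set ↥(G₀ ⊓ Subgroup.centralizer ({d} : Set X))))).Normal), (∃ E : Set (↥(Subgroup.centralizer ({t} : Set ↥(G₀ ⊓ Subgroup.centralizer ({d} : Set X)))) ⧸ (Subgroup.zpowers t).subgroupOf (Subgroup.centralizer ({t} : Set ↥(G₀ ⊓ Subgroup.centralizer ({d} : Set X))))), Cfsg.IsThreeTranspositionClass E ∧ Cfsg.IsOfTypeM22 _ E) ∧ ∃ d' : ↥(Subgroup.centralizer ({t} : Set ↥(G₀ ⊓ Subgroup.centralizer ({d} : Set X)))) ⧸ (Subgroup.zpowers t).subgroupOf (Subgroup.centralizer ({t} : Set ↥(G₀ ⊓ Subgroup.centralizer ({d} : Set X)))), orderOf d' = 2 ∧ Cfsg.IsQuasisimple ↥(Subgroup.centralizer ({d'} : Set _)) ∧ (∃ (K : Type) (_ : Field K) (_ : Fintype K), Fintype.card K = 4 ∧ ∃ _ : ((Subgroup.zpowers d').subgroupOf (Subgroup.centralizer ({d'} : Set _))).Normal, Nonempty (↥(Subgroup.centralizer ({d'} : Set _))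 ⧸ (Subgroup.zpowers d').subgroupOf (Subgroup.centralizer ({d'} : Set _)) ≃* Cfsg.PSU 6 K 2)) ∧ ∃ g, g * d' * g⁻¹ ∈ Subgroup.centralizer ({d'} : Set _) ∧ g * d' * g⁻¹ ≠ d') ∧ (∃ g : ↥(G₀ ⊓ Subgroup.centralizer ({d} : Set X)), g * t * g⁻¹ ∈ Subgroup.centralizer ({t} : Set ↥(G₀ ⊓ Subgroup.centralizer ({d} : Set X))) ∧ g * t * g⁻¹ ≠ t) ∧ Cfsg.IsThreeTranspositionClass (conjugatesOf t) ∧ Cfsg.IsOfTypeM23 ↥(G₀ ⊓ Subgroup.centralizer ({d} : Set X)) (conjugatesOf t) := by
  obtain ⟨π, ρ, A, α, M⟩ := exists_LD0 hF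
  obtain ⟨θ, T⟩ := M.exists_TD
  obtain ⟨ψ, S, -⟩ := M.exists_u6
  have h := M.ad
  obtain ⟨d, d1, d2, d3, d4, d5⟩ := exists_d hidx T h S (M.hX hFX)
  have ht : α {pt 0, pt 1} ∈ Kt (α {pt 0, pt 1}) := T.sec.le (mem_zpowers _)
  let t : ↥(G₀ ⊓ centralizer ({d} : Set X)) :=
    ⟨α {pt 0, pt 1}, (α _).2, mem_centralizer_singleton_iff.2 (d3 _ ht).symm⟩
  let j : ↥(G₀ ⊓ centralizer ({d} : Set X)) →* G₀ := inclusion inf_le_left
  have hj : Function.Injective j := inclusion_injective _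
  have hK : ∀ y, y ∈ centralizer {t} ↔ j y ∈ Kt (α {pt 0, pt 1}) := fun y => by
    rw [mem_centralizer_singleton_iff, ← hj.eq_iff, map_mul, map_mul]
    refine ⟨fun e => by_contra fun n => h.ne2 (a := pt 0) (b := pt 1) (by decide) (Subtype.ext ?_), Kt_comm⟩
    have : cj d (y : X) = y * _ := d5 (j y) e n
    rw [cj_of_commute (Commute.symm (mem_centralizer_singleton_iff.1 y.2.2))] at this
    exact left_eq_mul.1 this
  have hs : ∀ x ∈ Kt (α {pt 0, pt 1}), ∃ y, j y = x := fun x hx =>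
    ⟨⟨x, x.2, mem_centralizer_singleton_iff.2 (d3 _ hx).symm⟩, rfl⟩
  have hz : ∀ y, y ∈ zpowers t ↔ j y ∈ zpowers (α {pt 0, pt 1}) := fun y => by
    rw [← mem_map_iff_mem hj, MonoidHom.map_zpowers]; rfl
  have R : Sec0 (centralizer {t}) (zpowers t) (θ ∘ j) :=
    ⟨fun x hx y hy => (congrArg θ (map_mul j x y)).trans (T.sec.mul _ ((hK x).1 hx) _ ((hK y).1 hy)),
      fun y => by
        obtain ⟨x, hx, rfl⟩ := T.sec.surj y
        obtain ⟨y, rfl⟩ := hs x hx
        exact ⟨y, (hK y).2 hx, rfl⟩,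
      fun x hx => (T.sec.ker _ ((hK x).1 hx)).trans (hz x).symm,
      zpowers_le.2 (mem_centralizer_singleton_iff.2 rfl)⟩
  have hq : IsQuasisimple (centralizer {t}) := quasisimple_of_equiv (MulEquiv.ofBijective
    ((j.comp (Subgroup.subtype _)).codRestrict _ fun y => (hK _).1 y.2)
    ⟨fun a b e => Subtype.ext (hj (congrArg Subtype.val e)), fun ⟨x, hx⟩ => by
      obtain ⟨y, rfl⟩ := hs x hx
      exact ⟨⟨y, (hK y).2 hx⟩, rfl⟩⟩) T.quasi
  have ho : orderOf t = 2 := by
    rw [← orderOf_injective j hj]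
    exact orderOf_eq_two_of (h.sq (by decide)) (h.ne2 (by decide))
  have := R.normal
  obtain ⟨e⟩ := R.equiv
  obtain ⟨m, m1, m2⟩ := T.exists_move h
  have hn : ∃ g, g * t * g⁻¹ ∈ centralizer {t} ∧ g * t * g⁻¹ ≠ t := by
    have e : j (⟨m, m.2, mem_centralizer_singleton_iff.2 (d4 _ m1).symm⟩ * t *
      ⟨m, m.2, mem_centralizer_singleton_iff.2 (d4 _ m1).symm⟩⁻¹) = α {pt 0, pt 3} := m2
    refine ⟨_, (hK _).2 (e ▸ T.A_le h (h.mem2 (by decide))), fun e' => ?_⟩
    rw [e'] at e
    exact absurd (h.inj (by decide) (by decide) (by decide) e) (by decide)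
  obtain ⟨f, hf⟩ := main23' ho hq e hn
  exact ⟨d, orderOf_eq_two_of d2 fun e => d1 (e ▸ one_mem _), d1, d3 _ (T.A_le h M.zA), t, ho, hq,
    ⟨this, facts22 e⟩, hn, class_of_image f hf class23, type23_of_equiv f hf type23⟩

end Cfsg.Agent.S5460
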