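import Cfsg.Statements.S5461
import Cfsg.Agent.S5415
import Cfsg.Agent.H22.LF.Emb24
import Cfsg.Agent.H22.LF.Aut24
import Cfsg.Agent.H50.CommCalc

set_option autoImplicit false
open Cfsg

namespace Cfsg.Agent.S5461

open Subgroup H14 H97
open scoped commutatorElement

theorem conj3A {c : M24} (h3 : orderOf c = 3) (h : 27 ∣ Nat.card (centralizer ({c} : Set M24))) :
    IsConj c ⟨GE.perm m24_3A.X, m24_3A_order.2.1⟩ := by
  refine Co3A.isConj_3A ?_ c h3 h
  rw [coe_mk]
  exact GE.pk_perm (by decide +kernel)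

variable {A : Type*} [Group A] [Finite A] (χ : A →* M24) (hs : Function.Surjective χ)
  (hk : Nat.card χ.ker = 2 ^ 35) {β : A} (o : orderOf β = 3) (P : Sylow 3 A)
  (h : β ∈ (center (P : Subgroup A)).map (P : Subgroup A).subtype)
include hs hk h

theorem mem_comm : β ∈ ⁅centralizer {β}, centralizer {β}⁆ := by
  have : Fact (Nat.Prime 3) := ⟨Nat.prime_three⟩
  have : Finite M24 := Finite.of_surjective χ hs
  have h1 : Nat.card (P : Subgroup A) = 3 ^ 3 := by
    rw [P.card_eq_multiplicity, H15.card_of_chi χ hs hk]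
    decide +kernel
  obtain ⟨β, hβ, rfl⟩ := h
  have h2 : (P : Subgroup A) ≤ centralizer {(β : A)} := fun x hx =>
    mem_centralizer_singleton_iff.2 (congrArg Subtype.val (mem_center_iff.1 hβ ⟨x, hx⟩))
  refine commutator_mono h2 h2 ((H50.center_of_card_p3 h1 fun c => ?_).2.ge
    ⟨β.2, fun x hx => mem_centralizer_singleton_iff.1 (h2 hx)⟩)
  have o : orderOf (⟨_, m24_3B_order.2.1⟩ : M24) = 3 := (orderOf_mk _ _).trans m24_3B_order.1
  obtain ⟨Q, hQ⟩ := (IsPGroup.of_card (n := 1) ((Nat.card_zpowers _).trans (o.trans (pow_one 3).symm))).exists_le_sylow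
  obtain ⟨g, rfl⟩ := MulAction.exists_smul_eq M24 (P.mapSurjective hs) Q
  obtain ⟨_, ⟨a, ha, rfl⟩, e⟩ := hQ (mem_zpowers _)
  have k : IsConj (χ a) ⟨_, m24_3B_order.2.1⟩ := isConj_iff.2 ⟨g, e⟩
  obtain ⟨u, hu⟩ := isConj_iff.1 (k.symm.trans (conj3A ((SemiconjBy.orderOf_eq _ k.choose_spec).trans o)
    (H15.dvd_of_central χ hs hk P ⟨⟨a, ha⟩, mem_center_iff.2 fun x => c.1.1 _ _, rfl⟩)))
  have := card_fix_conj u.1 (GE.perm m24_3B.X)
  rw [show u.1 * _ * u.1⁻¹ = _ from congrArg Subtype.val hu, m24_3A_order.2.2, m24_3B_order.2.2] at this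
  exact absurd this (by decide)

include o in
theorem exists_inv : ∃ n, n * β * n⁻¹ ∈ zpowers β ∧ ¬ Commute n β := by
  have o' := H15.orderOf_map_of_ker χ hk Nat.prime_three (by decide) o
  have h1 := H15.dvd_of_central χ hs hk P h
  obtain ⟨n, hn⟩ := isConj_iff.1 ((conj3A o' h1).trans (conj3A ((orderOf_inv _).trans o') (by
    rwa [show centralizer {(χ β)⁻¹} = centralizer {χ β} from Subgroup.ext fun x => by
      rw [mem_centralizer_singleton_iff, mem_centralizer_singleton_iff]; exact Commute.inv_right_iff])).symm)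
  obtain ⟨n, rfl⟩ := hs n
  have h2 : Nat.card ((zpowers (χ β)).comap χ) = 2 ^ 35 * 3 := by
    have a3 := relIndex_ker ((zpowers (χ β)).comap χ) χ
    have a4 := (χ.ker.subgroupOf ((zpowers (χ β)).comap χ)).card_mul_index
    rw [Nat.card_congr (subgroupOfEquivOfLe (ker_le_comap _ _)).toEquiv, ← relIndex, a3,
      map_comap_eq_self_of_surjective hs, Nat.card_zpowers, o', hk] at a4
    exact a4.symm
  obtain ⟨j, hj⟩ := H15.exists_isConj_zpow (K := (zpowers (χ β)).comap χ) Nat.prime_three (by rw [h2]; decide +kernel)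
    (x := ⟨β, mem_zpowers _⟩) (y := ⟨n * β * n⁻¹, by
      rw [mem_comap, map_mul, map_mul, map_inv, hn]; exact inv_mem (mem_zpowers _)⟩) ((orderOf_mk _ _).trans o)
    ((orderOf_mk _ _).trans ((SemiconjBy.orderOf_eq n (by simp [SemiconjBy])).symm.trans o))
  obtain ⟨⟨k, i, hi⟩, e⟩ := isConj_iff.1 hj
  replace e : k * β ^ j * k⁻¹ = n * β * n⁻¹ := congrArg Subtype.val e
  refine ⟨k⁻¹ * n, ⟨j, by rw [mul_inv_rev, inv_inv, ← mul_assoc, mul_assoc _ n, mul_assoc _ (n * β), ← e]; group⟩,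
    fun c => ?_⟩
  have c' : Commute (χ n) (χ β) := by
    have := ((Commute.refl (χ β)).zpow_left i).mul_left (c.map χ)
    rwa [show χ β ^ i = χ k from hi, ← map_mul, mul_inv_cancel_left] at this
  rw [c'.eq, mul_inv_cancel_right, eq_inv_iff_mul_eq_one, ← sq, ← orderOf_dvd_iff_pow_eq_one, o'] at hn
  exact absurd hn (by decide)

omit hs hk h

theorem fin {G S : Type*} [Group G] [Finite G] [Group S] [IsSimpleGroup S] (nc : ∃ a b : S, ¬ Commute a b)
    {Y : Subgroup G} {β n : G} (hβ : Y = zpowers β) (hY3 : Nat.card Y = 3)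
    (k1 : β ∈ ⁅centralizer {β}, centralizer {β}⁆) (n1 : n * β * n⁻¹ ∈ zpowers β) (n2 : ¬ Commute n β)
    [(Y.subgroupOf (centralizer (Y : Set G))).Normal] [(Y.subgroupOf (normalizer (Y : Set G))).Normal]
    (ε : centralizer (Y : Set G) ⧸ Y.subgroupOf (centralizer (Y : Set G)) ≃* S) :
    IsQuasisimple (centralizer (Y : Set G)) ∧
      ∃ G₀ : Subgroup (normalizer (Y : Set G) ⧸ Y.subgroupOf (normalizer (Y : Set G))), G₀.index = 2 ∧
        Nonempty (G₀ ≃* S) ∧ ∀ d, (∀ g ∈ G₀, Commute d g) → d = 1 := by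
  have hC : centralizer {β} = centralizer (Y : Set G) := by rw [hβ, zpowers_eq_closure, centralizer_closure]
  have hYC : Y ≤ centralizer (Y : Set G) := hβ.le.trans (zpowers_le.2 (hC.le (mem_centralizer_singleton_iff.2 rfl)))
  rw [hC] at k1
  let f : centralizer (Y : Set G) →* normalizer (Y : Set G) ⧸ Y.subgroupOf (normalizer (Y : Set G)) :=
    (QuotientGroup.mk' _).comp (inclusion (centralizer_le_normalizer _))
  have fk : f.ker = Y.subgroupOf _ := Subgroup.ext fun x => QuotientGroup.eq_one_iff _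
  obtain ⟨φ, T⟩ := H22.LF.exists_sec0 hYC
  replace T := T.equiv_comp ε
  refine ⟨T.quasisimple nc (hβ.le.trans (zpowers_le.2 k1)) fun v hv x hx => hx v hv, f.range, ?_,
    ⟨(QuotientGroup.quotientKerEquivRange f).symm.trans ((QuotientGroup.quotientMulEquivOfEq fk).trans ε)⟩,
    fun d hd => ?_⟩
  · have a1 : f.range = ((centralizer (Y : Set G)).subgroupOf _).map (QuotientGroup.mk' _) := by
      rw [MonoidHom.range_comp, inclusion_range]
    have : Fact (Nat.Prime 3) := ⟨Nat.prime_three⟩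
    have := isCyclic_of_prime_card hY3
    rw [a1, index_map_eq _ (QuotientGroup.mk'_surjective _) (by
      rw [QuotientGroup.ker_mk']; exact comap_mono hYC), ← normalizerMonoidHom_ker, index_ker]
    refine ((Nat.dvd_prime Nat.prime_two).1 ((card_subgroup_dvd_card _).trans (by
      rw [IsCyclic.card_mulAut, hY3]; decide))).resolve_left fun a2 => ?_
    have n3 : n ∈ normalizer (Y : Set G) := H51.Fi.mem_norm_of fun x hx => by
      obtain ⟨i, rfl⟩ := hβ.le hx
      rw [H95.cj_def, ← conj_zpow, hβ]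
      exact zpow_mem n1 i
    rw [← index_ker, index_eq_one, normalizerMonoidHom_ker] at a2
    exact n2 (mem_centralizer_singleton_iff.1 (hC.ge (a2.ge (mem_top ⟨_, n3⟩))))
  · let H : Subgroup G := ((centralizer (SetLike.coe f.range)).comap
      (QuotientGroup.mk' (Y.subgroupOf (normalizer (Y : Set G))))).map (Subgroup.subtype _)
    have a1 : ⁅centralizer (Y : Set G), H⁆ ≤ Y := commutator_le.2 fun a ha b hb => by
      obtain ⟨b, hb, rfl⟩ := hb
      have := commutatorElement_eq_one_iff_mul_comm.2 (hb _ ⟨⟨a, ha⟩, rfl⟩)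
      have e : f ⟨a, ha⟩ = QuotientGroup.mk' _ ⟨a, centralizer_le_normalizer _ ha⟩ := rfl
      rw [e, ← map_commutatorElement] at this
      exact mem_subgroupOf.1 ((QuotientGroup.eq_one_iff _).1 this)
    have a2 : ⁅⁅centralizer (Y : Set G), H⁆, centralizer (Y : Set G)⁆ = ⊥ :=
      commutator_eq_bot_iff_le_centralizer.2 (a1.trans fun v hv x hx => (hx v hv).symm)
    have a3 := commutator_eq_bot_iff_le_centralizer.1
      (commutator_commutator_eq_bot_of_rotate a2 (by rwa [Subgroup.commutator_comm H])) k1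
    obtain ⟨d, rfl⟩ := QuotientGroup.mk'_surjective _ d
    have a4 : (d : G) ∈ H := mem_map_of_mem _ (mem_comap.2 (mem_centralizer_iff.2 fun g hg => (hd g hg).eq.symm))
    have a5 := hC.le (mem_centralizer_singleton_iff.2 (a3 d a4))
    refine (QuotientGroup.eq_one_iff _).2 (T.mem_of_comm (H51.Fi.center_eq_bot_of_simple nc) a5 fun x hx => ?_)
    refine (T.eq_iff (H95.cj_mem a5 hx) hx).2 (inv_mem_iff.1 ?_)
    simpa [commutatorElement_def, H95.cj_def, mul_assoc] using a1 (commutator_mem_commutator (inv_mem hx) a4)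

/-- Let G be a finite group of Monster type at the involution z with Q the extraspecial normal subgroup of order 2^25 of C_G(z) (C_G(z)/Q identified with the first Conway group with Q modulo its centre the Leech lattice modulo 2, z not weakly closed in Q). Let s be a conjugate of z (in G) lying in Q and other than z, and Y a subgroup of order 3 of the joint centralizer of z and s lying in the centre of some Sylow 3-subgroup of it. Then the centralizer of Y is quasisimple, its quotient by Y is isomorphic to the commutator subgroup of the presented Fischer group Fi₂₄, and the normalizer of Y modulo Y is generated by a conjugacy class of 3-transpositions with respect to which it is of type M(24). -/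
theorem result {G : Type*} [Group G] [Finite G] (z : G) (Q : Subgroup (Subgroup.centralizer ({z} : Set G))) [Q.Normal] (hM : Cfsg.IsOfMonsterType z Q) (s : G) (hsQ : ∃ hsc : s ∈ Subgroup.centralizer ({z} : Set G), (⟨s, hsc⟩ : Subgroup.centralizer ({z} : Set G)) ∈ Q) (hs : IsConj z s) (hs1 : s ≠ z) (Y : Subgroup G) (hY : Y ≤ Subgroup.centralizer ({z, s} : Set G)) (hY3 : Nat.card Y = 3) (hc : ∃ P : Sylow 3 ↥(Subgroup.centralizer ({z, s} : Set G)), Y.subgroupOf (Subgroup.centralizer ({z, s} : Set G)) ≤ (Subgroup.center ↥(P : Subgroup ↥(Subgroup.centralizer ({z, s} : Set G)))).map (P : Subgroup ↥(Subgroup.centralizer ({z, s} : Set G))).subtype) [hn : (Y.subgroupOf (Subgroup.centralizer (Y : Set G))).Normal] [hn' : (Y.subgroupOf (Subgroup.normalizer (Y : Set G))).Normal] : Cfsg.IsQuasisimple ↥(Subgroup.centralizer (Y : Set G)) ∧ Cfsg.Spor.IsoFi24' (↥(Subgroup.centralizer (Y : Set G)) ⧸ Y.subgroupOf (Subgroup.centralizer (Y : Set G))) ∧ ∃ E : Set (↥(Subgroup.normalizer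 (Y : Set G)) ⧸ Y.subgroupOf (Subgroup.normalizer (Y : Set G))), Cfsg.IsThreeTranspositionClass E ∧ Cfsg.IsOfTypeM24 _ E := by
  obtain ⟨y, S, hS, h⟩ := S5415.result z Q hM s hsQ hs hs1 Y hY hY3 hc
  obtain ⟨ε⟩ := H22.LF.iso24_of_type h
  obtain ⟨h0, e, ψ, hψ⟩ := hM
  obtain ⟨g, rfl⟩ := isConj_iff.1 hs
  obtain ⟨h1, h2⟩ := hsQ
  obtain ⟨χ, c1, c2, -⟩ := (H15.md_of_iso h0 hψ).exists_chi ⟨_, h2, rfl⟩ hs1
  obtain ⟨β, o, hβ⟩ := H15.exists_gen hY Nat.prime_three hY3
  obtain ⟨P, hP⟩ := hc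
  replace hP := hP (x := β) (by rw [hβ]; exact mem_zpowers _)
  have k1 : (β : G) ∈ ⁅centralizer {(β : G)}, centralizer {(β : G)}⁆ := by
    have : (centralizer {β}).map (Subgroup.subtype _) ≤ centralizer {(β : G)} := by
      rintro _ ⟨x, hx, rfl⟩
      exact mem_centralizer_singleton_iff.2 (congrArg Subtype.val (mem_centralizer_singleton_iff.1 hx))
    exact commutator_mono this this ((map_commutator _ _ _).le ⟨β, mem_comm χ c1 c2 P hP, rfl⟩)
  obtain ⟨n, ⟨j, n1⟩, n2⟩ := exists_inv χ c1 c2 o P hP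
  have := H58.Fi24P.simple_commutator
  obtain ⟨a1, G₀, a2, a3, a4⟩ := fin (by_contra fun n => H96.not_comm24 ⟨⟨fun a b => by_contra fun c => n ⟨a, b, c⟩⟩⟩)
    hβ hY3 k1 (n := (n : G)) ⟨j, congrArg Subtype.val n1⟩ (fun c => n2 (Subtype.ext c.eq)) ε
  obtain ⟨e⟩ := H22.LF.aut24 a2 a3 a4
  exact ⟨a1, ⟨ε⟩, H22.LF.type24_of_equiv e⟩

end Cfsg.Agent.S5461
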