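import Cfsg.Statements.S5465
import Cfsg.Agent.H51.FiF
import Cfsg.Agent.H51.FiG
import Cfsg.Agent.S2079

set_option autoImplicit false
open Cfsg

namespace Cfsg.Agent.S5465

/-- Let G be a finite group with trivial centre generated by a conjugation-invariant set D of 3-transpositions on which it acts primitively, such that for some d in D the subgroup generated by the members of D other than d commuting with d has central largest normal 2- and 3-subgroups, and suppose G with D is of type M(24), and let L be the commutator subgroup of G. Let d₁, d₂ be distinct commuting members of D and j = d₁ d₂. Then K, the joint centralizer of d₁ and d₂ in L, is quasisimple, is the generalized Fitting subgroup of the centralizer of j in L, has index 2 in it and contains j, and the centralizer of j in L modulo the subgroup generated by j is isomorphic to the full automorphism group of the Fischer group Fi₂₂ (as presented). -/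
theorem result {G : Type*} [Group G] [Finite G] {D : Set G} (hD : Cfsg.IsThreeTranspositionGroup D) (hprim : Cfsg.IsPrimitiveUnderConj D) (d₀ : G) (hd₀ : d₀ ∈ D) (h3 : Cfsg.pCore 3 ↥(Subgroup.closure {y : G | y ∈ D ∧ y ≠ d₀ ∧ Commute d₀ y}) ≤ Subgroup.center ↥(Subgroup.closure {y : G | y ∈ D ∧ y ≠ d₀ ∧ Commute d₀ y})) (h2 : Cfsg.pCore 2 ↥(Subgroup.closure {y : G | y ∈ D ∧ y ≠ d₀ ∧ Commute d₀ y}) ≤ Subgroup.center ↥(Subgroup.closure {y : G | y ∈ D ∧ y ≠ d₀ ∧ Commute d₀ y})) (h24 : Cfsg.IsOfTypeM24 G D) (L : Subgroup G) (hL : L = commutator G) (d₁ d₂ : G) (h₁ : d₁ ∈ D) (h₂ : d₂ ∈ D) (hne : d₁ ≠ d₂) (hc : Commute d₁ d₂) (K CL : Subgroup G) (hK : K = L ⊓ Subgroup.centralizer ({d₁, d₂} : Set G)) (hCL : CL = L ⊓ Subgroup.centralizer ({d₁ * d₂} : Set G)) [hn : ((Subgroup.zpowers (d₁ * d₂)).subgroupOf CL).Normal] : Cfsg.IsQuasisimple ↥K ∧ K = (Cfsg.generalizedFittingSubgroup ↥CL).map CL.subtype ∧ K ≤ CL ∧ (K.subgroupOf CL).index = 2 ∧ d₁ * d₂ ∈ K ∧ Nonempty (↥CL ⧸ (Subgroup.zpowers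 (d₁ * d₂)).subgroupOf CL ≃* MulAut Cfsg.Spor.Fi22) := by
  have H := H51.Fi.l24_of_type hD hprim h24
  have h := H.lev
  have hl := H51.Fi.clq_two h₁ h₂ hne hc
  have hC' : CL = L ⊓ Subgroup.normalizer {d₁, d₂} := by
    rw [← H51.Fi.set_two, ← H51.Fi.cent_prod h.tt h.cjm (h.noRel24.mono (by decide)) hl (by simp),
      hCL]; simp
  subst hL
  obtain ⟨p, hp⟩ := h.sec2 H51.Fi.lev23 h₁ ⟨h₂, hne.symm, hc⟩
  have := H58.Fi22P.simple
  obtain ⟨y, hy, -⟩ := hp.lift H96.a22_mem
  have hj : d₁ * d₂ ∈ commutator G := H95.mul_mem_commutator h.cls h₁ h₂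
  have r1 := (h.rel24.mem_comm h.tt h.cjm (y := y) (l := [d₁, d₂]) (h.tr24 (by simp))
    (h.tr24 (by simp)) rfl (H51.Fi.clq_snoc hl (by rw [H51.Fi.set_two]; exact hy)) rfl).1
  have q := H51.Fi.perm_quot hl (h.tr24 (by simp)) (d := d₁) (by simp) (H.split h₁) (X := CL)
    (K := K) (by rw [H51.Fi.set_two, hC']) (by rw [H51.Fi.set_two, hK])
  have m := H51.Fi.main_aut h.cjm hl (h.tr24 (by simp)) (d := d₁) (by simp) (H.split h₁)
    (H51.Fi.set_two d₁ d₂).symm hp H51.Fi.nc22 ?_ (W := Subgroup.zpowers (d₁ * d₂)) ?_ ?_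
    S2079.result hC' hK
  · exact ⟨m.1, m.2.1.symm, q.1, q.2.1, m.2.2.2.1 (Subgroup.mem_zpowers _), m.2.2.2.2.2.2⟩
  · rintro x (rfl | rfl)
    · obtain ⟨xs, k1, -, k2⟩ := h.rel24.prod_eq h.tt h.cjm (y := d₂) (l := [x]) (h.tr24 (by simp))
        (by simp) (hl.perm (List.Perm.swap _ _ _))
      rw [List.prod_singleton] at k2
      rw [H51.Fi.set_two, Set.pair_comm] at k1
      have := list_prod_mem fun x hx => Subgroup.subset_closure (k1 x hx)
      rwa [← k2] at this
    · obtain ⟨xs, k1, -, k2⟩ := h.rel24.prod_eq h.tt h.cjm (y := d₁) (l := [x]) (h.tr24 (by simp))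
        (by simp) hl
      rw [List.prod_singleton] at k2
      rw [H51.Fi.set_two] at k1
      have := list_prod_mem fun x hx => Subgroup.subset_closure (k1 x hx)
      rwa [← k2] at this
  · refine H51.Fi.inf_closure (H95.TT.mul_self h.tt h₁) (H.nmem _ h₁) ?_ ?_ ?_ ?_
    · rintro x (rfl | rfl)
      exacts [Commute.refl _, hc]
    · rintro x (rfl | rfl)
      · rw [H95.TT.mul_self h.tt h₁]; exact one_mem _
      · rw [← hc.eq]; exact Subgroup.mem_zpowers _
    · rwa [Subgroup.zpowers_le]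
    · rw [Subgroup.zpowers_le]
      exact mul_mem (Subgroup.subset_closure (by simp)) (Subgroup.subset_closure (by simp))
  · rw [Subgroup.zpowers_le]
    have e : Subgroup.centralizer {x | x ∈ [y, d₁, d₂]} ≤ Subgroup.centralizer {d₁, d₂} :=
      Subgroup.centralizer_le (by rintro x (rfl | rfl) <;> simp)
    simpa using Subgroup.commutator_mono e e r1
end Cfsg.Agent.S5465
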