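import Cfsg.Statements.S5472
import Cfsg.Agent.H96.OutU
-- import your own Cfsg.Agent.* helpers here

set_option autoImplicit false
open Cfsg

namespace Cfsg.Agent.S5472

/-- Let G be a finite group with trivial centre generated by a conjugation-invariant set D of 3-transpositions on which it acts primitively, such that for some d in D the subgroup generated by the members of D other than d commuting with d has central largest normal 2- and 3-subgroups, and suppose G with D is of type M(22). Then G has a non-inner automorphism s of order 2 whose fixed-point subgroup is isomorphic to the full automorphism group of Ω⁺(8, 2) (the commutator subgroup of the isometry group of the hyperbolic quadratic form in dimension 8 over the field with two elements), together with distinct commuting members a, b of D fixed by s such that: s, s composed with conjugation by a, and s composed with conjugation by a b represent the three classes (under the automorphism group) of non-inner automorphisms of order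 2; the elements fixed by the automorphism s composed with conjugation by a are exactly those fixed by s and commuting with a, and they form a group isomorphic to the direct product of a group of order 2 and the symplectic group of dimension 6 over the field with two elements; and the elements fixed by the automorphism s composed with conjugation by a b form a group whose largest normal 2-subgroup is elementary abelian of order 64 with quotient isomorphic to the full isometry group of the elliptic quadratic form in dimension 6 over the field with two elements. -/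
theorem result {G : Type*} [Group G] [Finite G] {D : Set G} (hD : Cfsg.IsThreeTranspositionGroup D) (hprim : Cfsg.IsPrimitiveUnderConj D) (d₀ : G) (hd₀ : d₀ ∈ D) (h3 : Cfsg.pCore 3 ↥(Subgroup.closure {y : G | y ∈ D ∧ y ≠ d₀ ∧ Commute d₀ y}) ≤ Subgroup.center ↥(Subgroup.closure {y : G | y ∈ D ∧ y ≠ d₀ ∧ Commute d₀ y})) (h2 : Cfsg.pCore 2 ↥(Subgroup.closure {y : G | y ∈ D ∧ y ≠ d₀ ∧ Commute d₀ y}) ≤ Subgroup.center ↥(Subgroup.closure {y : G | y ∈ D ∧ y ≠ d₀ ∧ Commute d₀ y})) (h22 : Cfsg.IsOfTypeM22 G D) : ∃ (s : MulAut G) (a b : G) (Cs : Subgroup G), orderOf s = 2 ∧ s ∉ (MulAut.conj : G →* MulAut G).range ∧ (∀ g : G, g ∈ Cs ↔ s g = g) ∧ Nonempty (↥Cs ≃* MulAut (Cfsg.Omega (ZMod 2) (Cfsg.quadFormPlus 4 (ZMod 2)))) ∧ a ∈ D ∧ b ∈ D ∧ a ≠ b ∧ Commute a b ∧ s a = a ∧ s b = b ∧ (∀ t : MulAut G, orderOf t = 2 → t ∉ (MulAut.conj : G →* MulAut G).range → (IsConj t s ∨ IsConj t (s * MulAut.conj a) ∨ IsConj t (s * MulAut.conj (a * b)))) ∧ ¬ IsConj s (s * MulAut.conj a) ∧ ¬ IsConj s (s * MulAut.conj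 (a * b)) ∧ ¬ IsConj (s * MulAut.conj a) (s * MulAut.conj (a * b)) ∧ (∀ g : G, (s * MulAut.conj a) g = g ↔ g ∈ Cs ⊓ Subgroup.centralizer ({a} : Set G)) ∧ Nonempty (↥(Cs ⊓ Subgroup.centralizer ({a} : Set G)) ≃* Multiplicative (ZMod 2) × Cfsg.PSp 3 (ZMod 2)) ∧ ∃ Csab O : Subgroup G, (∀ g : G, g ∈ Csab ↔ (s * MulAut.conj (a * b)) g = g) ∧ O = (Cfsg.pCore 2 ↥Csab).map Csab.subtype ∧ Cfsg.IsElementaryAbelian 2 O ∧ Nat.card O = 64 ∧ ∃ _ : (O.subgroupOf Csab).Normal, Nonempty (↥Csab ⧸ O.subgroupOf Csab ≃* Cfsg.isometryGroup (ZMod 2) (Cfsg.quadFormMinus 2 (ZMod 2) 1 1)) := by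
  obtain ⟨T0, h0⟩ := H52.Fi.exists_is22 hD h22
  obtain ⟨T, h, -, -, e, he⟩ := H96.C2B.exists_is22_at hD h22 (h0.el_mem le_rfl (by decide))
    h0.nb4.1.1.1 h0.nb4.1.1.2.1.symm h0.nb4.1.1.2.2
  obtain ⟨σ, hσ⟩ := H96.C2B.exists_sigma he
  have ho : σ ∉ Inn G := by simpa using H96.O22.out_w h hσ 1
  have hdi := H96.O22.nb_di h
  have c1 := H96.O22.card_Cs h hσ
  have c2 := H96.O22.card_Cd h hσ
  have c3 := H96.O22.card_Cab h hσ
  have hd := H96.O22.Fx_d h hσ
  rw [← hd] at c2
  obtain ⟨h4, ψ, h5, h6⟩ := H96.O22.psiO h hσ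
  have h7 := H96.pCore_eq_of_O6m (E := (H96.O22.O6 T).subgroupOf _)
    ((H96.O22.O6_c2 h).isPGroup.comap_subtype) ψ h5 h6
  have hn : ((H96.O22.O6 T).subgroupOf (H96.Fx (σ * MulAut.conj (T.el 4 * T.el 9)))).Normal :=
    h6 ▸ inferInstance
  have : Fact (Nat.Prime 2) := ⟨Nat.prime_two⟩
  refine ⟨σ, T.el 4, T.el 9, H96.Fx σ, orderOf_eq_prime ((pow_two σ).trans (H96.O22.s_sq h hσ))
    fun h => ho (h ▸ one_mem _), ho, fun _ => Iff.rfl, H96.O22.equiv_Cs h hσ,
    h.el_mem (by decide) (by decide), hdi.1, hdi.2.1.symm, hdi.2.2, hσ 4, hσ 9, fun t h8 h9 => ?_,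
    fun h => by have := H96.card_Fx h; omega, fun h => by have := H96.card_Fx h; omega,
    fun h => by have := H96.card_Fx h; omega, fun g => hd ▸ Iff.rfl, H96.O22.equiv_Cd h hσ,
    H96.Fx (σ * MulAut.conj (T.el 4 * T.el 9)), H96.O22.O6 T, fun _ => Iff.rfl,
    by rw [h7, Subgroup.subgroupOf_map_subtype, inf_eq_left.2 h4], (H96.O22.O6_c2 h).elab,
    H96.O22.card_O6 h, hn, ⟨(QuotientGroup.quotientMulEquivOfEq h6.symm).trans
      (QuotientGroup.quotientKerEquivOfSurjective ψ h5)⟩⟩
  obtain ⟨x, hx, h10⟩ := H96.O22.cls_all h hσ (H96.C2B.index_inn h e)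
    ((pow_two t).symm.trans (h8 ▸ pow_orderOf_eq_one t)) h9
  simp only [List.mem_cons, List.not_mem_nil, or_false] at hx
  rcases hx with rfl | rfl | rfl
  · exact Or.inl (H96.O22.s0_eq (T := T) (σ := σ) ▸ h10)
  · rw [H96.C2B.wv_one', ← (H96.C2B.commute_conj (hσ 4)).eq] at h10
    exact Or.inr (Or.inl h10)
  · exact Or.inr (Or.inr (H96.O22.s3_eq hσ ▸ h10))

end Cfsg.Agent.S5472
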