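import Cfsg.Statements.S5516
import Cfsg.Agent.H38.O8b
import Cfsg.Agent.H44.Components
import Cfsg.Agent.H68.LBO
import Cfsg.Agent.S0790

set_option autoImplicit false
open Cfsg

namespace Cfsg.Agent.S5516

open Subgroup

section
variable {K : Type*} [Group K]

/-- seven orbits on the subgroups of order three -/
def Orb (A : Subgroup (MulAut K)) : Prop := ∃ Y : Fin 7 → Subgroup K, (∀ i, Nat.card (Y i) = 3) ∧
  (∀ i j, (∃ β ∈ A, (Y i).map β.toMonoidHom = Y j) → i = j) ∧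
  ∀ X : Subgroup K, Nat.card X = 3 → ∃ i, ∃ β ∈ A, X.map β.toMonoidHom = Y i

theorem map_mul' (X : Subgroup K) (α β : MulAut K) :
    X.map (α * β).toMonoidHom = (X.map β.toMonoidHom).map α.toMonoidHom := by
  rw [map_map]; rfl

theorem map_one' (X : Subgroup K) : X.map (1 : MulAut K).toMonoidHom = X := map_id X

theorem card_map' (X : Subgroup K) (α : MulAut K) : Nat.card (X.map α.toMonoidHom) = Nat.card X :=
  card_map_of_injective α.injective

theorem Orb.conj {A B : Subgroup (MulAut K)} (h : Orb A) (α : MulAut K)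
    (hB : ∀ β, β ∈ B ↔ α⁻¹ * β * α ∈ A) : Orb B := by
  obtain ⟨Y, h1, h2, h3⟩ := h
  refine ⟨fun i => (Y i).map α.toMonoidHom, fun i => (card_map' _ _).trans (h1 i),
    fun i j ⟨β, hβ, e⟩ => h2 i j ⟨_, (hB β).1 hβ, ?_⟩, fun X hX => ?_⟩
  · rw [map_mul', map_mul', e, ← map_mul', inv_mul_cancel, map_one']
  · obtain ⟨i, β, hβ, e⟩ := h3 (X.map (α⁻¹).toMonoidHom) ((card_map' _ _).trans hX)
    exact ⟨i, α * β * α⁻¹, (hB _).2 (by simpa [mul_assoc] using hβ), by rw [map_mul', map_mul', e]⟩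

theorem key : ∀ a b : Equiv.Perm (Fin 4), a * a * a = 1 → a ≠ 1 → b * a = a * a * b →
    ∃ i, a i = i ∧ b i = i ∧ ∀ s : Equiv.Perm (Fin 4), s i = i →
      ∃ j : Fin 3, ∃ k : Fin 2, s = a ^ j.1 * b ^ k.1 := by decide +kernel

theorem inn_of {X : Type*} [Group X] (o : Out K ≃* X) {α β γ : MulAut K} {a b : ℕ}
    (h : o (QuotientGroup.mk γ) = o (QuotientGroup.mk α) ^ a * o (QuotientGroup.mk β) ^ b) :
    (α ^ a * β ^ b)⁻¹ * γ ∈ Inn K :=
  QuotientGroup.eq.1 (o.injective (by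
    rw [h, QuotientGroup.mk_mul, QuotientGroup.mk_pow, QuotientGroup.mk_pow, map_mul, map_pow, map_pow]))

theorem exists_hom {G : Type*} [Group G] (hZ : center K = ⊥) {N : Subgroup G}
    [hn : N.Normal] (hC : centralizer (N : Set G) ≤ N) (e : N ≃* K)
    (e' : G ⧸ N ≃* Equiv.Perm (Fin 3)) (o : Out K ≃* Equiv.Perm (Fin 4)) :
    ∃ (i : Fin 4) (φ : G →* MulAut K), (∀ g n, φ g (e n) = e (MulAut.conjNormal g n)) ∧
      ∀ β, β ∈ φ.range ↔ o (QuotientGroup.mk β) i = i := by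
  let φ : G →* MulAut K := (MulAut.congr e : _ →* _).comp (MulAut.conjNormal (H := N))
  have hφ0 : ∀ g n, φ g (e n) = e (MulAut.conjNormal g n) := fun g n => by simp [φ]
  have hφ : ∀ n : N, φ n = MulAut.conj (e n) := fun n => MulEquiv.ext fun k => by
    obtain ⟨k, rfl⟩ := e.surjective k
    rw [hφ0, MulAut.conj_apply, ← map_inv, ← map_mul, ← map_mul]
    exact congrArg e (Subtype.ext (MulAut.conjNormal_apply _ _))
  have hi : Function.Injective φ := (injective_iff_map_eq_one φ).2 fun g hg => by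
    have h1 : g ∈ N := hC (mem_centralizer_iff.2 fun n hn => by
      have h2 : e (MulAut.conjNormal g ⟨n, hn⟩) = e ⟨n, hn⟩ := by
        rw [← hφ0, hg]; rfl
      have h3 := congrArg Subtype.val (e.injective h2)
      rw [MulAut.conjNormal_apply] at h3
      exact (mul_inv_eq_iff_eq_mul.1 h3).symm)
    have h2 : e ⟨g, h1⟩ ∈ center K := mem_center_iff.2 fun k => by
      have := DFunLike.congr_fun ((hφ ⟨g, h1⟩).symm.trans hg) k
      exact (mul_inv_eq_iff_eq_mul.1 this).symm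
    rw [hZ, mem_bot, map_eq_one_iff _ e.injective] at h2
    exact congrArg Subtype.val h2
  set π := (o : Out K →* Equiv.Perm (Fin 4)).comp (QuotientGroup.mk' (Inn K)) with hπ
  have hk : ∀ α, π α = 1 ↔ α ∈ Inn K := fun α => by
    simp [hπ, QuotientGroup.eq_one_iff]
  have hN : N = (π.comp φ).ker := Subgroup.ext fun g => by
    rw [MonoidHom.mem_ker, MonoidHom.comp_apply, hk]
    refine ⟨fun h => ⟨_, (hφ ⟨g, h⟩).symm⟩, fun ⟨k, h⟩ => ?_⟩
    obtain ⟨n, rfl⟩ := e.surjective k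
    exact hi ((hφ n).trans h) ▸ n.2
  let f : Equiv.Perm (Fin 3) →* Equiv.Perm (Fin 4) :=
    (QuotientGroup.lift N (π.comp φ) hN.le).comp (e'.symm : _ →* _)
  have hf : Function.Injective f :=
    ((QuotientGroup.injective_lift_iff _ _ hN.le).2 hN).comp e'.symm.injective
  have hr : f.range = (π.comp φ).range := Subgroup.ext fun x =>
    ⟨fun ⟨s, h⟩ => by
      obtain ⟨q, rfl⟩ := e'.surjective s
      obtain ⟨g, rfl⟩ := QuotientGroup.mk_surjective q
      exact ⟨g, by simpa [f] using h⟩, fun ⟨g, h⟩ => ⟨e' g, by simpa [f] using h⟩⟩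
  obtain ⟨i, h1, h2, h5⟩ := key (f (finRotate 3)) (f (Equiv.swap 0 1))
    (by rw [← map_mul, ← map_mul, ← map_one f]; congr 1; decide)
    (fun h => absurd (hf (h.trans (map_one f).symm)) (by decide))
    (by simp only [← map_mul]; congr 1; decide)
  have h3 : f.range ≤ MulAction.stabilizer (Equiv.Perm (Fin 4)) i := by
    rintro _ ⟨s, rfl⟩
    have : ∀ s : Equiv.Perm (Fin 3), ∃ j k : Fin 3, s = finRotate 3 ^ j.1 * Equiv.swap 0 1 ^ k.1 := by
      decide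
    obtain ⟨j, k, rfl⟩ := this s
    rw [map_mul, map_pow, map_pow]
    exact mul_mem (pow_mem h1 _) (pow_mem h2 _)
  refine ⟨i, φ, hφ0, fun β => ⟨?_, fun h => ?_⟩⟩
  · rintro ⟨g, rfl⟩
    exact h3 (hr ▸ ⟨g, rfl⟩)
  · obtain ⟨j, k, h6⟩ := h5 _ h
    obtain ⟨g, hg⟩ : π β ∈ (π.comp φ).range :=
      hr ▸ ⟨finRotate 3 ^ j.1 * Equiv.swap 0 1 ^ k.1, by rw [map_mul, map_pow, map_pow, ← h6]; rfl⟩
    obtain ⟨c, hc⟩ := (hk ((φ g)⁻¹ * β)).1 (by
      rw [map_mul, map_inv, ← hg]; exact inv_mul_cancel _)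
    obtain ⟨n, rfl⟩ := e.surjective c
    exact ⟨g * n, by rw [map_mul, hφ, hc, mul_inv_cancel_left]⟩

theorem final {G : Type*} [Group G] (hZ : center K = ⊥) {N : Subgroup G}
    [hn : N.Normal] (hC : centralizer (N : Set G) ≤ N) (e : N ≃* K)
    (e' : G ⧸ N ≃* Equiv.Perm (Fin 3)) (o : Out K ≃* Equiv.Perm (Fin 4))
    (h0 : ∃ i : Fin 4, ∀ A : Subgroup (MulAut K), (∀ β, β ∈ A ↔ o (QuotientGroup.mk β) i = i) → Orb A) :
    ∃ Y : Fin 7 → Subgroup G, (∀ i, Y i ≤ N ∧ Nat.card (Y i) = 3) ∧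
      (∀ i j, (∃ g : G, (Y i).map (MulAut.conj g).toMonoidHom = Y j) → i = j) ∧
      ∀ X : Subgroup G, X ≤ N → Nat.card X = 3 →
        ∃ i, ∃ g : G, X.map (MulAut.conj g).toMonoidHom = Y i := by
  obtain ⟨i, φ, hφ, hr⟩ := exists_hom hZ hC e e' o
  obtain ⟨j, hj⟩ := h0
  obtain ⟨x, hx⟩ := o.surjective (Equiv.swap i j)
  obtain ⟨α, rfl⟩ := QuotientGroup.mk_surjective x
  obtain ⟨Y, h1, h3, h4⟩ : Orb φ.range := (hj ((MulAction.stabilizer (Equiv.Perm (Fin 4)) j).comap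
    (o.toMonoidHom.comp (QuotientGroup.mk' _)))
    fun _ => Iff.rfl).conj α fun β => by
      simp only [hr, mem_comap, MulAction.mem_stabilizer_iff, map_mul, map_inv,
        MonoidHom.comp_apply, QuotientGroup.mk'_apply, MulEquiv.coe_toMonoidHom, hx, Equiv.Perm.smul_def,
        Equiv.Perm.mul_apply, Equiv.swap_inv, Equiv.swap_apply_right, Equiv.swap_apply_eq_iff]
  let ψ := N.subtype.comp e.symm.toMonoidHom
  have hψ : Function.Injective ψ := Subtype.val_injective.comp e.symm.injective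
  have hc : ∀ (g : G) Z, (map ψ Z).map (MulAut.conj g).toMonoidHom =
      map ψ (map (φ g).toMonoidHom Z) := fun g Z => by
    rw [map_map, map_map]
    congr 1
    ext k
    obtain ⟨n, rfl⟩ := e.surjective k
    simp [ψ, hφ]
  refine ⟨fun k => (Y k).map ψ, fun k => ⟨?_, (card_map_of_injective hψ).trans (h1 k)⟩,
    fun k l ⟨g, hg⟩ => h3 k l ⟨φ g, ⟨g, rfl⟩, map_injective hψ ((hc g _).symm.trans hg)⟩,
    fun X hX h5 => ?_⟩
  · rintro _ ⟨z, -, rfl⟩
    exact (e.symm z).2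
  · have h6 : (X.comap ψ).map ψ = X := map_comap_eq_self fun z hz => ⟨e ⟨z, hX hz⟩, by simp [ψ]⟩
    obtain ⟨k, _, ⟨g, rfl⟩, h7⟩ := h4 (X.comap ψ) (by rw [← card_map_of_injective hψ, h6, h5])
    exact ⟨k, g, by simp only [← h7, ← hc, h6]⟩

end

section
open H38.O8 H28 H29

local notation "𝔽" => ZMod 3
local notation "𝐐" => qPlus 4 (ZMod 3)
local notation "PΩ" => POmega (ZMod 3) (qPlus 4 (ZMod 3))
local notation "τ" => triality (ZMod 3)

theorem exists_gen {K : Type*} [Group K] {X : Subgroup K} (h : Nat.card X = 3) :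
    ∃ x, orderOf x = 3 ∧ X = zpowers x := by
  haveI : Fact (Nat.Prime 3) := ⟨Nat.prime_three⟩
  obtain ⟨x, hx⟩ := (isCyclic_of_prime_card h).exists_generator
  have e : X = zpowers (x : K) := le_antisymm (fun z hz => by
    obtain ⟨k, hk⟩ := hx ⟨z, hz⟩
    exact ⟨k, congrArg Subtype.val hk⟩) (zpowers_le.2 x.2)
  exact ⟨x, by rw [← Nat.card_zpowers, ← e, h], e⟩

theorem tab_inj : ∀ i < 13, ∀ j < 13, tab i = tab j → i = j := fun i hi j hj h =>
  (by decide +kernel : ∀ i < 13, ∀ j < 13, (tab i == tab j) = true → i = j) i hi j hj (beq_iff_eq.2 h)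

/-- a symmetric function -/
def sy (t : (Bool × Bool × Bool) × (Bool × Bool × Bool) × (Bool × Bool × Bool)) : ℕ :=
  4 ^ (t.1.1.toNat + 2 * t.1.2.1.toNat + 4 * t.1.2.2.toNat) +
    4 ^ (t.2.1.1.toNat + 2 * t.2.1.2.1.toNat + 4 * t.2.1.2.2.toNat) +
    4 ^ (t.2.2.1.toNat + 2 * t.2.2.2.1.toNat + 4 * t.2.2.2.2.toNat)

/-- the seven representatives -/
def r7 (i : Fin 7) : ℕ := ![0, 1, 4, 7, 9, 10, 12] i

theorem r7_lt : ∀ i, r7 i < 13 := by decide

set_option maxHeartbeats 2000000 in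
theorem orb0 (o : Out PΩ ≃* Equiv.Perm (Fin 4)) : ∃ i : Fin 4, ∀ A : Subgroup (MulAut PΩ),
    (∀ β, β ∈ A ↔ o (QuotientGroup.mk β) i = i) → Orb A := by
  obtain ⟨i, h1, -, h3⟩ := key (o (triOut 𝔽)) (o (oOut 𝐐 (refl 𝐐 (ou 𝔽))))
    (by rw [← map_mul o, ← map_mul o, ← pow_three', triOut_cube, map_one])
    (fun h => triOut_not_mem (by rw [(map_eq_one_iff _ o.injective).1 h]; exact one_mem _))
    (by rw [← map_mul o, ← map_mul o, ← map_mul o, triOut_refl, pow_two])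
  refine ⟨i, fun A hA => ⟨fun k => zpowers (y (r7 k)), fun k => by
    rw [Nat.card_zpowers, orderOf_y (r7_lt k)], fun k l ⟨β, hβ, e⟩ => ?_, fun X hX => ?_⟩⟩
  · obtain ⟨a, b, h4⟩ := h3 _ ((hA β).1 hβ)
    replace h4 := inn_of o (α := τ) (β := H29.poAut 𝐐 (oInl 𝐐 (refl 𝐐 (ou 𝔽)))) h4
    obtain ⟨c, hc⟩ : (τ ^ a.1 * H29.poAut 𝐐 (oInl 𝐐 (refl 𝐐 (ou 𝔽))) ^ b.1)⁻¹ * β ∈ Inn PΩ := h4
    have h5 : ∀ n x, sy (I ((τ ^ n) x)) = sy (I x) := fun n => by
      induction n with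
      | zero => exact fun _ => rfl
      | succ n ih => intro x; rw [pow_succ, MulAut.mul_apply, ih, I_tau]; simp only [sy]; omega
    have h6 : ∀ n x, sy (I ((H29.poAut 𝐐 (oInl 𝐐 (refl 𝐐 (ou 𝔽))) ^ n) x)) = sy (I x) := fun n => by
      induction n with
      | zero => exact fun _ => rfl
      | succ n ih => intro x; rw [pow_succ, MulAut.mul_apply, ih, I_refl]; simp only [sy]; omega
    have h7 : sy (I (β (y (r7 k)))) = sy (I (y (r7 k))) := by
      rw [← mul_inv_cancel_left (τ ^ a.1 * H29.poAut 𝐐 (oInl 𝐐 (refl 𝐐 (ou 𝔽))) ^ b.1) β, ← hc,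
        MulAut.mul_apply, MulAut.mul_apply, h5, h6, MulAut.conj_apply, I_conj]
    rw [MonoidHom.map_zpowers] at e
    have h8 : I (β (y (r7 k))) = I (y (r7 l)) :=
      I_of_zpowers ((β.orderOf_eq _).trans (orderOf_y (r7_lt k))) e
    rw [h8, I_y (r7_lt _), I_y (r7_lt _)] at h7
    exact (by decide +kernel : ∀ k l, sy (tab (r7 l)) = sy (tab (r7 k)) → k = l) k l h7
  · obtain ⟨x, hx, rfl⟩ := exists_gen hX
    obtain ⟨j, hj, hc⟩ := exists_conj_rep hx
    obtain ⟨c, hc⟩ := isConj_iff.1 hc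
    have hI : I x = tab j := by rw [← I_y hj, ← hc, I_conj]
    have ht : τ ∈ A := (hA _).2 h1
    have fin : ∀ γ ∈ A, ∀ k, I (γ x) = tab (r7 k) →
        ∃ i, ∃ β ∈ A, (zpowers x).map β.toMonoidHom = zpowers (y (r7 i)) := fun γ hγ k h => by
      have ho : orderOf (γ x) = 3 := (MulEquiv.orderOf_eq γ x).trans hx
      obtain ⟨l, hl, hd⟩ := exists_conj_rep ho
      obtain ⟨d, hd⟩ := isConj_iff.1 hd
      obtain rfl : l = r7 k := tab_inj l hl _ (r7_lt k) (by rw [← I_y hl, ← hd, I_conj, h])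
      refine ⟨k, MulAut.conj d * γ, mul_mem ((hA _).2 ?_) hγ, ?_⟩
      · rw [(QuotientGroup.eq_one_iff (N := Inn PΩ) (MulAut.conj d)).2 ⟨d, rfl⟩, map_one]; rfl
      · rw [MonoidHom.map_zpowers, ← hd]; rfl
    have : ∀ j < 13, ∃ k, (tab j == tab (r7 k) || ((tab j).2.1, (tab j).2.2, (tab j).1) == tab (r7 k) ||
        ((tab j).2.2, (tab j).1, (tab j).2.1) == tab (r7 k)) = true := by decide +kernel
    simp only [Bool.or_eq_true, beq_iff_eq] at this
    obtain ⟨k, (h | h) | h⟩ := this j hj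
    · exact fin 1 (one_mem _) k (hI.trans h)
    · exact fin _ ht k (by rw [I_tau, hI, h])
    · exact fin _ (mul_mem ht ht) k (by rw [MulAut.mul_apply, I_tau, I_tau, hI, h])

theorem part1 : ∃ Y : Fin 13 → Subgroup PΩ, (∀ i, Nat.card (Y i) = 3) ∧
    (∀ i j, (∃ g : PΩ, (Y i).map (MulAut.conj g).toMonoidHom = Y j) → i = j) ∧
    ∀ X : Subgroup PΩ, Nat.card X = 3 → ∃ i, ∃ g : PΩ, X.map (MulAut.conj g).toMonoidHom = Y i := by
  refine ⟨fun k => zpowers (y k), fun k => by rw [Nat.card_zpowers, orderOf_y k.2],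
    fun k l ⟨c, e⟩ => ?_, fun X hX => ?_⟩
  · rw [MonoidHom.map_zpowers] at e
    have h : I (c * y k * c⁻¹) = I (y l) :=
      I_of_zpowers (((MulAut.conj c).orderOf_eq _).trans (orderOf_y k.2)) e
    rw [I_conj, I_y k.2, I_y l.2] at h
    exact Fin.ext (tab_inj _ k.2 _ l.2 h)
  · obtain ⟨x, hx, rfl⟩ := exists_gen hX
    obtain ⟨j, hj, hc⟩ := exists_conj_rep hx
    obtain ⟨c, hc⟩ := isConj_iff.1 hc
    exact ⟨⟨j, hj⟩, c, (MonoidHom.map_zpowers _ _).trans (congrArg zpowers hc)⟩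

end


/-- PΩ⁺(8, 3) (the commutator subgroup of the isometry group of the hyperbolic quadratic form in dimension 8 over the field with three elements, modulo its centre) has exactly 13 conjugacy classes of subgroups of order 3; and a finite group G whose generalized Fitting subgroup L is isomorphic to PΩ⁺(8, 3) with G/L the symmetric group of degree 3 has exactly 7 orbits, under conjugation, on the subgroups of L of order 3. -/
theorem result {G : Type*} [Group G] [Finite G] (L : Subgroup G) (hL : L = Cfsg.generalizedFittingSubgroup G) (hF : Nonempty (↥L ≃* Cfsg.POmega (ZMod 3) (Cfsg.quadFormPlus 4 (ZMod 3)))) [hn : L.Normal] (hq : Nonempty (G ⧸ L ≃* Equiv.Perm (Fin 3))) : (∃ Y : Fin 13 → Subgroup (Cfsg.POmega (ZMod 3) (Cfsg.quadFormPlus 4 (ZMod 3))), (∀ i, Nat.card (Y i) = 3) ∧ (∀ i j, (∃ g : Cfsg.POmega (ZMod 3) (Cfsg.quadFormPlus 4 (ZMod 3)), (Y i).map (MulAut.conj g).toMonoidHom = Y j) → i = j) ∧ (∀ X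 : Subgroup (Cfsg.POmega (ZMod 3) (Cfsg.quadFormPlus 4 (ZMod 3))), Nat.card X = 3 → ∃ i, ∃ g : Cfsg.POmega (ZMod 3) (Cfsg.quadFormPlus 4 (ZMod 3)), X.map (MulAut.conj g).toMonoidHom = Y i)) ∧ ∃ Y : Fin 7 → Subgroup G, (∀ i, Y i ≤ L ∧ Nat.card (Y i) = 3) ∧ (∀ i j, (∃ g : G, (Y i).map (MulAut.conj g).toMonoidHom = Y j) → i = j) ∧ ∀ X : Subgroup G, X ≤ L → Nat.card X = 3 → ∃ i, ∃ g : G, X.map (MulAut.conj g).toMonoidHom = Y i := by
  refine ⟨part1, ?_⟩
  subst hL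
  obtain ⟨e⟩ := hF
  obtain ⟨f⟩ := hq
  have h2 : (2 : ZMod 3) ≠ 0 := by decide
  obtain ⟨o⟩ := H29.out_po8_odd h2 ((H29.negO_mem_iff (H28.qPlus 4 (ZMod 3))).2
    ((S0790.result (q := 3) (by simp) (by decide) 4 (by omega)).2 (by decide)))
  have hZ := H68.center_quot_eq_bot (H68.pomega_simple (H28.qPlus_nondeg (F := ZMod 3) 4) (by simp))
  haveI : Unique (RingAut (ZMod 3)) := ⟨⟨1⟩, fun σ => RingEquiv.toRingHom_injective
    (Subsingleton.elim _ _)⟩
  replace o := o.trans MulEquiv.prodUnique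
  exact final hZ H44.centralizer_gfitting_le e f o (orb0 o)

end Cfsg.Agent.S5516
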