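import Cfsg.Statements.S5514
import Cfsg.Agent.H38.O7b
import Cfsg.Agent.S5516

set_option autoImplicit false
open Cfsg

namespace Cfsg.Agent.S5514

open Subgroup H38

local notation "PΩ" => POmega (ZMod 3) (H28.qOdd 3 (ZMod 3))

theorem im_lt : ∀ j < 7, (O7.im j).2.2 < 13 := by decide

theorem ord_f {j : ℕ} (hj : j < 7) : orderOf (O7.f (O7.y j)) = 3 := by
  obtain ⟨c, hc⟩ := isConj_iff.1 (O7.f_y hj).symm
  rw [← hc]
  exact ((MulAut.conj c).orderOf_eq _).trans (O8.orderOf_y (im_lt j hj))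

theorem I_f {j : ℕ} (hj : j < 7) : O8.I (O7.f (O7.y j)) = O8.tab (O7.im j).2.2 := by
  obtain ⟨c, hc⟩ := isConj_iff.1 (O7.f_y hj).symm
  rw [← hc, O8.I_conj, O8.I_y (im_lt j hj)]

theorem ord_y {j : ℕ} (hj : j < 7) : orderOf (O7.y j) = 3 :=
  haveI : Fact (Nat.Prime 3) := ⟨Nat.prime_three⟩
  orderOf_eq_prime (O7.y_cube hj) fun h => by
    have := ord_f hj
    rw [h, map_one, orderOf_one] at this
    omega

theorem main : ∃ Y : Fin 7 → Subgroup PΩ, (∀ i, Nat.card (Y i) = 3) ∧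
    (∀ i j, (∃ g : PΩ, (Y i).map (MulAut.conj g).toMonoidHom = Y j) → i = j) ∧
    ∀ X : Subgroup PΩ, Nat.card X = 3 → ∃ i, ∃ g : PΩ, X.map (MulAut.conj g).toMonoidHom = Y i := by
  refine ⟨fun k => zpowers (O7.y k), fun k => (Nat.card_zpowers _).trans (ord_y k.2),
    fun k l ⟨c, e⟩ => ?_, fun X hX => ?_⟩
  · have e0 : zpowers (c * O7.y k * c⁻¹) = zpowers (O7.y l) :=
      (MonoidHom.map_zpowers (MulAut.conj c).toMonoidHom (O7.y k)).symm.trans e
    have e1 := congrArg (map O7.f) e0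
    rw [MonoidHom.map_zpowers, MonoidHom.map_zpowers, map_mul, map_mul, map_inv] at e1
    have h := O8.I_of_zpowers (((MulAut.conj (O7.f c)).orderOf_eq _).trans (ord_f k.2)) e1
    rw [MulAut.conj_apply, O8.I_conj, I_f k.2, I_f l.2] at h
    exact (by decide : ∀ k l : Fin 7, (O7.im k).2.2 = (O7.im l).2.2 → k = l) k l
      (S5516.tab_inj _ (im_lt _ k.2) _ (im_lt _ l.2) h)
  · obtain ⟨x, hx, rfl⟩ := S5516.exists_gen hX
    obtain ⟨j, hj, hc⟩ := O7.exists_conj_rep hx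
    obtain ⟨c, hc⟩ := isConj_iff.1 hc
    exact ⟨⟨j, hj⟩, c, (MonoidHom.map_zpowers _ _).trans (congrArg zpowers hc)⟩

/-- The commutator subgroup of the isometry group of a non-degenerate 7-dimensional quadratic form over the field with three elements, modulo its (trivial) centre — the simple group Ω(7, 3) — has exactly seven conjugacy classes of subgroups of order 3. -/
theorem result : ∃ Y : Fin 7 → Subgroup (Cfsg.POmega (ZMod 3) (Cfsg.quadFormOdd 3 (ZMod 3))), (∀ i, Nat.card (Y i) = 3) ∧ (∀ i j, (∃ g : Cfsg.POmega (ZMod 3) (Cfsg.quadFormOdd 3 (ZMod 3)), (Y i).map (MulAut.conj g).toMonoidHom = Y j) → i = j) ∧ (∀ X : Subgroup (Cfsg.POmega (ZMod 3) (Cfsg.quadFormOdd 3 (ZMod 3))), Nat.card X = 3 → ∃ i, ∃ g : Cfsg.POmega (ZMod 3) (Cfsg.quadFormOdd 3 (ZMod 3)), X.map (MulAut.conj g).toMonoidHom = Y i) := by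
  exact main

end Cfsg.Agent.S5514
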