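import Cfsg.Statements.S5515
import Cfsg.Agent.H29.Triality4
import Cfsg.Agent.H44.Components
import Cfsg.Agent.H68.LBO
import Cfsg.Agent.S0790

set_option autoImplicit false
open Cfsg

namespace Cfsg.Agent.S5515

theorem exists_hom {G K : Type*} [Group G] [Finite G] [Group K] (hZ : Subgroup.center K = ⊥)
    [hn : (generalizedFittingSubgroup G).Normal] (e : generalizedFittingSubgroup G ≃* K)
    (e' : G ⧸ generalizedFittingSubgroup G ≃* Equiv.Perm (Fin 3)) (o : Out K ≃* Equiv.Perm (Fin 4)) :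
    ∃ i : Fin 4, Nonempty (G ≃* (MulAction.stabilizer (Equiv.Perm (Fin 4)) i).comap
      ((o : Out K →* _).comp (QuotientGroup.mk' (Inn K)))) := by
  set N := generalizedFittingSubgroup G
  let φ : G →* MulAut K := (MulAut.congr e : _ →* _).comp (MulAut.conjNormal (H := N))
  have hφ : ∀ n : N, φ n = MulAut.conj (e n) := fun n => MulEquiv.ext fun k => by
    obtain ⟨k, rfl⟩ := e.surjective k
    simp only [φ, MonoidHom.comp_apply, MonoidHom.coe_coe, MulAut.congr_apply, MulEquiv.trans_apply,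
      MulEquiv.symm_apply_apply, MulAut.conj_apply, ← map_inv, ← map_mul]
    exact congrArg e (Subtype.ext (MulAut.conjNormal_apply _ _))
  have hi : Function.Injective φ := (injective_iff_map_eq_one φ).2 fun g hg => by
    have h1 : g ∈ N := H44.centralizer_gfitting_le (Subgroup.mem_centralizer_iff.2 fun n hn => by
      have h2 : e (MulAut.conjNormal g ⟨n, hn⟩) = e ⟨n, hn⟩ := by
        simpa [φ] using DFunLike.congr_fun hg (e ⟨n, hn⟩)
      have h3 := congrArg Subtype.val (e.injective h2)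
      rw [MulAut.conjNormal_apply] at h3
      exact (mul_inv_eq_iff_eq_mul.1 h3).symm)
    have h2 : e ⟨g, h1⟩ ∈ Subgroup.center K := Subgroup.mem_center_iff.2 fun k => by
      have := DFunLike.congr_fun ((hφ ⟨g, h1⟩).symm.trans hg) k
      exact (mul_inv_eq_iff_eq_mul.1 this).symm
    rw [hZ, Subgroup.mem_bot, map_eq_one_iff _ e.injective] at h2
    exact congrArg Subtype.val h2
  set π := (o : Out K →* Equiv.Perm (Fin 4)).comp (QuotientGroup.mk' (Inn K)) with hπ
  have hk : ∀ α, π α = 1 ↔ α ∈ Inn K := fun α => by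
    simp [hπ, QuotientGroup.eq_one_iff]
  have hN : N = (π.comp φ).ker := Subgroup.ext fun g => by
    rw [MonoidHom.mem_ker, MonoidHom.comp_apply, hk]
    refine ⟨fun h => ⟨_, (hφ ⟨g, h⟩).symm⟩, fun ⟨k, h⟩ => ?_⟩
    obtain ⟨n, rfl⟩ := e.surjective k
    exact hi ((hφ n).trans h) ▸ n.2
  let f : Equiv.Perm (Fin 3) →* Equiv.Perm (Fin 4) :=
    (QuotientGroup.lift N (π.comp φ) hN.le).comp (e'.symm : _ →* _)
  have hf : Function.Injective f :=
    ((QuotientGroup.injective_lift_iff _ _ hN.le).2 hN).comp e'.symm.injective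
  have hr : f.range = (π.comp φ).range := Subgroup.ext fun x =>
    ⟨fun ⟨s, h⟩ => by
      obtain ⟨q, rfl⟩ := e'.surjective s
      obtain ⟨g, rfl⟩ := QuotientGroup.mk_surjective q
      exact ⟨g, by simpa [f] using h⟩, fun ⟨g, h⟩ => ⟨e' g, by simpa [f] using h⟩⟩
  have key : ∀ a b : Equiv.Perm (Fin 4), a * a * a = 1 → a ≠ 1 → b * a = a * a * b →
      ∃ i, a i = i ∧ b i = i := by decide +kernel
  obtain ⟨i, h1, h2⟩ := key (f (finRotate 3)) (f (Equiv.swap 0 1))
    (by rw [← map_mul, ← map_mul, ← map_one f]; congr 1; decide)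
    (fun h => absurd (hf (h.trans (map_one f).symm)) (by decide))
    (by simp only [← map_mul]; congr 1; decide)
  have h3 : f.range ≤ MulAction.stabilizer (Equiv.Perm (Fin 4)) i := by
    rintro _ ⟨s, rfl⟩
    have : ∀ s : Equiv.Perm (Fin 3), ∃ j k : Fin 3, s = finRotate 3 ^ j.1 * Equiv.swap 0 1 ^ k.1 := by
      decide
    obtain ⟨j, k, rfl⟩ := this s
    rw [map_mul, map_pow, map_pow]
    exact mul_mem (pow_mem h1 _) (pow_mem h2 _)
  have h4 : f.range = MulAction.stabilizer (Equiv.Perm (Fin 4)) i :=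
    Subgroup.eq_of_le_of_card_ge h3 (by
      have h5 := (MulAction.stabilizer (Equiv.Perm (Fin 4)) i).card_mul_index
      rw [MulAction.index_stabilizer_of_transitive, Nat.card_perm] at h5
      rw [← Nat.card_congr (f.ofInjective hf).toEquiv, Nat.card_perm]
      simp only [Nat.card_eq_fintype_card, Fintype.card_fin, Nat.factorial] at h5 ⊢
      omega)
  refine ⟨i, ⟨(φ.ofInjective hi).trans (MulEquiv.subgroupCongr ?_)⟩⟩
  rw [← h4, hr, MonoidHom.range_comp π φ, Subgroup.comap_map_eq, eq_comm, sup_eq_left]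
  intro α hα
  obtain ⟨k, rfl⟩ := (hk α).1 hα
  obtain ⟨n, rfl⟩ := e.surjective k
  exact ⟨n, hφ n⟩

/-- Let G and G′ be finite groups whose generalized Fitting subgroups are isomorphic to PΩ⁺(8, 3) (the commutator subgroup of the isometry group of the hyperbolic quadratic form in dimension 8 over the field with three elements, modulo its centre) with quotients isomorphic to the symmetric group of degree 3. Then G and G′ are isomorphic. -/
theorem result {G G' : Type*} [Group G] [Finite G] [Group G'] [Finite G'] (hF : Nonempty (↥(Cfsg.generalizedFittingSubgroup G) ≃* Cfsg.POmega (ZMod 3) (Cfsg.quadFormPlus 4 (ZMod 3)))) (hF' : Nonempty (↥(Cfsg.generalizedFittingSubgroup G') ≃* Cfsg.POmega (ZMod 3) (Cfsg.quadFormPlus 4 (ZMod 3)))) [hn : (Cfsg.generalizedFittingSubgroup G).Normal] [hn' : (Cfsg.generalizedFittingSubgroup G').Normal] (hq : Nonempty (G ⧸ Cfsg.generalizedFittingSubgroup G ≃* Equiv.Perm (Fin 3))) (hq' : Nonempty (G' ⧸ Cfsg.generalizedFittingSubgroup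 G' ≃* Equiv.Perm (Fin 3))) : Nonempty (G ≃* G') := by
  obtain ⟨e⟩ := hF
  obtain ⟨e'⟩ := hF'
  obtain ⟨f⟩ := hq
  obtain ⟨f'⟩ := hq'
  have h2 : (2 : ZMod 3) ≠ 0 := by decide
  obtain ⟨o⟩ := H29.out_po8_odd h2 ((H29.negO_mem_iff (H28.qPlus 4 (ZMod 3))).2
    ((S0790.result (q := 3) (by simp) (by decide) 4 (by omega)).2 (by decide)))
  have hZ := H68.center_quot_eq_bot (H68.pomega_simple (H28.qPlus_nondeg (F := ZMod 3) 4) (by simp))
  haveI : Unique (RingAut (ZMod 3)) := ⟨⟨1⟩, fun σ => RingEquiv.toRingHom_injective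
    (Subsingleton.elim _ _)⟩
  obtain ⟨i, ⟨a⟩⟩ := exists_hom hZ e f (o.trans MulEquiv.prodUnique)
  obtain ⟨j, ⟨b⟩⟩ := exists_hom hZ e' f' (o.trans MulEquiv.prodUnique)
  obtain ⟨x, hx⟩ := (o.trans MulEquiv.prodUnique).surjective (Equiv.swap i j)
  obtain ⟨α, rfl⟩ := QuotientGroup.mk_surjective x
  refine ⟨a.trans ((H29.subgroupEquivOfIff (MulAut.conj α) _ _ fun g => ?_).trans b.symm)⟩
  simp only [Subgroup.mem_comap, MulAction.mem_stabilizer_iff, MulAut.conj_apply, map_mul, map_inv,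
    MonoidHom.comp_apply, QuotientGroup.mk'_apply, MonoidHom.coe_coe, hx, Equiv.Perm.smul_def,
    Equiv.Perm.mul_apply, Equiv.swap_inv, Equiv.swap_apply_right, Equiv.swap_apply_eq_iff]

end Cfsg.Agent.S5515
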