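import Cfsg.Statements.S5522
import Cfsg.Agent.H14.Mathieu

set_option autoImplicit false
open Cfsg

namespace Cfsg.Agent.S5522

open Cfsg.Agent.H14

/-- a fixed point outside the dodecad, or the fourth power is trivial while the square is not, or the eighth power is trivial while the fourth power is not -/
noncomputable def chk (P : ℕ) : Bool :=
  anyN (nat_lit 24) (fun i => Nat.beq (app (nat_lit 5) (nat_lit 32) P i) i && !(tb (nat_lit 340831) i)) ||
    force (comp (nat_lit 5) (nat_lit 32) (nat_lit 24) P P) fun Q =>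
      !(Nat.beq Q (idP (nat_lit 5) (nat_lit 24))) &&
        Nat.beq (powP (nat_lit 5) (nat_lit 32) (nat_lit 24) Q 4) (idP (nat_lit 5) (nat_lit 24))

theorem chk_all : allElts (nat_lit 5) (nat_lit 32) (nat_lit 24) chk m12CertL.tail
    (idP (nat_lit 5) (nat_lit 24)) = true := by decide +kernel


/-- The Mathieu group M₁₁, realised as the stabiliser of one point of the dodecad of squares inside the stabiliser M₁₂ of that dodecad in M₂₄, acts on the twelve coordinate positions outside the dodecad of squares (its 3-transitive action of degree 12); in this action every element of prime order fixes a point, i.e. the action is elusive. -/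
theorem result (g : Equiv.Perm Cfsg.GolayPt) (hg : g ∈ Cfsg.Spor.M11) (hord : (orderOf g).Prime) :
    ∃ x : Cfsg.GolayPt, x ∉ Cfsg.Spor.squareDodecad ∧ g x = x := by
  have h := m11_chain.forall_of_allElts chk_all g hg
  simp only [chk, Bool.or_eq_true, anyN_iff, Bool.and_eq_true, beq_iff, force_eq,
    Bool.not_eq_true', ← GE.pk_mul, ← GE.pk_pow, ← GE.pk_one, GE.pk_inj] at h
  rcases h with ⟨i, hi, h1, h2⟩ | ⟨h1, h2⟩
  · refine ⟨GE.pt i, ?_, by rw [GE.apply_pt g hi, h1]⟩
    rw [squareDodecad_eq, mem_bits, ← tb_eq]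
    have : idx (GE.pt i) = i := GE.ix_pt i hi
    rw [this]
    simpa using h2
  · exfalso
    have h3 : orderOf g ∣ 2 ^ 3 := orderOf_dvd_of_pow_eq_one (by
      rw [← h2, ← sq, ← pow_mul]; rfl)
    have h4 := (Nat.prime_dvd_prime_iff_eq hord Nat.prime_two).1 (hord.dvd_of_dvd_pow h3)
    have h5 : g * g = 1 := by rw [← sq, ← h4, pow_orderOf_eq_one]
    rw [h5, ← Bool.not_eq_true, beq_iff] at h1
    exact h1 rfl

end Cfsg.Agent.S5522
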