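import Cfsg.Statements.S5571
import Cfsg.Agent.SGJ4.Rep
import Cfsg.Agent.SGJ4.Main
import Cfsg.Agent.H80.J4AG

set_option autoImplicit false
open Cfsg

namespace Cfsg.Agent.S5571

open Subgroup SGJ4 H80.J4A H70

/-- Let G be a finite non-abelian simple group of Janko-four type (an involution z whose centralizer H has an extraspecial largest normal 2-subgroup E of order 2^13 containing its centralizer in H, a normal subgroup N ≥ E of H with N/E of order 3 and H/N the automorphism group of M₂₂, and a subgroup P ≤ N of order 3 with C_E(P) = ⟨z⟩, N_H(P) ≠ C_H(P) and P ≤ C_H(P)′). Let A be a self-centralizing elementary abelian subgroup of G of order 2^10. Then under conjugation by the normalizer of A the non-identity elements of A fall into two orbits, of lengths 155 and 868. -/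
theorem result {G : Type*} [Group G] [Finite G] [IsSimpleGroup G] (hG : ¬ IsMulCommutative G) (hJ : Cfsg.IsOfJankoFourType G) (A : Subgroup G) (hA : Cfsg.IsElementaryAbelian 2 A) (hcard : Nat.card ↥A = 2 ^ 10) (hself : Subgroup.centralizer (A : Set G) = A) :
    ∃ a b : G, a ∈ A ∧ b ∈ A ∧ Set.ncard {v : G | ∃ n ∈ Subgroup.normalizer (A : Set G), n * a * n⁻¹ = v} = 155 ∧
    Set.ncard {v : G | ∃ n ∈ Subgroup.normalizer (A : Set G), n * b * n⁻¹ = v} = 868 := by
  obtain ⟨z, P, hJ⟩ := hJ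
  obtain ⟨S1, -⟩ := exists_setup1 hJ
  obtain ⟨S, -⟩ := S1.exists_setup
  obtain ⟨g, rfl⟩ := exists_eq_cj (S := S) hA hcard hself
  have k : ∀ a : G, {v : G | ∃ n ∈ normalizer (cj g (AA S) : Set G), n * (g * a * g⁻¹) * n⁻¹ = v}.ncard =
      {v : G | ∃ n ∈ NA S, n * a * n⁻¹ = v}.ncard := fun a => by
    rw [← cj_normalizer, ← Set.ncard_image_of_injective {v : G | ∃ n ∈ NA S, n * a * n⁻¹ = v}
      (MulAut.conj g).injective]
    congr 1
    ext v
    refine ⟨fun ⟨n, hn, e⟩ => ⟨_, ⟨_, mem_cj.1 hn, rfl⟩, ?_⟩, ?_⟩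
    · rw [← e, MulAut.conj_apply]; group
    · rintro ⟨_, ⟨n, hn, rfl⟩, rfl⟩
      exact ⟨_, conj_mem_cj g hn, by rw [MulAut.conj_apply]; group⟩
  refine ⟨_, _, conj_mem_cj g (ka_mem (Vb.of 2)), conj_mem_cj g (ka_mem (Vb.of 3)), ?_, ?_⟩
  · rw [k, orb (Or.inl rfl), ncard_ka (f := fun n => Nat.beq (zt n) (zt 2))]; decide +kernel
  · rw [k, orb (Or.inr rfl), ncard_ka (f := fun n => Nat.beq (zt n) (zt 3))]; decide +kernel

end Cfsg.Agent.S5571
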