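import Cfsg.Statements.S5574
import Cfsg.Agent.SGJ4.Rep
import Cfsg.Agent.SGJ4.Main
import Cfsg.Agent.SGJ4.FiveSeven

set_option autoImplicit false
open Cfsg

namespace Cfsg.Agent.S5574

open Subgroup SGJ4 H60.J4 H49

theorem exists_sylow {G : Type*} [Group G] [Finite G] {p : ℕ} (hp : p.Prime)
    (h : ¬ p * p ∣ Nat.card G) {x : G} (hx : orderOf x = p) :
    ∃ Q : Sylow p G, (Q : Subgroup G) = zpowers x :=
  haveI : Fact p.Prime := ⟨hp⟩
  ⟨(IsPGroup.of_card (G := zpowers x) (n := 1)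
    (by rw [Nat.card_zpowers, hx, pow_one])).toSylow fun k => h (by
    rw [← card_mul_index (zpowers x), Nat.card_zpowers, hx]; exact Nat.mul_dvd_mul_left p k), rfl⟩

/-- Let G be a finite non-abelian simple group of Janko-four type (an involution z whose centralizer H has an extraspecial largest normal 2-subgroup E of order 2^13 containing its centralizer in H, a normal subgroup N ≥ E of H with N/E of order 3 and H/N the automorphism group of M₂₂, and a subgroup P ≤ N of order 3 with C_E(P) = ⟨z⟩, N_H(P) ≠ C_H(P) and P ≤ C_H(P)′). Then G has a special 2-subgroup L of order 2^15 with centre of order 8 whose normalizer M satisfies: M/L is isomorphic to the direct product of the symmetric group of degree 5 and L₃(2); L has no complement in M; M nevertheless contains subgroups isomorphic to the symmetric group of degree 5 and to L₃(2); and M contains the normalizer of some Sylow 5-subgroup and of some Sylow 7-subgroup of G. -/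
theorem result {G : Type*} [Group G] [Finite G] [IsSimpleGroup G] (hG : ¬ IsMulCommutative G) (hJ : Cfsg.IsOfJankoFourType G) :
    ∃ L : Subgroup G, Cfsg.IsSpecial 2 ↥L ∧ Nat.card ↥L = 2 ^ 15 ∧ Nat.card ↥(Subgroup.center ↥L) = 8 ∧
    Nonempty (↥(Subgroup.normalizer (L : Set G)) ⧸ L.subgroupOf (Subgroup.normalizer (L : Set G)) ≃* Equiv.Perm (Fin 5) × Matrix.SpecialLinearGroup (Fin 3) (ZMod 2)) ∧
    (∀ K : Subgroup ↥(Subgroup.normalizer (L : Set G)), ¬ (L.subgroupOf (Subgroup.normalizer (L : Set G))).IsComplement' K) ∧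
    (∃ K₁ : Subgroup G, K₁ ≤ Subgroup.normalizer (L : Set G) ∧ Nonempty (↥K₁ ≃* Equiv.Perm (Fin 5))) ∧
    (∃ K₂ : Subgroup G, K₂ ≤ Subgroup.normalizer (L : Set G) ∧ Nonempty (↥K₂ ≃* Matrix.SpecialLinearGroup (Fin 3) (ZMod 2))) ∧
    (∃ Q : Sylow 5 G, Subgroup.normalizer ((Q : Subgroup G) : Set G) ≤ Subgroup.normalizer (L : Set G)) ∧
    (∃ S : Sylow 7 G, Subgroup.normalizer ((S : Subgroup G) : Set G) ≤ Subgroup.normalizer (L : Set G)) := by
  obtain ⟨z, P, hJ⟩ := hJ
  obtain ⟨S1, -⟩ := exists_setup1 hJ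
  obtain ⟨S, -⟩ := S1.exists_setup
  obtain ⟨x, r, g, h, h5⟩ := exists_five S S.not_dvd_25
  obtain ⟨s, os, ⟨I, i1, -, i2⟩, -, -, h7⟩ := exists_seven_G S S.not_dvd_49
  obtain ⟨φ, hρ, hs, hk⟩ := exists_phi S
  have key : ∀ (M : Subgroup G) [((LL S.toSetup1).subgroupOf M).Normal], 𝒩(ZZ S.toSetup1) = M →
      Nonempty (M ⧸ (LL S.toSetup1).subgroupOf M ≃* S5 × L3) ∧
        ∀ K : Subgroup M, ¬ ((LL S.toSetup1).subgroupOf M).IsComplement' K := by
    rintro _ _ rfl
    exact ⟨⟨(QuotientGroup.quotientMulEquivOfEq (Subgroup.ext fun m => (hk m).symm)).trans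
      (QuotientGroup.quotientKerEquivOfSurjective φ hs)⟩,
      h.nonsplit φ hρ hs hk (fun _ => pow_four_LL) S.not_dvd_25⟩
  obtain ⟨k1, k2⟩ := key _ norm_LL.symm
  obtain ⟨Q, hQ⟩ := exists_sylow (by decide) S.not_dvd_25 h.ord
  obtain ⟨T, hT⟩ := exists_sylow (by decide) S.not_dvd_49 os
  refine ⟨LL S.toSetup1, special_LL, card_LL, ?_, k1, k2, ?_⟩
  · rw [center_LL, card_subgroupOf_of_le ZZ_le_LL, card_ZZ]
  · rw [norm_LL]
    exact ⟨⟨I, i1, i2⟩, ⟨_, K2_le_norm, ⟨MulEquiv.ofBijective _ (K2_bij hρ)⟩⟩, ⟨Q, hQ ▸ h5⟩,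
      T, hT ▸ h7⟩

end Cfsg.Agent.S5574
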