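import Cfsg.Statements.S5579
import Cfsg.Agent.SGJ4.Rep
import Cfsg.Agent.SGJ4.Main
import Cfsg.Agent.SGJ4.ClsE
import Cfsg.Agent.S5577
-- import your own Cfsg.Agent.* helpers here

set_option autoImplicit false
open Cfsg

namespace Cfsg.Agent.S5579

/-- Let G be a finite non-abelian simple group of Janko-four type (an involution z whose centralizer H has an extraspecial largest normal 2-subgroup E of order 2^13 containing its centralizer in H, a normal subgroup N ≥ E of H with N/E of order 3 and H/N the automorphism group of M₂₂, and a subgroup P ≤ N of order 3 with C_E(P) = ⟨z⟩, N_H(P) ≠ C_H(P) and P ≤ C_H(P)′). Then G has exactly 62 conjugacy classes. -/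
theorem result {G : Type*} [Group G] [Finite G] [IsSimpleGroup G] (hG : ¬ IsMulCommutative G) (hJ : Cfsg.IsOfJankoFourType G) :
    Nat.card (ConjClasses G) = 62 := by
  have h23 : Fact (Nat.Prime 23) := ⟨by decide⟩
  have h29 : Fact (Nat.Prime 29) := ⟨by decide⟩
  have h31 : Fact (Nat.Prime 31) := ⟨by decide⟩
  have h37 : Fact (Nat.Prime 37) := ⟨by decide⟩
  have h43 : Fact (Nat.Prime 43) := ⟨by decide⟩
  obtain ⟨k1, k2, k3, k4, k5⟩ := Cfsg.Agent.S5577.result hG hJ
  obtain ⟨z, P, hJ⟩ := hJ
  obtain ⟨S1, -⟩ := SGJ4.exists_setup1 hJ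
  obtain ⟨S, -⟩ := S1.exists_setup
  exact SGJ4.Cls.card_classes S
    (SGJ4.Cls.blk_big S (by decide) (by decide) k1 [1] (by decide) (by decide))
    (SGJ4.Cls.blk_big S (by decide) (by decide) k2 [1] (by decide) (by decide))
    (SGJ4.Cls.blk_big S (by decide) (by decide) k3 [1, 3, 5] (by decide) (by decide))
    (SGJ4.Cls.blk_big S (by decide) (by decide) k4 [1, 2, 3] (by decide) (by decide))
    (SGJ4.Cls.blk_big S (by decide) (by decide) k5 [1, 3, 7] (by decide) (by decide))

end Cfsg.Agent.S5579
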