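import Cfsg.Statements.S5585
import Cfsg.Agent.J4P.Main
import Cfsg.Agent.H7.J4Rec
import Cfsg.Agent.S1265

set_option autoImplicit false
open Cfsg

namespace Cfsg.Agent.S5585

open Cfsg.Agent.SGJ4 Cfsg.Agent.J4P Cfsg.Agent.H14 Subgroup
open scoped commutatorElement

theorem exists_not_comm : ∃ a ∈ Spor.M22.subgroupOf M22x, ∃ b ∈ Spor.M22.subgroupOf M22x,
    ⁅a, b⁆ ≠ 1 := by
  by_contra! h
  have h1 := p_mem_M22x _ (X_le_Hb u0_mem)
  have h2 := X49.eq_one_of_cent h1.1 fun x hx => congrArg Subtype.val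
    (commutatorElement_eq_one_iff_mul_comm.1
      (h ⟨_, h1⟩ ((mem_M22_iff h1).2 inner_u0) ⟨x, M22_le_M22x hx⟩ hx))
  simpa [h2] using X49.orderOf_p u0_mem X49.u0_sq X49.u0_ne

section
variable {H : Type*} [Group H] {σ : H →* M22x} (hσ : Function.Surjective σ)
include hσ

theorem le_sup_ker {D : Subgroup H} [hD : D.Normal]
    (h : ⁅(Spor.M22.subgroupOf M22x).comap σ, (Spor.M22.subgroupOf M22x).comap σ⁆ ≤ D) :
    (Spor.M22.subgroupOf M22x).comap σ ≤ D ⊔ σ.ker := by
  have := hD.map _ hσ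
  rw [← comap_map_eq]
  refine comap_mono ((normal_M22x (D.map σ)).resolve_left fun e => ?_)
  obtain ⟨a, ha, b, hb, hab⟩ := exists_not_comm
  obtain ⟨a, rfl⟩ := hσ a
  obtain ⟨b, rfl⟩ := hσ b
  rw [← map_commutatorElement] at hab
  exact hab ((Subgroup.map_eq_bot_iff _).1 e (h (commutator_mem_commutator ha hb)))

variable [Finite H] {Q : Subgroup H} [Q.Normal] (hQ : Q ≤ σ.ker)
  (h3 : Nat.card σ.ker = 3 * Nat.card Q)
include hQ h3

omit hσ in
theorem card_map_mk : Nat.card (σ.ker.map (QuotientGroup.mk' Q)) = 3 := by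
  have h := card_eq_ker_mul_map (QuotientGroup.mk' Q) σ.ker
  rw [QuotientGroup.ker_mk', inf_eq_right.2 hQ, h3, mul_comm] at h
  exact (Nat.eq_of_mul_eq_mul_left Nat.card_pos h).symm

theorem cent : ⁅(Spor.M22.subgroupOf M22x).comap σ, σ.ker⁆ ≤ Q := by
  have : Fact (Nat.Prime 3) := ⟨by decide⟩
  have := σ.normal_ker.map _ (QuotientGroup.mk'_surjective Q)
  have := isCyclic_of_prime_card (card_map_mk hQ h3)
  let φ := (MulAut.conjNormal (H := σ.ker.map (QuotientGroup.mk' Q))).comp (QuotientGroup.mk' Q)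
  have h1 : commutator H ≤ φ.ker := fun g hg => (IsCyclic.mulAutMulEquiv _).map_eq_one_iff.1
    (Abelianization.commutator_subset_ker ((IsCyclic.mulAutMulEquiv _).toMonoidHom.comp φ) hg)
  have h2 : σ.ker ≤ φ.ker := fun n hn => MulEquiv.ext fun x => Subtype.ext
    (mul_inv_eq_iff_eq_mul.2 (congrArg Subtype.val
      (mul_comm' (⟨_, mem_map_of_mem (QuotientGroup.mk' Q) hn⟩ : σ.ker.map _) x)))
  have h4 := (le_sup_ker hσ ((commutator_mono le_top le_top).trans h1)).trans (sup_le le_rfl h2)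
  refine commutator_le.2 fun m hm n hn => (QuotientGroup.eq_one_iff _).1 ?_
  have h5 := congrArg Subtype.val
    (DFunLike.congr_fun (h4 hm) ⟨_, mem_map_of_mem (QuotientGroup.mk' Q) hn⟩)
  rw [← QuotientGroup.mk'_apply, map_commutatorElement, commutatorElement_def, mul_inv_eq_one]
  exact h5

theorem perf (hns : ∀ K : Subgroup H, K ⊓ σ.ker = Q → K ⊔ σ.ker = ⊤ → False) :
    (Spor.M22.subgroupOf M22x).comap σ ≤
      ⁅(Spor.M22.subgroupOf M22x).comap σ, (Spor.M22.subgroupOf M22x).comap σ⁆ ⊔ Q := by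
  have : Fact (Nat.Prime 3) := ⟨by decide⟩
  have : Fact (Nat.Prime 2) := ⟨by decide⟩
  have hi := (index_comap_of_surjective (Spor.M22.subgroupOf M22x) hσ).trans index_M22sub
  have := normal_of_index_eq_two hi
  have h1 := le_sup_ker hσ (le_sup_left (b := Q))
  have hN : σ.ker ≤ _ := ker_le_comap σ (Spor.M22.subgroupOf M22x)
  generalize (Spor.M22.subgroupOf M22x).comap σ = M at *
  have hK : ⁅M, M⁆ ⊔ Q ≤ M := sup_le (commutator_le_left _ _) (hQ.trans hN)
  have hQK : Q ≤ ⁅M, M⁆ ⊔ Q := le_sup_right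
  have : (⁅M, M⁆ ⊔ Q).Normal := inferInstance
  generalize ⁅M, M⁆ ⊔ Q = K at *
  refine h1.trans (sup_le le_rfl (by_contra fun hn => ?_))
  have h2 : K ⊓ σ.ker = Q := by
    obtain ⟨c, hc⟩ := card_dvd_of_le (le_inf hQK hQ)
    have h4 := card_dvd_of_le (inf_le_right (a := K) (b := σ.ker))
    rw [h3, hc, mul_comm, Nat.mul_dvd_mul_iff_right Nat.card_pos, Nat.dvd_prime (by decide)] at h4
    rcases h4 with rfl | rfl
    · exact (eq_of_le_of_card_ge (le_inf hQK hQ) (by omega)).symm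
    · exact absurd (inf_eq_right.1 (eq_of_le_of_card_ge inf_le_right (by omega))) hn
  have h4 : ∀ m ∈ M, QuotientGroup.mk' K m ^ 3 = 1 := fun m hm => by
    obtain ⟨k, hk, n, hn, rfl⟩ := (normal_mul K σ.ker).le (h1 hm)
    have h5 := pow_card_eq_one' (x := (⟨_, mem_map_of_mem (QuotientGroup.mk' Q) hn⟩ : σ.ker.map _))
    rw [card_map_mk hQ h3, Subtype.ext_iff, coe_pow, ← map_pow] at h5
    rw [map_mul, show QuotientGroup.mk' K k = 1 from (QuotientGroup.eq_one_iff _).2 hk, one_mul,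
      ← map_pow]
    exact (QuotientGroup.eq_one_iff _).2 (hQK ((QuotientGroup.eq_one_iff _).1 h5))
  obtain ⟨g, hg⟩ : ∃ g, g ∉ M := by
    by_contra! h
    simp [(eq_top_iff' M).2 h] at hi
  have h5 : g ^ 3 ∉ M := fun h =>
    hg ((mul_mem_cancel_left (sq_mem_of_index_two hi g)).1 (by rwa [← pow_succ]))
  have h6 : orderOf (QuotientGroup.mk' K (g ^ 3)) = 2 := orderOf_eq_prime
    (by rw [← h4 _ (sq_mem_of_index_two hi g), ← map_pow, ← map_pow, ← pow_mul, ← pow_mul])
    fun e => h5 (hK ((QuotientGroup.eq_one_iff _).1 e))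
  have h7 : K ≤ (zpowers (QuotientGroup.mk' K (g ^ 3))).comap (QuotientGroup.mk' K) :=
    (QuotientGroup.ker_mk' K).ge.trans (ker_le_comap _ _)
  refine hns ((zpowers (QuotientGroup.mk' K (g ^ 3))).comap (QuotientGroup.mk' K))
    (le_antisymm (fun x hx => h2.le ⟨?_, hx.2⟩) (le_inf (hQK.trans h7) hQ))
    (eq_top_iff.2 fun x _ => ?_)
  · refine (QuotientGroup.eq_one_iff _).1 ((RepAux.mem_zpowers_two h6 hx.1).resolve_right
      fun e => h5 ?_)
    exact (mul_mem_cancel_left (inv_mem (hN hx.2))).1 (hK (QuotientGroup.eq.1 e))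
  · have h8 := h1.trans (sup_le_sup_right h7 _)
    by_cases hx : x ∈ M
    · exact h8 hx
    · exact (mul_mem_cancel_left (mem_sup_left (mem_comap.2 (mem_zpowers _)))).1
        (h8 ((mul_mem_iff_of_index_two hi).2 (iff_of_false h5 hx)))

end

/-- Let G be a finite non-abelian simple group with an involution τ whose centralizer C has generalized Fitting subgroup an extraspecial 2-group Q of order 2^13 of plus type (Q contains an elementary abelian subgroup of order 2^7), with a normal subgroup N ≥ Q of C such that N/Q has order 3 and is not complemented in C/Q, and C/N isomorphic to the automorphism group of M₂₂; suppose some conjugate of τ other than τ lies in Q. Then G is isomorphic to the fourth Janko group. -/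
theorem result {G : Type*} [Group G] [Finite G] [IsSimpleGroup G] (hG : ¬ IsMulCommutative G) (τ : G) (Q N : Subgroup ↥(Subgroup.centralizer ({τ} : Set G))) [Q.Normal] [N.Normal] (hS : Cfsg.IsExtraspecialCentralizerSetting τ Q 6) (hplus : ∃ E : Subgroup ↥Q, Cfsg.IsElementaryAbelian 2 E ∧ Nat.card ↥E = 2 ^ 7) (hQN : Q ≤ N) (hN3 : Nat.card ↥N = 3 * Nat.card ↥Q) (hns : ∀ K : Subgroup ↥(Subgroup.centralizer ({τ} : Set G)), K ⊓ N = Q → K ⊔ N = ⊤ → False) (hAut : Nonempty (↥(Subgroup.centralizer ({τ} : Set G)) ⧸ N ≃* MulAut ↥Cfsg.Spor.M22)) :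
    Cfsg.Spor.IsoJ4 G := by
  obtain ⟨ht, hF, hQ, hcard, -⟩ := hS
  obtain ⟨ψ⟩ := hAut
  obtain ⟨f, -⟩ := exists_autM22
  let σ := (ψ.trans f.symm).toMonoidHom.comp (QuotientGroup.mk' N)
  have hσ : Function.Surjective σ :=
    (ψ.trans f.symm).surjective.comp (QuotientGroup.mk'_surjective N)
  have hk : σ.ker = N := Subgroup.ext fun _ =>
    (ψ.trans f.symm).map_eq_one_iff.trans (QuotientGroup.eq_one_iff _)
  clear_value σ
  subst hk
  have hi := (index_comap_of_surjective (Spor.M22.subgroupOf M22x) hσ).trans index_M22sub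
  have := normal_of_index_eq_two hi
  let θ : (Spor.M22.subgroupOf M22x).comap σ →* Spor.M22 :=
    ((M22x.subtype.comp σ).comp (Subgroup.subtype _)).codRestrict _ fun m => m.2
  have h1 : θ.ker = σ.ker.subgroupOf _ := by
    ext m
    rw [MonoidHom.mem_ker, mem_subgroupOf, MonoidHom.mem_ker, Subtype.ext_iff, Subtype.ext_iff]
    rfl
  have h2 : Function.Surjective θ := fun g =>
    let ⟨h, e⟩ := hσ ⟨g, M22_le_M22x g.2⟩
    ⟨⟨h, by rw [mem_comap, e]; exact g.2⟩, Subtype.ext (congrArg Subtype.val e :)⟩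
  have tC : τ ∈ centralizer ({τ} : Set G) := mem_centralizer_singleton_iff.2 rfl
  obtain ⟨p, π, h1, h2, h3, h4, h5⟩ := H7.J4.exists_pre (z := ⟨τ, tC⟩)
    (by rw [← orderOf_coe]; exact ht)
    (fun h => Subtype.ext (mem_centralizer_singleton_iff.1 h.2)) hQN (ker_le_comap _ _) hi hQ hcard
    hN3 (cent hσ hQN hN3) (perf hσ hQN hN3 hns) (hF ▸ S1265.result) (fun c hc => by
      refine ker_le_comap _ _ (Subtype.ext (X49.eq_one_of_cent (σ c).2.1 fun x hx => ?_))
      obtain ⟨m, e⟩ := hσ ⟨x, M22_le_M22x hx⟩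
      have := hc m (by rw [mem_comap, e]; exact hx)
      rw [MonoidHom.mem_ker, map_mul, map_mul, map_mul, map_inv, map_inv, mul_inv_eq_one,
        mul_inv_eq_iff_eq_mul, e] at this
      exact congrArg Subtype.val this)
    ((QuotientGroup.quotientMulEquivOfEq h1.symm).trans
      (QuotientGroup.quotientKerEquivOfSurjective θ h2))
  have czp : ∀ s, ((zp (⟨τ, tC⟩ : centralizer ({τ} : Set G)) s :
      centralizer ({τ} : Set G)) : G) = zp τ s := fun s => by
    unfold zp; split_ifs <;> rfl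
  exact isoJ4_of_setup1 (G := G) ⟨τ, p, π, ht, (orderOf_coe p).trans h1, p.2, h2, h3,
    fun h e => (h4 h e).imp (congrArg Subtype.val) (congrArg Subtype.val),
    fun h v e => (congrArg Subtype.val (h5 h v e)).trans (czp _)⟩

end Cfsg.Agent.S5585
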