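import Cfsg.Statements.S5586
import Cfsg.Agent.H8.MA.H2

set_option autoImplicit false
open Cfsg

namespace Cfsg.Agent.S5586

/-- The Monster is the only group generated by three subgroups C, N, L of the following kind: the largest normal 2-subgroup of C is extraspecial of order 2^25 of plus type, contains its centralizer in C, and has quotient C modulo it isomorphic to the first Conway group; N modulo its largest normal 2-subgroup is isomorphic to the direct product of the symmetric group of degree 3 and M₂₄; L modulo its largest normal 2-subgroup is the direct product of a normal subgroup isomorphic to L₃(2) and a normal subgroup B of order 2160 having a normal subgroup T of order 3 with B/T the symmetric group of degree 6, with T centralized by a subgroup of index 2 of B and with the commutator subgroup of B perfect of order 1080 (the triple cover of the alternating group of degree 6 extended by an automorphism); and the indices [N :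 N ∩ C] = 3, [L : L ∩ N] = [L : L ∩ C] = 7 and [L : L ∩ N ∩ C] = 21. -/
theorem result {G : Type*} [Group G] (C N L : Subgroup G) (hgen : C ⊔ N ⊔ L = ⊤)
    (hQ : Cfsg.IsExtraspecial 2 ↥((Cfsg.pCore 2 ↥C).map C.subtype)) (hQc : Nat.card ↥((Cfsg.pCore 2 ↥C).map C.subtype) = 2 ^ 25)
    (hplus : ∃ E : Subgroup G, E ≤ ((Cfsg.pCore 2 ↥C).map C.subtype) ∧ Cfsg.IsElementaryAbelian 2 E ∧ Nat.card ↥E = 2 ^ 13)
    (hcc : C ⊓ Subgroup.centralizer (((Cfsg.pCore 2 ↥C).map C.subtype) : Set G) ≤ ((Cfsg.pCore 2 ↥C).map C.subtype))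
    (hCo : Cfsg.Spor.IsoCo1 (↥C ⧸ Cfsg.pCore 2 ↥C))
    (hN : Nonempty (↥N ⧸ Cfsg.pCore 2 ↥N ≃* Equiv.Perm (Fin 3) × ↥Cfsg.M24))
    (hL : ∃ A B : Subgroup (↥L ⧸ Cfsg.pCore 2 ↥L), A.Normal ∧ B.Normal ∧ A ⊓ B = ⊥ ∧ A ⊔ B = ⊤ ∧
      Nonempty (↥A ≃* Matrix.SpecialLinearGroup (Fin 3) (ZMod 2)) ∧ Nat.card ↥B = 2160 ∧
      ∃ (T : Subgroup ↥B) (_ : T.Normal), Nat.card ↥T = 3 ∧ Nonempty (↥B ⧸ T ≃* Equiv.Perm (Fin 6)) ∧
        (Subgroup.centralizer (T : Set ↥B)).index = 2 ∧ Nat.card ↥(commutator ↥B) = 1080 ∧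
        ⁅commutator ↥B, commutator ↥B⁆ = commutator ↥B)
    (hNC : C.relIndex N = 3) (hLN : N.relIndex L = 7) (hLC : C.relIndex L = 7) (hLNC : (N ⊓ C).relIndex L = 21) :
    Cfsg.Spor.IsoM G := by
  obtain ⟨z, Q, π, R, M, hs⟩ := H8.MA.exists_rc C hQ hQc hcc hCo
  have := M.finC
  obtain ⟨e⟩ := hN
  obtain ⟨θ, τ, H⟩ := H8.MA.exists_ns e hNC
  obtain ⟨A, B, _, _, h1, h2, ⟨e'⟩, hB, -⟩ := hL
  obtain ⟨f, HL⟩ := H8.MA.exists_ls h1 h2 e' hB hLN hLC hLNC
  obtain ⟨g, y, s, g1, g2, y1, y2, yg, s1, sg⟩ := H.exists_gys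
  obtain ⟨t, D⟩ := H8.MA.Am.exists_gd ⟨M, H, HL, g1, g2, y1, y2, yg, s1, sg⟩
  obtain ⟨k, hX, hO⟩ := D.nf D.not_OQ
  have hs' : Function.Surjective (H8.MA.tw π k) := (MulAut.conj (k : Spor.Co1)).surjective.comp hs
  have := H.fin
  exact ((D.twist k).std hX hO hs' hNC).isoM (eq_top_iff.2 (hgen.ge.trans (sup_le le_rfl
    (HL.gen (inf_le_left.trans le_sup_left) (inf_le_left.trans le_sup_right))))) ((D.twist k).good hX hO hs' hNC)

end Cfsg.Agent.S5586
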