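import Cfsg.Statements.S5588
import Cfsg.Agent.H58.Y5

set_option autoImplicit false
open Cfsg

namespace Cfsg.Agent.S5588

open H58

def code : Spor.Bimonster.Gen → ℕ
  | .a => 1
  | .b1 => 2
  | .c1 => 3
  | .d1 => 4
  | .e1 => 5
  | .f1 => 6
  | .b2 => 7
  | .c2 => 8
  | .d2 => 9
  | .e2 => 10
  | .f2 => 11
  | .b3 => 12
  | .c3 => 13
  | .d3 => 14
  | .e3 => 15
  | .f3 => 16

def L : List (FreeGroup Spor.Bimonster.Gen) := [1, Spor.Bimonster.a, Spor.Bimonster.b1, Spor.Bimonster.c1, Spor.Bimonster.d1, Spor.Bimonster.e1, Spor.Bimonster.f1, Spor.Bimonster.b2, Spor.Bimonster.c2, Spor.Bimonster.d2, Spor.Bimonster.e2, Spor.Bimonster.f2, Spor.Bimonster.b3, Spor.Bimonster.c3, Spor.Bimonster.d3, Spor.Bimonster.e3, Spor.Bimonster.f3]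

def allG : List Spor.Bimonster.Gen := [.a, .b1, .c1, .d1, .e1, .f1, .b2, .c2, .d2, .e2, .f2, .b3, .c3, .d3, .e3, .f3]

theorem hall : ∀ g, g ∈ allG := by intro g; cases g <;> decide

def iv : ℕ := 1286494486701765691415651426368

def rels : List (List ℕ) := [[1, 2, 1, 2, 1, 2],
  [1, 3, 1, 3],
  [1, 4, 1, 4],
  [1, 5, 1, 5],
  [1, 6, 1, 6],
  [1, 7, 1, 7, 1, 7],
  [1, 8, 1, 8],
  [1, 9, 1, 9],
  [1, 10, 1, 10],
  [1, 11, 1, 11],
  [1, 12, 1, 12, 1, 12],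
  [1, 13, 1, 13],
  [1, 14, 1, 14],
  [1, 15, 1, 15],
  [1, 16, 1, 16],
  [2, 3, 2, 3, 2, 3],
  [2, 4, 2, 4],
  [2, 5, 2, 5],
  [2, 6, 2, 6],
  [2, 7, 2, 7],
  [2, 8, 2, 8],
  [2, 9, 2, 9],
  [2, 10, 2, 10],
  [2, 11, 2, 11],
  [2, 12, 2, 12],
  [2, 13, 2, 13],
  [2, 14, 2, 14],
  [2, 15, 2, 15],
  [2, 16, 2, 16],
  [3, 4, 3, 4, 3, 4],
  [3, 5, 3, 5],
  [3, 6, 3, 6],
  [3, 7, 3, 7],
  [3, 8, 3, 8],
  [3, 9, 3, 9],
  [3, 10, 3, 10],
  [3, 11, 3, 11],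
  [3, 12, 3, 12],
  [3, 13, 3, 13],
  [3, 14, 3, 14],
  [3, 15, 3, 15],
  [3, 16, 3, 16],
  [4, 5, 4, 5, 4, 5],
  [4, 6, 4, 6],
  [4, 7, 4, 7],
  [4, 8, 4, 8],
  [4, 9, 4, 9],
  [4, 10, 4, 10],
  [4, 11, 4, 11],
  [4, 12, 4, 12],
  [4, 13, 4, 13],
  [4, 14, 4, 14],
  [4, 15, 4, 15],
  [4, 16, 4, 16],
  [5, 6, 5, 6, 5, 6],
  [5, 7, 5, 7],
  [5, 8, 5, 8],
  [5, 9, 5, 9],
  [5, 10, 5, 10],
  [5, 11, 5, 11],
  [5, 12, 5, 12],
  [5, 13, 5, 13],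
  [5, 14, 5, 14],
  [5, 15, 5, 15],
  [5, 16, 5, 16],
  [6, 7, 6, 7],
  [6, 8, 6, 8],
  [6, 9, 6, 9],
  [6, 10, 6, 10],
  [6, 11, 6, 11],
  [6, 12, 6, 12],
  [6, 13, 6, 13],
  [6, 14, 6, 14],
  [6, 15, 6, 15],
  [6, 16, 6, 16],
  [7, 8, 7, 8, 7, 8],
  [7, 9, 7, 9],
  [7, 10, 7, 10],
  [7, 11, 7, 11],
  [7, 12, 7, 12],
  [7, 13, 7, 13],
  [7, 14, 7, 14],
  [7, 15, 7, 15],
  [7, 16, 7, 16],
  [8, 9, 8, 9, 8, 9],
  [8, 10, 8, 10],
  [8, 11, 8, 11],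
  [8, 12, 8, 12],
  [8, 13, 8, 13],
  [8, 14, 8, 14],
  [8, 15, 8, 15],
  [8, 16, 8, 16],
  [9, 10, 9, 10, 9, 10],
  [9, 11, 9, 11],
  [9, 12, 9, 12],
  [9, 13, 9, 13],
  [9, 14, 9, 14],
  [9, 15, 9, 15],
  [9, 16, 9, 16],
  [10, 11, 10, 11, 10, 11],
  [10, 12, 10, 12],
  [10, 13, 10, 13],
  [10, 14, 10, 14],
  [10, 15, 10, 15],
  [10, 16, 10, 16],
  [11, 12, 11, 12],
  [11, 13, 11, 13],
  [11, 14, 11, 14],
  [11, 15, 11, 15],
  [11, 16, 11, 16],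
  [12, 13, 12, 13, 12, 13],
  [12, 14, 12, 14],
  [12, 15, 12, 15],
  [12, 16, 12, 16],
  [13, 14, 13, 14, 13, 14],
  [13, 15, 13, 15],
  [13, 16, 13, 16],
  [14, 15, 14, 15, 14, 15],
  [14, 16, 14, 16],
  [15, 16, 15, 16, 15, 16],
  [1, 2, 3, 1, 7, 8, 1, 12, 13, 1, 2, 3, 1, 7, 8, 1, 12, 13, 1, 2, 3, 1, 7, 8, 1, 12, 13, 1, 2, 3, 1, 7, 8, 1, 12, 13, 1, 2, 3, 1, 7, 8, 1, 12, 13, 1, 2, 3, 1, 7, 8, 1, 12, 13, 1, 2, 3, 1, 7, 8, 1, 12, 13, 1, 2, 3, 1, 7, 8, 1, 12, 13, 1, 2, 3, 1, 7, 8, 1, 12, 13, 1, 2, 3, 1, 7, 8, 1, 12, 13]]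

open Spor.Bimonster in
def sp : List (FreeGroup Spor.Bimonster.Gen) := [(a * b1 * c1 * a * b2 * c2 * a * b3 * c3) ^ 10]

theorem pres : presOK L (coxAll Spor.Bimonster.edges ++ sp) code iv allG rels = true := by
  decide +kernel

abbrev π := PresentedGroup.mk (Spor.coxRelators Spor.Bimonster.edges ∪ {r | r ∈ sp})

theorem R : RuleOK (elOf π L) rels iv := ruleOK_of_presOK π hall (mk_allRels _ _) pres

theorem key {σ : List ℕ} {wit : List (ℕ × ℕ)}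
    (h : relabelOK rels iv σ Y5D.rels Fi24P.iv wit = true) :
    ∀ w ∈ [Y5.w1, Y5.w2], wv (elOf π L) (w.map fun x => σ.getD x 0) = 1 := by
  have h1 := Y5.main (R.relabel h)
  simp only [wv, List.map_map, List.forall_mem_cons] at h1 ⊢
  exact ⟨h1.1, h1.2, forall_nil' _⟩

theorem s0 : relabelOK rels iv [0, 4, 3, 2, 1, 7, 8, 9, 12, 13, 10, 5, 6] Y5D.rels Fi24P.iv
    [(59, 1), (33, 1), (5, 1), (89, 0), (91, 0), (93, 0), (99, 0), (101, 0), (95, 0), (85, 0), (87, 0), (31, 1), (3, 1), (65, 0), (67, 0), (69, 0), (75, 0), (77, 0), (71, 0), (61, 0), (63, 0), (1, 1), (39, 0), (41, 0), (43, 0), (49, 0), (51, 0), (45, 0), (35, 0), (37, 0), (11, 0), (13, 0), (15, 0), (21, 0), (23, 0), (17, 0), (7, 0), (9, 0), (151, 0), (153, 0), (159, 0), (161, 0), (155, 0), (111, 1), (131, 1), (169, 0), (175, 0), (177, 0), (171, 0), (113, 1), (133, 1), (189, 0), (191, 0), (185, 0), (115, 1),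 (135, 1), (221, 0), (201, 1), (121, 1), (141, 1), (203, 1), (123, 1), (143, 1), (117, 1), (137, 1), (109, 0), (241, 0)] = true := by
  decide +kernel

theorem s1 : relabelOK rels iv [0, 9, 8, 7, 1, 12, 13, 14, 2, 3, 15, 10, 11] Y5D.rels Fi24P.iv
    [(169, 1), (153, 1), (15, 1), (189, 0), (191, 0), (193, 0), (43, 1), (69, 1), (195, 0), (185, 0), (187, 0), (151, 1), (13, 1), (175, 0), (177, 0), (179, 0), (41, 1), (67, 1), (181, 0), (171, 0), (173, 0), (11, 1), (159, 0), (161, 0), (163, 0), (39, 1), (65, 1), (165, 0), (155, 0), (157, 0), (21, 0), (23, 0), (25, 0), (1, 0), (3, 0), (27, 0), (17, 0), (19, 0), (221, 0), (223, 0), (49, 1), (75, 1), (225, 0), (201, 1), (211, 1), (229, 0), (51, 1), (77, 1), (231, 0), (203, 1), (213, 1), (53, 1), (79, 1), (235, 0), (205, 1), (215, 1), (31, 0), (55, 0), (45, 0), (47, 0), (81, 0), (71, 0), (73, 0), (207, 1), (217, 1), (199, 0),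 (241, 3)] = true := by
  decide +kernel

theorem s2 : relabelOK rels iv [0, 14, 13, 12, 1, 2, 3, 4, 7, 8, 5, 15, 16] Y5D.rels Fi24P.iv
    [(229, 1), (223, 1), (25, 1), (53, 1), (79, 1), (103, 1), (163, 1), (179, 1), (125, 1), (235, 0), (237, 0), (221, 1), (23, 1), (51, 1), (77, 1), (101, 1), (161, 1), (177, 1), (123, 1), (231, 0), (233, 0), (21, 1), (49, 1), (75, 1), (99, 1), (159, 1), (175, 1), (121, 1), (225, 0), (227, 0), (1, 0), (3, 0), (5, 0), (11, 0), (13, 0), (7, 0), (27, 0), (29, 0), (31, 0), (33, 0), (39, 0), (41, 0), (35, 0), (55, 0), (57, 0), (59, 0), (65, 0), (67, 0), (61, 0), (81, 0), (83, 0), (89, 0), (91, 0), (85, 0), (105, 0), (107, 0), (151, 0), (111, 1), (165, 0), (167, 0), (113, 1), (181, 0), (183, 0), (127, 0), (129, 0), (239, 0), (241, 6)] = true := by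
  decide +kernel

theorem cover : ∀ r ∈ Spor.Bimonster.extra, toL code iv r ∈ rels ∨
    ∃ σ ∈ [[0, 4, 3, 2, 1, 7, 8, 9, 12, 13, 10, 5, 6], [0, 9, 8, 7, 1, 12, 13, 14, 2, 3, 15, 10, 11], [0, 14, 13, 12, 1, 2, 3, 4, 7, 8, 5, 15, 16]],
      ∃ w ∈ [Y5.w1, Y5.w2], toL code iv r = w.map fun x => σ.getD x 0 := by
  decide +kernel


/-- In the group presented by the sixteen involutions of the Y₅₅₅ Coxeter diagram subject only to the Coxeter relations and the single spider relation (a b₁ c₁ a b₂ c₂ a b₃ c₃)^10 = 1, each of the further relators used in the definitions' presentation of the Bimonster (each end node equals the ninth power of the Coxeter element of a sub-diagram of type E₇) already holds. Equivalently, the Y₅₅₅ diagram with the spider relation alone presents the Bimonster. -/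
theorem result :
    ∀ r ∈ Cfsg.Spor.Bimonster.extra,
      (PresentedGroup.mk (Cfsg.Spor.coxRelators Cfsg.Spor.Bimonster.edges ∪ {r' | r' ∈ [(Cfsg.Spor.Bimonster.a * Cfsg.Spor.Bimonster.b1 * Cfsg.Spor.Bimonster.c1 * Cfsg.Spor.Bimonster.a * Cfsg.Spor.Bimonster.b2 * Cfsg.Spor.Bimonster.c2 * Cfsg.Spor.Bimonster.a * Cfsg.Spor.Bimonster.b3 * Cfsg.Spor.Bimonster.c3) ^ 10]}) r) = 1 := by
  intro r hr
  refine (prod_toL π (code_of_presOK π hall pres) R.hinv r).symm.trans ?_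
  rcases cover r hr with h | ⟨σ, h1, w, h2, h3⟩
  · exact R.hrel _ h
  · rw [h3]
    exact forall_cons (P := fun σ => wv (elOf π L) (w.map fun x => σ.getD x 0) = 1) (key s0 w h2)
      (forall_cons (key s1 w h2) (forall_cons (key s2 w h2) (forall_nil' _))) σ h1

end Cfsg.Agent.S5588
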