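import Cfsg.Statements.S5629
import Cfsg.Agent.J4P.OfSetup
import Cfsg.Agent.J4P.Cover

set_option autoImplicit false
open Cfsg

namespace Cfsg.Agent.S5629

open Cfsg.Agent.SGJ4 Cfsg.Agent.J4P Subgroup in
theorem orbit_le {G : Type*} [Group G] [Finite G] {S : Setup G} (A : Amal G)
    (h : ∀ a ∈ Ns, ex A.φ a = S.th (sig a)) (j : ℕ) {c n : ℕ} (hc : c ≤ Nat.card (A.St j))
    (h0 : 0 < c) (hn : n * c = 501397585920) :
    (MulAction.orbit S.N ((A.u j : G) : G ⧸ S.N)).ncard ≤ n := by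
  have hN : ∀ a ∈ Ns, ex A.φ a ∈ S.N := fun a ha =>
    Setup.mem_N.2 ⟨_, sig_mem_Ns.2 ha, (h a ha).symm⟩
  have h1 := (MulAction.stabilizer S.N ((A.u j : G) : G ⧸ S.N)).card_mul_index
  rw [MulAction.index_stabilizer, Setup.N, Setup.card_im le_rfl, card_Ns, ← hn] at h1
  have h2 : Nat.card (A.St j) ≤ Nat.card (MulAction.stabilizer S.N ((A.u j : G) : G ⧸ S.N)) :=
    Nat.card_le_card_of_injective (fun s => ⟨⟨ex A.φ s, hN _ s.2.1⟩, by
      obtain ⟨k, hk, e⟩ := s.2.2
      change ((ex A.φ s * A.u j : G) : G ⧸ S.N) = _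
      rw [e, QuotientGroup.mk_mul_of_mem _ (hN k hk)]⟩) fun a b e =>
        Subtype.ext (OfS.ex_inj h a.2.1 b.2.1 (congrArg (fun x => (x.1.1 : G)) e))
  refine Nat.le_of_mul_le_mul_right ?_ h0
  rw [← h1, mul_comm]
  exact Nat.mul_le_mul_right _ (hc.trans h2)

/-- Let G be a finite non-abelian simple group of Janko-four type (an involution z whose centralizer H has an extraspecial largest normal 2-subgroup E of order 2^13 containing its centralizer in H, a normal subgroup N ≥ E of H with N/E of order 3 and H/N the automorphism group of M₂₂, and a subgroup P ≤ N of order 3 with C_E(P) = ⟨z⟩, N_H(P) ≠ C_H(P) and P ≤ C_H(P)′), and let V be an elementary abelian subgroup of G of order 2^11. Then the normalizer of V has index 173067389 in G, and in the action of G on the cosets of this normalizer the normalizer itself has exactly seven orbits, of sizes 1, 15180, 28336, 3400320, 32643072, 54405120 and 82575360 (a rank-7 permutation representation). -/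
theorem result {G : Type*} [Group G] [Finite G] [IsSimpleGroup G] (hG : ¬ IsMulCommutative G) (z : G) (hJ : Cfsg.IsOfJankoFourTypeAt z) (V : Subgroup G) (hV : Cfsg.IsElementaryAbelian 2 V) (hcard : Nat.card ↥V = 2 ^ 11) : (Subgroup.normalizer (V : Set G)).index = 173067389 ∧ ∃ c : Fin 7 → G ⧸ Subgroup.normalizer (V : Set G), (∀ i j : Fin 7, i ≠ j → MulAction.orbit ↥(Subgroup.normalizer (V : Set G)) (c i) ≠ MulAction.orbit ↥(Subgroup.normalizer (V : Set G)) (c j)) ∧ (∀ q : G ⧸ Subgroup.normalizer (V : Set G), ∃ i : Fin 7, q ∈ MulAction.orbit ↥(Subgroup.normalizer (V : Set G)) (c i)) ∧ (List.ofFn fun i => (MulAction.orbit ↥(Subgroup.normalizer (V : Set G)) (c i)).ncard) = [1, 15180, 28336, 3400320, 32643072, 54405120, 82575360] := by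
  obtain ⟨S, -, rfl⟩ := SGJ4.exists_setup_V hJ hV hcard
  obtain ⟨A, h, h1, h2⟩ := J4P.exists_amal_of_setup S
  have hA := J4P.gen_eq_top S A h h1 h2
  rw [← SGJ4.Setup.N_eq]
  have hi : S.N.index = 173067389 := by
    have h3 := S.N.card_mul_index
    rw [S.card_G] at h3
    rw [SGJ4.Setup.N, SGJ4.Setup.card_im le_rfl, SGJ4.card_Ns] at h3
    change _ * S.N.index = _ at h3
    omega
  have hN : ∀ a ∈ SGJ4.Ns, J4P.ex A.φ a ∈ S.N := fun a ha =>
    SGJ4.Setup.mem_N.2 ⟨_, J4P.sig_mem_Ns.2 ha, (h a ha).symm⟩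
  have hc : ∀ q : G ⧸ S.N, ∃ i : Fin 7, q ∈ MulAction.orbit S.N ((A.u i : G) : G ⧸ S.N) := by
    intro q
    obtain ⟨g, rfl⟩ := QuotientGroup.mk_surjective q
    obtain ⟨j, hj, m, hm, k, hk, rfl⟩ := A.cover (hA.ge (Subgroup.mem_top g))
    exact ⟨⟨j, hj⟩, ⟨_, hN m hm⟩, (QuotientGroup.mk_mul_of_mem _ (hN k hk)).symm⟩
  have hle : ∀ i : Fin 7, (MulAction.orbit S.N ((A.u i : G) : G ⧸ S.N)).ncard ≤
      ![1, 15180, 28336, 3400320, 32643072, 54405120, 82575360] i := fun i =>
    orbit_le A h i (A.le_card_St i.2) (by revert i; decide) (by revert i; decide)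
  have hs : 173067389 ≤ ∑ i : Fin 7, (MulAction.orbit S.N ((A.u i : G) : G ⧸ S.N)).ncard := by
    rw [← hi, Subgroup.index, ← Set.ncard_univ, ← Set.iUnion_eq_univ_iff.2 hc]
    exact Set.ncard_iUnion_le_of_fintype _
  have he := (Finset.sum_eq_sum_iff_of_le (s := Finset.univ) fun i _ => hle i).1
    (le_antisymm (Finset.sum_le_sum fun i _ => hle i) (le_trans (by decide) hs))
  refine ⟨hi, fun i => ((A.u i : G) : G ⧸ S.N), fun i j hij e => hij ?_, hc, ?_⟩
  · have h3 := congrArg Set.ncard e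
    rw [he i (Finset.mem_univ _), he j (Finset.mem_univ _)] at h3
    clear e; revert i j; decide
  · rw [funext fun i => he i (Finset.mem_univ _)]; rfl

end Cfsg.Agent.S5629
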