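import Cfsg.Statements.S5711
import Cfsg.Agent.H10.P3Bloom
import Cfsg.Agent.S0253

set_option autoImplicit false
open scoped MatrixGroups
open Cfsg

namespace Cfsg.Agent.S5711

/-- The subgroups of the three-dimensional projective special linear group over a finite field of odd order q = p^α with no nontrivial normal elementary abelian subgroup. Every nontrivial subgroup H of PSL₃(q) having no normal elementary abelian subgroup other than 1 satisfies one of: H ≅ PSL₃(p^β) with β ∣ α; H ≅ PSU₃(p^β) (realised over the field with p^{2β} elements) with 2β ∣ α; 3 ∣ p^β − 1, 3β ∣ α and H has a subgroup of index 3 isomorphic to PSL₃(p^β); 3 ∣ p^β + 1, 6β ∣ α and H has a subgroup of index 3 isomorphic to PSU₃(p^β); H ≅ PSL₂(p^β) or PGL₂(p^β) with β ∣ α and p^β ≠ 3; H ≅ PSL₂(5) with q ≡ ±1 (mod 10); H ≅ PSL₂(7) with q³ ≡ 1 (mod 7); p = 5, α is even and H ≅ A₆ or A₇ or H has a subgroup of index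 2 isomorphic to A₆; H ≅ A₆ with q ≡ 1 or 19 (mod 30). -/
theorem result {F : Type*} [Field F] [Fintype F] (p α : ℕ) [Fact p.Prime] (hp : p ≠ 2) (hα : 1 ≤ α) (hF : Fintype.card F = p ^ α)
    (H : Subgroup (Matrix.ProjectiveSpecialLinearGroup (Fin 3) F)) (hH : H ≠ ⊥)
    (hN : ∀ N : Subgroup ↥H, N.Normal → IsMulCommutative ↥N → (∃ r : ℕ, r.Prime ∧ ∀ x ∈ N, x ^ r = 1) → N = ⊥) :
    (∃ (K : Type) (_ : Field K) (_ : Fintype K) (β : ℕ), Fintype.card K = p ^ β ∧ β ∣ α ∧ Nonempty (↥H ≃* Matrix.ProjectiveSpecialLinearGroup (Fin 3) K)) ∨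
    (∃ (K : Type) (_ : Field K) (_ : Fintype K) (β : ℕ), Fintype.card K = p ^ (2 * β) ∧ 2 * β ∣ α ∧ Nonempty (↥H ≃* Cfsg.PSU 3 K (p ^ β))) ∨
    (∃ (K : Type) (_ : Field K) (_ : Fintype K) (β : ℕ), Fintype.card K = p ^ β ∧ 3 ∣ p ^ β - 1 ∧ 3 * β ∣ α ∧ ∃ L : Subgroup ↥H, L.index = 3 ∧ Nonempty (↥L ≃* Matrix.ProjectiveSpecialLinearGroup (Fin 3) K)) ∨
    (∃ (K : Type) (_ : Field K) (_ : Fintype K) (β : ℕ), Fintype.card K = p ^ (2 * β) ∧ 3 ∣ p ^ β + 1 ∧ 6 * β ∣ α ∧ ∃ L : Subgroup ↥H, L.index = 3 ∧ Nonempty (↥L ≃* Cfsg.PSU 3 K (p ^ β))) ∨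
    (∃ (K : Type) (_ : Field K) (_ : Fintype K) (β : ℕ), Fintype.card K = p ^ β ∧ β ∣ α ∧ p ^ β ≠ 3 ∧ (Nonempty (↥H ≃* Matrix.ProjectiveSpecialLinearGroup (Fin 2) K) ∨ Nonempty (↥H ≃* (GL (Fin 2) K ⧸ Subgroup.center (GL (Fin 2) K))))) ∨
    ((p ^ α % 10 = 1 ∨ p ^ α % 10 = 9) ∧ ∃ (K : Type) (_ : Field K) (_ : Fintype K), Fintype.card K = 5 ∧ Nonempty (↥H ≃* Matrix.ProjectiveSpecialLinearGroup (Fin 2) K)) ∨
    ((p ^ α) ^ 3 % 7 = 1 ∧ ∃ (K : Type) (_ : Field K) (_ : Fintype K), Fintype.card K = 7 ∧ Nonempty (↥H ≃* Matrix.ProjectiveSpecialLinearGroup (Fin 2) K)) ∨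
    (p = 5 ∧ Even α ∧ (Nonempty (↥H ≃* ↥(alternatingGroup (Fin 6))) ∨ Nonempty (↥H ≃* ↥(alternatingGroup (Fin 7))) ∨
      ∃ L : Subgroup ↥H, L.index = 2 ∧ Nonempty (↥L ≃* ↥(alternatingGroup (Fin 6))))) ∨
    ((p ^ α % 30 = 1 ∨ p ^ α % 30 = 19) ∧ Nonempty (↥H ≃* ↥(alternatingGroup (Fin 6)))) := by
  open H10.P3 in
  haveI : CharP F p := charP_of_card_eq_prime_pow hF
  have pr : ∀ r : ℕ, r.Prime → (r : F) = 0 → p = r := fun r hr e =>
    (Nat.prime_dvd_prime_iff_eq Fact.out hr).1 ((CharP.cast_eq_zero_iff F p r).1 e)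
  have h2 : (2 : F) ≠ 0 := fun e => hp (pr 2 Nat.prime_two e)
  have ho : p ^ α % 2 = 1 := Nat.odd_iff.1 (((Fact.out : p.Prime).odd_of_ne_two hp).pow)
  obtain ⟨T, Γ, π, hT, h, hn, hi⟩ := setup h2 H hH hN
  have ms : Function.Surjective (mkP F) := QuotientGroup.mk'_surjective _
  let ν : H.comap (mkP F) →* (M3 F)ˣ :=
    Matrix.SpecialLinearGroup.toGL.comp (H.comap (mkP F)).subtype
  let L := (T.comap (mkP F)).subgroupOf (H.comap (mkP F))
  have hd : ∀ e, (ν e).val.det = 1 := fun e => e.1.2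
  have hn' : ∀ e, Nrm (rhoS Γ) (ν e) := fun e => hn e e.2
  have hL : ∀ e, e ∈ L ↔ H10.P3.Inn (rhoS Γ) (ν e) := fun e => hi e
  have idx : L.index = (T.subgroupOf H).index := (Subgroup.relIndex_comap _ _ _).trans
    (by rw [Subgroup.map_comap_eq_self_of_surjective ms]; rfl)
  have sub := Subgroup.subgroupOfEquivOfLe hT
  have top : L = ⊤ → Nonempty (H ≃* T) := fun e => ⟨MulEquiv.subgroupCongr (le_antisymm
    (Subgroup.subgroupOf_eq_top.1 (Subgroup.index_eq_one.1 (by rw [← idx, e]; simp))) hT)⟩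
  have all : (∀ m, Nrm (rhoS Γ) m → H10.P3.Inn (rhoS Γ) m) → Nonempty (H ≃* T) := fun k =>
    top (eq_top_iff.2 fun e _ => (hL e).2 (k _ (hn' e)))
  have ev : (∃ ω : F, ω ^ 3 = 1 ∧ ω ≠ 1) → p = 5 → Even α := fun w e => by
    have := card_mod_three w
    by_contra hc
    obtain ⟨k, rfl⟩ := Nat.not_even_iff_odd.1 hc
    rw [hF, e, pow_succ, pow_mul, Nat.mul_mod, Nat.pow_mod] at this
    simp at this
  rcases h.classify with e | e | ⟨-, e⟩ | ⟨h7, e⟩ | ⟨h3, e⟩ | e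
  · obtain ⟨K, _, _, β, c1, c2, ⟨e⟩, c | ⟨c3, c4, c5⟩⟩ := h.sl_norm hF e hd hn' hL
    · exact Or.inl ⟨K, inferInstance, inferInstance, β, c1, c2, ⟨(top c).some.trans e⟩⟩
    · exact Or.inr (Or.inr (Or.inl ⟨K, inferInstance, inferInstance, β, c1, c4, c5, _,
        idx ▸ c3, ⟨sub.trans e⟩⟩))
  · obtain ⟨K, _, _, β, c1, c2, ⟨e⟩, c | ⟨c3, c4, c5⟩⟩ := h.su_norm hF e hd hn' hL
    · exact Or.inr (Or.inl ⟨K, inferInstance, inferInstance, β, c1, c2, ⟨(top c).some.trans e⟩⟩)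
    · exact Or.inr (Or.inr (Or.inr (Or.inl ⟨K, inferInstance, inferInstance, β, c1, c4, c5, _,
        idx ▸ c3, ⟨sub.trans e⟩⟩)))
  · obtain ⟨θ, hθ⟩ := h.exists_pgl h2 e ν hd hn' (H := H)
      (((mkP F).comp (H.comap (mkP F)).subtype).codRestrict H fun g => g.2)
      (fun x => let ⟨m, hm⟩ := ms x; ⟨⟨m, show mkP F m ∈ H from hm ▸ x.2⟩, Subtype.ext hm⟩)
      fun e => Subtype.ext_iff.trans mkP_eq_one
    iterate 4 right
    haveI := h.simple
    rcases dickson_ns p θ hθ (fun s => h.nonab ⟨⟨IsSimpleGroup.comm_iff_isSolvable.2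
      (Group.isSolvable_of_isSolvable_injective (Subgroup.inclusion_injective hT))⟩⟩) with
      ⟨c, ⟨e⟩⟩ | ⟨K0, c, e⟩
    · haveI : Fact (Nat.Prime 5) := ⟨Nat.prime_five⟩
      refine Or.inr (Or.inl ⟨?_, ZMod 5, inferInstance, inferInstance, by simp,
        ⟨e.trans (S0253.result (by simp)).some.symm⟩⟩)
      rw [Nat.card_eq_fintype_card, hF] at c
      generalize p ^ α = q at c ho
      have h1 : q ^ 2 % 5 = 1 := by
        have : 1 ≤ q ^ 2 := Nat.one_le_pow _ _ (by omega)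
        omega
      rw [Nat.pow_mod] at h1
      rcases (by omega : q % 5 = 0 ∨ q % 5 = 1 ∨ q % 5 = 2 ∨ q % 5 = 3 ∨ q % 5 = 4) with
        e | e | e | e | e <;> rw [e] at h1 <;> omega
    · obtain ⟨K, _, _, β, n, ⟨f⟩, c1, c2, rfl⟩ := subfield_card hF K0
      exact Or.inl ⟨K, inferInstance, inferInstance, β, c1, dvd_mul_right _ _, c2 ▸ c,
        e.imp (fun ⟨e⟩ => ⟨e.trans (H9.pslMapEquiv f)⟩) fun ⟨e⟩ => ⟨e.trans (H28.pglMapEquiv f)⟩⟩
  · iterate 6 right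
    exact Or.inl ⟨hF ▸ h.l7_card e h7, ZMod 7, inferInstance, inferInstance, by simp,
      ⟨(all fun _ => h.l7_inn e h7).some.trans e.some⟩⟩
  · iterate 7 right
    obtain ⟨w, k1, k2⟩ := h.a6_inn e h2 h3
    by_cases h5 : (5 : F) = 0
    · refine Or.inl ⟨pr 5 Nat.prime_five h5, ev w (pr 5 Nat.prime_five h5), ?_⟩
      by_cases c : L = ⊤
      · exact Or.inl ⟨(top c).some.trans e.some⟩
      obtain ⟨a, ha⟩ : ∃ a, a ∉ L := not_forall.1 (mt (Subgroup.eq_top_iff' L).2 c)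
      refine Or.inr (Or.inr ⟨_, idx ▸ Subgroup.index_eq_two_iff_exists_notMem_and.2
        ⟨a⁻¹, by simpa using ha, fun b => ?_⟩, ⟨sub.trans e.some⟩⟩)
      rw [or_iff_not_imp_right, hL, hL, map_mul, map_inv]
      exact k2 _ _ (hn' a) (hn' b) (mt (hL a).2 ha)
    · have c1 := card_mod_three w
      have c2 := h.a6_card e h5
      have c3 : ¬ 5 ∣ p ^ α := fun c => h5 (by
        obtain rfl := (Nat.prime_dvd_prime_iff_eq Nat.prime_five Fact.out).1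
          (Nat.prime_five.dvd_of_dvd_pow c)
        exact CharP.cast_eq_zero F 5)
      rw [hF] at c1 c2
      exact Or.inr ⟨by omega,
        ⟨(all fun m hm => by_contra fun c => h5 (k1 m hm c)).some.trans e.some⟩⟩
  · iterate 7 right
    obtain ⟨w, k⟩ := h.a7_inn e
    have h5 := pr 5 Nat.prime_five (h.a7_five e)
    exact Or.inl ⟨h5, ev w h5, Or.inr (Or.inl ⟨(all k).some.trans e.some⟩)⟩

end Cfsg.Agent.S5711
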