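import Cfsg.Statements.S5726
import Mathlib.GroupTheory.Sylow

set_option autoImplicit false
open Cfsg

namespace Cfsg.Agent.S5726

open MulAction

/-- The `p`-part of the degree divides the length of every orbit of a Sylow `p`-subgroup. -/
theorem pow_dvd_index {G Ω : Type*} [Group G] [Finite G] [MulAction G Ω]
    [IsPretransitive G Ω] {p k : ℕ} [hp : Fact p.Prime] (h : p ^ k ∣ Nat.card Ω) (P : Sylow p G)
    (ω : Ω) : p ^ k ∣ (stabilizer (P : Subgroup G) ω).index := by
  have h1 : (stabilizer (P : Subgroup G) ω).index = (stabilizer G ω).relIndex P := by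
    rw [Subgroup.relIndex]
    congr 1
  have h2 : p ^ k ∣ (stabilizer G ω).relIndex P * (P : Subgroup G).index := by
    rw [← Subgroup.inf_relIndex_right, Subgroup.relIndex_mul_index inf_le_right]
    refine h.trans ?_
    rw [← index_stabilizer_of_transitive G ω]
    exact Subgroup.index_dvd_of_le inf_le_left
  rw [h1]
  exact (((Nat.Prime.coprime_iff_not_dvd hp.out).mpr P.not_dvd_index).pow_left k).dvd_of_dvd_mul_right h2

/-- If a finite group acts faithfully and transitively on a set with p^k elements, p a prime and k ≥ 1, then some element of order p fixes no point. -/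
theorem result {G Ω : Type*} [Group G] [Finite G] [MulAction G Ω] [FaithfulSMul G Ω] [Fintype Ω] (htr : MulAction.IsPretransitive G Ω)
    (p k : ℕ) (hp : p.Prime) (hk : 1 ≤ k) (hΩ : Fintype.card Ω = p ^ k) :
    ∃ g : G, orderOf g = p ∧ ∀ ω : Ω, g • ω ≠ ω := by
  haveI := Fact.mk hp
  obtain ⟨P⟩ : Nonempty (Sylow p G) := inferInstance
  have hΩ' : Nat.card Ω = p ^ k := by rw [Nat.card_eq_fintype_card, hΩ]
  have h1 : 1 < p ^ k := Nat.one_lt_pow (by omega) hp.one_lt
  have horb : ∀ ω : Ω, orbit (P : Subgroup G) ω = Set.univ := by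
    intro ω
    have h2 := pow_dvd_index (k := k) (hΩ' ▸ dvd_rfl) P ω
    have h3 := Nat.le_of_dvd (Nat.pos_of_ne_zero Subgroup.index_ne_zero_of_finite) h2
    rw [index_stabilizer, ← hΩ', ← Set.ncard_univ] at h3
    exact Set.eq_of_subset_of_ncard_le (Set.subset_univ _) h3
  haveI : Nontrivial Ω := Finite.one_lt_card_iff_nontrivial.mp (hΩ' ▸ h1)
  haveI : Nontrivial (P : Subgroup G) := by
    obtain ⟨a, b, hab⟩ := exists_pair_ne Ω
    have : b ∈ orbit (P : Subgroup G) a := by rw [horb]; trivial
    obtain ⟨g, hg⟩ := this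
    refine ⟨g, 1, fun h => hab ?_⟩
    rw [← hg, h]
    simp
  haveI := P.2.center_nontrivial
  have hZ : IsPGroup p (Subgroup.center (P : Subgroup G)) := P.2.to_subgroup _
  obtain ⟨n, hn0, hn⟩ := hZ.nontrivial_iff_card.mp inferInstance
  obtain ⟨z, hz⟩ := exists_prime_orderOf_dvd_card' (G := Subgroup.center (P : Subgroup G)) p
    (hn ▸ dvd_pow_self p hn0.ne')
  refine ⟨((z : (P : Subgroup G)) : G), by rw [Subgroup.orderOf_coe, Subgroup.orderOf_coe, hz],
    fun ω hω => ?_⟩
  have : ((z : (P : Subgroup G)) : G) = 1 := by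
    apply eq_of_smul_eq_smul (α := Ω)
    intro b
    have : b ∈ orbit (P : Subgroup G) ω := by rw [horb]; trivial
    obtain ⟨g, rfl⟩ := this
    have hc : (g : G) * z = z * g := congrArg Subtype.val (Subgroup.mem_center_iff.mp z.2 g)
    change ((z : (P : Subgroup G)) : G) • (g : G) • ω = (1 : G) • (g : G) • ω
    rw [one_smul, ← mul_smul, ← hc, mul_smul, hω]
  have h4 : z = 1 := Subtype.ext (Subtype.ext this)
  rw [h4, orderOf_one] at hz
  exact hp.one_lt.ne hz

end Cfsg.Agent.S5726
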