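import Cfsg.Statements.S5727
import Cfsg.Agent.S5726
import Mathlib.GroupTheory.IndexNormal
import Mathlib.Combinatorics.Enumerative.DoubleCounting

set_option autoImplicit false
open Cfsg

namespace Cfsg.Agent.S5727

open MulAction

/-- If a finite group acts faithfully and transitively on a set with m·p elements, where p is a prime and 1 ≤ m ≤ p, then some element of order p fixes no point. -/
theorem result {G Ω : Type*} [Group G] [Finite G] [MulAction G Ω] [FaithfulSMul G Ω] [Fintype Ω] (htr : MulAction.IsPretransitive G Ω)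
    (p m : ℕ) (hp : p.Prime) (hm : 1 ≤ m) (hmp : m ≤ p) (hΩ : Fintype.card Ω = m * p) :
    ∃ g : G, orderOf g = p ∧ ∀ ω : Ω, g • ω ≠ ω := by
  classical
  rcases hmp.eq_or_lt with rfl | hlt
  · exact S5726.result htr m 2 hp (by norm_num) (by rw [hΩ, sq])
  haveI := Fact.mk hp
  obtain ⟨P⟩ : Nonempty (Sylow p G) := inferInstance
  have hΩ' : Nat.card Ω = m * p := by rw [Nat.card_eq_fintype_card, hΩ]
  have hidx : ∀ ω : Ω, (stabilizer (P : Subgroup G) ω).index = p := by
    intro ω
    have h2 := S5726.pow_dvd_index (k := 1) (by rw [hΩ', pow_one]; exact dvd_mul_left _ _) P ω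
    obtain ⟨e, he⟩ := P.2.index (stabilizer (P : Subgroup G) ω)
    have h3 : (stabilizer (P : Subgroup G) ω).index ≤ m * p := by
      rw [index_stabilizer, ← hΩ', ← Set.ncard_univ]
      exact Set.ncard_le_ncard (Set.subset_univ _)
    rw [he] at h2 h3 ⊢
    have h4 : 1 ≤ e := (Nat.pow_dvd_pow_iff_le_right hp.one_lt).mp h2
    have h5 : e < 2 := by
      apply (Nat.pow_lt_pow_iff_right hp.one_lt).mp
      have := hp.pos
      nlinarith
    rw [show e = 1 by omega, pow_one]
  have hnorm : ∀ ω : Ω, (stabilizer (P : Subgroup G) ω).Normal := by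
    intro ω
    apply Subgroup.normal_of_index_eq_minFac_card
    obtain ⟨e, he⟩ := P.2.exists_card_eq
    have h1 := (stabilizer (P : Subgroup G) ω).index_dvd_card
    rw [hidx, he] at h1
    have he0 : e ≠ 0 := by
      rintro rfl
      exact hp.one_lt.ne' (Nat.dvd_one.mp h1)
    rw [hidx, he, hp.pow_minFac he0]
  have hex : ∃ g : (P : Subgroup G), ∀ ω : Ω, g • ω ≠ ω := by
    by_contra hc
    push Not at hc
    haveI := Fintype.ofFinite (P : Subgroup G)
    obtain ⟨ω₀⟩ : Nonempty Ω := Fintype.card_pos_iff.mp (by rw [hΩ]; exact Nat.mul_pos hm hp.pos)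
    have hcard : ∀ ω : Ω, Nat.card (stabilizer (P : Subgroup G) ω) * p =
        Nat.card (P : Subgroup G) := fun ω => by
      rw [← (stabilizer (P : Subgroup G) ω).card_mul_index, hidx]
    have key := Finset.card_mul_le_card_mul (s := (Finset.univ : Finset (P : Subgroup G)))
      (t := (Finset.univ : Finset Ω)) (fun g ω => g • ω = ω) (m := p)
      (n := Nat.card (stabilizer (P : Subgroup G) ω₀)) (by
        intro g _
        obtain ⟨ω, hω⟩ := hc g
        refine (hidx ω).ge.trans ?_
        rw [index_stabilizer, ← Set.ncard_coe_finset]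
        apply Set.ncard_le_ncard _ (Finset.finite_toSet _)
        rintro _ ⟨h, rfl⟩
        have := (hnorm ω).conj_mem g hω h⁻¹
        rw [mem_stabilizer_iff, mul_smul, mul_smul, inv_inv, inv_smul_eq_iff] at this
        simpa [Finset.mem_bipartiteAbove] using this) (by
        intro ω _
        have h1 : Nat.card (stabilizer (P : Subgroup G) ω₀) =
            Nat.card (stabilizer (P : Subgroup G) ω) :=
          Nat.eq_of_mul_eq_mul_right hp.pos ((hcard ω₀).trans (hcard ω).symm)
        rw [h1, ← Set.ncard_coe_finset]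
        refine le_of_eq (Eq.trans ?_ (Nat.card_coe_set_eq
          (stabilizer (P : Subgroup G) ω : Set (P : Subgroup G))).symm)
        congr 1
        ext g
        simp [Finset.mem_bipartiteBelow])
    rw [Finset.card_univ, Finset.card_univ, hΩ, ← Nat.card_eq_fintype_card, mul_assoc,
      mul_comm p, hcard, mul_comm m] at key
    have := Nat.le_of_mul_le_mul_left key Nat.card_pos
    omega
  obtain ⟨g, hg⟩ := hex
  obtain ⟨ω₀⟩ : Nonempty Ω := Fintype.card_pos_iff.mp (by rw [hΩ]; exact Nat.mul_pos hm hp.pos)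
  refine ⟨g, orderOf_eq_prime ?_ ?_, hg⟩
  · apply eq_of_smul_eq_smul (α := Ω)
    intro ω
    haveI := hnorm ω
    have := (stabilizer (P : Subgroup G) ω).pow_index_mem g
    rw [hidx] at this
    rw [one_smul]
    exact this
  · intro h
    apply hg ω₀
    change (g : G) • ω₀ = ω₀
    rw [h, one_smul]

end Cfsg.Agent.S5727
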