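import Cfsg.Statements.S5728

set_option autoImplicit false
open Cfsg

namespace Cfsg.Agent.S5728

/-- An elusive transitive action. Let p = 2^s − 1 be a prime and let F be the field with p² elements. Inside the group of affine maps x ↦ a·x + b of F (a ≠ 0), consider the subgroup of maps with both coefficients in the prime field. Then every element of prime order of the affine group is conjugate, within the affine group, to an element of that subgroup; equivalently, in the transitive action of the affine group on the cosets of that subgroup (of degree p(p + 1)) every element of prime order fixes a point. -/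
theorem result (p s : ℕ) [Fact p.Prime] (hs : p = 2 ^ s - 1)
    (g : Equiv.Perm (GaloisField p 2)) (hg : g ∈ Cfsg.affineGroup (GaloisField p 2)) (hord : (orderOf g).Prime) :
    ∃ x ∈ Cfsg.affineGroup (GaloisField p 2), ∃ a b : ZMod p, a ≠ 0 ∧
      ∀ y : GaloisField p 2, (x * g * x⁻¹) y = algebraMap (ZMod p) (GaloisField p 2) a * y + algebraMap (ZMod p) (GaloisField p 2) b := by
  have hp : p.Prime := Fact.out
  obtain ⟨a, b, hab⟩ := hg
  have hg1 : g ≠ 1 := by
    rintro rfl
    simp at hord
    exact Nat.not_prime_one hord
  by_cases ha : a = 1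
  · subst ha
    have hb : b ≠ 0 := by
      rintro rfl
      apply hg1
      ext x
      simp [hab]
    let x : Equiv.Perm (GaloisField p 2) := Equiv.mulLeft₀ b⁻¹ (inv_ne_zero hb)
    refine ⟨x, ⟨Units.mk0 b⁻¹ (inv_ne_zero hb), 0, fun y => by simp [x]⟩, 1, 1, one_ne_zero,
      fun y => ?_⟩
    obtain ⟨z, rfl⟩ := x.surjective y
    simp only [Equiv.Perm.coe_mul, Function.comp_apply, Equiv.Perm.coe_inv, Equiv.symm_apply_apply,
      hab]
    simp [x, mul_add, hb]
  · have ha' : (1 : GaloisField p 2) - a ≠ 0 := by
      intro h
      apply ha
      ext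
      simpa using (sub_eq_zero.mp h).symm
    set c := b / (1 - a) with hc
    have hcb : b = c * (1 - a) := by rw [hc]; field_simp
    have hpow : ∀ (n : ℕ) (y : GaloisField p 2), (g ^ n) (y + c) = (a : GaloisField p 2) ^ n * y + c := by
      intro n
      induction n with
      | zero => simp
      | succ n ih =>
        intro y
        rw [pow_succ', Equiv.Perm.mul_apply, ih, hab, hcb]
        ring
    have har : a ^ orderOf g = 1 := by
      have := hpow (orderOf g) 1
      rw [pow_orderOf_eq_one, mul_one] at this
      ext
      simpa using this.symm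
    have hoa : orderOf a = orderOf g := by
      haveI := Fact.mk hord
      exact orderOf_eq_prime har ha
    have hfix : (a : GaloisField p 2) ^ p = a := by
      have hcard : Nat.card (GaloisField p 2)ˣ = (p - 1) * 2 ^ s := by
        rw [Nat.card_units, GaloisField.card p 2 two_ne_zero]
        have h1 : 2 ^ s = p + 1 := by
          have : 0 < 2 ^ s := by positivity
          omega
        rw [h1]
        obtain ⟨q, rfl⟩ : ∃ q, p = q + 1 := ⟨p - 1, by have := hp.pos; omega⟩
        simp only [Nat.add_sub_cancel]
        apply Nat.sub_eq_of_eq_add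
        ring
      have hd : orderOf g ∣ (p - 1) * 2 ^ s := by
        rw [← hcard, ← hoa]
        exact orderOf_dvd_natCard a
      have hd' : orderOf g ∣ p - 1 := by
        rcases (Nat.Prime.dvd_mul hord).mp hd with h | h
        · exact h
        · rw [(Nat.prime_dvd_prime_iff_eq hord Nat.prime_two).mp (hord.dvd_of_dvd_pow h)]
          have hs0 : s ≠ 0 := by
            rintro rfl
            simp at hs
            exact hp.ne_zero hs
          obtain ⟨t, rfl⟩ := Nat.exists_eq_succ_of_ne_zero hs0
          rw [pow_succ] at hs
          omega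
      have h1 : a ^ (p - 1) = 1 := orderOf_dvd_iff_pow_eq_one.mp (hoa ▸ hd')
      have h2 : a ^ p = a := by
        have h3 : a ^ (p - 1 + 1) = a := by rw [pow_succ, h1, one_mul]
        rwa [Nat.sub_add_cancel hp.one_le] at h3
      exact_mod_cast congrArg Units.val h2
    have hmem := (Subfield.mem_bot_iff_pow_eq_self (F := GaloisField p 2) (p := p)).mpr hfix
    have hmem' : (a : GaloisField p 2) ∈ (algebraMap (ZMod p) (GaloisField p 2)).fieldRange :=
      (bot_le : (⊥ : Subfield (GaloisField p 2)) ≤ _) hmem
    obtain ⟨a', ha'⟩ := hmem'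
    let x : Equiv.Perm (GaloisField p 2) := Equiv.addRight (-c)
    refine ⟨x, ⟨1, -c, fun y => by simp [x]⟩, a', 0, ?_, fun y => ?_⟩
    · rintro rfl
      exact a.ne_zero (by rw [← ha', map_zero])
    · have hx : x⁻¹ y = y + c := by simp [x, Equiv.Perm.inv_def]
      rw [Equiv.Perm.mul_apply, Equiv.Perm.mul_apply, hx, ← pow_one g, hpow, ha']
      simp [x]

end Cfsg.Agent.S5728
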