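import Cfsg.Statements.S5732
import Cfsg.Agent.DER.Main
import Cfsg.Agent.S3549

set_option autoImplicit false
open Cfsg

namespace Cfsg.Agent.S5732

/-- There is a bound N such that for every finite group G acting faithfully and transitively on a set with n ≥ N points, either G is primitive and a Frobenius permutation group (Frobenius as a permutation group: transitive, some non-identity element fixes a point, and no non-identity element fixes two points), or the subgroup generated by the derangements of G has index at most √n − 1 in G. -/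
theorem result : ∃ N : ℕ, ∀ (G Ω : Type*) [Group G] [Finite G] [MulAction G Ω] [FaithfulSMul G Ω] [Fintype Ω],
      MulAction.IsPretransitive G Ω → N ≤ Fintype.card Ω →
      (MulAction.IsPreprimitive G Ω ∧ (MulAction.IsPretransitive G Ω ∧ (∃ g : G, g ≠ 1 ∧ ∃ ω : Ω, g • ω = ω) ∧ ∀ g : G, g ≠ 1 → Nat.card (MulAction.fixedBy Ω g) ≤ 1)) ∨
      ((Subgroup.closure {g : G | ∀ ω : Ω, g • ω ≠ ω}).index : ℝ) ≤ Real.sqrt (Fintype.card Ω) - 1 := by
  refine ⟨4, fun G Ω _ _ _ _ _ ht hN => ?_⟩
  rw [← Nat.card_eq_fintype_card] at hN ⊢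
  by_cases hp : MulAction.IsPreprimitive G Ω
  swap
  · exact Or.inr (S3549.result ht hp)
  have hn := H77.closure_derangements_normal (G := G) (Ω := Ω)
  set D := Subgroup.closure {g : G | ∀ ω : Ω, g • ω ≠ ω} with hDdef
  have hD : ∀ g : G, (∀ ω : Ω, g • ω ≠ ω) → g ∈ D := fun g hg => Subgroup.subset_closure hg
  by_cases h : (D.index + 1) ^ 2 ≤ Nat.card Ω
  · exact Or.inr (DER.real_le h)
  have h0 : D.index ≠ 0 := D.index_ne_zero_of_finite
  have hs : 2 ≤ D.index := by
    by_contra hs
    have h1 : D.index = 1 := by omega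
    rw [h1] at h
    omega
  exact Or.inl ⟨hp, ht, (DER.main D hD hs (by omega) (not_le.1 h)).2⟩

end Cfsg.Agent.S5732
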