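import Cfsg.Statements.S5736
import Cfsg.Agent.H93.L2Bin

set_option autoImplicit false
open Cfsg

namespace Cfsg.Agent.S5736

open Cfsg.Agent.H28 Cfsg.Agent.H93.L2 Subgroup

/-- Let F be a finite field with q ≥ 4 elements, q ≠ 5, let G = PSL₂(F) and let H be a proper subgroup of G. Then the action of G on the cosets of H is binary if and only if H is trivial, or q is a power of 2 and H is a Sylow 2-subgroup, or q = 2^a with a odd and H has order 3. Here an action is binary (relational complexity 2) when, for every n ≥ 2 and all n-tuples I, J of points, if for every pair of positions some group element carries the corresponding pair of entries of I to those of J, then a single group element carries I to J. -/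
theorem result {F : Type*} [Field F] [Fintype F] (h4 : 4 ≤ Fintype.card F) (h5 : Fintype.card F ≠ 5)
    (H : Subgroup (Matrix.ProjectiveSpecialLinearGroup (Fin 2) F)) (hH : H ≠ ⊤) :
    (∀ (n : ℕ) (I J : Fin n → Matrix.ProjectiveSpecialLinearGroup (Fin 2) F ⧸ H), 2 ≤ n →
        (∀ i j : Fin n, i ≠ j → ∃ g : Matrix.ProjectiveSpecialLinearGroup (Fin 2) F, g • I i = J i ∧ g • I j = J j) → ∃ g : Matrix.ProjectiveSpecialLinearGroup (Fin 2) F, ∀ i, g • I i = J i) ↔
      (H = ⊥ ∨ ((∃ a : ℕ, Fintype.card F = 2 ^ a) ∧ ∃ P : Sylow 2 (Matrix.ProjectiveSpecialLinearGroup (Fin 2) F), H = P) ∨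
        ((∃ a : ℕ, Odd a ∧ Fintype.card F = 2 ^ a) ∧ Nat.card H = 3)) := by
  classical
  obtain ⟨p, hp⟩ := CharP.exists F
  obtain ⟨f, hpp, hf⟩ := FiniteField.card F p
  have hp' : Fact p.Prime := ⟨hpp⟩
  have : Fact (Nat.Prime 2) := ⟨Nat.prime_two⟩
  have : Fact (Nat.Prime 3) := ⟨Nat.prime_three⟩
  change S5737.Bin H ↔ _
  have hinj := pslInc_injective (F := F)
  have hone : ∀ x, pslInc F x = 1 ↔ x = 1 := fun x => map_eq_one_iff _ hinj
  have hpow : ∀ x n, pslInc F x ^ n = 1 ↔ x ^ n = 1 := fun x n => by rw [← map_pow, hone]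
  have hL := not_le_map_of_ne_top hinj range_pslInc hH
  have hN := pslIn_normal (F := F)
  have hq : ∀ a, Odd a ↔ ¬ 3 ∣ 2 ^ a - 1 := fun a => by
    have h1 : 0 < 2 ^ a := by positivity
    have h2 : ∀ k, 2 ^ (2 * k) % 3 = 1 := fun k => by rw [pow_mul, Nat.pow_mod]; simp
    rcases Nat.even_or_odd' a with ⟨k, rfl | rfl⟩
    · have := h2 k
      simp only [← Nat.not_even_iff_odd, even_two, Even.mul_right, not_true, false_iff, not_not]
      omega
    · have := h2 k
      simp only [odd_two_mul_add_one, true_iff]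
      omega
  constructor
  · intro hB
    by_cases hbot : H = ⊥
    · exact Or.inl hbot
    right
    have hQ := quad_of_bin hinj hB
    rw [range_pslInc] at hQ
    rcases Nat.even_or_odd (Nat.card H) with he | ho
    · obtain ⟨⟨t, ht⟩, ht'⟩ := exists_prime_orderOf_dvd_card' 2 he.two_dvd
      rw [← orderOf_coe] at ht'
      have t1 : t ≠ 1 := by rintro rfl; simp at ht'
      have t2 : t ^ 2 = 1 := orderOf_dvd_iff_pow_eq_one.1 ht'.dvd
      have hI : ∀ z ∈ H, z ≠ 1 → z * z = 1 → ∀ y, y * y = 1 → z * y = y * z → y ∈ H :=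
        fun z hz z1 z2 y y2 h => hB.invol psl_one_class hz z1 (by rwa [sq]) (by rwa [sq]) h
      obtain rfl : p = 2 := by
        by_contra hp2
        have := (odd_card_iff (F := F) p).2 hp2
        rw [← Nat.card_eq_fintype_card] at h4 h5
        exact hH (eq_top_of_invol this (by omega) hI ht t1 (by rwa [← sq]))
      refine Or.inl ⟨⟨f, hf⟩, ?_⟩
      have hT := pslIn_eq_top (Nat.mod_eq_zero_of_dvd (char_dvd_card (F := F) 2))
      obtain ⟨a, ha⟩ := exists_fix_of_pow_char 2 ((hpow t 2).2 t2)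
      obtain ⟨P, hP⟩ := exists_sylow_psl 2 a
      obtain ⟨w, rfl⟩ := exists_smul_infty a
      have hm : ∀ g, w⁻¹ * pslInc F g * w ∈ cj (H.map (pslInc F)) w⁻¹ ↔ g ∈ H := fun g => by
        rw [mem_cj, ← mem_map_iff_mem hinj]; simp [mul_assoc]
      have hs : ∀ x, ∃ g, x = w⁻¹ * pslInc F g * w := fun x => by
        obtain ⟨g, hg⟩ := exists_pslInc_eq (g := w * x * w⁻¹) (hT ▸ mem_top _)
        exact ⟨g, by rw [hg]; group⟩
      have hc1 : ∀ g, w⁻¹ * pslInc F g * w = 1 ↔ g = 1 := fun g => by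
        simpa using conj_pow_eq_one (t := w) (y := g) (n := 1)
      have hfix : ∀ g, (w⁻¹ * pslInc F g * w) • (OnePoint.infty : OnePoint F) = OnePoint.infty ↔
          pslInc F g • w • (OnePoint.infty : OnePoint F) = w • OnePoint.infty := fun g => by
        rw [mul_smul, mul_smul, inv_smul_eq_iff]
      obtain ⟨c, -, hc⟩ := exists_aff_one 2 (conj_pow_eq_one.2 t2) (mt (hc1 t).1 t1) ((hfix t).2 ha)
      have hU : ∀ d, aff 1 d ∈ cj (H.map (pslInc F)) w⁻¹ := fun d => by
        obtain ⟨g, hg⟩ := hs (aff 1 d)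
        rw [hg, hm]
        refine hI t ht t1 (by rwa [← sq]) g ?_ (hinj ?_)
        · rw [← sq, ← conj_pow_eq_one (t := w), ← hg, aff_pow_char]
        · have : aff 1 c * aff 1 d = aff 1 d * aff 1 c := by simp [aff_mul, add_comm]
          rw [← hc, hg] at this
          simp only [mul_assoc, mul_inv_cancel_left, mul_right_inj] at this
          exact mul_right_cancel (b := w) (by simpa only [mul_assoc, map_mul] using this)
      have hM : ∀ g ∈ cj (H.map (pslInc F)) w⁻¹, g • (OnePoint.infty : OnePoint F) = OnePoint.infty :=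
        fun g hg => by
          by_contra h
          have := pslIn_le_of_moves hU hg h
          refine hL fun x _ => ?_
          have := mem_cj.1 (this (hT ▸ mem_top (w⁻¹ * x * w)))
          simpa only [inv_inv, mul_assoc, mul_inv_cancel_left, mul_inv_cancel, mul_one] using this
      refine ⟨P, le_antisymm (fun g hg => (hP g).2 ?_) fun g hg => ?_⟩
      · have h1 := hM _ ((hm g).2 hg)
        obtain ⟨u, b, e⟩ := exists_aff h1
        refine ⟨(hfix g).1 h1, (conj_pow_eq_one (t := w)).1 ?_⟩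
        rw [e, aff_pow_char]
        exact eq_one_of_quad (CharP.cast_eq_zero F 2) (hT ▸ hQ.cj w⁻¹) hM hU (e ▸ (hm g).2 hg)
      · obtain ⟨h1, h2⟩ := (hP g).1 hg
        obtain ⟨u, b, e⟩ := exists_aff ((hfix g).2 h1)
        obtain rfl : u = 1 := by rw [← aff_pow_char 2 u b, ← e, conj_pow_eq_one, h2]
        exact (hm g).1 (e ▸ hU b)
    · obtain ⟨hc, hd⟩ := comm_of_odd p hH hQ ho
      have key : ∀ x ∈ H, x ≠ 1 → (2 : F) = 0 ∧ x ^ 3 = 1 ∧ ∀ l : F, l ^ 2 + l + 1 ≠ 0 := by
        intro x hx x1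
        obtain ⟨X, hX, dX⟩ := exists_lift (pslInc_mem x)
        obtain ⟨a1, a2, a3⟩ := pow_three_of_quad hQ (by
          rintro _ ⟨a, ha, rfl⟩ _ ⟨b, hb, rfl⟩
          rw [← map_mul, hc a ha b hb, map_mul]) (by rwa [card_map_of_injective hinj])
          (hX ▸ ⟨x, hx, rfl⟩) dX fun e => hd (by
            have := pow_char_of_gtr p dX e
            rw [hX, hpow] at this
            exact orderOf_eq_prime this x1 ▸ Subgroup.orderOf_dvd_natCard H hx)
        refine ⟨a1, (hpow x 3).1 ?_, a3⟩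
        rw [← hX, mk_pow_three_iff, a2, dX]
        simp
      obtain ⟨⟨x, hx⟩, x1⟩ := ne_bot_iff_exists_ne_one.1 hbot
      replace x1 : x ≠ 1 := fun e => x1 (Subtype.ext e)
      obtain ⟨h2, x3, hn⟩ := key x hx x1
      have : CharP F 2 := CharTwo.of_one_ne_zero_of_two_eq_zero one_ne_zero h2
      obtain rfl : p = 2 := CharP.eq F hp this
      refine Or.inr ⟨⟨f, (hq f).2 ?_, hf⟩, ?_⟩
      · rw [← hf, ← Nat.card_eq_fintype_card, ← omega_iff]
        exact fun ⟨l, hl⟩ => hn l hl
      have : H = zpowers x := by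
        refine le_antisymm (fun y hy => ?_) (zpowers_le_of_mem hx)
        by_cases y1 : y = 1
        · exact y1 ▸ one_mem _
        by_cases y2 : y * x = 1
        · exact eq_inv_of_mul_eq_one_left y2 ▸ inv_mem (mem_zpowers x)
        have := eq_inv_of_three hn ((hpow x 3).2 x3) ((hpow y 3).2 (key y hy y1).2.1)
          (by rw [← map_mul, hpow]; exact (key _ (mul_mem hy hx) y2).2.1) (mt (hone x).1 x1)
          (mt (hone y).1 y1) (by rwa [← map_mul, Ne, hone])
        exact hinj this ▸ mem_zpowers _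
      rw [this, Nat.card_zpowers, orderOf_eq_prime x3 x1]
  · rintro (rfl | ⟨⟨a, ha⟩, P, rfl⟩ | ⟨⟨a, ho, ha⟩, h3⟩)
    · exact bin_of_ti (fun g x hx x1 => absurd (mem_bot.1 hx) x1)
        fun x hx y g k _ _ x1 => absurd (mem_bot.1 hx) x1
    · have : CharP F 2 := charP_of_card_eq_prime_pow ha
      obtain ⟨P₀, hP⟩ := exists_sylow_psl (F := F) 2 OnePoint.infty
      obtain ⟨w, rfl⟩ := MulAction.exists_smul_eq (Matrix.ProjectiveSpecialLinearGroup (Fin 2) F) P₀ P
      have hcj : ∀ g x : Matrix.ProjectiveSpecialLinearGroup (Fin 2) F,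
          (g⁻¹ * x * g) ^ 2 = 1 ↔ x ^ 2 = 1 := fun g x => by
        nth_rw 2 [← inv_inv g]
        rw [conj_pow, mul_inv_eq_one, mul_eq_left]
      have hP' : ∀ g x, g⁻¹ * x * g ∈ ((w • P₀ : Sylow 2 _) : Subgroup _) ↔ pslInc F x •
          pslInc F (g * w) • (OnePoint.infty : OnePoint F) = pslInc F (g * w) • OnePoint.infty ∧
          x ^ 2 = 1 := fun g x => by
        rw [Sylow.coe_subgroup_smul, mem_pointwise_smul_iff_inv_smul_mem, hP, ← hcj (g * w) x]
        simp [mul_smul, inv_smul_eq_iff, mul_assoc]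
      have hP1 := fun x => hP' 1 x
      simp only [inv_one, one_mul, mul_one] at hP1
      refine bin_of_ti (fun g x hx x1 h y hy => ?_) fun x hx y g k h1 h2 x1 y1 _ => ?_
      · rw [hP1] at hx hy
        rw [hP'] at h ⊢
        by_cases e : pslInc F (g * w) • (OnePoint.infty : OnePoint F) = pslInc F w • OnePoint.infty
        · rwa [e]
        · exact absurd ((hone x).1 (pgl_uni 2 _ _ _ ((hpow x 2).2 hx.2) e h.1 hx.1)) x1
      · rw [hP1] at hx ⊢
        rw [hP'] at h1 h2
        refine ⟨torN_le_stab hinj 2 hx.2 x1 hx.1 (mem_torN.2 (Or.inl ?_)), h1.2⟩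
        have a1 := inv_eq_of_mul_eq_one_left ((sq _).symm.trans hx.2)
        have a2 := inv_eq_of_mul_eq_one_left ((sq _).symm.trans h1.2)
        have a3 := inv_eq_of_mul_eq_one_left ((sq _).symm.trans h2.2)
        rw [mul_inv_rev, inv_inv, a1, a2] at a3
        rw [← a3, mul_inv_cancel_right]
    · have : CharP F 2 := charP_of_card_eq_prime_pow ha
      have hn : ∀ l : F, l ^ 2 + l + 1 ≠ 0 := fun l hl =>
        (hq a).1 ho (by rw [← ha, ← Nat.card_eq_fintype_card, ← omega_iff]; exact ⟨l, hl⟩)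
      have hx3 : ∀ x ∈ H, x ^ 3 = 1 := fun x hx =>
        orderOf_dvd_iff_pow_eq_one.1 (h3 ▸ Subgroup.orderOf_dvd_natCard H hx)
      have hcj : ∀ g x : Matrix.ProjectiveSpecialLinearGroup (Fin 2) F,
          g⁻¹ * x * g ∈ H → x ^ 3 = 1 := fun g x h => by
        have := hx3 _ h
        nth_rw 2 [← inv_inv g] at this
        rwa [conj_pow, mul_inv_eq_one, mul_eq_left] at this
      refine bin_of_ti (fun g x hx x1 h y hy => ?_) fun x hx y g k h1 h2 x1 y1 h => ?_
      · have : zpowers x = H := eq_of_le_of_card_ge (zpowers_le_of_mem hx) (by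
          rw [h3, Nat.card_zpowers, orderOf_eq_prime (hx3 x hx) x1])
        obtain ⟨n, rfl⟩ := this.ge hy
        have := zpow_mem h n
        nth_rw 2 [← inv_inv g] at this ⊢
        rwa [conj_zpow] at this
      · have := eq_inv_of_three hn ((hpow x 3).2 (hx3 x hx)) (y := pslInc F y⁻¹)
          (by rw [hpow, inv_pow, hcj g y h1, inv_one]) (by rw [← map_mul, hpow, hcj k _ h2])
          (mt (hone x).1 x1) (by rwa [Ne, hone, inv_eq_one]) (by rwa [← map_mul, Ne, hone])
        exact inv_mem_iff.1 (hinj this ▸ hx)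

end Cfsg.Agent.S5736
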