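import Cfsg.Statements.S5740
import Cfsg.Agent.H38.E2d

set_option autoImplicit false
open Cfsg

namespace Cfsg.Agent.S5740

open Cfsg.Agent.H57 Cfsg.Agent.H80E Cfsg.Agent.H38.E2 Cfsg.Lie Matrix in
theorem iface {K : Type*} [Field K] [Fintype K] (hK : Fintype.card K = 4) :
    ∃ ρ : twistedE6 K 2 →* Mat, Function.Injective ρ ∧ (∀ g, H38.E2.Inv (ρ g)) ∧
      ∀ w, ∃ g, ρ g = wm 78 Gs w := by
  have : Fact (Nat.Prime 2) := ⟨Nat.prime_two⟩
  have hK' : Fintype.card K = 2 ^ 2 := hK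
  have : CharP K 2 := charP_of_card_eq_prime_pow hK'
  obtain ⟨ω₀, hω₀⟩ := IsCyclic.exists_ofOrder_eq_natCard (α := Kˣ)
  rw [Nat.card_units, Nat.card_eq_fintype_card, hK] at hω₀
  have hω : (ω₀ : K) ^ 2 + ω₀ + 1 = 0 := by
    have h5 : (ω₀ : K) ^ 3 = 1 := by
      rw [← Units.val_pow_eq_pow_val, ← show orderOf ω₀ = 3 from hω₀, pow_orderOf_eq_one,
        Units.val_one]
    refine (mul_eq_zero.1 (show ((ω₀ : K) - 1) * _ = 0 by linear_combination h5)).resolve_left
      fun h => ?_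
    rw [show ω₀ = 1 from Units.ext (sub_eq_zero.1 h), orderOf_one] at hω₀
    omega
  generalize (ω₀ : K) = ω at hω
  let φ : ZMod 2 →+* K := ZMod.castHom dvd_rfl K
  have t2 : (2 : K) = 0 := two_eq φ
  have hall : ∀ t : K, t = 0 ∨ t = 1 ∨ t = ω ∨ t = ω ^ 2 := fun t => by
    have h4 := FiniteField.pow_card t
    rw [hK] at h4
    have : t * ((t - 1) * ((t - ω) * (t - ω ^ 2))) = 0 := by
      linear_combination h4 + (t * (t - 1) * (ω - 1 - t)) * hω
    simpa only [mul_eq_zero, sub_eq_zero] using this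
  obtain ⟨C, h1, h2⟩ := exists_inv φ hω
  let f : GL (Fin 78) (ZMod 2) →* Matrix chevE6.Idx chevE6.Idx K :=
    { toFun := fun g => Bm ω * ((g⁻¹ : GL (Fin 78) (ZMod 2)).val.map φ)ᵀ * C
      map_one' := by simp [h1]
      map_mul' := fun g h => by
        rw [_root_.mul_inv_rev, Units.val_mul, Matrix.map_mul, transpose_mul]
        simp only [Matrix.mul_assoc]
        rw [← Matrix.mul_assoc C, h2, Matrix.one_mul] }
  have hf : ∀ i < 12, f (el (i + 9)) =
      chevE6.wordMat K ((gw.getD i []).map fun p => (p.1, ω ^ p.2)) := fun i hi => by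
    change Bm ω * (((el (i + 9))⁻¹).val.map φ)ᵀ * C = _
    rw [el_inv, el_val (by omega), ← word_Bm φ hω hi, Matrix.mul_assoc, h1, Matrix.mul_one]
  have hF : Function.Injective f.toHomUnits := (injective_iff_map_eq_one _).2 fun g hg => by
    have e : Bm ω * ((g⁻¹ : GL (Fin 78) (ZMod 2)).val.map φ)ᵀ * C = 1 := congrArg Units.val hg
    have e2 := congrArg (fun A => C * A * Bm ω) e
    simp only [Matrix.mul_assoc, h2, Matrix.mul_one] at e2
    rw [← Matrix.mul_assoc, h2, Matrix.one_mul, transpose_eq_one,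
      ← Matrix.map_one φ (map_zero φ) (map_one φ)] at e2
    exact inv_eq_one.1 (Units.ext (Matrix.map_injective φ.injective e2))
  let Γ : Subgroup (GL (Fin 78) (ZMod 2)) := Subgroup.closure {g | ∃ i < 12, g = el (i + 9)}
  have hΓ : ∀ i < 12, el (i + 9) ∈ Γ := fun i hi => Subgroup.subset_closure ⟨i, hi, rfl⟩
  have e : Γ.map f.toHomUnits = twistedE6 K 2 := by
    refine le_antisymm (Subgroup.map_le_iff_le_comap.2 ((Subgroup.closure_le _).2 ?_))
      ((Subgroup.closure_le _).2 ?_)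
    · rintro _ ⟨i, hi, rfl⟩
      exact Subgroup.subset_closure ⟨_, word_mem hω hi, hf i hi⟩
    rintro g ⟨w, hw, hg⟩
    suffices ∃ γ ∈ Γ, f γ = chevE6.wordMat K w by
      obtain ⟨γ, a, b⟩ := this
      exact ⟨γ, a, Units.ext (b.trans hg.symm)⟩
    have z := H37.E6.checked.x_zero (F := K)
    rcases hw with ⟨t, ht, r, hr, rfl⟩ | ⟨t, ⟨r, s⟩, hr, rfl⟩
    · rcases mul_eq_zero.1 (show t * (t - 1) = 0 by linear_combination ht) with rfl | h
      · exact ⟨1, one_mem _, by simp [ChevalleyDatum.wordMat, z]⟩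
      obtain ⟨i, hi, e⟩ := (by decide : ∀ r ∈ [e6p2, e6m2, e6p4, e6m4], ∃ i < 12,
        gw.getD i [] = [(r, 0)]) r hr
      exact ⟨_, hΓ i hi, by rw [hf i hi, e, sub_eq_zero.1 h]; simp⟩
    obtain ⟨⟨i, hi, ei⟩, ⟨j, hj, ej⟩, a1, a2, a3, a4, a5⟩ := (by decide +kernel : ∀ p ∈
      [(e6p1, e6p6), (e6m1, e6m6), (e6p3, e6p5), (e6m3, e6m5)],
      (∃ i < 12, gw.getD i [] = [(p.1, 0), (p.2, 0)]) ∧
      (∃ i < 12, gw.getD i [] = [(p.1, 1), (p.2, 2)]) ∧ p.1 < chevE6.nroots ∧ p.2 < chevE6.nroots ∧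
      p.2 ≠ p.1 ∧ p.2 ≠ chevE6.neg p.1 ∧ chevE6.commTerms p.1 p.2 = []) _ hr
    rcases hall t with rfl | rfl | rfl | rfl
    · exact ⟨1, one_mem _, by simp [ChevalleyDatum.wordMat, z]⟩
    · exact ⟨_, hΓ i hi, by rw [hf i hi, ei]; simp⟩
    · exact ⟨_, hΓ j hj, by rw [hf j hj, ej]; simp⟩
    refine ⟨_, mul_mem (hΓ i hi) (hΓ j hj), ?_⟩
    have c := H37.E6.checked.x_comm (F := K) a1 a2 a3 a4 ω 1
    rw [ChevalleyDatum.commWord, a5] at c
    have e1 : (ω ^ 2) ^ 2 = 1 + ω ^ 2 := by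
      linear_combination (ω ^ 2 - ω - 1) * hω + ω * t2
    have e2 : ω ^ 2 = 1 + ω := by linear_combination hω - (1 + ω) * t2
    rw [map_mul, hf i hi, hf j hj, ei, ej]
    simp only [ChevalleyDatum.wordMat, List.map_cons, List.map_nil, List.prod_cons, List.prod_nil,
      mul_one, pow_zero, pow_one] at c ⊢
    rw [e1, ← H37.E6.checked.x_add a2, mul_assoc, ← mul_assoc (chevE6.x K s 1), c, mul_assoc,
      ← mul_assoc, H37.E6.checked.x_add a1, ← e2]
  let ε := (Γ.equivMapOfInjective _ hF).trans (MulEquiv.subgroupCongr e)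
  have lmq : ∀ i < 12, (el (i + 9)).val = lm 78 Gs i := fun i hi => by
    rw [el_val (by omega)]
    interval_cases i <;> rfl
  refine ⟨(Units.coeHom Mat).comp (Γ.subtype.comp ε.symm.toMonoidHom),
    Units.val_injective.comp (Subtype.val_injective.comp ε.symm.injective), fun g => ?_, fun w => ?_⟩
  · let A : Subgroup (GL (Fin 78) (ZMod 2)) :=
      { carrier := {g | H38.E2.Inv g.val}
        one_mem' := fun v => by simp
        mul_mem' := fun ha hb => ha.mul hb
        inv_mem' := fun {g} hg v => by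
          have := hg (v ᵥ* (g⁻¹).val)
          rw [vecMul_vecMul, Units.inv_mul, vecMul_one] at this
          rw [← Units.mul_right_inj g, Units.mul_inv_cancel_left, ← mul_assoc, this,
            Units.mul_inv_cancel_right] }
    have : Γ ≤ A := (Subgroup.closure_le _).2 (by
      rintro _ ⟨i, hi, rfl⟩
      change H38.E2.Inv (el (i + 9)).val
      exact (lmq i hi).symm ▸ inv_lm hi)
    exact this (ε.symm g).2
  · induction w with
    | nil => exact ⟨1, map_one _⟩
    | cons x w ih =>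
      obtain ⟨g, hg⟩ := ih
      by_cases hx : x < 12
      · refine ⟨ε ⟨_, hΓ x hx⟩ * g, ?_⟩
        rw [map_mul, hg, wm, wm, List.map_cons, List.prod_cons, ← lmq x hx]
        simp
      · obtain ⟨y, rfl⟩ : ∃ y, x = y + 12 := ⟨x - 12, by omega⟩
        refine ⟨g, ?_⟩
        rw [hg, wm, wm, List.map_cons, List.prod_cons,
          show lm 78 Gs (y + 12) = 1 from toMat_idL 78, one_mul]


/-- In the simple group ²E₆(2) (the twisted group of type E₆ over the field with 4 elements), for every prime p > 5 no p-local subgroup is maximal: the normaliser of a non-trivial p-subgroup is never a maximal subgroup. -/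
theorem result {K : Type*} [Field K] [Fintype K] (hK : Fintype.card K = 4) (p : ℕ) (hp : p.Prime) (h5 : 5 < p)
    (P : Subgroup (Cfsg.Lie.twistedE6 K 2)) (hP : IsPGroup p P) (hP1 : P ≠ ⊥) :
    ¬ IsCoatom (Subgroup.normalizer (P : Set (Cfsg.Lie.twistedE6 K 2))) := by
  obtain ⟨ρ, h1, h2, h3⟩ := iface hK
  have hK' : Fintype.card K = 2 ^ 2 := hK
  obtain ⟨φ, hφ⟩ := H40.exists_frob Nat.prime_two.isPrimePow hK'
  have := H40.card_E6 Nat.prime_two.isPrimePow hK' hφ
  exact H38.E2.main h1 h2 h3 (by norm_num at this ⊢; omega) hp h5 hP hP1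

end Cfsg.Agent.S5740
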