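import Cfsg.Statements.S5743
import Cfsg.Agent.H64.OutE6
import Cfsg.Agent.H64.FoldData

set_option autoImplicit false
open Cfsg

namespace Cfsg.Agent.S5743

open Cfsg.Lie Cfsg.Agent.H37 Cfsg.Agent.H40 Cfsg.Agent.H64

/-- The simple group ²E₆(2) (the twisted group of type E₆ over the field with 4 elements) contains at least three pairwise non-conjugate subgroups isomorphic to the Chevalley group F₄(2). -/
theorem result {K : Type*} [Field K] [Fintype K] (hK : Fintype.card K = 4) :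
    ∃ H : Fin 3 → Subgroup (Cfsg.Lie.twistedE6 K 2),
      (∀ i, Nonempty ((H i) ≃* Cfsg.Lie.chevF4.group (ZMod 2))) ∧
      (∀ i j, i ≠ j → ∀ g : (Cfsg.Lie.twistedE6 K 2), (H i).map (MulAut.conj g).toMonoidHom ≠ H j) := by
  have : Fact (Nat.Prime 2) := ⟨Nat.prime_two⟩
  have hq : IsPrimePow 2 := Nat.prime_two.isPrimePow
  have hK' : Fintype.card K = 2 ^ 2 := hK
  have : CharP K 2 := charP_of_card_eq_prime_pow hK'
  obtain ⟨φ, hφ⟩ := exists_frob hq hK'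
  have h2 := frob_iter_self hK' hφ
  rw [← Fix_E6 h2 hφ]
  let ι : ZMod 2 →+* K := ZMod.castHom dvd_rfl K
  have hι : ∀ t, φ (ι t) = ι t := fun t => DFunLike.congr_fun (Subsingleton.elim (φ.comp ι) ι) t
  have hι' : ∀ j t, Fj CE6 φ j (ι t) := fun j t => Function.iterate_fixed (hι t) _
  let β := H39.glMap chevE6 ι
  have hβ : Function.Injective β := fun _ _ h => Units.ext (Matrix.map_injective ι.injective (congrArg Units.val h))
  have hx : ∀ j t, β (ox isChev_E6 CE6 (RingHom.id _) j t) = ox isChev_E6 CE6 φ j (ι t) := fun j =>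
    glMap_ow ι hι _
  have hy : ∀ j t, β (oy isChev_E6 CE6 (RingHom.id _) j t) = oy isChev_E6 CE6 φ j (ι t) := fun j =>
    glMap_ow ι hι _
  have hgen : ∀ M : Subgroup (GL chevE6.Idx K), (∀ j t, ox isChev_E6 CE6 φ j (ι t) ∈ M ∧
      oy isChev_E6 CE6 φ j (ι t) ∈ M) → (TE (RingHom.id (ZMod 2))).mt.Fix.map β ≤ M := fun M hM =>
    Subgroup.map_le_iff_le_comap.2 ((Fix_le_G0_E6 fun t => by simp).trans ((TE _).G0_le_ox (TE_e _) orbE6
      fun j t _ => by rw [Subgroup.mem_comap, Subgroup.mem_comap, hx, hy]; exact hM j t))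
  have hle := hgen (TE φ).mt.Fix fun j t => ⟨((TE φ).ox_mem_Fix (TE_e φ) (orbE6 j)).2 (hι' j t),
    ((TE φ).oy_mem_Fix (TE_e φ) (orbE6 j)).2 (hι' j t)⟩
  obtain ⟨ω, hω⟩ := IsCyclic.exists_ofOrder_eq_natCard (α := Kˣ)
  rw [Nat.card_units, Nat.card_eq_fintype_card, hK] at hω
  have h3 : ∀ t : Kˣ, t ^ 3 = 1 := fun t => by
    have := pow_card_eq_one' (x := t)
    rwa [Nat.card_units, Nat.card_eq_fintype_card, hK] at this
  let a : Fin 3 → Fin 4 → Kˣ := fun i j => if j = 3 then ω ^ (i : ℕ) else 1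
  have ha : ∀ i j, Fj CE6 φ j (a i j) := fun i j => by
    by_cases h : j = 3
    · subst h; exact h2 _
    · simp only [a, if_neg h]; exact Function.iterate_fixed (map_one φ) _
  choose δ hδ using fun i => e6_df hq hK' hφ 1 (ha i)
  let τ : RingAut K := RingEquiv.ofBijective φ (Finite.injective_iff_bijective.1 φ.injective)
  obtain ⟨ψ, hψ⟩ := e6_df hq hK' hφ τ (a := 1) fun j => Function.iterate_fixed (map_one φ) _
  have hτ : ∀ t, τ t = φ t := fun _ => rfl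
  simp only [hτ, Pi.one_apply, Units.val_one, inv_one, one_mul, RingAut.one_apply] at hδ hψ
  have hfix := hgen (fixSub ψ) fun j t => by have := hψ j _ (hι' j t); rwa [hι] at this
  let H := ((TE (RingHom.id (ZMod 2))).mt.Fix.map β).subgroupOf (TE φ).mt.Fix
  refine ⟨fun i => H.map (δ i).toMonoidHom, fun i => ?_, fun i i' hne g e => hne ?_⟩
  · obtain ⟨e⟩ := fold_F4 (ZMod 2)
    exact ⟨((δ i).subgroupMap H).symm.trans ((Subgroup.subgroupOfEquivOfLe hle).trans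
      (((TE _).mt.Fix.equivMapOfInjective β hβ).symm.trans e))⟩
  have key : ∀ {y z z' : GL chevE6.Idx K}, y ∈ (TE (RingHom.id (ZMod 2))).mt.Fix.map β → Sends (δ i) y z →
      Sends (δ i' * (ψ * (δ i')⁻¹)) z z' →
      ((g⁻¹ * (δ i' * (ψ * (δ i')⁻¹)) g : (TE φ).mt.Fix) : GL chevE6.Idx K) * z' *
        ((g⁻¹ * (δ i' * (ψ * (δ i')⁻¹)) g : (TE φ).mt.Fix) : GL chevE6.Idx K)⁻¹ = z := by
    rintro y _ _ hy ⟨h1, rfl⟩ ⟨h4, rfl⟩
    obtain ⟨y', h5, h6⟩ : MulAut.conj g (δ i ⟨y, h1⟩) ∈ H.map (δ i').toMonoidHom :=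
      e.le ⟨_, ⟨⟨y, h1⟩, hy, rfl⟩, rfl⟩
    have h7 : ψ y' = y' := Subtype.ext (hfix h5).snd
    have h8 : (δ i' * (ψ * (δ i')⁻¹)) (δ i' y') = δ i' y' := by simp [h7]
    rw [show δ i' y' = g * δ i ⟨y, h1⟩ * g⁻¹ from h6, map_mul, map_mul, map_inv] at h8
    have h9 : g⁻¹ * (δ i' * (ψ * (δ i')⁻¹)) g * (δ i' * (ψ * (δ i')⁻¹)) (δ i ⟨y, h1⟩) *
        (g⁻¹ * (δ i' * (ψ * (δ i')⁻¹)) g)⁻¹ = δ i ⟨y, h1⟩ := by
      rw [mul_inv_rev, inv_inv, mul_assoc g⁻¹, mul_assoc g⁻¹, ← mul_assoc _ _ g, h8]; group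
    exact congrArg Subtype.val h9
  generalize g⁻¹ * (δ i' * (ψ * (δ i')⁻¹)) g = x at key
  have hF : ∀ j {s t : K}, Fj CE6 φ j s → Fj CE6 φ j t → Fj CE6 φ j (s * t) ∧ Fj CE6 φ j s⁻¹ ∧ Fj CE6 φ j (φ s) :=
    fun j s t hs ht => by
      refine ⟨?_, ?_, (Function.Commute.iterate_self φ _ s).trans (congrArg φ hs)⟩ <;>
        simp only [Fj, ← RingHom.coe_pow] at hs ht ⊢ <;> simp only [map_mul, map_inv₀, hs, ht]
  have h1 := fun j => hι' j 1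
  rw [map_one] at h1
  have k1 : ∀ j, x.1 * ox isChev_E6 CE6 φ j (a i' j * φ ((a i' j : K)⁻¹ * a i j)) * x.1⁻¹ =
      ox isChev_E6 CE6 φ j (a i j) := fun j => by
    have h4 := (hF j (hF j (ha i' j) (h1 j)).2.1 (ha i j)).1
    have h5 := (hδ i' j _ h4).1
    rw [mul_inv_cancel_left₀ (Units.ne_zero _)] at h5
    exact key ⟨_, ((TE _).ox_mem_Fix (TE_e _) (orbE6 j)).2 (by simp), (hx j 1).trans (by rw [map_one])⟩
      (by simpa using (hδ i j 1 (h1 j)).1) ((h5.symm.trans (hψ j _ h4).1).trans (hδ i' j _ (hF j h4 h4).2.2).1)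
  have k2 : ∀ j, x.1 * oy isChev_E6 CE6 φ j ((a i' j : K)⁻¹ * φ (a i' j * (a i j : K)⁻¹)) * x.1⁻¹ =
      oy isChev_E6 CE6 φ j (a i j : K)⁻¹ := fun j => by
    have h4 := (hF j (ha i' j) (hF j (ha i j) (h1 j)).2.1).1
    have h5 := (hδ i' j _ h4).2
    rw [inv_mul_cancel_left₀ (Units.ne_zero _)] at h5
    exact key ⟨_, ((TE _).oy_mem_Fix (TE_e _) (orbE6 j)).2 (by simp), (hy j 1).trans (by rw [map_one])⟩
      (by simpa using (hδ i j 1 (h1 j)).2) ((h5.symm.trans (hψ j _ h4).2).trans (hδ i' j _ (hF j h4 h4).2.2).2)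
  have hF1 : ∀ j, Fj CE6 φ j (a i' j * φ ((a i' j : K)⁻¹ * a i j)) := fun j =>
    (hF j (ha i' j) (hF j (hF j (hF j (ha i' j) (h1 j)).2.1 (ha i j)).1 (h1 j)).2.2).1
  have hH := mem_H_of_conj_one (e6_w0 φ) x.2
    (fun j => ⟨_, (TE φ).ox_mem_XJ (orbE6 j) _, fun h => by
      simpa using ox_inj (orbE6 j) (h.trans (ox_zero (orbE6 j)).symm),
      k1 j ▸ (TE φ).mt.XJ_le j ((TE φ).ox_mem_XJ (orbE6 j) _)⟩)
    fun j => ⟨_, oy_mem_YJ _ (TE_e φ) (orbE6 j) (hF j (hF j (ha i' j) (h1 j)).2.1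
      (hF j (hF j (ha i' j) (hF j (ha i j) (h1 j)).2.1).1 (h1 j)).2.2).1, oy_ne (orbE6 j) (by simp),
      k2 j ▸ (TE φ).mt_V ▸ oy_mem_V (orbE6 j) _⟩
  obtain ⟨⟨⟨s, u⟩, t, v⟩, hk⟩ : x.1 ∈ (eh φ).range := range_eh h2 ▸ ⟨hH, x.2⟩
  have k3 := fun j => ox_inj (orbE6 j) ((conj_ox _ (TE_e φ) (orbE6 j) (hk ▸ isH_eh φ _) x.2 (hF1 j)).symm.trans (k1 j))
  have k4 := k3 2
  have k5 := k3 3
  rw [show chevE6.simple (CE6.word 2).headI = 42 from rfl, (chiE6 _).2.2.1] at k4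
  rw [show chevE6.simple (CE6.word 3).headI = 56 from rfl, (chiE6 _).1] at k5
  have hv : (v : Kˣ) = 1 := Units.ext (by
    have := (mem_fixU φ).1 v.2
    rwa [hφ, sq, mul_right_eq_self₀, or_iff_left (Units.ne_zero _)] at this)
  have k6 : u ^ 2 = s := by
    rw [← div_eq_one, Units.ext_iff]
    simpa [a, ec, hv] using k4
  have k7 : ω ^ (i' : ℕ) * ((ω ^ (i' : ℕ))⁻¹ * ω ^ (i : ℕ)) ^ 2 = ω ^ (i : ℕ) := by
    rw [Units.ext_iff]
    simpa [a, ec, ← k6, ← pow_mul, pow_succ u 3, h3, hφ] using k5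
  have k8 : ω ^ (i : ℕ) = ω ^ (i' : ℕ) := by
    rw [eq_comm, ← inv_mul_eq_one, ← mul_left_inj ((ω ^ (i' : ℕ))⁻¹ * ω ^ (i : ℕ)), ← sq, one_mul,
      eq_inv_mul_iff_mul_eq, k7]
  exact Fin.ext (pow_injOn_Iio_orderOf (by rw [hω]; exact i.2) (by rw [hω]; exact i'.2) k8)


end Cfsg.Agent.S5743
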