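import Cfsg.Statements.S5744
import Cfsg.Agent.H80E.Main
import Cfsg.Agent.S1686
import Cfsg.Agent.S2604
import Cfsg.Agent.H63.Cls

set_option autoImplicit false
open Cfsg

namespace Cfsg.Agent.S5744


/-- The simple group ²E₆(2) (the twisted group of type E₆ over the field with 4 elements) contains at least three pairwise non-conjugate subgroups isomorphic to the orthogonal group Ω₇(3) (the commutator subgroup of the isometry group of x₀² + x₁y₁ + x₂y₂ + x₃y₃ over the field with 3 elements). -/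
theorem result {K : Type*} [Field K] [Fintype K] (hK : Fintype.card K = 4) :
    ∃ H : Fin 3 → Subgroup (Cfsg.Lie.twistedE6 K 2),
      (∀ i, Nonempty ((H i) ≃* Cfsg.Omega (ZMod 3) (Cfsg.quadFormOdd 3 (ZMod 3)))) ∧
      (∀ i j, i ≠ j → ∀ g : (Cfsg.Lie.twistedE6 K 2), (H i).map (MulAut.conj g).toMonoidHom ≠ H j) := by
  obtain ⟨e⟩ := S1686.result
  obtain ⟨o⟩ := S2604.result (F := ZMod 3) (p := 3) (f := 1) (m := 3) le_rfl (by simp) (by decide) le_rfl
  obtain ⟨e'⟩ := H63.equiv_quot_center (H63.card_center_omega (H11.qOdd (ZMod 3) 3) _ (H11.qOdd_eq _ 3)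
    (H11.nd_qOdd (by decide) 3) (by simp) (Or.inr (by decide)))
  obtain ⟨H, h1, h2⟩ := H80E.three_e6 hK ((Subgroup.subtype _).comp e.symm.toMonoidHom)
    (Subtype.val_injective.comp e.symm.injective) (by rw [Nat.card_congr o.toEquiv]; simp) fun x hx =>
      ⟨e ⟨_, FreeGroup.of x, Subgroup.subset_closure (by cases x <;> simp at hx ⊢), rfl⟩,
        congrArg Subtype.val (e.symm_apply_apply _)⟩
  exact ⟨H, fun i => ⟨(h1 i).some.trans e'.symm⟩, h2⟩

end Cfsg.Agent.S5744
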