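import Cfsg.Statements.S5748
import Cfsg.Agent.H8.InvAbSimple

set_option autoImplicit false
open Cfsg

namespace Cfsg.Agent.S5748

/-- A finite non-abelian simple group in which commuting is a transitive relation on the non-identity elements (equivalently, every non-identity element has abelian centraliser) is isomorphic to PSL₂ over a field with 2^f elements for some f ≥ 2; conversely these groups have that property. -/
theorem result {G : Type*} [Group G] [Finite G] [IsSimpleGroup G] (hG : ¬ IsMulCommutative G) :
    (∀ a b c : G, a ≠ 1 → b ≠ 1 → c ≠ 1 → Commute a b → Commute b c → Commute a c) ↔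
    ∃ (F : Type) (_ : Field F) (_ : Fintype F) (f : ℕ), 2 ≤ f ∧ Fintype.card F = 2 ^ f ∧ Nonempty (G ≃* Matrix.ProjectiveSpecialLinearGroup (Fin 2) F) := by
  constructor
  · intro h
    have hab : H8.AbC G := fun t x y ht hx hy => by
      by_cases hx1 : x = 1
      · rw [hx1]; exact Commute.one_left y
      by_cases hy1 : y = 1
      · rw [hy1]; exact Commute.one_right x
      exact h x t y hx1 (H8.ne_one_of_orderOf_two ht) hy1 hx hy.symm
    obtain ⟨K, _, _, _, h4, ⟨e⟩⟩ := hab.sl2_of_simple hG
    obtain ⟨n, hn, hK⟩ := H8.exists_two_le_of_four_le (CharP.cast_eq_zero K 2) h4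
    obtain ⟨e'⟩ := H8.nonempty_sl_equiv_psl K (CharP.cast_eq_zero K 2)
    exact ⟨K, inferInstance, inferInstance, n, hn, Nat.card_eq_fintype_card.symm.trans hK,
      ⟨e.trans e'⟩⟩
  · rintro ⟨K, _, _, n, hn, hK, ⟨e⟩⟩ a b c - hb - hab hbc
    have h2 := H8.two_eq_zero_of_card (K := K) (n := n) (by omega) (Nat.card_eq_fintype_card.trans hK)
    obtain ⟨e'⟩ := H8.nonempty_sl_equiv_psl K h2
    let f := e.trans e'.symm
    have := H8.sl2e_ct h2 (x := f b) (by simpa using hb) (hab.map f) (hbc.symm.map f)
    exact f.injective (by rw [map_mul, map_mul, this.eq])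

end Cfsg.Agent.S5748
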