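import Cfsg.Statements.S5774
import Cfsg.Agent.H85.L3M
import Cfsg.Agent.S5775
import Cfsg.Agent.S5776

set_option autoImplicit false
open Cfsg

namespace Cfsg.Agent.S5774

open Cfsg.Geo Cfsg.Agent.H98 Cfsg.Agent.H99 Cfsg.Agent.H85.L3 Matrix

section

variable {F : Type*} [Field F] [Fintype F]

local notation "𝐆" => GL (Fin 3) F
local notation "𝐒" => specialLinear (Fin 3) F
local notation "𝐪" => Fintype.card F

omit [Fintype F] in
theorem quad_eq {Q : (Fin 3 → F) → F} (hQ : IsNondegenerateQuadraticForm Q) (h2 : (2 : F) ≠ 0) :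
    quadSimilarityGroup Q = similarityGroup (QuadraticMap.polar Q) := by
  refine le_antisymm (quadSim_le_sim Q) (sim_le_quadSim_half.trans (le_of_eq ?_))
  congr 1
  ext v
  rw [QuadraticMap.polar, ← two_smul F v, hQ.smul]
  field_simp
  ring

theorem cases {M : Subgroup 𝐆} (hM : IsMaximalIn 𝐒 M) : ¬ Irr M ∨
    (5 ≤ 𝐪 ∧ T2 M ∧ ∃ Q Y, M = Y ⊓ 𝐒 ∧
      ∀ g, g ∈ pb Q Y ↔ ∃ σ, BlockMono id σ (g : Matrix (Fin 3) (Fin 3) F)) ∨
    (NoInv M ∧ ∃ K, IsFieldSubalgebra 3 K ∧ M = subalgebraNormalizer K ⊓ 𝐒) ∨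
    (∃ (F₀ : Subfield F) (r : ℕ) (P : 𝐆), r.Prime ∧ 𝐪 = Nat.card F₀ ^ r ∧ M = subfieldSubgroup F₀ P ⊓ 𝐒) ∨
    (T6 M ∧ 7 ≤ ringChar F ∧ ∀ (ω : F) (h : Om ω), Nat.card M = Nat.card h.NR) ∨
    (∃ σ f, IsSesq σ 1 f ∧ M = similarityGroup f ⊓ 𝐒) ∨
    (∃ k, PGc k M ∧ (k = 9 ∧ 𝐪 = 4 ∨
      2 ≤ k ∧ k + 2 < 𝐪 ∧ ¬ ringChar F ∣ (k - 1) * k * (k + 1))) := by
  rcases S5775.result M hM with ⟨W, h0, h1, rfl⟩ | ⟨h, D, hD, rfl⟩ | ⟨-, K, hK, rfl⟩ | h |
    ⟨p, R, hp, hq, h3, hR, rfl⟩ | ⟨h, Q, hQ, rfl⟩ | ⟨σ, f, hf, rfl⟩ | h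
  · exact Or.inl fun h => (h W (inv_of_le_stab inf_le_left)).elim h0 h1
  · obtain ⟨Q, hQ⟩ := exists_frame_dec hD
    exact Or.inr (Or.inl ⟨h, t2_of_le hD inf_le_left, Q, _, rfl, hQ⟩)
  · exact Or.inr (Or.inr (Or.inl ⟨noInv_of_le hK inf_le_right inf_le_left, K, hK, rfl⟩))
  · exact Or.inr (Or.inr (Or.inr (Or.inl h)))
  · have hz := center_three hR
    obtain ⟨ω, h⟩ := exists_om (F := F) (by omega)
    refine Or.inr (Or.inr (Or.inr (Or.inr (Or.inl ⟨?_, ?_, fun ω h => ?_⟩))))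
    · obtain ⟨P, hP⟩ := h.exists_frame_NR hR.symplecticType hR.absIrred hz
      exact ⟨ω, h, P, hP.le⟩
    · rw [char_eq hp (hq.trans (pow_one p).symm)]
      have := hp.two_le
      have : p ≠ 4 := by rintro rfl; norm_num at hp
      omega
    · obtain ⟨P, hP⟩ := h.exists_frame_NR hR.symplecticType hR.absIrred hz
      rw [← hP, card_pb]
  · exact Or.inr (Or.inr (Or.inr (Or.inr (Or.inr (Or.inl ⟨_, _, isSesq_polar hQ, by
      rw [quad_eq hQ (two_ne_zero_of_odd h)]⟩)))))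
  · exact Or.inr (Or.inr (Or.inr (Or.inr (Or.inr (Or.inl ⟨_, _, isSesq_of_unitary hf, rfl⟩)))))
  · refine Or.inr (Or.inr (Or.inr (Or.inr (Or.inr (Or.inr ?_)))))
    obtain ⟨P, p, hc, hp, hch, h⟩ := S5776.result M hM h
    rw [ringChar.eq F p]
    have h2 := hp.two_le
    rcases h with ⟨⟨e⟩, h1, h3, h4⟩ | ⟨⟨e⟩, h1⟩
    · have h5 : 11 ≤ p := by
        by_contra h; interval_cases p <;> simp_all (config := {decide := true})
      exact ⟨7, pgc_seven hc e, Or.inr ⟨by norm_num, by omega, not_dvd_7 hp h5⟩⟩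
    · have h5 : (5 : F) ≠ 0 := fun h => by
        have := (Nat.prime_dvd_prime_iff_eq hp Nat.prime_five).1 ((CharP.cast_eq_zero_iff F p 5).1 h)
        omega
      refine ⟨9, pgc_nine h5 hM.1.le hc e, ?_⟩
      by_cases h6 : p = 2
      · subst h6; left; omega
      · have h7 : 7 ≤ p := by
          by_contra h; interval_cases p <;> simp_all (config := {decide := true})
        refine Or.inr ⟨by norm_num, ?_, not_dvd_9 hp h7⟩
        rcases h1 with h1 | h1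
        · omega
        · nlinarith

theorem c2 (hq : 5 ≤ 𝐪) {D : Fin 3 → Submodule F (Fin 3 → F)} (hD : IsMDecomposition 1 D) :
    IsMaximalIn 𝐒 (decompositionStabilizer D ⊓ 𝐒) := by
  obtain ⟨Q, hQ⟩ := exists_frame_dec hD
  refine maximal_frame (pb_sl Q) (not_sl_le_decStab hD) fun M h1 hM => ?_
  have h := mon_sl hQ
  obtain ⟨x, hx⟩ := exists_ord (F := F) dvd_rfl
  rcases cases hM with h2 | ⟨-, -, Q', Y, rfl, h2⟩ | ⟨h2, -⟩ | ⟨F₀, r, P, hr, hc, rfl⟩ |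
    ⟨h2, h3, -⟩ | ⟨σ, f, hf, rfl⟩ | ⟨k, h2, h3⟩
  · exact absurd ((h.irr (x := x) trivial (by omega)).mono h1) h2
  · exact le_of_frames (P := 1) (Q := Q') (by
      rw [pb_one]; exact Subgroup.ext fun g => (hQ g).trans (h2 g).symm) (pb_sl _) (pb_sl _) h1
  · exact absurd h2 (not_noInv_s (h1 h.s))
  · have h2 := two_le_card_sub F₀
    have h3 := Nat.le_of_dvd (by omega) (h.t5 (x := x) trivial ⟨P, h1.trans inf_le_left⟩)
    have h4 := Nat.pow_le_pow_right (n := Nat.card F₀) (by omega) hr.two_le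
    rw [hx] at h3
    rw [← hc, sq] at h4
    obtain h5 | h5 : Nat.card F₀ = 2 ∨ 3 ≤ Nat.card F₀ := by omega
    · omega
    · have := Nat.mul_le_mul_right (Nat.card F₀) h5
      omega
  · exact absurd (h2.mono h1) (h.not_t6 (two_ne_of_char (by omega)) trivial)
  · exact absurd ⟨f, hf, h1.trans inf_le_left⟩ (h.not_t8 hq)
  · rcases h3 with ⟨-, h3⟩ | ⟨h3, h4, -⟩
    · omega
    · have := h.pgc (x := x) trivial h3 (h2.mono h1)
      omega

theorem c3 (hq : 𝐪 ≠ 4) {K : Subalgebra F (Matrix (Fin 3) (Fin 3) F)} (hK : IsFieldSubalgebra 3 K) :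
    IsMaximalIn 𝐒 (subalgebraNormalizer K ⊓ 𝐒) := by
  refine maximal_of (not_sl_le_fieldNorm (by simp) (by norm_num) hK) fun M h1 hM => ?_
  obtain ⟨k, h⟩ := exists_sing_sl hK
  have hk := h1 ⟨h.mem_norm, h.sl⟩
  have q2 : 2 ≤ 𝐪 := Fintype.one_lt_card
  have n : ∀ m, 𝐪 ^ 2 + 𝐪 + 1 ∣ m → m ≠ 0 → 𝐪 ^ 2 + 𝐪 + 1 ≤ m := fun m h h0 =>
    Nat.le_of_dvd (by omega) h
  have n3 : ¬ 𝐪 ^ 2 + 𝐪 + 1 ∣ 3 := fun e => by have := n _ e (by norm_num); nlinarith
  rcases cases hM with h2 | ⟨h2, h3, -⟩ | ⟨-, K', hK', rfl⟩ | ⟨F₀, r, P, hr, hc, rfl⟩ |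
    ⟨h2, h3, -⟩ | ⟨σ, f, hf, rfl⟩ | ⟨j, h2, h3⟩
  · exact absurd (h.irr n3 hk) h2
  · have := n _ (h.t2 hk h3) (by norm_num)
    nlinarith
  · rw [h.t3 (fun e => ?_) hK' hk.1]
    · exact inf_le_left
    · have := n _ e (by norm_num)
      have h3 : 𝐪 = 2 := by nlinarith
      rw [h3] at e
      norm_num at e
  · exfalso
    have h2 := two_le_card_sub F₀
    have h3 : 𝐪 ^ 2 + 𝐪 + 1 ≤ 3 * (Nat.card F₀ ^ 3 - 1) := by
      have a1 : Nat.card F₀ ^ 1 < Nat.card F₀ ^ 2 := Nat.pow_lt_pow_right h2 (by norm_num)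
      have a2 : Nat.card F₀ ^ 2 < Nat.card F₀ ^ 3 := Nat.pow_lt_pow_right h2 (by norm_num)
      rw [pow_one] at a1
      rcases h.t5 hk ⟨P, inf_le_left⟩ with e | e <;> have := n _ e (by omega) <;> omega
    have h4 := Nat.pow_le_pow_right (n := Nat.card F₀) (by omega) hr.two_le
    rw [← hc] at h4
    obtain h5 | h5 : Nat.card F₀ = 2 ∨ 3 ≤ Nat.card F₀ := by omega
    · rw [h5] at h3 h4
      norm_num at h3 h4
      nlinarith [show 5 ≤ 𝐪 by omega]
    · have a1 := Nat.pow_le_pow_left h4 2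
      have a2 := Nat.mul_le_mul_right (Nat.card F₀ ^ 3) h5
      rw [← pow_mul] at a1
      rw [← pow_succ'] at a2
      norm_num at a1 a2
      omega
  · have := n _ (h.t6 hk h2) (by norm_num)
    have := char_le (F := F)
    nlinarith
  · by_cases hσ : σ = RingEquiv.refl F
    · subst hσ; exact absurd (h.t8_refl hk ⟨f, hf, inf_le_left⟩) n3
    · obtain ⟨q, hF, rfl⟩ := exists_q hσ hf.invol
      have h2 := h.t8 hk ⟨f, hf, inf_le_left⟩
      have h3 := H10.two_le_of_card_sq hF.out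
      have h4 : 3 ≤ q := by
        by_contra h4
        exact hq (by rw [hF.out, show q = 2 by omega]; rfl)
      rw [hF.out] at h2
      nlinarith [Nat.mul_le_mul_right (q ^ 3) h4]
  · rcases h3 with ⟨-, h3⟩ | ⟨h3, h4, -⟩
    · omega
    · have := h.pgc h3 hk h2
      nlinarith

theorem c4 {F₀ : Subfield F} {r : ℕ} (P : 𝐆) (hr : r.Prime) (hc : 𝐪 = Nat.card F₀ ^ r) :
    IsMaximalIn 𝐒 (subfieldSubgroup F₀ P ⊓ 𝐒) := by
  refine maximal_frame (pb_sl P) (not_sl_le_subfield (by simp)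
    (fun e => sub_ne_top hr hc e.ge) P) fun M h1 hM => ?_
  rw [pb_sub, inv_mul_cancel] at h1 ⊢
  obtain ⟨g, b⟩ := sub_lie F₀
  rcases cases hM with h2 | ⟨-, h2, -⟩ | ⟨h2, -⟩ | ⟨F₁, s, P', hs, hc', rfl⟩ |
    ⟨h2, h3, -⟩ | ⟨σ, f, hf, rfl⟩ | ⟨k, h2, h3⟩
  · exact absurd (g.irr.mono h1) h2
  · exact absurd (b.mono h1) h2.not_big
  · exact absurd h2 (not_noInv_s (h1 ⟨sG_mem_sub F₀, mk1_mem _ _⟩))
  · obtain ⟨h2, h3⟩ := g.le_of_sub (h1.trans inf_le_left)
    have h4 := subfield_eq hr hs hc hc' h2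
    rw [h3 h4, h4]
    exact inf_le_left
  · exact absurd h2 ((g.mono h1).not_t6 (by omega))
  · exact absurd ⟨f, hf, h1.trans inf_le_left⟩ sub_not_t8
  · rcases h3 with ⟨rfl, h3⟩ | ⟨-, -, h3⟩
    · exact absurd (h2.mono h1) (sub_not_pgc (two_eq_of_four h3))
    · exact absurd h2 ((g.mono h1).not_pgc h3)

theorem c5 {p : ℕ} {R : Subgroup 𝐆} (hp : p.Prime) (hq : 𝐪 = p) (h3 : p % 3 = 1)
    (hR : IsLinearSymplecticTypeData 3 R) : IsMaximalIn 𝐒 (subgroupNormalizer R ⊓ 𝐒) := by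
  obtain ⟨ω, h⟩ := exists_om (F := F) (by omega)
  obtain ⟨P, hP⟩ := h.exists_frame_NR hR.symplecticType hR.absIrred (center_three hR)
  have : CharP F p := char_eq hp (hq.trans (pow_one p).symm) ▸ inferInstance
  refine maximal_frame (pb_sl P) (not_sl_le_normalizer (by simp) Nat.prime_three hp
    (by omega) hR.symplecticType.pGroup hR.absIrred) fun M h1 hM => ?_
  rw [pb_inf, pb_sl] at hP
  rw [hP] at h1
  rcases cases hM with h2 | ⟨-, h2, -⟩ | ⟨h2, -⟩ | ⟨F₁, s, P', hs, hc', rfl⟩ |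
    ⟨-, -, h2⟩ | ⟨σ, f, hf, rfl⟩ | ⟨k, h2, -⟩
  · exact absurd (h.irr_NR h1) h2
  · exact absurd h2 (h.not_t2 h1)
  · exact absurd h2 (h.not_noInv h1)
  · exact absurd (Nat.Prime.eq_one_of_pow ((hc'.symm.trans hq).symm ▸ hp)) hs.one_lt.ne'
  · rw [← Subgroup.eq_of_le_of_card_ge h1 (h2 ω h).le, ← hP]
    exact inf_le_left
  · by_cases hσ : σ = RingEquiv.refl F
    · subst hσ
      have := sim_comm hf (h1 (h.Rs_le_NR h.x_mem)).1 (h1 (h.Rs_le_NR h.y_mem)).1 h.xy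
      exact absurd (by rw [sq]; exact this) h.sq_ne_one
    · obtain ⟨q, hF, rfl⟩ := exists_q hσ hf.invol
      exact absurd (Nat.Prime.eq_one_of_pow ((hF.out.symm.trans hq).symm ▸ hp)) (by norm_num)
  · exact absurd h2 (h.not_pgc h1)

theorem c8 {σ : F ≃+* F} {f : (Fin 3 → F) → (Fin 3 → F) → F} (hf : IsSesq σ 1 f)
    (h2 : σ = RingEquiv.refl F → (2 : F) ≠ 0) : IsMaximalIn 𝐒 (similarityGroup f ⊓ 𝐒) := by
  obtain ⟨P, c, c0, hP⟩ := exists_frame_form hf h2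
  refine maximal_frame (pb_sl P) (not_sl_le_similarity (by simp) hf.add_left hf.smul_left hf.nondeg)
    fun M h1 hM => ?_
  rw [pb_sim c0 hP] at h1 ⊢
  obtain ⟨g, b⟩ := sus_aux hf.invol h2
  have h0 := SUs_le.trans h1
  have hs := isSesq_sum hf.invol
  rcases cases hM with h3 | ⟨h4, h3, -⟩ | ⟨h3, -⟩ | ⟨F₁, s, P', hs, hc', rfl⟩ |
    ⟨h3, h4, -⟩ | ⟨τ, f', hf', rfl⟩ | ⟨k, h3, h4⟩
  · exact absurd (g.irr.mono h0) h3
  · exact absurd ((b (by omega)).mono h0) h3.not_big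
  · exact absurd h3 (not_noInv_s (h0 (sG_mem σ)))
  · exact absurd (g.le_of_sub (h0.trans inf_le_left)).1 (sub_ne_top hs hc')
  · exact absurd h3 ((g.mono h0).not_t6 (by omega))
  · have h3 := SUs_le (σ := σ).trans inf_le_left
    obtain rfl : σ = τ := RingEquiv.ext fun x => g.eq_on hs hf' h3 (h0.trans inf_le_left) x trivial
    exact inf_le_left.trans (g.sim_eq hs hf' h3 (h0.trans inf_le_left))
  · rcases h4 with ⟨-, h4⟩ | ⟨-, -, h4⟩
    · obtain ⟨q, hF, rfl⟩ := exists_q (fun e => h2 e (two_eq_of_four h4)) hf.invol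
      obtain rfl : q = 2 := Nat.pow_left_injective two_ne_zero (hF.out.symm.trans h4)
      obtain ⟨ω, h⟩ := exists_om (F := F) (by rw [h4])
      exact absurd h3 (h.not_pgc ((le_inf (h.NR_le_sim hs rfl) inf_le_right).trans h1))
    · exact absurd h3 ((g.mono h0).not_pgc h4)

end

/-- Maximal subgroups of SL_3(q) of geometric type, for a finite field F with q elements (any q). Each of the following subgroups of SL_3(F), obtained by intersecting SL_3(F) with the stated subgroup of GL_3(F), is a maximal subgroup of SL_3(F): (1) the stabiliser of any proper non-zero subspace of F^3; (2) for q ≥ 5, the stabiliser of any decomposition of F^3 into three independent lines; (3) for q ≠ 4, the normaliser of any subfield of the 3 × 3 matrix algebra of degree 3 over F (a commutative subalgebra of dimension 3 in which every non-zero element is invertible); (4) for every subfield F₀ with |F| = |F₀|^r, r prime, every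 subfield group (a conjugate of GL_3(F₀) times the scalars of F); (5) for q = p prime with p ≡ 1 mod 3, the normaliser of any absolutely irreducible 3-subgroup R of exponent 3 with centre of order 3, all of whose characteristic abelian subgroups are cyclic, of order 3^(1+2m) for some m ≥ 1, with F the smallest field of characteristic p containing the cube roots of unity (so R is extraspecial of order 27); (6) for q odd, the group of similarities of any non-degenerate quadratic form on F^3; (7) the group of similarities of any non-degenerate unitary form on F^3 (these exist exactly when q is a square). -/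
theorem result {F : Type*} [Field F] [Fintype F] :
    (∀ W : Submodule F (Fin 3 → F), W ≠ ⊥ → W ≠ ⊤ → Cfsg.Geo.IsMaximalIn (Cfsg.Geo.specialLinear (Fin 3) F) (Cfsg.Geo.subspaceStabilizer W ⊓ Cfsg.Geo.specialLinear (Fin 3) F)) ∧
    (5 ≤ Fintype.card F → ∀ D : Fin 3 → Submodule F (Fin 3 → F), Cfsg.Geo.IsMDecomposition 1 D → Cfsg.Geo.IsMaximalIn (Cfsg.Geo.specialLinear (Fin 3) F) (Cfsg.Geo.decompositionStabilizer D ⊓ Cfsg.Geo.specialLinear (Fin 3) F)) ∧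
    (Fintype.card F ≠ 4 → ∀ K : Subalgebra F (Matrix (Fin 3) (Fin 3) F), Cfsg.Geo.IsFieldSubalgebra 3 K → Cfsg.Geo.IsMaximalIn (Cfsg.Geo.specialLinear (Fin 3) F) (Cfsg.Geo.subalgebraNormalizer K ⊓ Cfsg.Geo.specialLinear (Fin 3) F)) ∧
    (∀ (F₀ : Subfield F) (r : ℕ) (P : Matrix.GeneralLinearGroup (Fin 3) F), r.Prime → Fintype.card F = Nat.card F₀ ^ r → Cfsg.Geo.IsMaximalIn (Cfsg.Geo.specialLinear (Fin 3) F) (Cfsg.Geo.subfieldSubgroup F₀ P ⊓ Cfsg.Geo.specialLinear (Fin 3) F)) ∧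
    (∀ (p : ℕ) (R : Subgroup (Matrix.GeneralLinearGroup (Fin 3) F)), p.Prime → Fintype.card F = p → p % 3 = 1 → Cfsg.Geo.IsLinearSymplecticTypeData 3 R → Cfsg.Geo.IsMaximalIn (Cfsg.Geo.specialLinear (Fin 3) F) (Cfsg.Geo.subgroupNormalizer R ⊓ Cfsg.Geo.specialLinear (Fin 3) F)) ∧
    (Odd (Fintype.card F) → ∀ Q : (Fin 3 → F) → F, Cfsg.Geo.IsNondegenerateQuadraticForm Q → Cfsg.Geo.IsMaximalIn (Cfsg.Geo.specialLinear (Fin 3) F) (Cfsg.Geo.quadSimilarityGroup Q ⊓ Cfsg.Geo.specialLinear (Fin 3) F)) ∧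
    (∀ (σ : F ≃+* F) (f : (Fin 3 → F) → (Fin 3 → F) → F), Cfsg.Geo.IsUnitaryForm σ f → Cfsg.Geo.IsMaximalIn (Cfsg.Geo.specialLinear (Fin 3) F) (Cfsg.Geo.similarityGroup f ⊓ Cfsg.Geo.specialLinear (Fin 3) F)) := by
  refine ⟨c1_sl, fun h _ => c2 h, fun h _ => c3 h, fun _ _ P => c4 P, fun _ _ => c5,
    fun h Q hQ => ?_, fun σ f hf => c8 (isSesq_of_unitary hf) fun e => absurd e hf.ne_refl⟩
  rw [quad_eq hQ (two_ne_zero_of_odd h)]
  exact c8 (isSesq_polar hQ) fun _ => two_ne_zero_of_odd h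

end Cfsg.Agent.S5774
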