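import Cfsg.Statements.S5779
import Cfsg.Agent.H10.P3Five

set_option autoImplicit false
open Cfsg

namespace Cfsg.Agent.S5779

/-- The maximal subgroups of SU_3(q), q ≥ 3, in the residual class. Let F be the field with q² elements and H a maximal subgroup of SU_3(q) (determinant-one isometries of the standard unitary form on F^3) lying in the residual class of the unitary case. Then q = p is prime and the perfect socle preimage P of H satisfies one of: P modulo scalars is isomorphic to the simple group of order 168 (written PSL_3(2)) and p ≡ 3, 5 or 6 mod 7 with p ≠ 5; or P modulo scalars is isomorphic to A_6 and either p ≡ 11 or 14 mod 15 or p = 5; or P modulo scalars is isomorphic to A_7 and p = 5. -/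
theorem result {F : Type*} [Field F] [Fintype F] (q : ℕ) (hF : Fintype.card F = q ^ 2) (hq : 3 ≤ q) (H : Subgroup (Matrix.GeneralLinearGroup (Fin 3) F)) (hH : Cfsg.Geo.IsMaximalIn (Cfsg.GU 3 F q ⊓ Cfsg.Geo.specialLinear (Fin 3) F) H) (hS : Cfsg.Geo.InUnitaryResidualClass H) :
    ∃ P : Subgroup (Matrix.GeneralLinearGroup (Fin 3) F), Cfsg.Geo.IsResidualCore H P ∧ q.Prime ∧
    ((Nonempty ((P ⧸ (Cfsg.Geo.scalars (Fin 3) F).subgroupOf P) ≃* Matrix.ProjectiveSpecialLinearGroup (Fin 3) (ZMod 2)) ∧ q ≠ 5 ∧ (q % 7 = 3 ∨ q % 7 = 5 ∨ q % 7 = 6)) ∨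
     (Nonempty ((P ⧸ (Cfsg.Geo.scalars (Fin 3) F).subgroupOf P) ≃* alternatingGroup (Fin 6)) ∧ (q % 15 = 11 ∨ q % 15 = 14 ∨ q = 5)) ∨
     (Nonempty ((P ⧸ (Cfsg.Geo.scalars (Fin 3) F).subgroupOf P) ≃* alternatingGroup (Fin 7)) ∧ q = 5)) := by
  obtain ⟨P, h, hQ, -⟩ := hS
  obtain ⟨p, hp⟩ := CharP.exists F
  haveI := Fact.mk (CharP.char_is_prime F p)
  haveI := Fact.mk hF
  have uq : ∀ r, H10.P3.Unt P r → q = r := fun r u =>
    Nat.pow_left_injective two_ne_zero (hF.symm.trans u.1)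
  have np : Fintype.card F ≠ p := fun e =>
    Nat.Prime.not_prime_pow le_rfl (hF.symm.trans e ▸ CharP.char_is_prime F p :)
  have hle := (h.le.trans hH.1.le).trans inf_le_left
  rcases H10.P3.core_cases h hQ p with e | ⟨r, u, e⟩ | ⟨e, -, h1⟩ | ⟨e, h1⟩ | ⟨e, h1, u⟩
  · have := (H10.isIsom_iff _).1 (hle (e (H99.tv_mem_sl (Pi.single 0 1) (Pi.single 1 1) (by simp))))
    simpa [H99.coe_tv, Matrix.mul_apply, Fin.sum_univ_three, Matrix.vecMulVec_apply,
      Matrix.one_apply] using congrFun (congrFun this 0) 1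
  · obtain rfl := uq r u
    exact (hH.1.ne (Subgroup.eq_of_le_of_card_ge hH.1.le
      (e.trans (Subgroup.card_le_of_le h.le)))).elim
  · obtain ⟨u, h4⟩ := h1.resolve_left fun u => np u.1
    obtain rfl := uq p u
    exact ⟨P, h, Fact.out, Or.inl ⟨⟨e.some.trans (S0255.result (by simp) (by simp)).some⟩,
      fun h5 => H10.P3.l7_not_max (h5 ▸ hF) h e (h5 ▸ hH), h4⟩⟩
  · rcases h1 with h1 | h1 | h1
    · exact (np h1.1).elim
    · obtain rfl := uq p h1.1
      exact ⟨P, h, Fact.out, Or.inr (Or.inl ⟨e, h1.2⟩)⟩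
    · obtain rfl : q = p := Nat.pow_left_injective two_ne_zero (hF.symm.trans h1.1)
      refine (h1.2.1 ⟨hF, fun g => ?_⟩).elim
      have e1 := (H10.isIsom_iff _).1 (hle g.2)
      have e2 : (H10.P3.rhoP P g⁻¹).transpose = (H10.P3.rhoP P g).map (H10.cj F q) := by
        rw [← mul_one (Matrix.transpose _), ← e1, ← mul_assoc, ← Matrix.transpose_mul]
        erw [H10.P3.mul_inv_rho (H10.P3.rhoP P) g]
        rw [Matrix.transpose_one, one_mul]
        rfl
      rw [← Matrix.trace_transpose, e2, ← AddMonoidHom.map_trace]; rfl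
  · obtain rfl := uq p u
    exact ⟨P, h, Fact.out, Or.inr (Or.inr ⟨e, h1⟩)⟩

end Cfsg.Agent.S5779
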