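import Cfsg.Statements.S5777
import Cfsg.Agent.H85.L3M
import Cfsg.Agent.H10.UMax
import Cfsg.Agent.S5778
import Cfsg.Agent.S5779

set_option autoImplicit false
open Cfsg

namespace Cfsg.Agent.S5777

open Cfsg.Geo Cfsg.Agent.H98 Cfsg.Agent.H99 Cfsg.Agent.H85.L3 Matrix

section

variable {F : Type*} [Field F] [Fintype F] {q : ℕ} [hF : Fact (Fintype.card F = q ^ 2)]

local notation "𝐆" => GL (Fin 3) F
local notation "𝐒" => specialLinear (Fin 3) F
local notation "𝐔" => H10.SUG 3 F q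
local notation "𝐪" => Fintype.card F
local notation "𝐡" => hermForm 3 F q

include hF in
theorem four_le {F₀ : Subfield F} {r : ℕ} (hr : Odd r) (hc : 𝐪 = Nat.card F₀ ^ r) :
    4 ≤ Nat.card F₀ := by
  obtain ⟨t, ht, h⟩ := H10.exists_mem_cj_ne (q := q) hr hc
  have h1 := pow_card_sub ht
  have h2 := two_le_card_sub F₀
  by_contra h3
  have h4 : t * ((t - 1) * (t + 1)) = 0 := by
    obtain e | e : Nat.card F₀ = 2 ∨ Nat.card F₀ = 3 := by omega
    · rw [e] at h1; linear_combination (t + 1) * h1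
    · rw [e] at h1; linear_combination h1
  simp only [mul_eq_zero, sub_eq_zero, add_eq_zero_iff_eq_neg] at h4
  rcases h4 with rfl | rfl | rfl <;> simp at h

theorem om_of (h3 : q % 3 = 2) : ∃ ω : F, Om ω := exists_om (by
  obtain ⟨j, rfl⟩ : ∃ j, q = 3 * j + 2 := ⟨q / 3, by omega⟩
  rw [hF.out]
  exact ⟨3 * j ^ 2 + 4 * j + 1, Nat.sub_eq_of_eq_add (by ring)⟩)

theorem norm_eq (h3 : q % 3 = 2) {R : Subgroup 𝐆} (hR : IsSymplecticTypeGroup 3 R)
    (hi : ActsAbsolutelyIrreducibly (matrixSet R)) (hs : R ≤ similarityGroup 𝐡) :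
    subgroupNormalizer R ⊓ 𝐔 = subgroupNormalizer R ⊓ 𝐒 := by
  have hc : Nat.Coprime 3 (q - 1) := (Nat.prime_three.coprime_iff_not_dvd).2 (by omega)
  refine le_antisymm (inf_le_inf_left _ inf_le_right) fun g hg => ⟨hg.1, ?_, hg.2⟩
  have hf := H10.isSesq_herm (F := F) (q := q) (n := 3)
  obtain ⟨m, h1, h2⟩ := sim_adj hf (le_similarityGroup_of_nz hf (grpAlg_eq_top_of_absIrr hi)
    (H10.fixes_of_le_GU (H10.le_GU_of_sim (by norm_num) hR.pGroup hs hc))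
    (nzG_of_le_normalizer le_rfl) hg.1) hg.2
  have h4 : adj (H10.sig F q) 𝐡 g * g = m • 1 := by rw [h2, smul_mul_assoc, Units.inv_mul]
  have h5 := congrArg (adj (H10.sig F q) 𝐡) h4
  rw [hf.adj_mul, hf.adj_adj, h4, hf.adj_smul, hf.adj_one] at h5
  have h6 : m = H10.sig F q m := by simpa using congrFun (congrFun h5 0) 0
  change m = m ^ q at h6
  obtain ⟨j, rfl⟩ : ∃ j, q = 3 * j + 2 := ⟨q / 3, by omega⟩
  rw [pow_add, pow_mul, h1, one_pow, one_mul] at h6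
  have h7 : m = 1 := by linear_combination (m + 1) * h6 + h1
  exact (H10.mem_isoG_iff_adj hf).2 (by rw [h4, h7, one_smul])

theorem cases (hq : 3 ≤ q) {M : Subgroup 𝐆} (hM : IsMaximalIn 𝐔 M) : ¬ Irr M ∨
    (T2 M ∧ ∃ Q ∈ GU 3 F q, ∃ Y, M = Y ⊓ 𝐔 ∧
      ∀ g, g ∈ pb Q Y ↔ ∃ σ, BlockMono id σ (g : Matrix (Fin 3) (Fin 3) F)) ∨
    (NoInv M ∧ ∃ K, IsFieldSubalgebra 3 K ∧ M = subalgebraNormalizer K ⊓ 𝐔) ∨
    (∃ (F₀ : Subfield F) (r : ℕ) (P : 𝐆), r.Prime ∧ 𝐪 = Nat.card F₀ ^ r ∧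
      M = subfieldSubgroup F₀ P ⊓ 𝐔 ∧ (3 ≤ r ∧ Odd r ∧ 4 ≤ Nat.card F₀ ∨ Nat.card F₀ = q ∧ 7 ≤ q)) ∨
    (T6 M ∧ 11 ≤ q ∧ ringChar F = q ∧ ∀ (ω : F) (h : Om ω), Nat.card M = Nat.card h.NR) ∨
    q = 5 ∨ (∃ k, PGc k M ∧ (q = 3 ∨ 2 ≤ k ∧ k < q ∧ ¬ ringChar F ∣ (k - 1) * k * (k + 1))) := by
  rcases S5778.result q hF.out hq M hM with ⟨W, h0, h1, rfl⟩ | ⟨W, h0, -, h1, rfl⟩ | ⟨-, D, hD, rfl⟩ |
    ⟨-, -, K, hK, -, rfl⟩ | ⟨F₀, r, P, hr, h1, hc, -, rfl⟩ | ⟨-, h1, F₀, P, hc, -, rfl⟩ |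
    ⟨p, R, hp, rfl, h3, h4, hR, hi, hs, -, hz, rfl⟩ | h
  · exact Or.inl fun h => (h W (inv_of_le_stab inf_le_left)).elim h0 (H10.ne_top_of_singular h0 h1)
  · exact Or.inl fun h => (h W (inv_of_le_stab inf_le_left)).elim h0 (H10.ne_top_of_two_mul_lt h1)
  · obtain ⟨Q, hQ, h⟩ := exists_frame_dec_su hD
    exact Or.inr (Or.inl ⟨t2_of_le hD.decomp inf_le_left, Q, hQ, _, rfl, h⟩)
  · exact Or.inr (Or.inr (Or.inl ⟨noInv_of_le hK (inf_le_right.trans inf_le_right) inf_le_left,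
      K, hK, rfl⟩))
  · exact Or.inr (Or.inr (Or.inr (Or.inl ⟨F₀, r, P, hr, hc, rfl, Or.inl ⟨by
      have := hr.two_le; rw [Nat.odd_iff] at h1; omega, h1, four_le (q := q) h1 hc⟩⟩)))
  · exact Or.inr (Or.inr (Or.inr (Or.inl ⟨F₀, 2, P, Nat.prime_two, hc, rfl, Or.inr
      ⟨Nat.pow_left_injective two_ne_zero (hc.symm.trans hF.out), h1⟩⟩)))
  · obtain ⟨ω, h⟩ := om_of (F := F) h3
    rw [norm_eq h3 hR hi hs]
    refine Or.inr (Or.inr (Or.inr (Or.inr (Or.inl ⟨?_, h4, char_eq hp hF.out, fun ω h => ?_⟩))))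
    · obtain ⟨P, hP⟩ := h.exists_frame_NR hR hi hz
      exact ⟨ω, h, P, hP.le⟩
    · obtain ⟨P, hP⟩ := h.exists_frame_NR hR hi hz
      rw [← hP, card_pb]
  · refine Or.inr (Or.inr (Or.inr (Or.inr (Or.inr ?_))))
    obtain ⟨P, hc, hp, h⟩ := S5779.result q hF.out hq M hM h
    rw [char_eq hp hF.out]
    by_cases h5 : q = 5
    · exact Or.inl h5
    right
    rcases h with ⟨⟨e⟩, -, h4⟩ | ⟨⟨e⟩, h1⟩ | h
    · refine ⟨7, pgc_seven hc e, ?_⟩
      by_cases h3 : q = 3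
      · exact Or.inl h3
      have h5 : 11 ≤ q := by
        by_contra h; clear * - h hq h3 h4 h5 hp
        interval_cases q <;> simp_all (config := {decide := true})
      exact Or.inr ⟨by norm_num, by omega, not_dvd_7 hp h5⟩
    · have h6 : (5 : F) ≠ 0 := fun h => h5 ((Nat.prime_dvd_prime_iff_eq hp Nat.prime_five).1
        (char_eq hp hF.out ▸ (ringChar.spec F 5).1 h))
      exact ⟨9, pgc_nine h6 (hM.1.le.trans inf_le_right) hc e,
        Or.inr ⟨by norm_num, by omega, not_dvd_9 hp (by omega)⟩⟩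
    · exact absurd h.2 h5

theorem c3 (hq : 3 ≤ q) (h5 : q ≠ 5) {D : Fin 3 → Submodule F (Fin 3 → F)}
    (hD : IsNondegenerateMDecomposition 𝐡 1 D) : IsMaximalIn 𝐔 (decompositionStabilizer D ⊓ 𝐔) := by
  obtain ⟨Q, hU, hQ⟩ := exists_frame_dec_su hD
  refine maximal_frame (pb_SUG hU) (H10.not_SUG_le_decStab le_rfl hD) fun M h1 hM => ?_
  have h := mon_su (q := q) hQ
  obtain ⟨x, hx⟩ := exists_ord (F := F) (n := q + 1) (by
    rw [hF.out]; exact ⟨q - 1, by simpa using Nat.sq_sub_sq q 1⟩)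
  have hm : x ∈ (powMonoidHom (q + 1) : Fˣ →* Fˣ).ker := by
    rw [MonoidHom.mem_ker, powMonoidHom_apply, ← hx, pow_orderOf_eq_one]
  rcases cases hq hM with h2 | ⟨-, Q', hU', Y, rfl, h2⟩ | ⟨h2, -⟩ | ⟨F₀, r, P, hr, hc, rfl, h2⟩ |
    ⟨h2, h3, h4, -⟩ | h2 | ⟨k, h2, h3⟩
  · exact absurd ((h.irr hm (by omega)).mono h1) h2
  · exact le_of_frames (P := 1) (Q := Q') (by
      rw [pb_one]; exact Subgroup.ext fun g => (hQ g).trans (h2 g).symm) (pb_one _) (pb_SUG hU') h1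
  · exact absurd h2 (not_noInv_s (h1 h.s))
  · exfalso
    rcases h2 with ⟨h2, -, h3⟩ | ⟨h2, h3⟩
    · have a1 := h.t5' hm (by omega) ⟨P, h1.trans inf_le_left⟩
      have a2 := Nat.pow_lt_pow_right (a := Nat.card F₀) (by omega) (show 2 < r from h2)
      rw [← hc, hF.out] at a2
      have := lt_of_pow_lt_pow_left₀ 2 (Nat.zero_le _) a2
      omega
    · have a1 := h.t5 hm ⟨P, h1.trans inf_le_left⟩
      rw [hx, h2] at a1
      have a2 := Nat.dvd_sub (dvd_mul_left (q + 1) 3) a1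
      rw [show 3 * (q + 1) - 3 * (q - 1) = 6 by omega] at a2
      have := Nat.le_of_dvd (by norm_num) a2
      omega
  · refine absurd (h2.mono h1) (h.not_t6 (two_ne_of_char (by omega)) ?_)
    have hp := h4 ▸ CharP.char_is_prime F (ringChar F)
    exact (hp.odd_of_ne_two (by omega)).add_one.neg_one_pow
  · exact absurd h2 h5
  · rcases h3 with h3 | ⟨h3, h4, -⟩
    · exact absurd (h2.mono h1) (h.not_pgc hm (by omega))
    · have := h.pgc hm h3 (h2.mono h1)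
      omega

theorem arith {q N : ℕ} (hq : 4 ≤ q) (hN : N + q = q ^ 2 + 1) : ¬ N ∣ 3 * (q ^ 2 - 1) := fun h => by
  have a2 := Nat.dvd_sub h (dvd_mul_left N 3)
  rw [show 3 * (q ^ 2 - 1) - 3 * N = 3 * (q - 2) by omega] at a2
  have := Nat.le_of_dvd (by omega) a2
  have : 4 * q ≤ q ^ 2 := by nlinarith
  omega

theorem c4 (hq : 3 ≤ q) (h3 : q ≠ 3) (h5 : q ≠ 5) {K : Subalgebra F (Matrix (Fin 3) (Fin 3) F)}
    (hK : IsFieldSubalgebra 3 K) (ha : IsAdjointClosedFor 𝐡 K) :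
    IsMaximalIn 𝐔 (subalgebraNormalizer K ⊓ 𝐔) := by
  refine maximal_of (H10.not_SUG_le_fieldNorm le_rfl (by norm_num) hK) fun M h1 hM => ?_
  obtain ⟨k, N, h, hN, hU⟩ := exists_sing_su hK ha
  have hk := h1 ⟨h.mem_norm, hU⟩
  have q4 : 4 ≤ q := by omega
  have q2 : 4 * q ≤ q ^ 2 := by nlinarith
  have n : ∀ m, N ∣ m → m ≠ 0 → N ≤ m := fun m h h0 => Nat.le_of_dvd (by omega) h
  rcases cases hq hM with h2 | ⟨h2, -⟩ | ⟨-, K', hK', rfl⟩ | ⟨F₀, r, P, hr, hc, rfl, h2⟩ |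
    ⟨h2, h4, -⟩ | h2 | ⟨j, h2, h4⟩
  · exact absurd (h.irr (fun e => by have := n _ e (by norm_num); omega) hk) h2
  · have a1 := h.t2 hk h2
    have a2 := n _ a1 (by norm_num)
    obtain rfl : q = 4 := by nlinarith
    obtain rfl : N = 13 := by omega
    norm_num at a1
  · rw [h.t3 (fun e => by have := n _ e (by norm_num); omega) hK' hk.1]
    exact inf_le_left
  · exfalso
    have a0 := h.t5 hk ⟨P, inf_le_left⟩
    rw [hF.out] at hc
    rcases h2 with ⟨h2, h6, h4⟩ | ⟨h2, h4⟩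
    · generalize Nat.card F₀ = Q at *
      have a1 : 4 * Q ^ 2 ≤ Q ^ 3 := by rw [pow_succ' Q 2]; exact Nat.mul_le_mul_right _ h4
      have a2 : 16 ≤ Q ^ 2 := by nlinarith
      by_cases h7 : r = 3
      · subst h7
        rcases a0 with e | e
        · have a3 := n _ e (by omega)
          have a4 : q ≤ Q ^ 2 := by nlinarith
          omega
        · exact arith q4 hN (hc ▸ e)
      · have a3 := Nat.pow_le_pow_right (n := Q) (by omega)
          (show 2 + 3 ≤ r by rw [Nat.odd_iff] at h6; omega)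
        rw [pow_add, ← hc] at a3
        have a4 := Nat.mul_le_mul_right (Q ^ 3) a2
        rcases a0 with e | e <;> have := n _ e (by omega) <;> omega
    · rw [h2] at a0
      rcases a0 with e | e
      · exact arith q4 hN e
      · have a1 : N ∣ 3 * (q ^ 3 + 1) := Dvd.dvd.mul_left ⟨q + 1, by nlinarith⟩ 3
        have a2 := Nat.dvd_sub a1 e
        have a3 : 0 < q ^ 3 := by positivity
        rw [show 3 * (q ^ 3 + 1) - 3 * (q ^ 3 - 1) = 6 by omega] at a2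
        have := n _ a2 (by norm_num)
        omega
  · have := n _ (h.t6 hk h2) (by norm_num)
    nlinarith
  · exact absurd h2 h5
  · rcases h4 with h4 | ⟨h4, h6, -⟩
    · exact absurd h4 h3
    · have := h.pgc h4 hk h2
      omega

theorem c5 (h7 : 7 ≤ q) {F₀ : Subfield F} {r : ℕ} {P : 𝐆} (hr : r.Prime) (hc : 𝐪 = Nat.card F₀ ^ r)
    (hP : IsFormRationalStructure 𝐡 F₀ 1 P) (h2 : (∀ x ∈ F₀, H10.sig F q x = x) → (2 : F) ≠ 0)
    (h4 : 4 ≤ Nat.card F₀) : IsMaximalIn 𝐔 (subfieldSubgroup F₀ P ⊓ 𝐔) := by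
  obtain ⟨Q, hU, e, g, b⟩ := frame_sub hP h2 h4
  rw [← e]
  refine maximal_frame (pb_SUG hU) (H10.not_SUG_le_subfield le_rfl
    (fun e => sub_ne_top hr hc e.ge) Q) fun M h1 hM => ?_
  rw [pb_sub, inv_mul_cancel] at h1 ⊢
  rcases cases (by omega) hM with h2 | ⟨h2, -⟩ | ⟨h2, -⟩ | ⟨F₁, s, P', hs, hc', rfl, -⟩ |
    ⟨h2, h3, h5, -⟩ | h2 | ⟨k, h2, h3⟩
  · exact absurd (g.irr.mono h1) h2
  · exact absurd (b.mono h1) h2.not_big
  · exact absurd h2 (not_noInv_s (h1 ⟨sG_mem_sub F₀, sG_mem (H10.sig F q)⟩))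
  · obtain ⟨h2, h3⟩ := g.le_of_sub (h1.trans inf_le_left)
    have h4 := subfield_eq hr hs hc hc' h2
    rw [h3 h4, h4]
    exact inf_le_left
  · exact absurd h2 ((g.mono h1).not_t6 (by omega))
  · omega
  · rcases h3 with h3 | ⟨-, -, h3⟩
    · omega
    · exact absurd h2 ((g.mono h1).not_pgc h3)

theorem c7 {R : Subgroup 𝐆} (hp : q.Prime) (h3 : q % 3 = 2) (h4 : 11 ≤ q)
    (hR : IsSymplecticTypeGroup 3 R) (hi : ActsAbsolutelyIrreducibly (matrixSet R))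
    (hs : R ≤ similarityGroup 𝐡) (hz : Nat.card (Subgroup.center R) = 3) :
    IsMaximalIn 𝐔 (subgroupNormalizer R ⊓ 𝐔) := by
  obtain ⟨ω, h⟩ := om_of (F := F) h3
  obtain ⟨P, hP⟩ := h.exists_frame_NR hR hi hz
  have hc := char_eq hp hF.out
  have : CharP F q := hc ▸ inferInstance
  refine maximal_of (H10.not_SUG_le_normalizer le_rfl (by omega) Nat.prime_three hp
    (by omega) hR.pGroup hi hs) fun M h0 hM => ?_
  rw [norm_eq h3 hR hi hs] at h0
  have h1 := hP ▸ pb_mono (P := P) h0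
  rcases cases (by omega) hM with h2 | ⟨h2, -⟩ | ⟨h2, -⟩ | ⟨F₁, s, P', hs, hc', rfl, h2⟩ |
    ⟨-, -, -, h2⟩ | h2 | ⟨k, h2, -⟩
  · exact absurd (irr_of_pb (h.irr_NR h1)) h2
  · exact absurd (h2.pb P) (h.not_t2 h1)
  · exact absurd (h2.pb P) (h.not_noInv h1)
  · exfalso
    rcases h2 with ⟨h2, -⟩ | ⟨h2, -⟩
    · have := Fintype.ofFinite F₁
      have a1 := char_le (F := F₁)
      rw [ringChar_sub, hc, ← Nat.card_eq_fintype_card] at a1
      have a2 := Nat.pow_le_pow_left a1 s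
      rw [← hc', hF.out, Nat.pow_le_pow_iff_right hp.one_lt] at a2
      omega
    · rw [pb_inf, pb_sub] at h1
      have a1 := pow_card_sub (sub_comm (h1 (h.Rs_le_NR h.x_mem)).1 (h1 (h.Rs_le_NR h.y_mem)).1 h.xy)
      rw [h2, ← Nat.div_add_mod q 3, pow_add, pow_mul, h.cube, one_pow, one_mul, h3] at a1
      exact h.sq_ne a1.symm
  · rw [← Subgroup.eq_of_le_of_card_ge h0 (by rw [h2 ω h, ← hP, card_pb])]
    exact inf_le_left
  · omega
  · exact absurd (h2.pb P) (h.not_pgc h1)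

end

/-- Maximal subgroups of SU_3(q) of geometric type, q ≥ 3. Let F be the field with q² elements, f the standard unitary form Σ u_i v_i^q on F^3, and SU_3(q) the determinant-one isometries of f. Each of the following, intersected with SU_3(q), is a maximal subgroup of SU_3(q): (1) the stabiliser of any non-zero subspace on which f vanishes identically (an isotropic 1-space); (2) the stabiliser of any non-degenerate 1-space; (3) for q ≠ 5, the stabiliser of any decomposition of F^3 into three mutually orthogonal non-degenerate 1-spaces; (4) for q ≠ 3, 5, the normaliser of any degree-3 subfield of the matrix algebra that is closed under taking adjoints for f; (5) every subfield group for a subfield F₀ of odd prime index r in F whose F₀-structure carries f; (6) for q odd with q ≥ 7, every subfield group for the subfield F₀ of index 2 whose F₀-structure carries f (the orthogonal type); (7)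 for q = p prime with p ≡ 2 mod 3 and p ≥ 11, the normaliser of any absolutely irreducible subgroup R of order 27 with centre of order 3, of exponent 3 with every characteristic abelian subgroup cyclic, contained in the similarity group of f. -/
theorem result {F : Type*} [Field F] [Fintype F] (q : ℕ) (hF : Fintype.card F = q ^ 2) (hq : 3 ≤ q) :
    (∀ W : Submodule F (Fin 3 → F), W ≠ ⊥ → Cfsg.Geo.IsTotallySingularFor (Cfsg.hermForm 3 F q) W → Cfsg.Geo.IsMaximalIn (Cfsg.GU 3 F q ⊓ Cfsg.Geo.specialLinear (Fin 3) F) (Cfsg.Geo.subspaceStabilizer W ⊓ (Cfsg.GU 3 F q ⊓ Cfsg.Geo.specialLinear (Fin 3) F))) ∧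
    (∀ W : Submodule F (Fin 3 → F), W ≠ ⊥ → Cfsg.Geo.IsNondegenerateOn (Cfsg.hermForm 3 F q) W → 2 * Module.finrank F W < 3 → Cfsg.Geo.IsMaximalIn (Cfsg.GU 3 F q ⊓ Cfsg.Geo.specialLinear (Fin 3) F) (Cfsg.Geo.subspaceStabilizer W ⊓ (Cfsg.GU 3 F q ⊓ Cfsg.Geo.specialLinear (Fin 3) F))) ∧
    (q ≠ 5 → ∀ D : Fin 3 → Submodule F (Fin 3 → F), Cfsg.Geo.IsNondegenerateMDecomposition (Cfsg.hermForm 3 F q) 1 D → Cfsg.Geo.IsMaximalIn (Cfsg.GU 3 F q ⊓ Cfsg.Geo.specialLinear (Fin 3) F) (Cfsg.Geo.decompositionStabilizer D ⊓ (Cfsg.GU 3 F q ⊓ Cfsg.Geo.specialLinear (Fin 3) F))) ∧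
    (q ≠ 3 → q ≠ 5 → ∀ K : Subalgebra F (Matrix (Fin 3) (Fin 3) F), Cfsg.Geo.IsFieldSubalgebra 3 K → Cfsg.Geo.IsAdjointClosedFor (Cfsg.hermForm 3 F q) K → Cfsg.Geo.IsMaximalIn (Cfsg.GU 3 F q ⊓ Cfsg.Geo.specialLinear (Fin 3) F) (Cfsg.Geo.subalgebraNormalizer K ⊓ (Cfsg.GU 3 F q ⊓ Cfsg.Geo.specialLinear (Fin 3) F))) ∧
    (∀ (F₀ : Subfield F) (r : ℕ) (P : Matrix.GeneralLinearGroup (Fin 3) F), r.Prime → Odd r → Fintype.card F = Nat.card F₀ ^ r → Cfsg.Geo.IsFormRationalStructure (Cfsg.hermForm 3 F q) F₀ 1 P → Cfsg.Geo.IsMaximalIn (Cfsg.GU 3 F q ⊓ Cfsg.Geo.specialLinear (Fin 3) F) (Cfsg.Geo.subfieldSubgroup F₀ P ⊓ (Cfsg.GU 3 F q ⊓ Cfsg.Geo.specialLinear (Fin 3) F))) ∧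
    (Odd q → 7 ≤ q → ∀ (F₀ : Subfield F) (P : Matrix.GeneralLinearGroup (Fin 3) F), Fintype.card F = Nat.card F₀ ^ 2 → Cfsg.Geo.IsFormRationalStructure (Cfsg.hermForm 3 F q) F₀ 1 P → Cfsg.Geo.IsMaximalIn (Cfsg.GU 3 F q ⊓ Cfsg.Geo.specialLinear (Fin 3) F) (Cfsg.Geo.subfieldSubgroup F₀ P ⊓ (Cfsg.GU 3 F q ⊓ Cfsg.Geo.specialLinear (Fin 3) F))) ∧
    (∀ (p : ℕ) (R : Subgroup (Matrix.GeneralLinearGroup (Fin 3) F)), p.Prime → q = p → p % 3 = 2 → 11 ≤ p → Cfsg.Geo.IsSymplecticTypeGroup 3 R → Cfsg.Geo.ActsAbsolutelyIrreducibly (Cfsg.Geo.matrixSet R) → R ≤ Cfsg.Geo.similarityGroup (Cfsg.hermForm 3 F q) → Nat.card R = 27 → Nat.card (Subgroup.center R) = 3 → Cfsg.Geo.IsMaximalIn (Cfsg.GU 3 F q ⊓ Cfsg.Geo.specialLinear (Fin 3) F) (Cfsg.Geo.subgroupNormalizer R ⊓ (Cfsg.GU 3 F q ⊓ Cfsg.Geo.specialLinear (Fin 3) F))) := by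
  have := Fact.mk hF
  refine ⟨c1_ts hq, c1_nd hq, fun h _ => c3 hq h, fun h h' _ => c4 hq h h',
    fun F₀ r P hr h1 hc hP => ?_, fun h1 h2 F₀ P hc hP => ?_, ?_⟩
  · have h4 := four_le (q := q) h1 hc
    refine c5 ?_ hr hc hP (fun h => ?_) h4
    · have a1 := Nat.pow_le_pow_left h4 r
      have a2 := Nat.pow_le_pow_right (n := 4) (by norm_num)
        (show 3 ≤ r by have := hr.two_le; rw [Nat.odd_iff] at h1; omega)
      rw [← hc, hF] at a1
      nlinarith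
    · obtain ⟨t, ht, h2⟩ := H10.exists_mem_cj_ne (q := q) h1 hc
      exact absurd (h t ht) h2
  · refine c5 h2 Nat.prime_two hc hP (fun _ => H10.two_ne_zero_of_odd' h1) ?_
    rw [Nat.pow_left_injective two_ne_zero (hc.symm.trans hF)]
    omega
  · rintro p R hp rfl h3 h4 hR hi hs - hz
    exact c7 hp h3 h4 hR hi hs hz

end Cfsg.Agent.S5777
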