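import Cfsg.Statements.S5788
import Cfsg.Agent.DIM4.Main
import Cfsg.Agent.DIM4.DefChar
import Cfsg.Agent.DIM4.A7
import Cfsg.Agent.DIM4.A5
import Cfsg.Agent.DIM4.A6
import Cfsg.Agent.DIM4.L27
import Cfsg.Agent.S0253
import Cfsg.Agent.S0254
import Cfsg.Agent.H9.Transport
import Cfsg.Agent.H27.FinField

set_option autoImplicit false
open Cfsg

namespace Cfsg.Agent.S5788

/-- The maximal subgroups of Sp_4(q), q odd, in the residual class. Let F be a finite field of odd order q and characteristic p, and H a maximal subgroup of Sp_4(F) (isometries of the standard alternating form on F^4) lying in the residual class of the symplectic case. Then the perfect socle preimage P of H satisfies one of: P modulo scalars is isomorphic to A_6 and q = p with p ≥ 5 and p ≠ 7; or P modulo scalars is isomorphic to A_7 and q = 7; or P modulo scalars is isomorphic to PSL_2(F) itself, with p ≥ 5 and q > 7. -/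
theorem result {F : Type*} [Field F] [Fintype F] (hodd : Odd (Fintype.card F)) (H : Subgroup (Matrix.GeneralLinearGroup (Fin 2 ⊕ Fin 2) F)) (hH : Cfsg.Geo.IsMaximalIn (Cfsg.spGL 2 F) H) (hS : Cfsg.Geo.InSymplecticResidualClass H) :
    ∃ (P : Subgroup (Matrix.GeneralLinearGroup (Fin 2 ⊕ Fin 2) F)) (p : ℕ), Cfsg.Geo.IsResidualCore H P ∧ p.Prime ∧ CharP F p ∧
    ((Nonempty ((P ⧸ (Cfsg.Geo.scalars (Fin 2 ⊕ Fin 2) F).subgroupOf P) ≃* alternatingGroup (Fin 6)) ∧ Fintype.card F = p ∧ 5 ≤ p ∧ p ≠ 7) ∨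
     (Nonempty ((P ⧸ (Cfsg.Geo.scalars (Fin 2 ⊕ Fin 2) F).subgroupOf P) ≃* alternatingGroup (Fin 7)) ∧ Fintype.card F = 7) ∨
     (Nonempty ((P ⧸ (Cfsg.Geo.scalars (Fin 2 ⊕ Fin 2) F).subgroupOf P) ≃* Matrix.ProjectiveSpecialLinearGroup (Fin 2) F) ∧ 5 ≤ p ∧ 7 < Fintype.card F)) := by
  obtain ⟨P, hP, -⟩ := hS
  obtain ⟨p, hp⟩ := CharP.exists F
  have hpp : p.Prime := CharP.char_is_prime F p
  have : Fact p.Prime := ⟨hpp⟩
  have h2 : (2 : F) ≠ 0 := H27.two_ne_zero_of_odd_card hodd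
  have h : DIM4.Res H P := ⟨h2, hH, hP⟩
  have ho := h.oneInv
  refine ⟨P, p, hP, hpp, hp, ?_⟩
  have cF : Nat.card F = Fintype.card F := Nat.card_eq_fintype_card
  rcases h.cases ho with ⟨K, _, _, hK, h3, ⟨e⟩⟩ | ⟨⟨e⟩⟩
  swap
  · exact Or.inr (Or.inl ⟨⟨e⟩, cF ▸ h.a7 ho e⟩)
  obtain ⟨d⟩ := h.exists_sl2Data ho hK e
  have n5 : Fintype.card K ≠ 5 := fun h5 =>
    let ⟨e5⟩ := S0253.result h5; h.not_a5 ho (e.trans e5)
  by_cases hc : (Fintype.card K : F) = 0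
  · obtain ⟨l, hl⟩ := CharP.exists K
    obtain ⟨n, hlp, hn⟩ := FiniteField.card K l
    rw [CharP.cast_eq_zero_iff F p, hn] at hc
    obtain rfl : p = l := (Nat.prime_dvd_prime_iff_eq hpp hlp).1 (hpp.dvd_of_dvd_pow hc)
    obtain ⟨h5, hq, a, ha⟩ := h.defChar ho hK p e d
    have n7 : Fintype.card K ≠ 7 := fun h7 => h.not_l27 (hq ▸ h7) h7 e d ha
    rw [cF] at hq
    refine Or.inr (Or.inr ⟨⟨e.trans (H9.pslMapEquiv (FiniteField.ringEquivOfCardEq hq))⟩, h5, ?_⟩)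
    rw [← hq]
    obtain ⟨k, hk⟩ := hK
    omega
  · have h9 := (d.cross h.le_sp hK h3 hc).resolve_left n5
    obtain ⟨e9⟩ := S0254.result h9
    have p3 : p ≠ 3 := by
      rintro rfl
      exact hc (by rw [h9, CharP.cast_eq_zero_iff F 3]; norm_num)
    have p2 : p ≠ 2 := by
      rintro rfl
      exact h2 (CharP.cast_eq_zero F 2)
    obtain ⟨h1, h7⟩ := h.a6 ho p p3 (e.trans e9)
    exact Or.inl ⟨⟨e.trans e9⟩, cF ▸ h1, hpp.five_le_of_ne_two_of_ne_three p2 p3, h7⟩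

end Cfsg.Agent.S5788
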