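import Cfsg.Statements.S5791
import Cfsg.Agent.DIM4.EvMain
import Cfsg.Agent.DIM4.Irr
import Cfsg.Agent.H27.SpPrim

set_option autoImplicit false
open Cfsg

namespace Cfsg.Agent.S5791

/-- The maximal subgroups of Sp_4(q), q ≥ 4 even, in the residual class. Let F be a finite field of even order q ≥ 4 and H a maximal subgroup of Sp_4(F) (isometries of the standard alternating form on F^4) lying in the residual class of the symplectic case. Then q = 2^(2m+1) with m ≥ 1 and the perfect socle preimage P of H is, modulo scalars, isomorphic to the Suzuki group over F (the subgroup Sz(F, θ) of the four-dimensional symplectic group with θ(x) = x^(2^(m+1))). -/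
theorem result {F : Type*} [Field F] [Fintype F] (heven : ¬ Odd (Fintype.card F)) (h4 : 4 ≤ Fintype.card F) (H : Subgroup (Matrix.GeneralLinearGroup (Fin 2 ⊕ Fin 2) F)) (hH : Cfsg.Geo.IsMaximalIn (Cfsg.spGL 2 F) H) (hS : Cfsg.Geo.InSymplecticResidualClass H) :
    ∃ (P : Subgroup (Matrix.GeneralLinearGroup (Fin 2 ⊕ Fin 2) F)) (m : ℕ), Cfsg.Geo.IsResidualCore H P ∧ 1 ≤ m ∧ Fintype.card F = 2 ^ (2 * m + 1) ∧
    Nonempty ((P ⧸ (Cfsg.Geo.scalars (Fin 2 ⊕ Fin 2) F).subgroupOf P) ≃* Cfsg.Lie.Sz F (2 ^ (m + 1))) := by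
  obtain ⟨P, hP, hQ, -⟩ := hS
  have h2 : (2 : F) = 0 := by
    by_contra h
    exact heven (Nat.odd_iff.2 (FiniteField.odd_card_of_char_ne_two fun e => h (by
      have := ringChar.Nat.cast_ringChar (R := F); rwa [e] at this)))
  have hle : P ≤ Cfsg.spGL 2 F := hP.le.trans hH.1.le
  let ρ : P →* DIM4.SpM F := ((Units.coeHom _).comp P.subtype).codRestrict _
    fun g => H27.mem_sp_iff.2 (hle g.2)
  have hZ : (Cfsg.Geo.scalars (Fin 2 ⊕ Fin 2) F).subgroupOf P = ⊥ := by
    refine eq_bot_iff.2 fun g hg => ?_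
    rcases (DIM4.mem_scalars_sp (hle g.2)).1 hg with e | e
    · exact Subtype.ext e
    · refine Subtype.ext (e.trans (Units.ext ?_))
      rw [Units.val_neg, ← neg_one_smul F, show (-1 : F) = 1 by linear_combination -h2, one_smul]
      rfl
  let e : (P ⧸ (Cfsg.Geo.scalars (Fin 2 ⊕ Fin 2) F).subgroupOf P) ≃* P :=
    (QuotientGroup.quotientMulEquivOfEq hZ).trans QuotientGroup.quotientBot
  have hA := H98.grpAlg_eq_top_of_absIrr hP.absIrred
  have hs : Submodule.span F (Set.range fun g => (ρ g).1) = ⊤ :=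
    top_le_iff.1 fun x _ => Submodule.span_mono (by rintro _ ⟨g, hg, rfl⟩; exact ⟨⟨g, hg⟩, rfl⟩)
      (H98.mem_grpAlg_iff.1 (hA ▸ Algebra.mem_top))
  have h : DIM4.Ev ρ := by
    refine ⟨h2, ?_, ?_, ?_, fun v hv => ?_⟩
    · classical
      by_contra! hc
      have : (Finset.univ : Finset F) ⊆ {0, 1} := fun a _ => by
        by_cases h0 : a = 0 <;> simp [h0, hc]
      have := (Finset.card_le_card this).trans Finset.card_le_two
      rw [Finset.card_univ] at this
      omega
    · have := hP.simple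
      exact e.symm.isSimpleGroup
    · by_contra! hc
      exact hP.nonabelian ⟨⟨fun a b => e.injective (by rw [map_mul, map_mul, hc])⟩⟩
    · rcases hP.absIrred.1 (Submodule.span F {v}) (by
        rintro _ ⟨g, hg, rfl⟩
        rw [Submodule.map_span, Set.image_singleton, Matrix.toLin'_apply]
        exact (congrArg (fun x => Submodule.span F {x}) (hv ⟨g, hg⟩)).le) with e | e
      · exact Submodule.span_singleton_eq_bot.1 e
      · have := finrank_span_le_card (R := F) {v}
        rw [e, finrank_top] at this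
        simp at this
  obtain ⟨m, h1, hc, ⟨e'⟩⟩ := h.main hs
    (fun K hK => by_contra fun hn =>
      hP.no_subfield K hn (H98.realisable_of_trace hA K fun x hx => hK ⟨x, hx⟩))
    (fun hsurj => hH.1.not_ge fun g hg => by
      obtain ⟨k, hk⟩ := hsurj ⟨g, H27.mem_sp_iff.2 hg⟩
      exact hP.le ((Units.ext (congrArg Subtype.val hk) : k.1 = g) ▸ k.2))
    (fun ⟨Q, q, hq⟩ => hQ (by
      have hp : QuadraticMap.polar Q = Cfsg.sympForm 2 F := by
        ext u v
        rw [QuadraticMap.polar, q.add]; ring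
      refine ⟨Q, ⟨q.smul, hp ▸ ⟨H27.sympForm_add_left, H27.sympForm_smul_left,
        H27.sympForm_add_right, fun c v x => H27.sympForm_smul_right c v x⟩, hp ▸ fun v hv => ?_⟩,
        by rintro _ ⟨g, hg, rfl⟩; exact hq ⟨g, hg⟩⟩
      exact ⟨by_contra fun hn => hv (H27.eq_zero_of_sympForm_right (by simpa using hn)),
        by_contra fun hn => hv (H27.eq_zero_of_sympForm_left (by simpa using hn))⟩))
  exact ⟨P, m, hP, h1, hc, ⟨e.trans e'⟩⟩

end Cfsg.Agent.S5791
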