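import Cfsg.Statements.S5850
import Cfsg.Agent.H99.OEven
import Cfsg.Agent.H99.OHalf

set_option autoImplicit false
open Cfsg

namespace Cfsg.Agent.S5850

/-- Every maximal subgroup of Ω_10^-(q) is of one of the listed geometric types or lies in the residual class. Let F be a finite field with q elements (characteristic p), Q a non-degenerate quadratic form on F^10 of minus type (Witt index 4: no totally singular 5-space), Ω the commutator subgroup of its isometry group, and H a maximal subgroup of Ω (inside GL_10(F)). Then H is the intersection with Ω of one of: the stabiliser of a non-zero totally singular subspace; for q odd, the stabiliser of a non-degenerate subspace of odd dimension ≠ 5; the stabiliser of a non-degenerate 2-space of minus type; for q ≥ 4, the stabiliser of a non-degenerate 2-space of plus type; the stabiliser of a non-degenerate 4-space; for q even, the stabiliser of the span of a non-singular vector; for q = p prime with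 p ≡ 3 mod 4, the stabiliser of a decomposition into 10 pairwise orthogonal, pairwise isometric non-degenerate 1-spaces; for q ≠ 3, the stabiliser of a decomposition into 5 pairwise orthogonal, pairwise isometric non-degenerate 2-spaces; for q ≡ 3 mod 4, the stabiliser of a decomposition into 2 pairwise orthogonal, pairwise isometric non-degenerate 5-spaces; for q ≡ 1 mod 4, the stabiliser of a decomposition into two orthogonal, non-isometric non-degenerate 5-spaces; for q odd, the normaliser of a degree-2 subfield of the matrix algebra, self-adjoint for the polar form; the normaliser of a degree-2 subfield K, adjoint-closed but not self-adjoint, acting by similarities of Q; a subfield group (|F| = |F₀|^r, r odd prime) whose F₀-structure carries a non-zero multiple of Q — or else H lies in the residual class of the orthogonal case (modulo scalars H is almost simple, with absolutely irreducible perfect socle preimage realisable over no proper subfield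 and fixing no non-degenerate unitary form). -/
theorem result {F : Type*} [Field F] [Fintype F] (Q : (Fin 10 → F) → F) (hQ : Cfsg.Geo.IsNondegenerateQuadraticForm Q) (hminus : ¬ Cfsg.Geo.IsPlusTypeOn Q ⊤) (H : Subgroup (Matrix.GeneralLinearGroup (Fin 10) F)) (hH : Cfsg.Geo.IsMaximalIn (Cfsg.Geo.omegaGL Q) H) :
    (∃ W : Submodule F (Fin 10 → F), W ≠ ⊥ ∧ Cfsg.Geo.IsTotallySingularQuad Q W ∧ H = Cfsg.Geo.subspaceStabilizer W ⊓ Cfsg.Geo.omegaGL Q) ∨
    (Odd (Fintype.card F) ∧ ∃ W : Submodule F (Fin 10 → F), W ≠ ⊥ ∧ W ≠ ⊤ ∧ Odd (Module.finrank F W) ∧ 2 * Module.finrank F W ≠ 10 ∧ Cfsg.Geo.IsNondegenerateOn (QuadraticMap.polar Q) W ∧ H = Cfsg.Geo.subspaceStabilizer W ⊓ Cfsg.Geo.omegaGL Q) ∨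
    (∃ W : Submodule F (Fin 10 → F), Module.finrank F W = 2 ∧ Cfsg.Geo.IsNondegenerateOn (QuadraticMap.polar Q) W ∧ ¬ Cfsg.Geo.IsPlusTypeOn Q W ∧ H = Cfsg.Geo.subspaceStabilizer W ⊓ Cfsg.Geo.omegaGL Q) ∨
    (4 ≤ Fintype.card F ∧ ∃ W : Submodule F (Fin 10 → F), Module.finrank F W = 2 ∧ Cfsg.Geo.IsNondegenerateOn (QuadraticMap.polar Q) W ∧ Cfsg.Geo.IsPlusTypeOn Q W ∧ H = Cfsg.Geo.subspaceStabilizer W ⊓ Cfsg.Geo.omegaGL Q) ∨
    (∃ W : Submodule F (Fin 10 → F), Module.finrank F W = 4 ∧ Cfsg.Geo.IsNondegenerateOn (QuadraticMap.polar Q) W ∧ H = Cfsg.Geo.subspaceStabilizer W ⊓ Cfsg.Geo.omegaGL Q) ∨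
    (¬ Odd (Fintype.card F) ∧ ∃ v : (Fin 10 → F), Q v ≠ 0 ∧ H = Cfsg.Geo.subspaceStabilizer (Submodule.span F {v}) ⊓ Cfsg.Geo.omegaGL Q) ∨
    ((∃ p : ℕ, p.Prime ∧ Fintype.card F = p ∧ (p % 4 = 3)) ∧ ∃ D : Fin 10 → Submodule F (Fin 10 → F), Cfsg.Geo.IsOrthogonalMDecomposition Q 1 D ∧ H = Cfsg.Geo.decompositionStabilizer D ⊓ Cfsg.Geo.omegaGL Q) ∨
    (Fintype.card F ≠ 3 ∧ ∃ D : Fin 5 → Submodule F (Fin 10 → F), Cfsg.Geo.IsOrthogonalMDecomposition Q 2 D ∧ H = Cfsg.Geo.decompositionStabilizer D ⊓ Cfsg.Geo.omegaGL Q) ∨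
    (Fintype.card F % 4 = 3 ∧ ∃ D : Fin 2 → Submodule F (Fin 10 → F), Cfsg.Geo.IsOrthogonalMDecomposition Q 5 D ∧ H = Cfsg.Geo.decompositionStabilizer D ⊓ Cfsg.Geo.omegaGL Q) ∨
    (Fintype.card F % 4 = 1 ∧ ∃ D : Fin 2 → Submodule F (Fin 10 → F), Cfsg.Geo.IsNondegenerateMDecomposition (QuadraticMap.polar Q) 5 D ∧ ¬ Cfsg.Geo.AreIsometricFor Q (D 0) (D 1) ∧ H = Cfsg.Geo.decompositionStabilizer D ⊓ Cfsg.Geo.omegaGL Q) ∨
    (Odd (Fintype.card F) ∧ ∃ K : Subalgebra F (Matrix (Fin 10) (Fin 10) F), Cfsg.Geo.IsFieldSubalgebra 2 K ∧ Cfsg.Geo.IsSelfAdjointFor (QuadraticMap.polar Q) K ∧ H = Cfsg.Geo.subalgebraNormalizer K ⊓ Cfsg.Geo.omegaGL Q) ∨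
    (∃ K : Subalgebra F (Matrix (Fin 10) (Fin 10) F), Cfsg.Geo.IsFieldSubalgebra 2 K ∧ Cfsg.Geo.IsAdjointClosedFor (QuadraticMap.polar Q) K ∧ ¬ Cfsg.Geo.IsSelfAdjointFor (QuadraticMap.polar Q) K ∧ (∀ k ∈ K, ∃ c : F, ∀ v : (Fin 10 → F), Q (Matrix.mulVec k v) = c * Q v) ∧ H = Cfsg.Geo.subalgebraNormalizer K ⊓ Cfsg.Geo.omegaGL Q) ∨
    (∃ (F₀ : Subfield F) (r : ℕ) (P : Matrix.GeneralLinearGroup (Fin 10) F) (ζ : F), r.Prime ∧ Odd r ∧ Fintype.card F = Nat.card F₀ ^ r ∧ ζ ≠ 0 ∧ Cfsg.Geo.IsQuadFormRationalStructure (fun v : Fin 10 → F => ζ * Q v) F₀ P ∧ H = Cfsg.Geo.subfieldSubgroup F₀ P ⊓ Cfsg.Geo.omegaGL Q) ∨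
    Cfsg.Geo.InOrthogonalResidualClass H := by
  obtain ⟨Q, rfl⟩ := H99.exists_quadraticForm hQ
  have hN : Fintype.card (Fin 10) = 10 := Fintype.card_fin _
  rcases H99.even_max_cases hQ (.inl hN) (fun h K hK hs hI hle => H99.field_half hQ (by decide) (by omega) h hK hs hH.1.le hI hle) (fun _ _ e => by have := Fintype.card_congr e; simp at this) hH with ⟨X, hX, rfl⟩ | h
  swap
  · exact .inr (.inr (.inr (.inr (.inr (.inr (.inr (.inr (.inr (.inr (.inr (.inr (.inr (h)))))))))))))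
  have hq1 := Fintype.one_lt_card (α := F)
  cases hX with
  | sing W h0 hW hd => exact .inl ⟨W, h0, hW, rfl⟩
  | ndOdd W hq h0 h1 ho hd hW => exact .inr (.inl ⟨hq, W, h0, h1, ho, by omega, hW, rfl⟩)
  | nd2m W hd hW hp => exact .inr (.inr (.inl ⟨W, hd, hW, hp, rfl⟩))
  | nd2p W hq hd hW hp => exact .inr (.inr (.inr (.inl ⟨hq, W, hd, hW, hp, rfl⟩)))
  | nd4 W hd hW => exact .inr (.inr (.inr (.inr (.inl ⟨W, hd, hW, rfl⟩))))
  | nd6 W hd hW hn hp => omega
  | point v hq hv => exact .inr (.inr (.inr (.inr (.inr (.inl ⟨hq, v, hv, rfl⟩)))))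
  | frame t D hp hD =>
    have h1 := H98.IsMDecomposition_mul_eq hD.decomp.decomp
    have ht := hD.decomp.decomp.two_le
    rw [hN] at h1
    obtain rfl : t = 10 := by omega
    have ho := H99.odd_card_of_dec hD.decomp odd_one
    have h2 := (mt FiniteField.isSquare_neg_one_iff.2 (mt (H99.plus_iff_of_dec_two hD odd_one rfl).2 hminus))
    exact .inr (.inr (.inr (.inr (.inr (.inr (.inl ⟨⟨_, hp, rfl, by rw [Nat.odd_iff] at ho; omega⟩, D, hD, rfl⟩))))))
  | dec t k D hk hD h2 h3 h4 =>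
    have h1 := H98.IsMDecomposition_mul_eq hD.decomp.decomp
    have ht := hD.decomp.decomp.two_le
    rw [hN] at h1
    have : k ≤ 5 := by nlinarith
    interval_cases k
    · obtain rfl : t = 5 := by omega
      have h5 := H99.plus_iff_of_dec_odd hD.decomp (by decide) (H99.orthDec_same_type hD)
        (by decide) 0
      rcases h2 rfl with ⟨a, b⟩ | ⟨a, b⟩
      · exact absurd (h5.2 (a 0)) hminus
      · exact .inr (.inr (.inr (.inr (.inr (.inr (.inr (.inl ⟨b, D, hD, rfl⟩)))))))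
    · omega
    · omega
    · obtain rfl : t = 2 := by omega
      have ho := H99.odd_card_of_dec hD.decomp (by decide)
      have h5 := (mt FiniteField.isSquare_neg_one_iff.2 (mt (H99.plus_iff_of_dec_two hD (by decide) rfl).2 hminus))
      exact .inr (.inr (.inr (.inr (.inr (.inr (.inr (.inr (.inl ⟨by rw [Nat.odd_iff] at ho; omega, D, hD, rfl⟩))))))))
  | decNI k D hk hD hi =>
    have h1 := H98.IsMDecomposition_mul_eq hD.decomp
    obtain rfl : k = 5 := by omega
    have ho := H99.odd_card_of_dec hD hk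
    have h2 := H99.plus_iff_of_decNI hk hD hi
    rw [FiniteField.isSquare_neg_one_iff] at h2
    have h3 := mt h2.2 hminus
    exact .inr (.inr (.inr (.inr (.inr (.inr (.inr (.inr (.inr (.inl ⟨by rw [Nat.odd_iff] at ho; omega, D, hD, hi, rfl⟩)))))))))
  | pair k D hk hD hs =>
    have h1 := H98.IsMDecomposition_mul_eq hD
    rw [Nat.even_iff] at hk; omega
  | fld r K hr h4 hK => omega
  | fldS K hq hK hs => exact .inr (.inr (.inr (.inr (.inr (.inr (.inr (.inr (.inr (.inr (.inl ⟨hq, K, hK, hs, rfl⟩))))))))))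
  | fldU K hK hA hs hc hp => exact .inr (.inr (.inr (.inr (.inr (.inr (.inr (.inr (.inr (.inr (.inr (.inl ⟨K, hK, hA, hs, hc, rfl⟩)))))))))))
  | tensSp b e P f₁ f₂ _ _ _ _ _ _ h12 => omega
  | tensO e => have := Fintype.card_congr e; simp at this
  | sub F₀ r P ζ hr hc hζ hP =>
    exact .inr (.inr (.inr (.inr (.inr (.inr (.inr (.inr (.inr (.inr (.inr (.inr (.inl ⟨F₀, r, P, ζ, hr, H99.odd_of_sub_minus hQ (by rw [hN]; decide) hminus hr hc hζ hP, hc, hζ, hP, rfl⟩))))))))))))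

end Cfsg.Agent.S5850
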