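import Cfsg.Statements.S5874
import Cfsg.Agent.H99.OEven

set_option autoImplicit false
open Cfsg

namespace Cfsg.Agent.S5874

/-- Every maximal subgroup of Ω_12^-(q) is of one of the listed geometric types or lies in the residual class. Let F be a finite field with q elements (characteristic p), Q a non-degenerate quadratic form on F^12 of minus type (Witt index 5: no totally singular 6-space), Ω the commutator subgroup of its isometry group, and H a maximal subgroup of Ω (inside GL_12(F)). Then H is the intersection with Ω of one of: the stabiliser of a non-zero totally singular subspace; for q odd, the stabiliser of a non-degenerate subspace of odd dimension; the stabiliser of a non-degenerate 2-space of minus type; for q ≥ 4, the stabiliser of a non-degenerate 2-space of plus type; the stabiliser of a non-degenerate 4-space; the stabiliser of a non-degenerate 6-space; for q even, the stabiliser of the span of a non-singular vector;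 the stabiliser of a decomposition into 3 pairwise orthogonal, pairwise isometric non-degenerate 4-spaces of minus type; the normaliser of a degree-2 subfield of the matrix algebra; the normaliser of a degree-3 subfield of the matrix algebra; for q odd with q ≥ 5, the stabiliser of a tensor decomposition of the polar form into symmetric forms on F^3 and F^4 (minus type); a subfield group (|F| = |F₀|^r, r odd prime) whose F₀-structure carries a non-zero multiple of Q — or else H lies in the residual class of the orthogonal case (modulo scalars H is almost simple, with absolutely irreducible perfect socle preimage realisable over no proper subfield and fixing no non-degenerate unitary form). -/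
theorem result {F : Type*} [Field F] [Fintype F] (Q : (Fin 12 → F) → F) (hQ : Cfsg.Geo.IsNondegenerateQuadraticForm Q) (hminus : ¬ Cfsg.Geo.IsPlusTypeOn Q ⊤) (H : Subgroup (Matrix.GeneralLinearGroup (Fin 12) F)) (hH : Cfsg.Geo.IsMaximalIn (Cfsg.Geo.omegaGL Q) H) :
    (∃ W : Submodule F (Fin 12 → F), W ≠ ⊥ ∧ Cfsg.Geo.IsTotallySingularQuad Q W ∧ H = Cfsg.Geo.subspaceStabilizer W ⊓ Cfsg.Geo.omegaGL Q) ∨
    (Odd (Fintype.card F) ∧ ∃ W : Submodule F (Fin 12 → F), W ≠ ⊥ ∧ W ≠ ⊤ ∧ Odd (Module.finrank F W) ∧ 2 * Module.finrank F W ≠ 12 ∧ Cfsg.Geo.IsNondegenerateOn (QuadraticMap.polar Q) W ∧ H = Cfsg.Geo.subspaceStabilizer W ⊓ Cfsg.Geo.omegaGL Q) ∨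
    (∃ W : Submodule F (Fin 12 → F), Module.finrank F W = 2 ∧ Cfsg.Geo.IsNondegenerateOn (QuadraticMap.polar Q) W ∧ ¬ Cfsg.Geo.IsPlusTypeOn Q W ∧ H = Cfsg.Geo.subspaceStabilizer W ⊓ Cfsg.Geo.omegaGL Q) ∨
    (4 ≤ Fintype.card F ∧ ∃ W : Submodule F (Fin 12 → F), Module.finrank F W = 2 ∧ Cfsg.Geo.IsNondegenerateOn (QuadraticMap.polar Q) W ∧ Cfsg.Geo.IsPlusTypeOn Q W ∧ H = Cfsg.Geo.subspaceStabilizer W ⊓ Cfsg.Geo.omegaGL Q) ∨
    (∃ W : Submodule F (Fin 12 → F), Module.finrank F W = 4 ∧ Cfsg.Geo.IsNondegenerateOn (QuadraticMap.polar Q) W ∧ H = Cfsg.Geo.subspaceStabilizer W ⊓ Cfsg.Geo.omegaGL Q) ∨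
    (∃ W : Submodule F (Fin 12 → F), Module.finrank F W = 6 ∧ Cfsg.Geo.IsNondegenerateOn (QuadraticMap.polar Q) W ∧ H = Cfsg.Geo.subspaceStabilizer W ⊓ Cfsg.Geo.omegaGL Q) ∨
    (¬ Odd (Fintype.card F) ∧ ∃ v : (Fin 12 → F), Q v ≠ 0 ∧ H = Cfsg.Geo.subspaceStabilizer (Submodule.span F {v}) ⊓ Cfsg.Geo.omegaGL Q) ∨
    (∃ D : Fin 3 → Submodule F (Fin 12 → F), Cfsg.Geo.IsOrthogonalMDecomposition Q 4 D ∧ (∀ i, ¬ Cfsg.Geo.IsPlusTypeOn Q (D i)) ∧ H = Cfsg.Geo.decompositionStabilizer D ⊓ Cfsg.Geo.omegaGL Q) ∨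
    (∃ K : Subalgebra F (Matrix (Fin 12) (Fin 12) F), Cfsg.Geo.IsFieldSubalgebra 2 K ∧ H = Cfsg.Geo.subalgebraNormalizer K ⊓ Cfsg.Geo.omegaGL Q) ∨
    (∃ K : Subalgebra F (Matrix (Fin 12) (Fin 12) F), Cfsg.Geo.IsFieldSubalgebra 3 K ∧ H = Cfsg.Geo.subalgebraNormalizer K ⊓ Cfsg.Geo.omegaGL Q) ∨
    (Odd (Fintype.card F) ∧ 5 ≤ Fintype.card F ∧ ∃ (e : Fin 12 ≃ Fin 3 × Fin 4) (P : Matrix.GeneralLinearGroup (Fin 12) F) (f₁ : (Fin 3 → F) → (Fin 3 → F) → F) (f₂ : (Fin 4 → F) → (Fin 4 → F) → F), Cfsg.Geo.IsSymmetricForm f₁ ∧ Cfsg.Geo.IsSymmetricForm f₂ ∧ ¬ Cfsg.Geo.IsPlusTypeOn (fun v : Fin 4 → F => f₂ v v) ⊤ ∧ Cfsg.Geo.IsTensorFormStructure id (QuadraticMap.polar Q) f₁ f₂ e P ∧ H = Cfsg.Geo.tensorProductSubgroup 3 4 e P ⊓ Cfsg.Geo.omegaGL Q) ∨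
    (∃ (F₀ : Subfield F) (r : ℕ) (P : Matrix.GeneralLinearGroup (Fin 12) F) (ζ : F), r.Prime ∧ Odd r ∧ Fintype.card F = Nat.card F₀ ^ r ∧ ζ ≠ 0 ∧ Cfsg.Geo.IsQuadFormRationalStructure (fun v : Fin 12 → F => ζ * Q v) F₀ P ∧ H = Cfsg.Geo.subfieldSubgroup F₀ P ⊓ Cfsg.Geo.omegaGL Q) ∨
    Cfsg.Geo.InOrthogonalResidualClass H := by
  obtain ⟨Q, rfl⟩ := H99.exists_quadraticForm hQ
  have hN : Fintype.card (Fin 12) = 12 := Fintype.card_fin _
  rcases H99.even_max_cases hQ (.inr (.inl hN)) (fun h => by rw [hN] at h; omega) (fun h => absurd h hminus) hH with ⟨X, hX, rfl⟩ | h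
  swap
  · exact .inr (.inr (.inr (.inr (.inr (.inr (.inr (.inr (.inr (.inr (.inr (.inr (h))))))))))))
  have hq1 := Fintype.one_lt_card (α := F)
  cases hX with
  | sing W h0 hW => exact .inl ⟨W, h0, hW, rfl⟩
  | ndOdd W hq h0 h1 ho hd hW => exact .inr (.inl ⟨hq, W, h0, h1, ho, by omega, hW, rfl⟩)
  | nd2m W hd hW hp => exact .inr (.inr (.inl ⟨W, hd, hW, hp, rfl⟩))
  | nd2p W hq hd hW hp => exact .inr (.inr (.inr (.inl ⟨hq, W, hd, hW, hp, rfl⟩)))
  | nd4 W hd hW => exact .inr (.inr (.inr (.inr (.inl ⟨W, hd, hW, rfl⟩))))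
  | nd6 W hd hW hn => exact .inr (.inr (.inr (.inr (.inr (.inl ⟨W, hd, hW, rfl⟩)))))
  | point v hq hv => exact .inr (.inr (.inr (.inr (.inr (.inr (.inl ⟨hq, v, hv, rfl⟩))))))
  | frame t D hp hD =>
    have h1 := H98.IsMDecomposition_mul_eq hD.decomp.decomp
    have ht := hD.decomp.decomp.two_le
    rw [hN] at h1
    exact absurd (H99.plus_of_dec_four hD odd_one (by omega)) hminus
  | dec t k D hk hD =>
    have h1 := H98.IsMDecomposition_mul_eq hD.decomp.decomp
    have ht := hD.decomp.decomp.two_le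
    rw [hN] at h1
    have : k ≤ 6 := by nlinarith
    have he := fun a => H99.plus_of_dec_even hD.decomp a (H99.orthDec_same_type hD)
    interval_cases k
    · exact absurd (he (by decide) (by rw [Nat.even_iff]; omega)) hminus
    · exact absurd (H99.plus_of_dec_four hD (by decide) (by omega)) hminus
    · obtain rfl : t = 3 := by omega
      exact .inr (.inr (.inr (.inr (.inr (.inr (.inr (.inl ⟨D, hD, fun i h => hminus ((H99.plus_iff_of_dec_odd hD.decomp (by decide) (H99.orthDec_same_type hD) (by decide) i).2 h), rfl⟩)))))))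
    · omega
    · exact absurd (he (by decide) (by rw [Nat.even_iff]; omega)) hminus
  | decNI k D hk hD =>
    have h1 := H98.IsMDecomposition_mul_eq hD.decomp
    rw [Nat.odd_iff] at hk; omega
  | pair k D hk hD hs => exact absurd (H99.plus_of_pair hD hs) hminus
  | fld r K hr _ hK =>
    have h1 := H98.IsFieldSubalgebra_dvd_card hK
    rw [hN, show 12 = 2 * (2 * 3) from rfl, hr.dvd_mul, hr.dvd_mul,
      Nat.prime_dvd_prime_iff_eq hr Nat.prime_two, Nat.prime_dvd_prime_iff_eq hr Nat.prime_three] at h1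
    rcases h1 with rfl | rfl | rfl
    · exact .inr (.inr (.inr (.inr (.inr (.inr (.inr (.inr (.inl ⟨K, hK, rfl⟩))))))))
    · exact .inr (.inr (.inr (.inr (.inr (.inr (.inr (.inr (.inl ⟨K, hK, rfl⟩))))))))
    · exact .inr (.inr (.inr (.inr (.inr (.inr (.inr (.inr (.inr (.inl ⟨K, hK, rfl⟩)))))))))
  | fldS K _ hK => exact .inr (.inr (.inr (.inr (.inr (.inr (.inr (.inr (.inl ⟨K, hK, rfl⟩))))))))
  | fldU K hK => exact .inr (.inr (.inr (.inr (.inr (.inr (.inr (.inr (.inl ⟨K, hK, rfl⟩))))))))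
  | tensSp b e P f₁ f₂ _ _ _ _ _ hp => exact absurd hp hminus
  | tensO e P f₁ f₂ hq h5 h₁ h₂ hp₂ hT => exact .inr (.inr (.inr (.inr (.inr (.inr (.inr (.inr (.inr (.inr (.inl ⟨hq, h5, e, P, f₁, f₂, h₁, h₂, hp₂, hT, rfl⟩))))))))))
  | sub F₀ r P ζ hr hc hζ hP =>
    exact .inr (.inr (.inr (.inr (.inr (.inr (.inr (.inr (.inr (.inr (.inr (.inl ⟨F₀, r, P, ζ, hr, H99.odd_of_sub_minus hQ (by rw [hN]; decide) hminus hr hc hζ hP, hc, hζ, hP, rfl⟩)))))))))))

end Cfsg.Agent.S5874
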