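import Cfsg.Statements.S5890
import Cfsg.Agent.H93.L2Class

set_option autoImplicit false
open Cfsg

namespace Cfsg.Agent.S5890

open Cfsg.Agent.H28 Cfsg.Agent.H93.L2

/-- Let F be a finite field with q ≥ 4 elements, let L ≤ PGL₂(F) be the image of SL₂(F) (a copy of PSL₂(F), of index gcd(2, q − 1)), and let M be a maximal subgroup of PGL₂(F) that does not contain L. Suppose q ∉ {7, 9, 11} and that q is not a prime congruent to ±11 or ±19 modulo 40. Then M ∩ L is a maximal subgroup of L. (For the excluded q there are maximal subgroups of PGL₂(q) — dihedral groups of order 12 and 16 at q = 7, of order 20 and 16 at q = 9, of order 20 at q = 11, and S₄ at the excluded primes — whose intersection with L is not maximal in L.) -/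
theorem result {F : Type*} [Field F]
    [Fintype F] (h4 : 4 ≤ Fintype.card F) (h7 : Fintype.card F ≠ 7) (h9 : Fintype.card F ≠ 9) (h11 : Fintype.card F ≠ 11)
    (h40 : (Fintype.card F).Prime → Fintype.card F % 40 ∉ ({11, 19, 21, 29} : Finset ℕ))
    (M : Subgroup (Matrix.ProjGenLinGroup (Fin 2) F)) (hM : IsCoatom M)
    (hML : ¬ (Matrix.ProjGenLinGroup.mk.comp Matrix.SpecialLinearGroup.toGL).range ≤ M) :
    IsCoatom ((M ⊓ (Matrix.ProjGenLinGroup.mk.comp Matrix.SpecialLinearGroup.toGL).range).subgroupOf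
      (Matrix.ProjGenLinGroup.mk.comp Matrix.SpecialLinearGroup.toGL).range) := by
  classical
  obtain ⟨p, hp⟩ := CharP.exists F
  have hp' : Fact p.Prime := ⟨CharP.char_is_prime F p⟩
  rw [← Nat.card_eq_fintype_card] at *
  change ¬ pslIn F ≤ M at hML
  change IsCoatom ((M ⊓ pslIn F).subgroupOf (pslIn F))
  rw [Subgroup.inf_subgroupOf_right]
  rcases Nat.mod_two_eq_zero_or_one (Nat.card F) with he | ho
  · exact Subgroup.isCoatom_comap_of_surjective
      (fun g => ⟨⟨g, pslIn_eq_top he ▸ Subgroup.mem_top g⟩, rfl⟩) hM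
  have hρ := (pslIn F).subtype_injective
  have hL := (pslIn F).range_subtype
  have key : ∀ Y : Subgroup (Matrix.ProjGenLinGroup (Fin 2) F), Y ≤ M →
      IsCoatom (Y.comap (pslIn F).subtype) → IsCoatom (M.subgroupOf (pslIn F)) := fun Y h hY => by
    rwa [← Subgroup.comap_subtype, (hY.le_iff.1 (Subgroup.comap_mono h)).resolve_left
      (mt Subgroup.subgroupOf_eq_top.1 hML)]
  rcases pgl_coatom_cases p ho (by omega) hM hML with
    ⟨x, rfl⟩ | ⟨n, ⟨e⟩, h⟩ | ⟨h, h8, ⟨e⟩⟩ | ⟨t, K, r, hr, hro, h, rfl⟩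
  · exact isCoatom_stab hL.ge x
  · obtain ⟨r, hr, hor, -, hn⟩ := exists_rot e
    have hρ' : Function.Injective (MonoidHom.id (Matrix.ProjGenLinGroup (Fin 2) F)) :=
      Function.injective_id
    have hL' : pslIn F ≤ (MonoidHom.id (Matrix.ProjGenLinGroup (Fin 2) F)).range :=
      fun x _ => ⟨x, rfl⟩
    have hd : 1 * Nat.card (Matrix.ProjGenLinGroup (Fin 2) F) = _ :=
      (one_mul _).trans (card_pgl_two F)
    have hc : (r * r) ^ p ≠ 1 := fun e => by
      rw [← pow_two, ← pow_mul, ← orderOf_dvd_iff_pow_eq_one, hor] at e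
      have := Nat.le_of_dvd two_pos ((coprime_of_tor (d := 1) (char_dvd_card (F := F) p)
        (by omega)).symm.dvd_of_dvd_mul_right e)
      omega
    have hle : M ≤ torN (r * r) := fun g hg => (hn g hg).imp (fun a => by rw [← conj_mul, a])
      fun a => by rw [← conj_mul, a, mul_inv_rev]
    have hMe := (hM.le_iff.1 hle).resolve_left (torN_ne_top hρ' p hL' hd hc (by omega))
    have hc' : (⟨r * r, sq_mem_pslIn r⟩ : pslIn F) ^ p ≠ 1 := fun e => hc (congrArg Subtype.val e)
    have e2 : M.subgroupOf (pslIn F) = torN ⟨r * r, sq_mem_pslIn r⟩ := by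
      ext g
      rw [← hMe, Subgroup.mem_subgroupOf, mem_torN, mem_torN, Subtype.ext_iff, Subtype.ext_iff]
      rfl
    obtain ⟨n', ⟨e'⟩, -, hn'⟩ := torN_card hρ' p hL' hd hc
    have e3 := card_of_dih e'
    rw [hMe, card_of_dih e] at e3
    rw [e2]
    rcases hn' with ⟨a, b⟩ | ⟨a, b⟩
    · refine coatom_torN_minus hρ p hL hc' a ?_
      simp only [Finset.mem_insert, Finset.mem_singleton]
      omega
    · exact coatom_torN_plus hρ p hL hc' a (by omega) h7 h9
  · obtain ⟨φ, hφ, e'⟩ := exists_hom_of_equiv (ρ := MonoidHom.id _) Function.injective_id e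
    rw [Subgroup.map_id] at e'
    have hψ : Function.Injective (φ.comp (alternatingGroup _).subtype) :=
      hφ.comp Subtype.val_injective
    have h5 := h40 (h ▸ hp'.out)
    simp only [Finset.mem_insert, Finset.mem_singleton] at h5
    refine key _ ?_ (coatom_a4 hρ p hL h (by omega) h8 (by omega)
      (equiv_comap_range hρ hψ ((alt_le_pslIn _).trans hL.ge)).some)
    rw [← e']
    rintro _ ⟨x, rfl⟩
    exact ⟨x, rfl⟩
  · have hK : Odd (Nat.card K) := (Nat.odd_pow_iff hr.ne_zero).1 (h ▸ Nat.odd_iff.2 ho)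
    exact key _ (Subgroup.map_mono (subPSL_le K)) (coatom_subPSL hρ hL hr h
      (fun e => by rw [e] at hK; exact absurd hK (by decide))
      (fun _ e => by rw [e] at hro; exact absurd hro (by decide))
      (Subgroup.map_comap_eq_self ((cj_le_pslIn.2 (subPSL_le_pslIn K)).trans hL.ge)))

end Cfsg.Agent.S5890
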