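import Cfsg.Statements.S5891
import Cfsg.Agent.H93.L2Class

set_option autoImplicit false
open Cfsg

namespace Cfsg.Agent.S5891

open Cfsg.Agent.H28 Cfsg.Agent.H93.L2

/-- Let F be a finite field of odd order q > 3 and characteristic p, and let M be a maximal subgroup of PGL₂(F) not containing the image L of SL₂(F) (a copy of PSL₂(F) of index 2). Then one of the following holds: |M| = q(q − 1) (M is the stabiliser of a point of the projective line); q ≠ 5 and M is dihedral of order 2(q − 1); M is dihedral of order 2(q + 1); q = p ≡ ±3 (mod 8) and M ≅ S₄; or q = q₀^r for an odd prime r and M ≅ PGL₂(F₀) with |F₀| = q₀. -/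
theorem result {F : Type*} [Field F] [Fintype F]
    (hodd : Odd (Fintype.card F)) (h3 : 3 < Fintype.card F) (M : Subgroup (Matrix.ProjGenLinGroup (Fin 2) F)) (hM : IsCoatom M)
    (hML : ¬ (Matrix.ProjGenLinGroup.mk.comp Matrix.SpecialLinearGroup.toGL).range ≤ M) :
    Nat.card M = Fintype.card F * (Fintype.card F - 1) ∨
    (Fintype.card F ≠ 5 ∧ Nonempty (M ≃* DihedralGroup (Fintype.card F - 1))) ∨
    Nonempty (M ≃* DihedralGroup (Fintype.card F + 1)) ∨
    ((Fintype.card F).Prime ∧ (Fintype.card F % 8 = 3 ∨ Fintype.card F % 8 = 5) ∧ Nonempty (M ≃* Equiv.Perm (Fin 4))) ∨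
    (∃ (F₀ : Type) (_ : Field F₀) (_ : Fintype F₀) (r : ℕ), r.Prime ∧ Odd r ∧ Fintype.card F = Fintype.card F₀ ^ r ∧
        Nonempty (M ≃* Matrix.ProjGenLinGroup (Fin 2) F₀)) := by
  classical
  obtain ⟨p, hp⟩ := CharP.exists F
  have hp' : Fact p.Prime := ⟨CharP.char_is_prime F p⟩
  rw [← Nat.card_eq_fintype_card] at *
  rcases pgl_coatom_cases p (Nat.odd_iff.1 hodd) h3 hM hML with
    ⟨x, rfl⟩ | ⟨n, e, ⟨h, h5⟩ | h⟩ | ⟨h, h8, e⟩ | ⟨t, K, r, hr, ho, h, rfl⟩
  · exact Or.inl ((one_mul _).symm.trans (card_stab (fun x _ => ⟨x, rfl⟩)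
      ((one_mul _).trans (card_pgl_two F)) x))
  · exact Or.inr (Or.inl ⟨h5, by rwa [Nat.sub_eq_of_eq_add h.symm]⟩)
  · exact Or.inr (Or.inr (Or.inl (h ▸ e)))
  · exact Or.inr (Or.inr (Or.inr (Or.inl ⟨h ▸ hp'.out, h ▸ h8, e⟩)))
  · obtain ⟨F₀, i1, i2, hc, e, -⟩ := exists_small_pgl K t
    exact Or.inr (Or.inr (Or.inr (Or.inr ⟨F₀, i1, i2, r, hr, ho, hc ▸ h, e⟩)))

end Cfsg.Agent.S5891
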