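import Cfsg.Statements.S5905
import Cfsg.Agent.H99.Wreath

set_option autoImplicit false
open Cfsg

namespace Cfsg.Agent.S5905

/-- Let Ω be a finite set and f : Ω → Fin b a map onto b ≥ 2 labels whose fibres all have the same size a ≥ 2 (a partition of Ω into b blocks of size a, so |Ω| = ab). Then the stabilizer of this partition in the symmetric group on Ω — the permutations g such that x and y lie in the same block exactly when g x and g y do, a group isomorphic to the imprimitive wreath product S_a ≀ S_b — is a maximal subgroup of the symmetric group. -/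
theorem result {Ω : Type*} [Fintype Ω] [DecidableEq Ω] (a b : ℕ) (ha : 2 ≤ a) (hb : 2 ≤ b)
    (f : Ω → Fin b) (hf : ∀ i : Fin b, Nat.card {x : Ω // f x = i} = a) :
    IsCoatom (Subgroup.closure {g : Equiv.Perm Ω | ∀ x y : Ω, f x = f y ↔ f (g x) = f (g y)}) := by
  rw [H99.closure_partStab]
  obtain ⟨e, he⟩ := H99.exists_equiv_prod f hf
  have hs : ∀ i j, f (e.symm (i, j)) = i := fun i j => by rw [← he]; simp
  let i0 : Fin b := ⟨0, by omega⟩
  let i1 : Fin b := ⟨1, by omega⟩
  let j0 : Fin a := ⟨0, by omega⟩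
  let j1 : Fin a := ⟨1, by omega⟩
  have hi : i0 ≠ i1 := by simp [i0, i1]
  have hj : j0 ≠ j1 := by simp [j0, j1]
  constructor
  · intro h
    have : Equiv.swap (e.symm (i0, j0)) (e.symm (i1, j0)) ∈ H99.partStab f := by rw [h]; trivial
    have := (this (e.symm (i0, j0)) (e.symm (i0, j1))).1 (by rw [hs, hs])
    rw [Equiv.swap_apply_left, Equiv.swap_apply_of_ne_of_ne (by simpa using hj.symm) (by simp [hi]),
      hs, hs] at this
    exact hi this.symm
  · intro L hL
    obtain ⟨g, hg, hgf⟩ := SetLike.exists_of_lt hL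
    have h2 := H99.two_trans_of_not_partStab (f := f) L (fun x y x' y' h1 h2 h3 => by
      obtain ⟨g, hg, h⟩ := H99.exists_partStab_pair e he h1 h2 h3
      exact ⟨g, hL.le hg, h⟩) hg hgf
    exact Equiv.Perm.subgroup_eq_top_of_isPreprimitive_of_isSwap_mem
      (H99.isPreprimitive_of_two_trans L h2) (Equiv.swap (e.symm (i0, j0)) (e.symm (i0, j1)))
      ⟨_, _, by simpa using hj, rfl⟩ (hL.le (H99.swap_mem_partStab (by rw [hs, hs])))

end Cfsg.Agent.S5905
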