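import Cfsg.Statements.S5894
import Cfsg.Agent.S5905

set_option autoImplicit false
open Cfsg

namespace Cfsg.Agent.S5894

open Equiv

/-- For every m ≥ 2 the symmetric group on 2m letters has a maximal subgroup M of index 2m together with a maximal subgroup H of M that is not second maximal: some maximal subgroup K of the symmetric group contains H without H being maximal in K. (One may take M the stabiliser of a letter, H ≅ S_m × S_{m−1} inside it, and K ≅ S_m ≀ S₂ the stabiliser of a partition into two m-sets, with H < S_m × S_m < K.) So the prime-index hypothesis in the second-maximality criterion cannot be relaxed to any even index ≥ 4. -/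
theorem result (m : ℕ) (hm : 2 ≤ m) :
    ∃ M H K : Subgroup (Equiv.Perm (Fin (2 * m))), IsCoatom M ∧ M.index = 2 * m ∧ H ≤ M ∧ IsCoatom (H.subgroupOf M) ∧
      IsCoatom K ∧ H ≤ K ∧ ¬ IsCoatom (H.subgroupOf K) := by
  classical
  let f : Fin (2 * m) → Fin 2 := fun x => if (x : ℕ) < m then 0 else 1
  have hf : ∀ i : Fin 2, Nat.card {x // f x = i} = m := by
    have h0 : Nat.card {x // f x = 0} = m := by
      refine (Nat.card_congr (β := Fin m) ⟨fun x => ⟨x.1, by
        have := x.2; simp only [f] at this; by_contra h; simp [h] at this⟩,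
        fun y => ⟨⟨y, by omega⟩, by simp [f]⟩, fun x => rfl, fun y => rfl⟩).trans (by simp)
    have h1 : Nat.card {x // f x = 1} = m := by
      refine (Nat.card_congr (β := Fin m) ⟨fun x => ⟨x.1 - m, by omega⟩,
        fun y => ⟨⟨y + m, by omega⟩, by simp [f]⟩, fun x => ?_, fun y => Fin.ext (Nat.add_sub_cancel _ _)⟩).trans (by simp)
      have := x.2
      have h : ¬ (x.1 : ℕ) < m := by
        simp only [f] at this; intro h; simp [h] at this
      ext; simp; omega
    intro i
    fin_cases i
    · exact h0
    · exact h1
  let a : Fin (2 * m) := ⟨0, by omega⟩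
  let a' : Fin (2 * m) := ⟨1, by omega⟩
  let b : Fin (2 * m) := ⟨m, by omega⟩
  have hfa : f a = 0 := by simp [f, a]; omega
  have hfa' : f a' = 0 := by simp [f, a']; omega
  have hfb : f b = 1 := by simp [f, b]
  have haa' : a ≠ a' := by simp [a, a']
  have h01 : ∀ i : Fin 2, i ≠ 0 → i = 1 := by decide
  have hK := Cfsg.Agent.S5905.result m 2 hm le_rfl f hf
  rw [H99.closure_partStab] at hK
  obtain ⟨e, he⟩ := H99.exists_equiv_prod f hf
  have : Nontrivial (Fin (2 * m)) := ⟨a, a', haa'⟩
  let M := MulAction.stabilizer (Perm (Fin (2 * m))) a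
  have hH : ∀ g ∈ H99.partStab f ⊓ M, ∀ x, f (g x) = f x := by
    rintro g ⟨h1, h2⟩ x
    have h3 : g a = a := h2
    have := h1 a x
    rw [h3, hfa] at this
    by_cases hx : f x = 0
    · rw [hx]; exact (this.1 hx.symm).symm
    · rw [h01 _ hx]; exact h01 _ fun h => hx (this.2 h.symm).symm
  refine ⟨M, H99.partStab f ⊓ M, H99.partStab f, ?_, ?_, inf_le_right, ?_, hK, inf_le_left, ?_⟩
  · exact MulAction.IsPreprimitive.isCoatom_stabilizer_of_isPreprimitive _ a
  · rw [MulAction.index_stabilizer_of_transitive]; simp
  · apply H99.isCoatom_subgroupOf_of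
    · intro h
      have h1 : swap a' b ∈ M := swap_apply_of_ne_of_ne haa' (fun h => by simp [h, hfb] at hfa)
      have := hH _ (h h1) a'
      rw [swap_apply_left, hfb, hfa'] at this
      exact absurd this (by decide)
    · intro L hL hLM g hg hgH
      rw [inf_assoc, inf_idem] at hL
      have hsw : ∀ u v, u ≠ a → v ≠ a → f u = f v → swap u v ∈ L := fun u v hu hv h =>
        hL ⟨H99.swap_mem_partStab h, swap_apply_of_ne_of_ne hu.symm hv.symm⟩
      have hga : g a = a := hLM hg
      -- a swap across the two halves
      have hcross : ∃ u v, u ≠ a ∧ f u = 0 ∧ f v = 1 ∧ swap u v ∈ L := by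
        have hg' : g ∉ H99.partStab f := fun h => hgH ⟨h, hga⟩
        have key : ∀ k ∈ L, ∀ u v, f u = f v → f (k u) ≠ f (k v) →
            ∃ u v, u ≠ a ∧ f u = 0 ∧ f v = 1 ∧ swap u v ∈ L := by
          intro k hk u v h1 h2
          have hka : k a = a := hLM hk
          have hne : ∀ w, w ≠ a → k w ≠ a := fun w hw h => hw (k.injective (h.trans hka.symm))
          have main : ∀ u v, u ≠ a → v ≠ a → f u = f v → f (k u) = 0 → f (k v) = 1 →
              ∃ u v, u ≠ a ∧ f u = 0 ∧ f v = 1 ∧ swap u v ∈ L := by
            intro u v hu hv h1 h2 h3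
            refine ⟨k u, k v, hne u hu, h2, h3, ?_⟩
            rw [swap_apply_apply]
            exact mul_mem (mul_mem hk (hsw u v hu hv h1)) (inv_mem hk)
          -- some point changes sides, hence both halves contain points of the other half
          have hex : ∃ x, f x = 0 ∧ f (k x) = 1 := by
            by_contra hcon
            push Not at hcon
            have hc : ∀ x, f x = 0 → f (k x) = 0 := fun x hx => by
              by_contra h; exact hcon x hx (h01 _ h)
            have hinj : Function.Injective (fun x : {x // f x = 0} => (⟨k x, hc x x.2⟩ : {x // f x = 0})) :=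
              fun x y h => Subtype.ext (k.injective (congrArg Subtype.val h))
            have hsurj := Finite.injective_iff_surjective.1 hinj
            have hc' : ∀ x, f (k x) = 0 → f x = 0 := fun x hx => by
              obtain ⟨y, hy⟩ := hsurj ⟨k x, hx⟩
              have : y.1 = x := k.injective (congrArg Subtype.val hy)
              rw [← this]; exact y.2
            apply h2
            by_cases hu : f u = 0
            · rw [hc u hu, hc v (h1 ▸ hu)]
            · rw [h01 _ fun h => hu (hc' u h), h01 _ fun h => hu (h1 ▸ hc' v h)]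
          obtain ⟨x, hx1, hx2⟩ := hex
          have hxa : x ≠ a := fun h => by rw [h, hka, hfa] at hx2; exact absurd hx2 (by decide)
          by_cases hy : ∃ y, y ≠ a ∧ f y = 0 ∧ f (k y) = 0
          · obtain ⟨y, hy1, hy2, hy3⟩ := hy
            exact main y x hy1 hxa (by rw [hy2, hx1]) hy3 hx2
          push Not at hy
          have hz : f (k⁻¹ a') = 1 := by
            refine h01 _ fun h => hy (k⁻¹ a') (fun h3 => haa' ?_) h (by simpa using hfa')
            rw [Perm.inv_eq_iff_eq, hka] at h3; exact h3.symm
          have hw : ∃ w, f w = 1 ∧ f (k w) = 1 := by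
            by_contra hcon
            push Not at hcon
            have hc : ∀ x, f x = 1 → f (k x) = 0 := fun x hx => by
              by_contra h; exact hcon x hx (h01 _ h)
            have hinj : Function.Injective (fun x : {x // f x = 1} => (⟨k x, hc x x.2⟩ : {x // f x = 0})) :=
              fun x y h => Subtype.ext (k.injective (congrArg Subtype.val h))
            have hbij := (Nat.bijective_iff_injective_and_card _).2 ⟨hinj, by rw [hf, hf]⟩
            obtain ⟨y, hy⟩ := hbij.2 ⟨a, hfa⟩
            have h3 : y.1 = a := k.injective ((congrArg Subtype.val hy).trans hka.symm)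
            have := y.2
            rw [h3, hfa] at this
            exact absurd this (by decide)
          obtain ⟨w, hw1, hw2⟩ := hw
          refine main (k⁻¹ a') w (fun h => ?_) (fun h => ?_) (by rw [hz, hw1]) (by simpa using hfa') hw2
          · rw [h, hfa] at hz; exact absurd hz (by decide)
          · rw [h, hfa] at hw1; exact absurd hw1 (by decide)
        rw [H99.mem_partStab] at hg'
        push Not at hg'
        obtain ⟨u, v, h | h⟩ := hg'
        · exact key g hg u v h.1 h.2
        · exact key g⁻¹ (inv_mem hg) (g u) (g v) h.2 (by simpa using h.1)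
      obtain ⟨u, v, hu, hu0, hv1, huv⟩ := hcross
      have hva : v ≠ a := fun h => by rw [h, hfa] at hv1; exact absurd hv1 (by decide)
      have hall0 : ∀ x, x ≠ a → swap x u ∈ L := by
        intro x hx
        by_cases h : f x = 0
        · exact hsw x u hx hu (by rw [h, hu0])
        · exact SubmonoidClass.swap_mem_trans L (hsw x v hx hva (by rw [h01 _ h, hv1]))
            (by rwa [swap_comm])
      have hall : ∀ x y, x ≠ a → y ≠ a → swap x y ∈ L := fun x y hx hy =>
        SubmonoidClass.swap_mem_trans L (hall0 x hx) (by rw [swap_comm]; exact hall0 y hy)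
      intro k hk
      have hka : k a = a := hk
      let S : Set (Perm (Fin (2 * m))) := {s | s.IsSwap ∧ s ∈ L}
      have hS : Subgroup.closure S ≤ L := (Subgroup.closure_le _).2 fun s hs => hs.2
      refine hS ((mem_closure_isSwap (fun s hs => hs.1)).2 ⟨Set.toFinite _, fun x => ?_⟩)
      by_cases hx : k x = x
      · rw [hx]; exact MulAction.mem_orbit_self _
      · have hxa : x ≠ a := fun h => hx (by rw [h, hka])
        have hkx : k x ≠ a := fun h => hxa (k.injective (h.trans hka.symm))
        exact ⟨⟨swap x (k x), Subgroup.subset_closure ⟨⟨_, _, Ne.symm hx, rfl⟩, hall _ _ hxa hkx⟩⟩,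
          swap_apply_left _ _⟩
  · let L : Subgroup (Perm (Fin (2 * m))) :=
      { carrier := {g | ∀ x, f (g x) = f x}
        mul_mem' := fun {g h} hg hh x => by rw [Perm.mul_apply, hg, hh]
        one_mem' := fun _ => rfl
        inv_mem' := fun {g} hg x => by rw [← hg]; simp }
    refine H99.not_isCoatom_subgroupOf_of L (fun g hg => hH g hg.1) ⟨swap a a', ?_,
      H99.swap_mem_partStab (by rw [hfa, hfa']), fun h => ?_⟩ fun h => ?_
    · intro x
      rw [swap_apply_def]
      split_ifs with h1 h2
      · rw [h1, hfa, hfa']
      · rw [h2, hfa, hfa']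
      · rfl
    · have : swap a a' a = a := h.2
      rw [swap_apply_left] at this
      exact haa' this.symm
    · have hab : a ≠ b := fun h => by simp [h, hfb] at hfa
      obtain ⟨g, hg, h1, -⟩ := H99.exists_partStab_pair e he hab hab.symm eq_comm
      have := h hg a
      rw [h1, hfa, hfb] at this
      exact absurd this (by decide)

end Cfsg.Agent.S5894
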