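import Cfsg.Statements.S5939
import Cfsg.Agent.H93.L2Max

set_option autoImplicit false
open Cfsg

namespace Cfsg.Agent.S5939

open Cfsg.Agent.H28 Cfsg.Agent.H93.L2

/-- Let p be a prime and F a finite field of characteristic p such that either F has p elements and p ≡ ±1 (mod 10), or F has p² elements and p ≡ ±3 (mod 10). Then PSL_2(F) has a maximal subgroup isomorphic to the alternating group A_5. -/
theorem result {F : Type*} [Field F] [Fintype F] (p : ℕ) [Fact p.Prime] [CharP F p] (h : (Fintype.card F = p ∧ (p % 10 = 1 ∨ p % 10 = 9)) ∨ (Fintype.card F = p ^ 2 ∧ (p % 10 = 3 ∨ p % 10 = 7))) : ∃ H : Subgroup (Matrix.ProjectiveSpecialLinearGroup (Fin 2) F), IsCoatom H ∧ Nonempty (H ≃* alternatingGroup (Fin 5)) := by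
  classical
  rw [← Nat.card_eq_fintype_card] at h
  have hp : p.Prime := Fact.out
  have h5 : Nat.card F % 5 = 1 ∨ Nat.card F % 5 = 4 := by
    rcases h with ⟨e, h⟩ | ⟨e, h⟩
    · omega
    · rw [e, Nat.pow_mod]
      rcases (by omega : p % 5 = 3 ∨ p % 5 = 2) with h | h <;> simp [h]
  obtain ⟨φ, hφ⟩ := exists_alt5 (five_dvd h5)
  obtain ⟨e'⟩ := equiv_comap_range pslInc_injective hφ ((alt_le_pslIn φ).trans range_pslInc.ge)
  refine ⟨_, coatom_a5 pslInc_injective range_pslInc ?_ (fun K hK => ?_) e', ⟨e'⟩⟩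
  · have := hp.two_le
    rcases h with ⟨e, h⟩ | ⟨e, h⟩
    · omega
    · have : 3 ≤ p := by omega
      nlinarith
  · rcases h with ⟨e, h⟩ | ⟨e, h⟩
    · exact absurd (eq_top_of_prime (e ▸ hp) K) hK
    · obtain ⟨m, hm, em⟩ := exists_pow_of_ne_top hK
      rw [eq_of_pow_eq hp Nat.prime_two hm (e.symm.trans em)]
      exact not_five_dvd (by omega)

end Cfsg.Agent.S5939
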